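import Mathlib
import Cfsg.Statements.S0941
import Cfsg.Agent.Lib.Helper6.Regular
import Cfsg.Agent.Lib.Helper24.CharQuot

set_option autoImplicit false
open Cfsg

namespace Cfsg.Agent.S0941

/-- Let P be a normal p-subgroup of the finite group G such that the index of C_G(P) is a power of p, and fix a maximal ideal M of the algebraic integers containing p. Then (i) two irreducible characters of G ⧸ P lie in the same block if and only if their inflations to G do, and (ii) every block of G contains the inflation of some irreducible character of G ⧸ P; so inflation induces a bijection between the blocks of G ⧸ P and the blocks of G. -/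
theorem result {G : Type*} [Group G] [Finite G] (p : ℕ) [Fact p.Prime] (M : Ideal Cfsg.AlgInt) (hM : Cfsg.IsPModular p M) (P : Subgroup G) [P.Normal] (hP : IsPGroup p P) (hC : ∃ k : ℕ, (Subgroup.centralizer (P : Set G)).index = p ^ k) : (∀ χ ψ : Cfsg.IrrCharacter (G ⧸ P), Cfsg.SameBlock M (χ : G ⧸ P → ℂ) (ψ : G ⧸ P → ℂ) ↔ Cfsg.SameBlock M ((χ : G ⧸ P → ℂ) ∘ QuotientGroup.mk) ((ψ : G ⧸ P → ℂ) ∘ QuotientGroup.mk)) ∧ ∀ B : Set (Cfsg.IrrCharacter G), Cfsg.IsPBlock M B → ∃ χ : Cfsg.IrrCharacter (G ⧸ P), ∃ θ ∈ B, (θ : G → ℂ) = (χ : G ⧸ P → ℂ) ∘ QuotientGroup.mk := by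
  classical
  haveI : Fintype G := Fintype.ofFinite G
  haveI : Fintype (G ⧸ P) := Fintype.ofFinite _
  have hmax := hM.2.1
  constructor
  · intro χ ψ
    constructor
    · intro h g
      obtain ⟨m, hm⟩ := Cfsg.Agent.Lib.Helper6.index_centralizer_dvd P g
      rw [Cfsg.Agent.Lib.Helper6.centralChar_comp_mk P (χ : G ⧸ P → ℂ) g m hm,
        Cfsg.Agent.Lib.Helper6.centralChar_comp_mk P (ψ : G ⧸ P → ℂ) g m hm, ← mul_sub]
      exact Cfsg.Agent.Lib.Helper6.MemLocalIdeal.mul_left hmax
        (Cfsg.Agent.Lib.Helper6.memLocalRing_natCast hmax m) (h _)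
    · intro h
      apply Cfsg.Agent.Lib.Helper6.sameBlock_of_regular hM χ ψ
      intro x hx
      obtain ⟨g, rfl, hg⟩ := Cfsg.Agent.Lib.Helper6.exists_regular_lift P x hx
      have hgc := Cfsg.Agent.Lib.Helper6.mem_centralizer_of_regular P hC g hg
      have hidx := Cfsg.Agent.Lib.Helper6.index_centralizer_eq_of_regular P hP g hg hgc
      have h1 := h g
      rw [Cfsg.Agent.Lib.Helper6.centralChar_comp_mk P (χ : G ⧸ P → ℂ) g 1
          (by rw [mul_one]; exact hidx),
        Cfsg.Agent.Lib.Helper6.centralChar_comp_mk P (ψ : G ⧸ P → ℂ) g 1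
          (by rw [mul_one]; exact hidx), Nat.cast_one, one_mul, one_mul] at h1
      exact h1
  · intro B hB
    obtain ⟨θ, hθB, hθ⟩ := Cfsg.Agent.Lib.Helper6.exists_ker_in_block hM P hP B hB
    obtain ⟨ψ, hψ, hψθ⟩ := Cfsg.Agent.Lib.Helper24.CharQuot.irr_quotient P θ.2 hθ
    refine ⟨⟨ψ, hψ⟩, θ, hθB, ?_⟩
    funext g
    exact (hψθ g).symm

end Cfsg.Agent.S0941
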