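import Cfsg.Statements.S0029
import Cfsg.Agent.Lib.Helper10.Coprime

set_option autoImplicit false
open Pointwise
open Cfsg

namespace Cfsg.Agent.S0029

open Cfsg.Agent.Lib.Helper10.Coprime
open Cfsg.Agent.Lib.Helper10.SZ

/-- An action that is trivial on the Frattini quotient and coprime on the Frattini subgroup is trivial: if A normalises K, the orders of A and of the Frattini subgroup of K are coprime, and every commutator of an element of A with an element of K lies in the Frattini subgroup of K, then A centralises K. -/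
theorem result {G : Type*} [Group G] [Finite G] (A K : Subgroup G)
    (hAK : A ≤ Subgroup.normalizer (K : Set G))
    (hcop : (Nat.card A).Coprime (Nat.card (frattini K)))
    (htriv : ∀ a ∈ A, ∀ k ∈ K, a * k * a⁻¹ * k⁻¹ ∈ (frattini K).map K.subtype) :
    A ≤ Subgroup.centralizer (K : Set G) := by
  obtain ⟨Φ, hΦ⟩ : ∃ Φ : Subgroup G, Φ = (frattini K).map K.subtype := ⟨_, rfl⟩
  rw [← hΦ] at htriv
  have hΦK : Φ ≤ K := hΦ ▸ Subgroup.map_subtype_le _
  have hcardΦ : Nat.card Φ = Nat.card (frattini K) := by rw [hΦ, Subgroup.card_subtype]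
  have hcopΦ : (Nat.card Φ).Coprime (Nat.card A) := by
    rw [hcardΦ]
    exact hcop.symm
  have hAΦ : A ≤ Subgroup.normalizer (Φ : Set G) := by
    intro a ha
    apply mem_normalizer_of_conj_mem
    intro f hf
    have h1 := htriv a ha f (hΦK hf)
    have h2 := Φ.mul_mem h1 hf
    simpa using h2
  have hsolvΦ : Group.IsSolvable Φ := by
    have h1 : Group.IsNilpotent (frattini K) := frattini_nilpotent
    have h2 : Group.IsSolvable (frattini K) := inferInstance
    rw [hΦ]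
    exact Group.isSolvable_of_surjective (K.subtype.subgroupMap_surjective (frattini K))
  have hdisj : A ⊓ Φ = ⊥ := (Subgroup.disjoint_of_coprime_natCard hcopΦ.symm).eq_bot
  have hfix : ∀ k ∈ K, ∃ c ∈ K ⊓ Subgroup.centralizer (A : Set G), k⁻¹ * c ∈ Φ := by
    intro k hk
    have hx : ∀ a ∈ A, k⁻¹ * a * k * a⁻¹ ∈ Φ := by
      intro a ha
      have h1 := Φ.inv_mem (htriv a ha k⁻¹ (K.inv_mem hk))
      have h2 : (a * k⁻¹ * a⁻¹ * k⁻¹⁻¹)⁻¹ = k⁻¹ * a * k * a⁻¹ := by group
      rwa [h2] at h1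
    obtain ⟨d, hd, hconj⟩ := key_lemma Φ A hAΦ hcopΦ (Or.inl hsolvΦ) k hx
    have hcK : k * d ∈ K := K.mul_mem hk (hΦK hd)
    refine ⟨k * d, Subgroup.mem_inf.mpr ⟨hcK, ?_⟩, by rw [inv_mul_cancel_left]; exact hd⟩
    rw [Subgroup.mem_centralizer_iff]
    intro a ha
    have h1 : (k * d) * a * (k * d)⁻¹ * a⁻¹ ∈ A :=
      A.mul_mem (conj_mem_of_smul_eq hconj ha) (A.inv_mem ha)
    have h2 : (k * d) * a * (k * d)⁻¹ * a⁻¹ ∈ Φ := by
      have h3 := Φ.inv_mem (htriv a ha (k * d) hcK)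
      have h4 : (a * (k * d) * a⁻¹ * (k * d)⁻¹)⁻¹ = (k * d) * a * (k * d)⁻¹ * a⁻¹ := by group
      rwa [h4] at h3
    have h5 : (k * d) * a * (k * d)⁻¹ * a⁻¹ ∈ A ⊓ Φ := ⟨h1, h2⟩
    rw [hdisj, Subgroup.mem_bot] at h5
    have h6 : (k * d) * a * (k * d)⁻¹ * a⁻¹ * a * (k * d) = a * (k * d) := by rw [h5, one_mul]
    rw [← h6]
    group
  have hC : (Subgroup.centralizer (A : Set G)).subgroupOf K ⊔ frattini K = ⊤ := by
    rw [eq_top_iff]
    intro k _
    obtain ⟨c, hc, hkc⟩ := hfix k k.2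
    have hcK : c ∈ K := hc.1
    have h1 : (⟨c, hcK⟩ : K) ∈ (Subgroup.centralizer (A : Set G)).subgroupOf K :=
      Subgroup.mem_subgroupOf.mpr hc.2
    have h2 : ((⟨c, hcK⟩ : K)⁻¹ * k) ∈ frattini K := by
      have h3 : c⁻¹ * (k : G) ∈ Φ := by
        have := Φ.inv_mem hkc
        simpa using this
      rw [hΦ] at h3
      obtain ⟨y, hy, hy'⟩ := Subgroup.mem_map.mp h3
      have h4 : y = (⟨c, hcK⟩ : K)⁻¹ * k := Subtype.ext (by simpa using hy')
      rwa [h4] at hy
    have h4 := Subgroup.mul_mem_sup h1 h2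
    rwa [mul_inv_cancel_left] at h4
  have hCtop := frattini_nongenerating hC
  rw [Subgroup.subgroupOf_eq_top] at hCtop
  exact Subgroup.le_centralizer_iff.mp hCtop

end Cfsg.Agent.S0029
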