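import Cfsg.Statements.S4964
import Mathlib
import Cfsg.Agent.S0029
import Cfsg.Agent.Lib.Helper24.Osima
import Cfsg.Agent.Lib.Helper24.Defect
import Cfsg.Agent.Lib.Helper24.NormalP
import Cfsg.Agent.Lib.Helper24.CharQuot
import Cfsg.Agent.Lib.Helper24.CharBasic
import Cfsg.Agent.Lib.Helper6.Central
import Cfsg.Agent.Lib.Helper6.LocalRing
import Cfsg.Agent.Lib.Helper25.Codegree

set_option autoImplicit false
open Cfsg

namespace Cfsg.Agent.S4964

open Cfsg.Agent.Lib.Helper1 Cfsg.Agent.Lib.Helper24 Cfsg.Agent.Lib.Helper6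
open scoped ComplexConjugate

/-- the commutator subgroup of a finite nilpotent group lies in every maximal subgroup -/
theorem commutator_le_coatom {Q : Type*} [Group Q] [Finite Q] [Group.IsNilpotent Q]
    (C : Subgroup Q) (hC : IsCoatom C) : commutator Q ≤ C := by
  have hCn : C.Normal :=
    Subgroup.NormalizerCondition.normal_of_coatom C Group.normalizerCondition_of_isNilpotent hC
  have hnt : Nontrivial (Q ⧸ C) := by
    rw [QuotientGroup.nontrivial_iff]
    exact hC.1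
  have hlt := Group.IsSolvable.commutator_lt_top_of_nontrivial (Q ⧸ C)
  have hD1 : C ≤ (commutator (Q ⧸ C)).comap (QuotientGroup.mk' C) := by
    intro x hx
    rw [Subgroup.mem_comap]
    have : (QuotientGroup.mk' C) x = 1 := (QuotientGroup.eq_one_iff x).2 hx
    rw [this]
    exact Subgroup.one_mem _
  have hD2 : (commutator (Q ⧸ C)).comap (QuotientGroup.mk' C) ≠ ⊤ := by
    intro h0
    apply hlt.ne
    apply Subgroup.comap_injective (QuotientGroup.mk'_surjective C)
    rw [h0, Subgroup.comap_top]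
  have hD3 : (commutator (Q ⧸ C)).comap (QuotientGroup.mk' C) = C := by
    by_contra h0
    exact hD2 (hC.2 _ (lt_of_le_of_ne hD1 (Ne.symm h0)))
  intro x hx
  rw [← hD3, Subgroup.mem_comap]
  have h1 : (QuotientGroup.mk' C) x ∈ (commutator Q).map (QuotientGroup.mk' C) :=
    Subgroup.mem_map_of_mem _ hx
  rw [commutator_def, Subgroup.map_commutator] at h1
  rw [commutator_def]
  exact Subgroup.commutator_mono le_top le_top h1

theorem comm_le_frattini {G : Type*} [Group G] [Finite G] {p : ℕ} [Fact p.Prime]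
    (D : Subgroup G) (hD : IsPGroup p D) : ⁅D, D⁆ ≤ (frattini D).map D.subtype := by
  have : Group.IsNilpotent D := hD.isNilpotent
  rw [← Subgroup.map_subtype_commutator D]
  apply Subgroup.map_mono
  unfold frattini Order.radical
  exact le_iInf₂ (fun C hC => commutator_le_coatom C hC)

/-- a `p`-regular element of a quotient has a `p`-regular lift -/
theorem exists_regular_lift {G : Type*} [Group G] [Finite G] (p : ℕ) [Fact p.Prime]
    (N : Subgroup G) [N.Normal] (xb : G ⧸ N) (hxb : ¬ p ∣ orderOf xb) :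
    ∃ x : G, (x : G ⧸ N) = xb ∧ ¬ p ∣ orderOf x := by
  have hp : p.Prime := Fact.out
  obtain ⟨y, rfl⟩ := QuotientGroup.mk_surjective xb
  have hn0 : orderOf y ≠ 0 := (orderOf_pos y).ne'
  obtain ⟨k, hk⟩ : ∃ k, k = (orderOf y).factorization p := ⟨_, rfl⟩
  have hcop : (p ^ k).Coprime (orderOf (y : G ⧸ N)) :=
    Nat.Coprime.pow_left k ((Nat.Prime.coprime_iff_not_dvd hp).mpr hxb)
  obtain ⟨m, hm⟩ := exists_pow_eq_self_of_coprime hcop
  refine ⟨(y ^ p ^ k) ^ m, ?_, ?_⟩
  · rw [QuotientGroup.mk_pow, QuotientGroup.mk_pow]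
    exact hm
  · intro hdvd
    have h1 : orderOf ((y ^ p ^ k) ^ m) ∣ orderOf (y ^ p ^ k) := orderOf_pow_dvd m
    have h2 : orderOf (y ^ p ^ k) ∣ orderOf y / p ^ k := by
      apply orderOf_dvd_of_pow_eq_one
      rw [← pow_mul, hk, Nat.ordProj_mul_ordCompl_eq_self, pow_orderOf_eq_one]
    have h3 : ¬ p ∣ orderOf y / p ^ k := by
      rw [hk]
      exact Nat.not_dvd_ordCompl hp hn0
    exact h3 (hdvd.trans (h1.trans h2))

/-- a `p`-regular element centralizing `D` modulo `D'` centralizes the normal `p`-subgroup `D` -/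
theorem mem_centralizer_of_quot {G : Type*} [Group G] [Finite G] (p : ℕ) [Fact p.Prime]
    (D : Subgroup G) [D.Normal] (hD : IsPGroup p D) (x : G) (hx : ¬ p ∣ orderOf x)
    (hc : (x : G ⧸ ⁅D, D⁆) ∈ Subgroup.centralizer
      ((D.map (QuotientGroup.mk' ⁅D, D⁆) : Subgroup (G ⧸ ⁅D, D⁆)) : Set (G ⧸ ⁅D, D⁆))) :
    x ∈ Subgroup.centralizer (D : Set G) := by
  have hp : p.Prime := Fact.out
  have hA : Subgroup.zpowers x ≤ Subgroup.centralizer (D : Set G) := by
    apply Cfsg.Agent.S0029.result (Subgroup.zpowers x) D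
    · rw [Subgroup.normalizer_eq_top]
      exact le_top
    · rw [Nat.card_zpowers]
      obtain ⟨k, hk⟩ := IsPGroup.iff_card.mp (hD.to_subgroup (frattini D))
      rw [hk]
      exact Nat.Coprime.pow_right k ((Nat.Prime.coprime_iff_not_dvd hp).mpr hx).symm
    · intro a ha k hk
      apply comm_le_frattini D hD
      have haT : a ∈ (Subgroup.centralizer
          ((D.map (QuotientGroup.mk' ⁅D, D⁆) : Subgroup (G ⧸ ⁅D, D⁆)) : Set (G ⧸ ⁅D, D⁆))).comap
          (QuotientGroup.mk' ⁅D, D⁆) := by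
        have hxT : x ∈ (Subgroup.centralizer
            ((D.map (QuotientGroup.mk' ⁅D, D⁆) : Subgroup (G ⧸ ⁅D, D⁆)) :
              Set (G ⧸ ⁅D, D⁆))).comap (QuotientGroup.mk' ⁅D, D⁆) := hc
        exact (Subgroup.zpowers_le.mpr hxT) ha
      rw [Subgroup.mem_comap, Subgroup.mem_centralizer_iff] at haT
      have h1 := haT ((QuotientGroup.mk' ⁅D, D⁆) k) (Subgroup.mem_map_of_mem _ hk)
      rw [← QuotientGroup.eq_one_iff]
      have h2 : ((a * k * a⁻¹ * k⁻¹ : G) : G ⧸ ⁅D, D⁆) =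
          (QuotientGroup.mk' ⁅D, D⁆) a * (QuotientGroup.mk' ⁅D, D⁆) k *
            ((QuotientGroup.mk' ⁅D, D⁆) a)⁻¹ * ((QuotientGroup.mk' ⁅D, D⁆) k)⁻¹ := rfl
      rw [h2, ← h1]
      group
  exact hA (Subgroup.mem_zpowers x)

/-- class sizes of `p`-regular elements centralizing a normal `p`-subgroup `N` are unchanged
modulo `N` -/
theorem index_centralizer_quot {G : Type*} [Group G] [Finite G] (p : ℕ) [Fact p.Prime]
    (N : Subgroup G) [N.Normal] (hN : IsPGroup p N) (x : G) (hx : ¬ p ∣ orderOf x)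
    (hxN : ∀ n ∈ N, n * x = x * n) :
    (Subgroup.centralizer ({(x : G ⧸ N)} : Set (G ⧸ N))).index =
      (Subgroup.centralizer ({x} : Set G)).index := by
  rw [← Subgroup.index_comap_of_surjective _ (QuotientGroup.mk'_surjective N)]
  congr 1
  ext g
  rw [Subgroup.mem_comap, Subgroup.mem_centralizer_iff, Subgroup.mem_centralizer_iff]
  constructor
  · intro h y hy
    rw [Set.mem_singleton_iff] at hy
    subst hy
    have h1 := h (y : G ⧸ N) rfl
    have hw : g * y * g⁻¹ * y⁻¹ ∈ N := by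
      rw [← QuotientGroup.eq_one_iff]
      have h2 : ((g * y * g⁻¹ * y⁻¹ : G) : G ⧸ N) =
          (QuotientGroup.mk' N) g * (y : G ⧸ N) * ((QuotientGroup.mk' N) g)⁻¹ * (y : G ⧸ N)⁻¹ :=
        rfl
      rw [h2, ← h1]
      group
    have hreg : ¬ p ∣ orderOf (g * y * g⁻¹ * y⁻¹ * y) := by
      have e : g * y * g⁻¹ * y⁻¹ * y = g * y * g⁻¹ := by group
      rw [e, ← SemiconjBy.orderOf_eq g (show SemiconjBy g y (g * y * g⁻¹) by
        unfold SemiconjBy; group)]
      exact hx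
    obtain ⟨v, hv, hv2⟩ := NormalP.conj_of_coset_regular N hN y (g * y * g⁻¹ * y⁻¹) hx hw hreg
    have e1 : v * y * v⁻¹ = y := by rw [hxN v hv]; group
    rw [e1] at hv2
    have e2 : g * y * g⁻¹ = y := by
      have e : g * y * g⁻¹ * y⁻¹ * y = g * y * g⁻¹ := by group
      rw [← e, hv2]
    calc y * g = (g * y * g⁻¹) * g := by rw [e2]
      _ = g * y := by group
  · intro h y hy
    rw [Set.mem_singleton_iff] at hy
    subst hy
    have h1 := h x rfl
    show (QuotientGroup.mk' N) x * (QuotientGroup.mk' N) g =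
      (QuotientGroup.mk' N) g * (QuotientGroup.mk' N) x
    rw [← map_mul, ← map_mul, h1]

/-- inflation preserves the block relation -/
theorem sameBlock_infl {G : Type*} [Group G] [Finite G] {M : Ideal Cfsg.AlgInt}
    (hmax : M.IsMaximal) (N : Subgroup G) [N.Normal] {χ ψ : G ⧸ N → ℂ}
    (h : Cfsg.SameBlock M χ ψ) :
    Cfsg.SameBlock M (χ ∘ (QuotientGroup.mk : G → G ⧸ N)) (ψ ∘ (QuotientGroup.mk : G → G ⧸ N)) := by
  intro g
  have hle : Subgroup.centralizer ({g} : Set G) ≤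
      (Subgroup.centralizer ({(g : G ⧸ N)} : Set (G ⧸ N))).comap (QuotientGroup.mk' N) := by
    intro z hz
    rw [Subgroup.mem_comap, Subgroup.mem_centralizer_iff]
    intro y hy
    rw [Set.mem_singleton_iff] at hy
    subst hy
    have h1 := Subgroup.mem_centralizer_iff.mp hz g rfl
    show (QuotientGroup.mk' N) g * (QuotientGroup.mk' N) z =
      (QuotientGroup.mk' N) z * (QuotientGroup.mk' N) g
    rw [← map_mul, ← map_mul, h1]
  have hidx := Subgroup.relIndex_mul_index hle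
  rw [Subgroup.index_comap_of_surjective _ (QuotientGroup.mk'_surjective N)] at hidx
  have e : ∀ φ : G ⧸ N → ℂ, Cfsg.centralChar (φ ∘ (QuotientGroup.mk : G → G ⧸ N)) g =
      (((Subgroup.centralizer ({g} : Set G)).relIndex
        ((Subgroup.centralizer ({(g : G ⧸ N)} : Set (G ⧸ N))).comap (QuotientGroup.mk' N)) : ℕ) : ℂ) *
        Cfsg.centralChar φ (g : G ⧸ N) := by
    intro φ
    unfold Cfsg.centralChar
    rw [← hidx]
    push_cast
    simp only [Function.comp]
    rw [QuotientGroup.mk_one]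
    ring
  rw [e χ, e ψ, ← mul_sub]
  exact MemLocalIdeal.mul_left hmax (memLocalRing_natCast hmax _) (h _)

/-- the block relation descends along inflation from `G ⧸ D'` -/
theorem sameBlock_of_infl {G : Type*} [Group G] [Finite G] (p : ℕ) [Fact p.Prime]
    {M : Ideal Cfsg.AlgInt} (hM : Cfsg.IsPModular p M) (D : Subgroup G) [D.Normal]
    (hD : IsPGroup p D) {χ ψ : G ⧸ ⁅D, D⁆ → ℂ} (hχ : Cfsg.IsIrrCharacter (G ⧸ ⁅D, D⁆) χ)
    (hψ : Cfsg.IsIrrCharacter (G ⧸ ⁅D, D⁆) ψ)
    (h : Cfsg.SameBlock M (χ ∘ (QuotientGroup.mk : G → G ⧸ ⁅D, D⁆))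
      (ψ ∘ (QuotientGroup.mk : G → G ⧸ ⁅D, D⁆))) : Cfsg.SameBlock M χ ψ := by
  classical
  have hmax : M.IsMaximal := hM.2.1
  have hND : ⁅D, D⁆ ≤ D := Subgroup.commutator_le_left D D
  have hNp : IsPGroup p (⁅D, D⁆ : Subgroup G) := hD.to_le hND
  let _ : Fintype (G ⧸ ⁅D, D⁆) := Fintype.ofFinite _
  have hfc : Fintype (ConjClasses (G ⧸ ⁅D, D⁆)) := Fintype.ofFinite _
  by_contra hnot
  have hB : Cfsg.IsPBlock M (Cfsg.blockOf M χ : Set (Cfsg.IrrCharacter (G ⧸ ⁅D, D⁆))) :=
    ⟨⟨χ, hχ⟩, rfl⟩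
  obtain ⟨a, ha1, ha2, hin, hout, ha5, -⟩ := Osima.exists_block_idem hmax _ hB
  have h1 : Osima.om a χ = 1 := hin ⟨χ, hχ⟩ (sameBlock_refl hmax χ)
  have h0 : Osima.om a ψ = 0 := hout ⟨ψ, hψ⟩ hnot
  have hDn : (D.map (QuotientGroup.mk' ⁅D, D⁆)).Normal :=
    Subgroup.Normal.map inferInstance _ (QuotientGroup.mk'_surjective _)
  have hDp : IsPGroup p (D.map (QuotientGroup.mk' ⁅D, D⁆)) := hD.map _
  have key : Cfsg.MemLocalIdeal M (Osima.om a χ - Osima.om a ψ) := by
    have e1 : Osima.om a χ = omega χ a := rfl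
    have e2 : Osima.om a ψ = omega ψ a := rfl
    rw [e1, e2, omega_eq_sum_classes (IsIrrCharacter.isClassFunction hχ) ha1,
      omega_eq_sum_classes (IsIrrCharacter.isClassFunction hψ) ha1, ← Finset.sum_sub_distrib]
    apply memLocalIdeal_sum hmax
    intro C _
    rw [← mul_sub]
    by_cases hz : a (crep C) = 0
    · rw [hz, zero_mul]
      exact memLocalIdeal_zero hmax
    · apply MemLocalIdeal.mul_left hmax (ha2 _)
      have hreg : ¬ p ∣ orderOf (crep C) := fun hdiv =>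
        hz (by rw [ha5]; exact Defect.blockCoeff_eq_zero_of_singular hM _ hB _ hdiv)
      have hcen : crep C ∈ Subgroup.centralizer
          ((D.map (QuotientGroup.mk' ⁅D, D⁆) : Subgroup (G ⧸ ⁅D, D⁆)) : Set (G ⧸ ⁅D, D⁆)) := by
        by_contra hc
        exact hz (by
          rw [ha5]
          exact NormalP.blockCoeff_eq_zero_of_not_centralizing hM _ hDp _ hB _ hc)
      obtain ⟨x, hx1, hx2⟩ := exists_regular_lift p ⁅D, D⁆ (crep C) hreg
      have hxc : x ∈ Subgroup.centralizer (D : Set G) :=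
        mem_centralizer_of_quot p D hD x hx2 (by rw [hx1]; exact hcen)
      have hidx := index_centralizer_quot p ⁅D, D⁆ hNp x hx2
        (fun n hn => Subgroup.mem_centralizer_iff.mp hxc n (hND hn))
      have e : ∀ φ : G ⧸ ⁅D, D⁆ → ℂ, Cfsg.centralChar φ (crep C) =
          Cfsg.centralChar (φ ∘ (QuotientGroup.mk : G → G ⧸ ⁅D, D⁆)) x := by
        intro φ
        unfold Cfsg.centralChar
        rw [← hx1, hidx]
        simp only [Function.comp]
        rw [QuotientGroup.mk_one]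
      rw [e χ, e ψ]
      exact h x
  rw [h1, h0, sub_zero] at key
  exact not_memLocalIdeal_one hmax key

/-- every block contains a character trivial on a given normal `p`-subgroup -/
theorem exists_trivial_in_block {G : Type*} [Group G] [Finite G] (p : ℕ) [Fact p.Prime]
    {M : Ideal Cfsg.AlgInt} (hM : Cfsg.IsPModular p M) (N : Subgroup G) [N.Normal]
    (hN : IsPGroup p N) (B : Set (Cfsg.IrrCharacter G)) (hB : Cfsg.IsPBlock M B) :
    ∃ θ ∈ B, ∀ x ∈ N, (θ : G → ℂ) x = (θ : G → ℂ) 1 := by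
  classical
  have hp : p.Prime := Fact.out
  have hmax : M.IsMaximal := hM.2.1
  let _ : Fintype G := Fintype.ofFinite G
  let _ : Fintype (Cfsg.IrrCharacter G) := irrFintype
  by_contra hcon
  push Not at hcon
  have e : ∀ g : G, Cfsg.blockCoeff B g = (Nat.card G : ℂ)⁻¹ *
      ∑ θ ∈ Finset.univ.filter (fun θ : Cfsg.IrrCharacter G => θ ∈ B),
        (θ : G → ℂ) 1 * conj ((θ : G → ℂ) g) := by
    intro g
    unfold Cfsg.blockCoeff
    rw [Defect.finsum_block_eq_sum]
  have hsumB : ∑ g : G, (if g ∈ N then Cfsg.blockCoeff B g else 0) = 0 := by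
    have e1 : ∀ g : G, (if g ∈ N then Cfsg.blockCoeff B g else 0) = (Nat.card G : ℂ)⁻¹ *
        ∑ θ ∈ Finset.univ.filter (fun θ : Cfsg.IrrCharacter G => θ ∈ B),
          (θ : G → ℂ) 1 * conj (if g ∈ N then (θ : G → ℂ) g else 0) := by
      intro g
      by_cases hg : g ∈ N
      · simp only [if_pos hg]
        exact e g
      · simp only [if_neg hg, map_zero, mul_zero, Finset.sum_const_zero]
    rw [Finset.sum_congr rfl (fun g _ => e1 g), ← Finset.mul_sum, Finset.sum_comm]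
    have e2 : ∀ θ ∈ Finset.univ.filter (fun θ : Cfsg.IrrCharacter G => θ ∈ B),
        ∑ g : G, (θ : G → ℂ) 1 * conj (if g ∈ N then (θ : G → ℂ) g else 0) = 0 := by
      intro θ hθ
      obtain ⟨x, hx, hne⟩ := hcon θ (Finset.mem_filter.mp hθ).2
      rw [← Finset.mul_sum, ← map_sum,
        Cfsg.Agent.Lib.Helper25.Codegree.sum_subgroup_eq_zero θ.2 N hx hne, map_zero, mul_zero]
    rw [Finset.sum_eq_zero e2, mul_zero]
  have hsum1 : ∑ g : G, (if g ∈ N then Cfsg.blockCoeff B g else 0) = Cfsg.blockCoeff B 1 := by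
    rw [Finset.sum_eq_single (1 : G)]
    · rw [if_pos (one_mem N)]
    · intro g _ hg
      by_cases hgN : g ∈ N
      · rw [if_pos hgN]
        apply Defect.blockCoeff_eq_zero_of_singular hM B hB g
        obtain ⟨k, hk⟩ := hN ⟨g, hgN⟩
        have h1 : g ^ (p ^ k) = 1 := congrArg Subtype.val hk
        obtain ⟨j, -, hj⟩ := (Nat.dvd_prime_pow hp).mp (orderOf_dvd_of_pow_eq_one h1)
        rw [hj]
        apply dvd_pow_self
        rintro rfl
        rw [pow_zero, orderOf_eq_one_iff] at hj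
        exact hg hj
      · rw [if_neg hgN]
    · intro h
      exact absurd (Finset.mem_univ _) h
  have hpos : Cfsg.blockCoeff B 1 ≠ 0 := by
    rw [e 1]
    have hcard : (Nat.card G : ℂ) ≠ 0 := by
      exact_mod_cast (Nat.card_pos (α := G)).ne'
    apply mul_ne_zero (inv_ne_zero hcard)
    have e3 : ∑ θ ∈ Finset.univ.filter (fun θ : Cfsg.IrrCharacter G => θ ∈ B),
        (θ : G → ℂ) 1 * conj ((θ : G → ℂ) 1) =
        ((∑ θ ∈ Finset.univ.filter (fun θ : Cfsg.IrrCharacter G => θ ∈ B),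
          (Cfsg.charDegree (θ : G → ℂ)) ^ 2 : ℕ) : ℂ) := by
      push_cast
      refine Finset.sum_congr rfl (fun θ _ => ?_)
      rw [CharBasic.char_one_nat (CharBasic.isCharacter_of_irr θ.2)]
      simp [sq]
    rw [e3]
    obtain ⟨θ₀, hθ₀⟩ := Defect.block_nonempty hmax B hB
    have hpos' : 0 < ∑ θ ∈ Finset.univ.filter (fun θ : Cfsg.IrrCharacter G => θ ∈ B),
        (Cfsg.charDegree (θ : G → ℂ)) ^ 2 := by
      apply Finset.sum_pos'
      · intro θ _
        exact Nat.zero_le _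
      · exact ⟨θ₀, Finset.mem_filter.mpr ⟨Finset.mem_univ _, hθ₀⟩,
          pow_pos (CharBasic.irr_degree_pos θ₀.2) 2⟩
    exact_mod_cast hpos'.ne'
  exact hpos (hsum1 ▸ hsumB)

/-- Let D be a normal p-subgroup of the finite group G, let D′ be its commutator subgroup (normal in G), and fix a maximal ideal M of the algebraic integers containing p. Then (i) two irreducible characters of G ⧸ D′ lie in the same p-block if and only if their inflations to G do, and (ii) every p-block of G contains the inflation of some irreducible character of G ⧸ D′; so inflation induces a bijection between the p-blocks of G ⧸ D′ and the p-blocks of G. -/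
theorem result {G : Type*} [Group G] [Finite G] (p : ℕ) [Fact p.Prime] (M : Ideal Cfsg.AlgInt) (hM : Cfsg.IsPModular p M) (D : Subgroup G) [D.Normal] (hD : IsPGroup p D) : (∀ χ ψ : Cfsg.IrrCharacter (G ⧸ ⁅D, D⁆), Cfsg.SameBlock M (χ : G ⧸ ⁅D, D⁆ → ℂ) (ψ : G ⧸ ⁅D, D⁆ → ℂ) ↔ Cfsg.SameBlock M ((χ : G ⧸ ⁅D, D⁆ → ℂ) ∘ QuotientGroup.mk) ((ψ : G ⧸ ⁅D, D⁆ → ℂ) ∘ QuotientGroup.mk)) ∧ ∀ B : Set (Cfsg.IrrCharacter G), Cfsg.IsPBlock M B → ∃ χ : Cfsg.IrrCharacter (G ⧸ ⁅D, D⁆), ∃ θ ∈ B, (θ : G → ℂ) = (χ : G ⧸ ⁅D, D⁆ → ℂ) ∘ QuotientGroup.mk := by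
  have hmax : M.IsMaximal := hM.2.1
  have hND : ⁅D, D⁆ ≤ D := Subgroup.commutator_le_left D D
  have hNp : IsPGroup p (⁅D, D⁆ : Subgroup G) := hD.to_le hND
  refine ⟨fun χ ψ => ⟨fun h => sameBlock_infl hmax _ h,
    fun h => sameBlock_of_infl p hM D hD χ.2 ψ.2 h⟩, ?_⟩
  intro B hB
  obtain ⟨θ, hθB, hθ⟩ := exists_trivial_in_block p hM ⁅D, D⁆ hNp B hB
  obtain ⟨φ, hφ, hφθ⟩ := CharQuot.irr_quotient ⁅D, D⁆ θ.2 hθ
  refine ⟨⟨φ, hφ⟩, θ, hθB, ?_⟩
  funext g
  exact (hφθ g).symm

end Cfsg.Agent.S4964
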