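import Cfsg.Statements.S0927
import Cfsg.Agent.Lib.Helper24.PSection

set_option autoImplicit false
open Cfsg

namespace Cfsg.Agent.S0927

theorem result {G : Type*} [Group G] [Finite G] (p : ℕ) [Fact p.Prime] (M : Ideal Cfsg.AlgInt) (hM : Cfsg.IsPModular p M) (B : Set (Cfsg.IrrCharacter G)) (hB : Cfsg.IsPBlock M B) (y : G) (hy : Cfsg.IsDefectClass M B y) (P : Sylow p (Subgroup.centralizer ({y} : Set G))) (x : Subgroup.centralizer ({y} : Set G)) (hx : x ∈ (P : Subgroup (Subgroup.centralizer ({y} : Set G)))) : (∀ χ ∈ B, Cfsg.blockHeight p B (χ : G → ℂ) = 0 → ¬ Cfsg.MemLocalIdeal M ((χ : G → ℂ) ((x : G) * y))) ∧ ((∀ w ∈ (P : Subgroup (Subgroup.centralizer ({y} : Set G))), x * w = w * x) → ∀ χ ∈ B, ¬ Cfsg.MemLocalIdeal M (Cfsg.centralChar (χ : G → ℂ) ((x : G) * y))) := by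
  have hp : p.Prime := Fact.out
  obtain ⟨k, hk⟩ := P.isPGroup' ⟨x, hx⟩
  have hxk : (x : G) ^ (p ^ k) = 1 := by
    have h1 := congrArg (fun z : (P : Subgroup (Subgroup.centralizer ({y} : Set G))) =>
      ((z : Subgroup.centralizer ({y} : Set G)) : G)) hk
    exact h1
  have hxy : Commute (x : G) y := (Subgroup.mem_centralizer_iff.mp x.2 y rfl).symm
  refine ⟨?_, ?_⟩
  · intro χ hχ hh
    exact Cfsg.Agent.Lib.Helper24.PSection.char_not_mem_of_defectClass hM B hB y hy χ hχ
      (Cfsg.Agent.Lib.Helper24.PSection.height_zero_eq p B χ hχ hh) (x : G) hxy hxk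
  · intro hc χ hχ
    have hd := (Cfsg.Agent.Lib.Helper24.PSection.defectClass_facts hM B hB y hy).2
    have hQ : Nat.card ((P : Subgroup (Subgroup.centralizer ({y} : Set G))).map
        (Subgroup.centralizer ({y} : Set G)).subtype) = p ^ blockDefect p B := by
      rw [Subgroup.card_map_of_injective (Subgroup.subtype_injective _),
        Sylow.card_eq_multiplicity P, hd]
    apply Cfsg.Agent.Lib.Helper24.PSection.centralChar_not_mem_of_defectClass hM B hB y hy
      (x : G) hxy hxk _ hQ _ χ hχ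
    rintro w ⟨v, hv, rfl⟩
    have h1 : (v : G) * (x : G) = (x : G) * (v : G) := by
      have h2 := congrArg (fun z : Subgroup.centralizer ({y} : Set G) => (z : G)) (hc v hv)
      exact h2.symm
    have h2 : y * (v : G) = (v : G) * y := Subgroup.mem_centralizer_iff.mp v.2 y rfl
    show (v : G) * ((x : G) * y) = (x : G) * y * (v : G)
    rw [← mul_assoc, h1, mul_assoc, mul_assoc, h2]

end Cfsg.Agent.S0927
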