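import Cfsg.Statements.S0958
import Cfsg.Agent.Lib.Helper24.Brauer22

set_option autoImplicit false
open Cfsg

namespace Cfsg.Agent.S0958

open Cfsg.Agent.Lib.Helper1 Cfsg.Agent.Lib.Helper6 Cfsg.Agent.Lib.Helper24

theorem result {G : Type*} [Group G] [Finite G] (p : ℕ) [Fact p.Prime] (M : Ideal Cfsg.AlgInt) (hM : Cfsg.IsPModular p M) (P H : Subgroup G) (hP : IsPGroup p P) (hPH : P ⊔ Subgroup.centralizer (P : Set G) ≤ H) (hHN : H ≤ Subgroup.normalizer (P : Set G)) (B : Set (Cfsg.IrrCharacter G)) (hB : Cfsg.IsPBlock M B) : (∃ b : Set (Cfsg.IrrCharacter H), Cfsg.IsInducedBlock M H b B) ↔ ∃ D : Subgroup G, Cfsg.IsDefectGroup p M B D ∧ ∃ x : G, P.map (MulAut.conj x).toMonoidHom ≤ D := by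
  haveI : Fintype G := Fintype.ofFinite G
  have hmax := hM.2.1
  obtain ⟨P', hP'⟩ : ∃ P' : Subgroup H, P = P'.map H.subtype :=
    ⟨P.subgroupOf H, (Subgroup.map_subgroupOf_eq_of_le (le_sup_left.trans hPH)).symm⟩
  subst hP'
  have hfinH : Fintype H := Fintype.ofFinite _
  have hCX : Subgroup.centralizer ((P'.map H.subtype : Subgroup G) : Set G) ≤ H :=
    le_sup_right.trans hPH
  have hP'p : IsPGroup p P' := by
    have h1 := hP.comap_of_injective H.subtype H.subtype_injective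
    rwa [Subgroup.comap_map_eq_self_of_injective H.subtype_injective] at h1
  haveI hn : P'.Normal := by
    refine ⟨fun n hn g => ?_⟩
    have h1 := (Subgroup.mem_normalizer_iff.mp (hHN g.2) (n : G)).mp ⟨n, hn, rfl⟩
    obtain ⟨m, hm, hme⟩ := h1
    have h2 : m = g * n * g⁻¹ := Subtype.ext hme
    rw [← h2]
    exact hm
  constructor
  · rintro ⟨b, hind⟩
    have hb := hind.1
    obtain ⟨y, hy⟩ := exists_defectClass hmax b hb
    obtain ⟨S⟩ : Nonempty (Sylow p (Subgroup.centralizer ({y} : Set H))) := inferInstance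
    have hDb : Cfsg.IsDefectGroup p M b ((S : Subgroup (Subgroup.centralizer ({y} : Set H))).map
        (Subgroup.centralizer ({y} : Set H)).subtype) := ⟨y, hy, S, rfl⟩
    have hle := Brauer.normal_le_defect hM P' hP'p b hb _ hDb
    obtain ⟨eb, hmaxb⟩ := Brauer.exists_maximal_of_defect hM b hb _ hDb
    obtain ⟨e', he', hle'⟩ := Brauer.exists_subpair hM _ eb hmaxb.1.1 P' hle
    have hpair := Brauer.pairOf_of_le hM b _ P' eb e' hmaxb.1 hle'
    have hG := (Brauer.induced_iff_pair hM H P' hCX b e' hpair B hB).mp hind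
    obtain ⟨S₁, g₁, hmax₁, hle₁⟩ := Brauer.exists_maximal_above hM B _ _ hG
    have hPS := (Brauer.chain hM S₁ g₁ hmax₁.1.1.2 _ _ hle₁).1
    refine ⟨S₁, Brauer.isDefectGroup_of_maximal hM B S₁ g₁ hmax₁, 1, ?_⟩
    rintro _ ⟨q, hq, rfl⟩
    show 1 * q * (1 : G)⁻¹ ∈ S₁
    rw [one_mul, inv_one, mul_one]
    exact hPS hq
  · rintro ⟨D, hD, x, hx⟩
    obtain ⟨e, hmaxD⟩ := Brauer.exists_maximal_of_defect hM B hB D hD
    obtain ⟨f₁, hf₁, hle₁⟩ := Brauer.exists_subpair hM D e hmaxD.1.1 _ hx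
    have hp₁ := Brauer.pairOf_of_le hM B D _ e f₁ hmaxD.1 hle₁
    have hp₂ := Brauer.isBrauerPairOf_conj B _ x⁻¹ f₁ hp₁
    have hQeq : (((P'.map H.subtype).map (MulAut.conj x).toMonoidHom).map
        (MulAut.conj x⁻¹).toMonoidHom : Subgroup G) = P'.map H.subtype := by
      ext y
      rw [Brauer.mem_map_conj, Brauer.mem_map_conj]
      have e1 : x⁻¹ * (x⁻¹⁻¹ * y * x⁻¹) * x = y := by group
      rw [e1]
    have key : ∀ (Q : Subgroup G)
        (f : Set (Cfsg.IrrCharacter (Subgroup.centralizer (Q : Set G)))),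
        Q = P'.map H.subtype → Cfsg.IsBrauerPairOf p M B Q f →
        ∃ f' : Set (Cfsg.IrrCharacter (Subgroup.centralizer
          ((P'.map H.subtype : Subgroup G) : Set G))),
          Cfsg.IsBrauerPairOf p M B (P'.map H.subtype) f' := by
      intro Q f hQ hf
      subst hQ
      exact ⟨f, hf⟩
    obtain ⟨f, hf⟩ := key _ _ hQeq hp₂
    obtain ⟨e', he'⟩ : ∃ e' : Set (Cfsg.IrrCharacter (Subgroup.centralizer (P' : Set H))),
        f = Brauer.upBlock (P'.map H.subtype) H hCX P' le_rfl e' :=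
      ⟨Brauer.downBlock (P'.map H.subtype) H hCX P' le_rfl f,
        (Brauer.up_down _ H hCX P' le_rfl f).symm⟩
    subst he'
    have hbe' : Cfsg.IsPBlock M e' := by
      have h7 := Brauer.isPBlock_trIrr
        (Brauer.subIso H _ _ (Brauer.up_mem (P'.map H.subtype) H hCX P' le_rfl)).symm _ hf.1.2
      have h8 : Cfsg.IsPBlock M (Brauer.downBlock (P'.map H.subtype) H hCX P' le_rfl
          (Brauer.upBlock (P'.map H.subtype) H hCX P' le_rfl e')) := h7
      rw [Brauer.down_up] at h8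
      exact h8
    obtain ⟨b, hb, -⟩ := Brauer.pair_block_existsUnique hM P' e' ⟨hP'p, hbe'⟩
    exact ⟨b, (Brauer.induced_iff_pair hM H P' hCX b e' hb B hB).mpr hf⟩

end Cfsg.Agent.S0958
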