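import Mathlib
import Cfsg.Statements.S0242

set_option autoImplicit false
open Cfsg

namespace Cfsg.Agent.S0242

theorem card_SL_mul {F : Type*} [Field F] [Fintype F] (n : ℕ) (hn : 1 ≤ n) :
    (Fintype.card F - 1) * Nat.card (Matrix.SpecialLinearGroup (Fin n) F)
      = Nat.card (Matrix.GeneralLinearGroup (Fin n) F) := by
  have : Nonempty (Fin n) := ⟨⟨0, hn⟩⟩
  let d : Matrix.GeneralLinearGroup (Fin n) F →* Fˣ := Matrix.GeneralLinearGroup.det
  have hsurj : Function.Surjective d := Matrix.GeneralLinearGroup.det_surjective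
  have h1 : Nat.card d.ker * d.ker.index = Nat.card (Matrix.GeneralLinearGroup (Fin n) F) :=
    Subgroup.card_mul_index _
  have h2 : d.ker.index = Fintype.card F - 1 := by
    rw [Subgroup.index_ker, MonoidHom.range_eq_top.mpr hsurj, Subgroup.card_top, Nat.card_units,
      Nat.card_eq_fintype_card]
  have h3 : Nat.card (Matrix.SpecialLinearGroup (Fin n) F) = Nat.card d.ker := by
    apply Nat.card_congr
    refine
      { toFun := fun A => ⟨Matrix.SpecialLinearGroup.toGL A, ?_⟩
        invFun := fun g => ⟨g.1.1, ?_⟩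
        left_inv := fun A => rfl
        right_inv := fun g => by apply Subtype.ext; apply Units.ext; rfl }
    · rw [MonoidHom.mem_ker]
      apply Units.ext
      show (Matrix.SpecialLinearGroup.toGL A).1.det = 1
      exact A.2
    · have h := g.2
      rw [MonoidHom.mem_ker] at h
      have h' := congrArg Units.val h
      exact h'
  rw [h3, ← h2, mul_comm]
  exact h1

/-- Order of the special linear group: (q - 1) |SL_n(q)| = prod_{i<n} (q^n - q^i) = |GL_n(q)|, for n at least 1. -/
theorem result {F : Type*} [Field F] [Fintype F] {q : ℕ} (hF : Fintype.card F = q) (n : ℕ) (hn : 1 ≤ n) : (q - 1) * Nat.card (Matrix.SpecialLinearGroup (Fin n) F) = ∏ i : Fin n, (q ^ n - q ^ (i : ℕ)) := by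
  subst hF
  rw [← Matrix.card_GL_field, ← card_SL_mul n hn]

end Cfsg.Agent.S0242
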