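import Mathlib
import Cfsg.Statements.S4014
import Cfsg.Agent.Lib.Helper21.SymSylow

set_option autoImplicit false
open Cfsg

namespace Cfsg.Agent.S4014

open Cfsg.Agent.Lib.Helper21.SymSylow

/-- Let p be a prime, n ≥ 1, and P a Sylow p-subgroup of the symmetric group on n letters. Then the derived length of P is exactly k = ⌊log_p n⌋ (the largest k with p^k ≤ n): the k-th derived subgroup of P is trivial and, when k ≥ 1, the (k−1)-st is not. -/
theorem result (p : ℕ) [Fact p.Prime] (n : ℕ) (hn : 1 ≤ n) (P : Sylow p (Equiv.Perm (Fin n))) : derivedSeries ↥(P : Subgroup (Equiv.Perm (Fin n))) (Nat.log p n) = ⊥ ∧ (1 ≤ Nat.log p n → derivedSeries ↥(P : Subgroup (Equiv.Perm (Fin n))) (Nat.log p n - 1) ≠ ⊥) := by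
  have hp := (Fact.out : p.Prime)
  constructor
  · rw [eq_bot_iff]
    intro h hh
    rw [Subgroup.mem_bot]
    have hcard : Nat.card (Fin n) < p ^ (Nat.log p n + 1) := by
      rw [Nat.card_fin]
      exact Nat.lt_pow_succ_log_self hp.one_lt n
    have key := derived_fix p (Nat.log p n) ↥(P : Subgroup (Equiv.Perm (Fin n))) P.isPGroup'
      (Fin n) hcard h hh
    apply Subtype.ext
    apply Equiv.ext
    intro a
    exact key a
  · intro hk
    obtain ⟨k, hk'⟩ : ∃ k, Nat.log p n = k + 1 := ⟨Nat.log p n - 1, by omega⟩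
    rw [hk', Nat.add_sub_cancel]
    haveI : NeZero p := ⟨hp.ne_zero⟩
    haveI : Fact (1 < p) := ⟨hp.one_lt⟩
    have hcardG : Nat.card (Multiplicative (ZMod p)) = p := by
      rw [Nat.card_congr Multiplicative.toAdd, Nat.card_eq_fintype_card, ZMod.card]
    have hW : IsPGroup p (IteratedWreathProduct (Multiplicative (ZMod p)) (k + 1)) :=
      IsPGroup.of_card (by rw [IteratedWreathProduct.card, hcardG])
    have hle : p ^ (k + 1) ≤ n := by
      rw [← hk']
      exact Nat.pow_log_le_self p (by omega)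
    have hcardF : Fintype.card (Fin (k + 1) → Multiplicative (ZMod p)) ≤ Fintype.card (Fin n) := by
      rw [Fintype.card_fun, Fintype.card_fin, Fintype.card_fin, ← Nat.card_eq_fintype_card, hcardG]
      exact hle
    obtain ⟨ι⟩ := Function.Embedding.nonempty_of_card_le hcardF
    obtain ⟨φ, hφ⟩ : ∃ φ : IteratedWreathProduct (Multiplicative (ZMod p)) (k + 1) →*
        Equiv.Perm (Fin n), Function.Injective φ :=
      ⟨(Equiv.Perm.viaEmbeddingHom ι).comp (iteratedWreathToPermHom (Multiplicative (ZMod p)) (k + 1)),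
        (Equiv.Perm.viaEmbeddingHom_injective ι).comp
          (iteratedWreathToPermHomInj (Multiplicative (ZMod p)) (k + 1))⟩
    obtain ⟨P₀, hP₀⟩ := (hW.of_surjective φ.rangeRestrict φ.rangeRestrict_surjective).exists_le_sylow
    obtain ⟨ψ, hψ⟩ : ∃ ψ : IteratedWreathProduct (Multiplicative (ZMod p)) (k + 1) →*
        ↥(P₀ : Subgroup (Equiv.Perm (Fin n))), Function.Injective ψ :=
      ⟨φ.codRestrict (P₀ : Subgroup (Equiv.Perm (Fin n))) (fun w => hP₀ ⟨w, rfl⟩),
        fun a b h => hφ (congrArg Subtype.val h)⟩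
    obtain ⟨⟨w, hw⟩, hw1⟩ := Subgroup.ne_bot_iff_exists_ne_one.1 (iter_dl (Multiplicative (ZMod p)) k)
    intro hbot
    have h1 : (Sylow.equiv P₀ P) (ψ w) ∈
        derivedSeries ↥(P : Subgroup (Equiv.Perm (Fin n))) k := by
      apply map_derivedSeries_le_derivedSeries ((Sylow.equiv P₀ P).toMonoidHom.comp ψ) k
      exact ⟨w, hw, rfl⟩
    rw [hbot, Subgroup.mem_bot] at h1
    apply hw1
    apply Subtype.ext
    show w = 1
    apply hψ
    apply (Sylow.equiv P₀ P).injective
    rw [h1, map_one, map_one]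

end Cfsg.Agent.S4014
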