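import Mathlib
import Cfsg.Statements.S0896
import Cfsg.Agent.Lib.Helper25.Brauer5

set_option autoImplicit false
open scoped ComplexConjugate
open Cfsg

namespace Cfsg.Agent.S0896

open Cfsg.Agent.Lib.Helper1 Cfsg.Agent.Lib.Helper25.Brauer

/-- Weighted fixed point lemma: if all orbits have prime power size and the total weight of an
invariant weight is prime to `p`, then some fixed point has weight prime to `p`. -/
theorem exists_fixed_of_not_dvd {E Ω : Type*} [Group E] [MulAction E Ω] [Fintype Ω]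
    (p : ℕ) (hp : p.Prime) (w : Ω → ℕ) (hw : ∀ (e : E) (ω : Ω), w (e • ω) = w ω)
    (horb : ∀ ω : Ω, ∃ j : ℕ, Nat.card (MulAction.orbit E ω) = p ^ j)
    (h : ¬ p ∣ ∑ ω, w ω) : ∃ ω : Ω, (∀ e : E, e • ω = ω) ∧ ¬ p ∣ w ω := by
  classical
  by_contra hcon
  push Not at hcon
  apply h
  haveI : Fintype (MulAction.orbitRel.Quotient E Ω) := Fintype.ofFinite _
  haveI : ∀ q : MulAction.orbitRel.Quotient E Ω, Fintype (MulAction.orbit E q.out) :=
    fun q => Fintype.ofFinite _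
  rw [← Equiv.sum_comp (MulAction.selfEquivSigmaOrbits E Ω).symm, Fintype.sum_sigma]
  apply Finset.dvd_sum
  intro q _
  have h1 : ∀ x : MulAction.orbit E q.out,
      w ((MulAction.selfEquivSigmaOrbits E Ω).symm ⟨q, x⟩) = w q.out := by
    intro x
    have h2 : (MulAction.selfEquivSigmaOrbits E Ω).symm ⟨q, x⟩ = (x : Ω) := rfl
    rw [h2]
    obtain ⟨e, he⟩ := x.2
    rw [← he]
    exact hw e _
  rw [Finset.sum_congr rfl (fun x _ => h1 x), Finset.sum_const, Finset.card_univ, smul_eq_mul,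
    ← Nat.card_eq_fintype_card]
  obtain ⟨j, hj⟩ := horb q.out
  rcases Nat.eq_zero_or_pos j with h0 | h0
  · have hfix : ∀ e : E, e • q.out = q.out := by
      intro e
      rw [h0, pow_zero] at hj
      have h3 : Subsingleton (MulAction.orbit E q.out) :=
        (Nat.card_eq_one_iff_unique.mp hj).1
      have h4 := Subsingleton.elim (⟨e • q.out, MulAction.mem_orbit _ e⟩ : MulAction.orbit E q.out)
        ⟨q.out, MulAction.mem_orbit_self _⟩
      exact congrArg Subtype.val h4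
    exact Dvd.dvd.mul_left (hcon q.out hfix) _
  · rw [hj]
    exact Dvd.dvd.mul_right (dvd_pow_self p h0.ne') _

/-- Parseval for characters. -/
theorem classInner_eq_sum_mul {D : Type*} [Group D] [Fintype D] [Fintype (IrrCharacter D)]
    {α β : D → ℂ} (hβ : IsCharacter D β) (a b : IrrCharacter D → ℕ)
    (ha : ∀ φ : IrrCharacter D, classInner α (φ : D → ℂ) = (a φ : ℂ))
    (hb : ∀ φ : IrrCharacter D, classInner β (φ : D → ℂ) = (b φ : ℂ)) :
    classInner α β = ((∑ φ, a φ * b φ : ℕ) : ℂ) := by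
  obtain ⟨m, hm1, hm2⟩ := IsCharacter.eq_sum_irr hβ
  have hmb : m = b := by
    funext φ
    have := (hm1 φ).symm.trans (hb φ)
    exact_mod_cast this
  subst hmb
  conv_lhs => rw [hm2]
  rw [classInner_sum_right]
  push_cast
  refine Finset.sum_congr rfl (fun φ _ => ?_)
  rw [classInner_smul_right, ha φ, Complex.conj_natCast, mul_comm]

/-- The action of a group on the irreducible characters through automorphisms. -/
@[reducible] noncomputable def irrAction {E D : Type*} [Group E] [Group D] [Finite D]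
    (c : E →* MulAut D) : MulAction E (IrrCharacter D) where
  smul e φ := ⟨fun x => (φ : D → ℂ) ((c e)⁻¹ x), IsIrrCharacter.comp_mulEquiv φ.2 (c e)⁻¹⟩
  one_smul φ := by
    apply Subtype.ext
    funext x
    show (φ : D → ℂ) ((c 1)⁻¹ x) = (φ : D → ℂ) x
    rw [map_one, inv_one, MulAut.one_apply]
  mul_smul e f φ := by
    apply Subtype.ext
    funext x
    show (φ : D → ℂ) ((c (e * f))⁻¹ x) = (φ : D → ℂ) ((c f)⁻¹ ((c e)⁻¹ x))
    rw [map_mul, mul_inv_rev, MulAut.mul_apply]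

/-- Inner products with an invariant function are constant along the action. -/
theorem classInner_irrAction {E D : Type*} [Group E] [Group D] [Fintype D] (c : E →* MulAut D)
    (α : D → ℂ) (e : E) (hα : ∀ x : D, α (c e x) = α x) (φ : D → ℂ) :
    classInner α (fun x => φ ((c e)⁻¹ x)) = classInner α φ := by
  unfold classInner
  congr 1
  rw [← Equiv.sum_comp (c e).toEquiv]
  refine Finset.sum_congr rfl (fun x _ => ?_)
  simp only [MulEquiv.toEquiv_eq_coe, MulEquiv.coe_toEquiv]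
  rw [hα x, MulAut.inv_apply_self]

/-- The conjugation action of `E` on `E ⊓ N`. -/
noncomputable def conjHom {G : Type*} [Group G] (E N : Subgroup G) [hN : N.Normal] :
    E →* MulAut ↥(E ⊓ N) where
  toFun e :=
    { toFun := fun x => ⟨(e : G) * x * (e : G)⁻¹,
        ⟨E.mul_mem (E.mul_mem e.2 x.2.1) (E.inv_mem e.2), hN.conj_mem (x : G) x.2.2 e⟩⟩
      invFun := fun x => ⟨(e : G)⁻¹ * x * (e : G),
        ⟨E.mul_mem (E.mul_mem (E.inv_mem e.2) x.2.1) e.2, by
          have := hN.conj_mem (x : G) x.2.2 (e : G)⁻¹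
          rwa [inv_inv] at this⟩⟩
      left_inv := fun x => by
        apply Subtype.ext
        simp only []
        group
      right_inv := fun x => by
        apply Subtype.ext
        simp only []
        group
      map_mul' := fun x y => by
        apply Subtype.ext
        simp only [Subgroup.coe_mul]
        group }
  map_one' := by
    apply MulEquiv.ext
    intro x
    apply Subtype.ext
    simp
  map_mul' := fun e f => by
    apply MulEquiv.ext
    intro x
    apply Subtype.ext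
    simp [mul_assoc]

theorem conjHom_apply {G : Type*} [Group G] (E N : Subgroup G) [hN : N.Normal] (e : E)
    (x : ↥(E ⊓ N)) : ((conjHom E N e x : ↥(E ⊓ N)) : G) = (e : G) * x * (e : G)⁻¹ := rfl

theorem conjHom_inv_apply {G : Type*} [Group G] (E N : Subgroup G) [hN : N.Normal] (e : E)
    (x : ↥(E ⊓ N)) : (((conjHom E N e)⁻¹ x : ↥(E ⊓ N)) : G) = (e : G)⁻¹ * x * (e : G) := by
  rw [← map_inv, conjHom_apply]
  simp

/-- Let N be a normal subgroup of the finite group G with the index of N a power of the prime p, and ϑ an irreducible character of N invariant under conjugation by G. Then there are a p-elementary subgroup E of G with E ⊔ N = ⊤ and an irreducible character φ of the subgroup E ⊓ N, invariant under conjugation by E, such that the inner product of the restriction of ϑ to E ⊓ N with φ is an integer not divisible by p. -/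
theorem result {G : Type*} [Group G] [Fintype G] (p : ℕ) (hp : p.Prime) (N : Subgroup G) [hN : N.Normal] (hind : ∃ k : ℕ, N.index = p ^ k) (ϑ : N → ℂ) (hϑ : Cfsg.IsIrrCharacter N ϑ) (hinv : ∀ (g : G) (n : N), ϑ ⟨g * n * g⁻¹, hN.conj_mem (n : G) n.2 g⟩ = ϑ n) : ∃ (E : Subgroup G) (φ : ↥(E ⊓ N) → ℂ), Cfsg.IsElementary p E ∧ E ⊔ N = ⊤ ∧ Cfsg.IsIrrCharacter ↥(E ⊓ N) φ ∧ (∀ (g : G) (hg : g ∈ E) (x : ↥(E ⊓ N)), φ ⟨g * x * g⁻¹, ⟨(E.mul_mem (E.mul_mem hg x.2.1) (E.inv_mem hg)), hN.conj_mem (x : G) x.2.2 g⟩⟩ = φ x) ∧ ∃ m : ℕ, ¬ p ∣ m ∧ (Nat.card ↥(E ⊓ N) : ℂ)⁻¹ * ∑ᶠ x : ↥(E ⊓ N), ϑ ⟨(x : G), x.2.2⟩ * conj (φ x) = (m : ℂ) := by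
  classical
  haveI : Fact p.Prime := ⟨hp⟩
  obtain ⟨k, hk⟩ := hind
  have hpk : (p ^ k : ℂ) ≠ 0 := pow_ne_zero _ (Nat.cast_ne_zero.mpr hp.ne_zero)
  obtain ⟨Θ, hΘ⟩ : ∃ Θ : G → ℂ, Θ = fun g =>
      if h : g ∈ N then (p ^ k : ℂ) * (ϑ ⟨g, h⟩ * conj (ϑ ⟨g, h⟩)) else 0 := ⟨_, rfl⟩
  have hΘin : ∀ (g : G) (h : g ∈ N), Θ g = (p ^ k : ℂ) * (ϑ ⟨g, h⟩ * conj (ϑ ⟨g, h⟩)) := by
    intro g h
    rw [hΘ]
    exact dif_pos h
  have hΘout : ∀ g : G, g ∉ N → Θ g = 0 := by
    intro g h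
    rw [hΘ]
    exact dif_neg h
  have hΘcl : IsClassFunction G Θ := by
    intro g h
    by_cases hg : g ∈ N
    · rw [hΘin g hg, hΘin _ (hN.conj_mem g hg h), hinv h ⟨g, hg⟩]
    · have hg' : h * g * h⁻¹ ∉ N := by
        intro hh
        apply hg
        have := hN.conj_mem _ hh h⁻¹
        simpa [mul_assoc] using this
      rw [hΘout g hg, hΘout _ hg']
  have hcardG : (Nat.card G : ℂ) = (Nat.card N : ℂ) * (p ^ k : ℂ) := by
    rw [← N.card_mul_index, hk]
    push_cast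
    rfl
  have hΘ1 : classInner Θ (fun _ => (1 : ℂ)) = 1 := by
    have h1 : ∑ g : G, Θ g * conj (1 : ℂ) = ∑ n : N, (p ^ k : ℂ) * (ϑ n * conj (ϑ n)) := by
      symm
      apply Fintype.sum_of_injective (Subtype.val : N → G) Subtype.val_injective
      · intro g hg
        have hg' : g ∉ N := fun h => hg ⟨⟨g, h⟩, rfl⟩
        rw [hΘout g hg', zero_mul]
      · intro n
        rw [hΘin n n.2, map_one, mul_one]
    have h2 := classInner_irr_self hϑ
    unfold classInner at h2 ⊢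
    rw [h1, ← Finset.mul_sum, hcardG, mul_inv, mul_assoc, ← mul_assoc _ (p ^ k : ℂ),
      inv_mul_cancel₀ hpk, one_mul]
    exact h2
  obtain ⟨m, hm, hmem⟩ := local_brauer (G := G) p
  have hex : ∃ (E : Subgroup G) (lam : E →* ℂˣ), IsElementary p E ∧
      ¬ ∃ z : ℤ, classInner (Θ * indFun E (fun e => ((lam e : ℂˣ) : ℂ))) (fun _ => (1 : ℂ))
        = (p : ℂ) * z := by
    by_contra hcon
    push Not at hcon
    have key : ∀ F ∈ Mon p G, ∃ z : ℤ, classInner (Θ * F) (fun _ => (1 : ℂ)) = (p : ℂ) * z := by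
      intro F hF
      unfold Mon at hF
      induction hF using AddSubgroup.closure_induction with
      | mem F hF =>
        obtain ⟨E, lam, hE, rfl⟩ := hF
        exact hcon E lam hE
      | zero =>
        refine ⟨0, ?_⟩
        rw [mul_zero, classInner_zero_left]
        simp
      | add x y _ _ hx hy =>
        obtain ⟨z1, h1⟩ := hx
        obtain ⟨z2, h2⟩ := hy
        refine ⟨z1 + z2, ?_⟩
        rw [mul_add, classInner_add_left, h1, h2]
        push_cast
        ring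
      | neg x _ hx =>
        obtain ⟨z1, h1⟩ := hx
        refine ⟨-z1, ?_⟩
        have e1 : Θ * -x = (-1 : ℂ) • (Θ * x) := by
          funext g
          simp
        rw [e1, classInner_smul_left, h1]
        push_cast
        ring
    obtain ⟨z, hz⟩ := key _ hmem
    have e1 : Θ * (fun _ : G => (m : ℂ)) = (m : ℂ) • Θ := by
      funext g
      simp [mul_comm]
    rw [e1, classInner_smul_left, hΘ1, mul_one] at hz
    apply hm
    refine ⟨z, ?_⟩
    exact_mod_cast hz
  obtain ⟨E, lam, hE, hnz⟩ := hex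
  obtain ⟨ϑD, hϑD⟩ : ∃ ϑD : ↥(E ⊓ N) → ℂ, ϑD = fun x : ↥(E ⊓ N) => ϑ ⟨(x : G), x.2.2⟩ :=
    ⟨_, rfl⟩
  obtain ⟨μ, hμ⟩ : ∃ μ : ↥(E ⊓ N) → ℂ, μ = fun x : ↥(E ⊓ N) => ((lam ⟨(x : G), x.2.1⟩ : ℂˣ) : ℂ) :=
    ⟨_, rfl⟩
  have hϑDchar : IsCharacter ↥(E ⊓ N) ϑD := by
    rw [hϑD]
    exact IsCharacter.comp (IsIrrCharacter.isCharacter hϑ)
      (Subgroup.inclusion (inf_le_right : E ⊓ N ≤ N))
  have hμchar : IsCharacter ↥(E ⊓ N) μ := by
    rw [hμ]
    exact IsIrrCharacter.isCharacter (isIrrCharacter_of_monoidHom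
      (lam.comp (Subgroup.inclusion (inf_le_left : E ⊓ N ≤ E))))
  have hαchar : IsCharacter ↥(E ⊓ N) (ϑD * μ) := IsCharacter.mul hϑDchar hμchar
  obtain ⟨t, ht⟩ := IsCharacter.classInner_nat hαchar hϑDchar
  have hL : classInner (Θ * indFun E (fun e => ((lam e : ℂˣ) : ℂ))) (fun _ => (1 : ℂ))
      = (Nat.card E : ℂ)⁻¹ * ((p ^ k : ℂ) * ((Nat.card ↥(E ⊓ N) : ℂ) * t)) := by
    rw [indFun_mul E _ hΘcl, frobenius_reciprocity E _ (fun _ _ => rfl)]
    unfold classInner at ht ⊢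
    congr 1
    have h1 : ∑ e : E, ((fun h : E => Θ h) * fun e : E => ((lam e : ℂˣ) : ℂ)) e
          * conj ((fun _ : E => (1 : ℂ)) e)
        = ∑ x : ↥(E ⊓ N), (p ^ k : ℂ) * ((ϑD * μ) x * conj (ϑD x)) := by
      symm
      apply Fintype.sum_of_injective (fun x : ↥(E ⊓ N) => (⟨(x : G), x.2.1⟩ : E))
      · intro x y hxy
        apply Subtype.ext
        exact congrArg (fun e : E => (e : G)) hxy
      · intro e he
        have he' : (e : G) ∉ N := fun h => he ⟨⟨e, ⟨e.2, h⟩⟩, rfl⟩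
        simp only [Pi.mul_apply]
        rw [hΘout _ he', zero_mul, zero_mul]
      · intro x
        simp only [Pi.mul_apply]
        rw [hΘin _ x.2.2, hϑD, hμ, map_one, mul_one]
        ring
    rw [h1, ← Finset.mul_sum, ← ht]
    have hD0 : (Nat.card ↥(E ⊓ N) : ℂ) ≠ 0 := by
      have := Nat.card_pos (α := ↥(E ⊓ N))
      exact_mod_cast this.ne'
    rw [← mul_assoc (Nat.card ↥(E ⊓ N) : ℂ), mul_inv_cancel₀ hD0, one_mul]
  -- cardinalities
  obtain ⟨r, hr⟩ : ∃ r : ℕ, r = N.relIndex E := ⟨_, rfl⟩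
  have hcardE : Nat.card E = Nat.card ↥(E ⊓ N) * r := by
    have h1 := Subgroup.card_mul_index (N.subgroupOf E)
    have h2 : Nat.card ↥(N.subgroupOf E) = Nat.card ↥(E ⊓ N) := by
      apply Nat.card_congr
      exact
        { toFun := fun x => ⟨((x : E) : G), ⟨(x : E).2, Subgroup.mem_subgroupOf.mp x.2⟩⟩
          invFun := fun y => ⟨⟨(y : G), y.2.1⟩, Subgroup.mem_subgroupOf.mpr y.2.2⟩
          left_inv := fun x => rfl
          right_inv := fun y => rfl }
    rw [hr, ← h1, h2]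
    rfl
  have hrdvd : r ∣ p ^ k := by
    rw [hr, ← hk]
    exact Subgroup.relIndex_dvd_index_of_normal N E
  obtain ⟨j, hjk, hrj⟩ := (Nat.dvd_prime_pow hp).mp hrdvd
  have hD0 : (Nat.card ↥(E ⊓ N) : ℂ) ≠ 0 := by
    have := Nat.card_pos (α := ↥(E ⊓ N))
    exact_mod_cast this.ne'
  have hp0 : (p : ℂ) ≠ 0 := Nat.cast_ne_zero.mpr hp.ne_zero
  have hL2 : classInner (Θ * indFun E (fun e => ((lam e : ℂˣ) : ℂ))) (fun _ => (1 : ℂ))
      = (p : ℂ) ^ (k - j) * t := by
    rw [hL, hcardE, hrj]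
    push_cast
    have e1 : (p : ℂ) ^ k = (p : ℂ) ^ (k - j) * (p : ℂ) ^ j := by
      rw [← pow_add, Nat.sub_add_cancel hjk]
    rw [e1]
    field_simp
  have hjk' : j = k := by
    by_contra hne
    have hlt : j < k := lt_of_le_of_ne hjk hne
    apply hnz
    refine ⟨(p : ℤ) ^ (k - j - 1) * t, ?_⟩
    rw [hL2]
    push_cast
    rw [← mul_assoc, ← pow_succ']
    congr 2
    omega
  subst hjk'
  rw [Nat.sub_self, pow_zero, one_mul] at hL2
  have hpt : ¬ p ∣ t := by
    rintro ⟨z, hz⟩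
    apply hnz
    refine ⟨(z : ℤ), ?_⟩
    rw [hL2, hz]
    push_cast
    rfl
  -- `E ⊔ N = ⊤`
  have hsup : E ⊔ N = ⊤ := by
    have h1 : N.relIndex (E ⊔ N) = N.relIndex E := Subgroup.relIndex_sup_right E N
    have h2 := Subgroup.relIndex_mul_index (le_sup_right : N ≤ E ⊔ N)
    rw [h1, ← hr, hrj, hk] at h2
    have h3 : (E ⊔ N).index = 1 := by
      have hpos : 0 < p ^ j := pow_pos hp.pos _
      exact Nat.eq_of_mul_eq_mul_left hpos (h2.trans (mul_one _).symm)
    exact Subgroup.index_eq_one.mp h3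
  -- decomposition
  haveI : Fintype (IrrCharacter ↥(E ⊓ N)) := irrFintype
  obtain ⟨a, ha, -⟩ := IsCharacter.eq_sum_irr hαchar
  obtain ⟨b, hb, -⟩ := IsCharacter.eq_sum_irr hϑDchar
  have htsum : t = ∑ φ, a φ * b φ := by
    have h1 := classInner_eq_sum_mul hϑDchar a b ha hb
    rw [ht] at h1
    exact_mod_cast h1
  -- the action
  letI : MulAction E (IrrCharacter ↥(E ⊓ N)) := irrAction (conjHom E N)
  have hsmul : ∀ (e : E) (φ : IrrCharacter ↥(E ⊓ N)),
      ((e • φ : IrrCharacter ↥(E ⊓ N)) : ↥(E ⊓ N) → ℂ)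
        = fun x => (φ : ↥(E ⊓ N) → ℂ) ((conjHom E N e)⁻¹ x) := fun e φ => rfl
  have hϑDinv : ∀ (e : E) (x : ↥(E ⊓ N)), ϑD (conjHom E N e x) = ϑD x := by
    intro e x
    rw [hϑD]
    exact hinv (e : G) ⟨(x : G), x.2.2⟩
  have hμinv : ∀ (e : E) (x : ↥(E ⊓ N)), μ (conjHom E N e x) = μ x := by
    intro e x
    rw [hμ]
    simp only []
    have h1 : (⟨((conjHom E N e x : ↥(E ⊓ N)) : G), (conjHom E N e x).2.1⟩ : E)
        = e * ⟨(x : G), x.2.1⟩ * e⁻¹ := by
      apply Subtype.ext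
      rw [conjHom_apply]
      rfl
    rw [h1, map_mul, map_mul, map_inv, mul_comm (lam e), mul_assoc, mul_inv_cancel, mul_one]
  have hαinv : ∀ (e : E) (x : ↥(E ⊓ N)), (ϑD * μ) (conjHom E N e x) = (ϑD * μ) x := by
    intro e x
    rw [Pi.mul_apply, Pi.mul_apply, hϑDinv, hμinv]
  have hw : ∀ (e : E) (φ : IrrCharacter ↥(E ⊓ N)), a (e • φ) * b (e • φ) = a φ * b φ := by
    intro e φ
    have h1 : a (e • φ) = a φ := by
      have h2 := ha (e • φ)
      rw [hsmul, classInner_irrAction (conjHom E N) _ e (hαinv e), ha φ] at h2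
      exact_mod_cast h2.symm
    have h3 : b (e • φ) = b φ := by
      have h2 := hb (e • φ)
      rw [hsmul, classInner_irrAction (conjHom E N) _ e (hϑDinv e), hb φ] at h2
      exact_mod_cast h2.symm
    rw [h1, h3]
  have horb : ∀ φ : IrrCharacter ↥(E ⊓ N), ∃ i : ℕ, Nat.card (MulAction.orbit E φ) = p ^ i := by
    intro φ
    have h1 : N.subgroupOf E ≤ MulAction.stabilizer E φ := by
      intro d hd
      rw [MulAction.mem_stabilizer_iff]
      apply Subtype.ext
      rw [hsmul]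
      funext x
      have hcl := IsCharacter.isClassFunction (IsIrrCharacter.isCharacter φ.2)
      have hd' : (d : G) ∈ E ⊓ N := ⟨d.2, Subgroup.mem_subgroupOf.mp hd⟩
      have h2 : (conjHom E N d)⁻¹ x = (⟨(d : G), hd'⟩ : ↥(E ⊓ N))⁻¹ * x
          * (⟨(d : G), hd'⟩ : ↥(E ⊓ N))⁻¹⁻¹ := by
        apply Subtype.ext
        rw [conjHom_inv_apply]
        simp
      rw [h2]
      exact hcl x _
    have h2 := Subgroup.index_dvd_of_le h1
    have h3 : (N.subgroupOf E).index = p ^ j := by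
      rw [← hrj, hr]
      rfl
    rw [h3, MulAction.index_stabilizer, ← Nat.card_coe_set_eq] at h2
    obtain ⟨i, -, hi⟩ := (Nat.dvd_prime_pow hp).mp h2
    exact ⟨i, hi⟩
  obtain ⟨φ, hfix, hnd⟩ := exists_fixed_of_not_dvd (E := E) p hp (fun φ => a φ * b φ) hw horb
    (by rw [← htsum]; exact hpt)
  refine ⟨E, (φ : ↥(E ⊓ N) → ℂ), hE, hsup, φ.2, ?_, b φ, fun h => hnd (Dvd.dvd.mul_left h _), ?_⟩
  · intro g hg x
    have h1 := congrFun (congrArg Subtype.val (hfix (⟨g, hg⟩ : E)⁻¹)) x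
    rw [hsmul] at h1
    simp only [map_inv, inv_inv] at h1
    rw [← h1]
    rfl
  · rw [finsum_eq_sum_of_fintype]
    have h1 := hb φ
    unfold classInner at h1
    rw [hϑD] at h1
    exact h1

end Cfsg.Agent.S0896
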