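import Cfsg.Statements.S0865
import Cfsg.Agent.Lib.Helper1.CharTransfer
open Cfsg.Agent.Lib.Helper1 Representation
open scoped ComplexConjugate

set_option autoImplicit false
open Cfsg

namespace Cfsg.Agent.S0865

/-- Let N be a normal subgroup of the finite group G and λ a character of N of degree 1, invariant under conjugation by G, whose order (under pointwise multiplication) is coprime to the index of N. Then there is a character μ of G of degree 1 restricting to λ with the same order as λ, and μ is the only degree-1 character of G restricting to λ whose order is coprime to the index of N. -/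
theorem result {G : Type*} [Group G] [Finite G] (N : Subgroup G) [hN : N.Normal] (lam : N → ℂ) (hlam : Cfsg.IsCharacter N lam ∧ lam 1 = 1) (hinv : ∀ (g : G) (n : N), lam ⟨g * n * g⁻¹, hN.conj_mem (n : G) n.2 g⟩ = lam n) (hcop : Nat.Coprime N.index (orderOf lam)) : ∃ μ : G → ℂ, (Cfsg.IsCharacter G μ ∧ μ 1 = 1 ∧ (∀ n : N, μ n = lam n) ∧ orderOf μ = orderOf lam) ∧ ∀ μ' : G → ℂ, Cfsg.IsCharacter G μ' ∧ μ' 1 = 1 → (∀ n : N, μ' n = lam n) → Nat.Coprime N.index (orderOf μ') → μ' = μ := by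
  classical
  obtain ⟨hchar, hlam1⟩ := hlam
  obtain ⟨ν, hν⟩ := IsCharacter.exists_monoidHom hchar hlam1
  have hlamν : lam = fun n => ((ν n : ℂˣ) : ℂ) := funext hν
  have hord : orderOf lam = orderOf ν := by
    rw [hlamν]
    exact orderOf_coeFun ν
  rw [hord] at hcop
  have hmpos := orderOf_monoidHom_pos ν
  have hinvν : ∀ (g : G) (n : N), ν ⟨g * n * g⁻¹, hN.conj_mem n n.2 g⟩ = ν n := by
    intro g n
    apply Units.ext
    rw [← hν, ← hν]
    exact hinv g n
  have hV : ∀ n : N, MonoidHom.transfer ν (n : G) = ν n ^ N.index := by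
    intro n
    exact transfer_normal_apply N N le_rfl ν (fun g n => hinvν g n) n
  obtain ⟨k, hk⟩ : ∃ k : ℕ, N.index * k ≡ 1 [MOD orderOf ν] := by
    by_cases h1 : orderOf ν = 1
    · exact ⟨0, by rw [h1]; exact Nat.modEq_one⟩
    · have h2 : 1 < orderOf ν := by omega
      obtain ⟨k, -, hk⟩ := Nat.exists_mul_mod_eq_one_of_coprime hcop h2
      exact ⟨k, by unfold Nat.ModEq; rw [hk, Nat.mod_eq_of_lt h2]⟩
  have hμ₀N : ∀ n : N, ((MonoidHom.transfer ν) ^ k) (n : G) = ν n := by
    intro n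
    rw [MonoidHom.pow_apply, hV n, ← pow_mul]
    have h1 := (pow_eq_pow_iff_modEq (x := ν)).mpr hk
    have h2 := DFunLike.congr_fun h1 n
    simpa using h2
  have hμ₀m : ((MonoidHom.transfer ν : G →* ℂˣ) ^ k) ^ orderOf ν = 1 := by
    apply MonoidHom.ext
    intro g
    rw [MonoidHom.pow_apply, MonoidHom.pow_apply, ← pow_mul, mul_comm, pow_mul,
      transfer_pow_eq_one ν (orderOf ν)
        (fun h => by rw [← MonoidHom.pow_apply, pow_orderOf_eq_one]; rfl) g, one_pow]
    rfl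
  have hordμ₀ : orderOf ((MonoidHom.transfer ν : G →* ℂˣ) ^ k) = orderOf ν := by
    apply Nat.dvd_antisymm (orderOf_dvd_of_pow_eq_one hμ₀m)
    apply orderOf_dvd_of_pow_eq_one
    apply MonoidHom.ext
    intro n
    rw [MonoidHom.pow_apply, ← hμ₀N n, ← MonoidHom.pow_apply, pow_orderOf_eq_one]
    rfl
  refine ⟨fun g => ((((MonoidHom.transfer ν : G →* ℂˣ) ^ k) g : ℂˣ) : ℂ),
    ⟨IsIrrCharacter.isCharacter (isIrrCharacter_of_monoidHom _), by simp, ?_, ?_⟩, ?_⟩
  · intro n
    show ((((MonoidHom.transfer ν : G →* ℂˣ) ^ k) (n : G) : ℂˣ) : ℂ) = lam n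
    rw [hμ₀N n, hν]
  · rw [orderOf_coeFun, hordμ₀, hord]
  · rintro μ' ⟨hμ'c, hμ'1⟩ hμ'N hμ'cop
    obtain ⟨ν', hν'⟩ := IsCharacter.exists_monoidHom hμ'c hμ'1
    have hμ'ν : μ' = fun g => ((ν' g : ℂˣ) : ℂ) := funext hν'
    rw [hμ'ν, orderOf_coeFun] at hμ'cop
    rw [hμ'ν]
    have key : ν' = (MonoidHom.transfer ν : G →* ℂˣ) ^ k := by
      apply MonoidHom.ext
      intro g
      have hg : g ^ N.index ∈ N := by
        have h1 : ((g : G ⧸ N)) ^ N.index = 1 := by
          rw [Subgroup.index_eq_card]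
          exact pow_card_eq_one'
        rw [← QuotientGroup.mk_pow] at h1
        exact (QuotientGroup.eq_one_iff _).mp h1
      have ha : ν' g ^ N.index = (((MonoidHom.transfer ν : G →* ℂˣ) ^ k) g) ^ N.index := by
        rw [← map_pow, ← map_pow]
        have h1 := hμ₀N ⟨_, hg⟩
        have h2 : ν' ((⟨g ^ N.index, hg⟩ : N) : G) = ν ⟨g ^ N.index, hg⟩ :=
          Units.ext (by rw [← hν', hμ'N ⟨_, hg⟩, hν])
        exact h2.trans h1.symm
      have hb1 : ν' g ^ orderOf ν' = 1 := by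
        rw [← MonoidHom.pow_apply, pow_orderOf_eq_one]
        rfl
      have hb2 : (((MonoidHom.transfer ν : G →* ℂˣ) ^ k) g) ^ orderOf ν = 1 := by
        rw [← MonoidHom.pow_apply, hμ₀m]
        rfl
      have hd1 : (ν' g * ((((MonoidHom.transfer ν : G →* ℂˣ) ^ k) g))⁻¹) ^ N.index = 1 := by
        rw [mul_pow, inv_pow, ha, mul_inv_cancel]
      have hd2 : (ν' g * ((((MonoidHom.transfer ν : G →* ℂˣ) ^ k) g))⁻¹) ^
          (orderOf ν' * orderOf ν) = 1 := by
        rw [mul_pow, inv_pow, pow_mul, hb1, one_pow, mul_comm (orderOf ν'), pow_mul, hb2, one_pow]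
        simp
      have h1 : orderOf (ν' g * ((((MonoidHom.transfer ν : G →* ℂˣ) ^ k) g))⁻¹) ∣ N.index :=
        orderOf_dvd_of_pow_eq_one hd1
      have h2 : orderOf (ν' g * ((((MonoidHom.transfer ν : G →* ℂˣ) ^ k) g))⁻¹) ∣
          orderOf ν' * orderOf ν := orderOf_dvd_of_pow_eq_one hd2
      have hcop2 : Nat.Coprime N.index (orderOf ν' * orderOf ν) :=
        Nat.Coprime.mul_right hμ'cop hcop
      have h3 : orderOf (ν' g * ((((MonoidHom.transfer ν : G →* ℂˣ) ^ k) g))⁻¹) = 1 :=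
        Nat.eq_one_of_dvd_coprimes hcop2 h1 h2
      have h4 := orderOf_eq_one_iff.mp h3
      exact mul_inv_eq_one.mp h4
    rw [key]

end Cfsg.Agent.S0865
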