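import Cfsg.Statements.S0867
import Cfsg.Agent.Lib.Helper1.CharBrauerExt
import Cfsg.Agent.S0865
open Cfsg.Agent.Lib.Helper1 Representation
open scoped ComplexConjugate

set_option autoImplicit false
open Cfsg

namespace Cfsg.Agent.S0867

/-- Let N be a normal subgroup of the finite group G and ϑ an irreducible character of N of degree d, invariant under conjugation by G, such that the index of N is coprime to the product of d and the determinantal order of ϑ. Then there is an irreducible character χ of G restricting to ϑ whose determinantal order equals that of ϑ, and χ is the only irreducible character of G restricting to ϑ whose determinantal order is coprime to the index of N. -/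
theorem result {G : Type*} [Group G] [Finite G] (N : Subgroup G) [hN : N.Normal] (ϑ : N → ℂ) (hϑ : Cfsg.IsIrrCharacter N ϑ) (hinv : ∀ (g : G) (n : N), ϑ ⟨g * n * g⁻¹, hN.conj_mem (n : G) n.2 g⟩ = ϑ n) (d : ℕ) (hd : ϑ 1 = d) (hcop : Nat.Coprime N.index (Cfsg.detOrder ϑ * d)) : ∃ χ : G → ℂ, (Cfsg.IsIrrCharacter G χ ∧ (∀ n : N, χ n = ϑ n) ∧ Cfsg.detOrder χ = Cfsg.detOrder ϑ) ∧ ∀ χ' : G → ℂ, Cfsg.IsIrrCharacter G χ' → (∀ n : N, χ' n = ϑ n) → Nat.Coprime N.index (Cfsg.detOrder χ') → χ' = χ := by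
  have hcop1 : Nat.Coprime N.index (orderOf (Cfsg.detChar ϑ)) :=
    Nat.Coprime.coprime_mul_right_right hcop
  have hcop2 : Nat.Coprime N.index d := Nat.Coprime.coprime_mul_left_right hcop
  have hϑc := IsIrrCharacter.isCharacter hϑ
  have hlam : Cfsg.IsCharacter N (Cfsg.detChar ϑ) ∧ Cfsg.detChar ϑ 1 = 1 :=
    ⟨detChar_isCharacter hϑc, detChar_one_eq hϑc⟩
  have hinvlam : ∀ (g : G) (n : N),
      Cfsg.detChar ϑ ⟨g * n * g⁻¹, hN.conj_mem (n : G) n.2 g⟩ = Cfsg.detChar ϑ n := by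
    intro g n
    let c : N →* N := (MulAut.conjNormal g : MulAut N).toMonoidHom
    have hc : ∀ n : N, c n = ⟨g * n * g⁻¹, hN.conj_mem n n.2 g⟩ := fun n => Subtype.ext (by
      show ((MulAut.conjNormal g : MulAut N) n : G) = g * n * g⁻¹
      rw [MulAut.conjNormal_apply])
    have h1 := detChar_comp hϑc c
    have h2 : ϑ ∘ c = ϑ := by
      funext m
      show ϑ (c m) = ϑ m
      rw [hc, hinv]
    rw [h2] at h1
    have h3 := congrFun h1 n
    rw [← hc]
    exact h3.symm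
  obtain ⟨μ, ⟨hμc, hμ1, hμN, hμord⟩, hμuniq⟩ :=
    Cfsg.Agent.S0865.result N (Cfsg.detChar ϑ) hlam hinvlam hcop1
  obtain ⟨μ', hμ'⟩ := IsCharacter.exists_monoidHom hμc hμ1
  have hμeq : μ = fun g => ((μ' g : ℂˣ) : ℂ) := funext hμ'
  have hμ'N : ∀ n : N, ((μ' n : ℂˣ) : ℂ) = Cfsg.detChar ϑ n := fun n => by rw [← hμ', hμN]
  obtain ⟨χ, hχ, hχN, hχdet⟩ := ext_of_det_ext N hϑ hinv d hd hcop2 μ' hμ'N
  refine ⟨χ, ⟨hχ, hχN, ?_⟩, ?_⟩
  · show orderOf (Cfsg.detChar χ) = orderOf (Cfsg.detChar ϑ)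
    rw [hχdet, ← hμeq, hμord]
  · intro χ' hχ' hχ'N hχ'cop
    have hχ'c := IsIrrCharacter.isCharacter hχ'
    have h1 : ∀ n : N, Cfsg.detChar χ' n = Cfsg.detChar ϑ n := by
      intro n
      have h2 := detChar_restrict hχ'c N
      have h3 : (fun x : N => χ' x) = ϑ := funext hχ'N
      rw [h3] at h2
      exact (congrFun h2 n).symm
    have h4 := hμuniq (Cfsg.detChar χ') ⟨detChar_isCharacter hχ'c, detChar_one_eq hχ'c⟩ h1
      hχ'cop
    have huniq := exists_unique_ext_det N hϑ d hd hcop2 hχ hχN μ' hμ'N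
    exact huniq.unique ⟨hχ', hχ'N, by rw [h4, hμeq]⟩ ⟨hχ, hχN, hχdet⟩

end Cfsg.Agent.S0867
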