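import Cfsg.Statements.S0086
import Mathlib

set_option autoImplicit false
open Cfsg

namespace Cfsg.Agent.S0086

/-- membership in a normal subgroup of `p`-power index for elements of order prime to `p`. -/
theorem mem_of_coprime_of_index {G : Type*} [Group G] [Finite G] {p : ℕ} [Fact p.Prime]
    (N : Subgroup G) [N.Normal] (k : ℕ) (hk : N.index = p ^ k) (x : G)
    (hx : Nat.Coprime (orderOf x) p) : x ∈ N := by
  rw [← QuotientGroup.eq_one_iff]
  have h1 : ((x : G ⧸ N)) ^ (orderOf x) = 1 := by
    rw [← QuotientGroup.mk_pow, pow_orderOf_eq_one]; rfl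
  have h2 : ((x : G ⧸ N)) ^ (p ^ k) = 1 := by
    have : Nat.card (G ⧸ N) = p ^ k := by rw [← hk]; rfl
    rw [← this]; exact pow_card_eq_one'
  have h3 : orderOf (x : G ⧸ N) ∣ Nat.gcd (orderOf x) (p ^ k) :=
    Nat.dvd_gcd (orderOf_dvd_of_pow_eq_one h1) (orderOf_dvd_of_pow_eq_one h2)
  have h4 : Nat.gcd (orderOf x) (p ^ k) = 1 := Nat.Coprime.pow_right k hx
  rw [h4, Nat.dvd_one, orderOf_eq_one_iff] at h3
  exact h3

/-- A normal complement to a Sylow p-subgroup is exactly the set of elements of order prime to p. -/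
theorem result {G : Type*} [Group G] [Finite G] {p : ℕ} [Fact p.Prime] (P : Sylow p G) (N : Subgroup G) [N.Normal] (hN : N.IsComplement' (P : Subgroup G)) (x : G) : x ∈ N ↔ Nat.Coprime (orderOf x) p := by
  have hp : p.Prime := Fact.out
  constructor
  · intro hx
    have h1 : (P : Subgroup G).index = Nat.card N := hN.index_eq_card
    have h2 : orderOf x ∣ Nat.card N := Subgroup.orderOf_dvd_natCard N hx
    have h3 : ¬ p ∣ Nat.card N := by rw [← h1]; exact P.not_dvd_index
    rw [Nat.coprime_comm, hp.coprime_iff_not_dvd]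
    exact fun h => h3 (h.trans h2)
  · intro hx
    obtain ⟨k, hk⟩ := P.2.exists_card_eq
    have h1 : N.index = p ^ k := by rw [hN.symm.index_eq_card]; exact hk
    exact mem_of_coprime_of_index N k h1 x hx

end Cfsg.Agent.S0086
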