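import Mathlib
import Cfsg.Statements.S0630
import Cfsg.Agent.Lib.Helper4.PPrimeQuot

set_option autoImplicit false
open Cfsg

namespace Cfsg.Agent.S0630

universe u

theorem pPrimePCore_eq_pCore {H : Type u} [Group H] (p : ℕ) (h : pPrimeCore p H = ⊥) :
    pPrimePCore p H = pCore p H := by
  unfold pPrimePCore
  have hinj : Function.Injective (QuotientGroup.mk' (pPrimeCore p H)) := by
    rw [← MonoidHom.ker_eq_bot_iff, QuotientGroup.ker_mk', h]
  let e : H ≃* H ⧸ pPrimeCore p H :=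
    MulEquiv.ofBijective (QuotientGroup.mk' (pPrimeCore p H)) ⟨hinj, QuotientGroup.mk'_surjective _⟩
  have h1 := Cfsg.Agent.Lib.Helper9.pCore_map_equiv p e
  rw [← h1]
  have h2 : e.toMonoidHom = QuotientGroup.mk' (pPrimeCore p H) := rfl
  rw [h2, Subgroup.comap_map_eq_self_of_injective hinj]

theorem sylow_eq_top_of_isPGroup {H : Type u} [Group H] {p : ℕ} (hH : IsPGroup p H)
    (P : Sylow p H) : (P : Subgroup H) = ⊤ :=
  (P.is_maximal' (hH.to_subgroup ⊤) le_top).symm

theorem sylow_map_eq {G : Type u} [Group G] [Finite G] (p : ℕ) [Fact p.Prime]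
    (P : Sylow p ↥(pPrimePCore p G)) :
    ((P : Subgroup ↥(pPrimePCore p G)).map (pPrimePCore p G).subtype).map
      (QuotientGroup.mk' (pPrimeCore p G)) = pCore p (G ⧸ pPrimeCore p G) := by
  apply le_antisymm
  · rintro _ ⟨_, ⟨x, hx, rfl⟩, rfl⟩
    exact x.2
  · intro y hy
    let f : ↥(pPrimePCore p G) →* ↥(pCore p (G ⧸ pPrimeCore p G)) :=
      ((QuotientGroup.mk' (pPrimeCore p G)).comp (pPrimePCore p G).subtype).codRestrict _
        (fun x => x.2)
    have hf : Function.Surjective f := by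
      rintro ⟨z, hz⟩
      obtain ⟨g, rfl⟩ := QuotientGroup.mk'_surjective _ z
      exact ⟨⟨g, hz⟩, rfl⟩
    have h1 := sylow_eq_top_of_isPGroup
      (Cfsg.Agent.Lib.Helper9.pCore_isPGroup p (G ⧸ pPrimeCore p G)) (Sylow.mapSurjective hf P)
    rw [Sylow.coe_mapSurjective] at h1
    have h2 : (⟨y, hy⟩ : ↥(pCore p (G ⧸ pPrimeCore p G))) ∈ (P : Subgroup _).map f := by
      rw [h1]; exact Subgroup.mem_top _
    obtain ⟨x, hx, hxy⟩ := h2
    exact ⟨x, ⟨x, hx, rfl⟩, congrArg Subtype.val hxy⟩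

/-- p-constraint passes to and from the quotient by the largest normal subgroup of order prime to p. -/
theorem result {G : Type*} [Group G] [Finite G] {p : ℕ} [Fact p.Prime] : Cfsg.IsPConstrained p G ↔ Cfsg.IsPConstrained p (G ⧸ Cfsg.pPrimeCore p G) := by
  classical
  have hO := Cfsg.Agent.Lib.Helper9.pPrimeCore_coprime p G
  have hbot := Cfsg.Agent.Lib.Helper9.pPrimeCore_quotient_eq_bot p G
  have hA := pPrimePCore_eq_pCore p hbot
  have hQp : IsPGroup p ↥(pPrimePCore p (G ⧸ pPrimeCore p G)) := by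
    rw [hA]; exact Cfsg.Agent.Lib.Helper9.pCore_isPGroup p _
  have h3 : (⊤ : Subgroup ↥(pPrimePCore p (G ⧸ pPrimeCore p G))).map
      (pPrimePCore p (G ⧸ pPrimeCore p G)).subtype = pPrimePCore p (G ⧸ pPrimeCore p G) := by
    rw [← MonoidHom.range_eq_map, Subgroup.range_subtype]
  constructor
  · intro h Pb y hy
    rw [sylow_eq_top_of_isPGroup hQp Pb, h3, hA] at hy
    rw [hA]
    obtain ⟨P⟩ : Nonempty (Sylow p ↥(pPrimePCore p G)) := Sylow.nonempty
    obtain ⟨g, rfl⟩ := QuotientGroup.mk'_surjective _ y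
    rw [← sylow_map_eq p P] at hy
    obtain ⟨u, hu, hc⟩ := Cfsg.Agent.Lib.Helper4.PPrimeQuot.cent_lift hO (P.2.map _) g hy
    have h4 := h P hc
    have h5 : QuotientGroup.mk' (pPrimeCore p G) (u * g) ∈ pCore p (G ⧸ pPrimeCore p G) := h4
    have hu1 : QuotientGroup.mk' (pPrimeCore p G) u = 1 := (QuotientGroup.eq_one_iff u).mpr hu
    rw [map_mul, hu1, one_mul] at h5
    exact h5
  · intro h P c hc
    obtain ⟨Pb⟩ : Nonempty (Sylow p ↥(pPrimePCore p (G ⧸ pPrimeCore p G))) := Sylow.nonempty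
    have h1 := h Pb
    rw [sylow_eq_top_of_isPGroup hQp Pb, h3, hA] at h1
    have h2 := Cfsg.Agent.Lib.Helper4.PPrimeQuot.cent_map (QuotientGroup.mk' (pPrimeCore p G)) _ hc
    rw [sylow_map_eq p P] at h2
    exact h1 h2

end Cfsg.Agent.S0630
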