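import Mathlib
import Cfsg.Statements.S1302
import Cfsg.Agent.S0630
import Cfsg.Agent.S0027
import Cfsg.Agent.Lib.Helper9.KBalance

set_option autoImplicit false
open Cfsg

namespace Cfsg.Agent.S1302

universe u v w

open scoped commutatorElement

section BaerSec

variable {H : Type u} [Group H]

theorem pow_central (hc : ∀ x y z : H, ⁅x, y⁆ * z = z * ⁅x, y⁆) (x y z : H) (n : ℕ) :
    ⁅x, y⁆ ^ n * z = z * ⁅x, y⁆ ^ n :=
  (Commute.pow_left (show Commute ⁅x, y⁆ z from hc x y z) n).eq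

theorem comm_mul_left (hc : ∀ x y z : H, ⁅x, y⁆ * z = z * ⁅x, y⁆) (x y z : H) :
    ⁅x * y, z⁆ = ⁅x, z⁆ * ⁅y, z⁆ := by
  have h1 : ⁅x * y, z⁆ = x * ⁅y, z⁆ * x⁻¹ * ⁅x, z⁆ := by
    simp only [commutatorElement_def]; group
  rw [h1, ← hc y z x, mul_inv_cancel_right, hc]

theorem comm_mul_right (hc : ∀ x y z : H, ⁅x, y⁆ * z = z * ⁅x, y⁆) (x y z : H) :
    ⁅x, y * z⁆ = ⁅x, y⁆ * ⁅x, z⁆ := by
  have h1 : ⁅x, y * z⁆ = ⁅x, y⁆ * (y * ⁅x, z⁆) * y⁻¹ := by
    simp only [commutatorElement_def]; group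
  rw [h1, ← hc x z y, mul_assoc, mul_assoc, mul_inv_cancel, mul_one]

theorem comm_central_left (hc : ∀ x y z : H, ⁅x, y⁆ * z = z * ⁅x, y⁆) (x z a b : H) (n : ℕ) :
    ⁅x * ⁅a, b⁆ ^ n, z⁆ = ⁅x, z⁆ := by
  have h1 := pow_central hc a b z n
  have h2 : ⁅x * ⁅a, b⁆ ^ n, z⁆ = x * (⁅a, b⁆ ^ n * z) * (⁅a, b⁆ ^ n)⁻¹ * x⁻¹ * z⁻¹ := by
    simp only [commutatorElement_def]; group
  rw [h2, h1]
  simp only [commutatorElement_def]; group

theorem comm_central_right (hc : ∀ x y z : H, ⁅x, y⁆ * z = z * ⁅x, y⁆) (x z a b : H) (n : ℕ) :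
    ⁅z, x * ⁅a, b⁆ ^ n⁆ = ⁅z, x⁆ := by
  rw [← commutatorElement_inv, comm_central_left hc, commutatorElement_inv]

/-- The Baer multiplication. -/
def bmul (h : ℕ) (x y : H) : H := x * y * ⁅y, x⁆ ^ h

theorem bmul_comm (h : ℕ) (hsq : ∀ x : H, (x ^ h) ^ 2 = x)
    (hc : ∀ x y z : H, ⁅x, y⁆ * z = z * ⁅x, y⁆) (x y : H) : bmul h x y = bmul h y x := by
  unfold bmul
  have h1 : x * y = y * x * ⁅x, y⁆ := by
    have h0 : x * y = ⁅x, y⁆ * (y * x) := by simp only [commutatorElement_def]; group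
    rw [h0, hc, mul_assoc]
  have h2 : ⁅x, y⁆ * ⁅y, x⁆ ^ h = ⁅x, y⁆ ^ h := by
    have h3 : ⁅x, y⁆ ^ h * ⁅x, y⁆ ^ h = ⁅x, y⁆ := by
      rw [← pow_two]; exact hsq _
    rw [← commutatorElement_inv x y, inv_pow]
    nth_rewrite 1 [← h3]
    rw [mul_inv_cancel_right]
  rw [h1, mul_assoc, h2]

theorem bmul_assoc (h : ℕ) (hc : ∀ x y z : H, ⁅x, y⁆ * z = z * ⁅x, y⁆) (x y z : H) :
    bmul h (bmul h x y) z = bmul h x (bmul h y z) := by
  unfold bmul
  rw [comm_central_right hc, comm_central_left hc, comm_mul_right hc, comm_mul_left hc]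
  have e1 : (⁅z, x⁆ * ⁅z, y⁆) ^ h = ⁅z, x⁆ ^ h * ⁅z, y⁆ ^ h :=
    (show Commute ⁅z, x⁆ ⁅z, y⁆ from hc z x _).mul_pow h
  have e2 : (⁅y, x⁆ * ⁅z, x⁆) ^ h = ⁅y, x⁆ ^ h * ⁅z, x⁆ ^ h :=
    (show Commute ⁅y, x⁆ ⁅z, x⁆ from hc y x _).mul_pow h
  rw [e1, e2]
  have c1 := pow_central hc y x z h
  have c2 := pow_central hc z y (⁅y, x⁆ ^ h * ⁅z, x⁆ ^ h) h
  calc x * y * ⁅y, x⁆ ^ h * z * (⁅z, x⁆ ^ h * ⁅z, y⁆ ^ h)
      = x * y * (⁅y, x⁆ ^ h * z) * ⁅z, x⁆ ^ h * ⁅z, y⁆ ^ h := by simp only [mul_assoc]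
    _ = x * y * z * (⁅y, x⁆ ^ h * ⁅z, x⁆ ^ h * ⁅z, y⁆ ^ h) := by rw [c1]; simp only [mul_assoc]
    _ = x * y * z * (⁅z, y⁆ ^ h * (⁅y, x⁆ ^ h * ⁅z, x⁆ ^ h)) := by rw [c2]
    _ = x * (y * z * ⁅z, y⁆ ^ h) * (⁅y, x⁆ ^ h * ⁅z, x⁆ ^ h) := by simp only [mul_assoc]

theorem bmul_one_left (h : ℕ) (x : H) : bmul h 1 x = x := by
  unfold bmul; simp

theorem bmul_inv_left (h : ℕ) (x : H) : bmul h x⁻¹ x = 1 := by
  unfold bmul
  have h1 : ⁅x, x⁻¹⁆ = 1 := by simp [commutatorElement_def]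
  rw [h1]; simp

/-- The Baer group: the same carrier with `x ∘ y = x y [y, x]^h`. -/
def Baer (H : Type u) [Group H] (h : ℕ) (_hsq : ∀ x : H, (x ^ h) ^ 2 = x)
    (_hc : ∀ x y z : H, ⁅x, y⁆ * z = z * ⁅x, y⁆) : Type u := H

variable (h : ℕ) (hsq : ∀ x : H, (x ^ h) ^ 2 = x) (hc : ∀ x y z : H, ⁅x, y⁆ * z = z * ⁅x, y⁆)

def toB (x : H) : Baer H h hsq hc := x

def ofB (x : Baer H h hsq hc) : H := x

theorem toB_ofB (x : Baer H h hsq hc) : toB h hsq hc (ofB h hsq hc x) = x := rfl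

theorem ofB_toB (x : H) : ofB h hsq hc (toB h hsq hc x) = x := rfl

theorem ofB_injective : Function.Injective (ofB h hsq hc) := fun _ _ h => h

instance baerMul : Mul (Baer H h hsq hc) :=
  ⟨fun x y => toB h hsq hc (bmul h (ofB h hsq hc x) (ofB h hsq hc y))⟩

instance baerOne : One (Baer H h hsq hc) := ⟨toB h hsq hc 1⟩

instance baerInv : Inv (Baer H h hsq hc) := ⟨fun x => toB h hsq hc (ofB h hsq hc x)⁻¹⟩

instance baerGroup : Group (Baer H h hsq hc) :=
  Group.ofLeftAxioms (G := Baer H h hsq hc)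
      (fun x y z => bmul_assoc (H := H) h hc x y z)
      (fun x => bmul_one_left (H := H) h x)
      (fun x => bmul_inv_left (H := H) h x)

instance baerCommGroup : CommGroup (Baer H h hsq hc) :=
  { baerGroup h hsq hc with
    mul_comm := fun x y => bmul_comm (H := H) h hsq hc x y }

theorem ofB_mul (x y : Baer H h hsq hc) :
    ofB h hsq hc (x * y) = ofB h hsq hc x * ofB h hsq hc y * ⁅ofB h hsq hc y, ofB h hsq hc x⁆ ^ h :=
  rfl

theorem ofB_one : ofB h hsq hc (1 : Baer H h hsq hc) = 1 := rfl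

theorem ofB_pow (x : Baer H h hsq hc) (n : ℕ) : ofB h hsq hc (x ^ n) = ofB h hsq hc x ^ n := by
  induction n with
  | zero => rw [pow_zero, pow_zero]; rfl
  | succ n ih =>
    rw [pow_succ, ofB_mul, ih, pow_succ]
    have h1 : ⁅ofB h hsq hc x, ofB h hsq hc x ^ n⁆ = 1 :=
      commutatorElement_eq_one_iff_commute.mpr (Commute.pow_right (Commute.refl _) n)
    rw [h1, one_pow, mul_one]

/-- Every automorphism of `H` is an endomorphism of the Baer group. -/
noncomputable def liftB (f : MulAut H) : Baer H h hsq hc →* Baer H h hsq hc where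
  toFun x := toB h hsq hc (f (ofB h hsq hc x))
  map_one' := by
    show toB h hsq hc (f 1) = toB h hsq hc 1
    rw [map_one]
  map_mul' x y := by
    show toB h hsq hc (f (ofB h hsq hc (x * y))) = toB h hsq hc (bmul h (f (ofB h hsq hc x)) (f (ofB h hsq hc y)))
    rw [ofB_mul]
    unfold bmul
    rw [map_mul, map_mul, map_pow, map_commutatorElement]

theorem ofB_liftB (f : MulAut H) (x : Baer H h hsq hc) :
    ofB h hsq hc (liftB h hsq hc f x) = f (ofB h hsq hc x) := rfl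

end BaerSec


section AbsSec

theorem abs_lemma {H : Type u} [Group H] [Finite H] (p : ℕ) [Fact p.Prime] (hH : IsPGroup p H)
    (h : ℕ) (hsq : ∀ x : H, (x ^ h) ^ 2 = x) (hc : ∀ x y z : H, ⁅x, y⁆ * z = z * ⁅x, y⁆)
    {I : Type v} [Fintype I] (φ : I → MulAut H)
    (hφ : ∀ i₀ : I, ∃ σ : Equiv.Perm I, ∀ i v, φ i (φ i₀ v) = φ (σ i) v)
    {At : Type w} [Group At] (hAt : IsPGroup p At) (ψ : At →* MulAut H)
    (hψ : ∀ a : At, ∃ σ : Equiv.Perm I, ∀ i v, ψ a (φ i v) = φ (σ i) (ψ a v))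
    (hI : ¬ p ∣ Fintype.card I) (hne : ∃ i v, φ i v ≠ v) :
    ∃ u : H, u ≠ 1 ∧ u ^ p = 1 ∧ (∀ a, ψ a u = u) ∧ ∃ i, φ i u ≠ u := by
  classical
  have hp : p.Prime := Fact.out
  haveI hfinB : Finite (Baer H h hsq hc) := ‹Finite H›
  let E : Baer H h hsq hc →* Baer H h hsq hc := ∏ i : I, liftB h hsq hc (φ i)
  have hE : ∀ v, E v = ∏ i : I, liftB h hsq hc (φ i) v := fun v => MonoidHom.finset_prod_apply _ _ _
  -- invariance of E under each φ i₀
  have ha : ∀ (i₀ : I) (v : Baer H h hsq hc), E (liftB h hsq hc (φ i₀) v) = E v := by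
    intro i₀ v
    obtain ⟨σ, hσ⟩ := hφ i₀
    rw [hE, hE, ← Equiv.prod_comp σ (fun i => liftB h hsq hc (φ i) v)]
    refine Finset.prod_congr rfl (fun i _ => ?_)
    exact hσ i (ofB h hsq hc v)
  -- E commutes with ψ a
  have hb : ∀ (a : At) (v : Baer H h hsq hc), liftB h hsq hc (ψ a) (E v) = E (liftB h hsq hc (ψ a) v) := by
    intro a v
    obtain ⟨σ, hσ⟩ := hψ a
    rw [hE, hE, map_prod, ← Equiv.prod_comp σ (fun i => liftB h hsq hc (φ i) (liftB h hsq hc (ψ a) v))]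
    refine Finset.prod_congr rfl (fun i _ => ?_)
    exact hσ i (ofB h hsq hc v)
  -- the kernel is nontrivial
  obtain ⟨i₀, v₀, hv₀⟩ := hne
  have hw : toB h hsq hc v₀ * (liftB h hsq hc (φ i₀) (toB h hsq hc v₀))⁻¹ ∈ E.ker := by
    rw [MonoidHom.mem_ker, map_mul, map_inv, ha, mul_inv_cancel]
  have hw1 : toB h hsq hc v₀ * (liftB h hsq hc (φ i₀) (toB h hsq hc v₀))⁻¹ ≠ 1 := by
    intro h1
    rw [mul_inv_eq_one] at h1
    exact hv₀ (congrArg (ofB h hsq hc) h1).symm
  have hBp : IsPGroup p (Baer H h hsq hc) := by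
    intro g
    obtain ⟨k, hk⟩ := hH (ofB h hsq hc g)
    refine ⟨k, ofB_injective h hsq hc ?_⟩
    rw [ofB_pow, hk]; rfl
  have hKp : IsPGroup p ↥E.ker := hBp.to_subgroup _
  have hdvd : p ∣ Nat.card ↥E.ker := by
    rcases hKp.card_eq_or_dvd with h1 | h1
    · exfalso
      have hsub : Subsingleton ↥E.ker := (Nat.card_eq_one_iff_unique.mp h1).1
      have := congrArg Subtype.val (Subsingleton.elim (⟨_, hw⟩ : ↥E.ker) 1)
      exact hw1 this
    · exact h1
  letI act : MulAction At ↥E.ker :=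
    { smul := fun a k => ⟨liftB h hsq hc (ψ a) k.1, by
        rw [MonoidHom.mem_ker, ← hb, MonoidHom.mem_ker.mp k.2, map_one]⟩
      one_smul := fun k => by
        apply Subtype.ext
        show liftB h hsq hc (ψ 1) k.1 = k.1
        rw [map_one]; rfl
      mul_smul := fun a b k => by
        apply Subtype.ext
        show liftB h hsq hc (ψ (a * b)) k.1 = liftB h hsq hc (ψ a) (liftB h hsq hc (ψ b) k.1)
        rw [map_mul]; rfl }
  have hsmul : ∀ (a : At) (k : ↥E.ker), (a • k : ↥E.ker).1 = liftB h hsq hc (ψ a) k.1 := fun _ _ => rfl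
  have h1fix : (1 : ↥E.ker) ∈ MulAction.fixedPoints At ↥E.ker := by
    intro a
    apply Subtype.ext
    rw [hsmul]
    exact map_one _
  obtain ⟨b, hbfix, hb1⟩ := hAt.exists_fixed_point_of_prime_dvd_card_of_fixed_point ↥E.ker hdvd h1fix
  have hb0 : ofB h hsq hc b.1 ≠ 1 := by
    intro h1
    apply hb1
    apply Subtype.ext
    exact (ofB_injective h hsq hc h1).symm
  obtain ⟨k, hk⟩ := (IsPGroup.iff_orderOf.mp hH) (ofB h hsq hc b.1)
  have hk0 : k ≠ 0 := by
    rintro rfl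
    rw [pow_zero, orderOf_eq_one_iff] at hk
    exact hb0 hk
  obtain ⟨m, rfl⟩ := Nat.exists_eq_succ_of_ne_zero hk0
  have hfixb : ∀ a, ψ a (ofB h hsq hc b.1) = ofB h hsq hc b.1 := by
    intro a
    have h1 := congrArg Subtype.val (hbfix a)
    rw [hsmul] at h1
    exact congrArg (ofB h hsq hc) h1
  refine ⟨ofB h hsq hc b.1 ^ p ^ m, ?_, ?_, ?_, ?_⟩
  · intro h1
    have h2 := orderOf_dvd_of_pow_eq_one h1
    rw [hk] at h2
    have h3 := Nat.le_of_dvd (pow_pos hp.pos m) h2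
    have h4 : p ^ m < p ^ (m + 1) := Nat.pow_lt_pow_right hp.one_lt (Nat.lt_succ_self m)
    exact absurd h3 (not_le.mpr h4)
  · rw [← pow_mul, ← pow_succ, ← hk, pow_orderOf_eq_one]
  · intro a
    rw [map_pow, hfixb]
  · by_contra hall
    push Not at hall
    set u := ofB h hsq hc b.1 ^ p ^ m with hu
    have hup : u ^ p = 1 := by
      rw [hu, ← pow_mul, ← pow_succ, ← hk, pow_orderOf_eq_one]
    have hu1 : u ≠ 1 := by
      intro h1
      have h2 := orderOf_dvd_of_pow_eq_one h1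
      rw [hk] at h2
      have h3 := Nat.le_of_dvd (pow_pos hp.pos m) h2
      have h4 : p ^ m < p ^ (m + 1) := Nat.pow_lt_pow_right hp.one_lt (Nat.lt_succ_self m)
      exact absurd h3 (not_le.mpr h4)
    have hEu : E (toB h hsq hc u) = 1 := by
      have h1 : toB h hsq hc u = b.1 ^ p ^ m := by
        apply ofB_injective h hsq hc
        rw [ofB_pow]; rfl
      rw [h1, map_pow, MonoidHom.mem_ker.mp b.2, one_pow]
    have hEu2 : E (toB h hsq hc u) = (toB h hsq hc u) ^ Fintype.card I := by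
      rw [hE]
      have h1 : ∀ i ∈ (Finset.univ : Finset I), liftB h hsq hc (φ i) (toB h hsq hc u) = toB h hsq hc u := by
        intro i _
        exact congrArg (toB h hsq hc) (hall i)
      rw [Finset.prod_congr rfl h1, Finset.prod_const, Finset.card_univ]
    have h3 : u ^ Fintype.card I = 1 := by
      have h4 := congrArg (ofB h hsq hc) (hEu2.symm.trans hEu)
      rw [ofB_pow] at h4
      exact h4
    have h5 : orderOf u ∣ Nat.gcd p (Fintype.card I) :=
      Nat.dvd_gcd (orderOf_dvd_of_pow_eq_one hup) (orderOf_dvd_of_pow_eq_one h3)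
    rw [(Nat.Prime.coprime_iff_not_dvd hp).mpr hI, Nat.dvd_one, orderOf_eq_one_iff] at h5
    exact hu1 h5

end AbsSec


section AmbSec

variable {X : Type u} [Group X]

/-- Conjugation by a normalizing element, as an automorphism of the subgroup. -/
def conjW (W : Subgroup X) (g : X) (hg : g ∈ Subgroup.normalizer (W : Set X)) : MulAut ↥W where
  toFun w := ⟨g * w.1 * g⁻¹, (Subgroup.mem_normalizer_iff.mp hg w.1).mp w.2⟩
  invFun w := ⟨g⁻¹ * w.1 * g, by
    have h1 := (Subgroup.mem_normalizer_iff.mp (inv_mem hg) w.1).mp w.2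
    simpa using h1⟩
  left_inv w := by apply Subtype.ext; simp [mul_assoc]
  right_inv w := by apply Subtype.ext; simp [mul_assoc]
  map_mul' a b := by apply Subtype.ext; simp [mul_assoc]

theorem conjW_coe (W : Subgroup X) (g : X) (hg : g ∈ Subgroup.normalizer (W : Set X)) (w : ↥W) :
    (conjW W g hg w : X) = g * w.1 * g⁻¹ := rfl

theorem exists_fixed_not_centralized [Finite X] (p : ℕ) [Fact p.Prime] (hp2 : p ≠ 2)
    (Q A : Subgroup X) (hQ : ¬ p ∣ Nat.card ↥Q) (hAp : IsPGroup p ↥A)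
    (hAQ : A ≤ Subgroup.normalizer (Q : Set X)) :
    ∀ n : ℕ, ∀ W : Subgroup X, Nat.card ↥W = n → IsPGroup p ↥W →
      Q ≤ Subgroup.normalizer (W : Set X) → A ≤ Subgroup.normalizer (W : Set X) →
      ¬ Q ≤ Subgroup.centralizer (W : Set X) →
      ∃ u ∈ W, orderOf u = p ∧ u ∈ Subgroup.centralizer (A : Set X) ∧
        u ∉ Subgroup.centralizer (Q : Set X) := by
  classical
  have hp : p.Prime := Fact.out
  intro n
  induction n using Nat.strong_induction_on with
  | _ n ih =>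
  intro W hn hW hQW hAW hnc
  by_cases hex : ∃ W₁ : Subgroup X, W₁ < W ∧ Q ≤ Subgroup.normalizer (W₁ : Set X) ∧
      A ≤ Subgroup.normalizer (W₁ : Set X) ∧ ¬ Q ≤ Subgroup.centralizer (W₁ : Set X)
  · obtain ⟨W₁, hlt, h1, h2, h3⟩ := hex
    have hcard : Nat.card ↥W₁ < n := by
      rw [← hn]
      exact Cfsg.Agent.Lib.Helper9.card_lt_of_le_of_ne hlt.le hlt.ne
    obtain ⟨u, hu, hu'⟩ := ih _ hcard W₁ rfl (hW.to_le hlt.le) h1 h2 h3
    exact ⟨u, hlt.le hu, hu'⟩
  · push Not at hex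
    -- coprimality
    obtain ⟨k, hk⟩ := IsPGroup.iff_card.mp hW
    have hcop : (Nat.card ↥Q).Coprime (Nat.card ↥W) := by
      rw [hk]
      exact Nat.Coprime.pow_right k ((Nat.Prime.coprime_iff_not_dvd hp).mpr hQ).symm
    have hWsolv : Group.IsSolvable ↥W := Cfsg.Agent.Lib.Helper9.isSolvable_of_isPGroup hW
    -- [W, Q] = W
    have hWQ : ⁅W, Q⁆ = W := by
      by_contra hne
      have hle : ⁅W, Q⁆ ≤ W := Cfsg.Agent.Lib.Helper9.commutator_le_left_of_le_normalizer hQW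
      have hlt : ⁅W, Q⁆ < W := lt_of_le_of_ne hle hne
      have h1 : Q ≤ Subgroup.centralizer ((⁅W, Q⁆ : Subgroup X) : Set X) :=
        hex _ hlt
          (fun q hq => Cfsg.Agent.Lib.Helper9.mem_normalizer_commutator (hQW hq)
            (Subgroup.le_normalizer hq))
          (fun a ha => Cfsg.Agent.Lib.Helper9.mem_normalizer_commutator (hAW ha) (hAQ ha))
      have h2 : ⁅⁅W, Q⁆, Q⁆ = ⊥ := by
        rw [Subgroup.commutator_comm, Subgroup.commutator_eq_bot_iff_le_centralizer]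
        exact h1
      have h3 := Cfsg.Agent.S0027.result Q W hQW hcop (Or.inr hWsolv)
      rw [h2] at h3
      apply hnc
      have h4 : ⁅Q, W⁆ = ⊥ := by rw [Subgroup.commutator_comm]; exact h3.symm
      exact Subgroup.commutator_eq_bot_iff_le_centralizer.mp h4
    -- W is nontrivial, so [W, W] < W
    have hWne : W ≠ ⊥ := by
      rintro rfl
      apply hnc
      intro q _
      rw [Subgroup.mem_centralizer_iff]
      intro w hw
      rw [SetLike.mem_coe, Subgroup.mem_bot] at hw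
      rw [hw, one_mul, mul_one]
    have hW'lt : ⁅W, W⁆ < W := by
      have hle : ⁅W, W⁆ ≤ W :=
        Cfsg.Agent.Lib.Helper9.commutator_le_left_of_le_normalizer Subgroup.le_normalizer
      refine lt_of_le_of_ne hle (fun heq => hWne ?_)
      exact Cfsg.Agent.Lib.Helper9.eq_bot_of_le_commutator_pGroup hW hW Subgroup.le_normalizer heq.ge
    have hQW' : Q ≤ Subgroup.centralizer ((⁅W, W⁆ : Subgroup X) : Set X) :=
      hex _ hW'lt
        (fun q hq => Cfsg.Agent.Lib.Helper9.mem_normalizer_commutator (hQW hq) (hQW hq))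
        (fun a ha => Cfsg.Agent.Lib.Helper9.mem_normalizer_commutator (hAW ha) (hAW ha))
    have hW''lt : ⁅⁅W, W⁆, W⁆ < W :=
      lt_of_le_of_lt (Cfsg.Agent.Lib.Helper9.commutator_le_left_of_le_normalizer
        (fun w hw => Cfsg.Agent.Lib.Helper9.mem_normalizer_commutator
          (Subgroup.le_normalizer hw) (Subgroup.le_normalizer hw))) hW'lt
    have hQW'' : Q ≤ Subgroup.centralizer ((⁅⁅W, W⁆, W⁆ : Subgroup X) : Set X) :=
      hex _ hW''lt
        (fun q hq => Cfsg.Agent.Lib.Helper9.mem_normalizer_commutator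
          (Cfsg.Agent.Lib.Helper9.mem_normalizer_commutator (hQW hq) (hQW hq)) (hQW hq))
        (fun a ha => Cfsg.Agent.Lib.Helper9.mem_normalizer_commutator
          (Cfsg.Agent.Lib.Helper9.mem_normalizer_commutator (hAW ha) (hAW ha)) (hAW ha))
    -- three subgroups: [W, [W, W]] = 1
    have h3s : ⁅⁅W, Q⁆, ⁅W, W⁆⁆ = ⊥ := by
      apply Subgroup.commutator_commutator_eq_bot_of_rotate
      · have : ⁅Q, ⁅W, W⁆⁆ = ⊥ := Subgroup.commutator_eq_bot_iff_le_centralizer.mpr hQW'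
        rw [this, Subgroup.commutator_bot_left]
      · rw [Subgroup.commutator_comm, Subgroup.commutator_eq_bot_iff_le_centralizer]
        exact hQW''
    rw [hWQ] at h3s
    have hcl : W ≤ Subgroup.centralizer ((⁅W, W⁆ : Subgroup X) : Set X) :=
      Subgroup.commutator_eq_bot_iff_le_centralizer.mp h3s
    have hc : ∀ x y z : ↥W, ⁅x, y⁆ * z = z * ⁅x, y⁆ := by
      intro x y z
      apply Subtype.ext
      have h1 : ((⁅x, y⁆ : ↥W) : X) = ⁅(x : X), (y : X)⁆ := by
        simp [commutatorElement_def]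
      rw [Subgroup.coe_mul, Subgroup.coe_mul, h1]
      have h2 := Subgroup.mem_centralizer_iff.mp (hcl z.2) _
        (Subgroup.commutator_mem_commutator x.2 y.2)
      exact h2
    -- odd order gives square roots
    have hodd : Odd (Nat.card ↥W) := by
      rw [hk]
      exact Odd.pow (hp.odd_of_ne_two hp2)
    obtain ⟨t, ht⟩ := hodd
    have hsq : ∀ x : ↥W, (x ^ (t + 1)) ^ 2 = x := by
      intro x
      rw [← pow_mul]
      have h1 : (t + 1) * 2 = Nat.card ↥W + 1 := by omega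
      rw [h1, pow_succ, pow_card_eq_one', one_mul]
    let _ : Fintype ↥Q := Fintype.ofFinite _
    have hI : ¬ p ∣ Fintype.card ↥Q := by
      rw [← Nat.card_eq_fintype_card]; exact hQ
    let φ : ↥Q → MulAut ↥W := fun q => conjW W q.1 (hQW q.2)
    let ψ : ↥A →* MulAut ↥W :=
      { toFun := fun a => conjW W a.1 (hAW a.2)
        map_one' := by
          ext w
          simp [conjW_coe]
        map_mul' := fun a b => by
          ext w
          simp [conjW_coe, mul_assoc] }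
    have hφ : ∀ i₀ : ↥Q, ∃ σ : Equiv.Perm ↥Q, ∀ i v, φ i (φ i₀ v) = φ (σ i) v := by
      intro i₀
      refine ⟨Equiv.mulRight i₀, fun i v => ?_⟩
      apply Subtype.ext
      simp [φ, conjW_coe, mul_assoc]
    have hψ : ∀ a : ↥A, ∃ σ : Equiv.Perm ↥Q, ∀ i v, ψ a (φ i v) = φ (σ i) (ψ a v) := by
      intro a
      refine ⟨(conjW Q a.1 (hAQ a.2)).toEquiv, fun i v => ?_⟩
      apply Subtype.ext
      simp [φ, ψ, conjW_coe, mul_assoc]
    have hne : ∃ i v, φ i v ≠ v := by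
      by_contra hall
      push Not at hall
      apply hnc
      intro q hq
      rw [Subgroup.mem_centralizer_iff]
      intro w hw
      have h1 := congrArg Subtype.val (hall ⟨q, hq⟩ ⟨w, hw⟩)
      simp only [φ, conjW_coe] at h1
      nth_rewrite 1 [← h1]
      simp
    obtain ⟨u, hu1, hup, hua, i, hui⟩ := abs_lemma p hW (t + 1) hsq hc φ hφ hAp ψ hψ hI hne
    refine ⟨u.1, u.2, ?_, ?_, ?_⟩
    · apply orderOf_eq_prime
      · have := congrArg Subtype.val hup
        simpa using this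
      · intro h1
        exact hu1 (Subtype.ext h1)
    · rw [Subgroup.mem_centralizer_iff]
      intro a ha
      have h1 := congrArg Subtype.val (hua ⟨a, ha⟩)
      simp only [ψ, MonoidHom.coe_mk, OneHom.coe_mk, conjW_coe] at h1
      calc a * (u : X) = (a * (u : X) * a⁻¹) * a := by group
        _ = (u : X) * a := by rw [h1]
    · intro hcen
      apply hui
      apply Subtype.ext
      rw [conjW_coe]
      have h1 := Subgroup.mem_centralizer_iff.mp hcen i.1 i.2
      rw [h1]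
      simp

end AmbSec


section MainSec

theorem core_case {X : Type u} [Group X] [Finite X] (p : ℕ) [Fact p.Prime] (hp2 : p ≠ 2)
    (P : Subgroup X) [hPn : P.Normal] (hP : IsPGroup p ↥P)
    (hCP : Subgroup.centralizer (P : Set X) ≤ P)
    (A : Subgroup X) (hAp : IsPGroup p ↥A)
    (hΩ : ∀ x ∈ Subgroup.centralizer (A : Set X), orderOf x = p → x ∈ A)
    (Q : Subgroup X) (hQ : ¬ p ∣ Nat.card ↥Q) (hAQ : A ≤ Subgroup.normalizer (Q : Set X)) :
    Q = ⊥ := by
  have hp : p.Prime := Fact.out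
  by_contra hQne
  obtain ⟨k, hk⟩ := IsPGroup.iff_card.mp hP
  have hPQ : P ⊓ Q = ⊥ := by
    apply Subgroup.inf_eq_bot_of_coprime
    rw [hk]
    exact Nat.Coprime.pow_left k ((Nat.Prime.coprime_iff_not_dvd hp).mpr hQ)
  have hnc : ¬ Q ≤ Subgroup.centralizer (P : Set X) := by
    intro h
    apply hQne
    have h1 : Q ≤ P ⊓ Q := le_inf (h.trans hCP) le_rfl
    rw [hPQ] at h1
    exact le_bot_iff.mp h1
  have hN : Subgroup.normalizer (P : Set X) = ⊤ := Subgroup.normalizer_eq_top P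
  obtain ⟨u, huP, huo, huA, huQ⟩ := exists_fixed_not_centralized p hp2 Q A hQ hAp hAQ _ P rfl hP
    (by rw [hN]; exact le_top) (by rw [hN]; exact le_top) hnc
  have huA' : u ∈ A := hΩ u huA huo
  apply huQ
  rw [Subgroup.mem_centralizer_iff]
  intro q hq
  have h1 : u * q * u⁻¹ * q⁻¹ ∈ P ⊓ Q := by
    constructor
    · have h2 : q * u⁻¹ * q⁻¹ ∈ P := hPn.conj_mem _ (P.inv_mem huP) q
      have e : u * q * u⁻¹ * q⁻¹ = u * (q * u⁻¹ * q⁻¹) := by group
      rw [e]; exact mul_mem huP h2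
    · have h2 : u * q * u⁻¹ ∈ Q := (Subgroup.mem_normalizer_iff.mp (hAQ huA') q).mp hq
      exact Q.mul_mem h2 (Q.inv_mem hq)
  rw [hPQ, Subgroup.mem_bot] at h1
  have e : u * q = (u * q * u⁻¹ * q⁻¹) * (q * u) := by group
  rw [e, h1, one_mul]

end MainSec

/-- Let X be a finite p-constrained group, p an odd prime, and A an abelian p-subgroup of X containing every element of order p of C_X(A). Then every subgroup of X of order prime to p that is normalized by A lies in O_{p'}(X). -/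
theorem result {X : Type*} [Group X] [Finite X] (p : ℕ) [Fact p.Prime] (hp : p ≠ 2) (hX : Cfsg.IsPConstrained p X) (A : Subgroup X) (hA : IsMulCommutative ↥A) (hAp : IsPGroup p ↥A) (hΩ : ∀ x ∈ Subgroup.centralizer (A : Set X), orderOf x = p → x ∈ A) (Q : Subgroup X) (hQ : ¬ p ∣ Nat.card ↥Q) (hAQ : A ≤ Subgroup.normalizer (Q : Set X)) : Q ≤ Cfsg.pPrimeCore p X := by
  classical
  have hpp : p.Prime := Fact.out
  have hOcop := Cfsg.Agent.Lib.Helper9.pPrimeCore_coprime p X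
  have hbot := Cfsg.Agent.Lib.Helper9.pPrimeCore_quotient_eq_bot p X
  have hPP := Cfsg.Agent.S0630.pPrimePCore_eq_pCore p hbot
  have hXbar := Cfsg.Agent.S0630.result.mp hX
  have hQp : IsPGroup p ↥(pPrimePCore p (X ⧸ pPrimeCore p X)) := by
    rw [hPP]; exact Cfsg.Agent.Lib.Helper9.pCore_isPGroup p _
  have h3 : (⊤ : Subgroup ↥(pPrimePCore p (X ⧸ pPrimeCore p X))).map
      (pPrimePCore p (X ⧸ pPrimeCore p X)).subtype = pPrimePCore p (X ⧸ pPrimeCore p X) := by
    rw [← MonoidHom.range_eq_map, Subgroup.range_subtype]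
  obtain ⟨Pb⟩ : Nonempty (Sylow p ↥(pPrimePCore p (X ⧸ pPrimeCore p X))) := Sylow.nonempty
  have hCP := hXbar Pb
  rw [Cfsg.Agent.S0630.sylow_eq_top_of_isPGroup hQp Pb, h3, hPP] at hCP
  have hQbar : Q.map (QuotientGroup.mk' (pPrimeCore p X)) = ⊥ := by
    apply core_case p hp (pCore p (X ⧸ pPrimeCore p X)) (Cfsg.Agent.Lib.Helper9.pCore_isPGroup p _) hCP
      (A.map (QuotientGroup.mk' (pPrimeCore p X))) (hAp.map _) ?_
      (Q.map (QuotientGroup.mk' (pPrimeCore p X))) ?_ ?_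
    · intro xb hxb hxo
      obtain ⟨g, rfl⟩ := QuotientGroup.mk'_surjective _ xb
      obtain ⟨u, hu, hc⟩ := Cfsg.Agent.Lib.Helper4.PPrimeQuot.cent_lift hOcop hAp g hxb
      have hu1 : QuotientGroup.mk' (pPrimeCore p X) u = 1 := (QuotientGroup.eq_one_iff u).mpr hu
      have hπc : QuotientGroup.mk' (pPrimeCore p X) (u * g) = QuotientGroup.mk' (pPrimeCore p X) g := by
        rw [map_mul, hu1, one_mul]
      set c := u * g with hcdef
      set xb := QuotientGroup.mk' (pPrimeCore p X) g with hxbdef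
      have hcpO : c ^ p ∈ pPrimeCore p X := by
        have h0 : xb ^ p = 1 := by
          have h00 := pow_orderOf_eq_one xb
          rwa [hxo] at h00
        rw [← QuotientGroup.eq_one_iff, ← QuotientGroup.mk'_apply, map_pow, hπc]
        exact h0
      have hcpN : (c ^ p) ^ Nat.card ↥(pPrimeCore p X) = 1 := by
        have h1 := pow_card_eq_one' (G := ↥(pPrimeCore p X)) (x := ⟨c ^ p, hcpO⟩)
        exact congrArg Subtype.val h1
      obtain ⟨k, -, hk⟩ := Nat.exists_mul_mod_eq_one_of_coprime hOcop hpp.one_lt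
      have hc'p : (c ^ (Nat.card ↥(pPrimeCore p X) * k)) ^ p = 1 := by
        rw [← pow_mul, mul_comm, pow_mul, pow_mul, hcpN, one_pow]
      have hπc' : QuotientGroup.mk' (pPrimeCore p X) (c ^ (Nat.card ↥(pPrimeCore p X) * k)) = xb := by
        rw [map_pow, hπc, ← pow_mod_orderOf, hxo, hk, pow_one]
      have hc'1 : c ^ (Nat.card ↥(pPrimeCore p X) * k) ≠ 1 := by
        intro h1
        rw [h1, map_one] at hπc'
        have h2 : orderOf xb = 1 := by rw [← hπc']; exact orderOf_one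
        rw [hxo] at h2
        exact hpp.one_lt.ne' h2
      have hc'A : c ^ (Nat.card ↥(pPrimeCore p X) * k) ∈ A :=
        hΩ _ (pow_mem hc _) (orderOf_eq_prime hc'p hc'1)
      rw [← hπc']
      exact Subgroup.mem_map_of_mem _ hc'A
    · intro h
      exact hQ (h.trans (Subgroup.card_map_dvd _ _))
    · exact (Subgroup.map_mono hAQ).trans (Subgroup.le_normalizer_map _)
  intro q hq
  have h1 : QuotientGroup.mk' (pPrimeCore p X) q ∈ Q.map (QuotientGroup.mk' (pPrimeCore p X)) :=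
    Subgroup.mem_map_of_mem _ hq
  rw [hQbar, Subgroup.mem_bot] at h1
  exact (QuotientGroup.eq_one_iff q).mp h1

end Cfsg.Agent.S1302
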