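import Mathlib
import Cfsg.Statements.S0219

set_option autoImplicit false
open Cfsg

namespace Cfsg.Agent.S0219

/-- A cyclic group of even order has a subgroup of index two. -/
theorem exists_index_two_of_isCyclic {C : Type*} [Group C] [Finite C] [IsCyclic C]
    (h : Even (Nat.card C)) : ∃ H : Subgroup C, H.index = 2 := by
  obtain ⟨g, hg⟩ := IsCyclic.exists_generator (α := C)
  have hord : orderOf g = Nat.card C := orderOf_eq_card_of_forall_mem_zpowers hg
  refine ⟨Subgroup.zpowers (g ^ 2), ?_⟩
  have h1 : Nat.card (Subgroup.zpowers (g ^ 2)) = Nat.card C / 2 := by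
    rw [Nat.card_zpowers, orderOf_pow, hord]
    congr 1
    exact Nat.gcd_eq_right (even_iff_two_dvd.mp h)
  have h2 := Subgroup.card_mul_index (Subgroup.zpowers (g ^ 2))
  rw [h1] at h2
  obtain ⟨k, hk⟩ := h
  have hpos : 0 < Nat.card C := Nat.card_pos
  rw [hk] at h2
  have h3 : (k + k) / 2 = k := by omega
  rw [h3] at h2
  have hk0 : 0 < k := by omega
  have : k * (Subgroup.zpowers (g ^ 2)).index = k * 2 := by rw [h2]; ring
  exact Nat.eq_of_mul_eq_mul_left hk0 this

/-- If a finite group has even order and a cyclic Sylow 2-subgroup, then it has a subgroup of index 2 (consider the parity of permutations in the regular representation). -/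
theorem result {G : Type*} [Group G] [Finite G] (heven : Even (Nat.card G)) (T : Sylow 2 G) (hT : IsCyclic (T : Subgroup G)) : ∃ H : Subgroup G, H.index = 2 := by
  have h2 : (Nat.card G).minFac = 2 := (Nat.minFac_eq_two_iff _).mpr (even_iff_two_dvd.mp heven)
  have hcompl := IsCyclic.isComplement' h2 hT
  set f := MonoidHom.transferSylow T (hT.normalizer_le_centralizer h2) with hf
  -- f is surjective
  have hcard : Nat.card f.ker * Nat.card (T : Subgroup G) = Nat.card G := hcompl.card_mul
  have hsurj : Function.Surjective f := by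
    rw [← MonoidHom.range_eq_top]
    apply Subgroup.eq_top_of_card_eq
    have h3 : Nat.card f.range * Nat.card f.ker = Nat.card G := by
      rw [← Nat.card_congr (QuotientGroup.quotientKerEquivRange f).toEquiv, mul_comm]
      exact (Subgroup.card_eq_card_quotient_mul_card_subgroup f.ker).symm ▸ (mul_comm _ _)
    have hkpos : 0 < Nat.card f.ker := Nat.card_pos
    have : Nat.card f.range * Nat.card f.ker = Nat.card (T : Subgroup G) * Nat.card f.ker := by
      rw [h3, ← hcard, mul_comm]
    exact Nat.eq_of_mul_eq_mul_right hkpos this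
  have hTeven : Even (Nat.card (T : Subgroup G)) := by
    rw [even_iff_two_dvd]
    have hdvd : 2 ∣ Nat.card G := even_iff_two_dvd.mp heven
    exact T.dvd_card_of_dvd_card hdvd
  haveI : IsCyclic (T : Subgroup G) := hT
  obtain ⟨H, hH⟩ := exists_index_two_of_isCyclic (C := (T : Subgroup G)) hTeven
  refine ⟨H.comap f, ?_⟩
  rw [Subgroup.index_comap_of_surjective H hsurj, hH]

end Cfsg.Agent.S0219
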