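import Cfsg.Statements.S2331
import Cfsg.Agent.Lib.Helper14.GL2Conj

set_option autoImplicit false
open Cfsg

namespace Cfsg.Agent.S2331

open Cfsg.Agent.Lib.Helper14.GL2Conj

variable {F : Type*} [Field F]

theorem eq_one_of_scalar [CharP F 2] (g : Matrix.SpecialLinearGroup (Fin 2) F)
    (h : IsScalarMat (g : Matrix (Fin 2) (Fin 2) F)) : g = 1 := by
  obtain ⟨s, hs⟩ := h
  have hd := g.det_coe
  rw [hs] at hd
  have hs2 : s = 1 ∨ s = -1 := by
    simpa [Matrix.det_fin_two] using hd
  have hs1 : s = 1 := by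
    rcases hs2 with h | h
    · exact h
    · rw [h, CharTwo.neg_eq]
  apply Subtype.ext
  rw [hs, hs1]
  simp

noncomputable def Phi (g : Matrix.SpecialLinearGroup (Fin 2) F) : Option F := by
  classical
  exact if g = 1 then none else some (g : Matrix (Fin 2) (Fin 2) F).trace

theorem Phi_one : Phi (1 : Matrix.SpecialLinearGroup (Fin 2) F) = none := by
  unfold Phi
  simp

theorem Phi_ne_one (g : Matrix.SpecialLinearGroup (Fin 2) F) (h : g ≠ 1) :
    Phi g = some (g : Matrix (Fin 2) (Fin 2) F).trace := by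
  unfold Phi
  simp [h]

theorem Phi_conj (a b : Matrix.SpecialLinearGroup (Fin 2) F) (h : IsConj a b) : Phi a = Phi b := by
  obtain ⟨c, hc⟩ := isConj_iff.mp h
  by_cases ha : a = 1
  · subst ha
    have : b = 1 := by rw [← hc]; group
    rw [this]
  · have hb : b ≠ 1 := by
      intro hb
      apply ha
      rw [hb] at hc
      have : a = c⁻¹ * (c * a * c⁻¹) * c := by group
      rw [this, hc]
      group
    rw [Phi_ne_one a ha, Phi_ne_one b hb, ← hc]
    congr 1
    simp only [Matrix.SpecialLinearGroup.coe_mul]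
    rw [Matrix.trace_mul_comm, ← Matrix.mul_assoc, ← Matrix.SpecialLinearGroup.coe_mul, inv_mul_cancel]
    simp

theorem Phi_inj [Finite F] [CharP F 2] (a b : Matrix.SpecialLinearGroup (Fin 2) F) (h : Phi a = Phi b) :
    IsConj a b := by
  by_cases ha : a = 1
  · by_cases hb : b = 1
    · rw [ha, hb]
    · rw [ha, Phi_one, Phi_ne_one b hb] at h
      exact absurd h (by simp)
  · by_cases hb : b = 1
    · rw [hb, Phi_one, Phi_ne_one a ha] at h
      exact absurd h (by simp)
    · rw [Phi_ne_one a ha, Phi_ne_one b hb] at h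
      have htr : (a : Matrix (Fin 2) (Fin 2) F).trace = (b : Matrix (Fin 2) (Fin 2) F).trace :=
        Option.some_injective _ h
      have hdet : (a : Matrix (Fin 2) (Fin 2) F).det = (b : Matrix (Fin 2) (Fin 2) F).det := by
        rw [a.det_coe, b.det_coe]
      have hsa : ¬ IsScalarMat (a : Matrix (Fin 2) (Fin 2) F) := fun hs => ha (eq_one_of_scalar a hs)
      have hsb : ¬ IsScalarMat (b : Matrix (Fin 2) (Fin 2) F) := fun hs => hb (eq_one_of_scalar b hs)
      obtain ⟨R, hR, hRel⟩ := exists_conj _ _ hsa hsb htr hdet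
      obtain ⟨l, hl⟩ := FiniteField.isSquare_of_char_two (ringChar.eq F 2) (R.det)⁻¹
      have hdet1 : (l • R).det = 1 := by
        rw [Matrix.det_smul, Fintype.card_fin, pow_two, ← hl]
        exact inv_mul_cancel₀ hR
      rw [isConj_iff]
      let c : Matrix.SpecialLinearGroup (Fin 2) F := ⟨l • R, hdet1⟩
      have hc : c * a = b * c := by
        apply Subtype.ext
        simp only [Matrix.SpecialLinearGroup.coe_mul]
        change (l • R) * (a : Matrix (Fin 2) (Fin 2) F) = (b : Matrix (Fin 2) (Fin 2) F) * (l • R)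
        rw [Matrix.smul_mul, hRel, Matrix.mul_smul]
      exact ⟨c, by rw [mul_inv_eq_iff_eq_mul]; exact hc⟩

theorem Phi_surj : Function.Surjective (Phi (F := F)) := by
  rintro (_ | t)
  · exact ⟨1, Phi_one⟩
  · have hd : (comp t (1 : F)).det = 1 := comp_det t 1
    let g : Matrix.SpecialLinearGroup (Fin 2) F := ⟨comp t 1, hd⟩
    have hg : (g : Matrix (Fin 2) (Fin 2) F) = comp t 1 := rfl
    have hne : g ≠ 1 := by
      intro h
      have h1 : (g : Matrix (Fin 2) (Fin 2) F) 1 0 = (1 : Matrix (Fin 2) (Fin 2) F) 1 0 := by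
        rw [h]; rfl
      rw [hg] at h1
      simp [comp] at h1
    refine ⟨g, ?_⟩
    rw [Phi_ne_one _ hne, hg]
    congr 1
    exact comp_trace t 1

noncomputable def classEquiv [Finite F] [CharP F 2] :
    ConjClasses (Matrix.SpecialLinearGroup (Fin 2) F) ≃ Option F :=
  Equiv.ofBijective (Quotient.lift Phi (fun a b h => Phi_conj a b h)) (by
    constructor
    · intro x y
      induction x using Quotient.inductionOn with | _ a => ?_
      induction y using Quotient.inductionOn with | _ b => ?_
      intro h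
      exact Quotient.sound (Phi_inj a b h)
    · intro y
      obtain ⟨g, hg⟩ := Phi_surj y
      exact ⟨Quotient.mk _ g, hg⟩)

theorem result {F : Type*} [Field F] [Fintype F] [CharP F 2] :
    Nat.card (ConjClasses (Matrix.SpecialLinearGroup (Fin 2) F)) = Fintype.card F + 1 := by
  rw [Nat.card_congr classEquiv, Nat.card_eq_fintype_card, Fintype.card_option]

end Cfsg.Agent.S2331
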