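import Cfsg.Statements.S2507
import Cfsg.Agent.S2331
import Cfsg.Agent.Lib.Helper14.ClassSize

set_option autoImplicit false
open Cfsg

namespace Cfsg.Agent.S2507

open Cfsg.Agent.Lib.Helper14.GL2Conj Cfsg.Agent.Lib.Helper14.ClassSize

variable {F : Type*} [Field F]

theorem charTwo_of_dvd [Fintype F] (h2 : 2 ∣ Fintype.card F) : CharP F 2 := by
  obtain ⟨p, hp⟩ := CharP.exists F
  obtain ⟨n, hpr, hn⟩ := FiniteField.card F p
  rw [hn] at h2
  have h3 : 2 ∣ p := Nat.Prime.dvd_of_dvd_pow Nat.prime_two h2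
  have h4 : 2 = p := (Nat.prime_dvd_prime_iff_eq Nat.prime_two hpr).mp h3
  rw [h4]
  exact hp

theorem conj_iff [Finite F] [CharP F 2] (g h : Matrix.SpecialLinearGroup (Fin 2) F) (hg : g ≠ 1) :
    IsConj g h ↔ (h ≠ 1 ∧ (h : Matrix (Fin 2) (Fin 2) F) 0 0 + (h : Matrix (Fin 2) (Fin 2) F) 1 1 =
      (g : Matrix (Fin 2) (Fin 2) F) 0 0 + (g : Matrix (Fin 2) (Fin 2) F) 1 1) := by
  constructor
  · intro hc
    have h1 := Cfsg.Agent.S2331.Phi_conj g h hc
    rw [Cfsg.Agent.S2331.Phi_ne_one g hg] at h1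
    have hh : h ≠ 1 := by
      intro hh
      rw [hh, Cfsg.Agent.S2331.Phi_one] at h1
      exact absurd h1 (by simp)
    rw [Cfsg.Agent.S2331.Phi_ne_one h hh] at h1
    have h2 := Option.some_injective _ h1
    rw [Matrix.trace_fin_two, Matrix.trace_fin_two] at h2
    exact ⟨hh, h2.symm⟩
  · rintro ⟨hh, htr⟩
    apply Cfsg.Agent.S2331.Phi_inj
    rw [Cfsg.Agent.S2331.Phi_ne_one g hg, Cfsg.Agent.S2331.Phi_ne_one h hh, Matrix.trace_fin_two,
      Matrix.trace_fin_two, htr]

theorem class_ncard_ne_zero [Fintype F] [CharP F 2] (g : Matrix.SpecialLinearGroup (Fin 2) F) (t : F)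
    (ht : (g : Matrix (Fin 2) (Fin 2) F) 0 0 + (g : Matrix (Fin 2) (Fin 2) F) 1 1 = t) (ht0 : t ≠ 0) :
    (Subgroup.centralizer ({g} : Set (Matrix.SpecialLinearGroup (Fin 2) F))).index =
      Nat.card {p : F // p * (t - p) = 1} * Fintype.card F + Fintype.card F * (Fintype.card F - 1) := by
  have hg : g ≠ 1 := by
    intro hg
    rw [hg] at ht
    apply ht0
    rw [← ht]
    simp [CharTwo.add_self_eq_zero]
  rw [index_centralizer_eq_ncard, ← card_trace_eq t, ← Nat.card_coe_set_eq]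
  apply Nat.card_congr
  apply Equiv.subtypeEquivRight
  intro h
  change IsConj g h ↔ _
  rw [conj_iff g h hg, ht]
  constructor
  · exact fun h1 => h1.2
  · intro h1
    refine ⟨?_, h1⟩
    intro hh
    rw [hh] at h1
    apply ht0
    rw [← h1]
    simp [CharTwo.add_self_eq_zero]

theorem class_ncard_zero [Fintype F] [CharP F 2] (g : Matrix.SpecialLinearGroup (Fin 2) F) (hg : g ≠ 1)
    (ht : (g : Matrix (Fin 2) (Fin 2) F) 0 0 + (g : Matrix (Fin 2) (Fin 2) F) 1 1 = 0) :
    (Subgroup.centralizer ({g} : Set (Matrix.SpecialLinearGroup (Fin 2) F))).index =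
      Nat.card {p : F // p * (0 - p) = 1} * Fintype.card F + Fintype.card F * (Fintype.card F - 1) - 1 := by
  rw [index_centralizer_eq_ncard, ← card_trace_eq (0 : F)]
  have h1 : {h : Matrix.SpecialLinearGroup (Fin 2) F | IsConj g h} =
      {h : Matrix.SpecialLinearGroup (Fin 2) F |
        (h : Matrix (Fin 2) (Fin 2) F) 0 0 + (h : Matrix (Fin 2) (Fin 2) F) 1 1 = 0} \ {1} := by
    ext h
    change IsConj g h ↔ _
    rw [conj_iff g h hg, ht]
    simp only [Set.mem_sdiff, Set.mem_singleton_iff]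
    change _ ↔ ((h : Matrix (Fin 2) (Fin 2) F) 0 0 + (h : Matrix (Fin 2) (Fin 2) F) 1 1 = 0 ∧ ¬ h = 1)
    constructor
    · rintro ⟨h1, h2⟩
      exact ⟨h2, h1⟩
    · rintro ⟨h1, h2⟩
      exact ⟨h2, h1⟩
  rw [h1, Set.ncard_sdiff_singleton_of_mem, ← Nat.card_coe_set_eq]
  · rfl
  · show ((1 : Matrix.SpecialLinearGroup (Fin 2) F) : Matrix (Fin 2) (Fin 2) F) 0 0 +
      ((1 : Matrix.SpecialLinearGroup (Fin 2) F) : Matrix (Fin 2) (Fin 2) F) 1 1 = 0
    simp [CharTwo.add_self_eq_zero]

theorem roots_zero [CharP F 2] : Nat.card {p : F // p * (0 - p) = 1} = 1 := by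
  rw [Nat.card_eq_one_iff_exists]
  refine ⟨⟨1, by simp [CharTwo.neg_eq]⟩, ?_⟩
  rintro ⟨p, hp⟩
  apply Subtype.ext
  show p = 1
  have h1 : p * p = 1 := by
    rw [zero_sub, CharTwo.neg_eq] at hp
    exact hp
  have h2 : (p + 1) ^ 2 = 0 := by
    rw [CharTwo.add_sq, pow_two, h1]
    simp [CharTwo.add_self_eq_zero]
  have h3 : p + 1 = 0 := by simpa using h2
  exact (CharTwo.add_eq_zero.mp h3)

theorem roots_two [CharP F 2] (t : F) (ht : t ≠ 0) (r : F) (hr : r * (t - r) = 1) :
    Nat.card {p : F // p * (t - p) = 1} = 2 := by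
  rw [Nat.card_eq_two_iff]
  have hr' : (t - r) * (t - (t - r)) = 1 := by
    rw [← hr]; ring
  refine ⟨⟨r, hr⟩, ⟨t - r, hr'⟩, ?_, ?_⟩
  · intro h
    have h1 : r = t - r := congrArg Subtype.val h
    apply ht
    have h2 : t = r + r := by rw [eq_sub_iff_add_eq] at h1; exact h1.symm
    rw [h2, CharTwo.add_self_eq_zero]
  · ext ⟨p, hp⟩
    simp only [Set.mem_insert_iff, Set.mem_singleton_iff, Set.mem_univ, iff_true, Subtype.mk.injEq]
    have h1 : (p - r) * (t - p - r) = 0 := by
      have : (p - r) * (t - p - r) = p * (t - p) - r * (t - r) := by ring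
      rw [this, hp, hr, sub_self]
    rcases mul_eq_zero.mp h1 with h | h
    · left
      exact sub_eq_zero.mp h
    · right
      have : t - p - r = (t - r) - p := by ring
      rw [this] at h
      exact (sub_eq_zero.mp h).symm

theorem roots_none (t : F) (ht : ∀ r : F, r * (t - r) ≠ 1) :
    Nat.card {p : F // p * (t - p) = 1} = 0 := by
  have : IsEmpty {p : F // p * (t - p) = 1} := ⟨fun p => ht p.1 p.2⟩
  exact Nat.card_of_isEmpty

theorem exists_split [Fintype F] [CharP F 2] (h4 : 4 ≤ Fintype.card F) :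
    ∃ t : F, t ≠ 0 ∧ ∃ r : F, r * (t - r) = 1 := by
  classical
  have h1 : ∃ r : F, r ≠ 0 ∧ r ≠ 1 := by
    by_contra hcon
    have h2 : ∀ r : F, r = 0 ∨ r = 1 := by
      intro r
      by_contra h3
      apply hcon
      exact ⟨r, fun h => h3 (Or.inl h), fun h => h3 (Or.inr h)⟩
    have h3 : (Finset.univ : Finset F) ⊆ {0, 1} := by
      intro r _
      rcases h2 r with h | h <;> simp [h]
    have h5 := Finset.card_le_card h3
    rw [Finset.card_univ] at h5
    have h6 : ({0, 1} : Finset F).card ≤ 2 := Finset.card_insert_le _ _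
    omega
  obtain ⟨r, hr0, hr1⟩ := h1
  refine ⟨r + r⁻¹, ?_, r, ?_⟩
  · intro h
    have h2 : r = r⁻¹ := CharTwo.add_eq_zero.mp h
    have h3 : r * r = 1 := by
      nth_rewrite 2 [h2]
      exact mul_inv_cancel₀ hr0
    have h4 : (r + 1) ^ 2 = 0 := by
      rw [CharTwo.add_sq, pow_two, h3]
      simp [CharTwo.add_self_eq_zero]
    have h5 : r + 1 = 0 := by simpa using h4
    exact hr1 (CharTwo.add_eq_zero.mp h5)
  · rw [add_sub_cancel_left]
    exact mul_inv_cancel₀ hr0

theorem exists_nonsplit [Finite F] [CharP F 2] :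
    ∃ t : F, ∀ r : F, r * (t - r) ≠ 1 := by
  have h1 : ¬ Function.Injective (fun r : F => r + r⁻¹) := by
    intro hinj
    have h2 : (0 : F) = 1 := by
      apply hinj
      simp [CharTwo.add_self_eq_zero]
    exact zero_ne_one h2
  have h2 : ¬ Function.Surjective (fun r : F => r + r⁻¹) := fun hs =>
    h1 (Finite.injective_iff_surjective.mpr hs)
  rw [Function.Surjective] at h2
  rw [not_forall] at h2
  obtain ⟨t, ht⟩ := h2
  refine ⟨t, ?_⟩
  intro r hr
  apply ht
  refine ⟨r, ?_⟩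
  have hr0 : r ≠ 0 := by
    intro h
    rw [h, zero_mul] at hr
    exact zero_ne_one hr
  have h3 : t - r = r⁻¹ := eq_inv_of_mul_eq_one_right hr
  show r + r⁻¹ = t
  rw [← h3]
  ring

theorem center_eq_bot [CharP F 2] :
    Subgroup.center (Matrix.SpecialLinearGroup (Fin 2) F) = ⊥ := by
  rw [eq_bot_iff]
  intro A hA
  rw [Matrix.SpecialLinearGroup.mem_center_iff] at hA
  obtain ⟨r, hr, hA⟩ := hA
  rw [Subgroup.mem_bot]
  have h2 : (r + 1) ^ 2 = 0 := by
    rw [CharTwo.add_sq]
    simp only [Fintype.card_fin] at hr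
    rw [hr]
    simp [CharTwo.add_self_eq_zero]
  have h3 : r + 1 = 0 := by simpa using h2
  have h4 : r = 1 := CharTwo.add_eq_zero.mp h3
  apply Subtype.ext
  rw [← hA, h4]
  simp

noncomputable def pslEquiv [CharP F 2] :
    Matrix.SpecialLinearGroup (Fin 2) F ≃* Matrix.ProjectiveSpecialLinearGroup (Fin 2) F :=
  (QuotientGroup.quotientBot.symm).trans (QuotientGroup.quotientMulEquivOfEq center_eq_bot.symm)

theorem comp_mem (t : F) : ∃ g : Matrix.SpecialLinearGroup (Fin 2) F, g ≠ 1 ∧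
    (g : Matrix (Fin 2) (Fin 2) F) 0 0 + (g : Matrix (Fin 2) (Fin 2) F) 1 1 = t := by
  have hd : (comp t (1 : F)).det = 1 := comp_det t 1
  let g : Matrix.SpecialLinearGroup (Fin 2) F := ⟨comp t 1, hd⟩
  have hg : (g : Matrix (Fin 2) (Fin 2) F) = comp t 1 := rfl
  refine ⟨g, ?_, ?_⟩
  · intro h
    have h1 : (g : Matrix (Fin 2) (Fin 2) F) 1 0 = (1 : Matrix (Fin 2) (Fin 2) F) 1 0 := by
      rw [h]; rfl
    rw [hg] at h1
    simp [comp] at h1
  · rw [hg]
    simp [comp]

theorem result {F : Type*} [Field F] [Fintype F]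
    (h2 : 2 ∣ Fintype.card F) (h4 : 4 ≤ Fintype.card F) :
    Set.range (fun g : (Matrix.ProjectiveSpecialLinearGroup (Fin 2) F) => (Subgroup.centralizer ({g} : Set (Matrix.ProjectiveSpecialLinearGroup (Fin 2) F))).index) =
      {1, Fintype.card F * (Fintype.card F - 1), Fintype.card F ^ 2 - 1, Fintype.card F * (Fintype.card F + 1)} := by
  have hchar : CharP F 2 := charTwo_of_dvd h2
  rw [range_index_centralizer_mulEquiv (pslEquiv (F := F))]
  obtain ⟨m, hm⟩ : ∃ m, Fintype.card F = m + 4 := ⟨Fintype.card F - 4, by omega⟩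
  have e1 : 1 * Fintype.card F + Fintype.card F * (Fintype.card F - 1) - 1 = Fintype.card F ^ 2 - 1 := by
    rw [hm]
    simp only [show m + 4 - 1 = m + 3 from rfl]
    congr 1
    ring
  have e2 : 2 * Fintype.card F + Fintype.card F * (Fintype.card F - 1) =
      Fintype.card F * (Fintype.card F + 1) := by
    rw [hm]
    simp only [show m + 4 - 1 = m + 3 from rfl]
    ring
  have e0 : 0 * Fintype.card F + Fintype.card F * (Fintype.card F - 1) =
      Fintype.card F * (Fintype.card F - 1) := by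
    rw [zero_mul, zero_add]
  ext n
  simp only [Set.mem_range, Set.mem_insert_iff, Set.mem_singleton_iff]
  constructor
  · rintro ⟨g, rfl⟩
    by_cases hg : g = 1
    · left
      rw [hg]
      have : Subgroup.centralizer ({1} : Set (Matrix.SpecialLinearGroup (Fin 2) F)) = ⊤ := by
        rw [eq_top_iff]
        intro x _
        rw [Subgroup.mem_centralizer_iff]
        intro y hy
        rw [Set.mem_singleton_iff] at hy
        rw [hy, mul_one, one_mul]
      rw [this, Subgroup.index_top]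
    · by_cases ht : (g : Matrix (Fin 2) (Fin 2) F) 0 0 + (g : Matrix (Fin 2) (Fin 2) F) 1 1 = 0
      · right; right; left
        rw [class_ncard_zero g hg ht, roots_zero, e1]
      · by_cases hr : ∃ r : F, r * ((g : Matrix (Fin 2) (Fin 2) F) 0 0 + (g : Matrix (Fin 2) (Fin 2) F) 1 1 - r) = 1
        · obtain ⟨r, hr⟩ := hr
          right; right; right
          rw [class_ncard_ne_zero g _ rfl ht, roots_two _ ht r hr, e2]
        · right; left
          rw [not_exists] at hr
          rw [class_ncard_ne_zero g _ rfl ht, roots_none _ hr, e0]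
  · rintro (h | h | h | h)
    · refine ⟨1, ?_⟩
      have : Subgroup.centralizer ({1} : Set (Matrix.SpecialLinearGroup (Fin 2) F)) = ⊤ := by
        rw [eq_top_iff]
        intro x _
        rw [Subgroup.mem_centralizer_iff]
        intro y hy
        rw [Set.mem_singleton_iff] at hy
        rw [hy, mul_one, one_mul]
      rw [this, Subgroup.index_top, h]
    · obtain ⟨t, ht⟩ := exists_nonsplit (F := F)
      have ht0 : t ≠ 0 := by
        intro h0
        apply ht 1
        rw [h0]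
        simp [CharTwo.neg_eq]
      obtain ⟨g, hg, hgt⟩ := comp_mem t
      refine ⟨g, ?_⟩
      rw [class_ncard_ne_zero g t hgt ht0, roots_none _ ht, e0, h]
    · obtain ⟨g, hg, hgt⟩ := comp_mem (0 : F)
      refine ⟨g, ?_⟩
      rw [class_ncard_zero g hg hgt, roots_zero, e1, h]
    · obtain ⟨t, ht0, r, hr⟩ := exists_split (F := F) h4
      obtain ⟨g, hg, hgt⟩ := comp_mem t
      refine ⟨g, ?_⟩
      rw [class_ncard_ne_zero g t hgt ht0, roots_two _ ht0 r hr, e2, h]

end Cfsg.Agent.S2507
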