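import Cfsg.Statements.S2503
import Cfsg.Agent.S2507
import Cfsg.Agent.S0242

set_option autoImplicit false
open Cfsg

namespace Cfsg.Agent.S2503

open Cfsg.Agent.Lib.Helper14.GL2Conj Cfsg.Agent.Lib.Helper14.ClassSize

variable {F : Type*} [Field F]

def g0 (t : F) : Matrix.SpecialLinearGroup (Fin 2) F := ⟨comp t 1, comp_det t 1⟩

theorem g0_coe (t : F) : ((g0 t : Matrix.SpecialLinearGroup (Fin 2) F) : Matrix (Fin 2) (Fin 2) F) = comp t 1 := rfl

def torus (t : F) : Subgroup (Matrix.SpecialLinearGroup (Fin 2) F) :=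
  Subgroup.centralizer ({g0 t} : Set (Matrix.SpecialLinearGroup (Fin 2) F))

theorem mem_torus_iff (t : F) (M : Matrix.SpecialLinearGroup (Fin 2) F) :
    M ∈ torus t ↔ ((M : Matrix (Fin 2) (Fin 2) F) 0 1 = - (M : Matrix (Fin 2) (Fin 2) F) 1 0 ∧
      (M : Matrix (Fin 2) (Fin 2) F) 1 1 = (M : Matrix (Fin 2) (Fin 2) F) 0 0 + t * (M : Matrix (Fin 2) (Fin 2) F) 1 0) := by
  unfold torus
  rw [Subgroup.mem_centralizer_iff]
  constructor
  · intro h
    have h1 := h (g0 t) rfl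
    have h2 : comp t 1 * (M : Matrix (Fin 2) (Fin 2) F) = (M : Matrix (Fin 2) (Fin 2) F) * comp t 1 := by
      have := congrArg (fun X : Matrix.SpecialLinearGroup (Fin 2) F => (X : Matrix (Fin 2) (Fin 2) F)) h1
      simpa [g0_coe] using this
    have e00 := congrFun (congrFun h2 0) 0
    have e10 := congrFun (congrFun h2 1) 0
    simp [comp, Matrix.mul_apply, Fin.sum_univ_two] at e00 e10
    constructor
    · rw [← e00]
    · rw [← e10]
  · rintro ⟨h1, h2⟩ x hx
    rw [Set.mem_singleton_iff] at hx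
    subst hx
    apply Subtype.ext
    simp only [Matrix.SpecialLinearGroup.coe_mul, g0_coe]
    ext i j
    fin_cases i <;> fin_cases j <;>
      simp [comp, Matrix.mul_apply, Fin.sum_univ_two, h1, h2] <;> ring

theorem aniso [CharP F 2] (t : F) (ht : ∀ r : F, r * (t - r) ≠ 1) (x y : F)
    (h : x ^ 2 + t * x * y + y ^ 2 = 0) : x = 0 ∧ y = 0 := by
  have h2 : (2 : F) = 0 := CharTwo.two_eq_zero
  by_cases hy : y = 0
  · subst hy
    simp at h
    exact ⟨h, rfl⟩
  · exfalso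
    apply ht (x / y)
    field_simp
    linear_combination (-1 : F) * h + (t * x * y) * h2

theorem card_torus [Fintype F] [CharP F 2] (t : F) (ht : ∀ r : F, r * (t - r) ≠ 1) :
    Nat.card (torus t) = Fintype.card F + 1 := by
  have ht0 : t ≠ 0 := by
    intro h0
    apply ht 1
    rw [h0]
    simp [CharTwo.neg_eq]
  have hidx : (torus t).index = Fintype.card F * (Fintype.card F - 1) := by
    unfold torus
    rw [Cfsg.Agent.S2507.class_ncard_ne_zero (g0 t) t (by simp [g0_coe, comp]) ht0,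
      Cfsg.Agent.S2507.roots_none t ht, zero_mul, zero_add]
  have h1 := Subgroup.card_mul_index (torus t)
  have h2 := Cfsg.Agent.S0242.result (F := F) rfl 2 (by norm_num)
  rw [Fin.prod_univ_two] at h2
  simp only [Fin.val_zero, Fin.val_one, pow_zero, pow_one] at h2
  rw [hidx] at h1
  rw [← h1] at h2
  have hq : 2 ≤ Fintype.card F := Fintype.one_lt_card
  obtain ⟨m, hm⟩ : ∃ m, Fintype.card F = m + 2 := ⟨Fintype.card F - 2, by omega⟩
  rw [hm] at h2 ⊢
  have e1 : m + 2 - 1 = m + 1 := rfl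
  have e2 : (m + 2) ^ 2 - 1 = (m + 1) * (m + 3) := by
    apply Nat.sub_eq_of_eq_add; ring
  have e3 : (m + 2) ^ 2 - (m + 2) = (m + 2) * (m + 1) := by
    apply Nat.sub_eq_of_eq_add; ring
  rw [e1, e2, e3] at h2
  have h3 : (m + 1) * ((m + 2) * (m + 1)) * Nat.card (torus t) = (m + 1) * ((m + 2) * (m + 1)) * (m + 3) := by
    linarith [h2]
  exact Nat.eq_of_mul_eq_mul_left (by positivity) h3

noncomputable def fpoly (t : F) : Polynomial F := Polynomial.X ^ 2 - Polynomial.C t * Polynomial.X + 1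

theorem fpoly_eval₂ {K : Type*} [CommRing K] (φ : F →+* K) (ρ : K) (t : F) :
    (fpoly t).eval₂ φ ρ = ρ ^ 2 - φ t * ρ + 1 := by
  simp [fpoly, Polynomial.eval₂_sub, Polynomial.eval₂_add, Polynomial.eval₂_mul, Polynomial.eval₂_pow]

theorem fpoly_irreducible (t : F) (ht : ∀ r : F, r * (t - r) ≠ 1) : Irreducible (fpoly t) := by
  apply Polynomial.irreducible_of_degree_le_three_of_not_isRoot
  · have : (fpoly t).natDegree = 2 := by
      unfold fpoly
      compute_degree!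
    rw [this]
    decide
  · intro x hx
    apply ht x
    have h1 : (fpoly t).eval₂ (RingHom.id F) x = 0 := by
      rw [Polynomial.eval₂_id]
      exact hx
    rw [fpoly_eval₂] at h1
    simp only [RingHom.id_apply] at h1
    linear_combination (-1 : F) * h1

theorem root_rel (t : F) :
    (AdjoinRoot.root (fpoly t)) ^ 2 - AdjoinRoot.of (fpoly t) t * AdjoinRoot.root (fpoly t) + 1 = 0 := by
  rw [← fpoly_eval₂]
  exact AdjoinRoot.eval₂_root (fpoly t)

noncomputable def psi (t : F) : (torus t) →* AdjoinRoot (fpoly t) where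
  toFun M := AdjoinRoot.of (fpoly t) ((M.1 : Matrix (Fin 2) (Fin 2) F) 0 0) +
    AdjoinRoot.of (fpoly t) ((M.1 : Matrix (Fin 2) (Fin 2) F) 1 0) * AdjoinRoot.root (fpoly t)
  map_one' := by simp
  map_mul' := by
    intro M M'
    have h := (mem_torus_iff t M.1).mp M.2
    have h' := (mem_torus_iff t M'.1).mp M'.2
    simp only [Subgroup.coe_mul, Matrix.SpecialLinearGroup.coe_mul, Matrix.mul_apply, Fin.sum_univ_two]
    rw [h.1, h.2]
    simp only [map_add, map_mul, map_neg]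
    linear_combination (-(AdjoinRoot.of (fpoly t) ((M.1 : Matrix (Fin 2) (Fin 2) F) 1 0) *
      AdjoinRoot.of (fpoly t) ((M'.1 : Matrix (Fin 2) (Fin 2) F) 1 0))) * root_rel t

theorem lin_indep (t : F) (ht : ∀ r : F, r * (t - r) ≠ 1) (x y : F)
    (h : AdjoinRoot.of (fpoly t) x + AdjoinRoot.of (fpoly t) y * AdjoinRoot.root (fpoly t) = 0) :
    x = 0 ∧ y = 0 := by
  have hfact : Fact (Irreducible (fpoly t)) := ⟨fpoly_irreducible t ht⟩
  have hinj : Function.Injective (AdjoinRoot.of (fpoly t)) := (AdjoinRoot.of (fpoly t)).injective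
  by_cases hy : y = 0
  · subst hy
    simp only [map_zero, zero_mul, add_zero] at h
    exact ⟨hinj (by rw [h, map_zero]), rfl⟩
  · exfalso
    have hy' : AdjoinRoot.of (fpoly t) y ≠ 0 := fun h0 => hy (hinj (by rw [h0, map_zero]))
    have hρ : AdjoinRoot.root (fpoly t) = AdjoinRoot.of (fpoly t) (-x / y) := by
      rw [map_div₀, map_neg, eq_div_iff hy']
      linear_combination h
    have h1 := root_rel t
    rw [hρ] at h1
    have h2 : AdjoinRoot.of (fpoly t) ((-x / y) ^ 2 - t * (-x / y) + 1) = 0 := by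
      rw [map_add, map_sub, map_pow, map_mul, map_one]
      exact h1
    have h3 : (-x / y) ^ 2 - t * (-x / y) + 1 = 0 := hinj (by rw [h2, map_zero])
    apply ht (-x / y)
    linear_combination (-1 : F) * h3

theorem psi_injective (t : F) (ht : ∀ r : F, r * (t - r) ≠ 1) : Function.Injective (psi t) := by
  intro M M' h
  have hM := (mem_torus_iff t M.1).mp M.2
  have hM' := (mem_torus_iff t M'.1).mp M'.2
  have h1 : AdjoinRoot.of (fpoly t) ((M.1 : Matrix (Fin 2) (Fin 2) F) 0 0 - (M'.1 : Matrix (Fin 2) (Fin 2) F) 0 0) +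
      AdjoinRoot.of (fpoly t) ((M.1 : Matrix (Fin 2) (Fin 2) F) 1 0 - (M'.1 : Matrix (Fin 2) (Fin 2) F) 1 0) *
        AdjoinRoot.root (fpoly t) = 0 := by
    have h2 : AdjoinRoot.of (fpoly t) ((M.1 : Matrix (Fin 2) (Fin 2) F) 0 0) +
        AdjoinRoot.of (fpoly t) ((M.1 : Matrix (Fin 2) (Fin 2) F) 1 0) * AdjoinRoot.root (fpoly t) =
        AdjoinRoot.of (fpoly t) ((M'.1 : Matrix (Fin 2) (Fin 2) F) 0 0) +
        AdjoinRoot.of (fpoly t) ((M'.1 : Matrix (Fin 2) (Fin 2) F) 1 0) * AdjoinRoot.root (fpoly t) := h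
    rw [map_sub, map_sub]
    linear_combination h2
  obtain ⟨e1, e2⟩ := lin_indep t ht _ _ h1
  have e1' := sub_eq_zero.mp e1
  have e2' := sub_eq_zero.mp e2
  apply Subtype.ext
  apply Subtype.ext
  ext i j
  fin_cases i <;> fin_cases j
  · exact e1'
  · show (M.1 : Matrix (Fin 2) (Fin 2) F) 0 1 = (M'.1 : Matrix (Fin 2) (Fin 2) F) 0 1
    rw [hM.1, hM'.1, e2']
  · exact e2'
  · show (M.1 : Matrix (Fin 2) (Fin 2) F) 1 1 = (M'.1 : Matrix (Fin 2) (Fin 2) F) 1 1
    rw [hM.2, hM'.2, e1', e2']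

theorem torus_cyclic [Fintype F] (t : F) (ht : ∀ r : F, r * (t - r) ≠ 1) : IsCyclic (torus t) := by
  have hfact : Fact (Irreducible (fpoly t)) := ⟨fpoly_irreducible t ht⟩
  classical
  exact isCyclic_of_injective_ringHom (psi t) (psi_injective t ht)

def uhom : Multiplicative F →* Matrix.SpecialLinearGroup (Fin 2) F where
  toFun x := ⟨!![1, Multiplicative.toAdd x; 0, 1], by simp [Matrix.det_fin_two_of]⟩
  map_one' := by
    apply Subtype.ext
    ext i j
    fin_cases i <;> fin_cases j <;> simp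
  map_mul' := by
    intro x y
    apply Subtype.ext
    show !![1, Multiplicative.toAdd (x * y); 0, 1] =
      !![1, Multiplicative.toAdd x; 0, 1] * !![1, Multiplicative.toAdd y; 0, 1]
    rw [Matrix.mul_fin_two, toAdd_mul]
    ext i j
    fin_cases i <;> fin_cases j <;> simp [add_comm]

theorem uhom_coe (x : Multiplicative F) :
    ((uhom x : Matrix.SpecialLinearGroup (Fin 2) F) : Matrix (Fin 2) (Fin 2) F) =
      !![1, Multiplicative.toAdd x; 0, 1] := rfl

theorem uhom_injective : Function.Injective (uhom (F := F)) := by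
  intro x y h
  have h1 := congrArg (fun X : Matrix.SpecialLinearGroup (Fin 2) F => (X : Matrix (Fin 2) (Fin 2) F) 0 1) h
  simp only [uhom_coe] at h1
  simpa using h1

theorem mem_uhom_range (b : Matrix.SpecialLinearGroup (Fin 2) F)
    (h00 : (b : Matrix (Fin 2) (Fin 2) F) 0 0 = 1) (h10 : (b : Matrix (Fin 2) (Fin 2) F) 1 0 = 0) :
    b ∈ (uhom (F := F)).range := by
  refine ⟨Multiplicative.ofAdd ((b : Matrix (Fin 2) (Fin 2) F) 0 1), ?_⟩
  have hd := b.det_coe
  rw [Matrix.det_fin_two, h00, h10] at hd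
  have h11 : (b : Matrix (Fin 2) (Fin 2) F) 1 1 = 1 := by linear_combination hd
  apply Subtype.ext
  rw [uhom_coe]
  ext i j
  fin_cases i <;> fin_cases j <;> simp [h00, h10, h11]

def tmk (t x y : F) (h : x ^ 2 + t * x * y + y ^ 2 = 1) : Matrix.SpecialLinearGroup (Fin 2) F :=
  ⟨!![x, -y; y, x + t * y], by rw [Matrix.det_fin_two_of]; linear_combination h⟩

theorem tmk_coe (t x y : F) (h : x ^ 2 + t * x * y + y ^ 2 = 1) :
    ((tmk t x y h : Matrix.SpecialLinearGroup (Fin 2) F) : Matrix (Fin 2) (Fin 2) F) =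
      !![x, -y; y, x + t * y] := rfl

theorem tmk_mem (t x y : F) (h : x ^ 2 + t * x * y + y ^ 2 = 1) : tmk t x y h ∈ torus t := by
  rw [mem_torus_iff, tmk_coe]
  simp

theorem exists_vec [Fintype F] [CharP F 2] (t : F) (ht : ∀ r : F, r * (t - r) ≠ 1) (p q r s : F)
    (hdet : p * s - q * r = 1) :
    ∃ x y : F, x ^ 2 + t * x * y + y ^ 2 = 1 ∧
      (p * x + q * y) ^ 2 + t * (p * x + q * y) * (r * x + s * y) + (r * x + s * y) ^ 2 = 1 := by
  have h2 : (2 : F) = 0 := CharTwo.two_eq_zero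
  have hsq : ∀ a : F, ∃ b : F, b ^ 2 = a := by
    intro a
    obtain ⟨b, hb⟩ := FiniteField.isSquare_of_char_two (ringChar.eq F 2) a
    exact ⟨b, by rw [hb, pow_two]⟩
  obtain ⟨α, hα⟩ := hsq (p ^ 2 + t * p * r + r ^ 2 + 1)
  obtain ⟨β, hβ⟩ := hsq (q ^ 2 + t * q * s + s ^ 2 + 1)
  have key : ∀ x y : F, (p * x + q * y) ^ 2 + t * (p * x + q * y) * (r * x + s * y) + (r * x + s * y) ^ 2 =
      x ^ 2 + t * x * y + y ^ 2 + (α * x + β * y) ^ 2 := by
    intro x y
    linear_combination (-(x ^ 2)) * hα + (-(y ^ 2)) * hβ + (t * x * y) * hdet +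
      (-(x ^ 2) - y ^ 2 + (p * q + r * s - α * β + t * q * r) * x * y) * h2
  obtain ⟨x0, y0, hne, hl⟩ : ∃ x0 y0 : F, ¬ (x0 = 0 ∧ y0 = 0) ∧ α * x0 + β * y0 = 0 := by
    by_cases hab : α = 0 ∧ β = 0
    · refine ⟨1, 0, ?_, ?_⟩
      · simp
      · rw [hab.1]; simp
    · refine ⟨β, α, ?_, ?_⟩
      · intro h
        exact hab ⟨h.2, h.1⟩
      · linear_combination (α * β) * h2
  have hn : x0 ^ 2 + t * x0 * y0 + y0 ^ 2 ≠ 0 := fun h => hne (aniso t ht x0 y0 h)
  obtain ⟨σ, hσ⟩ := hsq (x0 ^ 2 + t * x0 * y0 + y0 ^ 2)⁻¹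
  have h1 : (σ * x0) ^ 2 + t * (σ * x0) * (σ * y0) + (σ * y0) ^ 2 = 1 := by
    have : (σ * x0) ^ 2 + t * (σ * x0) * (σ * y0) + (σ * y0) ^ 2 =
        σ ^ 2 * (x0 ^ 2 + t * x0 * y0 + y0 ^ 2) := by ring
    rw [this, hσ]
    exact inv_mul_cancel₀ hn
  refine ⟨σ * x0, σ * y0, h1, ?_⟩
  rw [key, h1]
  have : α * (σ * x0) + β * (σ * y0) = σ * (α * x0 + β * y0) := by ring
  rw [this, hl]
  simp

theorem aba [Fintype F] [CharP F 2] (t : F) (ht : ∀ r : F, r * (t - r) ≠ 1)
    (g : Matrix.SpecialLinearGroup (Fin 2) F) :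
    ∃ a ∈ torus t, ∃ b ∈ (uhom (F := F)).range, ∃ c ∈ torus t, g = a * b * c := by
  have hdet := g.det_coe
  rw [Matrix.det_fin_two] at hdet
  obtain ⟨x, y, h1, h2⟩ := exists_vec t ht _ _ _ _ hdet
  let a1 := tmk t x y h1
  let a2 := tmk t _ _ h2
  refine ⟨a2, tmk_mem _ _ _ _, a2⁻¹ * g * a1, ?_, a1⁻¹, (torus t).inv_mem (tmk_mem _ _ _ _), ?_⟩
  · apply mem_uhom_range
    · simp only [Matrix.SpecialLinearGroup.coe_mul, Matrix.SpecialLinearGroup.coe_inv, a1, a2, tmk_coe,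
        Matrix.adjugate_fin_two_of, Matrix.mul_apply, Fin.sum_univ_two]
      simp
      linear_combination h2
    · simp only [Matrix.SpecialLinearGroup.coe_mul, Matrix.SpecialLinearGroup.coe_inv, a1, a2, tmk_coe,
        Matrix.adjugate_fin_two_of, Matrix.mul_apply, Fin.sum_univ_two]
      simp
      ring
  · group

theorem result {F : Type*} [Field F] [Fintype F]
    (h2 : 2 ∣ Fintype.card F) (h4 : 4 ≤ Fintype.card F) :
    ∃ A B : Subgroup (Matrix.ProjectiveSpecialLinearGroup (Fin 2) F),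
      IsCyclic A ∧ Nat.card A = Fintype.card F + 1 ∧ IsMulCommutative B ∧ (∀ b ∈ B, b * b = 1) ∧
        Nat.card B = Fintype.card F ∧
        ∀ g : Matrix.ProjectiveSpecialLinearGroup (Fin 2) F, ∃ a ∈ A, ∃ b ∈ B, ∃ c ∈ A, g = a * b * c := by
  have _h4 := h4
  have hchar : CharP F 2 := Cfsg.Agent.S2507.charTwo_of_dvd h2
  obtain ⟨t, ht⟩ := Cfsg.Agent.S2507.exists_nonsplit (F := F)
  let e : Matrix.SpecialLinearGroup (Fin 2) F ≃* Matrix.ProjectiveSpecialLinearGroup (Fin 2) F :=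
    Cfsg.Agent.S2507.pslEquiv
  let eA := (torus t).equivMapOfInjective e.toMonoidHom e.injective
  let eB := ((uhom (F := F)).range).equivMapOfInjective e.toMonoidHom e.injective
  refine ⟨(torus t).map e.toMonoidHom, ((uhom (F := F)).range).map e.toMonoidHom, ?_, ?_, ?_, ?_, ?_, ?_⟩
  · have := torus_cyclic t ht
    exact isCyclic_of_surjective eA eA.surjective
  · rw [← Nat.card_congr eA.toEquiv, card_torus t ht]
  · refine ⟨⟨?_⟩⟩
    rintro ⟨x, hx⟩ ⟨y, hy⟩
    obtain ⟨x', ⟨u, rfl⟩, rfl⟩ := hx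
    obtain ⟨y', ⟨v, rfl⟩, rfl⟩ := hy
    apply Subtype.ext
    show e.toMonoidHom (uhom u) * e.toMonoidHom (uhom v) = e.toMonoidHom (uhom v) * e.toMonoidHom (uhom u)
    rw [← map_mul, ← map_mul, ← map_mul, ← map_mul, mul_comm]
  · rintro b ⟨b', ⟨u, rfl⟩, rfl⟩
    rw [← map_mul, ← map_mul]
    have : u * u = 1 := by
      apply Multiplicative.toAdd.injective
      simp [CharTwo.add_self_eq_zero]
    rw [this, map_one, map_one]
  · rw [← Nat.card_congr eB.toEquiv, ← Nat.card_congr (MonoidHom.ofInjective uhom_injective).toEquiv]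
    rw [Nat.card_eq_fintype_card]
    exact Fintype.card_congr Multiplicative.toAdd
  · intro g
    obtain ⟨a, ha, b, hb, c, hc, hg⟩ := aba t ht (e.symm g)
    refine ⟨e a, ⟨a, ha, rfl⟩, e b, ⟨b, hb, rfl⟩, e c, ⟨c, hc, rfl⟩, ?_⟩
    rw [← map_mul, ← map_mul, ← hg]
    simp

end Cfsg.Agent.S2503
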