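import Mathlib
import Cfsg.Statements.S0262
import Cfsg.Agent.S2503

set_option autoImplicit false
open Cfsg

namespace Cfsg.Agent.S0262

open Cfsg.Agent.Lib.Helper14.GL2Conj

/-- Conjugation by an invertible matrix, as an endomorphism of `SL₂`. -/
noncomputable def conjSL {F : Type*} [Field F] (R : Matrix (Fin 2) (Fin 2) F) (hR : R.det ≠ 0) :
    Matrix.SpecialLinearGroup (Fin 2) F →* Matrix.SpecialLinearGroup (Fin 2) F where
  toFun M := ⟨R * M.1 * R⁻¹, by
    rw [Matrix.det_mul, Matrix.det_mul, M.2, mul_one, Matrix.det_nonsing_inv,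
      Ring.mul_inverse_cancel _ (isUnit_iff_ne_zero.mpr hR)]⟩
  map_one' := by
    apply Subtype.ext
    simp [Matrix.mul_nonsing_inv _ (isUnit_iff_ne_zero.mpr hR)]
  map_mul' M N := by
    apply Subtype.ext
    simp only [Matrix.SpecialLinearGroup.coe_mul]
    have h := Matrix.nonsing_inv_mul R (isUnit_iff_ne_zero.mpr hR)
    calc R * (M.1 * N.1) * R⁻¹ = R * M.1 * (1 : Matrix (Fin 2) (Fin 2) F) * N.1 * R⁻¹ := by
          simp [Matrix.mul_assoc]
      _ = R * M.1 * R⁻¹ * (R * N.1 * R⁻¹) := by rw [← h]; simp only [Matrix.mul_assoc]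

theorem conjSL_coe {F : Type*} [Field F] (R : Matrix (Fin 2) (Fin 2) F) (hR : R.det ≠ 0)
    (M : Matrix.SpecialLinearGroup (Fin 2) F) :
    ((conjSL R hR M : Matrix.SpecialLinearGroup (Fin 2) F) : Matrix (Fin 2) (Fin 2) F) = R * M.1 * R⁻¹ := rfl

theorem conjSL_injective {F : Type*} [Field F] (R : Matrix (Fin 2) (Fin 2) F) (hR : R.det ≠ 0) :
    Function.Injective (conjSL R hR) := by
  intro M N h
  have h1 := congrArg Subtype.val h
  rw [conjSL_coe, conjSL_coe] at h1
  have hu := isUnit_iff_ne_zero.mpr hR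
  apply Subtype.ext
  calc M.1 = R⁻¹ * (R * M.1 * R⁻¹) * R := by
        rw [Matrix.mul_assoc, Matrix.mul_assoc, Matrix.nonsing_inv_mul _ hu, Matrix.mul_one,
          ← Matrix.mul_assoc, Matrix.nonsing_inv_mul _ hu, Matrix.one_mul]
    _ = R⁻¹ * (R * N.1 * R⁻¹) * R := by rw [h1]
    _ = N.1 := by
        rw [Matrix.mul_assoc, Matrix.mul_assoc, Matrix.nonsing_inv_mul _ hu, Matrix.mul_one,
          ← Matrix.mul_assoc, Matrix.nonsing_inv_mul _ hu, Matrix.one_mul]

/-- Cyclicity of centralizers transfers along `GL₂`-conjugacy. -/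
theorem cyclic_of_conj {F : Type*} [Field F] (z z' : Matrix.SpecialLinearGroup (Fin 2) F)
    (R : Matrix (Fin 2) (Fin 2) F) (hR : R.det ≠ 0) (h : R * z.1 = z'.1 * R)
    (hc : IsCyclic (Subgroup.centralizer ({z'} : Set (Matrix.SpecialLinearGroup (Fin 2) F)))) :
    IsCyclic (Subgroup.centralizer ({z} : Set (Matrix.SpecialLinearGroup (Fin 2) F))) := by
  have hu := isUnit_iff_ne_zero.mpr hR
  have hz' : conjSL R hR z = z' := by
    apply Subtype.ext
    rw [conjSL_coe, h, Matrix.mul_assoc, Matrix.mul_nonsing_inv _ hu, Matrix.mul_one]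
  have hmaps : ∀ M : ↥(Subgroup.centralizer ({z} : Set (Matrix.SpecialLinearGroup (Fin 2) F))),
      conjSL R hR M.1 ∈ Subgroup.centralizer ({z'} : Set (Matrix.SpecialLinearGroup (Fin 2) F)) := by
    intro M
    rw [Subgroup.mem_centralizer_iff]
    intro x hx
    rw [Set.mem_singleton_iff] at hx
    rw [hx, ← hz', ← map_mul, ← map_mul]
    congr 1
    exact (Subgroup.mem_centralizer_iff.mp M.2) z rfl
  let f : ↥(Subgroup.centralizer ({z} : Set (Matrix.SpecialLinearGroup (Fin 2) F))) →*
      ↥(Subgroup.centralizer ({z'} : Set (Matrix.SpecialLinearGroup (Fin 2) F))) :=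
    ((conjSL R hR).comp (Subgroup.subtype _)).codRestrict _ hmaps
  have hf : Function.Injective f := by
    intro M N hMN
    have h1 := congrArg Subtype.val hMN
    exact Subtype.ext (conjSL_injective R hR h1)
  exact isCyclic_of_injective f hf

theorem cyclic_diag {F : Type*} [Field F] [Finite F] (d : Matrix.SpecialLinearGroup (Fin 2) F)
    (h01 : d.1 0 1 = 0) (h10 : d.1 1 0 = 0) (hne : d.1 0 0 ≠ d.1 1 1) :
    IsCyclic (Subgroup.centralizer ({d} : Set (Matrix.SpecialLinearGroup (Fin 2) F))) := by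
  have hdiag : ∀ M : ↥(Subgroup.centralizer ({d} : Set (Matrix.SpecialLinearGroup (Fin 2) F))),
      M.1.1 0 1 = 0 ∧ M.1.1 1 0 = 0 := by
    intro M
    have h1 := (Subgroup.mem_centralizer_iff.mp M.2) d rfl
    have h2 := congrArg Subtype.val h1
    rw [Matrix.SpecialLinearGroup.coe_mul, Matrix.SpecialLinearGroup.coe_mul] at h2
    have e01 := congrFun (congrFun h2 0) 1
    have e10 := congrFun (congrFun h2 1) 0
    simp only [Matrix.mul_apply, Fin.sum_univ_two, h01, h10, mul_zero, zero_mul, add_zero, zero_add] at e01 e10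
    have hne' : d.1 0 0 - d.1 1 1 ≠ 0 := sub_ne_zero.mpr hne
    constructor
    · have : (d.1 0 0 - d.1 1 1) * M.1.1 0 1 = 0 := by linear_combination e01
      rcases mul_eq_zero.mp this with h | h
      · exact absurd h hne'
      · exact h
    · have : (d.1 0 0 - d.1 1 1) * M.1.1 1 0 = 0 := by linear_combination (-1 : F) * e10
      rcases mul_eq_zero.mp this with h | h
      · exact absurd h hne'
      · exact h
  let f : ↥(Subgroup.centralizer ({d} : Set (Matrix.SpecialLinearGroup (Fin 2) F))) →* F :=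
    { toFun := fun M => M.1.1 0 0
      map_one' := by simp
      map_mul' := by
        intro M N
        simp only [Subgroup.coe_mul, Matrix.SpecialLinearGroup.coe_mul, Matrix.mul_apply, Fin.sum_univ_two]
        rw [(hdiag M).1, zero_mul, add_zero] }
  have hf : Function.Injective f := by
    intro M N hMN
    have h00 : M.1.1 0 0 = N.1.1 0 0 := hMN
    have hM := M.1.det_coe
    have hN := N.1.det_coe
    rw [Matrix.det_fin_two] at hM hN
    rw [(hdiag M).1, (hdiag M).2] at hM
    rw [(hdiag N).1, (hdiag N).2] at hN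
    have hM0 : M.1.1 0 0 ≠ 0 := by
      intro h; rw [h] at hM; simp at hM
    have h11 : M.1.1 1 1 = N.1.1 1 1 := by
      apply mul_left_cancel₀ hM0
      have e1 : M.1.1 0 0 * M.1.1 1 1 = 1 := by linear_combination hM
      have e2 : M.1.1 0 0 * N.1.1 1 1 = 1 := by rw [h00]; linear_combination hN
      rw [e1, e2]
    apply Subtype.ext
    apply Subtype.ext
    ext i j
    fin_cases i <;> fin_cases j
    · exact h00
    · exact (hdiag M).1.trans (hdiag N).1.symm
    · exact (hdiag M).2.trans (hdiag N).2.symm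
    · exact h11
  exact isCyclic_of_injective_ringHom f hf

/-- A unipotent-times-scalar element of `SL₂` in characteristic `p` has order dividing `2p`. -/
theorem pow_two_p {F : Type*} [Field F] (p : ℕ) [Fact p.Prime] [CharP F p]
    (z : Matrix.SpecialLinearGroup (Fin 2) F) (l : F) (hll : l * l = 1)
    (ht : z.1.trace = l + l) : z ^ (2 * p) = 1 := by
  have hdet := z.det_coe
  rw [Matrix.det_fin_two] at hdet
  rw [Matrix.trace_fin_two] at ht
  have hN : (z.1 - l • (1 : Matrix (Fin 2) (Fin 2) F)) * (z.1 - l • (1 : Matrix (Fin 2) (Fin 2) F)) = 0 := by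
    ext i j
    fin_cases i <;> fin_cases j
    · simp [Matrix.mul_apply, Fin.sum_univ_two]
      linear_combination (z.1 0 0) * ht - hdet + hll
    · simp [Matrix.mul_apply, Fin.sum_univ_two]
      linear_combination (z.1 0 1) * ht
    · simp [Matrix.mul_apply, Fin.sum_univ_two]
      linear_combination (z.1 1 0) * ht
    · simp [Matrix.mul_apply, Fin.sum_univ_two]
      linear_combination (z.1 1 1) * ht - hdet + hll
  have hp2 : 2 ≤ p := (Fact.out : p.Prime).two_le
  have hNp : (z.1 - l • (1 : Matrix (Fin 2) (Fin 2) F)) ^ p = 0 := by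
    obtain ⟨k, rfl⟩ : ∃ k, p = 2 + k := ⟨p - 2, by omega⟩
    rw [pow_add, pow_two, hN, zero_mul]
  have hcomm : Commute (l • (1 : Matrix (Fin 2) (Fin 2) F)) (z.1 - l • (1 : Matrix (Fin 2) (Fin 2) F)) :=
    (Commute.one_left _).smul_left l
  have hzp : z.1 ^ p = (l ^ p) • (1 : Matrix (Fin 2) (Fin 2) F) := by
    have h1 := add_pow_char_of_commute p hcomm
    rw [hNp, add_zero, add_sub_cancel, smul_pow, one_pow] at h1
    exact h1
  apply Subtype.ext
  rw [Matrix.SpecialLinearGroup.coe_pow, mul_comm, pow_mul, hzp, smul_pow, one_pow, ← pow_mul, mul_comm,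
    pow_mul, pow_two, hll, one_pow, one_smul]
  rfl

theorem cent_cyclic {F : Type*} [Field F] [Fintype F] (p : ℕ) [Fact p.Prime] [CharP F p]
    (r : ℕ) (hrp : r.Prime) (hr : r ≠ 2) (hrp' : r ≠ p)
    (z : Matrix.SpecialLinearGroup (Fin 2) F) (hz : orderOf z = r) :
    IsCyclic (Subgroup.centralizer ({z} : Set (Matrix.SpecialLinearGroup (Fin 2) F))) := by
  classical
  have hdet := z.det_coe
  have hns : ¬ IsScalarMat z.1 := by
    rintro ⟨s, hs⟩
    have hs2 : s * s = 1 := by
      rw [hs, Matrix.det_smul, Matrix.det_one, Fintype.card_fin, mul_one, pow_two] at hdet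
      exact hdet
    have hz2 : z ^ 2 = 1 := by
      apply Subtype.ext
      rw [Matrix.SpecialLinearGroup.coe_pow, hs, smul_pow, one_pow, pow_two, hs2, one_smul]
      rfl
    have hdvd : r ∣ 2 := hz ▸ orderOf_dvd_of_pow_eq_one hz2
    have h1 := Nat.le_of_dvd (by norm_num) hdvd
    have h2 := hrp.two_le
    omega
  by_cases hroot : ∃ l : F, l * (z.1.trace - l) = 1
  · obtain ⟨l, hl⟩ := hroot
    by_cases hlm : l = z.1.trace - l
    · exfalso
      have hll : l * l = 1 := by rw [← hlm] at hl; exact hl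
      have h2p := pow_two_p p z l hll (by rw [eq_sub_iff_add_eq] at hlm; exact hlm.symm)
      have hdvd : r ∣ 2 * p := hz ▸ orderOf_dvd_of_pow_eq_one h2p
      rcases (Nat.Prime.dvd_mul hrp).mp hdvd with h | h
      · exact hr ((Nat.prime_dvd_prime_iff_eq hrp Nat.prime_two).mp h)
      · exact hrp' ((Nat.prime_dvd_prime_iff_eq hrp (Fact.out : p.Prime)).mp h)
    · have hd1 : (!![l, 0; 0, z.1.trace - l] : Matrix (Fin 2) (Fin 2) F).det = 1 := by
        rw [Matrix.det_fin_two_of]; linear_combination hl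
      have hdns : ¬ IsScalarMat (!![l, 0; 0, z.1.trace - l] : Matrix (Fin 2) (Fin 2) F) := by
        rw [isScalarMat_iff]
        rintro ⟨-, -, h⟩
        exact hlm (by simpa using h)
      obtain ⟨R, hR, hRz⟩ := exists_conj z.1 (!![l, 0; 0, z.1.trace - l]) hns hdns
        (by rw [Matrix.trace_fin_two_of]; ring) (by rw [hd1, hdet])
      exact cyclic_of_conj z ⟨!![l, 0; 0, z.1.trace - l], hd1⟩ R hR hRz
        (cyclic_diag _ (by simp) (by simp) (by simpa using hlm))
  · push Not at hroot
    have hc : IsCyclic (Cfsg.Agent.S2503.torus z.1.trace) := Cfsg.Agent.S2503.torus_cyclic _ hroot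
    obtain ⟨R, hR, hRz⟩ := exists_conj z.1 (comp z.1.trace 1) hns (comp_not_scalar _ _)
      (by rw [comp_trace]) (by rw [comp_det, hdet])
    exact cyclic_of_conj z (Cfsg.Agent.S2503.g0 z.1.trace) R hR hRz hc

/-- For an odd prime r different from the characteristic, the Sylow r-subgroups of SL_2(q) are cyclic. -/
theorem result {F : Type*} [Field F] [Fintype F] (p : ℕ) [Fact p.Prime] [CharP F p] (r : ℕ) [Fact r.Prime] (hr : r ≠ 2) (hrp : r ≠ p) (R : Sylow r (Matrix.SpecialLinearGroup (Fin 2) F)) : IsCyclic (R : Subgroup (Matrix.SpecialLinearGroup (Fin 2) F)) := by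
  classical
  by_cases hbot : (R : Subgroup (Matrix.SpecialLinearGroup (Fin 2) F)) = ⊥
  · rw [hbot]; infer_instance
  have hR2 : IsPGroup r ↥(R : Subgroup (Matrix.SpecialLinearGroup (Fin 2) F)) := R.isPGroup'
  have : Nontrivial ↥(R : Subgroup (Matrix.SpecialLinearGroup (Fin 2) F)) :=
    (Subgroup.nontrivial_iff_ne_bot _).mpr hbot
  have := hR2.center_nontrivial
  have hc2 : IsPGroup r (Subgroup.center ↥(R : Subgroup (Matrix.SpecialLinearGroup (Fin 2) F))) :=
    hR2.to_subgroup _
  obtain ⟨n, hn, hcard⟩ := hc2.nontrivial_iff_card.mp inferInstance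
  obtain ⟨z0, hz0⟩ := exists_prime_orderOf_dvd_card'
    (G := Subgroup.center ↥(R : Subgroup (Matrix.SpecialLinearGroup (Fin 2) F))) r
    (by rw [hcard]; exact dvd_pow_self r hn.ne')
  have hz : orderOf (((z0 : ↥(R : Subgroup (Matrix.SpecialLinearGroup (Fin 2) F))) :
      Matrix.SpecialLinearGroup (Fin 2) F)) = r := by
    rw [Subgroup.orderOf_coe, Subgroup.orderOf_coe]; exact hz0
  have hcyc := cent_cyclic p r (Fact.out) hr hrp _ hz
  have hle : (R : Subgroup (Matrix.SpecialLinearGroup (Fin 2) F)) ≤ Subgroup.centralizer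
      {((z0 : ↥(R : Subgroup (Matrix.SpecialLinearGroup (Fin 2) F))) : Matrix.SpecialLinearGroup (Fin 2) F)} := by
    intro g hg
    rw [Subgroup.mem_centralizer_iff]
    intro x hx
    rw [Set.mem_singleton_iff] at hx
    rw [hx]
    have := Subgroup.mem_center_iff.mp z0.2 ⟨g, hg⟩
    exact (congrArg Subtype.val this).symm
  exact Subgroup.isCyclic_of_le hle

end Cfsg.Agent.S0262
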