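import Mathlib
import Cfsg.Statements.S0261
import Cfsg.Agent.Lib.Helper18.UniqueInvolution

set_option autoImplicit false
open Cfsg

namespace Cfsg.Agent.S0261

open Matrix in
theorem invol_entries {F : Type*} [Field F] (h2 : (2 : F) ≠ 0) (A : Matrix.SpecialLinearGroup (Fin 2) F)
    (hA : A ^ 2 = 1) (hA1 : A ≠ 1) :
    A.1 0 0 = -1 ∧ A.1 0 1 = 0 ∧ A.1 1 0 = 0 ∧ A.1 1 1 = -1 := by
  have hdet := A.det_coe
  rw [Matrix.det_fin_two] at hdet
  have hsq : (A : Matrix (Fin 2) (Fin 2) F) * (A : Matrix (Fin 2) (Fin 2) F) = 1 := by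
    have := congrArg Subtype.val hA
    simpa [pow_two] using this
  have e00 := congrFun (congrFun hsq 0) 0
  have e01 := congrFun (congrFun hsq 0) 1
  have e10 := congrFun (congrFun hsq 1) 0
  have e11 := congrFun (congrFun hsq 1) 1
  simp only [Matrix.mul_apply, Fin.sum_univ_two, Matrix.one_apply_eq, Matrix.one_apply_ne,
    ne_eq, zero_ne_one, one_ne_zero, not_false_eq_true, Fin.isValue] at e00 e01 e10 e11
  have hne : A.1 ≠ 1 := fun h => hA1 (Subtype.ext h)
  have hne' : ¬ (A.1 0 0 = 1 ∧ A.1 0 1 = 0 ∧ A.1 1 0 = 0 ∧ A.1 1 1 = 1) := by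
    rintro ⟨h1, h2', h3, h4⟩
    apply hne
    ext i j
    fin_cases i <;> fin_cases j <;> simp [h1, h2', h3, h4]
  generalize A.1 0 0 = a at *
  generalize A.1 0 1 = b at *
  generalize A.1 1 0 = c at *
  generalize A.1 1 1 = d at *
  have had : a + d ≠ 0 := by
    intro h
    apply h2
    linear_combination (-1 : F) * e00 + (-1 : F) * hdet + a * h
  have hb : b = 0 := by
    have : b * (a + d) = 0 := by linear_combination e01
    rcases mul_eq_zero.mp this with h | h
    · exact h
    · exact absurd h had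
  have hc : c = 0 := by
    have : c * (a + d) = 0 := by linear_combination e10
    rcases mul_eq_zero.mp this with h | h
    · exact h
    · exact absurd h had
  subst hb hc
  have haa : (a - 1) * (a + 1) = 0 := by linear_combination e00
  have had1 : a * d = 1 := by linear_combination hdet
  rcases mul_eq_zero.mp haa with h | h
  · exfalso
    have ha : a = 1 := by linear_combination h
    subst ha
    have hd : d = 1 := by linear_combination had1
    exact hne' ⟨rfl, rfl, rfl, hd⟩
  · have ha : a = -1 := by linear_combination h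
    subst ha
    have hd : d = -1 := by linear_combination (-1 : F) * had1
    exact ⟨rfl, rfl, rfl, hd⟩
theorem ncard_invol {F : Type*} [Field F] (h2 : (2 : F) ≠ 0)
    (P : Subgroup (Matrix.SpecialLinearGroup (Fin 2) F)) :
    Set.ncard {g : ↥P | g ^ 2 = 1} ≤ 2 := by
  by_cases h : ∃ g0 : ↥P, g0 ^ 2 = 1 ∧ g0 ≠ 1
  · obtain ⟨g0, hg0, hg01⟩ := h
    have hsub : {g : ↥P | g ^ 2 = 1} ⊆ {1, g0} := by
      intro g hg
      by_cases hg1 : g = 1
      · left; exact hg1
      · right
        show g = g0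
        have e1 := invol_entries h2 (g : Matrix.SpecialLinearGroup (Fin 2) F)
          (by have := congrArg Subtype.val hg; simpa using this) (fun h => hg1 (Subtype.ext h))
        have e2 := invol_entries h2 (g0 : Matrix.SpecialLinearGroup (Fin 2) F)
          (by have := congrArg Subtype.val hg0; simpa using this) (fun h => hg01 (Subtype.ext h))
        apply Subtype.ext
        apply Subtype.ext
        ext i j
        fin_cases i <;> fin_cases j
        · exact e1.1.trans e2.1.symm
        · exact e1.2.1.trans e2.2.1.symm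
        · exact e1.2.2.1.trans e2.2.2.1.symm
        · exact e1.2.2.2.trans e2.2.2.2.symm
    calc Set.ncard {g : ↥P | g ^ 2 = 1} ≤ Set.ncard ({1, g0} : Set ↥P) :=
          Set.ncard_le_ncard hsub ((Set.finite_singleton _).insert _)
      _ ≤ Set.ncard ({g0} : Set ↥P) + 1 := Set.ncard_insert_le _ _
      _ = 2 := by rw [Set.ncard_singleton]
  · push Not at h
    have hsub : {g : ↥P | g ^ 2 = 1} ⊆ {1} := fun g hg => h g hg
    calc Set.ncard {g : ↥P | g ^ 2 = 1} ≤ Set.ncard ({1} : Set ↥P) :=
          Set.ncard_le_ncard hsub (Set.finite_singleton _)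
      _ = 1 := Set.ncard_singleton _
      _ ≤ 2 := by norm_num

open Matrix in
theorem exists_noncomm_pair {F : Type*} [Field F] [Fintype F] (h2 : (2 : F) ≠ 0) :
    ∃ x y : Matrix.SpecialLinearGroup (Fin 2) F,
      x * y ≠ y * x ∧ x ^ 4 = 1 ∧ y ^ 4 = 1 ∧ x * y * x = y := by
  obtain ⟨a, b, hab⟩ : ∃ a b : F, a ^ 2 + b ^ 2 = -1 := by
    have : NeZero (ringChar F) := ⟨CharP.char_ne_zero_of_finite F (ringChar F)⟩
    obtain ⟨a, b, h⟩ := CharP.sq_add_sq F (ringChar F) (-1)
    exact ⟨a, b, by simpa using h⟩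
  have hx4 : ∀ x : Matrix.SpecialLinearGroup (Fin 2) F, x ^ 4 = x * x * x * x := by
    intro x
    rw [show 4 = 1 + 1 + 1 + 1 from rfl, pow_succ, pow_succ, pow_succ, pow_one]
  let x : Matrix.SpecialLinearGroup (Fin 2) F := ⟨!![0, 1; -1, 0], by simp [Matrix.det_fin_two]⟩
  let y : Matrix.SpecialLinearGroup (Fin 2) F :=
    ⟨!![a, b; b, -a], by rw [Matrix.det_fin_two_of]; linear_combination (-1 : F) * hab⟩
  have hxv : (x : Matrix (Fin 2) (Fin 2) F) = !![0, 1; -1, 0] := rfl
  have hyv : (y : Matrix (Fin 2) (Fin 2) F) = !![a, b; b, -a] := rfl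
  refine ⟨x, y, ?_, ?_, ?_, ?_⟩
  · intro h
    have h' := congrArg Subtype.val h
    rw [Matrix.SpecialLinearGroup.coe_mul, Matrix.SpecialLinearGroup.coe_mul, hxv, hyv,
      Matrix.mul_fin_two, Matrix.mul_fin_two] at h'
    have e00 := congrFun (congrFun h' 0) 0
    have e01 := congrFun (congrFun h' 0) 1
    simp at e00 e01
    have hb : b = 0 := by
      have : (2 : F) * b = 0 := by linear_combination e00
      rcases mul_eq_zero.mp this with h | h
      · exact absurd h h2
      · exact h
    have ha : a = 0 := by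
      have : (2 : F) * a = 0 := by linear_combination (-1 : F) * e01
      rcases mul_eq_zero.mp this with h | h
      · exact absurd h h2
      · exact h
    rw [ha, hb] at hab
    have : (1 : F) = 0 := by linear_combination hab
    exact one_ne_zero this
  · rw [hx4]
    apply Subtype.ext
    rw [Matrix.SpecialLinearGroup.coe_mul, Matrix.SpecialLinearGroup.coe_mul, Matrix.SpecialLinearGroup.coe_mul,
      hxv, Matrix.mul_fin_two, Matrix.mul_fin_two, Matrix.mul_fin_two, Matrix.SpecialLinearGroup.coe_one,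
      Matrix.one_fin_two]
    simp
  · rw [hx4]
    apply Subtype.ext
    rw [Matrix.SpecialLinearGroup.coe_mul, Matrix.SpecialLinearGroup.coe_mul, Matrix.SpecialLinearGroup.coe_mul,
      hyv, Matrix.mul_fin_two, Matrix.mul_fin_two, Matrix.mul_fin_two, Matrix.SpecialLinearGroup.coe_one,
      Matrix.one_fin_two]
    have e1 : ((a * a + b * b) * a + (a * b + b * -a) * b) * a + ((a * a + b * b) * b + (a * b + b * -a) * -a) * b = 1 := by
      linear_combination (a ^ 2 + b ^ 2 - 1) * hab
    have e2 : ((a * a + b * b) * a + (a * b + b * -a) * b) * b + ((a * a + b * b) * b + (a * b + b * -a) * -a) * -a = 0 := by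
      ring
    have e3 : ((b * a + -a * b) * a + (b * b + -a * -a) * b) * a + ((b * a + -a * b) * b + (b * b + -a * -a) * -a) * b = 0 := by
      ring
    have e4 : ((b * a + -a * b) * a + (b * b + -a * -a) * b) * b + ((b * a + -a * b) * b + (b * b + -a * -a) * -a) * -a = 1 := by
      linear_combination (a ^ 2 + b ^ 2 - 1) * hab
    rw [e1, e2, e3, e4]
  · apply Subtype.ext
    rw [Matrix.SpecialLinearGroup.coe_mul, Matrix.SpecialLinearGroup.coe_mul,
      hxv, hyv, Matrix.mul_fin_two, Matrix.mul_fin_two]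
    simp

theorem isPGroup_zpowers {G : Type*} [Group G] (x : G) (k : ℕ) (hk : x ^ (2 ^ k) = 1) :
    IsPGroup 2 (Subgroup.zpowers x) := by
  rintro ⟨w, hw⟩
  obtain ⟨j, rfl⟩ := Subgroup.mem_zpowers_iff.mp hw
  refine ⟨k, Subtype.ext ?_⟩
  simp only [Subgroup.coe_pow, Subgroup.coe_one]
  rw [← zpow_natCast, ← zpow_mul, mul_comm, zpow_mul, zpow_natCast, hk, one_zpow]

theorem mem_normalizer_zpowers_of_inv {G : Type*} [Group G] {x y : G} (h : x * y * x = y) :
    y ∈ Subgroup.normalizer ((Subgroup.zpowers x : Subgroup G) : Set G) := by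
  have h1 : y * x * y⁻¹ = x⁻¹ := by
    calc y * x * y⁻¹ = x⁻¹ * (x * y * x) * y⁻¹ := by group
      _ = x⁻¹ := by rw [h]; group
  have h2 : y⁻¹ * x * y = x⁻¹ := by
    calc y⁻¹ * x * y = y⁻¹ * (x * y * x) * x⁻¹ := by group
      _ = x⁻¹ := by rw [h]; group
  rw [Subgroup.mem_normalizer_iff]
  intro w
  constructor
  · intro hw
    obtain ⟨k, rfl⟩ := Subgroup.mem_zpowers_iff.mp hw
    rw [← conj_zpow, h1]
    exact Subgroup.zpow_mem _ (Subgroup.inv_mem _ (Subgroup.mem_zpowers x)) k
  · intro hw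
    obtain ⟨k, hk⟩ := Subgroup.mem_zpowers_iff.mp hw
    have e : w = y⁻¹ * x ^ k * y⁻¹⁻¹ := by rw [hk]; group
    rw [e, ← conj_zpow, inv_inv, h2]
    exact Subgroup.zpow_mem _ (Subgroup.inv_mem _ (Subgroup.mem_zpowers x)) k

/-- For q odd, the Sylow 2-subgroups of SL_2(q) are generalised quaternion. -/
theorem result {F : Type*} [Field F] [Fintype F] (hF : Odd (Fintype.card F)) (P : Sylow 2 (Matrix.SpecialLinearGroup (Fin 2) F)) : ∃ k : ℕ, 1 ≤ k ∧ Nonempty ((P : Subgroup (Matrix.SpecialLinearGroup (Fin 2) F)) ≃* QuaternionGroup (2 ^ k)) := by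
  classical
  have h2 : (2 : F) ≠ 0 := by
    apply Ring.two_ne_zero
    intro hchar
    have := (FiniteField.even_card_iff_char_two).mp hchar
    exact (Nat.not_even_iff_odd.mpr hF) (Nat.even_iff.mpr this)
  have hE := ncard_invol h2 (P : Subgroup (Matrix.SpecialLinearGroup (Fin 2) F))
  have hnc : ¬ ∀ u v : ↥(P : Subgroup (Matrix.SpecialLinearGroup (Fin 2) F)), u * v = v * u := by
    intro hcomm
    obtain ⟨x, y, hxy, hx4, hy4, hxyx⟩ := exists_noncomm_pair h2
    have hX : IsPGroup 2 (Subgroup.zpowers x) := isPGroup_zpowers x 2 hx4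
    have hY : IsPGroup 2 (Subgroup.zpowers y) := isPGroup_zpowers y 2 hy4
    have hle : Subgroup.zpowers y ≤ Subgroup.normalizer ((Subgroup.zpowers x : Subgroup _) : Set _) := by
      rw [Subgroup.zpowers_le]
      exact mem_normalizer_zpowers_of_inv hxyx
    have hD := IsPGroup.to_sup_of_normal_right' hY hX hle
    obtain ⟨P', hP'⟩ := hD.exists_le_sylow
    have hcomm' : ∀ u v : ↥(P' : Subgroup (Matrix.SpecialLinearGroup (Fin 2) F)), u * v = v * u := by
      intro u v
      have := hcomm ((Sylow.equiv P P').symm u) ((Sylow.equiv P P').symm v)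
      rw [← map_mul, ← map_mul] at this
      exact (Sylow.equiv P P').symm.injective this
    have hxP : x ∈ (P' : Subgroup _) := hP' ((le_sup_right : Subgroup.zpowers x ≤ _) (Subgroup.mem_zpowers x))
    have hyP : y ∈ (P' : Subgroup _) := hP' ((le_sup_left : Subgroup.zpowers y ≤ _) (Subgroup.mem_zpowers y))
    exact hxy (congrArg Subtype.val (hcomm' ⟨x, hxP⟩ ⟨y, hyP⟩))
  rcases Cfsg.Agent.Lib.Helper18.UniqueInvolution.cyclic_or_quaternion P.2 hE with hcyc | ⟨n, ⟨e⟩⟩
  · exfalso
    exact hnc (fun u v => (IsCyclic.isMulCommutative (α := ↥(P : Subgroup (Matrix.SpecialLinearGroup (Fin 2) F)))).is_comm.comm u v)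
  · refine ⟨n, ?_, ⟨e⟩⟩
    by_contra hn
    have hn0 : n = 0 := by omega
    subst hn0
    apply hnc
    intro u v
    have hc : IsCyclic (QuaternionGroup (2 ^ 0)) := by
      rw [pow_zero]; exact QuaternionGroup.quaternionGroup_one_isCyclic
    have := (IsCyclic.isMulCommutative (α := QuaternionGroup (2 ^ 0))).is_comm.comm (e u) (e v)
    rw [← map_mul, ← map_mul] at this
    exact e.injective this

end Cfsg.Agent.S0261
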