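import Mathlib
import Cfsg.Statements.S0276
import Cfsg.Agent.S0242
import Cfsg.Agent.S0243
import Cfsg.Agent.S0261
import Cfsg.Agent.Lib.Helper2.SimpleIndex

set_option autoImplicit false
open Cfsg

namespace Cfsg.Agent.S0276

theorem card_SL2 {F : Type*} [Field F] [Fintype F] {q : ℕ} (hF : Fintype.card F = q) :
    Nat.card (Matrix.SpecialLinearGroup (Fin 2) F) = q * (q - 1) * (q + 1) := by
  have h := Cfsg.Agent.S0242.result hF 2 (by norm_num)
  rw [Fin.prod_univ_two] at h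
  have hq : 2 ≤ q := by rw [← hF]; exact Fintype.one_lt_card
  obtain ⟨r, rfl⟩ : ∃ r, q = r + 2 := ⟨q - 2, by omega⟩
  have e0 : r + 2 - 1 = r + 1 := by omega
  have e1 : (r + 2) ^ 2 - (r + 2) ^ ((0 : Fin 2) : ℕ) = (r + 1) * (r + 3) := by
    apply Nat.sub_eq_of_eq_add; simp; ring
  have e2 : (r + 2) ^ 2 - (r + 2) ^ ((1 : Fin 2) : ℕ) = (r + 2) * (r + 1) := by
    apply Nat.sub_eq_of_eq_add; simp; ring
  rw [e0, e1, e2] at h
  rw [e0]
  apply Nat.eq_of_mul_eq_mul_left (by omega : 0 < r + 1)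
  rw [h]; ring

theorem two_mul_card_PSL2 {F : Type*} [Field F] [Fintype F] {q : ℕ} (hF : Fintype.card F = q)
    (hodd : Odd q) :
    2 * Nat.card (Matrix.ProjectiveSpecialLinearGroup (Fin 2) F) = q * (q - 1) * (q + 1) := by
  have h := Cfsg.Agent.S0243.result hF 2 (by norm_num)
  rw [Fin.prod_univ_two] at h
  have hq : 2 ≤ q := by rw [← hF]; exact Fintype.one_lt_card
  obtain ⟨r, rfl⟩ : ∃ r, q = r + 2 := ⟨q - 2, by omega⟩
  have e0 : r + 2 - 1 = r + 1 := by omega
  have e1 : (r + 2) ^ 2 - (r + 2) ^ ((0 : Fin 2) : ℕ) = (r + 1) * (r + 3) := by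
    apply Nat.sub_eq_of_eq_add; simp; ring
  have e2 : (r + 2) ^ 2 - (r + 2) ^ ((1 : Fin 2) : ℕ) = (r + 2) * (r + 1) := by
    apply Nat.sub_eq_of_eq_add; simp; ring
  have e3 : Nat.gcd 2 (r + 1) = 2 := by
    apply Nat.gcd_eq_left
    obtain ⟨j, hj⟩ := hodd
    exact ⟨j - 0 - (j - (r + 1) / 2), by omega⟩
  rw [e0, e1, e2, e3] at h
  rw [e0]
  apply Nat.eq_of_mul_eq_mul_left (by omega : 0 < r + 1)
  calc (r + 1) * (2 * Nat.card (Matrix.ProjectiveSpecialLinearGroup (Fin 2) F))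
      = 2 * ((r + 1) * Nat.card (Matrix.ProjectiveSpecialLinearGroup (Fin 2) F)) := by ring
    _ = (r + 1) * (r + 3) * ((r + 2) * (r + 1)) := h
    _ = (r + 1) * ((r + 2) * (r + 1) * (r + 2 + 1)) := by ring

theorem arith (q : ℕ) (hq : q % 8 = 3 ∨ q % 8 = 5) :
    ∃ m, ¬ 2 ∣ m ∧ q * (q - 1) * (q + 1) = 8 * m := by
  rcases hq with h | h
  · obtain ⟨k, rfl⟩ : ∃ k, q = 8 * k + 3 := ⟨q / 8, by omega⟩
    refine ⟨(8 * k + 3) * (4 * k + 1) * (2 * k + 1), ?_, ?_⟩
    · intro hd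
      rcases (Nat.Prime.dvd_mul Nat.prime_two).mp hd with h1 | h1
      · rcases (Nat.Prime.dvd_mul Nat.prime_two).mp h1 with h2 | h2 <;> omega
      · omega
    · have e0 : 8 * k + 3 - 1 = 2 * (4 * k + 1) := by omega
      rw [e0]; ring
  · obtain ⟨k, rfl⟩ : ∃ k, q = 8 * k + 5 := ⟨q / 8, by omega⟩
    refine ⟨(8 * k + 5) * (2 * k + 1) * (4 * k + 3), ?_, ?_⟩
    · intro hd
      rcases (Nat.Prime.dvd_mul Nat.prime_two).mp hd with h1 | h1
      · rcases (Nat.Prime.dvd_mul Nat.prime_two).mp h1 with h2 | h2 <;> omega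
      · omega
    · have e0 : 8 * k + 5 - 1 = 4 * (2 * k + 1) := by omega
      rw [e0]; ring
/-- In `SL₂` over a field of odd order `q ≡ 3, 5 mod 8`, an element of 2-power order has
central square. -/
theorem sq_mem_center {F : Type*} [Field F] [Fintype F] {q : ℕ} (hF : Fintype.card F = q)
    (hq : q % 8 = 3 ∨ q % 8 = 5) (A : Matrix.SpecialLinearGroup (Fin 2) F) (hA : A ^ (2 ^ 3) = 1) :
    A ^ 2 ∈ Subgroup.center (Matrix.SpecialLinearGroup (Fin 2) F) := by
  classical
  have hodd : Odd (Fintype.card F) := by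
    rw [hF, Nat.odd_iff]; omega
  have h2 : (2 : F) ≠ 0 := by
    apply Ring.two_ne_zero
    intro hchar
    have := (FiniteField.even_card_iff_char_two).mp hchar
    exact (Nat.not_even_iff_odd.mpr hodd) (Nat.even_iff.mpr this)
  have hp : IsPGroup 2 (Subgroup.zpowers A) := Cfsg.Agent.S0261.isPGroup_zpowers A 3 hA
  obtain ⟨S, hS⟩ := hp.exists_le_sylow
  obtain ⟨m, hm, hqm⟩ := arith q hq
  have hcardS : Nat.card S = 2 ^ 3 :=
    Cfsg.Agent.Lib.Helper2.SimpleIndex.sylow_card_of (p := 2) 3 m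
      (by rw [card_SL2 hF, hqm]; norm_num) hm S
  obtain ⟨k, hk, ⟨e⟩⟩ := Cfsg.Agent.S0261.result hodd S
  have hk1 : k = 1 := by
    have h1 := Nat.card_congr e.toEquiv
    have : NeZero (2 ^ k) := ⟨by positivity⟩
    rw [Nat.card_eq_fintype_card (α := QuaternionGroup (2 ^ k)), QuaternionGroup.card] at h1
    have h3 : Nat.card (S : Subgroup (Matrix.SpecialLinearGroup (Fin 2) F)) = 2 ^ 3 := hcardS
    rw [h3] at h1
    have h4 : 2 ^ k = 2 ^ 1 := by omega
    exact Nat.pow_right_injective (le_refl 2) h4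
  subst hk1
  have hA4 : A ^ 4 = 1 := by
    have hAS : A ∈ (S : Subgroup (Matrix.SpecialLinearGroup (Fin 2) F)) := hS (Subgroup.mem_zpowers A)
    have h1 : (e ⟨A, hAS⟩) ^ 4 = 1 := by
      have h5 := Monoid.pow_exponent_eq_one (e ⟨A, hAS⟩)
      rw [QuaternionGroup.exponent] at h5
      exact h5
    rw [← map_pow] at h1
    have h6 := e.injective (h1.trans (map_one e).symm)
    exact congrArg Subtype.val h6
  by_cases hA2 : A ^ 2 = 1
  · rw [hA2]; exact Subgroup.one_mem _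
  · have hent := Cfsg.Agent.S0261.invol_entries h2 (A ^ 2) (by rw [← pow_mul]; exact hA4) hA2
    rw [Subgroup.mem_center_iff]
    intro g
    apply Subtype.ext
    rw [Matrix.SpecialLinearGroup.coe_mul, Matrix.SpecialLinearGroup.coe_mul]
    have hval : ((A ^ 2 : Matrix.SpecialLinearGroup (Fin 2) F) : Matrix (Fin 2) (Fin 2) F) = -1 := by
      ext i j
      fin_cases i <;> fin_cases j
      · simpa using hent.1
      · simpa using hent.2.1
      · simpa using hent.2.2.1
      · simpa using hent.2.2.2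
    rw [hval]
    simp

/-- For q = 3 or 5 mod 8 the Sylow 2-subgroups of PSL_2(q) are elementary abelian of order 4. -/
theorem result {F : Type*} [Field F] [Fintype F] {q : ℕ} (hF : Fintype.card F = q) (hq : q % 8 = 3 ∨ q % 8 = 5) (P : Sylow 2 (Matrix.ProjectiveSpecialLinearGroup (Fin 2) F)) : IsKleinFour (P : Subgroup (Matrix.ProjectiveSpecialLinearGroup (Fin 2) F)) := by
  have hodd : Odd q := by rw [Nat.odd_iff]; omega
  have : Fact (Nat.Prime 2) := ⟨Nat.prime_two⟩
  obtain ⟨m, hm, hqm⟩ := arith q hq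
  have hcardP : Nat.card P = 2 ^ 2 := by
    apply Cfsg.Agent.Lib.Helper2.SimpleIndex.sylow_card_of (p := 2) 2 m _ hm P
    have h1 := two_mul_card_PSL2 hF hodd
    rw [hqm] at h1
    omega
  have hsq : ∀ g : ↥(P : Subgroup (Matrix.ProjectiveSpecialLinearGroup (Fin 2) F)), g ^ 2 = 1 := by
    rintro ⟨g, hg⟩
    apply Subtype.ext
    simp only [Subgroup.coe_pow, Subgroup.coe_one]
    have hg4 : g ^ 4 = 1 := by
      have h1 : (⟨g, hg⟩ : ↥(P : Subgroup (Matrix.ProjectiveSpecialLinearGroup (Fin 2) F))) ^ 4 = 1 := by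
        have h2 := pow_card_eq_one' (G := ↥(P : Subgroup (Matrix.ProjectiveSpecialLinearGroup (Fin 2) F)))
          (x := ⟨g, hg⟩)
        have h3 : Nat.card ↥(P : Subgroup (Matrix.ProjectiveSpecialLinearGroup (Fin 2) F)) = 4 := hcardP
        rw [h3] at h2
        exact h2
      exact congrArg Subtype.val h1
    induction g using QuotientGroup.induction_on with
    | H A =>
      have hA4 : A ^ 4 ∈ Subgroup.center (Matrix.SpecialLinearGroup (Fin 2) F) := by
        rw [← QuotientGroup.eq_one_iff]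
        exact hg4
      have hA8 : A ^ (2 ^ 3) = 1 := by
        rw [Matrix.SpecialLinearGroup.mem_center_iff] at hA4
        obtain ⟨r, hr, hrA⟩ := hA4
        have h5 : A ^ (2 ^ 3) = (A ^ 4) ^ 2 := by rw [← pow_mul]; norm_num
        rw [h5]
        apply Subtype.ext
        rw [Matrix.SpecialLinearGroup.coe_pow, ← hrA, ← map_pow]
        simp only [Fintype.card_fin] at hr
        rw [hr, map_one, Matrix.SpecialLinearGroup.coe_one]
      have := sq_mem_center hF hq A hA8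
      rw [← QuotientGroup.eq_one_iff] at this
      exact this
  have : Nontrivial ↥(P : Subgroup (Matrix.ProjectiveSpecialLinearGroup (Fin 2) F)) := by
    rw [← Finite.one_lt_card_iff_nontrivial]
    have h3 : Nat.card ↥(P : Subgroup (Matrix.ProjectiveSpecialLinearGroup (Fin 2) F)) = 4 := hcardP
    omega
  refine ⟨hcardP, ?_⟩
  have hdvd : Monoid.exponent ↥(P : Subgroup (Matrix.ProjectiveSpecialLinearGroup (Fin 2) F)) ∣ 2 :=
    Monoid.exponent_dvd_of_forall_pow_eq_one hsq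
  rcases (Nat.dvd_prime Nat.prime_two).mp hdvd with h1 | h2
  · exfalso
    rw [Monoid.exp_eq_one_iff] at h1
    exact not_subsingleton _ h1
  · exact h2

end Cfsg.Agent.S0276
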