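import Mathlib
import Cfsg.Statements.S0281
import Cfsg.Agent.Lib.Helper2.Unitary
import Cfsg.Agent.Lib.Helper2.Unitary2
import Cfsg.Agent.Lib.Helper2.HermCount
import Cfsg.Agent.S0262
import Cfsg.Agent.S0276
import Cfsg.Agent.S0278
import Cfsg.Agent.S0754

set_option autoImplicit false
open Cfsg

namespace Cfsg.Agent.S0281

open Cfsg.Agent.Lib.Helper2.Unitary Cfsg.Agent.Lib.Helper2.HermCount

theorem exists_ringHom {F K : Type*} [Field F] [Fintype F] [Field K] [Fintype K] {q : ℕ}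
    (hF : Fintype.card F = q ^ 2) (hK : Fintype.card K = q) : Nonempty (K →+* F) := by
  obtain ⟨p, hp⟩ := CharP.exists K
  have := hp
  have : Fact p.Prime := ⟨CharP.char_is_prime K p⟩
  obtain ⟨p', hp'⟩ := CharP.exists F
  have := hp'
  have : Fact p'.Prime := ⟨CharP.char_is_prime F p'⟩
  obtain ⟨n, hn1, hn⟩ := FiniteField.card K p
  obtain ⟨n', hn1', hn'⟩ := FiniteField.card F p'
  have hpp : p' = p := by
    have h1 : p' ∣ p ^ ((n : ℕ) * 2) := by
      rw [pow_mul, ← hn, hK, ← hF, hn']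
      exact dvd_pow_self p' n'.ne_zero
    exact (Nat.prime_dvd_prime_iff_eq hn1' hn1).mp (hn1'.dvd_of_dvd_pow h1)
  subst hpp
  letI := ZMod.algebra K p'
  letI := ZMod.algebra F p'
  have h1 := FiniteField.pow_finrank_eq_card p' K
  have h2 := FiniteField.pow_finrank_eq_card p' F
  have hdvd : Module.finrank (ZMod p') K ∣ Module.finrank (ZMod p') F := by
    have h3 : p' ^ Module.finrank (ZMod p') F = p' ^ (Module.finrank (ZMod p') K * 2) := by
      rw [h2, hF, ← hK, ← h1, ← pow_mul]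
    have h4 := Nat.pow_right_injective hn1'.two_le h3
    exact ⟨2, h4⟩
  obtain ⟨f⟩ := FiniteField.nonempty_algHom_of_finrank_dvd hdvd
  exact ⟨f.toRingHom⟩

theorem exists_skew {F : Type*} [Field F] [Fintype F] {q : ℕ} (hF : Fintype.card F = q ^ 2) :
    ∃ e : F, e ≠ 0 ∧ e ^ q = -e := by
  obtain ⟨c, hc1, hc2⟩ := exists_norm_one_sq_ne hF
  refine ⟨c - c ^ q, ?_, ?_⟩
  · intro h
    apply hc2
    have h1 : c = c ^ q := sub_eq_zero.mp h
    calc c * c = c * c ^ q := by rw [← h1]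
      _ = 1 := hc1
  · rw [pow_q_sub hF, pow_q_pow_q hF]
    ring

theorem exists_zeta {F : Type*} [Field F] [Fintype F] {q : ℕ} (hF : Fintype.card F = q ^ 2) :
    ∃ z z' : F, z * z ^ q = -1 ∧ z' * z' ^ q = -1 ∧ z ≠ z' := by
  have hq := two_le_q hF
  have hcard := Cfsg.Agent.S0754.result hF (-1 : F) (neg_ne_zero.mpr one_ne_zero)
    (by rw [pow_q_neg hF, one_pow])
  have h1 : 1 < Nat.card {x : F // x ^ (q + 1) = -1} := by omega
  obtain ⟨a, b, hab⟩ := (Finite.one_lt_card_iff_nontrivial.mp h1).exists_pair_ne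
  exact ⟨a.1, b.1, by rw [← pow_succ']; exact a.2, by rw [← pow_succ']; exact b.2,
    fun h => hab (Subtype.ext h)⟩

theorem exists_P {F : Type*} [Field F] [Fintype F] {q : ℕ} (hF : Fintype.card F = q ^ 2) :
    ∃ (P : Matrix (Fin 2) (Fin 2) F) (l : F), P.det ≠ 0 ∧
      ∀ u v : Fin 2 → F, Cfsg.hermForm 2 F q (P.mulVec u) (P.mulVec v) =
        l * (u 0 * v 1 ^ q - u 1 * v 0 ^ q) := by
  obtain ⟨z, z', hz, hz', hne⟩ := exists_zeta hF
  obtain ⟨e, he0, he⟩ := exists_skew hF
  have hw : 1 + z' * z ^ q ≠ 0 := by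
    intro h
    apply hne
    have h1 : z * (1 + z' * z ^ q) = z - z' := by linear_combination z' * hz
    rw [h, mul_zero] at h1
    exact sub_eq_zero.mp h1.symm
  have h4 : e / (1 + z' * z ^ q) * (1 + z' * z ^ q) = e := div_mul_cancel₀ e hw
  generalize e / (1 + z' * z ^ q) = t at h4
  have h3 : t ^ q * (1 + z * z' ^ q) = -e := by
    have h5 := congrArg (· ^ q) h4
    simp only [mul_pow, pow_q_add hF, one_pow, pow_q_pow_q hF, he] at h5
    linear_combination h5
  refine ⟨!![1, t; z, t * z'], -e, ?_, ?_⟩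
  · rw [Matrix.det_fin_two_of]
    have ht0 : t ≠ 0 := by
      intro h
      rw [h, zero_mul] at h4
      exact he0 h4.symm
    have h6 : (1 : F) * (t * z') - t * z = t * (z' - z) := by ring
    rw [h6]
    exact mul_ne_zero ht0 (sub_ne_zero.mpr (Ne.symm hne))
  · intro u v
    simp only [Cfsg.hermForm, Fin.sum_univ_two, Matrix.mulVec, dotProduct, Matrix.of_apply,
      Matrix.cons_val_zero, Matrix.cons_val_one, Matrix.cons_val', Matrix.cons_val_fin_one]
    rw [pow_q_add hF, pow_q_add hF]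
    simp only [mul_pow]
    linear_combination (u 0 * v 0 ^ q) * hz + (u 1 * v 1 ^ q * t * t ^ q) * hz' +
      (u 0 * v 1 ^ q) * h3 + (u 1 * v 0 ^ q) * h4

theorem isU_conj {F : Type*} [Field F] [Fintype F] {q : ℕ} (hF : Fintype.card F = q ^ 2)
    (P : Matrix (Fin 2) (Fin 2) F) (l : F) (hP : P.det ≠ 0)
    (hPl : ∀ u v : Fin 2 → F, Cfsg.hermForm 2 F q (P.mulVec u) (P.mulVec v) =
        l * (u 0 * v 1 ^ q - u 1 * v 0 ^ q))
    (A : Matrix (Fin 2) (Fin 2) F) (hA : ∀ i j, A i j ^ q = A i j) (hdet : A.det = 1) :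
    IsU 2 q (P * A * P⁻¹) := by
  intro u v
  have hu := isUnit_iff_ne_zero.mpr hP
  have key : ∀ x y : Fin 2 → F,
      Cfsg.hermForm 2 F q (P.mulVec (A.mulVec x)) (P.mulVec (A.mulVec y)) =
        Cfsg.hermForm 2 F q (P.mulVec x) (P.mulVec y) := by
    intro x y
    rw [hPl, hPl]
    have hd := hdet
    rw [Matrix.det_fin_two] at hd
    simp only [Matrix.mulVec, dotProduct, Fin.sum_univ_two]
    rw [pow_q_add hF, pow_q_add hF]
    simp only [mul_pow, hA]
    linear_combination l * (x 0 * y 1 ^ q - x 1 * y 0 ^ q) * hd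
  have h1 : ∀ w : Fin 2 → F, (P * A * P⁻¹).mulVec w = P.mulVec (A.mulVec (P⁻¹.mulVec w)) := by
    intro w
    rw [Matrix.mulVec_mulVec, Matrix.mulVec_mulVec]
  rw [h1, h1, key, Matrix.mulVec_mulVec, Matrix.mulVec_mulVec, Matrix.mul_nonsing_inv _ hu,
    Matrix.one_mulVec, Matrix.one_mulVec]

/-- SU_2(q) is isomorphic to SL_2(q). -/
theorem result {F K : Type*} [Field F] [Fintype F] [Field K] [Fintype K] {q : ℕ} (hF : Fintype.card F = q ^ 2) (hK : Fintype.card K = q) : Nonempty (Cfsg.SU 2 F q ≃* Matrix.SpecialLinearGroup (Fin 2) K) := by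
  obtain ⟨ι⟩ := exists_ringHom hF hK
  obtain ⟨P, l, hP, hPl⟩ := exists_P hF
  have hι : ∀ x : K, ι x ^ q = ι x := fun x => by rw [← map_pow, ← hK, FiniteField.pow_card]
  let f0 : Matrix.SpecialLinearGroup (Fin 2) K →* Matrix.SpecialLinearGroup (Fin 2) F :=
    (Cfsg.Agent.S0262.conjSL P hP).comp (Matrix.SpecialLinearGroup.map ι)
  have hmem : ∀ A, f0 A ∈ Cfsg.SU 2 F q := by
    intro A
    rw [mem_SU_iff]
    show IsU 2 q (P * (Matrix.SpecialLinearGroup.map ι A).1 * P⁻¹)
    apply isU_conj hF P l hP hPl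
    · intro i j
      simp only [Matrix.SpecialLinearGroup.map_apply_coe, RingHom.mapMatrix_apply, Matrix.map_apply]
      exact hι _
    · exact (Matrix.SpecialLinearGroup.map ι A).2
  let f : Matrix.SpecialLinearGroup (Fin 2) K →* Cfsg.SU 2 F q := f0.codRestrict _ hmem
  have hinj : Function.Injective f := by
    intro A B hAB
    have h1 : f0 A = f0 B := congrArg Subtype.val hAB
    have h2 := Cfsg.Agent.S0262.conjSL_injective P hP h1
    apply Subtype.ext
    ext i j
    have h3 := congrArg (fun M : Matrix.SpecialLinearGroup (Fin 2) F => M.1 i j) h2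
    simp only [Matrix.SpecialLinearGroup.map_apply_coe, RingHom.mapMatrix_apply,
      Matrix.map_apply] at h3
    exact ι.injective h3
  have hcard : Nat.card (Matrix.SpecialLinearGroup (Fin 2) K) = Nat.card (Cfsg.SU 2 F q) := by
    have h1 := Cfsg.Agent.S0278.result hF 2 (by norm_num)
    have h2 := Cfsg.Agent.S0276.card_SL2 hK
    have hq := two_le_q hF
    rw [Finset.prod_range_succ, Finset.prod_range_one] at h1
    simp at h1
    rw [h2]
    obtain ⟨r, rfl⟩ : ∃ r, q = r + 1 := ⟨q - 1, by omega⟩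
    have e1 : (r + 1) ^ 2 - 1 = r * (r + 2) := by
      have : (r + 1) ^ 2 = r * (r + 2) + 1 := by ring
      omega
    rw [e1] at h1
    have e2 : r + 1 - 1 = r := by omega
    rw [e2]
    have h3 : (r + 1 + 1) * Nat.card (Cfsg.SU 2 F (r + 1)) = (r + 1 + 1) * ((r + 1) * r * (r + 1 + 1)) := by
      rw [h1]; ring
    exact (Nat.eq_of_mul_eq_mul_left (by omega) h3).symm
  have hbij : Function.Bijective f := (Nat.bijective_iff_injective_and_card f).mpr ⟨hinj, hcard⟩
  exact ⟨(MulEquiv.ofBijective f hbij).symm⟩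

end Cfsg.Agent.S0281
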