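import Cfsg.Statements.S2508
import Cfsg.Agent.Lib.Helper14.SL2Odd2

set_option autoImplicit false
open Cfsg

namespace Cfsg.Agent.S2508

open Cfsg.Agent.Lib.Helper14.GL2Conj Cfsg.Agent.Lib.Helper14.SL2Odd Cfsg.Agent.Lib.Helper14.PSL2
open Cfsg.Agent.Lib.Helper14.ClassSize Cfsg.Agent.Lib.Helper14.SL2Odd2

variable {F : Type*} [Field F]

theorem center_cases (z : Matrix.SpecialLinearGroup (Fin 2) F)
    (hz : z ∈ Subgroup.center (Matrix.SpecialLinearGroup (Fin 2) F)) : z = 1 ∨ z = negOne := by
  have h1 : (QuotientGroup.mk z : Matrix.ProjectiveSpecialLinearGroup (Fin 2) F) = 1 :=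
    (QuotientGroup.eq_one_iff z).mpr hz
  exact scalar_cases z ((mk_eq_one_iff z).mp h1)

theorem negOne_mem_center :
    (negOne : Matrix.SpecialLinearGroup (Fin 2) F) ∈ Subgroup.center (Matrix.SpecialLinearGroup (Fin 2) F) :=
  (QuotientGroup.eq_one_iff _).mp mk_negOne

theorem negOne_comm (W : Matrix.SpecialLinearGroup (Fin 2) F) : negOne * W = W * negOne :=
  ((Subgroup.mem_center_iff.mp negOne_mem_center) W).symm

theorem negOne_sq : (negOne : Matrix.SpecialLinearGroup (Fin 2) F) * negOne = 1 := by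
  apply Subtype.ext
  rw [Matrix.SpecialLinearGroup.coe_mul, negOne_coe, Matrix.mul_fin_two]
  ext i j
  fin_cases i <;> fin_cases j <;> simp

theorem conj_neg (W G : Matrix.SpecialLinearGroup (Fin 2) F) :
    W * (negOne * G) * W⁻¹ = negOne * (W * G * W⁻¹) := by
  rw [← mul_assoc W negOne G, ← negOne_comm W, mul_assoc negOne W G, mul_assoc negOne (W * G) W⁻¹]

theorem card_center (h2 : (2 : F) ≠ 0) :
    Nat.card (Subgroup.center (Matrix.SpecialLinearGroup (Fin 2) F)) = 2 := by
  rw [Nat.card_eq_two_iff]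
  refine ⟨⟨1, Subgroup.one_mem _⟩, ⟨negOne, negOne_mem_center⟩, ?_, ?_⟩
  · intro h
    exact negOne_ne_one h2 (congrArg Subtype.val h).symm
  · ext ⟨z, hz⟩
    simp only [Set.mem_insert_iff, Set.mem_singleton_iff, Set.mem_univ, iff_true, Subtype.mk.injEq]
    exact center_cases z hz

theorem preimage_class (G : Matrix.SpecialLinearGroup (Fin 2) F) :
    (QuotientGroup.mk : Matrix.SpecialLinearGroup (Fin 2) F → Matrix.ProjectiveSpecialLinearGroup (Fin 2) F) ⁻¹'
      {h | IsConj (QuotientGroup.mk G : Matrix.ProjectiveSpecialLinearGroup (Fin 2) F) h} =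
      {H | IsConj G H} ∪ {H | IsConj (negOne * G) H} := by
  ext H
  constructor
  · intro hH
    have hH' : IsConj (QuotientGroup.mk G : Matrix.ProjectiveSpecialLinearGroup (Fin 2) F)
        (QuotientGroup.mk H) := hH
    obtain ⟨w, hw⟩ := isConj_iff.mp hH'
    obtain ⟨W, rfl⟩ := QuotientGroup.mk_surjective w
    rw [← QuotientGroup.mk_inv, ← QuotientGroup.mk_mul, ← QuotientGroup.mk_mul] at hw
    have hz := QuotientGroup.eq.mp hw
    rcases center_cases _ hz with h1 | h1
    · left
      show IsConj G H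
      rw [isConj_iff]
      exact ⟨W, inv_mul_eq_one.mp h1⟩
    · right
      show IsConj (negOne * G) H
      rw [isConj_iff]
      refine ⟨W, ?_⟩
      have h3 : H = (W * G * W⁻¹) * negOne := by
        rw [← h1]
        group
      rw [h3, conj_neg, negOne_comm]
  · rintro (h | h)
    · have h' : IsConj G H := h
      exact MonoidHom.map_isConj (QuotientGroup.mk' (Subgroup.center (Matrix.SpecialLinearGroup (Fin 2) F))) h'
    · have h' : IsConj (negOne * G) H := h
      have h3 := MonoidHom.map_isConj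
        (QuotientGroup.mk' (Subgroup.center (Matrix.SpecialLinearGroup (Fin 2) F))) h'
      show IsConj (QuotientGroup.mk G : Matrix.ProjectiveSpecialLinearGroup (Fin 2) F) (QuotientGroup.mk H)
      rw [← mk_negOne_mul G]
      exact h3

theorem psl_class_ncard [Fintype F] (h2 : (2 : F) ≠ 0) (G : Matrix.SpecialLinearGroup (Fin 2) F) :
    2 * (Subgroup.centralizer ({(QuotientGroup.mk G : Matrix.ProjectiveSpecialLinearGroup (Fin 2) F)} :
      Set (Matrix.ProjectiveSpecialLinearGroup (Fin 2) F))).index =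
      Set.ncard ({H : Matrix.SpecialLinearGroup (Fin 2) F | IsConj G H} ∪ {H | IsConj (negOne * G) H}) := by
  rw [index_centralizer_eq_ncard, ← preimage_class, ← Nat.card_coe_set_eq, ← Nat.card_coe_set_eq,
    QuotientGroup.card_preimage_mk, card_center h2]

theorem neg_class_ncard (G : Matrix.SpecialLinearGroup (Fin 2) F) :
    Set.ncard {H : Matrix.SpecialLinearGroup (Fin 2) F | IsConj (negOne * G) H} =
      Set.ncard {H : Matrix.SpecialLinearGroup (Fin 2) F | IsConj G H} := by
  have h1 : {H : Matrix.SpecialLinearGroup (Fin 2) F | IsConj (negOne * G) H} =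
      (fun H => negOne * H) '' {H : Matrix.SpecialLinearGroup (Fin 2) F | IsConj G H} := by
    ext H
    constructor
    · intro h
      have h' : IsConj (negOne * G) H := h
      refine ⟨negOne * H, ?_, ?_⟩
      · obtain ⟨W, hW⟩ := isConj_iff.mp h'
        show IsConj G (negOne * H)
        rw [isConj_iff]
        refine ⟨W, ?_⟩
        rw [← hW, conj_neg, ← mul_assoc, negOne_sq, one_mul]
      · show negOne * (negOne * H) = H
        rw [← mul_assoc, negOne_sq, one_mul]
    · rintro ⟨K, hK, rfl⟩
      have hK' : IsConj G K := hK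
      obtain ⟨W, hW⟩ := isConj_iff.mp hK'
      show IsConj (negOne * G) (negOne * K)
      rw [isConj_iff]
      exact ⟨W, by rw [← hW, conj_neg]⟩
  rw [h1, Set.ncard_image_of_injective _ (mul_right_injective negOne)]

theorem idx_scalar (G : Matrix.SpecialLinearGroup (Fin 2) F)
    (hG : IsScalarMat (G : Matrix (Fin 2) (Fin 2) F)) :
    (Subgroup.centralizer ({(QuotientGroup.mk G : Matrix.ProjectiveSpecialLinearGroup (Fin 2) F)} :
      Set (Matrix.ProjectiveSpecialLinearGroup (Fin 2) F))).index = 1 := by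
  rw [(mk_eq_one_iff G).mpr hG]
  have : Subgroup.centralizer ({1} : Set (Matrix.ProjectiveSpecialLinearGroup (Fin 2) F)) = ⊤ := by
    rw [eq_top_iff]
    intro x _
    rw [Subgroup.mem_centralizer_iff]
    intro y hy
    rw [Set.mem_singleton_iff] at hy
    rw [hy, mul_one, one_mul]
  rw [this, Subgroup.index_top]

theorem union_disjoint [Fintype F] (h2 : (2 : F) ≠ 0) (G : Matrix.SpecialLinearGroup (Fin 2) F)
    (ht0 : tr2 G ≠ 0) :
    Set.ncard ({H : Matrix.SpecialLinearGroup (Fin 2) F | IsConj G H} ∪ {H | IsConj (negOne * G) H}) =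
      2 * Set.ncard {H : Matrix.SpecialLinearGroup (Fin 2) F | IsConj G H} := by
  have hdisj : Disjoint {H : Matrix.SpecialLinearGroup (Fin 2) F | IsConj G H}
      {H : Matrix.SpecialLinearGroup (Fin 2) F | IsConj (negOne * G) H} := by
    rw [Set.disjoint_left]
    intro H h1 h3
    have h1' : IsConj G H := h1
    have h3' : IsConj (negOne * G) H := h3
    have e1 := tr2_of_isConj h1'
    have e2 := tr2_of_isConj h3'
    rw [tr2_negOne_mul] at e2
    apply ht0
    have h4 : (2 : F) * tr2 G = 0 := by linear_combination e2 - e1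
    rcases mul_eq_zero.mp h4 with h5 | h5
    · exact absurd h5 h2
    · exact h5
  rw [Set.ncard_union_eq hdisj (Set.toFinite _) (Set.toFinite _), neg_class_ncard, two_mul]

theorem idx_unip [Fintype F] (hodd : Fintype.card F % 2 = 1) (G : Matrix.SpecialLinearGroup (Fin 2) F)
    (hG : ¬ IsScalarMat (G : Matrix (Fin 2) (Fin 2) F)) (ht : tr2 G ^ 2 = 4) :
    (Subgroup.centralizer ({(QuotientGroup.mk G : Matrix.ProjectiveSpecialLinearGroup (Fin 2) F)} :
      Set (Matrix.ProjectiveSpecialLinearGroup (Fin 2) F))).index = (Fintype.card F ^ 2 - 1) / 2 := by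
  have h2 : (2 : F) ≠ 0 := two_ne_zero_of_odd hodd
  have ht0 : tr2 G ≠ 0 := by
    intro h0
    rw [h0] at ht
    have h4 : (2 : F) * 2 = 0 := by linear_combination (-1 : F) * ht
    exact h2 (mul_self_eq_zero.mp h4)
  have h1 := psl_class_ncard h2 G
  rw [union_disjoint h2 G ht0, class_ncard_unip hodd G hG ht] at h1
  omega

theorem idx_zero [Fintype F] (hodd : Fintype.card F % 2 = 1) (G : Matrix.SpecialLinearGroup (Fin 2) F)
    (ht : tr2 G = 0) :
    2 * (Subgroup.centralizer ({(QuotientGroup.mk G : Matrix.ProjectiveSpecialLinearGroup (Fin 2) F)} :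
      Set (Matrix.ProjectiveSpecialLinearGroup (Fin 2) F))).index =
      Nat.card {p : F // p * (0 - p) = 1} * Fintype.card F + Fintype.card F * (Fintype.card F - 1) := by
  have h2 : (2 : F) ≠ 0 := two_ne_zero_of_odd hodd
  have ht4 : tr2 G ^ 2 ≠ 4 := by
    rw [ht]
    intro h4
    have h5 : (2 : F) * 2 = 0 := by linear_combination (-1 : F) * h4
    exact h2 (mul_self_eq_zero.mp h5)
  have hGs := not_scalar_of_trace G ht4
  have htn : tr2 (negOne * G) = tr2 G := by rw [tr2_negOne_mul, ht, neg_zero]
  have hconj : IsConj G (negOne * G) :=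
    conj_of_trace hodd G _ hGs (not_scalar_of_trace _ (by rw [htn]; exact ht4)) htn.symm ht4
  have hsame : {H : Matrix.SpecialLinearGroup (Fin 2) F | IsConj (negOne * G) H} =
      {H : Matrix.SpecialLinearGroup (Fin 2) F | IsConj G H} := by
    ext H
    constructor
    · intro h
      have h' : IsConj (negOne * G) H := h
      exact hconj.trans h'
    · intro h
      have h' : IsConj G H := h
      exact hconj.symm.trans h'
  rw [psl_class_ncard h2 G, hsame, Set.union_self, class_ncard_regular hodd G ht4, ht]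

theorem idx_reg [Fintype F] (hodd : Fintype.card F % 2 = 1) (G : Matrix.SpecialLinearGroup (Fin 2) F)
    (ht0 : tr2 G ≠ 0) (ht4 : tr2 G ^ 2 ≠ 4) :
    (Subgroup.centralizer ({(QuotientGroup.mk G : Matrix.ProjectiveSpecialLinearGroup (Fin 2) F)} :
      Set (Matrix.ProjectiveSpecialLinearGroup (Fin 2) F))).index =
      Nat.card {p : F // p * (tr2 G - p) = 1} * Fintype.card F + Fintype.card F * (Fintype.card F - 1) := by
  have h2 : (2 : F) ≠ 0 := two_ne_zero_of_odd hodd
  have h1 := psl_class_ncard h2 G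
  rw [union_disjoint h2 G ht0, class_ncard_regular hodd G ht4] at h1
  omega

theorem roots_two (t : F) (ht4 : t ^ 2 ≠ 4) (r : F) (hr : r * (t - r) = 1) :
    Nat.card {p : F // p * (t - p) = 1} = 2 := by
  rw [Nat.card_eq_two_iff]
  have hr' : (t - r) * (t - (t - r)) = 1 := by
    rw [← hr]; ring
  refine ⟨⟨r, hr⟩, ⟨t - r, hr'⟩, ?_, ?_⟩
  · intro h
    have h1 : r = t - r := congrArg Subtype.val h
    apply ht4
    have h3 : t = 2 * r := by linear_combination (-1 : F) * h1
    have h4 : r * r = 1 := by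
      rw [h3] at hr
      linear_combination hr
    rw [h3]
    linear_combination 4 * h4
  · ext ⟨p, hp⟩
    simp only [Set.mem_insert_iff, Set.mem_singleton_iff, Set.mem_univ, iff_true, Subtype.mk.injEq]
    have h1 : (p - r) * (t - p - r) = 0 := by
      have : (p - r) * (t - p - r) = p * (t - p) - r * (t - r) := by ring
      rw [this, hp, hr, sub_self]
    rcases mul_eq_zero.mp h1 with h | h
    · left
      exact sub_eq_zero.mp h
    · right
      have : t - p - r = (t - r) - p := by ring
      rw [this] at h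
      exact (sub_eq_zero.mp h).symm

theorem roots_none (t : F) (ht : ∀ r : F, r * (t - r) ≠ 1) :
    Nat.card {p : F // p * (t - p) = 1} = 0 := by
  have : IsEmpty {p : F // p * (t - p) = 1} := ⟨fun p => ht p.1 p.2⟩
  exact Nat.card_of_isEmpty

theorem exists_r [Fintype F] (h7 : 7 ≤ Fintype.card F) : ∃ r : F, r ≠ 0 ∧ r ^ 4 ≠ 1 := by
  classical
  by_contra hcon
  have hall : ∀ r : F, r ^ 5 - r = 0 := by
    intro r
    by_cases hr : r = 0
    · rw [hr]; ring
    · have h4 : r ^ 4 = 1 := by
        by_contra h4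
        exact hcon ⟨r, hr, h4⟩
      have : r ^ 5 - r = r * (r ^ 4 - 1) := by ring
      rw [this, h4, sub_self, mul_zero]
  have hdeg : (Polynomial.X ^ 5 - Polynomial.X : Polynomial F).natDegree = 5 := by
    compute_degree!
  have hp0 : (Polynomial.X ^ 5 - Polynomial.X : Polynomial F) = 0 := by
    apply Polynomial.eq_zero_of_natDegree_lt_card_of_eval_eq_zero' _ (Finset.univ : Finset F)
    · intro x _
      simp only [Polynomial.eval_sub, Polynomial.eval_pow, Polynomial.eval_X]
      exact hall x
    · rw [hdeg, Finset.card_univ]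
      omega
  rw [hp0] at hdeg
  simp at hdeg

theorem exists_split_reg [Fintype F] (h7 : 7 ≤ Fintype.card F) :
    ∃ t r : F, t ≠ 0 ∧ t ^ 2 ≠ 4 ∧ r * (t - r) = 1 := by
  obtain ⟨r, hr0, hr4⟩ := exists_r h7
  refine ⟨r + r⁻¹, r, ?_, ?_, ?_⟩
  · intro h
    apply hr4
    have h1 : r * r = -1 := by
      have : r * (r + r⁻¹) = r * r + 1 := by rw [mul_add, mul_inv_cancel₀ hr0]
      rw [h, mul_zero] at this
      linear_combination (-1 : F) * this
    have : r ^ 4 = (r * r) ^ 2 := by ring
    rw [this, h1]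
    ring
  · intro h
    apply hr4
    have h1 : (r * r - 1) ^ 2 = 0 := by
      have e : (r + r⁻¹) ^ 2 = 4 := h
      field_simp at e
      linear_combination e
    have h3 : r * r = 1 := sub_eq_zero.mp (pow_eq_zero_iff (by norm_num) |>.mp h1)
    have : r ^ 4 = (r * r) ^ 2 := by ring
    rw [this, h3]
    ring
  · rw [add_sub_cancel_left]
    exact mul_inv_cancel₀ hr0

theorem exists_nonsplit_reg [Fintype F] (h7 : 7 ≤ Fintype.card F) :
    ∃ t : F, t ≠ 0 ∧ t ^ 2 ≠ 4 ∧ ∀ r : F, r * (t - r) ≠ 1 := by
  obtain ⟨r0, hr0, hr4⟩ := exists_r h7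
  have h1 : ¬ Function.Injective (fun r : F => r + r⁻¹) := by
    intro hinj
    have h3 : r0 = r0⁻¹ := by
      apply hinj
      show r0 + r0⁻¹ = r0⁻¹ + r0⁻¹⁻¹
      rw [inv_inv, add_comm]
    apply hr4
    have h4 : r0 * r0 = 1 := by
      nth_rewrite 2 [h3]
      exact mul_inv_cancel₀ hr0
    have : r0 ^ 4 = (r0 * r0) ^ 2 := by ring
    rw [this, h4]
    ring
  have h3 : ¬ Function.Surjective (fun r : F => r + r⁻¹) := fun hs =>
    h1 (Finite.injective_iff_surjective.mpr hs)
  rw [Function.Surjective, not_forall] at h3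
  obtain ⟨t, ht⟩ := h3
  have hns : ∀ r : F, r * (t - r) ≠ 1 := by
    intro r hr
    apply ht
    refine ⟨r, ?_⟩
    have h4 : t - r = r⁻¹ := eq_inv_of_mul_eq_one_right hr
    show r + r⁻¹ = t
    rw [← h4]
    ring
  refine ⟨t, ?_, ?_, hns⟩
  · intro h0
    apply ht
    exact ⟨0, by simp [h0]⟩
  · intro h4
    have h5 : (t - 2) * (t + 2) = 0 := by linear_combination h4
    rcases mul_eq_zero.mp h5 with h6 | h6
    · apply hns 1
      linear_combination h6
    · apply hns (-1)
      linear_combination (-1 : F) * h6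

theorem exists_G (t : F) : ∃ G : Matrix.SpecialLinearGroup (Fin 2) F,
    ¬ IsScalarMat (G : Matrix (Fin 2) (Fin 2) F) ∧ tr2 G = t :=
  ⟨⟨comp t 1, comp_det t 1⟩, comp_not_scalar' t, tr2_comp t⟩

theorem range_eq [Fintype F] (hodd : Fintype.card F % 2 = 1) (h7 : 7 ≤ Fintype.card F) (k : ℕ)
    (hk : Nat.card {p : F // p * (0 - p) = 1} = k) :
    Set.range (fun g : (Matrix.ProjectiveSpecialLinearGroup (Fin 2) F) =>
      (Subgroup.centralizer ({g} : Set (Matrix.ProjectiveSpecialLinearGroup (Fin 2) F))).index) =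
      {1, (Fintype.card F ^ 2 - 1) / 2, (k * Fintype.card F + Fintype.card F * (Fintype.card F - 1)) / 2,
        Fintype.card F * (Fintype.card F - 1), Fintype.card F * (Fintype.card F + 1)} := by
  have h2 : (2 : F) ≠ 0 := two_ne_zero_of_odd hodd
  have e2 : 2 * Fintype.card F + Fintype.card F * (Fintype.card F - 1) =
      Fintype.card F * (Fintype.card F + 1) := by
    obtain ⟨m, hm⟩ : ∃ m, Fintype.card F = m + 7 := ⟨Fintype.card F - 7, by omega⟩
    rw [hm]
    simp only [show m + 7 - 1 = m + 6 from rfl]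
    ring
  ext n
  simp only [Set.mem_range, Set.mem_insert_iff, Set.mem_singleton_iff]
  constructor
  · rintro ⟨g, rfl⟩
    obtain ⟨G, rfl⟩ := QuotientGroup.mk_surjective g
    by_cases hG : IsScalarMat (G : Matrix (Fin 2) (Fin 2) F)
    · left
      exact idx_scalar G hG
    · by_cases ht4 : tr2 G ^ 2 = 4
      · right; left
        exact idx_unip hodd G hG ht4
      · by_cases ht0 : tr2 G = 0
        · right; right; left
          have h1 := idx_zero hodd G ht0
          rw [hk] at h1
          omega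
        · by_cases hr : ∃ r : F, r * (tr2 G - r) = 1
          · obtain ⟨r, hr⟩ := hr
            right; right; right; right
            rw [idx_reg hodd G ht0 ht4, roots_two _ ht4 r hr, e2]
          · right; right; right; left
            rw [not_exists] at hr
            rw [idx_reg hodd G ht0 ht4, roots_none _ hr, zero_mul, zero_add]
  · rintro (h | h | h | h | h)
    · refine ⟨QuotientGroup.mk 1, ?_⟩
      rw [idx_scalar 1 isScalarMat_one, h]
    · have he : (1 : F) * 1 = 1 := by ring
      refine ⟨QuotientGroup.mk (uni 1 1 he), ?_⟩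
      rw [idx_unip hodd _ (uni_not_scalar 1 1 he one_ne_zero) (by rw [tr2_uni]; norm_num), h]
    · obtain ⟨G, hG, hGt⟩ := exists_G (0 : F)
      refine ⟨QuotientGroup.mk G, ?_⟩
      have h1 := idx_zero hodd G hGt
      rw [hk] at h1
      omega
    · obtain ⟨t, ht0, ht4, hns⟩ := exists_nonsplit_reg (F := F) h7
      obtain ⟨G, hG, hGt⟩ := exists_G t
      refine ⟨QuotientGroup.mk G, ?_⟩
      rw [idx_reg hodd G (by rw [hGt]; exact ht0) (by rw [hGt]; exact ht4), hGt, roots_none _ hns,
        zero_mul, zero_add, h]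
    · obtain ⟨t, r, ht0, ht4, hr⟩ := exists_split_reg (F := F) h7
      obtain ⟨G, hG, hGt⟩ := exists_G t
      refine ⟨QuotientGroup.mk G, ?_⟩
      rw [idx_reg hodd G (by rw [hGt]; exact ht0) (by rw [hGt]; exact ht4), hGt, roots_two _ ht4 r hr,
        e2, h]

theorem result {F : Type*} [Field F] [Fintype F]
    (hodd : ¬ 2 ∣ Fintype.card F) (h7 : 7 ≤ Fintype.card F) :
    (Fintype.card F % 4 = 1 →
      Set.range (fun g : (Matrix.ProjectiveSpecialLinearGroup (Fin 2) F) => (Subgroup.centralizer ({g} : Set (Matrix.ProjectiveSpecialLinearGroup (Fin 2) F))).index) =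
        {1, (Fintype.card F ^ 2 - 1) / 2, Fintype.card F * (Fintype.card F + 1) / 2,
          Fintype.card F * (Fintype.card F - 1), Fintype.card F * (Fintype.card F + 1)}) ∧
    (Fintype.card F % 4 = 3 →
      Set.range (fun g : (Matrix.ProjectiveSpecialLinearGroup (Fin 2) F) => (Subgroup.centralizer ({g} : Set (Matrix.ProjectiveSpecialLinearGroup (Fin 2) F))).index) =
        {1, (Fintype.card F ^ 2 - 1) / 2, Fintype.card F * (Fintype.card F - 1) / 2,
          Fintype.card F * (Fintype.card F + 1), Fintype.card F * (Fintype.card F - 1)}) := by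
  classical
  have hodd' : Fintype.card F % 2 = 1 := by omega
  have h2 : (2 : F) ≠ 0 := two_ne_zero_of_odd hodd'
  have e2 : 2 * Fintype.card F + Fintype.card F * (Fintype.card F - 1) =
      Fintype.card F * (Fintype.card F + 1) := by
    obtain ⟨m, hm⟩ : ∃ m, Fintype.card F = m + 7 := ⟨Fintype.card F - 7, by omega⟩
    rw [hm]
    simp only [show m + 7 - 1 = m + 6 from rfl]
    ring
  constructor
  · intro h4
    have hsq : IsSquare (-1 : F) := FiniteField.isSquare_neg_one_iff.mpr (by omega)
    obtain ⟨r, hr⟩ := hsq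
    have hk : Nat.card {p : F // p * (0 - p) = 1} = 2 := by
      apply roots_two 0 _ r
      · linear_combination hr
      · intro h
        have h5 : (2 : F) * 2 = 0 := by linear_combination (-1 : F) * h
        exact h2 (mul_self_eq_zero.mp h5)
    rw [range_eq hodd' h7 2 hk, e2]
  · intro h4
    have hsq : ¬ IsSquare (-1 : F) := fun h => (FiniteField.isSquare_neg_one_iff.mp h) h4
    have hk : Nat.card {p : F // p * (0 - p) = 1} = 0 := by
      apply roots_none
      intro r hr
      apply hsq
      exact ⟨r, by linear_combination hr⟩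
    rw [range_eq hodd' h7 0 hk, zero_mul, zero_add]
    ext n
    simp only [Set.mem_insert_iff, Set.mem_singleton_iff]
    tauto

end Cfsg.Agent.S2508
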