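import Cfsg.Statements.S2475
import Cfsg.Agent.S2508
import Cfsg.Agent.S2503

set_option autoImplicit false
open Cfsg

namespace Cfsg.Agent.S2475

open Cfsg.Agent.Lib.Helper14.GL2Conj Cfsg.Agent.Lib.Helper14.SL2Odd Cfsg.Agent.Lib.Helper14.PSL2
open Cfsg.Agent.Lib.Helper14.ClassSize Cfsg.Agent.Lib.Helper14.SL2Odd2

variable {F : Type*} [Field F]

theorem card_sl [Fintype F] :
    Nat.card (Matrix.SpecialLinearGroup (Fin 2) F) =
      (Fintype.card F + 1) * (Fintype.card F * (Fintype.card F - 1)) := by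
  have h2 := Cfsg.Agent.S0242.result (F := F) rfl 2 (by norm_num)
  rw [Fin.prod_univ_two] at h2
  simp only [Fin.val_zero, Fin.val_one, pow_zero, pow_one] at h2
  have hq : 2 ≤ Fintype.card F := Fintype.one_lt_card
  obtain ⟨m, hm⟩ : ∃ m, Fintype.card F = m + 2 := ⟨Fintype.card F - 2, by omega⟩
  rw [hm] at h2 ⊢
  have e1 : m + 2 - 1 = m + 1 := rfl
  have e2 : (m + 2) ^ 2 - 1 = (m + 1) * (m + 3) := by
    apply Nat.sub_eq_of_eq_add; ring
  have e3 : (m + 2) ^ 2 - (m + 2) = (m + 2) * (m + 1) := by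
    apply Nat.sub_eq_of_eq_add; ring
  rw [e1, e2, e3] at h2
  rw [e1]
  have h3 : (m + 1) * Nat.card (Matrix.SpecialLinearGroup (Fin 2) F) =
      (m + 1) * ((m + 2 + 1) * ((m + 2) * (m + 1))) := by
    rw [h2]; ring
  exact Nat.eq_of_mul_eq_mul_left (by positivity) h3

theorem card_of_index [Fintype F] (H : Subgroup (Matrix.SpecialLinearGroup (Fin 2) F)) (k : ℕ)
    (hidx : H.index = k * Fintype.card F + Fintype.card F * (Fintype.card F - 1)) :
    (k = 0 → Nat.card H = Fintype.card F + 1) ∧ (k = 2 → Nat.card H = Fintype.card F - 1) := by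
  have h1 := Subgroup.card_mul_index H
  rw [hidx, card_sl] at h1
  have hq : 2 ≤ Fintype.card F := Fintype.one_lt_card
  obtain ⟨m, hm⟩ : ∃ m, Fintype.card F = m + 2 := ⟨Fintype.card F - 2, by omega⟩
  rw [hm] at h1 ⊢
  have e1 : m + 2 - 1 = m + 1 := rfl
  rw [e1] at h1 ⊢
  constructor
  · intro hk
    rw [hk, zero_mul, zero_add] at h1
    exact Nat.eq_of_mul_eq_mul_right (by positivity) h1
  · intro hk
    rw [hk] at h1
    have h3 : Nat.card H * ((m + 2) * (m + 3)) = (m + 1) * ((m + 2) * (m + 3)) := by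
      linarith [h1]
    exact Nat.eq_of_mul_eq_mul_right (by positivity) h3

theorem index_regular [Fintype F] (p : ℕ) [Fact p.Prime] [CharP F p]
    (G : Matrix.SpecialLinearGroup (Fin 2) F) (ht4 : tr2 G ^ 2 ≠ 4) :
    (Subgroup.centralizer ({G} : Set (Matrix.SpecialLinearGroup (Fin 2) F))).index =
      Nat.card {r : F // r * (tr2 G - r) = 1} * Fintype.card F + Fintype.card F * (Fintype.card F - 1) := by
  by_cases hp2 : p = 2
  · have hchar : CharP F 2 := hp2 ▸ (inferInstance : CharP F p)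
    have ht0 : tr2 G ≠ 0 := by
      intro h0
      apply ht4
      rw [h0]
      have h2 : (2 : F) = 0 := CharTwo.two_eq_zero
      linear_combination (-2 : F) * h2
    exact Cfsg.Agent.S2507.class_ncard_ne_zero G (tr2 G) rfl ht0
  · have hodd : Fintype.card F % 2 = 1 := by
      apply FiniteField.odd_card_of_char_ne_two
      rw [ringChar.eq F p]
      exact hp2
    rw [index_centralizer_eq_ncard, class_ncard_regular hodd G ht4]

theorem roots_cases (p : ℕ) [Fact p.Prime] [CharP F p] (t : F) (ht4 : t ^ 2 ≠ 4) :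
    Nat.card {r : F // r * (t - r) = 1} = 0 ∨ Nat.card {r : F // r * (t - r) = 1} = 2 := by
  by_cases hr : ∃ r : F, r * (t - r) = 1
  · obtain ⟨r, hr⟩ := hr
    right
    exact Cfsg.Agent.S2508.roots_two t ht4 r hr
  · left
    rw [not_exists] at hr
    exact Cfsg.Agent.S2508.roots_none t hr

theorem pow_card_centralizer [Fintype F] (G : Matrix.SpecialLinearGroup (Fin 2) F) :
    G ^ Nat.card (Subgroup.centralizer ({G} : Set (Matrix.SpecialLinearGroup (Fin 2) F))) = 1 := by
  have hmem : G ∈ Subgroup.centralizer ({G} : Set (Matrix.SpecialLinearGroup (Fin 2) F)) := by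
    rw [Subgroup.mem_centralizer_iff]
    intro h hh
    rw [Set.mem_singleton_iff] at hh
    rw [hh]
  have h1 : orderOf (⟨G, hmem⟩ : Subgroup.centralizer ({G} : Set (Matrix.SpecialLinearGroup (Fin 2) F))) ∣
      Nat.card (Subgroup.centralizer ({G} : Set (Matrix.SpecialLinearGroup (Fin 2) F))) :=
    orderOf_dvd_natCard _
  rw [← Subgroup.orderOf_coe] at h1
  exact orderOf_dvd_iff_pow_eq_one.mp h1

theorem scalar_of_sq (h2 : (2 : F) ≠ 0) (Y : Matrix.SpecialLinearGroup (Fin 2) F) (hY : Y * Y = 1) :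
    IsScalarMat (Y : Matrix (Fin 2) (Fin 2) F) := by
  have h1 := cayley Y
  rw [← Matrix.SpecialLinearGroup.coe_mul, hY, Matrix.SpecialLinearGroup.coe_one] at h1
  have h3 : tr2 Y • (Y : Matrix (Fin 2) (Fin 2) F) = (2 : F) • (1 : Matrix (Fin 2) (Fin 2) F) := by
    have : tr2 Y • (Y : Matrix (Fin 2) (Fin 2) F) = 1 + 1 := by
      rw [eq_sub_iff_add_eq] at h1
      exact h1.symm
    rw [this, two_smul]
  have ht : tr2 Y ≠ 0 := by
    intro h0
    rw [h0, zero_smul] at h3
    have h4 := congrFun (congrFun h3 0) 0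
    simp at h4
    exact h2 h4.symm
  refine ⟨(tr2 Y)⁻¹ * 2, ?_⟩
  rw [← smul_smul, ← h3, smul_smul, inv_mul_cancel₀ ht, one_smul]

theorem scalar_sq (Y : Matrix.SpecialLinearGroup (Fin 2) F)
    (hY : IsScalarMat (Y : Matrix (Fin 2) (Fin 2) F)) : Y * Y = 1 := by
  rcases scalar_cases Y hY with h | h
  · rw [h, mul_one]
  · rw [h]
    exact Cfsg.Agent.S2508.negOne_sq

theorem scalar_eq_one_of_two (h2 : (2 : F) = 0) (Y : Matrix.SpecialLinearGroup (Fin 2) F)
    (hY : IsScalarMat (Y : Matrix (Fin 2) (Fin 2) F)) : Y = 1 := by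
  rcases scalar_cases Y hY with h | h
  · exact h
  · rw [h]
    apply Subtype.ext
    rw [negOne_coe]
    have h1 : (-1 : F) = 1 := by linear_combination (-1 : F) * h2
    ext i j
    fin_cases i <;> fin_cases j <;> simp [h1]

theorem gcd_odd {q : ℕ} (h : q % 2 = 1) : Nat.gcd 2 (q - 1) = 2 := by
  have h1 : 2 ∣ q - 1 := by omega
  exact Nat.gcd_eq_left h1

theorem gcd_even {q : ℕ} (h : q % 2 = 0) (hq : 2 ≤ q) : Nat.gcd 2 (q - 1) = 1 := by
  have h1 : ¬ 2 ∣ q - 1 := by omega
  exact (Nat.Prime.coprime_iff_not_dvd Nat.prime_two).mpr h1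

theorem order_dvd [Fintype F] (p : ℕ) [Fact p.Prime] [CharP F p] (G : Matrix.SpecialLinearGroup (Fin 2) F)
    (c : ℕ) (hc : G ^ c = 1) (hc2 : Fintype.card F % 2 = 1 → 2 ∣ c) :
    orderOf (QuotientGroup.mk G : Matrix.ProjectiveSpecialLinearGroup (Fin 2) F) ∣
      c / Nat.gcd 2 (Fintype.card F - 1) := by
  have hq : 2 ≤ Fintype.card F := Fintype.one_lt_card
  by_cases hodd : Fintype.card F % 2 = 1
  · rw [gcd_odd hodd]
    have h2 : (2 : F) ≠ 0 := two_ne_zero_of_odd hodd
    obtain ⟨k, hk⟩ := hc2 hodd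
    have hk' : c / 2 = k := by omega
    rw [hk']
    apply orderOf_dvd_of_pow_eq_one
    rw [← QuotientGroup.mk_pow, mk_eq_one_iff]
    apply scalar_of_sq h2
    rw [← pow_add, ← two_mul, ← hk, hc]
  · have heven : Fintype.card F % 2 = 0 := by omega
    rw [gcd_even heven hq, Nat.div_one]
    apply orderOf_dvd_of_pow_eq_one
    rw [← QuotientGroup.mk_pow, hc]
    rfl

theorem order_mk [Fintype F] (p : ℕ) [Fact p.Prime] [CharP F p] (G : Matrix.SpecialLinearGroup (Fin 2) F)
    (c : ℕ) (hc : orderOf G = c) (hc2 : Fintype.card F % 2 = 1 → 2 ∣ c) :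
    orderOf (QuotientGroup.mk G : Matrix.ProjectiveSpecialLinearGroup (Fin 2) F) =
      c / Nat.gcd 2 (Fintype.card F - 1) := by
  have hq : 2 ≤ Fintype.card F := Fintype.one_lt_card
  apply Nat.dvd_antisymm
  · exact order_dvd p G c (by rw [← hc]; exact pow_orderOf_eq_one G) hc2
  · have h1 : IsScalarMat ((G ^ orderOf (QuotientGroup.mk G : Matrix.ProjectiveSpecialLinearGroup (Fin 2) F) :
        Matrix.SpecialLinearGroup (Fin 2) F) : Matrix (Fin 2) (Fin 2) F) := by
      rw [← mk_eq_one_iff, QuotientGroup.mk_pow]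
      exact pow_orderOf_eq_one _
    by_cases hodd : Fintype.card F % 2 = 1
    · rw [gcd_odd hodd]
      have h3 := scalar_sq _ h1
      rw [← pow_add, ← two_mul] at h3
      have h4 : c ∣ 2 * orderOf (QuotientGroup.mk G : Matrix.ProjectiveSpecialLinearGroup (Fin 2) F) := by
        rw [← hc]
        exact orderOf_dvd_of_pow_eq_one h3
      obtain ⟨k, hk⟩ := hc2 hodd
      have hk' : c / 2 = k := by omega
      rw [hk']
      rw [hk] at h4
      exact (Nat.mul_dvd_mul_iff_left (by norm_num)).mp h4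
    · have heven : Fintype.card F % 2 = 0 := by omega
      rw [gcd_even heven hq, Nat.div_one]
      have h2 : (2 : F) = 0 := by
        by_contra h2
        have hch : ringChar F ≠ 2 := by
          intro hch
          have : CharP F 2 := ringChar.of_eq hch
          exact h2 CharTwo.two_eq_zero
        have := FiniteField.odd_card_of_char_ne_two hch
        omega
      have h3 := scalar_eq_one_of_two h2 _ h1
      rw [← hc]
      exact orderOf_dvd_of_pow_eq_one h3

def diagHom : Fˣ →* Matrix.SpecialLinearGroup (Fin 2) F where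
  toFun u := ⟨!![(u : F), 0; 0, ((u⁻¹ : Fˣ) : F)], by simp [Matrix.det_fin_two_of]⟩
  map_one' := by
    apply Subtype.ext
    ext i j
    fin_cases i <;> fin_cases j <;> simp
  map_mul' := by
    intro x y
    apply Subtype.ext
    show !![((x * y : Fˣ) : F), 0; 0, (((x * y)⁻¹ : Fˣ) : F)] =
      !![(x : F), 0; 0, ((x⁻¹ : Fˣ) : F)] * !![(y : F), 0; 0, ((y⁻¹ : Fˣ) : F)]
    rw [Matrix.mul_fin_two]
    ext i j
    fin_cases i <;> fin_cases j <;> simp [mul_comm]

theorem diagHom_injective : Function.Injective (diagHom (F := F)) := by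
  intro x y h
  have h1 : (x : F) = (y : F) := by
    have := congrArg (fun X : Matrix.SpecialLinearGroup (Fin 2) F => (X : Matrix (Fin 2) (Fin 2) F) 0 0) h
    exact this
  exact Units.ext h1

theorem exists_order_sub [Fintype F] :
    ∃ G : Matrix.SpecialLinearGroup (Fin 2) F, orderOf G = Fintype.card F - 1 := by
  classical
  obtain ⟨u, hu⟩ := IsCyclic.exists_ofOrder_eq_natCard (α := Fˣ)
  refine ⟨diagHom u, ?_⟩
  rw [orderOf_injective diagHom diagHom_injective, hu, Nat.card_units, Nat.card_eq_fintype_card]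

theorem exists_nonsplit [Fintype F] (h4 : 4 ≤ Fintype.card F) : ∃ t : F, ∀ r : F, r * (t - r) ≠ 1 := by
  classical
  have hr : ∃ r : F, r ≠ 0 ∧ r * r ≠ 1 := by
    by_contra hcon
    have hall : ∀ r : F, r ^ 3 - r = 0 := by
      intro r
      by_cases hr : r = 0
      · rw [hr]; ring
      · have h1 : r * r = 1 := by
          by_contra h1
          exact hcon ⟨r, hr, h1⟩
        have : r ^ 3 - r = r * (r * r - 1) := by ring
        rw [this, h1, sub_self, mul_zero]
    have hdeg : (Polynomial.X ^ 3 - Polynomial.X : Polynomial F).natDegree = 3 := by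
      compute_degree!
    have hp0 : (Polynomial.X ^ 3 - Polynomial.X : Polynomial F) = 0 := by
      apply Polynomial.eq_zero_of_natDegree_lt_card_of_eval_eq_zero' _ (Finset.univ : Finset F)
      · intro x _
        simp only [Polynomial.eval_sub, Polynomial.eval_pow, Polynomial.eval_X]
        exact hall x
      · rw [hdeg, Finset.card_univ]
        omega
    rw [hp0] at hdeg
    simp at hdeg
  obtain ⟨r0, hr0, hr1⟩ := hr
  have h1 : ¬ Function.Injective (fun r : F => r + r⁻¹) := by
    intro hinj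
    have h3 : r0 = r0⁻¹ := by
      apply hinj
      show r0 + r0⁻¹ = r0⁻¹ + r0⁻¹⁻¹
      rw [inv_inv, add_comm]
    apply hr1
    nth_rewrite 2 [h3]
    exact mul_inv_cancel₀ hr0
  have h3 : ¬ Function.Surjective (fun r : F => r + r⁻¹) := fun hs =>
    h1 (Finite.injective_iff_surjective.mpr hs)
  rw [Function.Surjective, not_forall] at h3
  obtain ⟨t, ht⟩ := h3
  refine ⟨t, ?_⟩
  intro r hr
  apply ht
  refine ⟨r, ?_⟩
  have h4 : t - r = r⁻¹ := eq_inv_of_mul_eq_one_right hr
  show r + r⁻¹ = t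
  rw [← h4]
  ring

theorem exists_order_add [Fintype F] (p : ℕ) [Fact p.Prime] [CharP F p] (h4 : 4 ≤ Fintype.card F) :
    ∃ G : Matrix.SpecialLinearGroup (Fin 2) F, orderOf G = Fintype.card F + 1 := by
  obtain ⟨t, ht⟩ := exists_nonsplit (F := F) h4
  have ht4 : t ^ 2 ≠ 4 := by
    intro h
    have h5 : (t - 2) * (t + 2) = 0 := by linear_combination h
    rcases mul_eq_zero.mp h5 with h6 | h6
    · apply ht 1
      linear_combination h6
    · apply ht (-1)
      linear_combination (-1 : F) * h6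
  have hcyc := Cfsg.Agent.S2503.torus_cyclic t ht
  have hidx : (Cfsg.Agent.S2503.torus t).index =
      0 * Fintype.card F + Fintype.card F * (Fintype.card F - 1) := by
    unfold Cfsg.Agent.S2503.torus
    have htr : tr2 (Cfsg.Agent.S2503.g0 t) = t := tr2_comp t
    rw [index_regular p (Cfsg.Agent.S2503.g0 t) (by rw [htr]; exact ht4), htr,
      Cfsg.Agent.S2508.roots_none t ht]
  have hcard := (card_of_index _ 0 hidx).1 rfl
  obtain ⟨g, hg⟩ := IsCyclic.exists_ofOrder_eq_natCard (α := Cfsg.Agent.S2503.torus t)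
  refine ⟨(g : Matrix.SpecialLinearGroup (Fin 2) F), ?_⟩
  rw [Subgroup.orderOf_coe, hg, hcard]

theorem result {F : Type*} [Field F] [Fintype F] (p : ℕ) [Fact p.Prime] [CharP F p] (h4 : 4 ≤ Fintype.card F) :
    Set.range (orderOf : Matrix.ProjectiveSpecialLinearGroup (Fin 2) F → ℕ) =
      {m : ℕ | m ∣ p ∨ m ∣ (Fintype.card F - 1) / Nat.gcd 2 (Fintype.card F - 1) ∨ m ∣ (Fintype.card F + 1) / Nat.gcd 2 (Fintype.card F - 1)} := by
  have hpp : p.Prime := Fact.out
  ext m
  constructor
  · rintro ⟨g, rfl⟩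
    obtain ⟨G, rfl⟩ := QuotientGroup.mk_surjective g
    show _ ∨ _ ∨ _
    by_cases ht4 : tr2 G ^ 2 = 4
    · left
      apply orderOf_dvd_of_pow_eq_one
      rw [← QuotientGroup.mk_pow, mk_eq_one_iff]
      exact pow_char_scalar p G ht4
    · have hidx := index_regular p G ht4
      have hpow := pow_card_centralizer G
      rcases roots_cases p (tr2 G) ht4 with h0 | h2
      · right; right
        rw [h0] at hidx
        rw [(card_of_index _ 0 hidx).1 rfl] at hpow
        exact order_dvd p G _ hpow (fun h => by omega)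
      · right; left
        rw [h2] at hidx
        rw [(card_of_index _ 2 hidx).2 rfl] at hpow
        exact order_dvd p G _ hpow (fun h => by omega)
  · intro hm
    have hm' : m ∣ p ∨ m ∣ (Fintype.card F - 1) / Nat.gcd 2 (Fintype.card F - 1) ∨
        m ∣ (Fintype.card F + 1) / Nat.gcd 2 (Fintype.card F - 1) := hm
    have hgpos : 0 < Nat.gcd 2 (Fintype.card F - 1) := Nat.gcd_pos_of_pos_left _ (by norm_num)
    have hgle : Nat.gcd 2 (Fintype.card F - 1) ≤ 2 := Nat.le_of_dvd (by norm_num) (Nat.gcd_dvd_left _ _)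
    rcases hm' with h | h | h
    · rcases (Nat.dvd_prime hpp).mp h with h1 | h1
      · exact ⟨1, by rw [orderOf_one, h1]⟩
      · have he : (1 : F) * 1 = 1 := by ring
        refine ⟨QuotientGroup.mk (uni 1 1 he), ?_⟩
        rw [h1]
        apply orderOf_eq_prime
        · rw [← QuotientGroup.mk_pow, mk_eq_one_iff]
          exact pow_char_scalar p _ (by rw [tr2_uni]; norm_num)
        · intro h5
          exact uni_not_scalar 1 1 he one_ne_zero ((mk_eq_one_iff _).mp h5)
    · obtain ⟨G, hG⟩ := exists_order_sub (F := F)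
      have ho := order_mk p G _ hG (fun h => by omega)
      have hne : orderOf (QuotientGroup.mk G : Matrix.ProjectiveSpecialLinearGroup (Fin 2) F) ≠ 0 := by
        rw [ho]
        have : Nat.gcd 2 (Fintype.card F - 1) ≤ Fintype.card F - 1 := by omega
        exact (Nat.div_pos this hgpos).ne'
      rw [← ho] at h
      exact ⟨_, orderOf_pow_orderOf_div hne h⟩
    · obtain ⟨G, hG⟩ := exists_order_add (F := F) p h4
      have ho := order_mk p G _ hG (fun h => by omega)
      have hne : orderOf (QuotientGroup.mk G : Matrix.ProjectiveSpecialLinearGroup (Fin 2) F) ≠ 0 := by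
        rw [ho]
        have : Nat.gcd 2 (Fintype.card F - 1) ≤ Fintype.card F + 1 := by omega
        exact (Nat.div_pos this hgpos).ne'
      rw [← ho] at h
      exact ⟨_, orderOf_pow_orderOf_div hne h⟩

end Cfsg.Agent.S2475
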