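import Cfsg.Statements.S2429
import Cfsg.Agent.Lib.Helper14.Torus
import Cfsg.Agent.S2475

set_option autoImplicit false
open Cfsg

namespace Cfsg.Agent.S2429

open Cfsg.Agent.Lib.Helper14.GL2Conj Cfsg.Agent.Lib.Helper14.SL2Odd Cfsg.Agent.Lib.Helper14.PSL2
open Cfsg.Agent.Lib.Helper14.Torus Cfsg.Agent.Lib.Helper14.ClassSize Cfsg.Agent.Lib.Helper14.SL2Odd2

theorem exists_nonsplit_odd {F : Type*} [Field F] [Fintype F] (hodd : Fintype.card F % 2 = 1) :
    ∃ t : F, ∀ r : F, r * (t - r) ≠ 1 := by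
  by_cases h4 : 4 ≤ Fintype.card F
  · exact Cfsg.Agent.S2475.exists_nonsplit h4
  · have h1 : 1 < Fintype.card F := Fintype.one_lt_card
    have h3 : Fintype.card F = 3 := by omega
    have h2 : (2 : F) ≠ 0 := two_ne_zero_of_odd hodd
    refine ⟨0, ?_⟩
    intro r hr
    have hp := FiniteField.pow_card r
    rw [h3] at hp
    have h5 : r ^ 2 = -1 := by linear_combination (-1 : F) * hr
    have h6 : 2 * r = 0 := by linear_combination (-1 : F) * hp + r * h5
    rcases mul_eq_zero.mp h6 with h7 | h7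
    · exact h2 h7
    · rw [h7] at hr
      simp at hr

theorem not_sq_of_nonsplit {F : Type*} [Field F] (h2 : (2 : F) ≠ 0) (s : F)
    (hs : ∀ r : F, r * (s - r) ≠ 1) : ¬ IsSquare (s ^ 2 - 4) := by
  rintro ⟨z, hz⟩
  apply hs ((s + z) / 2)
  field_simp
  linear_combination hz

theorem nonsplit_sq_ne {F : Type*} [Field F] (h2 : (2 : F) ≠ 0) (s : F)
    (hs : ∀ r : F, r * (s - r) ≠ 1) : s ^ 2 ≠ 4 := by
  intro h
  apply not_sq_of_nonsplit h2 s hs
  rw [h, sub_self]
  exact ⟨0, by ring⟩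

theorem exists_ratio {F : Type*} [Field F] [Fintype F] (hodd : Fintype.card F % 2 = 1) (s t : F)
    (hs : ∀ r : F, r * (s - r) ≠ 1) (ht : ∀ r : F, r * (t - r) ≠ 1) :
    ∃ y : F, s ^ 2 - 4 = (t ^ 2 - 4) * y ^ 2 := by
  classical
  have h2 : (2 : F) ≠ 0 := two_ne_zero_of_odd hodd
  have hs0 : s ^ 2 - 4 ≠ 0 := sub_ne_zero.mpr (nonsplit_sq_ne h2 s hs)
  have ht0 : t ^ 2 - 4 ≠ 0 := sub_ne_zero.mpr (nonsplit_sq_ne h2 t ht)
  have hqs : quadraticChar F (s ^ 2 - 4) = -1 :=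
    quadraticChar_neg_one_iff_not_isSquare.mpr (not_sq_of_nonsplit h2 s hs)
  have hqt : quadraticChar F (t ^ 2 - 4) = -1 :=
    quadraticChar_neg_one_iff_not_isSquare.mpr (not_sq_of_nonsplit h2 t ht)
  have hqt' : quadraticChar F (t ^ 2 - 4)⁻¹ = -1 := by
    have h3 : quadraticChar F (t ^ 2 - 4)⁻¹ * quadraticChar F (t ^ 2 - 4) = 1 := by
      rw [← map_mul, inv_mul_cancel₀ ht0, map_one]
    rw [hqt] at h3
    linarith
  have hne : (s ^ 2 - 4) * (t ^ 2 - 4)⁻¹ ≠ 0 := mul_ne_zero hs0 (inv_ne_zero ht0)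
  have hsq : IsSquare ((s ^ 2 - 4) * (t ^ 2 - 4)⁻¹) := by
    rw [← quadraticChar_one_iff_isSquare hne, map_mul, hqs, hqt']
    norm_num
  obtain ⟨y, hy⟩ := hsq
  refine ⟨y, ?_⟩
  have : s ^ 2 - 4 = (t ^ 2 - 4) * ((s ^ 2 - 4) * (t ^ 2 - 4)⁻¹) := by
    field_simp
  rw [this, hy]
  ring

theorem nonsplit_of_no_eigen {F : Type*} [Field F] (g : Matrix.SpecialLinearGroup (Fin 2) F)
    (hg : ∀ (c : F) (v : Fin 2 → F), v ≠ 0 → (g : Matrix (Fin 2) (Fin 2) F).mulVec v ≠ c • v) :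
    ∀ r : F, r * (tr2 g - r) ≠ 1 := by
  intro r hr
  have hdet : ((g : Matrix (Fin 2) (Fin 2) F) - r • (1 : Matrix (Fin 2) (Fin 2) F)).det = 0 := by
    have hgd := g.det_coe
    rw [Matrix.det_fin_two] at hgd
    rw [Matrix.det_fin_two]
    simp only [Matrix.sub_apply, Matrix.smul_apply, Matrix.one_apply_eq, Matrix.one_apply_ne, ne_eq,
      zero_ne_one, one_ne_zero, not_false_eq_true, smul_eq_mul, mul_one, mul_zero, sub_zero]
    unfold tr2 at hr
    linear_combination hgd - hr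
  obtain ⟨v, hv, hv0⟩ := Matrix.exists_mulVec_eq_zero_iff.mpr hdet
  apply hg r v hv
  rw [Matrix.sub_mulVec, Matrix.smul_mulVec, Matrix.one_mulVec, sub_eq_zero] at hv0
  exact hv0

theorem result {F : Type*} [Field F] [Fintype F] (hodd : Odd (Fintype.card F)) :
    ∃ T' : Subgroup (Matrix.SpecialLinearGroup (Fin 2) F), IsCyclic T' ∧ Nat.card T' = Fintype.card F + 1 ∧
      Subgroup.centralizer ((T' : Set (Matrix.SpecialLinearGroup (Fin 2) F))) = T' ∧
      (∀ g : Matrix.SpecialLinearGroup (Fin 2) F, g ∈ T' → (g : Matrix (Fin 2) (Fin 2) F) ≠ 1 → (g : Matrix (Fin 2) (Fin 2) F) ≠ -1 → Subgroup.centralizer ({g} : Set (Matrix.SpecialLinearGroup (Fin 2) F)) = T') ∧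
      (∀ g : Matrix.SpecialLinearGroup (Fin 2) F, (∀ (c : F) (v : Fin 2 → F), v ≠ 0 → (g : Matrix (Fin 2) (Fin 2) F).mulVec v ≠ c • v) → ∃ h : Matrix.SpecialLinearGroup (Fin 2) F, h * g * h⁻¹ ∈ T') ∧
      Nat.card (Subgroup.normalizer (T' : Set (Matrix.SpecialLinearGroup (Fin 2) F))) = 2 * (Fintype.card F + 1) ∧
      Nat.card (ConjClasses (Subgroup.normalizer (T' : Set (Matrix.SpecialLinearGroup (Fin 2) F)))) = (Fintype.card F + 7) / 2 ∧
      ∀ g : Matrix.SpecialLinearGroup (Fin 2) F, g ∈ Subgroup.normalizer (T' : Set (Matrix.SpecialLinearGroup (Fin 2) F)) → g ∉ T' → ((g * g) : Matrix (Fin 2) (Fin 2) F) = -1 := by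
  have hodd' : Fintype.card F % 2 = 1 := Nat.odd_iff.mp hodd
  have h2 : (2 : F) ≠ 0 := two_ne_zero_of_odd hodd'
  obtain ⟨t, ht⟩ := exists_nonsplit_odd (F := F) hodd'
  have htr : tr2 (Cfsg.Agent.S2503.g0 t) = t := tr2_comp t
  have hg : ¬ IsScalarMat ((Cfsg.Agent.S2503.g0 t : Matrix.SpecialLinearGroup (Fin 2) F) :
      Matrix (Fin 2) (Fin 2) F) := comp_not_scalar' t
  have ht4 : tr2 (Cfsg.Agent.S2503.g0 t) ^ 2 ≠ 4 := by
    rw [htr]
    exact nonsplit_sq_ne h2 t ht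
  have hcard : Nat.card (Subgroup.centralizer
      ({Cfsg.Agent.S2503.g0 t} : Set (Matrix.SpecialLinearGroup (Fin 2) F))) = Fintype.card F + 1 := by
    have hidx : (Subgroup.centralizer
        ({Cfsg.Agent.S2503.g0 t} : Set (Matrix.SpecialLinearGroup (Fin 2) F))).index =
        0 * Fintype.card F + Fintype.card F * (Fintype.card F - 1) := by
      rw [index_centralizer_eq_ncard, class_ncard_regular hodd' _ ht4, htr,
        Cfsg.Agent.S2508.roots_none t ht]
    exact (Cfsg.Agent.S2475.card_of_index _ 0 hidx).1 rfl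
  obtain ⟨hN, hk⟩ := normalizer_facts hodd' (Cfsg.Agent.S2503.g0 t) hg ht4
  refine ⟨Subgroup.centralizer ({Cfsg.Agent.S2503.g0 t} : Set (Matrix.SpecialLinearGroup (Fin 2) F)),
    Cfsg.Agent.S2503.torus_cyclic t ht, hcard, ?_, ?_, ?_, ?_, ?_, ?_⟩
  · ext y
    constructor
    · intro hy
      rw [mem_cent_iff]
      exact hy _ (self_mem_cent _)
    · intro hy
      rw [Subgroup.mem_centralizer_iff]
      intro x hx
      exact torus_comm _ hg x hx y hy
  · intro g hgT h1 hm1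
    apply cent_eq_of_mem _ g hg hgT
    intro hs
    rcases scalar_cases g hs with h | h
    · apply h1
      rw [h]
      rfl
    · apply hm1
      rw [h, negOne_coe]
      ext i j
      fin_cases i <;> fin_cases j <;> simp
  · intro g hgv
    have hs := nonsplit_of_no_eigen g hgv
    obtain ⟨y, hy⟩ := exists_ratio hodd' (tr2 g) t hs ht
    have h4 : (4 : F) ≠ 0 := by
      have : (4 : F) = 2 * 2 := by norm_num
      rw [this]
      exact mul_ne_zero h2 h2
    have hs4 : tr2 g ^ 2 ≠ 4 := nonsplit_sq_ne h2 _ hs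
    obtain ⟨x, hxy, hx2⟩ : ∃ x : F, x ^ 2 + t * x * y + y ^ 2 = 1 ∧ 2 * x + t * y = tr2 g := by
      refine ⟨(tr2 g - t * y) / 2, ?_, ?_⟩
      · field_simp
        linear_combination hy
      · field_simp
        ring
    have htr' : tr2 (Cfsg.Agent.S2503.tmk t x y hxy) = tr2 g := by
      rw [← hx2]
      unfold tr2
      rw [Cfsg.Agent.S2503.tmk_coe]
      simp
      ring
    have hc : IsConj g (Cfsg.Agent.S2503.tmk t x y hxy) := by
      apply conj_of_trace hodd' g _ (not_scalar_of_trace g hs4) (not_scalar_of_trace _ _) htr'.symm hs4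
      rw [htr']
      exact hs4
    obtain ⟨c, hc⟩ := isConj_iff.mp hc
    refine ⟨c, ?_⟩
    rw [hc]
    exact Cfsg.Agent.S2503.tmk_mem t _ y hxy
  · rw [hN, hcard]
  · rw [hcard] at hk
    omega
  · intro g hgN hgT
    rcases normalizer_dichotomy h2 _ g hg ht4 hgN with h | h
    · exact absurd h hgT
    · have h3 := sq_of_inverts _ g hg h
      have h4 := congrArg (fun X : Matrix.SpecialLinearGroup (Fin 2) F => (X : Matrix (Fin 2) (Fin 2) F)) h3
      simp only [Matrix.SpecialLinearGroup.coe_mul, negOne_coe] at h4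
      rw [h4]
      ext i j
      fin_cases i <;> fin_cases j <;> simp

end Cfsg.Agent.S2429
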