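import Cfsg.Statements.S0325
import Cfsg.Agent.Lib.Helper3.Sz5
import Cfsg.Agent.Lib.Helper3.Zass

set_option autoImplicit false
open Cfsg

namespace Cfsg.Agent.S0325

/-- The Suzuki group over a field with `2^(2m+1)` elements, `m ≥ 1`, is a simple group. -/
theorem result {F : Type*} [Field F] [Fintype F] {m : ℕ} (hm : 1 ≤ m)
    (hF : Fintype.card F = 2 ^ (2 * m + 1)) :
    IsSimpleGroup (Cfsg.Sz F m) := by
  have hZ := Cfsg.Agent.Lib.Helper3.Sz5.zassenhaus hm hF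
  letI : Fintype ↥(Cfsg.suzukiOvoid F m) := Fintype.ofFinite _
  apply Cfsg.Agent.Lib.Helper3.Zass.simple_of_odd hZ
  rw [← Nat.card_eq_fintype_card, Nat.card_coe_set_eq, Cfsg.Agent.Lib.Helper3.Sz3.card_ovoid hF]
  exact ⟨2 ^ (2 * m + 1) * 2 ^ (2 * m), by ring⟩

end Cfsg.Agent.S0325
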