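import Cfsg.Statements.S0012
import Mathlib

set_option autoImplicit false
open Cfsg

namespace Cfsg.Agent.S0012

theorem coatom_pgroup {G : Type*} [Group G] [Finite G] (p : ℕ) [Fact p.Prime] (hG : IsPGroup p G)
    (M : Subgroup G) (hM : IsCoatom M) : M.Normal ∧ commutator G ≤ M ∧ ∀ x : G, x ^ p ∈ M := by
  have hnil : Group.IsNilpotent G := hG.isNilpotent
  have hMn : M.Normal := ((Group.isNilpotent_of_finite_tfae (G := G)).out 0 2 rfl rfl).1 hnil M hM
  have key : ∀ y : G, y ∉ M → M ⊔ Subgroup.zpowers y = ⊤ := by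
    intro y hy
    apply hM.2
    apply lt_of_le_of_ne le_sup_left
    intro h
    apply hy
    rw [h]
    exact (le_sup_right : Subgroup.zpowers y ≤ M ⊔ Subgroup.zpowers y) (Subgroup.mem_zpowers y)
  refine ⟨hMn, ?_, ?_⟩
  · obtain ⟨x, hx⟩ : ∃ x, x ∉ M := by
      by_contra h
      exact hM.1 (eq_top_iff.2 (fun x _ => by
        by_contra hx
        exact h ⟨x, hx⟩))
    exact Subgroup.Normal.commutator_le_of_self_sup_commutative_eq_top (key x hx) inferInstance
  · intro x
    by_contra hx
    have h1 : x ∈ (M ⊔ Subgroup.zpowers (x ^ p) : Subgroup G) := by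
      rw [key _ hx]; exact Subgroup.mem_top x
    have h2 : x ∈ ((M ⊔ Subgroup.zpowers (x ^ p) : Subgroup G) : Set G) := h1
    rw [Subgroup.normal_mul] at h2
    obtain ⟨m, hm, z, hz, hmz⟩ := Set.mem_mul.1 h2
    obtain ⟨k, rfl⟩ := Subgroup.mem_zpowers_iff.1 hz
    obtain ⟨a, ha⟩ := hG x
    have hm' : m = x ^ (1 - (p : ℤ) * k) := by
      have hm0 : m = x * ((x ^ p) ^ k)⁻¹ := eq_mul_inv_of_mul_eq hmz
      rw [hm0, zpow_sub, zpow_one, zpow_mul, zpow_natCast]
    have hcop : IsCoprime (1 - (p : ℤ) * k) ((p : ℤ) ^ a) := by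
      apply IsCoprime.pow_right
      exact ⟨1, k, by ring⟩
    obtain ⟨u, v, huv⟩ := hcop
    have hx1 : x = m ^ u := by
      have : x = x ^ (u * (1 - (p : ℤ) * k) + v * (p : ℤ) ^ a) := by rw [huv, zpow_one]
      rw [this, zpow_add, mul_comm u, zpow_mul, ← hm', mul_comm v, zpow_mul]
      have : x ^ ((p : ℤ) ^ a) = 1 := by
        have h3 : ((p : ℤ) ^ a) = ((p ^ a : ℕ) : ℤ) := by push_cast; rfl
        rw [h3, zpow_natCast, ha]
      rw [this, one_zpow, mul_one]
    apply hx
    apply Subgroup.pow_mem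
    rw [hx1]
    exact Subgroup.zpow_mem _ hm _

/-- In a finite p-group every commutator and every p-th power lies in the Frattini subgroup, so the Frattini quotient is elementary abelian. -/
theorem result {G : Type*} [Group G] [Finite G] (p : ℕ) [Fact p.Prime]
    (hG : IsPGroup p G) : commutator G ≤ frattini G ∧ ∀ x : G, x ^ p ∈ frattini G := by
  constructor
  · simp only [frattini, Order.radical, le_iInf_iff]
    intro M hM
    exact (coatom_pgroup p hG M hM).2.1
  · intro x
    simp only [frattini, Order.radical, Subgroup.mem_iInf]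
    intro M hM
    exact (coatom_pgroup p hG M hM).2.2 x

end Cfsg.Agent.S0012
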