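import Cfsg.Statements.S2939
import Cfsg.Agent.Lib.Helper17.SylCtrl

set_option autoImplicit false
open Cfsg

namespace Cfsg.Agent.S2939


section aux

open Cfsg Cfsg.Agent.Lib.Helper17.SylCtrl Cfsg.Agent.Lib.Helper12.SylowBasic

variable {G : Type*} [Group G]

/-- reversed partial products `x_{k-1} ⋯ x_0`. -/
def revProd {n : ℕ} (x : Fin n → G) : ℕ → G
  | 0 => 1
  | k + 1 => (if h : k < n then x ⟨k, h⟩ else 1) * revProd x k

theorem revProd_zero {n : ℕ} (x : Fin n → G) : revProd x 0 = 1 := rfl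

theorem revProd_succ {n : ℕ} (x : Fin n → G) (i : Fin n) :
    revProd x (i.val + 1) = x i * revProd x i.val := by
  show (if h : i.val < n then x ⟨i.val, h⟩ else 1) * revProd x i.val = _
  rw [dif_pos i.2]

theorem prod_take_ofFn {n : ℕ} (y : Fin n → G) (u : ℕ → G) (h0 : u 0 = 1)
    (hs : ∀ i : Fin n, u (i.val + 1) = u i.val * y i) :
    ∀ k, k ≤ n → ((List.ofFn y).take k).prod = u k := by
  intro k
  induction k with
  | zero => intro _; simp [h0]
  | succ k ih =>
    intro hk
    have hk' : k < n := hk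
    rw [List.prod_take_succ _ _ (by simpa using hk'), ih (le_of_lt hk'), List.getElem_ofFn]
    exact (hs ⟨k, hk'⟩).symm

theorem prod_ofFn_eq {n : ℕ} (y : Fin n → G) (u : ℕ → G) (h0 : u 0 = 1)
    (hs : ∀ i : Fin n, u (i.val + 1) = u i.val * y i) :
    (List.ofFn y).prod = u n := by
  rw [← prod_take_ofFn y u h0 hs n le_rfl, List.take_of_length_le (by simp)]

theorem map_conj_mul_mem {Y : Subgroup G} (v : G) {y : G} (hy : y ∈ Y) :
    Y.map (MulAut.conj (v * y)).toMonoidHom = Y.map (MulAut.conj v).toMonoidHom := by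
  ext z
  rw [mem_map_conj_iff, mem_map_conj_iff]
  have e : (v * y)⁻¹ * z * (v * y) = y⁻¹ * (v⁻¹ * z * v) * y := by group
  rw [e]
  constructor
  · intro h
    have := Y.mul_mem (Y.mul_mem hy h) (Y.inv_mem hy)
    have e2 : y * (y⁻¹ * (v⁻¹ * z * v) * y) * y⁻¹ = v⁻¹ * z * v := by group
    rwa [e2] at this
  · intro h
    exact Y.mul_mem (Y.mul_mem (Y.inv_mem hy) h) hy

end aux

open Cfsg Cfsg.Agent.Lib.Helper17.SylCtrl Cfsg.Agent.Lib.Helper12.SylowBasic in

/-- Let p be a prime dividing the order of the finite group G and 𝓕 a family of subgroups of G closed under conjugation, with conjugates taken as X^g = g⁻¹Xg. Then 𝓕 controls Sylow p-intersections in G (any two distinct Sylow p-subgroups S and T with S ∩ T ≠ 1 are joined by a chain S = S₀, S₁, …, Sₙ = T of Sylow p-subgroups where, for each i, some member Xᵢ of 𝓕 meets both S_{i-1} and Sᵢ in Sylow p-subgroups of Xᵢ, satisfies S ∩ T ≤ Sᵢ ∩ Xᵢ, and contains an element xᵢ with Sᵢ^{xᵢ} = S_{i-1}) if and only if 𝓕 strongly controls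 p-fusion in G (whenever A is a subset of a Sylow p-subgroup S, A contains an element other than 1, and A^g ⊆ S, the element g factorises as g = y₁⋯yₙy with y ∈ N_G(S) and each yᵢ in a member Yᵢ of 𝓕 that meets S in a Sylow p-subgroup of Yᵢ, with A^{y₁⋯yᵢ} ⊆ S ∩ Yᵢ for each i). -/
theorem result {G : Type*} [Group G] [Finite G] {p : ℕ} [Fact p.Prime] (hdiv : p ∣ Nat.card G) (𝓕 : Set (Subgroup G)) (h𝓕 : Cfsg.IsNormalSet 𝓕) : Cfsg.ControlsSylowIntersections p 𝓕 ↔ Cfsg.FamilyStronglyControlsFusion p 𝓕 := by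
  classical
  constructor
  · intro hc S A g hAS hA1 hAg
    obtain ⟨a, haA, ha1⟩ := hA1
    have hAT : A ⊆ ((g • S : Sylow p G) : Set G) := by
      intro b hb
      have h1 : g⁻¹ * b * g ∈ (S : Set G) := hAg ⟨b, hb, rfl⟩
      exact (mem_smul_sylow_iff _ _ _).2 h1
    by_cases hST : S = g • S
    · refine ⟨0, Fin.elim0, Fin.elim0, g, ?_, fun i => i.elim0, ?_, fun i => i.elim0⟩
      · exact Sylow.smul_eq_iff_mem_normalizer.1 hST.symm
      · simp
    · have hne : (S : Subgroup G) ⊓ ((g • S : Sylow p G) : Subgroup G) ≠ ⊥ := by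
        intro h0
        have h1 : a ∈ (S : Subgroup G) ⊓ ((g • S : Sylow p G) : Subgroup G) :=
          Subgroup.mem_inf.2 ⟨hAS haA, hAT haA⟩
        rw [h0, Subgroup.mem_bot] at h1
        exact ha1 h1
      obtain ⟨n, c, X, x, h0, hl, hi⟩ := hc S (g • S) hST hne
      obtain ⟨u, hu0, hus⟩ : ∃ u : ℕ → G, u 0 = 1 ∧ ∀ i : Fin n, u (i.val + 1) = x i * u i.val :=
        ⟨revProd x, revProd_zero x, revProd_succ x⟩
      have hcu : ∀ k (hk : k < n + 1), c ⟨k, hk⟩ = u k • S := by
        intro k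
        induction k with
        | zero => intro _; rw [hu0, one_smul]; exact h0
        | succ k ih =>
          intro hk
          have hk' : k < n := by omega
          have h4 := eq_smul_of_subgroupConjRight (hi ⟨k, hk'⟩).2.2.2.1
          have e1 : (⟨k, hk'⟩ : Fin n).succ = ⟨k + 1, hk⟩ := rfl
          have e2 : (⟨k, hk'⟩ : Fin n).castSucc = ⟨k, by omega⟩ := rfl
          rw [e1, e2, ih] at h4
          rw [h4, hus ⟨k, hk'⟩, mul_smul]
      have hcs : ∀ i : Fin n, c i.succ = u (i.val + 1) • S := fun i => hcu (i.val + 1) i.succ.2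
      have hcc : ∀ i : Fin n, c i.castSucc = u i.val • S := fun i => hcu i.val i.castSucc.2
      have hlast : g • S = u n • S := by rw [← hl]; exact hcu n (Nat.lt_succ_self n)
      have hys : ∀ i : Fin n, u (i.val + 1) = u i.val * ((u i.val)⁻¹ * x i * u i.val) := by
        intro i; rw [hus i]; group
      refine ⟨n, fun i => (X i).map (MulAut.conj (u i.val)⁻¹).toMonoidHom,
        fun i => (u i.val)⁻¹ * x i * u i.val, (u n)⁻¹ * g, ?_, ?_, ?_, ?_⟩
      · apply Sylow.smul_eq_iff_mem_normalizer.1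
        rw [mul_smul, hlast, smul_smul, inv_mul_cancel, one_smul]
      · intro i
        refine ⟨?_, ?_⟩
        · have h1 := (hi i).1
          rw [hcc i] at h1
          exact sylowMembers_smul h𝓕 (u i.val) h1
        · rw [mem_map_conj_iff]
          have e : (u i.val)⁻¹⁻¹ * ((u i.val)⁻¹ * x i * u i.val) * (u i.val)⁻¹ = x i := by group
          rw [e]; exact (hi i).2.2.1
      · rw [prod_ofFn_eq _ u hu0 hys]; group
      · intro i
        rw [prod_take_ofFn _ u hu0 hys (i.val + 1) i.2]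
        rintro _ ⟨b, hb, rfl⟩
        have hb1 : b ∈ (c i.succ : Subgroup G) ⊓ X i :=
          (hi i).2.2.2.2 (Subgroup.mem_inf.2 ⟨hAS hb, hAT hb⟩)
        have hb2 := (Subgroup.mem_inf.1 hb1).1
        have hb3 := (Subgroup.mem_inf.1 hb1).2
        rw [hcs i] at hb2
        refine ⟨(mem_smul_sylow_iff _ _ _).1 hb2, ?_⟩
        show _ ∈ (X i).map (MulAut.conj (u i.val)⁻¹).toMonoidHom
        rw [mem_map_conj_iff, hus i]
        have e : (u i.val)⁻¹⁻¹ * ((x i * u i.val)⁻¹ * b * (x i * u i.val)) * (u i.val)⁻¹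
            = (x i)⁻¹ * b * x i := by group
        rw [e]
        exact (X i).mul_mem ((X i).mul_mem ((X i).inv_mem (hi i).2.2.1) hb3) (hi i).2.2.1
  · intro hf S T hST hne
    obtain ⟨g, hg⟩ : ∃ g : G, g • S = T := MulAction.exists_smul_eq G S T
    subst hg
    have hA1 : ∃ a ∈ (S : Set G) ∩ ((g • S : Sylow p G) : Set G), a ≠ 1 := by
      by_contra hcon
      push Not at hcon
      apply hne
      rw [eq_bot_iff]
      intro b hb
      rw [Subgroup.mem_bot]
      exact hcon b ⟨(Subgroup.mem_inf.1 hb).1, (Subgroup.mem_inf.1 hb).2⟩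
    have hAg : conjRight g ((S : Set G) ∩ ((g • S : Sylow p G) : Set G)) ⊆ (S : Set G) := by
      rintro _ ⟨b, hb, rfl⟩
      exact (mem_smul_sylow_iff _ _ _).1 hb.2
    obtain ⟨n, Y, y, y₀, hy₀, hY, hgy, hA⟩ :=
      hf S ((S : Set G) ∩ ((g • S : Sylow p G) : Set G)) g Set.inter_subset_left hA1 hAg
    obtain ⟨v, hv0, hvs, hvn, hvt⟩ : ∃ v : ℕ → G, v 0 = 1 ∧
        (∀ i : Fin n, v (i.val + 1) = v i.val * y i) ∧ (List.ofFn y).prod = v n ∧
        ∀ i : Fin n, ((List.ofFn y).take (i.val + 1)).prod = v (i.val + 1) := by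
      refine ⟨fun k => ((List.ofFn y).take k).prod, by simp, ?_, ?_, fun i => rfl⟩
      · intro i
        show ((List.ofFn y).take (i.val + 1)).prod = ((List.ofFn y).take i.val).prod * y i
        rw [List.prod_take_succ _ _ (by simp), List.getElem_ofFn]
      · show (List.ofFn y).prod = ((List.ofFn y).take n).prod
        rw [List.take_of_length_le (by simp)]
    have hxv : ∀ i : Fin n, v (i.val + 1) = (v i.val * y i * (v i.val)⁻¹) * v i.val := by
      intro i; rw [hvs i]; group
    refine ⟨n, fun i => v i.val • S, fun i => (Y i).map (MulAut.conj (v i.val)).toMonoidHom,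
      fun i => v i.val * y i * (v i.val)⁻¹, ?_, ?_, ?_⟩
    · show v 0 • S = S
      rw [hv0, one_smul]
    · show v n • S = g • S
      rw [hgy, ← hvn, mul_smul, Sylow.smul_eq_iff_mem_normalizer.2 hy₀]
    · intro i
      refine ⟨?_, ?_, ?_, ?_, ?_⟩
      · exact sylowMembers_smul' h𝓕 (v i.val) (hY i).1
      · show (Y i).map (MulAut.conj (v i.val)).toMonoidHom ∈
          sylowMembers p 𝓕 ((v (i.val + 1) • S : Sylow p G) : Subgroup G)
        rw [hvs i, ← map_conj_mul_mem (v i.val) (hY i).2]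
        exact sylowMembers_smul' h𝓕 (v i.val * y i) (hY i).1
      · show _ ∈ (Y i).map (MulAut.conj (v i.val)).toMonoidHom
        rw [mem_map_conj_iff]
        have e : (v i.val)⁻¹ * (v i.val * y i * (v i.val)⁻¹) * v i.val = y i := by group
        rw [e]; exact (hY i).2
      · show subgroupConjRight (v i.val * y i * (v i.val)⁻¹)
          ((v (i.val + 1) • S : Sylow p G) : Subgroup G) = ((v i.val • S : Sylow p G) : Subgroup G)
        rw [hxv i, mul_smul]
        exact subgroupConjRight_smul _ _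
      · intro b hb
        have hb' : b ∈ (S : Set G) ∩ ((g • S : Sylow p G) : Set G) :=
          ⟨(Subgroup.mem_inf.1 hb).1, (Subgroup.mem_inf.1 hb).2⟩
        have h1 := hA i ⟨b, hb', rfl⟩
        rw [hvt i] at h1
        refine Subgroup.mem_inf.2 ⟨?_, ?_⟩
        · show b ∈ ((v (i.val + 1) • S : Sylow p G) : Subgroup G)
          exact (mem_smul_sylow_iff _ _ _).2 h1.1
        · show b ∈ (Y i).map (MulAut.conj (v i.val)).toMonoidHom
          rw [mem_map_conj_iff]
          have h2 : (v (i.val + 1))⁻¹ * b * v (i.val + 1) ∈ Y i := h1.2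
          rw [hvs i] at h2
          have e : (v i.val)⁻¹ * b * v i.val
              = y i * ((v i.val * y i)⁻¹ * b * (v i.val * y i)) * (y i)⁻¹ := by group
          rw [e]
          exact (Y i).mul_mem ((Y i).mul_mem (hY i).2 h2) ((Y i).inv_mem (hY i).2)

end Cfsg.Agent.S2939
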