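import Cfsg.Statements.S2896
import Cfsg.Agent.Lib.Helper17.CharP4
import Cfsg.Agent.Lib.Helper12.SylowBasic

set_option autoImplicit false
open Cfsg

namespace Cfsg.Agent.S2896

section aux
open Cfsg.Agent.Lib.Helper17.CharP4

universe u
variable {G : Type u} [Group G] [Finite G] {p : ℕ} [Fact p.Prime]

/-- `R ≠ 1` normal in the `p`-group `P`; if the centralizers of the elements of order `p` of `R`
centralized by `P` have characteristic `p`, so has `N_G(R)`. -/
theorem gf_normalizer_of_central {P R : Subgroup G} (hP : IsPGroup p P) (hRP : R ≤ P)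
    (hPR : P ≤ Subgroup.normalizer (R : Set G)) (hRne : R ≠ ⊥)
    (hyp : ∀ z ∈ R, orderOf z = p → P ≤ Subgroup.centralizer ({z} : Set G) →
      Cfsg.generalizedFittingSubgroup ↥(Subgroup.centralizer ({z} : Set G)) =
        Cfsg.pCore p ↥(Subgroup.centralizer ({z} : Set G))) :
    Cfsg.generalizedFittingSubgroup ↥(Subgroup.normalizer (R : Set G)) =
      Cfsg.pCore p ↥(Subgroup.normalizer (R : Set G)) := by
  obtain ⟨z, hzR, hzo, hzc⟩ :=
    Cfsg.Agent.Lib.Helper17.SE.exists_orderOf_eq_centralizing hP hRP hPR hRne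
  exact gf_normalizer (hyp z hzR hzo hzc) (hP.to_le hRP) (hRP.trans hzc)
    (Subgroup.centralizer_le (Set.singleton_subset_iff.2 hzR))

end aux

/-- Let p be a prime dividing the order of the finite group G, S a Sylow p-subgroup of G and X a subgroup of S. (i) If some nontrivial element z of the centre of X has F*(C_G(z)) = O_p(C_G(z)), then F*(N_G(X)) = O_p(N_G(X)). (ii) G has parabolic characteristic p if and only if F*(C_G(z)) = O_p(C_G(z)) for every nontrivial z ∈ Ω₁(Z(S)). (iii) If F*(C_G(z)) = O_p(C_G(z)) for every element z of S of order p, then G has local characteristic p. -/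
theorem result {G : Type*} [Group G] [Finite G] {p : ℕ} [Fact p.Prime] (hdiv : p ∣ Nat.card G) (S : Sylow p G) (X : Subgroup G) (hX : X ≤ (S : Subgroup G)) : (∀ z : G, z ≠ 1 → z ∈ X → (∀ x ∈ X, x * z = z * x) → Cfsg.generalizedFittingSubgroup ↥(Subgroup.centralizer ({z} : Set G)) = Cfsg.pCore p ↥(Subgroup.centralizer ({z} : Set G)) → Cfsg.generalizedFittingSubgroup ↥(Subgroup.normalizer (X : Set G)) = Cfsg.pCore p ↥(Subgroup.normalizer (X : Set G))) ∧ (Cfsg.IsOfParabolicCharacteristic p G ↔ ∀ z : G, z ≠ 1 → z ∈ Cfsg.omegaOne p ((S : Subgroup G) ⊓ Subgroup.centralizer ((S : Subgroup G) : Set G)) → Cfsg.generalizedFittingSubgroup ↥(Subgroup.centralizer ({z} : Set G)) = Cfsg.pCore p ↥(Subgroup.centralizer ({z} : Set G))) ∧ ((∀ z : G, z ∈ (S : Subgroup G) → orderOf z = p → Cfsg.generalizedFittingSubgroup ↥(Subgroup.centralizer ({z} : Set G)) = Cfsg.pCore p ↥(Subgroup.centralizer ({z} : Set G))) → Cfsg.IsOfLocalCharacteristic p G) := by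
  refine ⟨?_, ?_, ?_⟩
  · intro z hz1 hzX hzc hgf
    exact Cfsg.Agent.Lib.Helper17.CharP4.gf_normalizer hgf (S.isPGroup'.to_le hX)
      (by
        intro x hx
        rw [Subgroup.mem_centralizer_iff]
        intro y hy
        rw [Set.mem_singleton_iff] at hy; subst hy
        exact (hzc x hx).symm)
      (Subgroup.centralizer_le (Set.singleton_subset_iff.2 hzX))
  · constructor
    · intro hG z hz1 hz
      have hle : Cfsg.omegaOne p ((S : Subgroup G) ⊓ Subgroup.centralizer ((S : Subgroup G) : Set G)) ≤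
          (S : Subgroup G) ⊓ Subgroup.centralizer ((S : Subgroup G) : Set G) := by
        unfold Cfsg.omegaOne
        rw [Subgroup.closure_le]
        intro x hx; exact hx.1
      have hz' := Subgroup.mem_inf.1 (hle hz)
      exact Cfsg.Agent.Lib.Helper17.CharP4.gf_centralizer_of_parabolic hG S hz1 hz'.1
        (fun s hs => Subgroup.mem_centralizer_iff.1 hz'.2 s hs)
    · intro H R hR hRne ⟨T, hT⟩
      rw [← Cfsg.Agent.Lib.Helper17.CharP4.gf_iff]
      obtain ⟨g, hg⟩ := MulAction.exists_smul_eq G T S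
      have hRT : R ≤ (T : Subgroup G) := by
        have h1 : IsPGroup p (R ⊔ (T : Subgroup G) : Subgroup G) :=
          IsPGroup.to_sup_of_normal_left' hR T.isPGroup' hT
        have h2 := T.is_maximal' h1 le_sup_right
        rw [← h2]; exact le_sup_left
      apply gf_normalizer_of_central T.isPGroup' hRT hT hRne
      intro z hzR hzo hzc
      have hmem : ∀ s : G, s ∈ (S : Subgroup G) ↔ g⁻¹ * s * g ∈ (T : Subgroup G) := by
        intro s; rw [← hg]; exact Cfsg.Agent.Lib.Helper12.SylowBasic.mem_smul_sylow_iff T g s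
      have hz'S : g * z * g⁻¹ ∈ (S : Subgroup G) := by
        rw [hmem]
        have e : g⁻¹ * (g * z * g⁻¹) * g = z := by group
        rw [e]; exact hRT hzR
      have hz'c : ∀ s ∈ (S : Subgroup G), s * (g * z * g⁻¹) = (g * z * g⁻¹) * s := by
        intro s hs
        have h3 := Subgroup.mem_centralizer_iff.1 (hzc ((hmem s).1 hs)) z rfl
        calc s * (g * z * g⁻¹) = g * ((g⁻¹ * s * g) * z) * g⁻¹ := by group
          _ = g * (z * (g⁻¹ * s * g)) * g⁻¹ := by rw [h3]
          _ = _ := by group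
      have hz'o : orderOf (g * z * g⁻¹) = p := by
        rw [← hzo]; exact MulEquiv.orderOf_eq (MulAut.conj g) z
      have hz'1 : g * z * g⁻¹ ≠ 1 := by
        intro h
        rw [h, orderOf_one] at hz'o
        exact (Fact.out : p.Prime).ne_one hz'o.symm
      have hz'p : (g * z * g⁻¹) ^ p = 1 := by
        rw [← hz'o]; exact pow_orderOf_eq_one _
      have hz'Ω : g * z * g⁻¹ ∈ Cfsg.omegaOne p ((S : Subgroup G) ⊓
          Subgroup.centralizer ((S : Subgroup G) : Set G)) :=
        Subgroup.subset_closure ⟨Subgroup.mem_inf.2 ⟨hz'S, Subgroup.mem_centralizer_iff.2 hz'c⟩, hz'p⟩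
      have h4 := Cfsg.Agent.Lib.Helper17.CharP4.gf_centralizer_conj (p := p) (g * z * g⁻¹) g⁻¹
        (H _ hz'1 hz'Ω)
      have e : g⁻¹ * (g * z * g⁻¹) * g⁻¹⁻¹ = z := by group
      rwa [e] at h4
  · intro H3
    refine ⟨hdiv, fun T hT hTne => ?_⟩
    rw [← Cfsg.Agent.Lib.Helper17.CharP4.gf_iff]
    obtain ⟨Q, hQ⟩ := hT.exists_le_sylow
    obtain ⟨g, hg⟩ := MulAction.exists_smul_eq G Q S
    apply gf_normalizer_of_central hT le_rfl Subgroup.le_normalizer hTne
    intro z hzT hzo _
    have hz'S : g * z * g⁻¹ ∈ (S : Subgroup G) := by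
      rw [← hg, Cfsg.Agent.Lib.Helper12.SylowBasic.mem_smul_sylow_iff]
      have e : g⁻¹ * (g * z * g⁻¹) * g = z := by group
      rw [e]; exact hQ hzT
    have hz'o : orderOf (g * z * g⁻¹) = p := by
      rw [← hzo]; exact MulEquiv.orderOf_eq (MulAut.conj g) z
    have h4 := Cfsg.Agent.Lib.Helper17.CharP4.gf_centralizer_conj (p := p) (g * z * g⁻¹) g⁻¹
      (H3 _ hz'S hz'o)
    have e : g⁻¹ * (g * z * g⁻¹) * g⁻¹⁻¹ = z := by group
    rwa [e] at h4

end Cfsg.Agent.S2896
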