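import Mathlib
import Cfsg.Statements.S0289
import Cfsg.Agent.Lib.Helper2.QuadCount

set_option autoImplicit false
open Cfsg

namespace Cfsg.Agent.S0289

theorem arith_plus (q k N : ℕ) (hq : 0 < q)
    (h : N * q = q ^ (k + 1 + 1) * 1 + 1 * (q ^ (k + 1) - 1) * q ^ (k + 1)) :
    N = q ^ (2 * (k + 1) - 1) + q ^ (k + 1) - q ^ (k + 1 - 1) := by
  apply Nat.eq_of_mul_eq_mul_right hq
  rw [h]
  have e1 : 2 * (k + 1) - 1 = 2 * k + 1 := by omega
  have e2 : k + 1 - 1 = k := by omega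
  rw [e1, e2]
  have h1 : 1 ≤ q ^ (k + 1) := Nat.one_le_pow _ _ hq
  have h2 : q ^ k ≤ q ^ (2 * k + 1) + q ^ (k + 1) :=
    le_add_left (Nat.pow_le_pow_right hq (by omega))
  zify [h1, h2]
  ring

/-- The hyperbolic quadratic form on F^(2m), m at least 1, has q^(2m-1) + q^m - q^(m-1) zeros (that is, (q^m - 1)(q^(m-1) + 1) non-zero isotropic vectors). -/
theorem result {F : Type*} [Field F] [Fintype F] {q : ℕ} (hF : Fintype.card F = q) (m : ℕ) (hm : 1 ≤ m) : Nat.card {v : Fin m ⊕ Fin m → F // Cfsg.quadFormPlus m F v = 0} = q ^ (2 * m - 1) + q ^ m - q ^ (m - 1) := by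
  classical
  obtain ⟨k, rfl⟩ : ∃ k, m = k + 1 := ⟨m - 1, by omega⟩
  have hq : 0 < q := hF ▸ Fintype.card_pos
  let φ : (Fin (k + 1) ⊕ Fin (k + 1) → F) ≃ (Fin (k + 1) → F) × (Fin (k + 1) → F) × Unit :=
    (Equiv.sumArrowEquivProdArrow (Fin (k + 1)) (Fin (k + 1)) F).trans
      (Equiv.prodCongr (Equiv.refl _) (Equiv.prodPUnit _).symm)
  have key := Cfsg.Agent.Lib.Helper2.QuadCount.card_zeros (F := F) (k + 1) (fun _ : Unit => (0 : F)) φ
    (Cfsg.quadFormPlus (k + 1) F) (fun v => by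
      simp [Cfsg.quadFormPlus, φ, Equiv.sumArrowEquivProdArrow])
  have hU : Nat.card {e : Unit // (0 : F) = 0} = 1 := by
    haveI : Unique {e : Unit // (0 : F) = 0} := ⟨⟨⟨(), rfl⟩⟩, fun b => Subtype.ext rfl⟩
    exact Nat.card_unique
  rw [hU, hF, Fintype.card_unit] at key
  exact arith_plus q k _ hq key

end Cfsg.Agent.S0289
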