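import Cfsg.Statements.S0287
import Cfsg.Agent.Lib.Helper15.OrthOrder
import Cfsg.Agent.S0289

set_option autoImplicit false
open Cfsg

namespace Cfsg.Agent.S0287

/-- |GO^+_{2m}(q)| = 2 q^(m(m-1)) (q^m - 1) prod_{i=1}^{m-1} (q^(2i) - 1), m at least 1, all q. -/
theorem result {F : Type*} [Field F] [Fintype F] {q : ℕ} (hF : Fintype.card F = q) (m : ℕ) (hm : 1 ≤ m) : Nat.card (Cfsg.isometryGroup F (Cfsg.quadFormPlus m F)) = 2 * q ^ (m * (m - 1)) * (q ^ m - 1) * ∏ i ∈ Finset.range (m - 1), (q ^ (2 * (i + 1)) - 1) := by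
  have hq1 : 1 ≤ q := by rw [← hF]; exact Fintype.card_pos
  obtain ⟨r, hr⟩ : ∃ r, q = r + 1 := ⟨q - 1, by omega⟩
  induction m, hm using Nat.le_induction with
  | base =>
    rw [Cfsg.Agent.Lib.Helper15.OrthOrder.card_plus_succ 0,
      Cfsg.Agent.Lib.Helper15.OrthOrder.card_plus_zero, Cfsg.Agent.S0289.result hF 1 le_rfl, hF]
    simp
    omega
  | succ m hm ih =>
    obtain ⟨k, rfl⟩ : ∃ k, m = k + 1 := ⟨m - 1, by omega⟩
    rw [Cfsg.Agent.Lib.Helper15.OrthOrder.card_plus_succ (k + 1), ih,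
      Cfsg.Agent.S0289.result hF (k + 1 + 1) (by omega), hF]
    simp only [Nat.add_sub_cancel]
    rw [Finset.prod_range_succ]
    obtain ⟨u, hx⟩ : ∃ u, q ^ (k + 1) = u + 1 :=
      ⟨q ^ (k + 1) - 1, by have := Nat.one_le_pow (k + 1) q hq1; omega⟩
    have e1 : q ^ (2 * (k + 1 + 1) - 1) = q * (u + 1) ^ 2 := by
      rw [← hx]
      have h : 2 * (k + 1 + 1) - 1 = 1 + (k + 1) + (k + 1) := by omega
      rw [h, pow_add, pow_add]
      ring
    have e2 : q ^ (k + 1 + 1) = q * (u + 1) := by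
      rw [← hx, pow_succ]
      ring
    have e3 : q ^ (2 * (k + 1)) = (u + 1) ^ 2 := by
      rw [← hx, ← pow_mul]
      congr 1
      ring
    have e4 : q ^ ((k + 1 + 1) * (k + 1)) = (u + 1) ^ 2 * q ^ ((k + 1) * k) := by
      rw [← hx, ← pow_mul, ← pow_add]
      congr 1
      ring
    have s1 : q * (u + 1) ^ 2 + q * (u + 1) - (u + 1) - 1 = (q * u + r) * (u + 2) := by
      have h : q * (u + 1) ^ 2 + q * (u + 1) = (q * u + r) * (u + 2) + 1 + (u + 1) := by
        subst hr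
        ring
      rw [h, Nat.add_sub_cancel, Nat.add_sub_cancel]
    have s3 : q * (u + 1) - 1 = q * u + r := by
      have h : q * (u + 1) = (q * u + r) + 1 := by
        subst hr
        ring
      rw [h, Nat.add_sub_cancel]
    have s4 : (u + 1) ^ 2 - 1 = u * (u + 2) := by
      have h : (u + 1) ^ 2 = u * (u + 2) + 1 := by ring
      rw [h, Nat.add_sub_cancel]
    rw [e1, e2, e3, e4, hx, s1, s3, s4, Nat.add_sub_cancel]
    ring

end Cfsg.Agent.S0287
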