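import Mathlib
import Cfsg.Statements.S0249
import Cfsg.Agent.Lib.Helper2.SLGen

set_option autoImplicit false
open Cfsg

namespace Cfsg.Agent.S0249

open Matrix Matrix.SpecialLinearGroup
open scoped LinearAlgebra.Projectivization

theorem iSup_lineStab_eq_top {F : Type*} [Field F] (n : ℕ) [Nontrivial (Fin n)] :
    (⨆ p : ℙ F (Fin n → F), lineStab p.submodule) =
      (⊤ : Subgroup (SpecialLinearGroup (Fin n) F)) := by
  refine le_antisymm le_top (fun M _ ↦ Cfsg.Agent.Lib.Helper2.SLGen.transvection_induction
    (fun A => A ∈ ⨆ p : ℙ F (Fin n → F), lineStab p.submodule) (fun i j hij c => ?_)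
    (fun _ _ ↦ mul_mem) M)
  have h := SL2Gen.transvection_mem_lineStab (F := F) hij c
  rw [← Projectivization.submodule_mk (K := F) _ (Pi.single_ne_zero_iff.2 one_ne_zero)] at h
  exact Subgroup.mem_iSup_of_mem _ h

theorem iSup_iwasawaT_eq_top {F : Type*} [Field F] (n : ℕ) [Nontrivial (Fin n)] :
    iSup (PSL.iwasawaT (F := F) (ι := Fin n)) = ⊤ := by
  have step1 : iSup (PSL.iwasawaT (F := F) (ι := Fin n)) =
      Subgroup.map (QuotientGroup.mk' (Subgroup.center (Matrix.SpecialLinearGroup (Fin n) F)))
        (⨆ p : ℙ F (Fin n → F),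
          Matrix.SpecialLinearGroup.lineStab (F := F) (ι := Fin n) p.submodule) := by
    rw [Subgroup.map_iSup]
  rw [step1, iSup_lineStab_eq_top]
  exact Subgroup.map_top_of_surjective _ (QuotientGroup.mk'_surjective _)

noncomputable def iwasawa {F : Type*} [Field F] (n : ℕ) [Nontrivial (Fin n)] :
    MulAction.IwasawaStructure (Matrix.ProjectiveSpecialLinearGroup (Fin n) F)
      (ℙ F (Fin n → F)) where
  T := PSL.iwasawaT
  is_comm p := by
    have hSL : IsMulCommutative (lineStab (F := F) (ι := Fin n) p.submodule) := by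
      rw [← Projectivization.mk_rep p, Projectivization.submodule_mk]
      exact lineStab_isMulCommutative_of_span p.rep p.rep_nonzero
    exact Subgroup.map_isMulCommutative _ _
  is_conj g p := by
    obtain ⟨g_SL, rfl⟩ := QuotientGroup.mk_surjective g
    rw [Matrix.ProjectiveSpecialLinearGroup.smul_proj_mk]
    change Subgroup.map _ _ = _
    rw [PSL.smul_submodule, Matrix.SpecialLinearGroup.lineStab_smul,
      PSL.iwasawaT_map_conj]
  is_generator := iSup_iwasawaT_eq_top n

/-- PSL_n(F) is simple for n at least 3, over any field F. -/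
theorem result {F : Type*} [Field F] (n : ℕ) (hn : 3 ≤ n) : IsSimpleGroup (Matrix.ProjectiveSpecialLinearGroup (Fin n) F) := by
  haveI : Nontrivial (Fin n) := Fin.nontrivial_iff_two_le.mpr (by omega)
  have hperf : commutator (Matrix.ProjectiveSpecialLinearGroup (Fin n) F) = ⊤ := by
    have h1 : Group.IsPerfect (Matrix.SpecialLinearGroup (Fin n) F) :=
      ⟨Cfsg.Agent.Lib.Helper2.SLGen.commutator_eq_top (by simpa using hn)⟩
    have h2 : Group.IsPerfect (Matrix.ProjectiveSpecialLinearGroup (Fin n) F) := inferInstance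
    exact h2.commutator_eq_top
  exact MulAction.IwasawaStructure.isSimpleGroup hperf (iwasawa n) inferInstance

end Cfsg.Agent.S0249
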