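import Cfsg.Statements.S3190
import Mathlib

set_option autoImplicit false
open Cfsg

namespace Cfsg.Agent.S3190

theorem mem_zm {G : Type*} [Group G] (H : Subgroup G) (x : G) :
    x ∈ (Subgroup.center ↥H).map H.subtype ↔ x ∈ H ∧ ∀ h ∈ H, h * x = x * h := by
  constructor
  · rintro ⟨z, hz, rfl⟩
    refine ⟨z.2, fun h hh => ?_⟩
    have := Subgroup.mem_center_iff.1 hz ⟨h, hh⟩
    exact congrArg Subtype.val this
  · rintro ⟨hx, hc⟩
    refine ⟨⟨x, hx⟩, ?_, rfl⟩
    exact Subgroup.mem_center_iff.2 (fun g => Subtype.ext (hc g g.2))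

theorem le_normalizer_of_conj {X : Type*} [Group X] (K W : Subgroup X)
    (h : ∀ k ∈ K, ∀ w ∈ W, k * w * k⁻¹ ∈ W) : K ≤ Subgroup.normalizer (W : Set X) := by
  intro k hk
  rw [Subgroup.mem_normalizer_iff]
  intro x
  constructor
  · exact h k hk x
  · intro hx
    have h1 := h k⁻¹ (inv_mem hk) _ hx
    simpa [mul_assoc] using h1

theorem normal_pgroup_fixed {X : Type*} [Group X] [Finite X] {p : ℕ} [Fact p.Prime]
    (P W : Subgroup X) (hP : IsPGroup p P) (hWP : W ≤ P)
    (hnorm : ∀ g ∈ P, ∀ w ∈ W, g * w * g⁻¹ ∈ W) (hW : W ≠ ⊥) :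
    ∃ w ∈ W, w ≠ 1 ∧ ∀ g ∈ P, g * w = w * g := by
  letI act : MulAction P W :=
    { smul := fun g w => ⟨g * w * g⁻¹, hnorm g g.2 w w.2⟩
      one_smul := by
        intro w
        apply Subtype.ext
        show ((1 : P) : X) * w * ((1 : P) : X)⁻¹ = w
        simp
      mul_smul := by
        intro g h w
        apply Subtype.ext
        show ((g * h : P) : X) * w * ((g * h : P) : X)⁻¹ = (g : X) * ((h : X) * w * (h : X)⁻¹) * (g : X)⁻¹
        simp [mul_assoc] }
  have hsmul : ∀ (g : P) (w : W), ((g • w : W) : X) = (g : X) * w * (g : X)⁻¹ := fun g w => rfl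
  have hWp : IsPGroup p W := hP.to_le hWP
  haveI : Nontrivial W := (Subgroup.nontrivial_iff_ne_bot W).2 hW
  obtain ⟨n, hn0, hn⟩ := hWp.nontrivial_iff_card.1 inferInstance
  have hdvd : p ∣ Nat.card W := by
    rw [hn]
    exact dvd_pow_self p hn0.ne'
  have h1 : (1 : W) ∈ MulAction.fixedPoints P W := by
    intro g
    apply Subtype.ext
    rw [hsmul]
    simp
  obtain ⟨b, hb, hb1⟩ := hP.exists_fixed_point_of_prime_dvd_card_of_fixed_point W hdvd h1
  refine ⟨b, b.2, ?_, ?_⟩
  · intro h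
    apply hb1
    exact Subtype.ext h.symm
  · intro g hg
    have h2 := congrArg Subtype.val (hb ⟨g, hg⟩)
    rw [hsmul] at h2
    have h3 : g * b = (g * b * g⁻¹) * g := by group
    rw [h3]
    exact congrArg (· * g) h2

theorem t_centralizes {X : Type*} [Group X] [Finite X] {p : ℕ} [Fact p.Prime] (hodd : Odd p)
    (P R C : Subgroup X) (hP : IsPGroup p P) (hRP : R ≤ P)
    (hRn : ∀ g ∈ P, ∀ r ∈ R, g * r * g⁻¹ ∈ R)
    (t : X) (ht2 : t * t = 1) (htR : ∀ r ∈ R, t * r * t ∈ R)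
    (hCt : ∀ c ∈ C, c * t = t * c) (hCP : C ≤ P)
    (hfac : R ⊔ C = P)
    (hZ : ∀ z ∈ P, (∀ g ∈ P, g * z = z * g) → t * z = z * t)
    (z : X) (hzR : z ∈ R) (hzc : ∀ r ∈ R, r * z = z * r) : t * z = z * t := by
  let W : Subgroup X :=
    { carrier := {w | w ∈ R ∧ (∀ r ∈ R, r * w = w * r) ∧ t * w * t = w⁻¹}
      mul_mem' := by
        rintro a b ⟨haR, hac, hat⟩ ⟨hbR, hbc, hbt⟩
        refine ⟨R.mul_mem haR hbR, ?_, ?_⟩
        · intro r hr
          rw [← mul_assoc, hac r hr, mul_assoc, hbc r hr, mul_assoc]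
        · have h1 : t * (a * b) * t = (t * a * t) * (t * b * t) := by
            calc t * (a * b) * t = t * a * 1 * b * t := by group
              _ = t * a * (t * t) * b * t := by rw [ht2]
              _ = (t * a * t) * (t * b * t) := by group
          rw [h1, hat, hbt, ← mul_inv_rev, hbc a haR]
      one_mem' := by
        refine ⟨R.one_mem, ?_, ?_⟩
        · intro r _
          simp
        · simp [ht2]
      inv_mem' := by
        rintro a ⟨haR, hac, hat⟩
        refine ⟨R.inv_mem haR, ?_, ?_⟩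
        · intro r hr
          have h1 := hac r hr
          calc r * a⁻¹ = a⁻¹ * (a * r) * a⁻¹ := by group
            _ = a⁻¹ * (r * a) * a⁻¹ := by rw [h1]
            _ = a⁻¹ * r := by group
        · have h1 : t * a⁻¹ * t = (t * a * t)⁻¹ := by
            have h2 : t⁻¹ = t := inv_eq_of_mul_eq_one_left ht2
            rw [mul_inv_rev, mul_inv_rev, h2, mul_assoc]
          rw [h1, hat] }
  have hWmem : ∀ w, w ∈ W ↔ (w ∈ R ∧ (∀ r ∈ R, r * w = w * r) ∧ t * w * t = w⁻¹) := fun w => Iff.rfl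
  have hR_norm : ∀ k ∈ R, ∀ w ∈ W, k * w * k⁻¹ ∈ W := by
    intro k hk w hw
    have h1 : k * w * k⁻¹ = w := by
      rw [((hWmem w).1 hw).2.1 k hk, mul_inv_cancel_right]
    rw [h1]
    exact hw
  have hC_norm : ∀ k ∈ C, ∀ w ∈ W, k * w * k⁻¹ ∈ W := by
    intro c hc w hw
    obtain ⟨hwR, hwc, hwt⟩ := (hWmem w).1 hw
    rw [hWmem]
    refine ⟨hRn c (hCP hc) w hwR, ?_, ?_⟩
    · intro r hr
      have h1 : c⁻¹ * r * c ∈ R := by
        have h2 := hRn c⁻¹ (P.inv_mem (hCP hc)) r hr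
        rwa [inv_inv] at h2
      have h3 := hwc _ h1
      calc r * (c * w * c⁻¹) = c * ((c⁻¹ * r * c) * w) * c⁻¹ := by group
        _ = c * (w * (c⁻¹ * r * c)) * c⁻¹ := by rw [h3]
        _ = c * w * c⁻¹ * r := by group
    · have h1 := hCt c hc
      have h2 : c⁻¹ * t = t * c⁻¹ := by
        calc c⁻¹ * t = c⁻¹ * (t * c) * c⁻¹ := by group
          _ = c⁻¹ * (c * t) * c⁻¹ := by rw [h1]
          _ = t * c⁻¹ := by group
      calc t * (c * w * c⁻¹) * t = (t * c) * w * (c⁻¹ * t) := by group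
        _ = (c * t) * w * (t * c⁻¹) := by rw [h1, h2]
        _ = c * (t * w * t) * c⁻¹ := by group
        _ = c * w⁻¹ * c⁻¹ := by rw [hwt]
        _ = (c * w * c⁻¹)⁻¹ := by group
  have hP_norm : ∀ g ∈ P, ∀ w ∈ W, g * w * g⁻¹ ∈ W := by
    intro g hg w hw
    have h1 : P ≤ Subgroup.normalizer (W : Set X) := by
      rw [← hfac]
      exact sup_le (le_normalizer_of_conj R W hR_norm) (le_normalizer_of_conj C W hC_norm)
    exact (Subgroup.mem_normalizer_iff.1 (h1 hg) w).1 hw
  have hWbot : W = ⊥ := by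
    by_contra hW
    obtain ⟨w, hw, hw1, hwP⟩ := normal_pgroup_fixed P W hP
      (fun w hw => hRP ((hWmem w).1 hw).1) hP_norm hW
    obtain ⟨hwR, hwc, hwt⟩ := (hWmem w).1 hw
    have h1 := hZ w (hRP hwR) hwP
    have h2 : w * w = 1 := by
      have h3 : w⁻¹ = w := by
        rw [← hwt, h1, mul_assoc, ht2, mul_one]
      calc w * w = w⁻¹ * w := by rw [h3]
        _ = 1 := inv_mul_cancel w
    obtain ⟨k, hk⟩ := hP ⟨w, hRP hwR⟩
    have h4 : w ^ (p ^ k) = 1 := by
      have h5 := congrArg Subtype.val hk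
      simpa using h5
    have h6 : w ^ 2 = 1 := by rw [pow_two, h2]
    have h7 := pow_gcd_eq_one.2 ⟨h4, h6⟩
    have h8 : Nat.gcd (p ^ k) 2 = 1 := Nat.Coprime.pow_left k (Nat.coprime_two_right.2 hodd)
    rw [h8, pow_one] at h7
    exact hw1 h7
  have ht_inv : t⁻¹ = t := inv_eq_of_mul_eq_one_left ht2
  have hc2 : ∀ r ∈ R, r * (t * z * t) = (t * z * t) * r := by
    intro r hr
    calc r * (t * z * t) = (t * t) * r * (t * z * t) := by rw [ht2, one_mul]
      _ = t * ((t * r * t) * z) * t := by group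
      _ = t * (z * (t * r * t)) * t := by rw [hzc _ (htR r hr)]
      _ = t * z * t * r * (t * t) := by group
      _ = t * z * t * r := by rw [ht2, mul_one]
  have hw : z⁻¹ * (t * z * t) ∈ W := by
    rw [hWmem]
    refine ⟨R.mul_mem (R.inv_mem hzR) (htR z hzR), ?_, ?_⟩
    · intro r hr
      calc r * (z⁻¹ * (t * z * t)) = z⁻¹ * (z * r) * z⁻¹ * (t * z * t) := by group
        _ = z⁻¹ * (r * z) * z⁻¹ * (t * z * t) := by rw [hzc r hr]
        _ = z⁻¹ * (r * (t * z * t)) := by group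
        _ = z⁻¹ * ((t * z * t) * r) := by rw [hc2 r hr]
        _ = z⁻¹ * (t * z * t) * r := by group
    · calc t * (z⁻¹ * (t * z * t)) * t = t * z⁻¹ * (t * z * (t * t)) := by group
        _ = t * z⁻¹ * (t * z) := by rw [ht2, mul_one]
        _ = (t * z⁻¹ * t) * z := by group
        _ = (t⁻¹ * z⁻¹ * t⁻¹) * z := by rw [ht_inv]
        _ = (z⁻¹ * (t * z * t))⁻¹ := by group
  rw [hWbot, Subgroup.mem_bot] at hw
  have h1 : t * z * t = z := by
    calc t * z * t = z * (z⁻¹ * (t * z * t)) := by group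
      _ = z := by rw [hw, mul_one]
  calc t * z = t * z * (t * t) := by rw [ht2, mul_one]
    _ = (t * z * t) * t := by group
    _ = z * t := by rw [h1]

/-- Let p be an odd prime and, inside a finite group, let P be a p-subgroup normalized by a Klein four-group T. Let R be a subgroup of P, normal in P and normalized by T, such that P is the product of R with the centralizer of T in P. If T centralizes the centre of P, then T centralizes the centre of R. -/
theorem result {X : Type*} [Group X] [Finite X]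
    {p : ℕ} (hp : p.Prime) (hodd : Odd p) (P T R : Subgroup X) (hP : IsPGroup p ↥P) (hT : IsKleinFour ↥T)
    (hTP : T ≤ Subgroup.normalizer (P : Set X)) (hRP : R ≤ P) (hRn : (R.subgroupOf P).Normal)
    (hTR : T ≤ Subgroup.normalizer (R : Set X)) (hfac : R ⊔ (P ⊓ Subgroup.centralizer (T : Set X)) = P)
    (hZ : T ≤ Subgroup.centralizer (((Subgroup.center ↥P).map P.subtype : Subgroup X) : Set X)) :
    T ≤ Subgroup.centralizer (((Subgroup.center ↥R).map R.subtype : Subgroup X) : Set X) := by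
  haveI : Fact p.Prime := ⟨hp⟩
  intro t ht
  rw [Subgroup.mem_centralizer_iff]
  intro z hz
  rw [SetLike.mem_coe, mem_zm] at hz
  have ht2 : t * t = 1 := by
    have h1 : (⟨t, ht⟩ : T) ^ 2 = 1 := by
      rw [← hT.exponent_two]
      exact Monoid.pow_exponent_eq_one _
    have h2 := congrArg Subtype.val h1
    simpa [pow_two] using h2
  have ht_inv : t⁻¹ = t := inv_eq_of_mul_eq_one_left ht2
  have htR : ∀ r ∈ R, t * r * t ∈ R := by
    intro r hr
    have h1 := (Subgroup.mem_normalizer_iff.1 (hTR ht) r).1 hr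
    rwa [ht_inv] at h1
  have hRn' : ∀ g ∈ P, ∀ r ∈ R, g * r * g⁻¹ ∈ R := by
    intro g hg r hr
    have h1 := hRn.conj_mem ⟨r, hRP hr⟩ (Subgroup.mem_subgroupOf.2 hr) ⟨g, hg⟩
    rw [Subgroup.mem_subgroupOf] at h1
    simpa using h1
  have hCt : ∀ c ∈ P ⊓ Subgroup.centralizer (T : Set X), c * t = t * c := by
    intro c hc
    exact (Subgroup.mem_centralizer_iff.1 hc.2 t ht).symm
  have hZ' : ∀ z ∈ P, (∀ g ∈ P, g * z = z * g) → t * z = z * t := by
    intro z hzP hzc
    have h1 : z ∈ (Subgroup.center ↥P).map P.subtype := (mem_zm P z).2 ⟨hzP, hzc⟩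
    exact (Subgroup.mem_centralizer_iff.1 (hZ ht) z h1).symm
  exact (t_centralizes hodd P R _ hP hRP hRn' t ht2 htR hCt inf_le_left hfac hZ' z hz.1 hz.2).symm

end Cfsg.Agent.S3190
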