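import Mathlib
import Cfsg.Statements.S0634
import Cfsg.Agent.Lib.Helper9.Cores
import Cfsg.Agent.Lib.Helper12.PSolvable
import Cfsg.Agent.S3744

set_option autoImplicit false
open Cfsg

namespace Cfsg.Agent.S0634

universe u

theorem ups_succ_even (p : ℕ) (G : Type u) [Group G] (n : ℕ) (hn : Even n) :
    (upperPSeries p G (n + 1)).1 = (pPrimeCore p (G ⧸ (upperPSeries p G n).1)).comap
      (QuotientGroup.mk' (upperPSeries p G n).1) := by
  have h : upperPSeries p G (n + 1) = ⟨(pPrimeCore p (G ⧸ (upperPSeries p G n).1)).comap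
      (QuotientGroup.mk' (upperPSeries p G n).1), inferInstance⟩ := by
    rw [upperPSeries]; exact if_pos hn
  rw [h]

theorem ups_succ_odd (p : ℕ) (G : Type u) [Group G] (n : ℕ) (hn : ¬ Even n) :
    (upperPSeries p G (n + 1)).1 = (pCore p (G ⧸ (upperPSeries p G n).1)).comap
      (QuotientGroup.mk' (upperPSeries p G n).1) := by
  have h : upperPSeries p G (n + 1) = ⟨(pCore p (G ⧸ (upperPSeries p G n).1)).comap
      (QuotientGroup.mk' (upperPSeries p G n).1), inferInstance⟩ := by
    rw [upperPSeries]; exact if_neg hn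
  rw [h]

/-- the quotient by the preimage of `O_{p'}(G/N)` has trivial `p'`-core -/
theorem pPrimeCore_quot_comap {G : Type u} [Group G] [Finite G] (p : ℕ) (N : Subgroup G)
    [N.Normal] (M : Subgroup G) [M.Normal]
    (hM : M = (pPrimeCore p (G ⧸ N)).comap (QuotientGroup.mk' N)) :
    pPrimeCore p (G ⧸ M) = ⊥ := by
  have hNM : N ≤ M := by
    rw [hM]
    intro x hx
    rw [Subgroup.mem_comap]
    have : QuotientGroup.mk' N x = 1 := (QuotientGroup.eq_one_iff x).mpr hx
    rw [this]; exact Subgroup.one_mem _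
  obtain ⟨L', hL'⟩ : ∃ L' : Subgroup G,
      L' = (pPrimeCore p (G ⧸ M)).comap (QuotientGroup.mk' M) := ⟨_, rfl⟩
  haveI hL'n : L'.Normal := by rw [hL']; infer_instance
  have hML' : M ≤ L' := by
    rw [hL']
    intro x hx
    rw [Subgroup.mem_comap]
    have : QuotientGroup.mk' M x = 1 := (QuotientGroup.eq_one_iff x).mpr hx
    rw [this]; exact Subgroup.one_mem _
  have hc1 : Nat.card L' = Nat.card M * Nat.card (pPrimeCore p (G ⧸ M)) := by
    rw [hL']; exact Cfsg.Agent.Lib.Helper9.card_comap_mk' M _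
  have hc2 : Nat.card M = Nat.card N * Nat.card (pPrimeCore p (G ⧸ N)) := by
    rw [hM]; exact Cfsg.Agent.Lib.Helper9.card_comap_mk' N _
  have hc3 : Nat.card L' = Nat.card N * Nat.card (L'.map (QuotientGroup.mk' N)) := by
    have h1 : (L'.map (QuotientGroup.mk' N)).comap (QuotientGroup.mk' N) = L' := by
      apply Subgroup.comap_map_eq_self
      rw [QuotientGroup.ker_mk']
      exact hNM.trans hML'
    conv_lhs => rw [← h1]
    exact Cfsg.Agent.Lib.Helper9.card_comap_mk' N _
  have hc4 : Nat.card (L'.map (QuotientGroup.mk' N)) =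
      Nat.card (pPrimeCore p (G ⧸ N)) * Nat.card (pPrimeCore p (G ⧸ M)) := by
    have hpos : 0 < Nat.card N := Nat.card_pos
    apply Nat.eq_of_mul_eq_mul_left hpos
    rw [← hc3, hc1, hc2, mul_assoc]
  have hcop : (Nat.card (L'.map (QuotientGroup.mk' N))).Coprime p := by
    rw [hc4]
    exact Nat.Coprime.mul_left (Cfsg.Agent.Lib.Helper9.pPrimeCore_coprime p (G ⧸ N))
      (Cfsg.Agent.Lib.Helper9.pPrimeCore_coprime p (G ⧸ M))
  have hTn : (L'.map (QuotientGroup.mk' N)).Normal :=
    hL'n.map _ (QuotientGroup.mk'_surjective N)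
  have hTle : L'.map (QuotientGroup.mk' N) ≤ pPrimeCore p (G ⧸ N) :=
    Cfsg.Agent.Lib.Helper9.le_pPrimeCore hTn hcop
  have hL'M : L' ≤ M := by
    intro x hx
    rw [hM, Subgroup.mem_comap]
    exact hTle (Subgroup.mem_map_of_mem _ hx)
  rw [eq_bot_iff]
  intro y hy
  obtain ⟨x, rfl⟩ := QuotientGroup.mk'_surjective M y
  rw [Subgroup.mem_bot]
  have hx : x ∈ L' := by rw [hL']; exact hy
  exact (QuotientGroup.eq_one_iff x).mpr (hL'M hx)

/-- In a p-soluble group each p-factor of the upper p-series contains its own centralizer in the corresponding quotient. -/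
theorem result {G : Type*} [Group G] [Finite G] {p : ℕ} [Fact p.Prime] (hsol : Cfsg.IsPSolvable p G) (k : ℕ) : Subgroup.centralizer ((((Cfsg.upperPSeries p G (2 * k + 2)).1.map (QuotientGroup.mk' (Cfsg.upperPSeries p G (2 * k + 1)).1)) : Subgroup (G ⧸ (Cfsg.upperPSeries p G (2 * k + 1)).1)) : Set (G ⧸ (Cfsg.upperPSeries p G (2 * k + 1)).1)) ≤ (Cfsg.upperPSeries p G (2 * k + 2)).1.map (QuotientGroup.mk' (Cfsg.upperPSeries p G (2 * k + 1)).1) := by
  have hM := ups_succ_even p G (2 * k) (even_two_mul k)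
  have hodd : ¬ Even (2 * k + 1) := by rw [Nat.even_iff]; omega
  have hL := ups_succ_odd p G (2 * k + 1) hodd
  have h1 : (upperPSeries p G (2 * k + 2)).1.map (QuotientGroup.mk' (upperPSeries p G (2 * k + 1)).1)
      = pCore p (G ⧸ (upperPSeries p G (2 * k + 1)).1) := by
    rw [show 2 * k + 2 = 2 * k + 1 + 1 from rfl, hL,
      Subgroup.map_comap_eq_self_of_surjective (QuotientGroup.mk'_surjective _)]
  rw [h1]
  exact Cfsg.Agent.Lib.Helper12.PSolvable.hall_higman
    (Cfsg.Agent.S3744.isPSolvable_quotient hsol _)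
    (pPrimeCore_quot_comap p (upperPSeries p G (2 * k)).1 _ hM)

end Cfsg.Agent.S0634
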