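import Mathlib
import Cfsg.Statements.S0635
import Cfsg.Agent.Lib.Helper9.Cores
import Cfsg.Agent.Lib.Helper12.PSolvable
import Cfsg.Agent.S3744
import Cfsg.Agent.S0634

set_option autoImplicit false
open Cfsg

namespace Cfsg.Agent.S0635

universe u

section
variable {G : Type u} [Group G]

/-- a characteristic-type core of a quotient, pulled back, computed via any surjection with the same kernel -/
theorem comap_core_eq (core : ∀ (X : Type u) [Group X], Subgroup X)
    (hcore : ∀ (X Y : Type u) [Group X] [Group Y] (e : X ≃* Y),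
      (core X).map e.toMonoidHom = core Y)
    {B : Type u} [Group B] (ψ : G →* B) (hψ : Function.Surjective ψ) (W : Subgroup G) [W.Normal]
    (hker : ψ.ker = W) :
    (core (G ⧸ W)).comap (QuotientGroup.mk' W) = (core B).comap ψ := by
  let φ : G ⧸ W →* B := QuotientGroup.lift W ψ (le_of_eq hker.symm)
  have hφ : ∀ x : G, φ (QuotientGroup.mk' W x) = ψ x := fun x => rfl
  have hφinj : Function.Injective φ := by
    rw [injective_iff_map_eq_one]
    intro y hy
    obtain ⟨x, rfl⟩ := QuotientGroup.mk'_surjective _ y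
    rw [hφ] at hy
    exact (QuotientGroup.eq_one_iff x).mpr (hker ▸ MonoidHom.mem_ker.mpr hy)
  have hφsurj : Function.Surjective φ := fun b => by
    obtain ⟨a, rfl⟩ := hψ b
    exact ⟨QuotientGroup.mk' _ a, hφ a⟩
  let e : G ⧸ W ≃* B := MulEquiv.ofBijective φ ⟨hφinj, hφsurj⟩
  have he : (core (G ⧸ W)).map φ = core B := hcore _ _ e
  ext x
  rw [Subgroup.mem_comap, Subgroup.mem_comap, ← he]
  constructor
  · intro h; exact ⟨_, h, hφ x⟩
  · rintro ⟨y, hy, hyx⟩
    have h1 : y = QuotientGroup.mk' W x := hφinj (by rw [hyx, hφ])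
    rw [← h1]; exact hy

theorem ups_one (p : ℕ) : (upperPSeries p G 1).1 = pPrimeCore p G := by
  have h := Cfsg.Agent.S0634.ups_succ_even p G 0 (by decide : Even 0)
  have hker : (MonoidHom.id G).ker = (upperPSeries p G 0).1 := by
    ext x
    rw [MonoidHom.mem_ker]
    exact Iff.symm Subgroup.mem_bot
  have h2 := comap_core_eq (fun X _ => pPrimeCore p X)
    (fun X Y _ _ e => Cfsg.Agent.Lib.Helper9.pPrimeCore_map_equiv p e) (MonoidHom.id G)
    Function.surjective_id (upperPSeries p G 0).1 hker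
  rw [show (1 : ℕ) = 0 + 1 from rfl, h, h2]
  exact Subgroup.comap_id _

theorem ups_two (p : ℕ) : (upperPSeries p G 2).1 = pPrimePCore p G := by
  have h := Cfsg.Agent.S0634.ups_succ_odd p G 1 (by decide)
  have hker : (QuotientGroup.mk' (pPrimeCore p G)).ker = (upperPSeries p G 1).1 := by
    rw [QuotientGroup.ker_mk', ups_one]
  have h2 := comap_core_eq (fun X _ => pCore p X)
    (fun X Y _ _ e => Cfsg.Agent.Lib.Helper9.pCore_map_equiv p e)
    (QuotientGroup.mk' (pPrimeCore p G)) (QuotientGroup.mk'_surjective _)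
    (upperPSeries p G 1).1 hker
  rw [show (2 : ℕ) = 1 + 1 from rfl, h, h2]
  rfl

theorem ups_shift (p : ℕ) (K : Subgroup G) [K.Normal] (hK : K = (upperPSeries p G 2).1) (j : ℕ) :
    (upperPSeries p G (2 + j)).1 =
      ((upperPSeries p (G ⧸ K) j).1).comap (QuotientGroup.mk' K) := by
  induction j with
  | zero =>
    show (upperPSeries p G 2).1 = (⊥ : Subgroup (G ⧸ K)).comap (QuotientGroup.mk' K)
    rw [MonoidHom.comap_bot, QuotientGroup.ker_mk', hK]
  | succ j ih =>
    have hker : ((QuotientGroup.mk' (upperPSeries p (G ⧸ K) j).1).comp (QuotientGroup.mk' K)).ker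
        = (upperPSeries p G (2 + j)).1 := by
      rw [← MonoidHom.comap_ker, QuotientGroup.ker_mk', ih]
    have hsurj : Function.Surjective
        ((QuotientGroup.mk' (upperPSeries p (G ⧸ K) j).1).comp (QuotientGroup.mk' K)) :=
      (QuotientGroup.mk'_surjective _).comp (QuotientGroup.mk'_surjective _)
    by_cases hj : Even j
    · have hj2 : Even (2 + j) := by
        rw [Nat.even_iff] at hj ⊢; omega
      rw [show 2 + (j + 1) = (2 + j) + 1 from rfl, Cfsg.Agent.S0634.ups_succ_even p G (2 + j) hj2,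
        Cfsg.Agent.S0634.ups_succ_even p (G ⧸ K) j hj,
        comap_core_eq (fun X _ => pPrimeCore p X)
          (fun X Y _ _ e => Cfsg.Agent.Lib.Helper9.pPrimeCore_map_equiv p e) _ hsurj _ hker,
        Subgroup.comap_comap]
    · have hj2 : ¬ Even (2 + j) := by
        rw [Nat.even_iff] at hj ⊢; omega
      rw [show 2 + (j + 1) = (2 + j) + 1 from rfl, Cfsg.Agent.S0634.ups_succ_odd p G (2 + j) hj2,
        Cfsg.Agent.S0634.ups_succ_odd p (G ⧸ K) j hj,
        comap_core_eq (fun X _ => pCore p X)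
          (fun X Y _ _ e => Cfsg.Agent.Lib.Helper9.pCore_map_equiv p e) _ hsurj _ hker,
        Subgroup.comap_comap]

theorem le_sylow_of_normal {p : ℕ} (N : Subgroup G) [N.Normal] (hN : IsPGroup p N)
    (P : Sylow p G) : N ≤ P := by
  have h1 : IsPGroup p (↑P ⊔ N : Subgroup G) := IsPGroup.to_sup_of_normal_right P.2 hN
  have h2 := P.is_maximal' h1 le_sup_left
  rw [← h2]; exact le_sup_right

theorem center_sylow_le [Finite G] {p : ℕ} [Fact p.Prime] (hsol : IsPSolvable p G)
    (S : Sylow p G) :
    ∀ z ∈ (S : Subgroup G), (∀ s ∈ (S : Subgroup G), s * z = z * s) → z ∈ pPrimePCore p G := by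
  intro z hzS hz
  show QuotientGroup.mk' (pPrimeCore p G) z ∈ pCore p (G ⧸ pPrimeCore p G)
  have hbot := Cfsg.Agent.Lib.Helper9.pPrimeCore_quotient_eq_bot p G
  have hHH := Cfsg.Agent.Lib.Helper12.PSolvable.hall_higman
    (Cfsg.Agent.S3744.isPSolvable_quotient hsol (pPrimeCore p G)) hbot
  apply hHH
  rw [Subgroup.mem_centralizer_iff]
  intro q hq
  have hqS : q ∈ (S : Subgroup G).map (QuotientGroup.mk' (pPrimeCore p G)) := by
    have hle := le_sylow_of_normal (pCore p (G ⧸ pPrimeCore p G))
      (Cfsg.Agent.Lib.Helper9.pCore_isPGroup p _)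
      (Sylow.mapSurjective (QuotientGroup.mk'_surjective (pPrimeCore p G)) S)
    exact hle hq
  obtain ⟨s, hs, rfl⟩ := hqS
  rw [← map_mul, ← map_mul, hz s hs]

theorem class_map_le [Finite G] {p : ℕ} [Fact p.Prime] (S : Sylow p G) (K : Subgroup G)
    [K.Normal]
    (hZ : ∀ z ∈ (S : Subgroup G), (∀ s ∈ (S : Subgroup G), s * z = z * s) → z ∈ K) :
    Group.nilpotencyClass ↥((S : Subgroup G).map (QuotientGroup.mk' K))
      ≤ Group.nilpotencyClass ↥(S : Subgroup G) - 1 := by
  haveI : Group.IsNilpotent ↥(S : Subgroup G) := S.2.isNilpotent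
  have hf : Function.Surjective ((QuotientGroup.mk' K).subgroupMap (S : Subgroup G)) :=
    (QuotientGroup.mk' K).subgroupMap_surjective S
  have hker : Subgroup.center ↥(S : Subgroup G)
      ≤ ((QuotientGroup.mk' K).subgroupMap (S : Subgroup G)).ker := by
    intro z hz
    rw [MonoidHom.mem_ker]
    apply Subtype.ext
    show QuotientGroup.mk' K (z : G) = 1
    rw [QuotientGroup.mk'_apply, QuotientGroup.eq_one_iff]
    apply hZ _ z.2
    intro s hs
    have h1 := (Subgroup.mem_center_iff.mp hz) ⟨s, hs⟩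
    exact congrArg Subtype.val h1
  have hg : Function.Surjective (QuotientGroup.lift (Subgroup.center ↥(S : Subgroup G))
      ((QuotientGroup.mk' K).subgroupMap (S : Subgroup G)) hker) := fun y => by
    obtain ⟨x, rfl⟩ := hf y
    exact ⟨QuotientGroup.mk x, rfl⟩
  haveI : Group.IsNilpotent (↥(S : Subgroup G) ⧸ Subgroup.center ↥(S : Subgroup G)) :=
    (S.2.to_quotient _).isNilpotent
  have h1 := Group.nilpotencyClass_le_of_surjective _ hg
  rw [Group.nilpotencyClass_quotient_center] at h1
  exact h1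

end

theorem main {p : ℕ} [Fact p.Prime] : ∀ (c : ℕ) (G : Type u) [Group G] [Finite G],
    IsPSolvable p G → ∀ S : Sylow p G, Group.nilpotencyClass ↥(S : Subgroup G) ≤ c →
    (upperPSeries p G (2 * c + 1)).1 = ⊤ := by
  intro c
  induction c with
  | zero =>
    intro G _ _ hsol S hc
    haveI : Group.IsNilpotent ↥(S : Subgroup G) := S.2.isNilpotent
    have h0 : Group.nilpotencyClass ↥(S : Subgroup G) = 0 := Nat.le_zero.mp hc
    rw [Group.nilpotencyClass_zero_iff_subsingleton] at h0
    have hcop : (Nat.card G).Coprime p := by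
      rw [Nat.coprime_comm, Nat.Prime.coprime_iff_not_dvd Fact.out]
      intro hdvd
      exact S.ne_bot_of_dvd_card hdvd (Subgroup.eq_bot_of_subsingleton _)
    show (upperPSeries p G 1).1 = ⊤
    rw [ups_one, eq_top_iff]
    exact Cfsg.Agent.Lib.Helper9.le_pPrimeCore (inferInstance : (⊤ : Subgroup G).Normal)
      (by rw [Subgroup.card_top]; exact hcop)
  | succ c ih =>
    intro G _ _ hsol S hc
    obtain ⟨K, hK⟩ : ∃ K, K = (upperPSeries p G 2).1 := ⟨_, rfl⟩
    haveI hKn : K.Normal := by rw [hK]; infer_instance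
    have hK' : K = pPrimePCore p G := by rw [hK, ups_two]
    have hZ := center_sylow_le hsol S
    have hcl := class_map_le S K (fun z hz hzc => hK' ▸ hZ z hz hzc)
    have hsolK := Cfsg.Agent.S3744.isPSolvable_quotient hsol K
    have hS' : Group.nilpotencyClass
        ↥((Sylow.mapSurjective (QuotientGroup.mk'_surjective K) S : Sylow p (G ⧸ K)) :
          Subgroup (G ⧸ K)) ≤ c := le_trans hcl (by omega)
    have h1 := ih (G ⧸ K) hsolK _ hS'
    have h2 := ups_shift p K hK (2 * c + 1)
    rw [h1] at h2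
    rw [show 2 * (c + 1) + 1 = 2 + (2 * c + 1) by ring, h2, Subgroup.comap_top]

/-- The p-length of a p-soluble group is at most the nilpotency class of its Sylow p-subgroups. -/
theorem result {G : Type*} [Group G] [Finite G] {p : ℕ} [Fact p.Prime] (hsol : Cfsg.IsPSolvable p G) (S : Sylow p G) : Cfsg.PLengthLE p (Group.nilpotencyClass ↥(S : Subgroup G)) G := by
  exact main _ G hsol S le_rfl

end Cfsg.Agent.S0635
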