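import Cfsg.Statements.S3754
import Cfsg.Agent.Lib.Helper12.PSolvable
import Cfsg.Agent.Lib.Helper9.Hyperplane
import Cfsg.Agent.Lib.Helper16.Residual
import Cfsg.Agent.S3772
import Cfsg.Agent.Lib.Helper10.Coprime

set_option autoImplicit false
open Cfsg

namespace Cfsg.Agent.S3754

universe u

open scoped commutatorElement

/-- Dual Hall–Higman: in a finite `p`-solvable group with `O_p(G) = 1`,
`C_G(O_{p'}(G)) ≤ O_{p'}(G)`. -/
theorem dual_hall_higman {G : Type u} [Group G] [Finite G] {p : ℕ} [Fact p.Prime]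
    (hG : IsPSolvable p G) (hP : pCore p G = ⊥) :
    Subgroup.centralizer (pPrimeCore p G : Set G) ≤ pPrimeCore p G := by
  have hKn : (pPrimeCore p G).Normal := pPrimeCore_normal p G
  have hCn : (Subgroup.centralizer (pPrimeCore p G : Set G)).Normal := Subgroup.normal_centralizer
  by_contra hnot
  have hCbar : (Subgroup.centralizer (pPrimeCore p G : Set G)).map
      (QuotientGroup.mk' (pPrimeCore p G)) ≠ ⊥ := by
    intro h
    apply hnot
    intro c hc
    have h1 : QuotientGroup.mk' (pPrimeCore p G) c ∈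
        (Subgroup.centralizer (pPrimeCore p G : Set G)).map (QuotientGroup.mk' (pPrimeCore p G)) :=
      ⟨c, hc, rfl⟩
    rw [h, Subgroup.mem_bot] at h1
    exact (QuotientGroup.eq_one_iff c).mp h1
  have hCbarn : ((Subgroup.centralizer (pPrimeCore p G : Set G)).map
      (QuotientGroup.mk' (pPrimeCore p G))).Normal := hCn.map _ (QuotientGroup.mk'_surjective _)
  obtain ⟨D, hDn, hDC, hD1, hD⟩ := Cfsg.Agent.Lib.Helper12.PSolvable.exists_normal_le
    (Cfsg.Agent.S3744.isPSolvable_quotient hG (pPrimeCore p G)) _ hCbar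
  have hDp : IsPGroup p D := by
    rcases hD with h | h
    · exact h
    · exfalso
      apply hD1
      have h1 := Cfsg.Agent.Lib.Helper9.le_pPrimeCore hDn h
      rw [Cfsg.Agent.Lib.Helper9.pPrimeCore_quotient_eq_bot] at h1
      exact eq_bot_iff.mpr h1
  have hcomapn : (D.comap (QuotientGroup.mk' (pPrimeCore p G))).Normal := hDn.comap _
  obtain ⟨E, hE⟩ : ∃ E : Subgroup G, E = Subgroup.centralizer (pPrimeCore p G : Set G) ⊓
      D.comap (QuotientGroup.mk' (pPrimeCore p G)) := ⟨_, rfl⟩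
  have hEn : E.Normal := by rw [hE]; infer_instance
  have hE1 : ∀ g : G, g ∈ E → g ∈ Subgroup.centralizer (pPrimeCore p G : Set G) ∧
      QuotientGroup.mk' (pPrimeCore p G) g ∈ D := by
    intro g hg
    rw [hE] at hg
    exact ⟨(Subgroup.mem_inf.mp hg).1, (Subgroup.mem_inf.mp hg).2⟩
  have hEnil : Group.IsNilpotent ↥E := by
    let f : ↥E →* ↥D := ((QuotientGroup.mk' (pPrimeCore p G)).comp E.subtype).codRestrict D
      (fun e => (hE1 (e : G) e.2).2)
    have : Group.IsNilpotent ↥D := hDp.isNilpotent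
    refine Subgroup.isNilpotent_of_ker_le_center f ?_
    intro e he
    rw [Subgroup.mem_center_iff]
    intro c
    have he1 : QuotientGroup.mk' (pPrimeCore p G) (e : G) = 1 := by
      have h0 : f e = 1 := MonoidHom.mem_ker.mp he
      exact congrArg Subtype.val h0
    have heK : (e : G) ∈ pPrimeCore p G := (QuotientGroup.eq_one_iff _).mp he1
    have h2 := Subgroup.mem_centralizer_iff.mp (hE1 (c : G) c.2).1 (e : G) heK
    exact Subtype.ext h2.symm
  obtain ⟨S⟩ : Nonempty (Sylow p ↥E) := inferInstance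
  have hSn : (S : Subgroup ↥E).Normal :=
    Sylow.normal_of_normalizerCondition Group.normalizerCondition_of_isNilpotent S
  have hSc : (S : Subgroup ↥E).Characteristic := Sylow.characteristic_of_normal S hSn
  have hSGn : ((S : Subgroup ↥E).map E.subtype).Normal := ConjAct.normal_of_characteristic_of_normal
  have hSle : (S : Subgroup ↥E).map E.subtype ≤ pCore p G :=
    Cfsg.Agent.Lib.Helper9.le_pCore hSGn (S.isPGroup'.map _)
  rw [hP] at hSle
  have hSbot : (S : Subgroup ↥E) = ⊥ := by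
    rw [eq_bot_iff]
    intro s hs
    have h1 : (s : G) ∈ (⊥ : Subgroup G) := hSle ⟨s, hs, rfl⟩
    rw [Subgroup.mem_bot] at h1 ⊢
    exact Subtype.ext h1
  have hEc : (Nat.card ↥E).Coprime p := by
    have h1 := Sylow.card_eq_multiplicity S
    rw [hSbot, Subgroup.card_bot] at h1
    have hp : p.Prime := Fact.out
    rw [Nat.coprime_comm, Nat.Prime.coprime_iff_not_dvd hp]
    intro hdvd
    have h2 : 0 < (Nat.card ↥E).factorization p :=
      hp.factorization_pos_of_dvd Nat.card_pos.ne' hdvd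
    have h3 : p ^ (Nat.card ↥E).factorization p = 1 := h1.symm
    have h4 : 1 < p ^ (Nat.card ↥E).factorization p := Nat.one_lt_pow h2.ne' hp.one_lt
    omega
  apply hD1
  rw [eq_bot_iff]
  intro d hd
  rw [Subgroup.mem_bot]
  obtain ⟨c, hc, rfl⟩ := hDC hd
  have hcE : c ∈ E := by
    rw [hE]
    exact Subgroup.mem_inf.mpr ⟨hc, hd⟩
  obtain ⟨k, hk⟩ := hDp ⟨_, hd⟩
  have hk' : (QuotientGroup.mk' (pPrimeCore p G) c) ^ p ^ k = 1 := by
    have := congrArg Subtype.val hk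
    simpa using this
  apply Cfsg.Agent.Lib.Helper12.PSolvable.eq_one_of_coprime_of_pow k hk'
  have h5 : orderOf (QuotientGroup.mk' (pPrimeCore p G) c) ∣ orderOf c := orderOf_map_dvd _ c
  have h6 : orderOf c ∣ Nat.card ↥E := by
    have := Subgroup.orderOf_dvd_natCard E hcE
    exact this
  exact Nat.Coprime.coprime_dvd_left (h5.trans h6) hEc

/-- A `p'`-element of `N ⊔ A`, `A` a `p`-group normalizing `N`, lies in `N`. -/
theorem mem_of_coprime_of_mem_sup {M : Type*} [Group M] {p : ℕ} [Fact p.Prime]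
    {N A : Subgroup M} (hA : IsPGroup p A)
    (hAN : A ≤ Subgroup.normalizer (N : Set M)) {y : M} (hy : y ∈ N ⊔ A)
    (hc : (orderOf y).Coprime p) : y ∈ N := by
  have hle : N ⊔ A ≤ Subgroup.normalizer (N : Set M) := sup_le Subgroup.le_normalizer hAN
  obtain ⟨Z, hZ⟩ : ∃ Z : Subgroup M, Z = Subgroup.normalizer (N : Set M) := ⟨_, rfl⟩
  rw [← hZ] at hle hAN
  have hNZ : N ≤ Z := by rw [hZ]; exact Subgroup.le_normalizer
  have hn : (N.subgroupOf Z).Normal := by rw [hZ]; exact Subgroup.normal_in_normalizer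
  have h1 : (⟨y, hle hy⟩ : ↥Z) ∈ N.subgroupOf Z ⊔ A.subgroupOf Z := by
    rw [← Subgroup.subgroupOf_sup hNZ hAN]
    exact hy
  have h2 : QuotientGroup.mk' (N.subgroupOf Z) (⟨y, hle hy⟩ : ↥Z) ∈
      (A.subgroupOf Z).map (QuotientGroup.mk' (N.subgroupOf Z)) := by
    have h3 : QuotientGroup.mk' (N.subgroupOf Z) (⟨y, hle hy⟩ : ↥Z) ∈
        (N.subgroupOf Z ⊔ A.subgroupOf Z).map (QuotientGroup.mk' (N.subgroupOf Z)) :=
      ⟨_, h1, rfl⟩
    rw [Subgroup.map_sup, QuotientGroup.map_mk'_self, bot_sup_eq] at h3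
    exact h3
  have hAp : IsPGroup p ↥((A.subgroupOf Z).map (QuotientGroup.mk' (N.subgroupOf Z))) :=
    (hA.comap_subtype).map _
  obtain ⟨k, hk⟩ := hAp ⟨_, h2⟩
  have hk' : (QuotientGroup.mk' (N.subgroupOf Z) (⟨y, hle hy⟩ : ↥Z)) ^ p ^ k = 1 := by
    have := congrArg Subtype.val hk
    simpa using this
  have h4 : QuotientGroup.mk' (N.subgroupOf Z) (⟨y, hle hy⟩ : ↥Z) = 1 := by
    apply Cfsg.Agent.Lib.Helper12.PSolvable.eq_one_of_coprime_of_pow k hk'
    have h5 : orderOf (QuotientGroup.mk' (N.subgroupOf Z) (⟨y, hle hy⟩ : ↥Z)) ∣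
        orderOf (⟨y, hle hy⟩ : ↥Z) := orderOf_map_dvd _ _
    have h6 : orderOf (⟨y, hle hy⟩ : ↥Z) = orderOf y := by
      rw [← Subgroup.orderOf_coe]
    rw [h6] at h5
    exact Nat.Coprime.coprime_dvd_left h5 hc
  have h7 := (QuotientGroup.eq_one_iff _).mp h4
  exact h7

section abstract

variable {M Q : Type*} [Group M] [Group Q] [Finite M] [Finite Q] {p : ℕ} [Fact p.Prime]

omit [Finite Q] [Fact p.Prime] in
theorem comm_of_elementary {A : Subgroup Q} (hel : IsElementaryAbelian p A) :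
    ∀ x ∈ A, ∀ y ∈ A, x * y = y * x :=
  haveI := hel.1; fun _ hx _ hy => setLike_mul_comm hx hy

omit [Finite M] [Finite Q] [Fact p.Prime] in
theorem L_le_comap_centralizer (π : M →* Q) (A : Subgroup M)
    (hel : IsElementaryAbelian p (A.map π)) (B : Subgroup Q) (hB : B ≤ A.map π) (x : M)
    (hx : π x ∈ Subgroup.centralizer (B : Set Q)) :
    A ⊔ A.map (MulAut.conj x).toMonoidHom ≤ (Subgroup.centralizer (B : Set Q)).comap π := by
  have hcomm := comm_of_elementary hel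
  apply sup_le
  · intro a ha
    rw [Subgroup.mem_comap, Subgroup.mem_centralizer_iff]
    intro b hb
    exact hcomm b (hB hb) (π a) ⟨a, ha, rfl⟩
  · rintro _ ⟨a, ha, rfl⟩
    rw [Subgroup.mem_comap, Subgroup.mem_centralizer_iff]
    intro b hb
    simp only [MulEquiv.coe_toMonoidHom, MulAut.conj_apply, map_mul, map_inv]
    have c1 : Commute b (π x) := Subgroup.mem_centralizer_iff.mp hx b hb
    have c2 : Commute b (π a) := hcomm b (hB hb) (π a) ⟨a, ha, rfl⟩
    exact ((c1.mul_right c2).mul_right c1.inv_right).eq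

omit [Finite Q] [Finite M] in
theorem residual_le (π : M →* Q) (Kb : Subgroup Q) [hKn : Kb.Normal] (A : Subgroup M)
    (hA : IsPGroup p A) (x : M) (hx : π x ∈ Kb) :
    (pResidual p ↥(A ⊔ A.map (MulAut.conj x).toMonoidHom)).map
      (A ⊔ A.map (MulAut.conj x).toMonoidHom).subtype ≤ Kb.comap π := by
  rw [Cfsg.Agent.Lib.Helper16.Residual.pResidualOf_eq_closure, Subgroup.closure_le]
  rintro y ⟨hyL, hyc⟩
  have hn : (Kb.comap π).Normal := inferInstance
  have hx' : x ∈ Kb.comap π := hx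
  refine mem_of_coprime_of_mem_sup hA (N := Kb.comap π)
    (by rw [Subgroup.normalizer_eq_top]; exact le_top) ?_ hyc
  have hle : A ⊔ A.map (MulAut.conj x).toMonoidHom ≤ Kb.comap π ⊔ A := by
    apply sup_le le_sup_right
    rintro _ ⟨a, ha, rfl⟩
    have h1 : x * a * x⁻¹ = (x * (a * x⁻¹ * a⁻¹)) * a := by group
    simp only [MulEquiv.coe_toMonoidHom, MulAut.conj_apply]
    rw [h1]
    refine Subgroup.mul_mem _ (Subgroup.mem_sup_left ?_) (Subgroup.mem_sup_right ha)
    exact Subgroup.mul_mem _ hx' (hn.conj_mem _ (inv_mem hx') a)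
  exact hle hyL

omit [Finite Q] in
theorem key (π : M →* Q) (Kb : Subgroup Q) [hKn : Kb.Normal] (hKc : (Nat.card Kb).Coprime p)
    (A : Subgroup M) (hel : IsElementaryAbelian p (A.map π)) (x : M) (hx : π x ∈ Kb)
    (hnc : ¬ ∀ a ∈ A.map π, a * π x = π x * a) :
    ∃ y ∈ (pResidual p ↥(A ⊔ A.map (MulAut.conj x).toMonoidHom)).map
      (A ⊔ A.map (MulAut.conj x).toMonoidHom).subtype, ¬ ∀ a ∈ A.map π, a * π y = π y * a := by
  by_contra hcon
  push Not at hcon
  apply hnc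
  rintro _ ⟨a, ha, rfl⟩
  obtain ⟨w, hw⟩ : ∃ w, w = a⁻¹ * (x * a * x⁻¹) := ⟨_, rfl⟩
  have hwL : w ∈ A ⊔ A.map (MulAut.conj x).toMonoidHom := by
    rw [hw]
    exact Subgroup.mul_mem _ (Subgroup.mem_sup_left (inv_mem ha))
      (Subgroup.mem_sup_right ⟨a, ha, by simp⟩)
  obtain ⟨k, hk⟩ := Cfsg.Agent.Lib.Helper16.Residual.exists_pow_mem_pResidualOf (p := p) hwL
  have hwe : π w = (π a)⁻¹ * (π x * π a * (π x)⁻¹) := by
    rw [hw]
    simp only [map_mul, map_inv]
  have huK : π w ∈ Kb := by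
    rw [hwe]
    have h1 : (π a)⁻¹ * (π x * π a * (π x)⁻¹) = ((π a)⁻¹ * π x * (π a)⁻¹⁻¹) * (π x)⁻¹ := by group
    rw [h1]
    exact Subgroup.mul_mem _ (hKn.conj_mem _ hx _) (inv_mem hx)
  have huc : (orderOf (π w)).Coprime p :=
    Nat.Coprime.coprime_dvd_left (Subgroup.orderOf_dvd_natCard _ huK) hKc
  obtain ⟨m, hm⟩ := exists_pow_eq_self_of_coprime (x := π w) (n := p ^ k)
    (Nat.Coprime.pow_left k huc.symm)
  have hy : (w ^ p ^ k) ^ m ∈ (pResidual p ↥(A ⊔ A.map (MulAut.conj x).toMonoidHom)).map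
      (A ⊔ A.map (MulAut.conj x).toMonoidHom).subtype := Subgroup.pow_mem _ hk m
  have hpy : π ((w ^ p ^ k) ^ m) = π w := by
    rw [map_pow, map_pow]
    exact hm
  have h1 := hcon _ hy (π a) ⟨a, ha, rfl⟩
  rw [hpy, hwe] at h1
  -- h1 : π a * ((π a)⁻¹ * c) = (π a)⁻¹ * c * π a
  have hcomm : Commute (π a) (π x * π a * (π x)⁻¹) := by
    have h2 : π a * ((π a)⁻¹ * (π x * π a * (π x)⁻¹)) = π x * π a * (π x)⁻¹ := by group
    rw [h2] at h1
    show π a * (π x * π a * (π x)⁻¹) = π x * π a * (π x)⁻¹ * π a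
    have h3 : π a * (π x * π a * (π x)⁻¹) = π a * ((π a)⁻¹ * (π x * π a * (π x)⁻¹) * π a) := by
      rw [← h1]
    rw [h3]
    group
  have hap : π a ^ p = 1 := hel.2 _ ⟨a, ha, rfl⟩
  have hup : (π w) ^ p ^ 1 = 1 := by
    rw [pow_one, hwe, (hcomm.inv_left).mul_pow, inv_pow, hap, inv_one, one_mul, conj_pow, hap]
    group
  have hu1 : π w = 1 := Cfsg.Agent.Lib.Helper12.PSolvable.eq_one_of_coprime_of_pow 1 hup huc
  rw [hwe] at hu1
  have h4 : π x * π a * (π x)⁻¹ = π a := by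
    have := inv_mul_eq_one.mp hu1
    exact this.symm
  calc π a * π x = (π x * π a * (π x)⁻¹) * π x := by rw [h4]
    _ = π x * π a := by group

end abstract

section abstract2

variable {M Q : Type*} [Group M] [Group Q] [Finite M] [Finite Q] {p : ℕ} [Fact p.Prime]

omit [Finite M] [Fact p.Prime] in
theorem residual_congr {L1 L2 : Subgroup M} (h : L1 = L2) :
    (pResidual p ↥L1).map L1.subtype = (pResidual p ↥L2).map L2.subtype := by
  subst h
  rfl

omit [Finite Q] in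
theorem final (π : M →* Q) (Kb : Subgroup Q) [hKn : Kb.Normal] (hKc : (Nat.card Kb).Coprime p)
    (hker : IsPGroup p π.ker) (A : Subgroup M) (hA : IsPGroup p A)
    (B : Subgroup Q) (hBA : B ≤ A.map π)
    (hBp : B.relIndex (A.map π) = p) (x : M) (hxK : π x ∈ Kb)
    (hxB : π x ∈ Subgroup.centralizer (B : Set Q)) (hxA : ¬ ∀ a ∈ A.map π, a * π x = π x * a)
    (L : Subgroup M) (hAL : A ≤ L)
    (hLW : ∀ W : Subgroup M, A ≤ W → (∀ a ∈ A, x * a * x⁻¹ ∈ W) → L ≤ W)
    (hLB : L ≤ (Subgroup.centralizer (B : Set Q)).comap π)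
    (hxR : x ∈ (pResidual p ↥L).map L.subtype) :
    ⁅(pResidual p ↥L).map L.subtype, A⁆ = (pResidual p ↥L).map L.subtype ∧
      (A ⊓ (pCore p ↥L).map L.subtype).relIndex A = p ∧
      ⁅A ⊓ (pCore p ↥L).map L.subtype, L⁆ ≤ π.ker := by
  obtain ⟨R, hR⟩ : ∃ R : Subgroup M, R = (pResidual p ↥L).map L.subtype := ⟨_, rfl⟩
  obtain ⟨T, hT⟩ : ∃ T : Subgroup M, T = (pCore p ↥L).map L.subtype := ⟨_, rfl⟩
  rw [← hR] at hxR ⊢
  rw [← hT]
  have hRL : R ≤ L := by rw [hR]; exact Cfsg.Agent.Lib.Helper16.Residual.pResidualOf_le L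
  have hLR : L ≤ Subgroup.normalizer (R : Set M) := by
    rw [hR]
    exact Subgroup.le_normalizer.trans
      (Cfsg.Agent.Lib.Helper16.Residual.normalizer_le_normalizer_pResidualOf L)
  have hRcl : R = Subgroup.closure {y : M | y ∈ L ∧ (orderOf y).Coprime p} := by
    rw [hR, Cfsg.Agent.Lib.Helper16.Residual.pResidualOf_eq_closure]
  have hLT : L ≤ Subgroup.normalizer (T : Set M) := by
    rw [hT]; exact Cfsg.Agent.Lib.Helper16.Basic.le_normalizer_pCoreOf L
  have hTp : IsPGroup p T := by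
    rw [hT]; exact Cfsg.Agent.Lib.Helper16.Basic.pCoreOf_isPGroup
  have hxL : x ∈ L := hRL hxR
  have hBpg : IsPGroup p B := (hA.map π).to_le hBA
  -- (3)
  have h3 : ⁅R, A⁆ = R := by
    apply le_antisymm
    · exact Cfsg.Agent.Lib.Helper16.Basic.commutator_le_left_of_le_normalizer (hAL.trans hLR)
    · have hAN : A ≤ Subgroup.normalizer ((⁅R, A⁆ : Subgroup M) : Set M) :=
        Cfsg.Agent.Lib.Helper16.Basic.le_normalizer_commutator_right R A
      have hLW' : L ≤ ⁅R, A⁆ ⊔ A := by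
        apply hLW _ le_sup_right
        intro a ha
        have h1 : x * a * x⁻¹ = ⁅x, a⁆ * a := by rw [commutatorElement_def]; group
        rw [h1]
        exact Subgroup.mul_mem _ (Subgroup.mem_sup_left (Subgroup.commutator_mem_commutator hxR ha))
          (Subgroup.mem_sup_right ha)
      intro r hr
      rw [hRcl] at hr
      refine (Subgroup.closure_le _).mpr ?_ hr
      rintro y ⟨hyL, hyc⟩
      exact mem_of_coprime_of_mem_sup hA hAN (hLW' hyL) hyc
  have hD : ∀ a ∈ A, π a ∈ B → a ∈ T := by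
    have hDle : L ⊓ B.comap π ≤ T := by
      rw [hT]
      apply Cfsg.Agent.Lib.Helper16.Basic.le_pCoreOf inf_le_left
      · intro l hl
        apply Cfsg.Agent.Lib.Helper10.Coprime.mem_normalizer_of_conj_mem
        intro d hd
        refine Subgroup.mem_inf.mpr
          ⟨L.mul_mem (L.mul_mem hl (Subgroup.mem_inf.mp hd).1) (L.inv_mem hl), ?_⟩
        rw [Subgroup.mem_comap, map_mul, map_mul, map_inv]
        have hdB : π d ∈ B := (Subgroup.mem_inf.mp hd).2
        have hc : Commute (π d) (π l) := Subgroup.mem_centralizer_iff.mp (hLB hl) _ hdB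
        have h1 : π l * π d * (π l)⁻¹ = π d := by
          rw [← hc.eq]; group
        rw [h1]; exact hdB
      · exact (IsPGroup.comap_of_ker_isPGroup hBpg π hker).to_le inf_le_right
    intro a ha haB
    exact hDle (Subgroup.mem_inf.mpr ⟨hAL ha, haB⟩)
  have hE : ∀ a ∈ A, a ∈ T → π a ∈ B := by
    intro a ha haT
    by_contra hnB
    apply hxA
    have hc1 : π a * π x = π x * π a := by
      obtain ⟨c, hc⟩ : ∃ c, c = x * a * x⁻¹ * a⁻¹ := ⟨_, rfl⟩
      have hcT : c ∈ T := by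
        rw [hc]
        refine T.mul_mem ?_ (T.inv_mem haT)
        exact (Subgroup.mem_normalizer_iff.mp (hLT hxL) a).mp haT
      obtain ⟨k, hk⟩ := hTp ⟨c, hcT⟩
      have hk' : c ^ p ^ k = 1 := congrArg Subtype.val hk
      have hpc : π c = π x * (π a * (π x)⁻¹ * (π a)⁻¹) := by
        rw [hc]; simp only [map_mul, map_inv]; group
      have hcK : π c ∈ Kb := by
        rw [hpc]; exact Kb.mul_mem hxK (hKn.conj_mem _ (Kb.inv_mem hxK) _)
      have h1 : π c = 1 := by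
        apply Cfsg.Agent.Lib.Helper12.PSolvable.eq_one_of_coprime_of_pow k
          (by rw [← map_pow, hk', map_one])
        exact Nat.Coprime.coprime_dvd_left (Subgroup.orderOf_dvd_natCard _ hcK) hKc
      rw [hpc] at h1
      have h2 : π x * π a * (π x)⁻¹ = π a := by
        have h3 : π x * (π a * (π x)⁻¹ * (π a)⁻¹) = π x * π a * (π x)⁻¹ * (π a)⁻¹ := by group
        rw [h3] at h1
        exact mul_inv_eq_one.mp h1
      calc π a * π x = (π x * π a * (π x)⁻¹) * π x := by rw [h2]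
        _ = π x * π a := by group
    have hBC : B ≤ A.map π ⊓ Subgroup.centralizer {π x} := by
      intro b hb
      refine Subgroup.mem_inf.mpr ⟨hBA hb, ?_⟩
      rw [Subgroup.mem_centralizer_singleton_iff]
      exact Subgroup.mem_centralizer_iff.mp hxB b hb
    have haC : π a ∈ A.map π ⊓ Subgroup.centralizer {π x} :=
      Subgroup.mem_inf.mpr ⟨⟨a, ha, rfl⟩, by
        rw [Subgroup.mem_centralizer_singleton_iff]; exact hc1⟩
    have hmul := Subgroup.relIndex_mul_relIndex B (A.map π ⊓ Subgroup.centralizer {π x})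
      (A.map π) hBC inf_le_left
    rw [hBp] at hmul
    have hne1 : B.relIndex (A.map π ⊓ Subgroup.centralizer {π x}) ≠ 1 := by
      intro h
      exact hnB (Subgroup.relIndex_eq_one.mp h haC)
    have h1 : (A.map π ⊓ Subgroup.centralizer {π x}).relIndex (A.map π) = 1 := by
      have hp : p.Prime := Fact.out
      have hdvd : B.relIndex (A.map π ⊓ Subgroup.centralizer {π x}) ∣ p := Dvd.intro _ hmul
      rcases (Nat.dvd_prime hp).mp hdvd with h | h
      · exact absurd h hne1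
      · rw [h] at hmul
        exact Nat.eq_of_mul_eq_mul_left hp.pos (by rw [hmul, mul_one])
    have hle := Subgroup.relIndex_eq_one.mp h1
    intro ab hab
    have h5 := (Subgroup.mem_inf.mp (hle hab)).2
    rw [Subgroup.mem_centralizer_singleton_iff] at h5
    exact h5
  have h45 : A ⊓ T = A ⊓ B.comap π := by
    ext a
    constructor
    · intro h
      exact Subgroup.mem_inf.mpr ⟨(Subgroup.mem_inf.mp h).1,
        hE a (Subgroup.mem_inf.mp h).1 (Subgroup.mem_inf.mp h).2⟩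
    · intro h
      exact Subgroup.mem_inf.mpr ⟨(Subgroup.mem_inf.mp h).1,
        hD a (Subgroup.mem_inf.mp h).1 (Subgroup.mem_inf.mp h).2⟩
  refine ⟨h3, ?_, ?_⟩
  · rw [h45, Subgroup.inf_relIndex_left, Subgroup.relIndex_comap]
    exact hBp
  · rw [h45, Subgroup.commutator_le]
    intro b hb l hl
    rw [MonoidHom.mem_ker, commutatorElement_def, map_mul, map_mul, map_mul, map_inv, map_inv]
    have hc : Commute (π b) (π l) :=
      Subgroup.mem_centralizer_iff.mp (hLB hl) _ (Subgroup.mem_inf.mp hb).2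
    rw [hc.eq]; group

omit [Finite Q] in
theorem main' (π : M →* Q) (Kb : Subgroup Q) [hKn : Kb.Normal] (hKc : (Nat.card Kb).Coprime p)
    (hker : IsPGroup p π.ker) (hsurj : Function.Surjective π) (A : Subgroup M) (hA : IsPGroup p A)
    (hel : IsElementaryAbelian p (A.map π)) (B : Subgroup Q) (hBA : B ≤ A.map π)
    (hBp : B.relIndex (A.map π) = p) (xb : Q) (hxbK : xb ∈ Kb)
    (hxbB : xb ∈ Subgroup.centralizer (B : Set Q)) (hxbA : ¬ ∀ a ∈ A.map π, a * xb = xb * a) :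
    ∃ x ∈ Kb.comap π,
      x ∈ (pResidual p ↥(A ⊔ A.map (MulAut.conj x).toMonoidHom)).map
        (A ⊔ A.map (MulAut.conj x).toMonoidHom).subtype ∧
      (pResidual p ↥(A ⊔ A.map (MulAut.conj x).toMonoidHom)).map
        (A ⊔ A.map (MulAut.conj x).toMonoidHom).subtype ≤ Kb.comap π ∧
      ⁅(pResidual p ↥(A ⊔ A.map (MulAut.conj x).toMonoidHom)).map
        (A ⊔ A.map (MulAut.conj x).toMonoidHom).subtype, A⁆ =
        (pResidual p ↥(A ⊔ A.map (MulAut.conj x).toMonoidHom)).map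
          (A ⊔ A.map (MulAut.conj x).toMonoidHom).subtype ∧
      (A ⊓ (pCore p ↥(A ⊔ A.map (MulAut.conj x).toMonoidHom)).map
        (A ⊔ A.map (MulAut.conj x).toMonoidHom).subtype).relIndex A = p ∧
      ⁅A ⊓ (pCore p ↥(A ⊔ A.map (MulAut.conj x).toMonoidHom)).map
        (A ⊔ A.map (MulAut.conj x).toMonoidHom).subtype,
        A ⊔ A.map (MulAut.conj x).toMonoidHom⁆ ≤ π.ker := by
  obtain ⟨x₀, rfl⟩ := hsurj xb
  have hne : ({x : M | π x ∈ Kb ∧ π x ∈ Subgroup.centralizer (B : Set Q) ∧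
      ¬ ∀ a ∈ A.map π, a * π x = π x * a}).Nonempty := ⟨x₀, hxbK, hxbB, hxbA⟩
  obtain ⟨x, ⟨hxK, hxB, hxA⟩, hmin⟩ := Set.exists_min_image _
    (fun x : M => Nat.card ↥(A ⊔ A.map (MulAut.conj x).toMonoidHom)) (Set.toFinite _) hne
  obtain ⟨y, hyR, hyA⟩ := key π Kb hKc A hel x hxK hxA
  have hyL : y ∈ A ⊔ A.map (MulAut.conj x).toMonoidHom :=
    Cfsg.Agent.Lib.Helper16.Residual.pResidualOf_le _ hyR
  have hyK : π y ∈ Kb := residual_le π Kb A hA x hxK hyR
  have hyB : π y ∈ Subgroup.centralizer (B : Set Q) :=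
    L_le_comap_centralizer π A hel B hBA x hxB hyL
  have hLle : A ⊔ A.map (MulAut.conj y).toMonoidHom ≤ A ⊔ A.map (MulAut.conj x).toMonoidHom := by
    apply sup_le le_sup_left
    rintro _ ⟨a, ha, rfl⟩
    simp only [MulEquiv.coe_toMonoidHom, MulAut.conj_apply]
    exact Subgroup.mul_mem _ (Subgroup.mul_mem _ hyL (Subgroup.mem_sup_left ha))
      (Subgroup.inv_mem _ hyL)
  have hLeq : A ⊔ A.map (MulAut.conj y).toMonoidHom = A ⊔ A.map (MulAut.conj x).toMonoidHom :=
    Subgroup.eq_of_le_of_card_ge hLle (hmin y ⟨hyK, hyB, hyA⟩)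
  have hyR' : y ∈ (pResidual p ↥(A ⊔ A.map (MulAut.conj y).toMonoidHom)).map
      (A ⊔ A.map (MulAut.conj y).toMonoidHom).subtype := by
    rw [residual_congr hLeq]; exact hyR
  refine ⟨y, hyK, hyR', residual_le π Kb A hA y hyK, ?_⟩
  refine final π Kb hKc hker A hA B hBA hBp y hyK hyB hyA _ le_sup_left ?_
    (L_le_comap_centralizer π A hel B hBA y hyB) hyR'
  intro W hAW hcW
  apply sup_le hAW
  rintro _ ⟨a, ha, rfl⟩
  simp only [MulEquiv.coe_toMonoidHom, MulAut.conj_apply]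
  exact hcW a ha

end abstract2

section concrete

variable {M : Type*} [Group M] [Finite M] {p : ℕ} [Fact p.Prime]

theorem map_elementary (A : Subgroup M) (hA : IsPGroup p A)
    (hΦ : (frattini ↥A).map A.subtype ≤ pCore p M) :
    IsElementaryAbelian p (A.map (QuotientGroup.mk' (pCore p M))) := by
  have hpow : ∀ a ∈ A, a ^ p ∈ pCore p M := by
    intro a ha
    apply hΦ
    refine ⟨(⟨a, ha⟩ : ↥A) ^ p, ?_, rfl⟩
    exact Cfsg.Agent.S3772.mem_frattini_of_forall _
      (fun K hK => (Cfsg.Agent.S3772.pgroup_coatom hA K hK).1 ⟨a, ha⟩)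
  have hcomm : ∀ a ∈ A, ∀ b ∈ A, a * b * a⁻¹ * b⁻¹ ∈ pCore p M := by
    intro a ha b hb
    apply hΦ
    refine ⟨(⟨a, ha⟩ : ↥A) * ⟨b, hb⟩ * (⟨a, ha⟩ : ↥A)⁻¹ * (⟨b, hb⟩ : ↥A)⁻¹, ?_, rfl⟩
    exact Cfsg.Agent.S3772.mem_frattini_of_forall _
      (fun K hK => (Cfsg.Agent.S3772.pgroup_coatom hA K hK).2 ⟨a, ha⟩ ⟨b, hb⟩)
  constructor
  · refine ⟨⟨fun x y => ?_⟩⟩
    obtain ⟨x, hx⟩ := x
    obtain ⟨y, hy⟩ := y
    obtain ⟨a, ha, rfl⟩ := hx
    obtain ⟨b, hb, rfl⟩ := hy
    apply Subtype.ext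
    show QuotientGroup.mk' (pCore p M) a * QuotientGroup.mk' (pCore p M) b =
      QuotientGroup.mk' (pCore p M) b * QuotientGroup.mk' (pCore p M) a
    have h1 : QuotientGroup.mk' (pCore p M) (a * b * a⁻¹ * b⁻¹) = 1 :=
      (QuotientGroup.eq_one_iff _).mpr (hcomm a ha b hb)
    rw [map_mul, map_mul, map_mul, map_inv, map_inv] at h1
    have h3 := mul_inv_eq_one.mp h1
    exact mul_inv_eq_iff_eq_mul.mp h3
  · rintro _ ⟨a, ha, rfl⟩
    rw [← map_pow]
    exact (QuotientGroup.eq_one_iff _).mpr (hpow a ha)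

theorem exists_hyper (hM : IsPSolvable p M) (A : Subgroup M) (hA : IsPGroup p A)
    (hΦ : (frattini ↥A).map A.subtype ≤ pCore p M) (hnot : ¬ A ≤ pCore p M) :
    ∃ B : Subgroup (M ⧸ pCore p M), B ≤ A.map (QuotientGroup.mk' (pCore p M)) ∧
      B.relIndex (A.map (QuotientGroup.mk' (pCore p M))) = p ∧
      ∃ xb ∈ pPrimeCore p (M ⧸ pCore p M),
        xb ∈ Subgroup.centralizer (B : Set (M ⧸ pCore p M)) ∧
        ¬ (∀ a ∈ A.map (QuotientGroup.mk' (pCore p M)), a * xb = xb * a) := by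
  have hel : IsElementaryAbelian p (A.map (QuotientGroup.mk' (pCore p M))) :=
    map_elementary A hA hΦ
  have hAbp : IsPGroup p (A.map (QuotientGroup.mk' (pCore p M))) := hA.map _
  have hKc : (Nat.card (pPrimeCore p (M ⧸ pCore p M))).Coprime p :=
    Cfsg.Agent.Lib.Helper9.pPrimeCore_coprime p _
  obtain ⟨Ab, hAb⟩ : ∃ Ab, Ab = A.map (QuotientGroup.mk' (pCore p M)) := ⟨_, rfl⟩
  obtain ⟨Kb, hKb⟩ : ∃ Kb, Kb = pPrimeCore p (M ⧸ pCore p M) := ⟨_, rfl⟩
  have hKn : Kb.Normal := by rw [hKb]; infer_instance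
  rw [← hAb] at hel hAbp ⊢
  rw [← hKb] at hKc ⊢
  by_contra hcon
  push Not at hcon
  have hgen := Cfsg.Agent.Lib.Helper9.eq_iSup_centralizer_hyperplane (A := Ab) (X := Kb) hel
    (by
      have hp : p.Prime := Fact.out
      rw [← Nat.Prime.coprime_iff_not_dvd hp]
      exact hKc.symm)
    (by rw [Subgroup.normalizer_eq_top]; exact le_top)
  have hKcent : Kb ≤ Subgroup.centralizer (Ab : Set (M ⧸ pCore p M)) := by
    rw [hgen]
    apply iSup_le
    rintro ⟨B, hBA, hBp⟩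
    intro xb hxb
    have hxb1 := (Subgroup.mem_inf.mp hxb).1
    have hxb2 := (Subgroup.mem_inf.mp hxb).2
    rw [Subgroup.mem_centralizer_iff]
    intro a ha
    rcases Cfsg.Agent.Lib.Helper9.relIndex_eq_or_le_of_relIndex_le hAbp hBp with h | h
    · exact hcon B hBA h xb hxb1 hxb2 a ha
    · exact Subgroup.mem_centralizer_iff.mp hxb2 a (h ha)
  have hAcent : Ab ≤ Subgroup.centralizer (Kb : Set (M ⧸ pCore p M)) := by
    intro a ha
    rw [Subgroup.mem_centralizer_iff]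
    intro k hk
    exact (Subgroup.mem_centralizer_iff.mp (hKcent hk) a ha).symm
  have hdhh := dual_hall_higman (Cfsg.Agent.S3744.isPSolvable_quotient hM (pCore p M))
    (Cfsg.Agent.Lib.Helper9.pCore_quotient_eq_bot p M)
  rw [← hKb] at hdhh
  apply hnot
  intro a ha
  rw [← QuotientGroup.eq_one_iff]
  have h1 : QuotientGroup.mk' (pCore p M) a ∈ Ab := by rw [hAb]; exact ⟨a, ha, rfl⟩
  have h2 : QuotientGroup.mk' (pCore p M) a ∈ Kb := hdhh (hAcent h1)
  obtain ⟨k, hk⟩ := hAbp ⟨_, h1⟩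
  have hk' : (QuotientGroup.mk' (pCore p M) a) ^ p ^ k = 1 := congrArg Subtype.val hk
  exact Cfsg.Agent.Lib.Helper12.PSolvable.eq_one_of_coprime_of_pow k hk'
    (Nat.Coprime.coprime_dvd_left (Subgroup.orderOf_dvd_natCard Kb h2) hKc)

end concrete

/-- Let M be a finite p-soluble group and A a p-subgroup of M with Φ(A) ≤ O_p(M) but A ≰ O_p(M). Then there is x ∈ O_{p,p'}(M) such that L = ⟨A, xAx⁻¹⟩ satisfies: x ∈ O^p(L) and O^p(L) ≤ O_{p,p'}(M); [O^p(L), A] = O^p(L); A ∩ O_p(L) has index p in A; and [A ∩ O_p(L), L] ≤ O_p(M). Here O^p(L) is the subgroup generated by the p'-elements of L and O_{p,p'}(M) the preimage of O_{p'}(M/O_p(M)). -/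
theorem result {M : Type*} [Group M] [Finite M] {p : ℕ} [Fact p.Prime] (hM : Cfsg.IsPSolvable p M) (A : Subgroup M) (hA : IsPGroup p A) (hΦ : (frattini ↥A).map A.subtype ≤ Cfsg.pCore p M) (hnot : ¬ A ≤ Cfsg.pCore p M) : ∃ x ∈ (Cfsg.pPrimeCore p (M ⧸ Cfsg.pCore p M)).comap (QuotientGroup.mk' (Cfsg.pCore p M)), x ∈ (Cfsg.pResidual p ↥(A ⊔ A.map (MulAut.conj x).toMonoidHom)).map (A ⊔ A.map (MulAut.conj x).toMonoidHom).subtype ∧ (Cfsg.pResidual p ↥(A ⊔ A.map (MulAut.conj x).toMonoidHom)).map (A ⊔ A.map (MulAut.conj x).toMonoidHom).subtype ≤ (Cfsg.pPrimeCore p (M ⧸ Cfsg.pCore p M)).comap (QuotientGroup.mk' (Cfsg.pCore p M)) ∧ ⁅(Cfsg.pResidual p ↥(A ⊔ A.map (MulAut.conj x).toMonoidHom)).map (A ⊔ A.map (MulAut.conj x).toMonoidHom).subtype, A⁆ = (Cfsg.pResidual p ↥(A ⊔ A.map (MulAut.conj x).toMonoidHom)).map (A ⊔ A.map (MulAut.conj x).toMonoidHom).subtype ∧ (A ⊓ (Cfsg.pCore p ↥(A ⊔ A.map (MulAut.conj x).toMonoidHom)).map (A ⊔ A.map (MulAut.conj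 x).toMonoidHom).subtype).relIndex A = p ∧ ⁅A ⊓ (Cfsg.pCore p ↥(A ⊔ A.map (MulAut.conj x).toMonoidHom)).map (A ⊔ A.map (MulAut.conj x).toMonoidHom).subtype, A ⊔ A.map (MulAut.conj x).toMonoidHom⁆ ≤ Cfsg.pCore p M := by
  obtain ⟨B, hBA, hBp, xb, hxbK, hxbB, hxbA⟩ := exists_hyper hM A hA hΦ hnot
  have hker : IsPGroup p (QuotientGroup.mk' (Cfsg.pCore p M)).ker := by
    rw [QuotientGroup.ker_mk']
    exact Cfsg.Agent.Lib.Helper9.pCore_isPGroup p M
  have h := main' (QuotientGroup.mk' (Cfsg.pCore p M)) (Cfsg.pPrimeCore p (M ⧸ Cfsg.pCore p M))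
    (Cfsg.Agent.Lib.Helper9.pPrimeCore_coprime p _) hker (QuotientGroup.mk'_surjective _) A hA
    (map_elementary A hA hΦ) B hBA hBp xb hxbK hxbB hxbA
  rw [QuotientGroup.ker_mk'] at h
  exact h

end Cfsg.Agent.S3754
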