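import Cfsg.Statements.S3783
import Cfsg.Agent.S0635
import Cfsg.Agent.S3754
import Cfsg.Agent.S4218
import Cfsg.Agent.S4601
import Cfsg.Agent.Lib.Helper9.Cores
import Cfsg.Agent.Lib.Helper20.ESpecial

set_option autoImplicit false
open Cfsg

namespace Cfsg.Agent.S3783

universe u

/-- Frobenius-type counting lemma: if `A` is normalised by the powers `c^i` (`0 < i < P`), none of
which centralises a nontrivial element of `A`, and the "norm" of `c` vanishes on `V`, then `A` acts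
trivially on `V`. -/
theorem frob_norm {H V : Type*} [Group H] [CommGroup V] (ρ : H →* MulAut V) (A : Subgroup H)
    [Finite A] (c : H) (P : ℕ) (hP : 0 < P)
    (h1 : ∀ i, 0 < i → i < P → ∀ a ∈ A, c ^ i * a * (c ^ i)⁻¹ ∈ A)
    (h2 : ∀ i, 0 < i → i < P → ∀ a ∈ A, a * c ^ i = c ^ i * a → a = 1)
    (h4 : ∀ v : V, v ^ Nat.card A = 1 → v = 1)
    (N : ℕ → V → V) (hN0 : ∀ v, N 0 v = 1) (hN1 : ∀ n v, N (n + 1) v = N n v * ρ (c ^ n) v)
    (h3 : ∀ v, N P v = 1) : ∀ a ∈ A, ρ a = 1 := by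
  classical
  haveI : Fintype A := Fintype.ofFinite A
  have hNprod : ∀ n v, N n v = ∏ i ∈ Finset.range n, ρ (c ^ i) v := by
    intro n v
    induction n with
    | zero => rw [hN0, Finset.prod_range_zero]
    | succ n ih => rw [hN1, ih, Finset.prod_range_succ]
  have hconj : ∀ (h : A) (v : V),
      ∏ i ∈ Finset.range P, ρ ((h : H) * c ^ i * (h : H)⁻¹) v = 1 := by
    intro h v
    have h5 := h3 (ρ (h : H)⁻¹ v)
    rw [hNprod] at h5
    have e : ∀ i, ρ ((h : H) * c ^ i * (h : H)⁻¹) v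
        = ρ (h : H) (ρ (c ^ i) (ρ (h : H)⁻¹ v)) := by
      intro i; rw [map_mul, map_mul]; rfl
    simp_rw [e]
    rw [← map_prod, h5, map_one]
  have hconj' : ∀ (h : A) (v : V),
      ∏ i ∈ Finset.Ico 1 P, ρ ((h : H) * c ^ i * (h : H)⁻¹) v = v⁻¹ := by
    intro h v
    have h5 := hconj h v
    rw [Finset.range_eq_Ico, Finset.prod_eq_prod_Ico_succ_bot hP] at h5
    have e : ρ ((h : H) * c ^ 0 * (h : H)⁻¹) v = v := by
      rw [pow_zero, mul_one, mul_inv_cancel, map_one]; rfl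
    rw [e] at h5
    exact eq_inv_of_mul_eq_one_right h5
  have hbij : ∀ i, 0 < i → i < P → ∀ v : V,
      ∏ h : A, ρ ((h : H) * c ^ i * (h : H)⁻¹) v = ∏ a : A, ρ (a : H) (ρ (c ^ i) v) := by
    intro i hi0 hiP v
    let ψ : A → A := fun h => ⟨(h : H) * (c ^ i * (h : H)⁻¹ * (c ^ i)⁻¹),
      A.mul_mem h.2 (h1 i hi0 hiP _ (A.inv_mem h.2))⟩
    have hψinj : Function.Injective ψ := by
      intro h h' hh
      have e : (h : H) * (c ^ i * (h : H)⁻¹ * (c ^ i)⁻¹)
          = (h' : H) * (c ^ i * (h' : H)⁻¹ * (c ^ i)⁻¹) := congrArg Subtype.val hh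
      have e3 : (h : H) * c ^ i * (h : H)⁻¹ = (h' : H) * c ^ i * (h' : H)⁻¹ := by
        have e' := congrArg (· * c ^ i) e
        simpa [mul_assoc] using e'
      have e2 : ((h' : H)⁻¹ * (h : H)) * c ^ i = c ^ i * ((h' : H)⁻¹ * (h : H)) := by
        calc ((h' : H)⁻¹ * (h : H)) * c ^ i
            = (h' : H)⁻¹ * ((h : H) * c ^ i * (h : H)⁻¹) * (h : H) := by group
          _ = (h' : H)⁻¹ * ((h' : H) * c ^ i * (h' : H)⁻¹) * (h : H) := by rw [e3]
          _ = c ^ i * ((h' : H)⁻¹ * (h : H)) := by group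
      have e4 := h2 i hi0 hiP _ (A.mul_mem (A.inv_mem h'.2) h.2) e2
      exact Subtype.ext (inv_mul_eq_one.mp e4).symm
    have hψbij : Function.Bijective ψ := Finite.injective_iff_bijective.mp hψinj
    refine Fintype.prod_bijective ψ hψbij _ _ ?_
    intro h
    show ρ ((h : H) * c ^ i * (h : H)⁻¹) v
      = ρ ((h : H) * (c ^ i * (h : H)⁻¹ * (c ^ i)⁻¹)) (ρ (c ^ i) v)
    rw [← MulAut.mul_apply, ← map_mul]
    have e : (h : H) * (c ^ i * (h : H)⁻¹ * (c ^ i)⁻¹) * c ^ i = (h : H) * c ^ i * (h : H)⁻¹ := by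
      group
    rw [e]
  -- the averaging operator
  have hT : ∀ v : V, ∏ a : A, ρ (a : H) v = v ^ Nat.card A := by
    intro v
    have e1 : ∏ h : A, ∏ i ∈ Finset.Ico 1 P, ρ ((h : H) * c ^ i * (h : H)⁻¹) v
        = (v⁻¹) ^ Nat.card A := by
      rw [Finset.prod_congr rfl (fun h _ => hconj' h v), Finset.prod_const, Finset.card_univ,
        Nat.card_eq_fintype_card]
    have e2 : ∏ h : A, ∏ i ∈ Finset.Ico 1 P, ρ ((h : H) * c ^ i * (h : H)⁻¹) v
        = (∏ a : A, ρ (a : H) v)⁻¹ := by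
      rw [Finset.prod_comm]
      have e3 : ∀ i ∈ Finset.Ico 1 P, ∏ h : A, ρ ((h : H) * c ^ i * (h : H)⁻¹) v
          = ∏ a : A, ρ (a : H) (ρ (c ^ i) v) := by
        intro i hi
        rw [Finset.mem_Ico] at hi
        exact hbij i hi.1 hi.2 v
      rw [Finset.prod_congr rfl e3, Finset.prod_comm]
      have e4 : ∀ a : A, ∏ i ∈ Finset.Ico 1 P, ρ (a : H) (ρ (c ^ i) v) = ρ (a : H) v⁻¹ := by
        intro a
        rw [← map_prod]
        congr 1
        have h5 := hconj' 1 v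
        simpa using h5
      rw [Finset.prod_congr rfl (fun a _ => e4 a)]
      rw [← Finset.prod_inv_distrib]
      exact Finset.prod_congr rfl (fun a _ => map_inv _ _)
    have e5 := e1.symm.trans e2
    rw [inv_pow, inv_inj] at e5
    exact e5.symm
  intro a ha
  ext v
  show ρ a v = v
  have e1 : ρ a (∏ b : A, ρ (b : H) v) = ∏ b : A, ρ (b : H) v := by
    rw [map_prod]
    refine Fintype.prod_bijective (fun b : A => (⟨a, ha⟩ : A) * b)
      (Group.mulLeft_bijective _) _ _ ?_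
    intro b
    show ρ a (ρ (b : H) v) = ρ (a * (b : H)) v
    rw [map_mul]; rfl
  rw [hT, map_pow] at e1
  have e2 : (ρ a v / v) ^ Nat.card A = 1 := by
    rw [div_pow, e1, div_self']
  exact div_eq_one.mp (h4 _ e2)

/-- Abelian `q`-subgroups pass to quotients. -/
theorem abel_quot {G : Type*} [Group G] [Finite G] {q : ℕ} [Fact q.Prime] (N : Subgroup G)
    [N.Normal]
    (hab : ∀ Q : Subgroup G, IsPGroup q Q → ∀ a ∈ Q, ∀ b ∈ Q, a * b = b * a) :
    ∀ Q : Subgroup (G ⧸ N), IsPGroup q Q → ∀ a ∈ Q, ∀ b ∈ Q, a * b = b * a := by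
  intro Q hQ a ha b hb
  obtain ⟨P⟩ : Nonempty (Sylow q G) := inferInstance
  obtain ⟨Q', hQ'⟩ := hQ.exists_le_sylow
  obtain ⟨x, hx⟩ := MulAction.exists_smul_eq (G ⧸ N)
    (Sylow.mapSurjective (QuotientGroup.mk'_surjective N) P) Q'
  have hmem : ∀ c ∈ Q, ∃ c' ∈ (P : Subgroup G), x⁻¹ * c * x = QuotientGroup.mk' N c' := by
    intro c hc
    have h1 : c ∈ (Q' : Subgroup (G ⧸ N)) := hQ' hc
    rw [← hx, Sylow.coe_subgroup_smul, Subgroup.mem_pointwise_smul_iff_inv_smul_mem] at h1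
    have h2 : (MulAut.conj x)⁻¹ • c = x⁻¹ * c * x := by
      rw [← map_inv, MulAut.smul_def, MulAut.conj_apply, inv_inv]
    rw [h2, Sylow.coe_mapSurjective] at h1
    obtain ⟨c', hc', hcc⟩ := h1
    exact ⟨c', hc', hcc.symm⟩
  obtain ⟨a', ha', haa⟩ := hmem a ha
  obtain ⟨b', hb', hbb⟩ := hmem b hb
  have h3 := hab P P.isPGroup' a' ha' b' hb'
  have h4 : (x⁻¹ * a * x) * (x⁻¹ * b * x) = (x⁻¹ * b * x) * (x⁻¹ * a * x) := by
    rw [haa, hbb, ← map_mul, ← map_mul, h3]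
  have h5 : a * b = x * ((x⁻¹ * a * x) * (x⁻¹ * b * x)) * x⁻¹ := by group
  have h6 : b * a = x * ((x⁻¹ * b * x) * (x⁻¹ * a * x)) * x⁻¹ := by group
  rw [h5, h6, h4]

theorem eq_one_of_pow_of_coprime {G : Type*} [Group G] {a : G} {m n : ℕ} (hm : a ^ m = 1)
    (hn : a ^ n = 1) (hmn : m.Coprime n) : a = 1 := by
  have h1 : orderOf a ∣ Nat.gcd m n :=
    Nat.dvd_gcd (orderOf_dvd_of_pow_eq_one hm) (orderOf_dvd_of_pow_eq_one hn)
  rw [hmn.gcd_eq_one, Nat.dvd_one] at h1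
  exact orderOf_eq_one_iff.mp h1

open scoped Pointwise in
/-- A `g`-invariant Sylow `q`-subgroup of a normal `p'`-subgroup, `g` a `p`-element. -/
theorem exists_invariant_sylow {H : Type*} [Group H] [Finite H] {p : ℕ} [Fact p.Prime]
    (E : Subgroup H) [E.Normal] (hE : (Nat.card E).Coprime p) (g : H) (n : ℕ)
    (hg : g ^ p ^ n = 1) (q : ℕ) [Fact q.Prime] :
    ∃ S : Sylow q ↥E, ∀ s : ↥E, s ∈ (S : Subgroup ↥E) →
      MulAut.conjNormal g s ∈ (S : Subgroup ↥E) := by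
  let f : ↥(Subgroup.zpowers g) →* MulAut ↥E :=
    (MulAut.conjNormal).comp (Subgroup.zpowers g).subtype
  letI : MulDistribMulAction ↥(Subgroup.zpowers g) ↥E := MulDistribMulAction.compHom ↥E f
  have hZ : IsPGroup p ↥(Subgroup.zpowers g) := by
    have h1 : Nat.card ↥(Subgroup.zpowers g) ∣ p ^ n := by
      rw [Nat.card_zpowers]; exact orderOf_dvd_of_pow_eq_one hg
    obtain ⟨j, -, hj⟩ := (Nat.dvd_prime_pow (Fact.out : p.Prime)).mp h1
    exact IsPGroup.of_card hj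
  have hnd : ¬ p ∣ Nat.card (Sylow q ↥E) := by
    obtain ⟨S0⟩ : Nonempty (Sylow q ↥E) := inferInstance
    intro hd
    have h1 : p ∣ Nat.card ↥E :=
      hd.trans ((Sylow.card_dvd_index S0).trans (Subgroup.index_dvd_card _))
    exact (Nat.Prime.coprime_iff_not_dvd (Fact.out : p.Prime)).mp hE.symm h1
  obtain ⟨S, hS⟩ := hZ.nonempty_fixed_point_of_prime_not_dvd_card (Sylow q ↥E) hnd
  refine ⟨S, ?_⟩
  intro s hs
  have h1 := hS ⟨g, Subgroup.mem_zpowers g⟩
  have h2 : (⟨g, Subgroup.mem_zpowers g⟩ : ↥(Subgroup.zpowers g)) • s ∈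
      (⟨g, Subgroup.mem_zpowers g⟩ : ↥(Subgroup.zpowers g)) • (S : Subgroup ↥E) :=
    Subgroup.smul_mem_pointwise_smul s _ _ hs
  rw [← Sylow.pointwise_smul_def, h1] at h2
  exact h2

/-- In a `p`-solvable group `H` with `O_p(H) = 1` whose `q`-subgroups (`q ≠ p`) are abelian, an
element `g` of order `p^(k+1)` normalises a nontrivial `p'`-subgroup `A` on which no nontrivial
power of `g` has a nontrivial fixed point. -/
theorem exists_frob {H : Type u} [Group H] [Finite H] {p : ℕ} [Fact p.Prime]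
    (hH : IsPSolvable p H) (hP : pCore p H = ⊥)
    (hab : ∀ (q : ℕ) [Fact q.Prime], q ≠ p → ∀ Q : Subgroup H, IsPGroup q Q →
      ∀ a ∈ Q, ∀ b ∈ Q, a * b = b * a)
    (g : H) (k : ℕ) (hg1 : g ^ p ^ (k + 1) = 1) (hg2 : g ^ p ^ k ≠ 1) :
    ∃ A : Subgroup H, A ≠ ⊥ ∧ (Nat.card A).Coprime p ∧ (∀ a ∈ A, g * a * g⁻¹ ∈ A) ∧
      (∀ i, 0 < i → i < p ^ (k + 1) → ∀ a ∈ A, a * g ^ i = g ^ i * a → a = 1) := by
  have hp : p.Prime := Fact.out
  have hEn : (pPrimeCore p H).Normal := pPrimeCore_normal p H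
  have hEc : (Nat.card (pPrimeCore p H)).Coprime p :=
    Cfsg.Agent.Lib.Helper9.pPrimeCore_coprime p H
  obtain ⟨d, hd⟩ : ∃ d, d = g ^ p ^ k := ⟨_, rfl⟩
  have hd1 : d ≠ 1 := by rw [hd]; exact hg2
  have hdp : d ^ p = 1 := by rw [hd, ← pow_mul, ← pow_succ]; exact hg1
  have hgd : Commute g d := by rw [hd]; exact (Commute.refl g).pow_right _
  have hE1 : ∀ e ∈ pPrimeCore p H, ∀ m : ℕ, e ^ p ^ m = 1 → e = 1 := by
    intro e he m hem
    have h1 : e ^ Nat.card (pPrimeCore p H) = 1 := by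
      have h2 := pow_card_eq_one' (G := ↥(pPrimeCore p H)) (x := ⟨e, he⟩)
      exact congrArg Subtype.val h2
    exact eq_one_of_pow_of_coprime h1 hem (Nat.Coprime.pow_right m hEc)
  have hdC : d ∉ Subgroup.centralizer (pPrimeCore p H : Set H) := by
    intro h
    exact hd1 (hE1 d (Cfsg.Agent.S3754.dual_hall_higman hH hP h) 1 (by rw [pow_one]; exact hdp))
  have hex : ∃ (q : ℕ) (_ : Fact q.Prime) (S : Subgroup H), S ≤ pPrimeCore p H ∧ IsPGroup q S ∧
      (∀ s ∈ S, g * s * g⁻¹ ∈ S) ∧ ∃ s ∈ S, d * s ≠ s * d := by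
    by_contra hcon
    apply hdC
    have hJ : (Subgroup.centralizer ({d} : Set H)).subgroupOf (pPrimeCore p H) = ⊤ := by
      apply Cfsg.Agent.Lib.Helper9.eq_top_of_forall_exists_sylow_le
      intro q hq
      obtain ⟨S, hS⟩ := exists_invariant_sylow (pPrimeCore p H) hEc g (k + 1) hg1 q
      refine ⟨S, ?_⟩
      intro s hs
      rw [Subgroup.mem_subgroupOf, Subgroup.mem_centralizer_singleton_iff]
      by_contra hne
      apply hcon
      refine ⟨q, hq, (S : Subgroup ↥(pPrimeCore p H)).map (pPrimeCore p H).subtype,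
        ?_, ?_, ?_, ?_⟩
      · rintro _ ⟨t, -, rfl⟩; exact t.2
      · exact S.isPGroup'.map _
      · rintro _ ⟨t, ht, rfl⟩
        exact ⟨MulAut.conjNormal g t, hS t ht, MulAut.conjNormal_apply g t⟩
      · exact ⟨s, ⟨s, hs, rfl⟩, fun h => hne h.symm⟩
    rw [Subgroup.mem_centralizer_iff]
    intro e he
    have h1 : (⟨e, he⟩ : ↥(pPrimeCore p H)) ∈
        (Subgroup.centralizer ({d} : Set H)).subgroupOf (pPrimeCore p H) := by
      rw [hJ]; trivial
    rw [Subgroup.mem_subgroupOf, Subgroup.mem_centralizer_singleton_iff] at h1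
    exact h1
  obtain ⟨q, hq, S, hSE, hSq, hSg, s₀, hs₀, hds₀⟩ := hex
  have hqp : q ≠ p := by
    rintro rfl
    obtain ⟨m, hm⟩ := hSq ⟨s₀, hs₀⟩
    have hm' : s₀ ^ q ^ m = 1 := congrArg Subtype.val hm
    have h1 := hE1 s₀ (hSE hs₀) m hm'
    apply hds₀; rw [h1, mul_one, one_mul]
  have habS := hab q hqp S hSq
  have hSd : ∀ s ∈ S, d * s * d⁻¹ ∈ S := by
    have hpow : ∀ n : ℕ, ∀ s ∈ S, g ^ n * s * (g ^ n)⁻¹ ∈ S := by
      intro n
      induction n with
      | zero => intro s hs; simpa using hs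
      | succ n ih =>
        intro s hs
        have h1 := hSg _ (ih s hs)
        have e : g ^ (n + 1) * s * (g ^ (n + 1))⁻¹ = g * (g ^ n * s * (g ^ n)⁻¹) * g⁻¹ := by
          rw [pow_succ']; group
        rw [e]; exact h1
    intro s hs; rw [hd]; exact hpow _ s hs
  have hφmul : ∀ a b : ↥S, ((a * b : ↥S) : H)⁻¹ * (d * ((a * b : ↥S) : H) * d⁻¹)
      = ((a : H)⁻¹ * (d * (a : H) * d⁻¹)) * ((b : H)⁻¹ * (d * (b : H) * d⁻¹)) := by
    intro a b
    have hu : (a : H)⁻¹ * (d * (a : H) * d⁻¹) ∈ S := S.mul_mem (S.inv_mem a.2) (hSd _ a.2)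
    have hc := habS _ (S.inv_mem b.2) _ hu
    rw [Subgroup.coe_mul]
    calc ((a : H) * (b : H))⁻¹ * (d * ((a : H) * (b : H)) * d⁻¹)
        = ((b : H)⁻¹ * ((a : H)⁻¹ * (d * (a : H) * d⁻¹))) * (d * (b : H) * d⁻¹) := by group
      _ = (((a : H)⁻¹ * (d * (a : H) * d⁻¹)) * (b : H)⁻¹) * (d * (b : H) * d⁻¹) := by rw [hc]
      _ = _ := by group
  let φ : ↥S →* H := MonoidHom.mk' (fun a => (a : H)⁻¹ * (d * (a : H) * d⁻¹)) hφmul
  have hφ : ∀ a : ↥S, φ a = (a : H)⁻¹ * (d * (a : H) * d⁻¹) := fun a => rfl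
  have hφS : ∀ a : ↥S, φ a ∈ S := fun a => S.mul_mem (S.inv_mem a.2) (hSd _ a.2)
  have hAS : φ.range ≤ S := by rintro _ ⟨a, rfl⟩; exact hφS a
  refine ⟨φ.range, ?_, ?_, ?_, ?_⟩
  · intro h
    have h1 : φ ⟨s₀, hs₀⟩ ∈ φ.range := ⟨_, rfl⟩
    rw [h, Subgroup.mem_bot, hφ] at h1
    apply hds₀
    have h2 : d * s₀ * d⁻¹ = s₀ := by
      have h3 := congrArg (s₀ * ·) h1
      simpa [mul_assoc] using h3
    calc d * s₀ = (d * s₀ * d⁻¹) * d := by group
      _ = s₀ * d := by rw [h2]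
  · have h1 : IsPGroup q ↥φ.range := hSq.to_le hAS
    obtain ⟨m, hm⟩ := IsPGroup.iff_card.mp h1
    rw [hm]
    exact Nat.Coprime.pow_left m ((Nat.coprime_primes hq.out hp).mpr hqp)
  · rintro _ ⟨a, rfl⟩
    refine ⟨⟨g * (a : H) * g⁻¹, hSg _ a.2⟩, ?_⟩
    rw [hφ, hφ]
    show (g * (a : H) * g⁻¹)⁻¹ * (d * (g * (a : H) * g⁻¹) * d⁻¹)
      = g * ((a : H)⁻¹ * (d * (a : H) * d⁻¹)) * g⁻¹
    have e1 : d * g = g * d := hgd.symm.eq
    have e2 : g⁻¹ * d⁻¹ = d⁻¹ * g⁻¹ := by rw [← mul_inv_rev, ← mul_inv_rev, e1]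
    calc (g * (a : H) * g⁻¹)⁻¹ * (d * (g * (a : H) * g⁻¹) * d⁻¹)
        = g * (a : H)⁻¹ * g⁻¹ * ((d * g) * (a : H) * (g⁻¹ * d⁻¹)) := by group
      _ = g * (a : H)⁻¹ * g⁻¹ * ((g * d) * (a : H) * (d⁻¹ * g⁻¹)) := by rw [e1, e2]
      _ = _ := by group
  · intro i hi0 hiP a ha hai
    have had : Commute a d := by
      obtain ⟨j, u, hu, hiu⟩ := Nat.exists_eq_pow_mul_and_not_dvd hi0.ne' p hp.ne_one
      have hjk : j ≤ k := by
        by_contra hlt
        have h1 : p ^ (k + 1) ≤ p ^ j := Nat.pow_le_pow_right hp.pos (by omega)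
        have hu0 : 0 < u := Nat.pos_of_ne_zero (by rintro rfl; simp at hu)
        have h2 : p ^ j ≤ i := by rw [hiu]; exact Nat.le_mul_of_pos_right _ hu0
        omega
      have hx : (g ^ p ^ j) ^ p ^ (k + 1) = 1 := by
        rw [← pow_mul, mul_comm, pow_mul, hg1, one_pow]
      have hcop : u.Coprime (orderOf (g ^ p ^ j)) := by
        obtain ⟨t, -, ht⟩ := (Nat.dvd_prime_pow hp).mp (orderOf_dvd_of_pow_eq_one hx)
        rw [ht]
        exact Nat.Coprime.pow_right t ((Nat.Prime.coprime_iff_not_dvd hp).mpr hu).symm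
      obtain ⟨m, hm⟩ := exists_pow_eq_self_of_coprime hcop
      have hgi : g ^ i = (g ^ p ^ j) ^ u := by rw [hiu, pow_mul]
      have hdd : d = ((g ^ i) ^ m) ^ p ^ (k - j) := by
        rw [hgi, hm, hd, ← pow_mul, ← pow_add, Nat.add_sub_cancel' hjk]
      rw [hdd]
      exact ((show Commute a (g ^ i) from hai).pow_right m).pow_right _
    obtain ⟨s, rfl⟩ := ha
    have hφs := hφS s
    rw [hφ] at had hφs ⊢
    obtain ⟨a, ha_def⟩ : ∃ a, a = (s : H)⁻¹ * (d * (s : H) * d⁻¹) := ⟨_, rfl⟩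
    rw [← ha_def] at had hφs ⊢
    have hda : d * a * d⁻¹ = a := by rw [← had.eq]; group
    have hsa : d * (s : H) * d⁻¹ = (s : H) * a := by rw [ha_def]; group
    have hpow : ∀ j : ℕ, d ^ j * (s : H) * (d ^ j)⁻¹ = (s : H) * a ^ j := by
      intro j
      induction j with
      | zero => simp
      | succ j ih =>
        calc d ^ (j + 1) * (s : H) * (d ^ (j + 1))⁻¹
            = d * (d ^ j * (s : H) * (d ^ j)⁻¹) * d⁻¹ := by rw [pow_succ']; group
          _ = d * ((s : H) * a ^ j) * d⁻¹ := by rw [ih]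
          _ = (d * (s : H) * d⁻¹) * (d * a * d⁻¹) ^ j := by rw [conj_pow]; group
          _ = (s : H) * a ^ (j + 1) := by rw [hsa, hda, pow_succ', mul_assoc]
    have hap : a ^ p = 1 := by
      have h1 := hpow p
      rw [hdp] at h1
      simpa using h1.symm
    obtain ⟨m, hm⟩ := hSq ⟨a, hφs⟩
    have hm' : a ^ q ^ m = 1 := congrArg Subtype.val hm
    exact eq_one_of_pow_of_coprime hap hm'
      (Nat.Coprime.pow_right m ((Nat.coprime_primes hp hq.out).mpr (Ne.symm hqp)))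

/-- The induced automorphism of `P ⧸ Φ(P)`. -/
noncomputable def frQuot (P : Type*) [Group P] : MulAut P →* MulAut (P ⧸ frattini P) where
  toFun α := QuotientGroup.congr (frattini P) (frattini P) α
    (Subgroup.characteristic_iff_map_eq.mp (frattini_characteristic (G := P)) α)
  map_one' := by
    ext x
    induction x using QuotientGroup.induction_on with
    | H x => rfl
  map_mul' := by
    intro α β
    ext x
    induction x using QuotientGroup.induction_on with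
    | H x => rfl

theorem frQuot_mk (P : Type*) [Group P] (α : MulAut P) (x : P) :
    frQuot P α (QuotientGroup.mk x) = QuotientGroup.mk (α x) := rfl

/-- Key lemma (Hall–Higman Theorem B when the Sylow `q`-subgroups, `q ≠ p`, are abelian): if
`O_{p'}(Y) = 1` and `y` has order exactly `p^(k+1)` modulo `R = O_p(Y)`, then the norm map of `y`
does not vanish on `R`. -/
theorem key {Y : Type u} [Group Y] [Finite Y] {p : ℕ} [Fact p.Prime]
    (hY : IsPSolvable p Y) (hK : pPrimeCore p Y = ⊥)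
    (hab : ∀ (q : ℕ) [Fact q.Prime], q ≠ p → ∀ Q : Subgroup Y, IsPGroup q Q →
      ∀ a ∈ Q, ∀ b ∈ Q, a * b = b * a)
    (y : Y) (k : ℕ) (h1 : y ^ p ^ (k + 1) ∈ pCore p Y) (h2 : y ^ p ^ k ∉ pCore p Y) :
    ∃ r ∈ pCore p Y, (r * y) ^ p ^ (k + 1) ≠ y ^ p ^ (k + 1) := by
  have hp : p.Prime := Fact.out
  have hRp : IsPGroup p ↥(pCore p Y) := Cfsg.Agent.Lib.Helper9.pCore_isPGroup p Y
  have hCR := Cfsg.Agent.Lib.Helper12.PSolvable.hall_higman hY hK
  let ρ₀ : Y →* MulAut (↥(pCore p Y) ⧸ frattini ↥(pCore p Y)) :=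
    (frQuot ↥(pCore p Y)).comp MulAut.conjNormal
  have hρ₀ : ∀ (z : Y) (r : ↥(pCore p Y)),
      ρ₀ z (QuotientGroup.mk r) = QuotientGroup.mk (MulAut.conjNormal z r) := fun _ _ => rfl
  have hRker : ∀ s ∈ pCore p Y, ρ₀ s = 1 := by
    intro s hs
    ext v
    induction v using QuotientGroup.induction_on with
    | H r =>
      rw [hρ₀]
      show _ = (QuotientGroup.mk r : ↥(pCore p Y) ⧸ frattini ↥(pCore p Y))
      rw [QuotientGroup.eq]
      have h3 := Cfsg.Agent.S4218.comm_mem_frattini hRp (⟨s, hs⟩ : ↥(pCore p Y)) r⁻¹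
      have e : (MulAut.conjNormal s r)⁻¹ * r
          = (⟨s, hs⟩ : ↥(pCore p Y)) * r⁻¹ * (⟨s, hs⟩ : ↥(pCore p Y))⁻¹ * r⁻¹⁻¹ := by
        apply Subtype.ext
        simp only [Subgroup.coe_mul, Subgroup.coe_inv, MulAut.conjNormal_apply]
        group
      rw [e]; exact h3
  have hker : ∀ z : Y, ρ₀ z = 1 → z ∈ pCore p Y := by
    obtain ⟨B, hBn, hB⟩ := Cfsg.Agent.S4218.exists_frattiniKer ↥(pCore p Y)
    have hBp : IsPGroup p ↥B :=
      Cfsg.Agent.S4218.frattiniKer_isPGroup hRp B (fun α hα => (hB α).mp hα)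
    have hCn : (B.comap (MulAut.conjNormal : Y →* MulAut ↥(pCore p Y))).Normal := hBn.comap _
    have hCp : IsPGroup p ↥(B.comap (MulAut.conjNormal : Y →* MulAut ↥(pCore p Y))) := by
      rintro ⟨c, hc⟩
      obtain ⟨j, hj⟩ := hBp ⟨MulAut.conjNormal c, hc⟩
      have hj' : (MulAut.conjNormal (c ^ (p ^ j)) : MulAut ↥(pCore p Y)) = 1 := by
        rw [map_pow]; exact congrArg Subtype.val hj
      have hcent : c ^ (p ^ j) ∈ Subgroup.centralizer (pCore p Y : Set Y) := by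
        rw [Subgroup.mem_centralizer_iff]
        intro x hx
        have h4 : ((MulAut.conjNormal (c ^ (p ^ j)) : MulAut ↥(pCore p Y)) ⟨x, hx⟩ : Y) = x := by
          rw [hj']; rfl
        rw [MulAut.conjNormal_apply] at h4
        exact (mul_inv_eq_iff_eq_mul.mp h4).symm
      obtain ⟨i, hi⟩ := hRp ⟨c ^ (p ^ j), hCR hcent⟩
      refine ⟨j + i, Subtype.ext ?_⟩
      have hi' := congrArg Subtype.val hi
      simp only [Subgroup.coe_pow, Subgroup.coe_one] at hi' ⊢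
      rw [pow_add, pow_mul]; exact hi'
    have hCle := Cfsg.Agent.Lib.Helper9.le_pCore hCn hCp
    intro z hz
    apply hCle
    show MulAut.conjNormal z ∈ B
    rw [hB]
    intro x
    have h3 : ρ₀ z (QuotientGroup.mk x) = QuotientGroup.mk x := by rw [hz]; rfl
    rw [hρ₀] at h3
    have h4 : (QuotientGroup.mk (MulAut.conjNormal z x * x⁻¹) :
        ↥(pCore p Y) ⧸ frattini ↥(pCore p Y)) = 1 := by
      rw [QuotientGroup.mk_mul, h3, ← QuotientGroup.mk_mul, mul_inv_cancel]; rfl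
    exact (QuotientGroup.eq_one_iff _).mp h4
  let ρ : Y ⧸ pCore p Y →* MulAut (↥(pCore p Y) ⧸ frattini ↥(pCore p Y)) :=
    QuotientGroup.lift (pCore p Y) ρ₀ (fun s hs => hRker s hs)
  have hρ : ∀ z : Y, ρ (QuotientGroup.mk z) = ρ₀ z := fun _ => rfl
  have hρinj : Function.Injective ρ := by
    rw [injective_iff_map_eq_one]
    intro h
    induction h using QuotientGroup.induction_on with
    | H z =>
      intro hz
      rw [hρ] at hz
      exact (QuotientGroup.eq_one_iff z).mpr (hker z hz)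
  obtain ⟨g, hg⟩ : ∃ g : Y ⧸ pCore p Y, g = QuotientGroup.mk y := ⟨_, rfl⟩
  have hg1 : g ^ p ^ (k + 1) = 1 := by
    rw [hg, ← QuotientGroup.mk_pow]; exact (QuotientGroup.eq_one_iff _).mpr h1
  have hg2 : g ^ p ^ k ≠ 1 := by
    rw [hg, ← QuotientGroup.mk_pow]; intro h; exact h2 ((QuotientGroup.eq_one_iff _).mp h)
  have hH : IsPSolvable p (Y ⧸ pCore p Y) := Cfsg.Agent.S3744.isPSolvable_quotient hY _
  have hPH : pCore p (Y ⧸ pCore p Y) = ⊥ := Cfsg.Agent.Lib.Helper9.pCore_quotient_eq_bot p Y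
  have habH : ∀ (q : ℕ) [Fact q.Prime], q ≠ p → ∀ Q : Subgroup (Y ⧸ pCore p Y), IsPGroup q Q →
      ∀ a ∈ Q, ∀ b ∈ Q, a * b = b * a := fun q _ hqp => abel_quot _ (hab q hqp)
  obtain ⟨A, hA1, hAc, hAg, hAfrob⟩ := exists_frob hH hPH habH g k hg1 hg2
  have hVcomm : ∀ a b : ↥(pCore p Y) ⧸ frattini ↥(pCore p Y), a * b = b * a := by
    intro a b
    induction a using QuotientGroup.induction_on with
    | H a =>
      induction b using QuotientGroup.induction_on with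
      | H b =>
        rw [← QuotientGroup.mk_mul, ← QuotientGroup.mk_mul, QuotientGroup.eq]
        have h3 := Cfsg.Agent.S4218.comm_mem_frattini hRp b⁻¹ a⁻¹
        have e : (a * b)⁻¹ * (b * a) = b⁻¹ * a⁻¹ * b⁻¹⁻¹ * a⁻¹⁻¹ := by group
        rw [e]; exact h3
  have hVexp : ∀ v : ↥(pCore p Y) ⧸ frattini ↥(pCore p Y), v ^ p = 1 := by
    intro v
    induction v using QuotientGroup.induction_on with
    | H r =>
      rw [← QuotientGroup.mk_pow]
      exact (QuotientGroup.eq_one_iff _).mpr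
        (Cfsg.Agent.Lib.Helper20.ESpecial.pow_mem_frattini hRp r)
  obtain ⟨N, hN0, hN1⟩ : ∃ N : ℕ → (↥(pCore p Y) ⧸ frattini ↥(pCore p Y)) →
      (↥(pCore p Y) ⧸ frattini ↥(pCore p Y)),
      (∀ v, N 0 v = 1) ∧ (∀ n v, N (n + 1) v = N n v * ρ (g ^ n) v) :=
    ⟨fun n v => Nat.rec 1 (fun m acc => acc * ρ (g ^ m) v) n, fun _ => rfl, fun _ _ => rfl⟩
  have hh0 : ∀ i : ℕ, ∀ a ∈ A, g ^ i * a * (g ^ i)⁻¹ ∈ A := by
    intro i
    induction i with
    | zero => intro a ha; simpa using ha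
    | succ n ih =>
      intro a ha
      have h3 := hAg _ (ih a ha)
      have e : g ^ (n + 1) * a * (g ^ (n + 1))⁻¹ = g * (g ^ n * a * (g ^ n)⁻¹) * g⁻¹ := by
        rw [pow_succ']; group
      rw [e]; exact h3
  have hh1 : ∀ i, 0 < i → i < p ^ (k + 1) → ∀ a ∈ A, g ^ i * a * (g ^ i)⁻¹ ∈ A :=
    fun i _ _ => hh0 i
  have hh4 : ∀ v : ↥(pCore p Y) ⧸ frattini ↥(pCore p Y), v ^ Nat.card A = 1 → v = 1 :=
    fun v hv => eq_one_of_pow_of_coprime hv (hVexp v) hAc
  have hex : ∃ v, N (p ^ (k + 1)) v ≠ 1 := by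
    by_contra hcon
    push Not at hcon
    letI cV : CommGroup (↥(pCore p Y) ⧸ frattini ↥(pCore p Y)) :=
      { (inferInstance : Group (↥(pCore p Y) ⧸ frattini ↥(pCore p Y))) with mul_comm := hVcomm }
    have h5 : ∀ a ∈ A, ρ a = 1 :=
      @frob_norm (Y ⧸ pCore p Y) (↥(pCore p Y) ⧸ frattini ↥(pCore p Y)) _ cV ρ A _ g (p ^ (k + 1))
        (pow_pos hp.pos _) hh1 hAfrob hh4 N hN0 hN1 hcon
    apply hA1
    rw [eq_bot_iff]
    intro a ha
    rw [Subgroup.mem_bot]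
    exact hρinj ((h5 a ha).trans (map_one ρ).symm)
  obtain ⟨v, hv⟩ := hex
  obtain ⟨r, rfl⟩ := QuotientGroup.mk_surjective v
  obtain ⟨nr, hnr0, hnr1⟩ : ∃ nr : ℕ → ↥(pCore p Y),
      nr 0 = 1 ∧ ∀ n, nr (n + 1) = nr n * MulAut.conjNormal (y ^ n) r :=
    ⟨fun n => Nat.rec 1 (fun m acc => acc * MulAut.conjNormal (y ^ m) r) n, rfl, fun _ => rfl⟩
  have hf1 : ∀ n, (QuotientGroup.mk (nr n) : ↥(pCore p Y) ⧸ frattini ↥(pCore p Y))
      = N n (QuotientGroup.mk r) := by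
    intro n
    induction n with
    | zero => rw [hnr0, hN0]; rfl
    | succ n ih =>
      rw [hnr1, hN1, QuotientGroup.mk_mul, ih, hg, ← QuotientGroup.mk_pow, hρ, hρ₀]
  have hf2 : ∀ n, ((r : Y) * y) ^ n = (nr n : Y) * y ^ n := by
    intro n
    induction n with
    | zero => rw [hnr0]; simp
    | succ n ih =>
      rw [pow_succ, ih, hnr1, Subgroup.coe_mul, MulAut.conjNormal_apply, pow_succ]
      group
  refine ⟨r, r.2, ?_⟩
  intro h
  rw [hf2] at h
  have h6 : (nr (p ^ (k + 1)) : Y) = 1 := by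
    have h7 := congrArg (· * (y ^ p ^ (k + 1))⁻¹) h
    simpa using h7
  apply hv
  rw [← hf1]
  have h7 : nr (p ^ (k + 1)) = 1 := Subtype.ext h6
  rw [h7]; rfl

theorem main {p : ℕ} [Fact p.Prime] : ∀ (n : ℕ) (G : Type u) [Group G] [Finite G],
    IsPSolvable p G →
    (∀ (q : ℕ) [Fact q.Prime], q ≠ p → ∀ Q : Subgroup G, IsPGroup q Q →
      ∀ a ∈ Q, ∀ b ∈ Q, a * b = b * a) →
    (∀ x : G, (∃ j : ℕ, orderOf x = p ^ j) → x ^ p ^ n = 1) →
    (upperPSeries p G (2 * n + 1)).1 = ⊤ := by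
  have hp : p.Prime := Fact.out
  intro n
  induction n with
  | zero =>
    intro G _ _ hsol hab hexp
    have hcop : (Nat.card G).Coprime p := by
      rw [Nat.coprime_comm, Nat.Prime.coprime_iff_not_dvd hp]
      intro hdvd
      obtain ⟨x, hx⟩ := exists_prime_orderOf_dvd_card' p hdvd
      have h1 := hexp x ⟨1, by rw [hx, pow_one]⟩
      rw [pow_zero, pow_one] at h1
      rw [h1, orderOf_one] at hx
      exact hp.one_lt.ne hx
    show (upperPSeries p G 1).1 = ⊤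
    rw [Cfsg.Agent.S0635.ups_one, eq_top_iff]
    exact Cfsg.Agent.Lib.Helper9.le_pPrimeCore (inferInstance : (⊤ : Subgroup G).Normal)
      (by rw [Subgroup.card_top]; exact hcop)
  | succ n ih =>
    intro G _ _ hsol hab hexp
    obtain ⟨K, hK⟩ : ∃ K, K = (upperPSeries p G 2).1 := ⟨_, rfl⟩
    haveI hKn : K.Normal := by rw [hK]; infer_instance
    have hK' : K = pPrimePCore p G := by rw [hK, Cfsg.Agent.S0635.ups_two]
    haveI hK1n : (pPrimeCore p G).Normal := pPrimeCore_normal p G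
    have hsolK := Cfsg.Agent.S3744.isPSolvable_quotient hsol K
    have hsolY := Cfsg.Agent.S3744.isPSolvable_quotient hsol (pPrimeCore p G)
    have habK : ∀ (q : ℕ) [Fact q.Prime], q ≠ p → ∀ Q : Subgroup (G ⧸ K), IsPGroup q Q →
        ∀ a ∈ Q, ∀ b ∈ Q, a * b = b * a := fun q _ hqp => abel_quot _ (hab q hqp)
    have habY : ∀ (q : ℕ) [Fact q.Prime], q ≠ p → ∀ Q : Subgroup (G ⧸ pPrimeCore p G),
        IsPGroup q Q → ∀ a ∈ Q, ∀ b ∈ Q, a * b = b * a :=
      fun q _ hqp => abel_quot _ (hab q hqp)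
    have hexpK : ∀ x : G ⧸ K, (∃ j : ℕ, orderOf x = p ^ j) → x ^ p ^ n = 1 := by
      intro xb hxb
      obtain ⟨x, hx, rfl⟩ := Cfsg.Agent.S4601.exists_lift K xb hxb
      have hx1 := hexp x hx
      rw [← map_pow]
      apply (QuotientGroup.eq_one_iff _).mpr
      rw [hK']
      show QuotientGroup.mk' (pPrimeCore p G) (x ^ p ^ n) ∈ pCore p (G ⧸ pPrimeCore p G)
      by_contra hnot
      rw [map_pow] at hnot
      have hy1 : (QuotientGroup.mk' (pPrimeCore p G) x) ^ p ^ (n + 1)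
          ∈ pCore p (G ⧸ pPrimeCore p G) := by
        rw [← map_pow, hx1, map_one]; exact Subgroup.one_mem _
      obtain ⟨r, hr, hne⟩ := key hsolY
        (Cfsg.Agent.Lib.Helper9.pPrimeCore_quotient_eq_bot p G) habY _ n hy1 hnot
      rw [← map_pow (QuotientGroup.mk' (pPrimeCore p G)) x, hx1, map_one] at hne
      have hry : ∃ j : ℕ, orderOf (r * QuotientGroup.mk' (pPrimeCore p G) x) = p ^ j := by
        have hw : (r * QuotientGroup.mk' (pPrimeCore p G) x) ^ p ^ (n + 1)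
            ∈ pCore p (G ⧸ pPrimeCore p G) := by
          apply (QuotientGroup.eq_one_iff _).mp
          rw [QuotientGroup.mk_pow, QuotientGroup.mk_mul, (QuotientGroup.eq_one_iff r).mpr hr,
            one_mul, ← QuotientGroup.mk_pow]
          exact (QuotientGroup.eq_one_iff _).mpr hy1
        obtain ⟨m, hm⟩ := (Cfsg.Agent.Lib.Helper9.pCore_isPGroup p (G ⧸ pPrimeCore p G)) ⟨_, hw⟩
        have hm' : ((r * QuotientGroup.mk' (pPrimeCore p G) x) ^ p ^ (n + 1)) ^ p ^ m = 1 :=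
          congrArg Subtype.val hm
        rw [← pow_mul] at hm'
        obtain ⟨j, -, hj⟩ := (Nat.dvd_prime_pow hp).mp
          (((orderOf_dvd_of_pow_eq_one hm')).trans (dvd_of_eq (pow_add p (n + 1) m).symm))
        exact ⟨j, hj⟩
      obtain ⟨z, hz, hzr⟩ := Cfsg.Agent.S4601.exists_lift (pPrimeCore p G) _ hry
      have hz1 := hexp z hz
      apply hne
      rw [← hzr, ← map_pow, hz1, map_one]
    have h1 := ih (G ⧸ K) hsolK habK hexpK
    have h2 := Cfsg.Agent.S0635.ups_shift p K hK (2 * n + 1)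
    rw [h1] at h2
    rw [show 2 * (n + 1) + 1 = 2 + (2 * n + 1) by ring, h2, Subgroup.comap_top]

/-- Let G be a finite p-soluble group in which, for every prime q ≠ p, the Sylow q-subgroups are abelian. If the Sylow p-subgroups of G have exponent dividing p^n, then G has p-length at most n. -/
theorem result {G : Type*} [Group G] [Finite G] {p : ℕ} [Fact p.Prime] (hG : Cfsg.IsPSolvable p G) (hab : ∀ (q : ℕ) [Fact q.Prime], q ≠ p → ∀ Q : Sylow q G, IsMulCommutative (Q : Subgroup G)) (n : ℕ) (hexp : ∀ (P : Sylow p G), ∀ x ∈ (P : Subgroup G), x ^ p ^ n = 1) : Cfsg.PLengthLE p n G := by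
  apply main n G hG
  · intro q _ hqp Q hQ a ha b hb
    obtain ⟨S, hS⟩ := hQ.exists_le_sylow
    have h1 := (hab q hqp S).is_comm.comm ⟨a, hS ha⟩ ⟨b, hS hb⟩
    exact congrArg Subtype.val h1
  · rintro x ⟨j, hj⟩
    have hZ : IsPGroup p ↥(Subgroup.zpowers x) :=
      IsPGroup.of_card (by rw [Nat.card_zpowers, hj])
    obtain ⟨P, hP⟩ := hZ.exists_le_sylow
    exact hexp P x (hP (Subgroup.mem_zpowers x))

end Cfsg.Agent.S3783
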