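import Cfsg.Statements.S3749
import Mathlib
import Cfsg.Agent.Lib.Helper9.Cores
import Cfsg.Agent.Lib.Helper10.Coprime

set_option autoImplicit false
open Cfsg
open Pointwise

namespace Cfsg.Agent.S3749

theorem exists_fixed {G : Type*} [Group G] [Finite G] {p : ℕ} [Fact p.Prime] (P : Subgroup G)
    (hP : IsPGroup p P) (X : Set G) (hX : ∀ g ∈ P, ∀ x ∈ X, g * x * g⁻¹ ∈ X)
    (hcard : ¬ p ∣ Nat.card X) : ∃ x ∈ X, ∀ g ∈ P, g * x = x * g := by
  letI : MulAction P G := MulAction.compHom G ((MulAut.conj : G →* MulAut G).comp P.subtype)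
  let S : SubMulAction P G := ⟨X, fun c x hx => hX c c.2 x hx⟩
  have hc : ¬ p ∣ Nat.card S := hcard
  obtain ⟨x, hx⟩ := hP.nonempty_fixed_point_of_prime_not_dvd_card S hc
  refine ⟨x, x.2, fun g hg => ?_⟩
  have h1 := hx ⟨g, hg⟩
  have h2 : g * (x : G) * g⁻¹ = x := congrArg Subtype.val h1
  exact mul_inv_eq_iff_eq_mul.1 h2

theorem not_dvd_card {G : Type*} [Group G] [Finite G] {p : ℕ} [Fact p.Prime] (P N : Subgroup G)
    [hN : N.Normal] (hP : IsPGroup p P)
    (hC : ∀ n ∈ N, (∀ g ∈ P, g * n = n * g) → n = 1) : ¬ p ∣ Nat.card N := by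
  intro hdvd
  have hp : p.Prime := Fact.out
  have hX : ∀ g ∈ P, ∀ x ∈ ((N : Set G) \ {1}), g * x * g⁻¹ ∈ ((N : Set G) \ {1}) := by
    intro g _ x hx
    refine ⟨hN.conj_mem x hx.1 g, ?_⟩
    intro h
    apply hx.2
    have h1 : g * x * g⁻¹ = 1 := h
    have h2 : x = g⁻¹ * (g * x * g⁻¹) * g := by group
    rw [h2, h1]
    simp
  have hcard : ¬ p ∣ Nat.card ((N : Set G) \ {1} : Set G) := by
    have h1 : Nat.card ((N : Set G) \ {1} : Set G) = Nat.card N - 1 := by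
      rw [Nat.card_coe_set_eq, Set.ncard_diff_singleton_of_mem N.one_mem, ← Nat.card_coe_set_eq]
      rfl
    rw [h1]
    intro h2
    have h3 : 0 < Nat.card N := Nat.card_pos
    have h4 : p ∣ 1 := by
      have h5 : p ∣ (Nat.card N - 1) + 1 := by
        rw [Nat.sub_add_cancel h3]; exact hdvd
      exact (Nat.dvd_add_right h2).1 h5
    exact hp.one_lt.ne' (Nat.dvd_one.1 h4)
  obtain ⟨x, hx, hfix⟩ := exists_fixed P hP _ hX hcard
  exact hx.2 (hC x hx.1 hfix)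

theorem exists_inv_sylow {G : Type*} [Group G] [Finite G] {p q : ℕ} [Fact p.Prime] [Fact q.Prime]
    (P N : Subgroup G) [N.Normal] (hP : IsPGroup p P) (hpN : ¬ p ∣ Nat.card N) :
    ∃ Q : Sylow q N, ∀ g ∈ P, ∀ x ∈ (Q : Subgroup N).map N.subtype,
      g * x * g⁻¹ ∈ (Q : Subgroup N).map N.subtype := by
  letI : MulDistribMulAction P N :=
    MulDistribMulAction.compHom N ((MulAut.conjNormal (H := N)).comp P.subtype)
  have hnd : ¬ p ∣ Nat.card (Sylow q N) := by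
    intro h
    have Q : Sylow q N := default
    exact hpN (h.trans ((Sylow.card_dvd_index Q).trans (Subgroup.index_dvd_card _)))
  obtain ⟨Q, hQ⟩ := hP.nonempty_fixed_point_of_prime_not_dvd_card (Sylow q N) hnd
  refine ⟨Q, ?_⟩
  intro g hg x hx
  obtain ⟨y, hy, rfl⟩ := Subgroup.mem_map.1 hx
  have h1 : (⟨g, hg⟩ : P) • Q = Q := hQ ⟨g, hg⟩
  have h2 : (⟨g, hg⟩ : P) • y ∈ (((⟨g, hg⟩ : P) • Q : Sylow q N) : Subgroup N) := by
    rw [Sylow.pointwise_smul_def]
    exact Subgroup.smul_mem_pointwise_smul y _ _ hy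
  rw [h1] at h2
  exact Subgroup.mem_map.2 ⟨_, h2, rfl⟩

theorem unique_inv_sylow {G : Type*} [Group G] [Finite G] {p q : ℕ} [Fact p.Prime] [Fact q.Prime]
    (P N : Subgroup G) [hN : N.Normal] (hP : IsPGroup p P) (hpN : ¬ p ∣ Nat.card N)
    (hC : ∀ n ∈ N, (∀ g ∈ P, g * n = n * g) → n = 1)
    (Q₁ Q₂ : Sylow q N)
    (h1 : ∀ g ∈ P, ∀ x ∈ (Q₁ : Subgroup N).map N.subtype, g * x * g⁻¹ ∈ (Q₁ : Subgroup N).map N.subtype)
    (h2 : ∀ g ∈ P, ∀ x ∈ (Q₂ : Subgroup N).map N.subtype, g * x * g⁻¹ ∈ (Q₂ : Subgroup N).map N.subtype) :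
    Q₁ = Q₂ := by
  obtain ⟨n₀, hn₀⟩ := MulAction.exists_smul_eq N Q₁ Q₂
  have key : ∀ n : N, (∀ x : N, x ∈ Q₂ ↔ n⁻¹ * x * n ∈ Q₁) → n • Q₁ = Q₂ := by
    intro n hn
    apply Sylow.ext
    ext x
    rw [Sylow.coe_subgroup_smul, Subgroup.mem_pointwise_smul_iff_inv_smul_mem]
    simp only [MulAut.smul_def, MulAut.conj_inv_apply]
    exact (hn x).symm
  have key' : ∀ n : N, n • Q₁ = Q₂ → (∀ x : N, x ∈ Q₂ ↔ n⁻¹ * x * n ∈ Q₁) := by
    intro n hn x
    have h3 : x ∈ (Q₂ : Subgroup N) ↔ x ∈ ((n • Q₁ : Sylow q N) : Subgroup N) := by rw [hn]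
    rw [Sylow.coe_subgroup_smul, Subgroup.mem_pointwise_smul_iff_inv_smul_mem] at h3
    simp only [MulAut.smul_def, MulAut.conj_inv_apply] at h3
    exact h3
  have memQ : ∀ (Q : Sylow q N) (y : N), y ∈ Q ↔ (y : G) ∈ (Q : Subgroup N).map N.subtype := by
    intro Q y
    constructor
    · intro h
      exact Subgroup.mem_map.2 ⟨y, h, rfl⟩
    · intro h
      obtain ⟨z, hz, hzy⟩ := Subgroup.mem_map.1 h
      have hzy' : z = y := Subtype.ext hzy
      rw [← hzy']; exact hz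
  obtain ⟨X, hXdef⟩ : ∃ X : Set G, X = {n : G | ∃ hn : n ∈ N, (⟨n, hn⟩ : N) • Q₁ = Q₂} := ⟨_, rfl⟩
  have hinvQ : ∀ (Q : Sylow q N), (∀ g ∈ P, ∀ x ∈ (Q : Subgroup N).map N.subtype,
      g * x * g⁻¹ ∈ (Q : Subgroup N).map N.subtype) → ∀ g ∈ P, ∀ x : G,
      (x ∈ (Q : Subgroup N).map N.subtype ↔ g * x * g⁻¹ ∈ (Q : Subgroup N).map N.subtype) := by
    intro Q h g hg x
    refine ⟨h g hg x, fun hx => ?_⟩
    have := h g⁻¹ (P.inv_mem hg) _ hx
    have e : g⁻¹ * (g * x * g⁻¹) * g⁻¹⁻¹ = x := by group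
    rwa [e] at this
  have hX : ∀ g ∈ P, ∀ x ∈ X, g * x * g⁻¹ ∈ X := by
    intro g hg n hn
    rw [hXdef] at hn ⊢
    obtain ⟨hnN, hn⟩ := hn
    refine ⟨hN.conj_mem n hnN g, ?_⟩
    apply key
    intro x
    have k1 := key' _ hn
    have k1' : ∀ y : G, y ∈ N → (y ∈ (Q₂ : Subgroup N).map N.subtype ↔
        n⁻¹ * y * n ∈ (Q₁ : Subgroup N).map N.subtype) := by
      intro y hy
      have h3 := k1 ⟨y, hy⟩
      rw [memQ Q₂, memQ Q₁] at h3
      simpa only [Subgroup.coe_mul, Subgroup.coe_inv] using h3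
    rw [memQ Q₂ x, memQ Q₁]
    simp only [Subgroup.coe_mul, Subgroup.coe_inv]
    have hmem : g⁻¹ * (x : G) * g⁻¹⁻¹ ∈ N := hN.conj_mem _ x.2 _
    rw [hinvQ Q₂ h2 g⁻¹ (P.inv_mem hg) (x : G), k1' _ hmem, hinvQ Q₁ h1 g hg]
    have e6 : g * (n⁻¹ * (g⁻¹ * (x : G) * g⁻¹⁻¹) * n) * g⁻¹ =
        (g * n * g⁻¹)⁻¹ * (x : G) * (g * n * g⁻¹) := by group
    rw [e6]
  have hcard : ¬ p ∣ Nat.card X := by
    have hstab : Nat.card X = Nat.card (MulAction.stabilizer N Q₁) := by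
      symm
      refine Nat.card_congr (Equiv.ofBijective
        (fun s : MulAction.stabilizer N Q₁ => (⟨((n₀ * s : N) : G), by
          rw [hXdef]
          refine ⟨(n₀ * (s : N)).2, ?_⟩
          have hs : (s : N) • Q₁ = Q₁ := s.2
          change (n₀ * (s : N)) • Q₁ = Q₂
          rw [mul_smul, hs, hn₀]⟩ : X)) ⟨?_, ?_⟩)
      · intro s t hst
        have h3 : ((n₀ * s : N) : G) = ((n₀ * t : N) : G) := by
          have h5 := Subtype.ext_iff.1 hst
          exact h5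
        have h4 : n₀ * (s : N) = n₀ * (t : N) := Subtype.ext h3
        exact Subtype.ext (mul_left_cancel h4)
      · rintro ⟨x, hx⟩
        have hx' := hx
        rw [hXdef] at hx'
        obtain ⟨hxN, hx2⟩ := hx'
        have hs : n₀⁻¹ * (⟨x, hxN⟩ : N) ∈ MulAction.stabilizer N Q₁ := by
          rw [MulAction.mem_stabilizer_iff, mul_smul, hx2, ← hn₀, inv_smul_smul]
        refine ⟨⟨_, hs⟩, ?_⟩
        apply Subtype.ext
        change ((n₀ * (n₀⁻¹ * (⟨x, hxN⟩ : N)) : N) : G) = x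
        rw [mul_inv_cancel_left]
    rw [hstab]
    intro h
    exact hpN (h.trans (Subgroup.card_subgroup_dvd_card _))
  obtain ⟨x, hx, hfix⟩ := exists_fixed P hP X hX hcard
  rw [hXdef] at hx
  obtain ⟨hxN, hx2⟩ := hx
  have hx1 : x = 1 := hC x hxN hfix
  subst hx1
  have h3 : (⟨1, hxN⟩ : N) = 1 := rfl
  rw [h3, one_smul] at hx2
  exact hx2

theorem mem_conjSylow {G : Type*} [Group G] {q : ℕ} (N : Subgroup G) [N.Normal] (Q : Sylow q N)
    (m x : G) :
    x ∈ ((MulAut.conjNormal (H := N) m • Q : Sylow q N) : Subgroup N).map N.subtype ↔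
      m⁻¹ * x * m ∈ (Q : Subgroup N).map N.subtype := by
  rw [Sylow.pointwise_smul_def]
  constructor
  · intro h
    obtain ⟨y, hy, rfl⟩ := Subgroup.mem_map.1 h
    obtain ⟨s, hs, rfl⟩ := (Subgroup.mem_smul_pointwise_iff_exists _ _ _).1 hy
    refine Subgroup.mem_map.2 ⟨s, hs, ?_⟩
    rw [MulAut.smul_def]
    change (s : G) = m⁻¹ * ((MulAut.conjNormal m s : N) : G) * m
    rw [MulAut.conjNormal_apply]
    group
  · intro h
    obtain ⟨s, hs, hsx⟩ := Subgroup.mem_map.1 h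
    refine Subgroup.mem_map.2 ⟨MulAut.conjNormal (H := N) m • s, Subgroup.smul_mem_pointwise_smul s _ _ hs, ?_⟩
    rw [MulAut.smul_def]
    change ((MulAut.conjNormal m s : N) : G) = x
    rw [MulAut.conjNormal_apply]
    have e : (s : G) = m⁻¹ * x * m := hsx
    rw [e]
    group

theorem result {G : Type*} [Group G] [Finite G] (M : Subgroup G) (hM : M ≠ ⊤) (hprim : ∀ N : Subgroup G, N ≤ M → M ≤ Subgroup.normalizer (N : Set G) → N ≠ ⊥ → Subgroup.normalizer (N : Set G) = M) {p : ℕ} [Fact p.Prime] (hOp : Cfsg.pCore p ↥M ≠ ⊥) (N : Subgroup G) [N.Normal] (hMN : M ⊓ N = ⊥) : ¬ p ∣ Nat.card N ∧ (∀ q : ℕ, [Fact q.Prime] → ∃! Q : Sylow q ↥N, M ≤ Subgroup.normalizer ((Q : Subgroup ↥N).map N.subtype : Set G)) ∧ ((∃ q r : ℕ, q.Prime ∧ r.Prime ∧ q ≠ r ∧ q ∣ Nat.card N ∧ r ∣ Nat.card N) → ¬ IsCoatom M) := by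
  obtain ⟨P, hPdef⟩ : ∃ P : Subgroup G, P = (Cfsg.pCore p ↥M).map M.subtype := ⟨_, rfl⟩
  have hPM : P ≤ M := by
    rw [hPdef]; exact Subgroup.map_subtype_le _
  have hP1 : P ≠ ⊥ := by
    rw [hPdef]
    intro h
    exact hOp ((Subgroup.map_eq_bot_iff_of_injective _ (Subgroup.subtype_injective M)).1 h)
  have hPp : IsPGroup p P := by
    rw [hPdef]
    exact (Cfsg.Agent.Lib.Helper9.pCore_isPGroup p ↥M).map _
  haveI hchar : (Cfsg.pCore p ↥M).Characteristic :=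
    Cfsg.Agent.Lib.Helper9.pCore_characteristic p ↥M
  have hPconj : ∀ m ∈ M, ∀ x ∈ P, m * x * m⁻¹ ∈ P := by
    intro m hm x hx
    rw [hPdef] at hx ⊢
    obtain ⟨y, hy, rfl⟩ := Subgroup.mem_map.1 hx
    have hn : (Cfsg.pCore p ↥M).Normal := inferInstance
    exact Subgroup.mem_map.2 ⟨_, hn.conj_mem y hy ⟨m, hm⟩, rfl⟩
  have hMP : M ≤ Subgroup.normalizer (P : Set G) := by
    intro m hm
    exact Cfsg.Agent.Lib.Helper10.Coprime.mem_normalizer_of_conj_mem (hPconj m hm)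
  have hNP : Subgroup.normalizer (P : Set G) = M := hprim P hPM hMP hP1
  have hC : ∀ n ∈ N, (∀ g ∈ P, g * n = n * g) → n = 1 := by
    intro n hn hcomm
    have h1 : n ∈ Subgroup.normalizer (P : Set G) := by
      apply Cfsg.Agent.Lib.Helper10.Coprime.mem_normalizer_of_conj_mem
      intro s hs
      have h2 : n * s * n⁻¹ = s := by
        rw [← hcomm s hs]; group
      rw [h2]; exact hs
    rw [hNP] at h1
    have h3 : n ∈ M ⊓ N := Subgroup.mem_inf.2 ⟨h1, hn⟩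
    rw [hMN] at h3
    exact Subgroup.mem_bot.1 h3
  have hpN : ¬ p ∣ Nat.card N := not_dvd_card P N hPp hC
  have hsyl : ∀ q : ℕ, [Fact q.Prime] → ∃ Q : Sylow q ↥N,
      M ≤ Subgroup.normalizer ((Q : Subgroup ↥N).map N.subtype : Set G) ∧
      ∀ Q' : Sylow q ↥N, M ≤ Subgroup.normalizer ((Q' : Subgroup ↥N).map N.subtype : Set G) → Q' = Q := by
    intro q _
    obtain ⟨Q, hQ⟩ := exists_inv_sylow (q := q) P N hPp hpN
    have huniq : ∀ Q' : Sylow q ↥N, (∀ g ∈ P, ∀ x ∈ (Q' : Subgroup N).map N.subtype,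
        g * x * g⁻¹ ∈ (Q' : Subgroup N).map N.subtype) → Q' = Q :=
      fun Q' h => unique_inv_sylow P N hPp hpN hC Q' Q h hQ
    refine ⟨Q, ?_, ?_⟩
    · intro m hm
      have h1 : (MulAut.conjNormal (H := N) m • Q : Sylow q N) = Q := by
        apply huniq
        intro g hg x hx
        rw [mem_conjSylow] at hx ⊢
        have h2 : m⁻¹ * g * m ∈ P := by
          have := hPconj m⁻¹ (M.inv_mem hm) g hg
          rwa [inv_inv] at this
        have h3 := hQ _ h2 _ hx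
        have e : m⁻¹ * g * m * (m⁻¹ * x * m) * (m⁻¹ * g * m)⁻¹ = m⁻¹ * (g * x * g⁻¹) * m := by group
        rwa [e] at h3
      apply Cfsg.Agent.Lib.Helper10.Coprime.mem_normalizer_of_conj_mem
      intro s hs
      have h4 : m * s * m⁻¹ ∈ ((MulAut.conjNormal (H := N) m • Q : Sylow q N) : Subgroup N).map N.subtype := by
        rw [mem_conjSylow]
        have e : m⁻¹ * (m * s * m⁻¹) * m = s := by group
        rw [e]; exact hs
      rwa [h1] at h4
    · intro Q' hQ'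
      apply huniq
      intro g hg x hx
      have h1 := hQ' (hPM hg)
      exact (Subgroup.mem_normalizer_iff.1 h1 x).1 hx
  refine ⟨hpN, ?_, ?_⟩
  · intro q _
    obtain ⟨Q, hQ1, hQ2⟩ := hsyl q
    exact ⟨Q, hQ1, hQ2⟩
  · rintro ⟨q, r, hq, hr, hqr, hqN, hrN⟩ hco
    haveI : Fact q.Prime := ⟨hq⟩
    obtain ⟨Q, hQ1, -⟩ := hsyl q
    obtain ⟨Q', hQ'def⟩ : ∃ Q' : Subgroup G, Q' = (Q : Subgroup ↥N).map N.subtype := ⟨_, rfl⟩
    rw [← hQ'def] at hQ1
    have hQN : Q' ≤ N := by rw [hQ'def]; exact Subgroup.map_subtype_le _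
    have hcardQ : Nat.card Q' = q ^ (Nat.card N).factorization q := by
      rw [hQ'def, Subgroup.card_subtype, Sylow.card_eq_multiplicity]
    have hQ1' : Q' ≠ ⊥ := by
      intro h
      rw [h, Subgroup.card_bot] at hcardQ
      have hpos : 0 < (Nat.card N).factorization q :=
        hq.factorization_pos_of_dvd Nat.card_pos.ne' hqN
      have : 1 < q ^ (Nat.card N).factorization q := Nat.one_lt_pow hpos.ne' hq.one_lt
      omega
    have hQneN : Q' ≠ N := by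
      intro h
      rw [h] at hcardQ
      rw [hcardQ] at hrN
      exact hqr ((Nat.prime_dvd_prime_iff_eq hr hq).1 (hr.dvd_of_dvd_pow hrN)).symm
    have hlt : M < M ⊔ Q' := by
      refine lt_of_le_of_ne le_sup_left ?_
      intro h
      have h1 : Q' ≤ M := by rw [h]; exact le_sup_right
      have h2 : Q' ≤ M ⊓ N := le_inf h1 hQN
      rw [hMN] at h2
      exact hQ1' (le_bot_iff.1 h2)
    have htop : M ⊔ Q' = ⊤ := hco.2 _ hlt
    have hQnorm : Q'.Normal := by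
      have h1 : Subgroup.normalizer (Q' : Set G) = ⊤ := by
        rw [eq_top_iff, ← htop]
        exact sup_le hQ1 Subgroup.le_normalizer
      exact Subgroup.normalizer_eq_top_iff.1 h1
    have hc1 : Subgroup.IsComplement' M Q' := by
      apply Subgroup.isComplement'_of_disjoint_and_mul_eq_univ
      · rw [disjoint_iff, eq_bot_iff, ← hMN]
        exact inf_le_inf_left M hQN
      · rw [← Subgroup.mul_normal, htop]; rfl
    have hc2 : Subgroup.IsComplement' M N := by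
      apply Subgroup.isComplement'_of_disjoint_and_mul_eq_univ
      · rw [disjoint_iff, hMN]
      · rw [← Subgroup.mul_normal]
        have : M ⊔ N = ⊤ := by
          rw [eq_top_iff, ← htop]
          exact sup_le_sup_left hQN M
        rw [this]; rfl
    have h1 := hc1.card_mul_card
    have h2 := hc2.card_mul_card
    have h3 : Nat.card Q' = Nat.card N := by
      have hpos : 0 < Nat.card M := Nat.card_pos
      exact Nat.eq_of_mul_eq_mul_left hpos (h1.trans h2.symm)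
    exact hQneN (Subgroup.eq_of_le_of_card_ge hQN h3.ge)

end Cfsg.Agent.S3749
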