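import Cfsg.Statements.S3869
import Mathlib
import Cfsg.Agent.Lib.Helper20.IrrPrime
import Cfsg.Agent.Lib.Helper10.Coprime

set_option autoImplicit false
open Cfsg

namespace Cfsg.Agent.S3869

open Cfsg.Agent.Lib.Helper20.IrrPrime Cfsg.Agent.Lib.Helper10.Coprime

section

variable {G : Type*} [Group G] [Finite G] {p q : ℕ} [hp : Fact p.Prime]

theorem not_mem_of_pelem (hq : q.Prime) (hpq : q ≠ p) (A : Subgroup G)
    (hAq : ∀ a ∈ A, a ^ q = 1) (y : G) (hy1 : y ≠ 1) (k : ℕ) (hy : y ^ p ^ k = 1) : y ∉ A := by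
  intro hyA
  have h1 : orderOf y ∣ Nat.gcd (p ^ k) q :=
    Nat.dvd_gcd (orderOf_dvd_of_pow_eq_one hy) (orderOf_dvd_of_pow_eq_one (hAq y hyA))
  have h2 : Nat.Coprime (p ^ k) q :=
    Nat.Coprime.pow_left k ((Nat.coprime_primes hp.out hq).2 (Ne.symm hpq))
  rw [h2.gcd_eq_one, Nat.dvd_one, orderOf_eq_one_iff] at h1
  exact hy1 h1

theorem sup_eq_top (A : Subgroup G) (hidx : A.index = p) (y : G) (hyA : y ∉ A) :
    A ⊔ Subgroup.zpowers y = ⊤ := by
  have h1 := Subgroup.relIndex_mul_index (le_sup_left : A ≤ A ⊔ Subgroup.zpowers y)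
  rw [hidx] at h1
  have h2 : A.relIndex (A ⊔ Subgroup.zpowers y) ≠ 1 := by
    rw [Ne, Subgroup.relIndex_eq_one]
    intro h
    exact hyA (h (Subgroup.mem_sup_right (Subgroup.mem_zpowers y)))
  have h3 : A.relIndex (A ⊔ Subgroup.zpowers y) ∣ p := Dvd.intro _ h1
  rcases (Nat.dvd_prime hp.out).1 h3 with h4 | h4
  · exact absurd h4 h2
  · rw [h4] at h1
    have h5 : (A ⊔ Subgroup.zpowers y).index = 1 := by
      have := hp.out.pos
      exact Nat.eq_of_mul_eq_mul_left this (by rw [h1, mul_one])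
    exact Subgroup.index_eq_one.1 h5

theorem comm_of_centralizes (A : Subgroup G) (hAc : ∀ a ∈ A, ∀ b ∈ A, a * b = b * a) (y : G)
    (hsup : A ⊔ Subgroup.zpowers y = ⊤) (hy : ∀ a ∈ A, y * a * y⁻¹ = a) :
    ∀ g h : G, g * h = h * g := by
  have hya : ∀ a ∈ A, y * a = a * y := by
    intro a ha
    have := hy a ha
    calc y * a = (y * a * y⁻¹) * y := by group
      _ = a * y := by rw [this]
  have hcent : ∀ z : G, (∀ a ∈ A, a * z = z * a) → y * z = z * y → z ∈ Subgroup.center G := by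
    intro z h1 h2
    have h3 : A ⊔ Subgroup.zpowers y ≤ Subgroup.centralizer {z} := by
      refine sup_le ?_ ?_
      · intro a ha
        rw [Subgroup.mem_centralizer_singleton_iff]
        exact h1 a ha
      · rw [Subgroup.zpowers_le, Subgroup.mem_centralizer_singleton_iff]
        exact h2
    rw [hsup] at h3
    rw [Subgroup.mem_center_iff]
    intro g
    have := h3 (Subgroup.mem_top g)
    rw [Subgroup.mem_centralizer_singleton_iff] at this
    exact this
  have htop : (⊤ : Subgroup G) ≤ Subgroup.center G := by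
    rw [← hsup]
    refine sup_le ?_ ?_
    · intro a ha
      exact hcent a (fun b hb => hAc b hb a ha) (hya a ha)
    · rw [Subgroup.zpowers_le]
      exact hcent y (fun a ha => (hya a ha).symm) rfl
  intro g h
  have := htop (Subgroup.mem_top h)
  rw [Subgroup.mem_center_iff] at this
  exact this g

theorem normal_of_inv (A : Subgroup G) [hAn : A.Normal] (hAc : ∀ a ∈ A, ∀ b ∈ A, a * b = b * a)
    (y : G) (hsup : A ⊔ Subgroup.zpowers y = ⊤) (B : Subgroup G) (hBA : B ≤ A)
    (hB : ∀ b ∈ B, y * b * y⁻¹ ∈ B) : B.Normal := by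
  rw [← Subgroup.normalizer_eq_top_iff, eq_top_iff, ← hsup]
  refine sup_le ?_ ?_
  · intro a ha
    apply mem_normalizer_of_conj_mem
    intro b hb
    have : a * b * a⁻¹ = b := by
      rw [hAc a ha b (hBA hb)]; group
    rw [this]; exact hb
  · rw [Subgroup.zpowers_le]
    exact mem_normalizer_of_conj_mem hB

theorem isPGroup_of_card_dvd (H : Type*) [Group H] [Finite H] (h : Nat.card H ∣ p) :
    IsPGroup p H := by
  rcases (Nat.dvd_prime hp.out).1 h with h1 | h1
  · exact IsPGroup.of_card (n := 0) (by rw [h1, pow_zero])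
  · exact IsPGroup.of_card (n := 1) (by rw [h1, pow_one])

theorem isPClosed_of_isPGroup (H : Type*) [Group H] (h : IsPGroup p H) : IsPClosed p H := by
  intro P
  have : (⊤ : Subgroup H) = P := P.is_maximal' (h.to_subgroup ⊤) le_top
  rw [← this]
  infer_instance

end

theorem result {G : Type*} [Group G] [Finite G] {p q : ℕ} [Fact p.Prime] (hq : q.Prime) (hpq : q ≠ p)
    (hna : ¬ IsMulCommutative G) (A : Subgroup G) [A.Normal] (hA : Cfsg.IsElementaryAbelian q A) (hidx : A.index = p)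
    (hmin : ∀ B : Subgroup G, B.Normal → B ≤ A → B = ⊥ ∨ B = A) :
    Nat.card ↥A = q ^ orderOf (q : ZMod p) ∧ ¬ Cfsg.IsPClosed p G ∧ (∀ H : Subgroup G, H ≠ ⊤ → Cfsg.IsPClosed p ↥H) ∧
      ∀ (N : Subgroup G) [N.Normal], N ≠ ⊥ → Cfsg.IsPClosed p (G ⧸ N) := by
  classical
  haveI : Fact q.Prime := ⟨hq⟩
  have hp : p.Prime := Fact.out
  have hAc : ∀ a ∈ A, ∀ b ∈ A, a * b = b * a := by
    intro a ha b hb
    exact congrArg Subtype.val (hA.1.1.1 ⟨a, ha⟩ ⟨b, hb⟩)
  have hAq : ∀ a ∈ A, a ^ q = 1 := hA.2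
  have hAP : IsPGroup q A := by
    intro a
    refine ⟨1, Subtype.ext ?_⟩
    rw [pow_one]
    simpa using hAq a a.2
  have hS : ∀ y : G, y ≠ 1 → ∀ k : ℕ, y ^ p ^ k = 1 →
      A ⊔ Subgroup.zpowers y = ⊤ ∧ ∃ a ∈ A, y * a * y⁻¹ ≠ a := by
    intro y hy1 k hy
    have hyA := not_mem_of_pelem hq hpq A hAq y hy1 k hy
    have hsup := sup_eq_top A hidx y hyA
    refine ⟨hsup, ?_⟩
    by_contra hcon
    rw [not_exists] at hcon
    apply hna
    refine ⟨⟨comm_of_centralizes A hAc y hsup ?_⟩⟩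
    intro a ha
    have := hcon a
    rw [not_and, not_not] at this
    exact this ha
  have hT : ∀ N : Subgroup G, N.Normal → IsPGroup p N → N = ⊥ := by
    intro N hN hNp
    by_contra hne
    obtain ⟨y, hy1⟩ := (Subgroup.ne_bot_iff_exists_ne_one).1 hne
    have hy1' : (y : G) ≠ 1 := fun h => hy1 (Subtype.ext h)
    obtain ⟨k, hk⟩ := hNp y
    have hk' : (y : G) ^ p ^ k = 1 := by
      have := congrArg Subtype.val hk
      simpa using this
    obtain ⟨-, a, ha, hne'⟩ := hS y hy1' k hk'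
    apply hne'
    have h1 : (y : G) * a * (y : G)⁻¹ * a⁻¹ ∈ N ⊓ A := by
      refine ⟨?_, ?_⟩
      · have : (y : G) * a * (y : G)⁻¹ * a⁻¹ = (y : G) * (a * (y : G)⁻¹ * a⁻¹) := by group
        rw [this]
        exact N.mul_mem y.2 (hN.conj_mem _ (N.inv_mem y.2) a)
      · exact A.mul_mem (‹A.Normal›.conj_mem a ha _) (A.inv_mem ha)
    have h2 : N ⊓ A = ⊥ := (IsPGroup.disjoint_of_ne p q (Ne.symm hpq) N A hNp hAP).eq_bot
    rw [h2, Subgroup.mem_bot] at h1
    calc (y : G) * a * (y : G)⁻¹ = ((y : G) * a * (y : G)⁻¹ * a⁻¹) * a := by group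
      _ = a := by rw [h1, one_mul]
  have hpdvd : p ∣ Nat.card G := by
    rw [← hidx]; exact Subgroup.index_dvd_card A
  obtain ⟨x, hx⟩ := exists_prime_orderOf_dvd_card' p hpdvd
  have hx1 : x ≠ 1 := by
    rintro rfl
    rw [orderOf_one] at hx
    exact hp.one_lt.ne hx
  have hxp : x ^ p ^ 1 = 1 := by rw [pow_one, ← hx, pow_orderOf_eq_one]
  obtain ⟨hsupx, hxA⟩ := hS x hx1 1 hxp
  refine ⟨?_, ?_, ?_, ?_⟩
  · refine card_eq hq A hAc hAq x (by rwa [pow_one] at hxp) hxA ?_
    intro B hBA hB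
    exact hmin B (normal_of_inv A hAc x hsupx B hBA hB) hBA
  · intro hcl
    obtain P : Sylow p G := default
    have hPn := hcl P
    have hPbot := hT P hPn P.isPGroup'
    have hcard : Nat.card (P : Subgroup G) = 1 := by rw [hPbot]; exact Subgroup.card_bot
    have := P.card_eq_multiplicity
    rw [hcard] at this
    have h2 : p ^ 1 ∣ Nat.card G := by rw [pow_one]; exact hpdvd
    have h3 := (Nat.Prime.pow_dvd_iff_le_factorization hp (Nat.card_pos.ne')).1 h2
    have h4 : 1 < p ^ (Nat.card G).factorization p := Nat.one_lt_pow (by omega) hp.one_lt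
    omega
  · intro H hH P
    by_cases hPb : (P : Subgroup ↥H) = ⊥
    · rw [hPb]; infer_instance
    · obtain ⟨y, hy1⟩ := (Subgroup.ne_bot_iff_exists_ne_one).1 hPb
      have hy1' : ((y : ↥H) : G) ≠ 1 := fun h => hy1 (Subtype.ext (Subtype.ext h))
      obtain ⟨k, hk⟩ := P.isPGroup' y
      have hk' : ((y : ↥H) : G) ^ p ^ k = 1 := by
        have := congrArg (fun z : ↥(P : Subgroup ↥H) => ((z : ↥H) : G)) hk
        simpa using this
      obtain ⟨hsup, -⟩ := hS _ hy1' k hk'
      have hyH : ((y : ↥H) : G) ∈ H := (y : ↥H).2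
      have hBn : (H ⊓ A).Normal := by
        apply normal_of_inv A hAc _ hsup (H ⊓ A) inf_le_right
        intro b hb
        exact ⟨H.mul_mem (H.mul_mem hyH hb.1) (H.inv_mem hyH), ‹A.Normal›.conj_mem b hb.2 _⟩
      have hHA : H ⊓ A = ⊥ := by
        rcases hmin (H ⊓ A) hBn inf_le_right with h | h
        · exact h
        · exfalso
          apply hH
          rw [eq_top_iff, ← hsup]
          refine sup_le ?_ ?_
          · rw [← h]; exact inf_le_left
          · rw [Subgroup.zpowers_le]; exact hyH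
      have hcard : Nat.card ↥H ∣ p := by
        have h1 := Subgroup.relIndex_dvd_index_of_normal A H
        rw [← Subgroup.inf_relIndex_right, inf_comm, hHA, Subgroup.relIndex_bot_left, hidx] at h1
        exact h1
      exact isPClosed_of_isPGroup ↥H (isPGroup_of_card_dvd ↥H hcard) P
  · intro N hN hN1
    have hNA : (N ⊓ A).Normal := inferInstance
    rcases hmin (N ⊓ A) hNA inf_le_right with h | h
    · exfalso
      apply hN1
      apply hT N hN
      have hcard : Nat.card ↥N ∣ p := by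
        have h1 := Subgroup.relIndex_dvd_index_of_normal A N
        rw [← Subgroup.inf_relIndex_right, inf_comm, h, Subgroup.relIndex_bot_left, hidx] at h1
        exact h1
      exact isPGroup_of_card_dvd ↥N hcard
    · have hAN : A ≤ N := by rw [← h]; exact inf_le_left
      have hcard : Nat.card (G ⧸ N) ∣ p := by
        rw [← Subgroup.index_eq_card, ← hidx]
        exact Subgroup.index_dvd_of_le hAN
      exact isPClosed_of_isPGroup _ (isPGroup_of_card_dvd _ hcard)

end Cfsg.Agent.S3869
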