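import Mathlib
import Cfsg.Statements.S3982
import Cfsg.Agent.Lib.Helper21.Engel
import Cfsg.Agent.Lib.Helper21.Compl
import Cfsg.Agent.Lib.Helper10.SZ

set_option autoImplicit false
open Cfsg

namespace Cfsg.Agent.S3982

open Cfsg.Agent.Lib.Helper21.Compl
open Cfsg.Agent.Lib.Helper21.Engel (mem_normalizer_of_conj_le)

/-- `|AB|` divides `|A||B|` when `B` normalizes `A`. -/
theorem card_sup_dvd_of_le_normalizer {G : Type*} [Group G] [Finite G] (A B : Subgroup G)
    (h : B ≤ Subgroup.normalizer (A : Set G)) :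
    Nat.card (A ⊔ B : Subgroup G) ∣ Nat.card A * Nat.card B := by
  obtain ⟨N, hN⟩ : ∃ N : Subgroup G, N = Subgroup.normalizer (A : Set G) := ⟨_, rfl⟩
  have hA : A ≤ N := hN ▸ Subgroup.le_normalizer
  have hB : B ≤ N := hN ▸ h
  have hnorm : (A.subgroupOf N).Normal := by
    subst hN
    exact Subgroup.normal_in_normalizer
  have h1 := Cfsg.Agent.Lib.Helper10.SZ.card_sup_dvd' (B.subgroupOf N) (A.subgroupOf N)
  rw [← Subgroup.subgroupOf_sup hB hA,
    Nat.card_congr (Subgroup.subgroupOfEquivOfLe (sup_le hB hA)).toEquiv,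
    Nat.card_congr (Subgroup.subgroupOfEquivOfLe hB).toEquiv,
    Nat.card_congr (Subgroup.subgroupOfEquivOfLe hA).toEquiv] at h1
  rw [sup_comm, mul_comm]
  exact h1

/-- If a group containing an involution has a normal subgroup `L` of odd order, then the
normalizer of each Sylow subgroup of `L` has even order (Frattini). -/
theorem even_card_normalizer_sylow {M : Type*} [Group M] [Finite M] (p : ℕ) [Fact p.Prime]
    (L : Subgroup M) [L.Normal] (hodd : Odd (Nat.card L)) (y : M) (hy : orderOf y = 2)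
    (P : Sylow p L) :
    Even (Nat.card (Subgroup.normalizer (((P : Subgroup L).map L.subtype : Subgroup M) : Set M))) := by
  by_contra hne
  rw [Nat.not_even_iff_odd] at hne
  have hfr := Sylow.normalizer_sup_eq_top P
  have h1 : Nat.card (⊤ : Subgroup M) ∣
      Nat.card (Subgroup.normalizer (((P : Subgroup L).map L.subtype : Subgroup M) : Set M)) *
        Nat.card L := by
    rw [← hfr]
    exact Cfsg.Agent.Lib.Helper10.SZ.card_sup_dvd' _ L
  rw [Subgroup.card_top] at h1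
  have h2 : Odd (Nat.card M) := (hne.mul hodd).of_dvd_nat h1
  have h3 : 2 ∣ Nat.card M := hy ▸ orderOf_dvd_natCard y
  exact (Nat.not_even_iff_odd.mpr h2) (even_iff_two_dvd.mpr h3)

/-- An involution normalizing `R` and fixing no non-identity element of `R` inverts `R`. -/
theorem inverts_of_fixed_point_free {G : Type*} [Group G] [Finite G] (R : Subgroup G) (y : G)
    (hyy : y * y = 1) (hyR : y ∈ Subgroup.normalizer (R : Set G))
    (hfpf : ∀ r ∈ R, y * r = r * y → r = 1) : ∀ r ∈ R, y * r * y⁻¹ = r⁻¹ := by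
  let φ : R → R := fun r => ⟨r.1⁻¹ * (y * r.1 * y⁻¹),
    R.mul_mem (R.inv_mem r.2) ((Subgroup.mem_set_normalizer_iff.mp hyR r.1).mp r.2)⟩
  have hinj : Function.Injective φ := by
    intro r s hrs
    have h1 : r.1⁻¹ * (y * r.1 * y⁻¹) = s.1⁻¹ * (y * s.1 * y⁻¹) := congrArg Subtype.val hrs
    have h2 : y * (s.1 * r.1⁻¹) = (s.1 * r.1⁻¹) * y := by
      calc y * (s.1 * r.1⁻¹) = s.1 * (s.1⁻¹ * (y * s.1 * y⁻¹)) * y * r.1⁻¹ := by group
        _ = s.1 * (r.1⁻¹ * (y * r.1 * y⁻¹)) * y * r.1⁻¹ := by rw [h1]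
        _ = (s.1 * r.1⁻¹) * y := by group
    have h3 := hfpf _ (R.mul_mem s.2 (R.inv_mem r.2)) h2
    rw [mul_inv_eq_one] at h3
    exact Subtype.ext h3.symm
  have hsurj := Finite.surjective_of_injective hinj
  intro s hs
  obtain ⟨r, hr⟩ := hsurj ⟨s, hs⟩
  have h1 : s = r.1⁻¹ * (y * r.1 * y⁻¹) := (congrArg Subtype.val hr).symm
  rw [h1]
  have e1 : y * (r.1⁻¹ * (y * r.1 * y⁻¹)) * y⁻¹ =
      y * r.1⁻¹ * (y * y) * y⁻¹ * r.1 * (y * y)⁻¹ := by group
  rw [e1, hyy]
  group

theorem key {G : Type*} [Group G] [Finite G] (p : ℕ) [Fact p.Prime] (hp2 : p ≠ 2)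
    (hC : ∀ g : G, g ≠ 1 → (∃ k : ℕ, orderOf g = p ^ k) →
      Odd (Nat.card ↥(Subgroup.centralizer ({g} : Set G))))
    (R : Subgroup G) (hR : IsPGroup p R) (hR1 : R ≠ ⊥)
    (hev : Even (Nat.card (Subgroup.normalizer (R : Set G))))
    (n : ℕ) (hn : Nat.card R = p ^ n) (hdvd : p ^ (n + 1) ∣ Nat.card G) :
    ∃ T : Subgroup G, IsPGroup p T ∧ Even (Nat.card (Subgroup.normalizer (T : Set G))) ∧
      Nat.card R < Nat.card T := by
  have hp : p.Prime := Fact.out
  have hpodd : Odd p := hp.odd_of_ne_two hp2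
  have : Fact (Nat.Prime 2) := ⟨Nat.prime_two⟩
  -- an involution normalizing R
  obtain ⟨y', hy'⟩ := exists_prime_orderOf_dvd_card' 2 (even_iff_two_dvd.mp hev)
  obtain ⟨y, hy⟩ : ∃ y : G, y = (y' : G) := ⟨_, rfl⟩
  have hyN : y ∈ Subgroup.normalizer (R : Set G) := hy ▸ y'.2
  have hyord : orderOf y = 2 := by rw [hy, Subgroup.orderOf_coe, hy']
  have hyy : y * y = 1 := by
    rw [← pow_two, ← hyord]
    exact pow_orderOf_eq_one y
  have hyinv : y⁻¹ = y := inv_eq_of_mul_eq_one_right hyy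
  obtain ⟨C, hCdef⟩ : ∃ C : Subgroup G, C = Subgroup.centralizer (R : Set G) := ⟨_, rfl⟩
  have hpel : ∀ r ∈ R, ∃ k : ℕ, orderOf r = p ^ k := by
    intro r hr
    obtain ⟨k, hk⟩ := (IsPGroup.iff_orderOf.mp hR) ⟨r, hr⟩
    exact ⟨k, by rw [← hk, Subgroup.orderOf_mk]⟩
  have hCodd : Odd (Nat.card C) := by
    obtain ⟨r₀, hr₀1⟩ := (Subgroup.ne_bot_iff_exists_ne_one.mp hR1)
    have hr₀1' : (r₀ : G) ≠ 1 := fun h => hr₀1 (Subtype.ext h)
    have hle : C ≤ Subgroup.centralizer ({(r₀ : G)} : Set G) := by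
      rw [hCdef]
      exact Subgroup.centralizer_le (Set.singleton_subset_iff.mpr r₀.2)
    exact (hC r₀ hr₀1' (hpel r₀ r₀.2)).of_dvd_nat (Subgroup.card_dvd_of_le hle)
  have hfpf : ∀ r ∈ R, y * r = r * y → r = 1 := by
    intro r hr hyr
    by_contra hr1
    have hodd := hC r hr1 (hpel r hr)
    have hyC : y ∈ Subgroup.centralizer ({r} : Set G) :=
      Subgroup.mem_centralizer_singleton_iff.mpr hyr
    have h3 := orderOf_dvd_natCard (⟨y, hyC⟩ : Subgroup.centralizer ({r} : Set G))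
    rw [Subgroup.orderOf_mk, hyord] at h3
    exact (Nat.not_even_iff_odd.mpr hodd) (even_iff_two_dvd.mpr h3)
  have hinv := inverts_of_fixed_point_free R y hyy hyN hfpf
  have hinv' : ∀ r ∈ R, y⁻¹ * r * y = r⁻¹ := by
    intro r hr
    have h3 := hinv r hr
    rw [hyinv] at h3 ⊢
    exact h3
  have hconjR : ∀ t ∈ Subgroup.normalizer (R : Set G), ∀ r ∈ R, t⁻¹ * r * t ∈ R := by
    intro t ht r hr
    have h3 := (Subgroup.mem_set_normalizer_iff.mp (Subgroup.inv_mem _ ht) r).mp hr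
    rwa [inv_inv] at h3
  have hNC : ∀ t ∈ Subgroup.normalizer (R : Set G), ∀ c ∈ C, t * c * t⁻¹ ∈ C := by
    intro t ht c hc
    rw [hCdef] at hc ⊢
    rw [Subgroup.mem_centralizer_iff] at hc ⊢
    intro r hr
    have h3 := hc _ (hconjR t ht r hr)
    calc r * (t * c * t⁻¹) = t * ((t⁻¹ * r * t) * c) * t⁻¹ := by group
      _ = t * (c * (t⁻¹ * r * t)) * t⁻¹ := by rw [h3]
      _ = t * c * t⁻¹ * r := by group
  have hcomm : ∀ t ∈ Subgroup.normalizer (R : Set G), t * y * t⁻¹ * y⁻¹ ∈ C := by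
    intro t ht
    rw [hCdef, Subgroup.mem_centralizer_iff]
    intro r hr
    have hr1 : t⁻¹ * r * t ∈ R := hconjR t ht r hr
    have e1 : y⁻¹ * (t⁻¹ * r * t) * y = (t⁻¹ * r * t)⁻¹ := hinv' _ hr1
    have e2 : y * r⁻¹ * y⁻¹ = r := by
      have h3 := hinv r⁻¹ (R.inv_mem hr)
      rwa [inv_inv] at h3
    have e3 : (t * y * t⁻¹ * y⁻¹)⁻¹ * r * (t * y * t⁻¹ * y⁻¹) = r := by
      calc (t * y * t⁻¹ * y⁻¹)⁻¹ * r * (t * y * t⁻¹ * y⁻¹)
          = y * (t * (y⁻¹ * (t⁻¹ * r * t) * y) * t⁻¹) * y⁻¹ := by group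
        _ = y * (t * (t⁻¹ * r * t)⁻¹ * t⁻¹) * y⁻¹ := by rw [e1]
        _ = y * r⁻¹ * y⁻¹ := by group
        _ = r := e2
    calc r * (t * y * t⁻¹ * y⁻¹)
        = (t * y * t⁻¹ * y⁻¹) * ((t * y * t⁻¹ * y⁻¹)⁻¹ * r * (t * y * t⁻¹ * y⁻¹)) := by group
      _ = (t * y * t⁻¹ * y⁻¹) * r := by rw [e3]
  -- a larger p-subgroup normalizing R
  obtain ⟨K, hKcard, hRK⟩ := Sylow.exists_subgroup_card_pow_succ hdvd hn
  have hKN : K ≤ Subgroup.normalizer (R : Set G) := by
    have hidx : (R.subgroupOf K).index = (Nat.card K).minFac := by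
      have h3 : Nat.card R * R.relIndex K = Nat.card K :=
        Cfsg.Agent.Lib.Helper10.SZ.card_mul_relIndex' hRK
      rw [hn, hKcard, pow_succ] at h3
      have h4 : R.relIndex K = p := Nat.eq_of_mul_eq_mul_left (pow_pos hp.pos n) h3
      rw [hKcard, Nat.Prime.pow_minFac hp (Nat.succ_ne_zero n)]
      exact h4
    have hnormal := Subgroup.normal_of_index_eq_minFac_card hidx
    exact Subgroup.le_normalizer_of_normal_subgroupOf hRK
  obtain ⟨L, hLdef⟩ : ∃ L : Subgroup G, L = C ⊔ K := ⟨_, rfl⟩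
  have hKNC : K ≤ Subgroup.normalizer (C : Set G) := by
    intro t ht
    apply mem_normalizer_of_conj_le
    intro c hc
    exact hNC t (hKN ht) c hc
  have hLodd : Odd (Nat.card L) := by
    rw [hLdef]
    have h3 := card_sup_dvd_of_le_normalizer C K hKNC
    have hKodd : Odd (Nat.card K) := by
      rw [hKcard]
      exact hpodd.pow
    exact (hCodd.mul hKodd).of_dvd_nat h3
  have hyL : y ∈ Subgroup.normalizer (L : Set G) := by
    have hmap : L.map (MulAut.conj y).toMonoidHom ≤ L := by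
      rw [hLdef, Subgroup.map_sup]
      apply sup_le
      · rintro _ ⟨c, hc, rfl⟩
        exact Subgroup.mem_sup_left (hNC y hyN c hc)
      · rintro _ ⟨t, ht, rfl⟩
        have h3 : y * t * y⁻¹ = (t * y * t⁻¹ * y⁻¹)⁻¹ * t := by group
        show y * t * y⁻¹ ∈ C ⊔ K
        rw [h3]
        exact Subgroup.mul_mem _ (Subgroup.mem_sup_left (C.inv_mem (hcomm t (hKN ht))))
          (Subgroup.mem_sup_right ht)
    apply mem_normalizer_of_conj_le
    intro d hd
    exact hmap (Subgroup.mem_map_of_mem (MulAut.conj y).toMonoidHom hd)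
  -- Frattini inside the normalizer of L
  obtain ⟨M, hM⟩ : ∃ M : Subgroup G, M = Subgroup.normalizer (L : Set G) := ⟨_, rfl⟩
  have hLM : L ≤ M := hM ▸ Subgroup.le_normalizer
  have hnorm : (L.subgroupOf M).Normal := by
    subst hM
    exact Subgroup.normal_in_normalizer
  have hcardL' : Nat.card (L.subgroupOf M) = Nat.card L :=
    Nat.card_congr (Subgroup.subgroupOfEquivOfLe hLM).toEquiv
  have hodd' : Odd (Nat.card (L.subgroupOf M)) := by
    rw [hcardL']
    exact hLodd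
  have hyM : orderOf (⟨y, hM ▸ hyL⟩ : M) = 2 := by
    rw [Subgroup.orderOf_mk]
    exact hyord
  obtain ⟨P₀⟩ : Nonempty (Sylow p (L.subgroupOf M)) := inferInstance
  have hevP := even_card_normalizer_sylow p (L.subgroupOf M) hodd' ⟨y, hM ▸ hyL⟩ hyM P₀
  obtain ⟨y₁', hy₁'⟩ := exists_prime_orderOf_dvd_card' 2 (even_iff_two_dvd.mp hevP)
  refine ⟨((P₀ : Subgroup (L.subgroupOf M)).map (L.subgroupOf M).subtype).map M.subtype,
    ?_, ?_, ?_⟩
  · exact (P₀.isPGroup'.map _).map _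
  · have hmem : ((y₁' : M) : G) ∈ Subgroup.normalizer
        ((((P₀ : Subgroup (L.subgroupOf M)).map (L.subgroupOf M).subtype).map M.subtype :
          Subgroup G) : Set G) :=
      Subgroup.le_normalizer_map M.subtype (Subgroup.mem_map_of_mem M.subtype y₁'.2)
    have hord : orderOf (((y₁' : M) : G)) = 2 := by
      rw [Subgroup.orderOf_coe, Subgroup.orderOf_coe, hy₁']
    rw [even_iff_two_dvd]
    have h3 := orderOf_dvd_natCard (⟨_, hmem⟩ : Subgroup.normalizer
      ((((P₀ : Subgroup (L.subgroupOf M)).map (L.subgroupOf M).subtype).map M.subtype :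
          Subgroup G) : Set G))
    rw [Subgroup.orderOf_mk, hord] at h3
    exact h3
  · rw [Subgroup.card_map_of_injective M.subtype_injective,
      Subgroup.card_map_of_injective (Subgroup.subtype_injective _), P₀.card_eq_multiplicity,
      hcardL', hn]
    apply Nat.pow_lt_pow_right hp.one_lt
    have h3 : p ^ (n + 1) ∣ Nat.card L := by
      rw [← hKcard, hLdef]
      exact Subgroup.card_dvd_of_le le_sup_right
    have h4 := (hp.pow_dvd_iff_le_factorization Nat.card_pos.ne').mp h3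
    omega

/-- Let p be an odd prime and G a finite group of even order divisible by p in which the centralizer of every non-identity p-element has odd order. If some nontrivial p-subgroup of G has a normalizer of even order, then the normalizer of every Sylow p-subgroup of G has even order. -/
theorem result {G : Type*} [Group G] [Finite G] (p : ℕ) [Fact p.Prime] (hp2 : p ≠ 2) (hpG : p ∣ Nat.card G) (h2G : 2 ∣ Nat.card G) (hC : ∀ g : G, g ≠ 1 → (∃ k : ℕ, orderOf g = p ^ k) → Odd (Nat.card ↥(Subgroup.centralizer ({g} : Set G)))) (Q : Subgroup G) (hQ : IsPGroup p ↥Q) (hQ1 : Q ≠ ⊥) (hev : Even (Nat.card ↥(Subgroup.normalizer (Q : Set G)))) (P : Sylow p G) : Even (Nat.card ↥(Subgroup.normalizer ((P : Subgroup G) : Set G))) := by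
  have hp : p.Prime := Fact.out
  have hne : Nonempty {T : Subgroup G // IsPGroup p T ∧ T ≠ ⊥ ∧
      Even (Nat.card (Subgroup.normalizer (T : Set G)))} := ⟨⟨Q, hQ, hQ1, hev⟩⟩
  obtain ⟨⟨R, hR, hR1, hRev⟩, hmax⟩ := Finite.exists_max
    (fun T : {T : Subgroup G // IsPGroup p T ∧ T ≠ ⊥ ∧
      Even (Nat.card (Subgroup.normalizer (T : Set G)))} => Nat.card (T.1))
  obtain ⟨n, hn⟩ := IsPGroup.iff_card.mp hR
  have hnfac : ¬ p ^ (n + 1) ∣ Nat.card G := by
    intro hdvd
    obtain ⟨T, hT, hTev, hlt⟩ := key p hp2 hC R hR hR1 hRev n hn hdvd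
    have hT1 : T ≠ ⊥ := by
      rintro rfl
      rw [Subgroup.card_bot] at hlt
      have h1 : 0 < Nat.card R := Nat.card_pos
      omega
    have h2 := hmax ⟨T, hT, hT1, hTev⟩
    exact absurd hlt (not_lt.mpr h2)
  have hcardR : Nat.card R = p ^ (Nat.card G).factorization p := by
    rw [hn]
    congr 1
    have h1 : n ≤ (Nat.card G).factorization p :=
      (hp.pow_dvd_iff_le_factorization Nat.card_pos.ne').mp
        (hn ▸ Subgroup.card_subgroup_dvd_card R)
    have h2 : ¬ (n + 1 ≤ (Nat.card G).factorization p) := fun h =>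
      hnfac ((hp.pow_dvd_iff_le_factorization Nat.card_pos.ne').mpr h)
    omega
  obtain ⟨c, hc⟩ := MulAction.exists_smul_eq G (Sylow.ofCard R hcardR) P
  have : Fact (Nat.Prime 2) := ⟨Nat.prime_two⟩
  obtain ⟨y', hy'⟩ := exists_prime_orderOf_dvd_card' 2 (even_iff_two_dvd.mp hRev)
  have hmem : c * (y' : G) * c⁻¹ ∈ Subgroup.normalizer ((P : Subgroup G) : Set G) := by
    rw [← hc]
    apply mem_normalizer_of_conj_le
    intro d hd
    rw [Sylow.coe_subgroup_smul, mem_conj_smul] at hd ⊢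
    have h1 : c⁻¹ * (c * (y' : G) * c⁻¹ * d * (c * (y' : G) * c⁻¹)⁻¹) * c =
        (y' : G) * (c⁻¹ * d * c) * (y' : G)⁻¹ := by group
    rw [h1]
    exact (Subgroup.mem_set_normalizer_iff.mp y'.2 _).mp hd
  have hord : orderOf (c * (y' : G) * c⁻¹) = 2 := by
    have h1 : orderOf (MulAut.conj c (y' : G)) = orderOf (y' : G) :=
      MulEquiv.orderOf_eq (MulAut.conj c) _
    rw [MulAut.conj_apply] at h1
    rw [h1, Subgroup.orderOf_coe, hy']
  rw [even_iff_two_dvd]
  have h3 := orderOf_dvd_natCard (⟨_, hmem⟩ : Subgroup.normalizer ((P : Subgroup G) : Set G))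
  rw [Subgroup.orderOf_mk, hord] at h3
  exact h3

end Cfsg.Agent.S3982
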