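import Mathlib
import Cfsg.Statements.S4269

set_option autoImplicit false
open Cfsg
open scoped commutatorElement

namespace Cfsg.Agent.S4269

universe u

variable {G : Type u} [Group G]

theorem mem_map_conj (H : Subgroup G) (g x : G) :
    x ∈ H.map (MulAut.conj g).toMonoidHom ↔ g⁻¹ * x * g ∈ H := by
  constructor
  · rintro ⟨y, hy, rfl⟩
    show g⁻¹ * (g * y * g⁻¹) * g ∈ H
    have e : g⁻¹ * (g * y * g⁻¹) * g = y := by group
    rw [e]; exact hy
  · intro h
    refine ⟨g⁻¹ * x * g, h, ?_⟩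
    show g * (g⁻¹ * x * g) * g⁻¹ = x
    group

theorem map_conj_mul (H : Subgroup G) (a b : G) :
    H.map (MulAut.conj (a * b)).toMonoidHom =
      (H.map (MulAut.conj b).toMonoidHom).map (MulAut.conj a).toMonoidHom := by
  ext x
  rw [mem_map_conj, mem_map_conj, mem_map_conj]
  have e : (a * b)⁻¹ * x * (a * b) = b⁻¹ * (a⁻¹ * x * a) * b := by group
  rw [e]

theorem map_conj_of_mem (H : Subgroup G) (h : G) (hh : h ∈ H) :
    H.map (MulAut.conj h).toMonoidHom = H := by
  ext x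
  rw [mem_map_conj]
  constructor
  · intro hx
    have e : x = h * (h⁻¹ * x * h) * h⁻¹ := by group
    rw [e]; exact H.mul_mem (H.mul_mem hh hx) (H.inv_mem hh)
  · intro hx
    exact H.mul_mem (H.mul_mem (H.inv_mem hh) hx) hh

theorem map_conj_of_normal (N : Subgroup G) [hN : N.Normal] (g : G) :
    N.map (MulAut.conj g).toMonoidHom = N := by
  ext x
  rw [mem_map_conj]
  constructor
  · intro hx
    have e : x = g * (g⁻¹ * x * g) * g⁻¹ := by group
    rw [e]; exact hN.conj_mem _ hx g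
  · intro hx
    have := hN.conj_mem x hx g⁻¹
    rwa [inv_inv] at this

theorem map_conj_of_mem_normalizer (H : Subgroup G) (g : G)
    (hg : g ∈ Subgroup.normalizer (H : Set G)) : H.map (MulAut.conj g).toMonoidHom = H := by
  ext x
  rw [mem_map_conj]
  exact ((Subgroup.mem_set_normalizer_iff''.mp hg) x).symm

theorem mem_normalizer_of_map_conj (H : Subgroup G) (g : G)
    (hg : H.map (MulAut.conj g).toMonoidHom = H) : g ∈ Subgroup.normalizer (H : Set G) := by
  rw [Subgroup.mem_set_normalizer_iff'']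
  intro x
  have h1 := mem_map_conj H g x
  rw [hg] at h1
  exact h1

theorem result {G : Type*} [Group G] [Finite G]
    (V : Subgroup G) [V.Normal] (hV : IsMulCommutative ↥V) (H : Subgroup G) (hHV : H ⊔ V = ⊤) :
    Cfsg.IsPronormal H ↔
      ∀ U : Subgroup G, U ≤ V → (∀ h ∈ H, U.map (MulAut.conj h).toMonoidHom = U) →
        U = (U ⊓ Subgroup.normalizer (H : Set G)) ⊔ ⁅H, U⁆ := by
  have hVn : V.Normal := inferInstance
  have hVc : ∀ a ∈ V, ∀ b ∈ V, a * b = b * a := by
    intro a ha b hb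
    exact congrArg Subtype.val (hV.is_comm.comm ⟨a, ha⟩ ⟨b, hb⟩)
  have hdecomp : ∀ g : G, ∃ h ∈ H, ∃ v ∈ V, g = v * h := by
    intro g
    have hg : g ∈ H ⊔ V := by rw [hHV]; exact Subgroup.mem_top g
    obtain ⟨h, hh, v, hv, rfl⟩ := Subgroup.mem_sup_of_normal_right.mp hg
    exact ⟨h, hh, h * v * h⁻¹, hVn.conj_mem v hv h, by group⟩
  have hconjU : ∀ U : Subgroup G, U ≤ V →
      (∀ h ∈ H, U.map (MulAut.conj h).toMonoidHom = U) → ∀ g : G, ∀ u ∈ U, g * u * g⁻¹ ∈ U := by
    intro U hUV hU g u hu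
    obtain ⟨h, hh, v, hv, rfl⟩ := hdecomp g
    have h1 : h * u * h⁻¹ ∈ U := by
      have : h * u * h⁻¹ ∈ U.map (MulAut.conj h).toMonoidHom := ⟨u, hu, rfl⟩
      rwa [hU h hh] at this
    have e : v * h * u * (v * h)⁻¹ = v * (h * u * h⁻¹) * v⁻¹ := by group
    rw [e, hVc v hv _ (hUV h1), mul_inv_cancel_right]
    exact h1
  have hCle : ∀ U : Subgroup G, U ≤ V →
      (∀ h ∈ H, U.map (MulAut.conj h).toMonoidHom = U) → ⁅H, U⁆ ≤ U := by
    intro U hUV hU
    rw [Subgroup.commutator_le]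
    intro h hh u hu
    exact U.mul_mem (hconjU U hUV hU h u hu) (U.inv_mem hu)
  have hCnorm : ∀ U : Subgroup G, U ≤ V →
      (∀ h ∈ H, U.map (MulAut.conj h).toMonoidHom = U) →
      ∀ g : G, ∀ c ∈ ⁅H, U⁆, g * c * g⁻¹ ∈ ⁅H, U⁆ := by
    intro U hUV hU g c hc
    obtain ⟨h, hh, v, hv, rfl⟩ := hdecomp g
    have h1 : h * c * h⁻¹ ∈ ⁅H, U⁆ := by
      have h2 : (⁅H, U⁆).map (MulAut.conj h).toMonoidHom =
          ⁅H.map (MulAut.conj h).toMonoidHom, U.map (MulAut.conj h).toMonoidHom⁆ :=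
        Subgroup.map_commutator _ _ _
      rw [map_conj_of_mem H h hh, hU h hh] at h2
      have h3 : h * c * h⁻¹ ∈ (⁅H, U⁆).map (MulAut.conj h).toMonoidHom := ⟨c, hc, rfl⟩
      rwa [h2] at h3
    have e : v * h * c * (v * h)⁻¹ = v * (h * c * h⁻¹) * v⁻¹ := by group
    rw [e, hVc v hv _ (hUV (hCle U hUV hU h1)), mul_inv_cancel_right]
    exact h1
  constructor
  · intro hpro U hUV hU
    apply le_antisymm
    · intro u hu
      obtain ⟨x, hx, hxeq⟩ := hpro u
      have hCn : (⁅H, U⁆).Normal := ⟨fun c hc g => hCnorm U hUV hU g c hc⟩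
      have hJ : H ⊔ H.map (MulAut.conj u).toMonoidHom ≤ H ⊔ ⁅H, U⁆ := by
        apply sup_le le_sup_left
        intro z hz
        rw [mem_map_conj] at hz
        have e : z = (⁅u⁻¹ * z * u, u⁆)⁻¹ * (u⁻¹ * z * u) := by
          rw [commutatorElement_def]; group
        rw [e]
        exact Subgroup.mul_mem _
          (Subgroup.mem_sup_right (Subgroup.inv_mem _ (Subgroup.commutator_mem_commutator hz hu)))
          (Subgroup.mem_sup_left hz)
      obtain ⟨h₁, hh₁, c₁, hc₁, hx1⟩ := Subgroup.mem_sup_of_normal_right.mp (hJ hx)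
      obtain ⟨c₂, hc₂def⟩ : ∃ c₂ : G, c₂ = h₁ * c₁ * h₁⁻¹ := ⟨_, rfl⟩
      have hc₂ : c₂ ∈ ⁅H, U⁆ := by rw [hc₂def]; exact hCnorm U hUV hU h₁ c₁ hc₁
      have hx2 : x = c₂ * h₁ := by rw [hc₂def, ← hx1]; group
      rw [hx2, map_conj_mul, map_conj_of_mem H h₁ hh₁] at hxeq
      have hn : c₂⁻¹ * u ∈ Subgroup.normalizer (H : Set G) := by
        apply mem_normalizer_of_map_conj
        rw [map_conj_mul, hxeq, ← map_conj_mul, inv_mul_cancel]
        exact map_conj_of_mem H 1 H.one_mem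
      have hc₂U : c₂ ∈ U := hCle U hUV hU hc₂
      have e : u = c₂ * (c₂⁻¹ * u) := by group
      rw [e]
      exact Subgroup.mul_mem _ (Subgroup.mem_sup_right hc₂)
        (Subgroup.mem_sup_left ⟨U.mul_mem (U.inv_mem hc₂U) hu, hn⟩)
    · exact sup_le inf_le_left (hCle U hUV hU)
  · intro hcond g
    obtain ⟨h₀, hh₀, v, hv, rfl⟩ := hdecomp g
    have hHv : H.map (MulAut.conj (v * h₀)).toMonoidHom = H.map (MulAut.conj v).toMonoidHom := by
      rw [map_conj_mul, map_conj_of_mem H h₀ hh₀]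
    rw [hHv]
    obtain ⟨U, hUdef⟩ : ∃ U : Subgroup G, U = Subgroup.normalClosure ({v} : Set G) := ⟨_, rfl⟩
    have hUn : U.Normal := by rw [hUdef]; infer_instance
    have hUV : U ≤ V := by
      rw [hUdef]
      apply Subgroup.normalClosure_le_normal
      intro z hz
      rw [Set.mem_singleton_iff] at hz
      rw [hz]; exact hv
    have hUinv : ∀ h ∈ H, U.map (MulAut.conj h).toMonoidHom = U :=
      fun h _ => map_conj_of_normal U h
    have hU := hcond U hUV hUinv
    have hvU : v ∈ U := by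
      rw [hUdef]; exact Subgroup.subset_normalClosure (Set.mem_singleton v)
    have hCn : (⁅H, U⁆).Normal := ⟨fun c hc g => hCnorm U hUV hUinv g c hc⟩
    have hvU' : v ∈ (U ⊓ Subgroup.normalizer (H : Set G)) ⊔ ⁅H, U⁆ := by
      rw [← hU]; exact hvU
    obtain ⟨n, hn, c, hc, hnc⟩ := Subgroup.mem_sup_of_normal_right.mp hvU'
    have hJ : ⁅H, U⁆ ≤ H ⊔ H.map (MulAut.conj v).toMonoidHom := by
      rw [Subgroup.commutator_le]
      intro h hh u hu
      rw [hUdef] at hu
      have hu' : u ∈ Subgroup.closure (Group.conjugatesOfSet ({v} : Set G)) := hu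
      have hclV : ∀ w ∈ Subgroup.closure (Group.conjugatesOfSet ({v} : Set G)), w ∈ V := by
        intro w hw
        have : w ∈ U := by rw [hUdef]; exact hw
        exact hUV this
      have hcommV : ∀ w ∈ V, ⁅h, w⁆ ∈ V := by
        intro w hw
        rw [commutatorElement_def]
        exact V.mul_mem (hVn.conj_mem w hw h) (V.inv_mem hw)
      clear hu
      induction hu' using Subgroup.closure_induction with
      | mem w hw =>
        rw [Group.mem_conjugatesOfSet_iff] at hw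
        obtain ⟨a, ha, hconj⟩ := hw
        rw [Set.mem_singleton_iff] at ha
        subst ha
        obtain ⟨g₁, rfl⟩ := isConj_iff.mp hconj
        obtain ⟨h₁, hh₁, v₁, hv₁, rfl⟩ := hdecomp g₁
        have e1 : v₁ * h₁ * a * (v₁ * h₁)⁻¹ = h₁ * a * h₁⁻¹ := by
          have e : v₁ * h₁ * a * (v₁ * h₁)⁻¹ = v₁ * (h₁ * a * h₁⁻¹) * v₁⁻¹ := by group
          rw [e, hVc v₁ hv₁ _ (hVn.conj_mem a hv h₁), mul_inv_cancel_right]
        rw [e1]
        have e2 : ⁅h, h₁ * a * h₁⁻¹⁆ = (h * h₁) * (a * (h₁⁻¹ * h⁻¹ * h₁) * a⁻¹) * h₁⁻¹ := by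
          rw [commutatorElement_def]; group
        rw [e2]
        refine Subgroup.mul_mem _ (Subgroup.mul_mem _
          (Subgroup.mem_sup_left (H.mul_mem hh hh₁)) (Subgroup.mem_sup_right ?_))
          (Subgroup.mem_sup_left (H.inv_mem hh₁))
        exact ⟨h₁⁻¹ * h⁻¹ * h₁, H.mul_mem (H.mul_mem (H.inv_mem hh₁) (H.inv_mem hh)) hh₁, rfl⟩
      | one =>
        rw [commutatorElement_one_right]; exact Subgroup.one_mem _
      | mul w w' hw hw' ihw ihw' =>
        have e : ⁅h, w * w'⁆ = ⁅h, w⁆ * (w * ⁅h, w'⁆ * w⁻¹) := by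
          simp only [commutatorElement_def]; group
        rw [e, hVc w (hclV w hw) _ (hcommV w' (hclV w' hw')), mul_inv_cancel_right]
        exact Subgroup.mul_mem _ ihw ihw'
      | inv w hw ihw =>
        have e : ⁅h, w⁻¹⁆ = w⁻¹ * (⁅h, w⁆)⁻¹ * w := by
          simp only [commutatorElement_def]; group
        rw [e, hVc w⁻¹ (V.inv_mem (hclV w hw)) _ (V.inv_mem (hcommV w (hclV w hw))),
          inv_mul_cancel_right]
        exact Subgroup.inv_mem _ ihw
    refine ⟨c, hJ hc, ?_⟩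
    have hnV : n ∈ V := hUV hn.1
    have hcV : c ∈ V := hUV (hCle U hUV hUinv hc)
    rw [← hnc, hVc n hnV c hcV, map_conj_mul, map_conj_of_mem_normalizer H n hn.2]

end Cfsg.Agent.S4269
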