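import Mathlib
import Cfsg.Statements.S4456
import Cfsg.Agent.Lib.Helper1.CharInd
import Cfsg.Agent.Lib.Helper1.CharDecomp
import Cfsg.Agent.Lib.Helper1.CharReg
import Cfsg.Agent.Lib.Helper1.CharExtra
import Cfsg.Agent.Lib.Helper1.CharComplete
import Cfsg.Agent.Lib.Helper1.TransBasic
import Cfsg.Agent.Lib.Helper1.TransTate

set_option autoImplicit false
open Cfsg

namespace Cfsg.Agent.S4456

open Cfsg.Agent.Lib.Helper1

universe u

theorem indFun_one {G : Type u} [Group G] [Fintype G] (H : Subgroup G) (θ : H → ℂ) :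
    Cfsg.indFun H θ 1 = (H.index : ℂ) * θ 1 := by
  classical
  rw [indFun_apply]
  have h1 : ∀ x : G, Cfsg.extendByZero H θ (x⁻¹ * 1 * x) = θ 1 := by
    intro x
    have : x⁻¹ * 1 * x = ((1 : H) : G) := by simp
    rw [this, extendByZero_coe]
  simp only [h1, Finset.sum_const, Finset.card_univ, nsmul_eq_mul]
  rw [← Nat.card_eq_fintype_card, ← Subgroup.card_mul_index H]
  have hne : (Nat.card H : ℂ) ≠ 0 := by
    have := Nat.card_pos (α := H)
    exact_mod_cast this.ne'
  push_cast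
  field_simp

theorem degree_eq {G : Type u} [Group G] {χ : G → ℂ} (h : Cfsg.IsCharacter G χ) :
    χ 1 = (Cfsg.charDegree χ : ℂ) := by
  obtain ⟨n, hn⟩ := IsCharacter.degree_nat h
  rw [Cfsg.charDegree, hn]
  simp

theorem exists_extension {G : Type u} [Group G] [Finite G] (p : ℕ) [Fact p.Prime]
    (hdeg : ∀ χ : Cfsg.IrrCharacter G, Cfsg.charDegree (χ : G → ℂ) ≠ 1 →
      p ∣ Cfsg.charDegree (χ : G → ℂ))
    (P : Sylow p G) (lam : P →* ℂˣ) : ∃ mu : G →* ℂˣ, ∀ x : P, mu x = lam x := by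
  classical
  have : Fintype G := Fintype.ofFinite G
  have : Fintype (Cfsg.IrrCharacter G) := irrFintype
  have : Fintype P := Fintype.ofFinite P
  set θ : P → ℂ := fun h => ((lam h : ℂˣ) : ℂ) with hθdef
  have hθ : Cfsg.IsIrrCharacter P θ := isIrrCharacter_of_monoidHom lam
  have hInd : Cfsg.IsCharacter G (Cfsg.indFun (P : Subgroup G) θ) :=
    indFun_isCharacter (P : Subgroup G) (IsIrrCharacter.isCharacter hθ)
  obtain ⟨m, hm1, hm2⟩ := IsCharacter.eq_sum_irr hInd
  have hd1 : Cfsg.indFun (P : Subgroup G) θ 1 = ((P : Subgroup G).index : ℂ) := by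
    rw [indFun_one, hθdef]
    simp
  have hsum : ((P : Subgroup G).index : ℂ) =
      ∑ ψ : Cfsg.IrrCharacter G, (m ψ : ℂ) * (Cfsg.charDegree (ψ : G → ℂ) : ℂ) := by
    rw [← hd1]
    conv_lhs => rw [hm2]
    rw [Finset.sum_apply]
    refine Finset.sum_congr rfl (fun ψ _ => ?_)
    rw [Pi.smul_apply, smul_eq_mul, degree_eq (IsIrrCharacter.isCharacter ψ.2)]
  have hsumN : (P : Subgroup G).index =
      ∑ ψ : Cfsg.IrrCharacter G, m ψ * Cfsg.charDegree (ψ : G → ℂ) := by
    exact_mod_cast hsum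
  obtain ⟨ψ, hψ1, hψm⟩ : ∃ ψ : Cfsg.IrrCharacter G,
      Cfsg.charDegree (ψ : G → ℂ) = 1 ∧ m ψ ≠ 0 := by
    by_contra hcon
    push Not at hcon
    apply P.not_dvd_index
    rw [hsumN]
    apply Finset.dvd_sum
    intro ψ _
    by_cases h1 : Cfsg.charDegree (ψ : G → ℂ) = 1
    · rw [hcon ψ h1, zero_mul]
      exact dvd_zero p
    · exact Dvd.dvd.mul_left (hdeg ψ h1) _
  have hψone : (ψ : G → ℂ) 1 = 1 := by
    rw [degree_eq (IsIrrCharacter.isCharacter ψ.2), hψ1]
    simp
  obtain ⟨mu, hmu⟩ := IsIrrCharacter.exists_monoidHom ψ.2 hψone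
  refine ⟨mu, fun x => ?_⟩
  have hF := frobenius_reciprocity (P : Subgroup G) θ (IsIrrCharacter.isClassFunction ψ.2)
  rw [hm1 ψ] at hF
  have hres : Cfsg.IsIrrCharacter P (fun h : P => (ψ : G → ℂ) h) := by
    have h1 := isIrrCharacter_of_monoidHom (mu.comp (P : Subgroup G).subtype)
    have h2 : (fun h : P => (ψ : G → ℂ) h) =
        fun g : P => (((mu.comp (P : Subgroup G).subtype) g : ℂˣ) : ℂ) := by
      funext h
      exact hmu h
    rw [h2]
    exact h1
  by_cases heq : θ = fun h : P => (ψ : G → ℂ) h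
  · have h1 := congrFun heq x
    rw [hθdef] at h1
    simp only at h1
    rw [hmu] at h1
    exact (Units.ext h1).symm
  · exfalso
    have h0 := classInner_irr_ne hθ hres heq
    have h00 : (m ψ : ℂ) = 0 := hF.trans h0
    apply hψm
    exact_mod_cast h00

theorem inf_commutator_le {G : Type u} [Group G] [Finite G] (p : ℕ) [Fact p.Prime]
    (P : Sylow p G)
    (hext : ∀ lam : P →* ℂˣ, ∃ mu : G →* ℂˣ, ∀ x : P, mu x = lam x) :
    commutator G ⊓ (P : Subgroup G) ≤ ⁅(P : Subgroup G), (P : Subgroup G)⁆ := by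
  rintro x ⟨hx1, hx2⟩
  by_contra hx
  have hx' : (⟨x, hx2⟩ : P) ∉ commutator P := by
    intro h
    apply hx
    rw [← Subgroup.map_subtype_commutator]
    exact ⟨⟨x, hx2⟩, h, rfl⟩
  have hne : Abelianization.of (⟨x, hx2⟩ : P) ≠ 1 := by
    rwa [Ne, ← MonoidHom.mem_ker, Abelianization.ker_of]
  obtain ⟨φ, hφ⟩ := CommGroup.exists_apply_ne_one_of_hasEnoughRootsOfUnity
    (Abelianization P) ℂ hne
  obtain ⟨mu, hmu⟩ := hext (φ.comp Abelianization.of)
  have h1 : mu x = 1 := by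
    have : commutator G ≤ mu.ker := Abelianization.commutator_subset_ker mu
    exact this hx1
  apply hφ
  have h2 := hmu ⟨x, hx2⟩
  rw [MonoidHom.comp_apply] at h2
  rw [← h2]
  exact h1

/-- Let p be a prime and G a finite group such that p divides the degree of every irreducible character of G of degree greater than one. Then G has a normal p-complement: a normal subgroup of order prime to p whose index is a power of p. -/
theorem result {G : Type*} [Group G] [Finite G] (p : ℕ) (hp : p.Prime) (hdeg : ∀ χ : Cfsg.IrrCharacter G, Cfsg.charDegree (χ : G → ℂ) ≠ 1 → p ∣ Cfsg.charDegree (χ : G → ℂ)) : ∃ N : Subgroup G, N.Normal ∧ (Nat.card N).Coprime p ∧ ∃ k : ℕ, N.index = p ^ k := by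
  have : Fact p.Prime := ⟨hp⟩
  obtain ⟨P⟩ : Nonempty (Sylow p G) := inferInstance
  have h2 := inf_commutator_le p P (fun lam => exists_extension p hdeg P lam)
  have := Cfsg.Agent.Lib.Helper16.Residual.pResidual_normal G p
  have h3 : pResidual p G ⊓ (P : Subgroup G) ≤ ⁅(P : Subgroup G), (P : Subgroup G)⁆ := by
    intro x hx
    exact h2 ⟨Tr.sylow_inf_pResidual_le_commutator P ⟨hx.2, hx.1⟩, hx.2⟩
  have h4 := Tr.tate_F P (pResidual p G) ⁅(P : Subgroup G), (P : Subgroup G)⁆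
    (fun X _ hc _ => hc) h3
    (by rw [sup_comm]; exact Cfsg.Agent.Lib.Helper16.Residual.sylow_sup_pResidual_eq_top P)
  obtain ⟨N, hN, hc, hq⟩ := Tr.npc_iff_quot.1 h4
  obtain ⟨k, hk⟩ := IsPGroup.iff_card.1 hq
  exact ⟨N, hN, hc, k, by rw [Subgroup.index_eq_card]; exact hk⟩

end Cfsg.Agent.S4456
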