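import Cfsg.Statements.S2325
import Cfsg.Agent.Lib.Helper14.SL2Odd

set_option autoImplicit false
open Cfsg

namespace Cfsg.Agent.S2325

open Cfsg.Agent.Lib.Helper14.GL2Conj Cfsg.Agent.Lib.Helper14.SL2Odd

variable {F : Type*} [Field F]

noncomputable def bo (p : Prop) : Bool := by
  classical
  exact decide p

theorem bo_true {p : Prop} (h : p) : bo p = true := by
  unfold bo
  simp [h]

theorem bo_false {p : Prop} (h : ¬ p) : bo p = false := by
  unfold bo
  simp [h]

theorem bo_inj {p q : Prop} (h : bo p = bo q) : p ↔ q := by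
  by_cases hp : p
  · rw [bo_true hp] at h
    by_cases hq : q
    · exact ⟨fun _ => hq, fun _ => hp⟩
    · rw [bo_false hq] at h
      exact absurd h (by simp)
  · rw [bo_false hp] at h
    by_cases hq : q
    · rw [bo_true hq] at h
      exact absurd h (by simp)
    · exact ⟨fun h' => absurd h' hp, fun h' => absurd h' hq⟩

noncomputable def Phi (g : Matrix.SpecialLinearGroup (Fin 2) F) : F ⊕ (Bool × Bool) := by
  classical
  exact if IsScalarMat (g : Matrix (Fin 2) (Fin 2) F) then Sum.inr (false, bo (g = 1))
    else if tr2 g ^ 2 ≠ 4 ∨ Chi g then Sum.inl (tr2 g) else Sum.inr (true, bo (tr2 g = 2))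

theorem Phi_scalar (g : Matrix.SpecialLinearGroup (Fin 2) F)
    (h : IsScalarMat (g : Matrix (Fin 2) (Fin 2) F)) : Phi g = Sum.inr (false, bo (g = 1)) := by
  unfold Phi
  simp [h]

theorem Phi_reg (g : Matrix.SpecialLinearGroup (Fin 2) F)
    (h : ¬ IsScalarMat (g : Matrix (Fin 2) (Fin 2) F)) (h' : tr2 g ^ 2 ≠ 4 ∨ Chi g) :
    Phi g = Sum.inl (tr2 g) := by
  unfold Phi
  rw [if_neg h, if_pos h']

theorem Phi_irr (g : Matrix.SpecialLinearGroup (Fin 2) F)
    (h : ¬ IsScalarMat (g : Matrix (Fin 2) (Fin 2) F)) (h' : ¬ (tr2 g ^ 2 ≠ 4 ∨ Chi g)) :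
    Phi g = Sum.inr (true, bo (tr2 g = 2)) := by
  unfold Phi
  rw [if_neg h, if_neg h']

theorem Phi_conj (a b : Matrix.SpecialLinearGroup (Fin 2) F) (h : IsConj a b) : Phi a = Phi b := by
  by_cases ha : IsScalarMat (a : Matrix (Fin 2) (Fin 2) F)
  · rw [scalar_of_isConj h ha]
  · have hb := not_scalar_of_isConj h ha
    have htr := tr2_of_isConj h
    have hchi := chi_iff_of_isConj h
    by_cases hP : tr2 a ^ 2 ≠ 4 ∨ Chi a
    · have hP' : tr2 b ^ 2 ≠ 4 ∨ Chi b := by rw [htr, ← hchi]; exact hP
      rw [Phi_reg a ha hP, Phi_reg b hb hP', htr]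
    · have hP' : ¬ (tr2 b ^ 2 ≠ 4 ∨ Chi b) := by rw [htr, ← hchi]; exact hP
      rw [Phi_irr a ha hP, Phi_irr b hb hP', htr]

theorem Phi_inj [Fintype F] (hodd : Fintype.card F % 2 = 1) (a b : Matrix.SpecialLinearGroup (Fin 2) F)
    (h : Phi a = Phi b) : IsConj a b := by
  have h2 : (2 : F) ≠ 0 := two_ne_zero_of_odd hodd
  by_cases ha : IsScalarMat (a : Matrix (Fin 2) (Fin 2) F)
  · by_cases hb : IsScalarMat (b : Matrix (Fin 2) (Fin 2) F)
    · rw [Phi_scalar a ha, Phi_scalar b hb] at h
      have h1 : bo (a = 1) = bo (b = 1) := by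
        have := Sum.inr_injective h
        exact congrArg Prod.snd this
      have h3 := bo_inj h1
      have : a = b := by
        rcases scalar_cases a ha with h4 | h4
        · rw [h4, h3.mp h4]
        · rcases scalar_cases b hb with h5 | h5
          · have := h3.mpr h5
            rw [this, h5]
          · rw [h4, h5]
      rw [this]
    · rw [Phi_scalar a ha] at h
      by_cases hP : tr2 b ^ 2 ≠ 4 ∨ Chi b
      · rw [Phi_reg b hb hP] at h
        exact absurd h (by simp)
      · rw [Phi_irr b hb hP] at h
        have := Sum.inr_injective h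
        exact absurd (congrArg Prod.fst this) (by simp)
  · by_cases hb : IsScalarMat (b : Matrix (Fin 2) (Fin 2) F)
    · rw [Phi_scalar b hb] at h
      by_cases hP : tr2 a ^ 2 ≠ 4 ∨ Chi a
      · rw [Phi_reg a ha hP] at h
        exact absurd h (by simp)
      · rw [Phi_irr a ha hP] at h
        have := Sum.inr_injective h
        exact absurd (congrArg Prod.fst this) (by simp)
    · by_cases hP : tr2 a ^ 2 ≠ 4 ∨ Chi a
      · by_cases hP' : tr2 b ^ 2 ≠ 4 ∨ Chi b
        · rw [Phi_reg a ha hP, Phi_reg b hb hP'] at h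
          have htr : tr2 a = tr2 b := Sum.inl_injective h
          by_cases ht : tr2 a ^ 2 = 4
          · have hca : Chi a := by
              rcases hP with h3 | h3
              · exact absurd ht h3
              · exact h3
            have hcb : Chi b := by
              rcases hP' with h3 | h3
              · rw [← htr] at h3
                exact absurd ht h3
              · exact h3
            exact conj_of_chi hodd a b ha hb htr ht ⟨fun _ => hcb, fun _ => hca⟩
          · exact conj_of_trace hodd a b ha hb htr ht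
        · rw [Phi_reg a ha hP, Phi_irr b hb hP'] at h
          exact absurd h (by simp)
      · by_cases hP' : tr2 b ^ 2 ≠ 4 ∨ Chi b
        · rw [Phi_irr a ha hP, Phi_reg b hb hP'] at h
          exact absurd h (by simp)
        · rw [Phi_irr a ha hP, Phi_irr b hb hP'] at h
          have h1 : bo (tr2 a = 2) = bo (tr2 b = 2) := by
            have := Sum.inr_injective h
            exact congrArg Prod.snd this
          have h3 := bo_inj h1
          rw [not_or, not_not] at hP hP'
          have hcases : ∀ t : F, t ^ 2 = 4 → t = 2 ∨ t = -2 := by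
            intro t ht
            have : (t - 2) * (t + 2) = 0 := by linear_combination ht
            rcases mul_eq_zero.mp this with h4 | h4
            · left; exact sub_eq_zero.mp h4
            · right; exact eq_neg_of_add_eq_zero_left h4
          have htr : tr2 a = tr2 b := by
            rcases hcases _ hP.1 with h4 | h4
            · rw [h4, h3.mp h4]
            · rcases hcases _ hP'.1 with h5 | h5
              · have := h3.mpr h5
                rw [this, h5]
              · rw [h4, h5]
          exact conj_of_chi hodd a b ha hb htr hP.1 ⟨fun h' => absurd h' hP.2, fun h' => absurd h' hP'.2⟩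

theorem Phi_surj [Fintype F] (hodd : Fintype.card F % 2 = 1) : Function.Surjective (Phi (F := F)) := by
  have h2 : (2 : F) ≠ 0 := two_ne_zero_of_odd hodd
  have hchar : ringChar F ≠ 2 := by
    intro hch
    have := FiniteField.even_card_of_char_two hch
    omega
  obtain ⟨n, hn⟩ := FiniteField.exists_nonsquare hchar
  have hn0 : n ≠ 0 := by
    intro h0
    apply hn
    rw [h0]
    exact ⟨0, by simp⟩
  have hnn : -n ≠ 0 := neg_ne_zero.mpr hn0
  rintro (t | ⟨b1, b2⟩)
  · refine ⟨⟨comp t 1, comp_det t 1⟩, ?_⟩
    rw [Phi_reg _ (comp_not_scalar' t) (Or.inr (chi_comp t)), tr2_comp]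
  · cases b1
    · cases b2
      · refine ⟨negOne, ?_⟩
        rw [Phi_scalar _ isScalarMat_negOne, bo_false (negOne_ne_one h2)]
      · refine ⟨1, ?_⟩
        rw [Phi_scalar _ isScalarMat_one, bo_true rfl]
    · cases b2
      · have he : (-1 : F) * (-1) = 1 := by ring
        refine ⟨uni (-1) (-n) he, ?_⟩
        have hnc : ¬ (tr2 (uni (-1) (-n) he) ^ 2 ≠ 4 ∨ Chi (uni (-1) (-n) he)) := by
          rw [not_or, not_not, chi_uni_iff _ _ _ hnn, tr2_uni, neg_neg]
          exact ⟨by ring, hn⟩
        rw [Phi_irr _ (uni_not_scalar _ _ _ hnn) hnc, tr2_uni]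
        have hne : ¬ ((2 : F) * (-1) = 2) := by
          intro h
          apply h2
          have h4 : (2 : F) * 2 = 0 := by linear_combination (-1 : F) * h
          rcases mul_eq_zero.mp h4 with h5 | h5 <;> exact h5
        rw [bo_false hne]
      · have he : (1 : F) * 1 = 1 := by ring
        refine ⟨uni 1 (-n) he, ?_⟩
        have hnc : ¬ (tr2 (uni 1 (-n) he) ^ 2 ≠ 4 ∨ Chi (uni 1 (-n) he)) := by
          rw [not_or, not_not, chi_uni_iff _ _ _ hnn, tr2_uni, neg_neg]
          exact ⟨by ring, hn⟩
        rw [Phi_irr _ (uni_not_scalar _ _ _ hnn) hnc, tr2_uni]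
        rw [bo_true (by ring)]

noncomputable def classEquiv [Fintype F] (hodd : Fintype.card F % 2 = 1) :
    ConjClasses (Matrix.SpecialLinearGroup (Fin 2) F) ≃ F ⊕ (Bool × Bool) :=
  Equiv.ofBijective (Quotient.lift Phi (fun a b h => Phi_conj a b h)) (by
    constructor
    · intro x y
      induction x using Quotient.inductionOn with | _ a => ?_
      induction y using Quotient.inductionOn with | _ b => ?_
      intro h
      exact Quotient.sound (Phi_inj hodd a b h)
    · intro y
      obtain ⟨g, hg⟩ := Phi_surj hodd y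
      exact ⟨Quotient.mk _ g, hg⟩)

theorem result {F : Type*} [Field F] [Fintype F] (hodd : Odd (Fintype.card F)) :
    Nat.card (ConjClasses (Matrix.SpecialLinearGroup (Fin 2) F)) = Fintype.card F + 4 := by
  have hodd' : Fintype.card F % 2 = 1 := Nat.odd_iff.mp hodd
  rw [Nat.card_congr (classEquiv hodd'), Nat.card_eq_fintype_card, Fintype.card_sum, Fintype.card_prod,
    Fintype.card_bool]

end Cfsg.Agent.S2325
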