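import Cfsg.Statements.S2299
import Cfsg.Agent.Lib.Helper13.SL2Irr3
import Cfsg.Agent.S2325
import Cfsg.Agent.S2301
import Mathlib

set_option autoImplicit false
open Cfsg

namespace Cfsg.Agent.S2299

open Cfsg.Agent.Lib.Helper1 Cfsg.Agent.Lib.Helper13.GL2Ind Cfsg.Agent.Lib.Helper13.GL2Irr
  Cfsg.Agent.Lib.Helper13.SL2Ind Cfsg.Agent.Lib.Helper13.SL2Irr Cfsg.Agent.Lib.Helper13.SL2Irr2
  Cfsg.Agent.Lib.Helper13.SL2Irr3

theorem ne_of_nat {x y : ℂ} {a b : ℕ} (hx : x = a) (hy : y = b) (h : a ≠ b) : x ≠ y := by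
  rw [hx, hy]
  exact_mod_cast h

theorem natdeg {F : Type*} [Field F] [Fintype F] [DecidableEq F] {k : ℕ}
    (hk : Fintype.card F = 2 * k + 1)
    {ψ : Matrix.SpecialLinearGroup (Fin 2) F → ℂ}
    (hψ : Cfsg.IsIrrCharacter (Matrix.SpecialLinearGroup (Fin 2) F) ψ) :
    ∃ n : ℕ, ψ 1 = (n : ℂ) ∧
    ((ψ = (fun _ => 1) ∧ n = 1) ∨ (ψ = stS F ∧ n = 2 * k + 1) ∨
    ((∃ α : MulChar F ℂ, α ^ 2 ≠ 1 ∧ ψ = Cfsg.indFun (BS F) (thetaS α)) ∧ n = 2 * k + 2) ∨
    (Cfsg.classInner (Cfsg.indFun (BS F) (thetaS (epsC F))) ψ ≠ 0 ∧ n = k + 1) ∨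
    (IsCuspS ψ ∧ n = k) ∨ (IsCuspS ψ ∧ n = 2 * k)) := by
  rcases cases_odd hk hψ with ⟨e, h⟩ | ⟨e, h⟩ | ⟨e, h⟩ | ⟨e, h⟩ | ⟨e, h⟩ | ⟨e, h⟩
  · exact ⟨1, by rw [h]; simp, Or.inl ⟨e, rfl⟩⟩
  · exact ⟨2 * k + 1, by rw [h]; push_cast; ring, Or.inr (Or.inl ⟨e, rfl⟩)⟩
  · exact ⟨2 * k + 2, by rw [h]; push_cast; ring, Or.inr (Or.inr (Or.inl ⟨e, rfl⟩))⟩
  · exact ⟨k + 1, by rw [h]; push_cast; ring, Or.inr (Or.inr (Or.inr (Or.inl ⟨e, rfl⟩)))⟩
  · exact ⟨k, h, Or.inr (Or.inr (Or.inr (Or.inr (Or.inl ⟨e, rfl⟩))))⟩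
  · exact ⟨2 * k, by rw [h]; push_cast; ring, Or.inr (Or.inr (Or.inr (Or.inr (Or.inr ⟨e, rfl⟩))))⟩

/-- Over a finite field F with q elements, q odd, every irreducible complex character of SL₂ has degree 1, q, q + 1, q − 1, (q + 1)/2 or (q − 1)/2; and when q ≥ 5 (so that these six numbers are distinct) there are exactly one irreducible character of degree 1, one of degree q, (q − 3)/2 of degree q + 1, (q − 1)/2 of degree q − 1, two of degree (q + 1)/2 and two of degree (q − 1)/2. -/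
theorem result {F : Type*} [Field F] [Fintype F] (hodd : Odd (Fintype.card F)) :
    (∀ χ : Matrix.SpecialLinearGroup (Fin 2) F → ℂ, Cfsg.IsIrrCharacter (Matrix.SpecialLinearGroup (Fin 2) F) χ →
      χ 1 = 1 ∨ χ 1 = (Fintype.card F : ℂ) ∨ χ 1 = (Fintype.card F : ℂ) + 1 ∨ χ 1 = (Fintype.card F : ℂ) - 1 ∨
        χ 1 = (((Fintype.card F + 1) / 2 : ℕ) : ℂ) ∨ χ 1 = (((Fintype.card F - 1) / 2 : ℕ) : ℂ)) ∧
    (5 ≤ Fintype.card F →
      Nat.card {χ : Cfsg.IrrCharacter (Matrix.SpecialLinearGroup (Fin 2) F) // (χ : Matrix.SpecialLinearGroup (Fin 2) F → ℂ) 1 = 1} = 1 ∧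
      Nat.card {χ : Cfsg.IrrCharacter (Matrix.SpecialLinearGroup (Fin 2) F) // (χ : Matrix.SpecialLinearGroup (Fin 2) F → ℂ) 1 = (Fintype.card F : ℂ)} = 1 ∧
      Nat.card {χ : Cfsg.IrrCharacter (Matrix.SpecialLinearGroup (Fin 2) F) // (χ : Matrix.SpecialLinearGroup (Fin 2) F → ℂ) 1 = (Fintype.card F : ℂ) + 1} = (Fintype.card F - 3) / 2 ∧
      Nat.card {χ : Cfsg.IrrCharacter (Matrix.SpecialLinearGroup (Fin 2) F) // (χ : Matrix.SpecialLinearGroup (Fin 2) F → ℂ) 1 = (Fintype.card F : ℂ) - 1} = (Fintype.card F - 1) / 2 ∧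
      Nat.card {χ : Cfsg.IrrCharacter (Matrix.SpecialLinearGroup (Fin 2) F) // (χ : Matrix.SpecialLinearGroup (Fin 2) F → ℂ) 1 = (((Fintype.card F + 1) / 2 : ℕ) : ℂ)} = 2 ∧
      Nat.card {χ : Cfsg.IrrCharacter (Matrix.SpecialLinearGroup (Fin 2) F) // (χ : Matrix.SpecialLinearGroup (Fin 2) F → ℂ) 1 = (((Fintype.card F - 1) / 2 : ℕ) : ℂ)} = 2) := by
  classical
  have hodd' := hodd
  obtain ⟨k, hk⟩ := hodd
  obtain ⟨c0, c1, c2⟩ := card_casts hk
  have hF : ringChar F ≠ 2 := ringChar_ne_two_of_odd hodd'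
  have hdegs : ∀ χ : Matrix.SpecialLinearGroup (Fin 2) F → ℂ,
      Cfsg.IsIrrCharacter (Matrix.SpecialLinearGroup (Fin 2) F) χ →
      χ 1 = 1 ∨ χ 1 = (Fintype.card F : ℂ) ∨ χ 1 = (Fintype.card F : ℂ) + 1 ∨
        χ 1 = (Fintype.card F : ℂ) - 1 ∨
        χ 1 = (((Fintype.card F + 1) / 2 : ℕ) : ℂ) ∨ χ 1 = (((Fintype.card F - 1) / 2 : ℕ) : ℂ) := by
    intro χ hχ
    rw [c0, c1, c2]
    rcases cases_odd hk hχ with ⟨-, h⟩ | ⟨-, h⟩ | ⟨-, h⟩ | ⟨-, h⟩ | ⟨-, h⟩ | ⟨-, h⟩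
    · exact Or.inl h
    · exact Or.inr (Or.inl h)
    · exact Or.inr (Or.inr (Or.inl (by rw [h]; ring)))
    · exact Or.inr (Or.inr (Or.inr (Or.inr (Or.inl h))))
    · exact Or.inr (Or.inr (Or.inr (Or.inr (Or.inr h))))
    · exact Or.inr (Or.inr (Or.inr (Or.inl (by rw [h]; ring))))
  refine ⟨hdegs, fun hq => ?_⟩
  have hk2 : 2 ≤ k := by omega
  have hFI : Fintype (Cfsg.IrrCharacter (Matrix.SpecialLinearGroup (Fin 2) F)) := irrFintype
  -- the six degrees as natural numbers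
  have hv1 : (1 : ℂ) = ((1 : ℕ) : ℂ) := by simp
  have hv2 : (Fintype.card F : ℂ) = ((2 * k + 1 : ℕ) : ℂ) := by rw [hk]
  have hv3 : (Fintype.card F : ℂ) + 1 = ((2 * k + 2 : ℕ) : ℂ) := by rw [c0]; push_cast; ring
  have hv4 : (Fintype.card F : ℂ) - 1 = ((2 * k : ℕ) : ℂ) := by rw [c0]; push_cast; ring
  have hv5 : (((Fintype.card F + 1) / 2 : ℕ) : ℂ) = ((k + 1 : ℕ) : ℂ) := by rw [c1]; push_cast; ring
  have hv6 : (((Fintype.card F - 1) / 2 : ℕ) : ℂ) = ((k : ℕ) : ℂ) := c2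
  have hN1 : Nat.card {χ : Cfsg.IrrCharacter (Matrix.SpecialLinearGroup (Fin 2) F) //
      (χ : Matrix.SpecialLinearGroup (Fin 2) F → ℂ) 1 = 1} = 1 := by
    rw [card_of_bij' 1 (fun _ : Unit => fun _ : Matrix.SpecialLinearGroup (Fin 2) F => (1 : ℂ))
      (fun _ => isIrrCharacter_one) (fun _ => rfl) (fun _ _ _ => rfl), Nat.card_unique]
    intro χ hχ h1
    obtain ⟨n, hn, hc⟩ := natdeg hk hχ
    have hn' : n = 1 := by
      have h2 : (n : ℂ) = ((1 : ℕ) : ℂ) := by rw [← hn, h1, hv1]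
      exact_mod_cast h2
    rcases hc with ⟨e, -⟩ | ⟨-, h⟩ | ⟨-, h⟩ | ⟨-, h⟩ | ⟨-, h⟩ | ⟨-, h⟩
    · exact ⟨(), e⟩
    all_goals omega
  have hNq : Nat.card {χ : Cfsg.IrrCharacter (Matrix.SpecialLinearGroup (Fin 2) F) //
      (χ : Matrix.SpecialLinearGroup (Fin 2) F → ℂ) 1 = (Fintype.card F : ℂ)} = 1 := by
    rw [card_of_bij' (Fintype.card F : ℂ) (fun _ : Unit => stS F)
      (fun _ => stS_isIrr) (fun _ => stS_one) (fun _ _ _ => rfl), Nat.card_unique]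
    intro χ hχ h1
    obtain ⟨n, hn, hc⟩ := natdeg hk hχ
    have hn' : n = 2 * k + 1 := by
      have h2 : (n : ℂ) = ((2 * k + 1 : ℕ) : ℂ) := by rw [← hn, h1, hv2]
      exact_mod_cast h2
    rcases hc with ⟨-, h⟩ | ⟨e, -⟩ | ⟨-, h⟩ | ⟨-, h⟩ | ⟨-, h⟩ | ⟨-, h⟩
    · omega
    · exact ⟨(), e⟩
    all_goals omega
  have hNq1 : Nat.card {χ : Cfsg.IrrCharacter (Matrix.SpecialLinearGroup (Fin 2) F) //
      (χ : Matrix.SpecialLinearGroup (Fin 2) F → ℂ) 1 = (Fintype.card F : ℂ) + 1} = k - 1 := by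
    have hFM : Fintype (MulChar F ℂ) := Fintype.ofFinite _
    have hsurj : Function.Surjective (fun α : {α : MulChar F ℂ // α ^ 2 ≠ 1} =>
        (⟨⟨Cfsg.indFun (BS F) (thetaS α.1), (indS_irr_iff α.1).mpr α.2⟩, indS_one α.1⟩ :
          {χ : Cfsg.IrrCharacter (Matrix.SpecialLinearGroup (Fin 2) F) //
            (χ : Matrix.SpecialLinearGroup (Fin 2) F → ℂ) 1 = (Fintype.card F : ℂ) + 1})) := by
      rintro ⟨⟨χ, hχ⟩, hd⟩
      obtain ⟨n, hn, hc⟩ := natdeg hk hχ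
      have hd' : χ 1 = (Fintype.card F : ℂ) + 1 := hd
      have hn' : n = 2 * k + 2 := by
        have h2 : (n : ℂ) = ((2 * k + 2 : ℕ) : ℂ) := by rw [← hn, hd', hv3]
        exact_mod_cast h2
      rcases hc with ⟨-, h⟩ | ⟨-, h⟩ | ⟨⟨α, hα, e⟩, -⟩ | ⟨-, h⟩ | ⟨-, h⟩ | ⟨-, h⟩
      · omega
      · omega
      · exact ⟨⟨α, hα⟩, Subtype.ext (Subtype.ext e.symm)⟩
      all_goals omega
    have h2 := card_two_to_one _ (fun α : {α : MulChar F ℂ // α ^ 2 ≠ 1} =>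
        (⟨α.1⁻¹, by rw [inv_pow]; intro h; exact α.2 (inv_eq_one.mp h)⟩ :
          {α : MulChar F ℂ // α ^ 2 ≠ 1})) hsurj (by
        rintro ⟨α, hα⟩ h
        apply hα
        have h' : α⁻¹ = α := congrArg Subtype.val h
        exact (inv_eq_iff_sq α).mp h'.symm) (by
        rintro ⟨α, hα⟩ ⟨α', hα'⟩
        simp only [Subtype.mk.injEq]
        constructor
        · intro h
          have h1 := classInner_irr ((indS_irr_iff α).mpr hα) ((indS_irr_iff α').mpr hα')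
          rw [classInner_indS, if_pos h] at h1
          by_contra hcon
          push Not at hcon
          rw [if_neg hcon.1, if_neg hcon.2] at h1
          norm_num at h1
        · rintro (rfl | rfl)
          · rfl
          · exact (indS_inv α').symm)
    have h3 : Fintype.card {α : MulChar F ℂ // α ^ 2 = 1} = 2 := by
      rw [Fintype.card_subtype]
      have h4 : Finset.univ.filter (fun α : MulChar F ℂ => α ^ 2 = 1) = {1, epsC F} := by
        ext α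
        simp only [Finset.mem_filter, Finset.mem_univ, true_and, Finset.mem_insert,
          Finset.mem_singleton]
        constructor
        · intro h
          by_cases h1 : α = 1
          · exact Or.inl h1
          · exact Or.inr (eps_unique α h h1)
        · rintro (rfl | rfl)
          · exact one_pow 2
          · exact epsC_sq
      rw [h4, Finset.card_pair (Ne.symm (epsC_ne_one hF))]
    have h5 : Fintype.card (MulChar F ℂ) = Fintype.card F - 1 :=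
      Nat.card_eq_fintype_card.symm.trans card_mulChar
    have h6 : Fintype.card {α : MulChar F ℂ // α ^ 2 ≠ 1} =
        Fintype.card (MulChar F ℂ) - Fintype.card {α : MulChar F ℂ // α ^ 2 = 1} :=
      Fintype.card_subtype_compl _
    rw [Nat.card_eq_fintype_card]
    omega
  obtain ⟨χ₁, χ₂, i1, i2, hne, hsum, hd1, hd2, -⟩ := half_decomp (epsC F) epsC_sq (epsC_ne_one hF)
  have hNh : Nat.card {χ : Cfsg.IrrCharacter (Matrix.SpecialLinearGroup (Fin 2) F) //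
      (χ : Matrix.SpecialLinearGroup (Fin 2) F → ℂ) 1 = (((Fintype.card F + 1) / 2 : ℕ) : ℂ)} = 2 := by
    rw [card_of_bij' _ (fun b : Bool => cond b χ₁ χ₂) (fun b => by cases b; exact i2; exact i1)
      (fun b => by
        rw [c1]
        rw [c0] at hd1 hd2
        cases b
        · show χ₂ 1 = _
          linear_combination (1 / 2 : ℂ) * hd2
        · show χ₁ 1 = _
          linear_combination (1 / 2 : ℂ) * hd1)
      (fun b b' h => by
        cases b <;> cases b'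
        · rfl
        · exact absurd h.symm hne
        · exact absurd h hne
        · rfl), Nat.card_eq_fintype_card, Fintype.card_bool]
    intro χ hχ h1
    obtain ⟨n, hn, hc⟩ := natdeg hk hχ
    have hn' : n = k + 1 := by
      have h2 : (n : ℂ) = ((k + 1 : ℕ) : ℂ) := by rw [← hn, h1, hv5]
      exact_mod_cast h2
    rcases hc with ⟨-, h⟩ | ⟨-, h⟩ | ⟨-, h⟩ | ⟨e, -⟩ | ⟨-, h⟩ | ⟨-, h⟩
    · omega
    · omega
    · omega
    · rcases half_mem i1 i2 hsum hχ e with h | h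
      · exact ⟨true, h⟩
      · exact ⟨false, h⟩
    all_goals omega
  have hk3 : (Fintype.card F - 3) / 2 = k - 1 := by omega
  have hk4 : (Fintype.card F - 1) / 2 = k := by omega
  refine ⟨hN1, hNq, by rw [hNq1]; omega, ?_, hNh, ?_⟩
  all_goals
    obtain ⟨t, ht⟩ : ∃ t : Finset ℂ, t = {1, (Fintype.card F : ℂ), (Fintype.card F : ℂ) + 1,
        (Fintype.card F : ℂ) - 1, (((Fintype.card F + 1) / 2 : ℕ) : ℂ),
        (((Fintype.card F - 1) / 2 : ℕ) : ℂ)} := ⟨_, rfl⟩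
    have hmem : ∀ χ : Cfsg.IrrCharacter (Matrix.SpecialLinearGroup (Fin 2) F),
        (χ : Matrix.SpecialLinearGroup (Fin 2) F → ℂ) 1 ∈ t := by
      intro χ
      rw [ht]
      simp only [Finset.mem_insert, Finset.mem_singleton]
      exact hdegs χ.1 χ.2
    have d1 : (1 : ℂ) ∉ ({(Fintype.card F : ℂ), (Fintype.card F : ℂ) + 1,
        (Fintype.card F : ℂ) - 1, (((Fintype.card F + 1) / 2 : ℕ) : ℂ),
        (((Fintype.card F - 1) / 2 : ℕ) : ℂ)} : Finset ℂ) := by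
      simp only [Finset.mem_insert, Finset.mem_singleton, not_or]
      exact ⟨ne_of_nat hv1 hv2 (by omega), ne_of_nat hv1 hv3 (by omega), ne_of_nat hv1 hv4 (by omega),
        ne_of_nat hv1 hv5 (by omega), ne_of_nat hv1 hv6 (by omega)⟩
    have d2 : (Fintype.card F : ℂ) ∉ ({(Fintype.card F : ℂ) + 1,
        (Fintype.card F : ℂ) - 1, (((Fintype.card F + 1) / 2 : ℕ) : ℂ),
        (((Fintype.card F - 1) / 2 : ℕ) : ℂ)} : Finset ℂ) := by
      simp only [Finset.mem_insert, Finset.mem_singleton, not_or]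
      exact ⟨ne_of_nat hv2 hv3 (by omega), ne_of_nat hv2 hv4 (by omega),
        ne_of_nat hv2 hv5 (by omega), ne_of_nat hv2 hv6 (by omega)⟩
    have d3 : (Fintype.card F : ℂ) + 1 ∉ ({
        (Fintype.card F : ℂ) - 1, (((Fintype.card F + 1) / 2 : ℕ) : ℂ),
        (((Fintype.card F - 1) / 2 : ℕ) : ℂ)} : Finset ℂ) := by
      simp only [Finset.mem_insert, Finset.mem_singleton, not_or]
      exact ⟨ne_of_nat hv3 hv4 (by omega), ne_of_nat hv3 hv5 (by omega), ne_of_nat hv3 hv6 (by omega)⟩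
    have d4 : (Fintype.card F : ℂ) - 1 ∉ ({(((Fintype.card F + 1) / 2 : ℕ) : ℂ),
        (((Fintype.card F - 1) / 2 : ℕ) : ℂ)} : Finset ℂ) := by
      simp only [Finset.mem_insert, Finset.mem_singleton, not_or]
      exact ⟨ne_of_nat hv4 hv5 (by omega), ne_of_nat hv4 hv6 (by omega)⟩
    have d5 : (((Fintype.card F + 1) / 2 : ℕ) : ℂ) ∉
        ({(((Fintype.card F - 1) / 2 : ℕ) : ℂ)} : Finset ℂ) := by
      simp only [Finset.mem_singleton]
      exact ne_of_nat hv5 hv6 (by omega)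
    have hcount : ∑ χ : Cfsg.IrrCharacter (Matrix.SpecialLinearGroup (Fin 2) F), (1 : ℂ) =
        ∑ y ∈ t, (Nat.card {χ : Cfsg.IrrCharacter (Matrix.SpecialLinearGroup (Fin 2) F) //
          (χ : Matrix.SpecialLinearGroup (Fin 2) F → ℂ) 1 = y} : ℂ) * 1 :=
      sum_by_degree (fun χ : Cfsg.IrrCharacter (Matrix.SpecialLinearGroup (Fin 2) F) =>
        (χ : Matrix.SpecialLinearGroup (Fin 2) F → ℂ) 1) t hmem (fun _ => 1)
    have hsq : ∑ χ : Cfsg.IrrCharacter (Matrix.SpecialLinearGroup (Fin 2) F),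
        (χ : Matrix.SpecialLinearGroup (Fin 2) F → ℂ) 1 ^ 2 =
        ∑ y ∈ t, (Nat.card {χ : Cfsg.IrrCharacter (Matrix.SpecialLinearGroup (Fin 2) F) //
          (χ : Matrix.SpecialLinearGroup (Fin 2) F → ℂ) 1 = y} : ℂ) * y ^ 2 :=
      sum_by_degree (fun χ : Cfsg.IrrCharacter (Matrix.SpecialLinearGroup (Fin 2) F) =>
        (χ : Matrix.SpecialLinearGroup (Fin 2) F → ℂ) 1) t hmem (fun x => x ^ 2)
    have hL1 : ∑ χ : Cfsg.IrrCharacter (Matrix.SpecialLinearGroup (Fin 2) F), (1 : ℂ) =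
        (Fintype.card F : ℂ) + 4 := by
      rw [Finset.sum_const, Finset.card_univ, nsmul_eq_mul, mul_one, ← Nat.card_eq_fintype_card,
        card_irr, Cfsg.Agent.S2325.result hodd']
      push_cast
      rfl
    have hL2 : ∑ χ : Cfsg.IrrCharacter (Matrix.SpecialLinearGroup (Fin 2) F),
        (χ : Matrix.SpecialLinearGroup (Fin 2) F → ℂ) 1 ^ 2 =
        ((Fintype.card F : ℂ) ^ 2 - 1) * (Fintype.card F : ℂ) := by
      rw [sum_sq_degrees, Cfsg.Agent.S2301.card_SL2]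
      have h1 : 1 ≤ Fintype.card F ^ 2 := Nat.one_le_pow _ _ Fintype.card_pos
      push_cast [Nat.cast_sub h1]
      ring
    rw [hL1, ht, Finset.sum_insert d1, Finset.sum_insert d2, Finset.sum_insert d3,
      Finset.sum_insert d4, Finset.sum_insert d5, Finset.sum_singleton, hN1, hNq, hNq1, hNh] at hcount
    rw [hL2, ht, Finset.sum_insert d1, Finset.sum_insert d2, Finset.sum_insert d3,
      Finset.sum_insert d4, Finset.sum_insert d5, Finset.sum_singleton, hN1, hNq, hNq1, hNh] at hsq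
    obtain ⟨A, hA_def⟩ : ∃ A : ℕ, A = Nat.card {χ : Cfsg.IrrCharacter (Matrix.SpecialLinearGroup (Fin 2) F) //
        (χ : Matrix.SpecialLinearGroup (Fin 2) F → ℂ) 1 = (Fintype.card F : ℂ) - 1} := ⟨_, rfl⟩
    obtain ⟨B, hB_def⟩ : ∃ B : ℕ, B = Nat.card {χ : Cfsg.IrrCharacter (Matrix.SpecialLinearGroup (Fin 2) F) //
        (χ : Matrix.SpecialLinearGroup (Fin 2) F → ℂ) 1 = (((Fintype.card F - 1) / 2 : ℕ) : ℂ)} := ⟨_, rfl⟩
    rw [← hA_def, ← hB_def] at hcount hsq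
    rw [c0, Nat.cast_sub (by omega : 1 ≤ k)] at hcount
    rw [c0, c1, c2, Nat.cast_sub (by omega : 1 ≤ k)] at hsq
    have hk0 : (k : ℂ) ≠ 0 := by
      have : k ≠ 0 := by omega
      exact_mod_cast this
    have hAeq : (k : ℂ) ^ 2 * ((A : ℂ) - k) = 0 := by
      push_cast at hcount hsq
      linear_combination (-(1 / 3 : ℂ)) * hsq + ((k : ℂ) ^ 2 / 3) * hcount
    have hA' : (A : ℂ) = (k : ℂ) := by
      have h3 := (mul_eq_zero.mp hAeq).resolve_left (pow_ne_zero 2 hk0)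
      linear_combination h3
    have hA : A = k := by exact_mod_cast hA'
    have hB : B = 2 := by
      have h3 : (B : ℂ) = ((2 : ℕ) : ℂ) := by
        push_cast at hcount ⊢
        linear_combination -hcount - hA'
      exact_mod_cast h3
    first
      | (rw [← hA_def]; omega)
      | (rw [← hB_def]; exact hB)

end Cfsg.Agent.S2299
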