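import Cfsg.Statements.S2300
import Cfsg.Agent.Lib.Helper13.SL2Irr2
import Cfsg.Agent.S2331
import Cfsg.Agent.S2301
import Mathlib

set_option autoImplicit false
open Cfsg

namespace Cfsg.Agent.S2300

open Cfsg.Agent.Lib.Helper1 Cfsg.Agent.Lib.Helper13.GL2Ind Cfsg.Agent.Lib.Helper13.GL2Irr
  Cfsg.Agent.Lib.Helper13.SL2Ind Cfsg.Agent.Lib.Helper13.SL2Irr Cfsg.Agent.Lib.Helper13.SL2Irr2

/-- Over a finite field F with q elements, q even, every irreducible complex character of SL₂ has degree 1, q − 1, q or q + 1; and when q ≥ 4 (so that these four numbers are distinct) there are exactly one irreducible character of degree 1, one of degree q, (q − 2)/2 of degree q + 1 and q/2 of degree q − 1. -/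
theorem result {F : Type*} [Field F] [Fintype F] [CharP F 2] :
    (∀ χ : Matrix.SpecialLinearGroup (Fin 2) F → ℂ, Cfsg.IsIrrCharacter (Matrix.SpecialLinearGroup (Fin 2) F) χ →
      χ 1 = 1 ∨ χ 1 = (Fintype.card F : ℂ) - 1 ∨ χ 1 = (Fintype.card F : ℂ) ∨ χ 1 = (Fintype.card F : ℂ) + 1) ∧
    (4 ≤ Fintype.card F →
      Nat.card {χ : Cfsg.IrrCharacter (Matrix.SpecialLinearGroup (Fin 2) F) // (χ : Matrix.SpecialLinearGroup (Fin 2) F → ℂ) 1 = 1} = 1 ∧
      Nat.card {χ : Cfsg.IrrCharacter (Matrix.SpecialLinearGroup (Fin 2) F) // (χ : Matrix.SpecialLinearGroup (Fin 2) F → ℂ) 1 = (Fintype.card F : ℂ)} = 1 ∧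
      Nat.card {χ : Cfsg.IrrCharacter (Matrix.SpecialLinearGroup (Fin 2) F) // (χ : Matrix.SpecialLinearGroup (Fin 2) F → ℂ) 1 = (Fintype.card F : ℂ) + 1} = (Fintype.card F - 2) / 2 ∧
      Nat.card {χ : Cfsg.IrrCharacter (Matrix.SpecialLinearGroup (Fin 2) F) // (χ : Matrix.SpecialLinearGroup (Fin 2) F → ℂ) 1 = (Fintype.card F : ℂ) - 1} = Fintype.card F / 2) := by
  classical
  obtain ⟨hq0, hq1⟩ := card_F_cast_ne (F := F)
  have hdegs : ∀ χ : Matrix.SpecialLinearGroup (Fin 2) F → ℂ,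
      Cfsg.IsIrrCharacter (Matrix.SpecialLinearGroup (Fin 2) F) χ →
      χ 1 = 1 ∨ χ 1 = (Fintype.card F : ℂ) - 1 ∨ χ 1 = (Fintype.card F : ℂ) ∨
        χ 1 = (Fintype.card F : ℂ) + 1 := by
    intro χ hχ
    rcases irrS_cases_char2 hχ with rfl | rfl | ⟨α, -, rfl⟩ | ⟨-, h⟩
    · exact Or.inl rfl
    · exact Or.inr (Or.inr (Or.inl stS_one))
    · exact Or.inr (Or.inr (Or.inr (indS_one α)))
    · exact Or.inr (Or.inl h)
  refine ⟨hdegs, fun hq => ?_⟩
  have hFI : Fintype (Cfsg.IrrCharacter (Matrix.SpecialLinearGroup (Fin 2) F)) := irrFintype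
  have hq2 : (Fintype.card F : ℂ) ≠ 2 := by
    intro h
    have : Fintype.card F = 2 := by exact_mod_cast h
    omega
  have hN1 : Nat.card {χ : Cfsg.IrrCharacter (Matrix.SpecialLinearGroup (Fin 2) F) //
      (χ : Matrix.SpecialLinearGroup (Fin 2) F → ℂ) 1 = 1} = 1 := by
    rw [card_of_bij' 1 (fun _ : Unit => fun _ : Matrix.SpecialLinearGroup (Fin 2) F => (1 : ℂ))
      (fun _ => isIrrCharacter_one) (fun _ => rfl) (fun _ _ _ => rfl), Nat.card_unique]
    intro χ hχ h1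
    rcases irrS_cases_char2 hχ with rfl | rfl | ⟨α, -, rfl⟩ | ⟨-, h⟩
    · exact ⟨(), rfl⟩
    · exfalso; rw [stS_one] at h1; apply hq1; rw [h1]; ring
    · exfalso; rw [indS_one] at h1; apply hq0; linear_combination h1
    · exfalso; rw [h] at h1; apply hq2; linear_combination h1
  have hNq : Nat.card {χ : Cfsg.IrrCharacter (Matrix.SpecialLinearGroup (Fin 2) F) //
      (χ : Matrix.SpecialLinearGroup (Fin 2) F → ℂ) 1 = (Fintype.card F : ℂ)} = 1 := by
    rw [card_of_bij' (Fintype.card F : ℂ) (fun _ : Unit => stS F)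
      (fun _ => stS_isIrr) (fun _ => stS_one) (fun _ _ _ => rfl), Nat.card_unique]
    intro χ hχ h1
    rcases irrS_cases_char2 hχ with rfl | rfl | ⟨α, -, rfl⟩ | ⟨-, h⟩
    · exfalso
      have h1' : (1 : ℂ) = (Fintype.card F : ℂ) := h1
      apply hq1; rw [← h1']; ring
    · exact ⟨(), rfl⟩
    · exfalso; rw [indS_one] at h1; exact one_ne_zero (α := ℂ) (by linear_combination h1)
    · exfalso; rw [h] at h1; exact one_ne_zero (α := ℂ) (by linear_combination -h1)
  refine ⟨hN1, hNq, ?_⟩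
  obtain ⟨t, ht⟩ : ∃ t : Finset ℂ, t = {1, (Fintype.card F : ℂ), (Fintype.card F : ℂ) + 1,
      (Fintype.card F : ℂ) - 1} := ⟨_, rfl⟩
  have hmem : ∀ χ : Cfsg.IrrCharacter (Matrix.SpecialLinearGroup (Fin 2) F),
      (χ : Matrix.SpecialLinearGroup (Fin 2) F → ℂ) 1 ∈ t := by
    intro χ
    rw [ht]
    simp only [Finset.mem_insert, Finset.mem_singleton]
    rcases hdegs χ.1 χ.2 with h | h | h | h
    · exact Or.inl h
    · exact Or.inr (Or.inr (Or.inr h))
    · exact Or.inr (Or.inl h)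
    · exact Or.inr (Or.inr (Or.inl h))
  have d1 : (1 : ℂ) ∉ ({(Fintype.card F : ℂ), (Fintype.card F : ℂ) + 1,
      (Fintype.card F : ℂ) - 1} : Finset ℂ) := by
    simp only [Finset.mem_insert, Finset.mem_singleton, not_or]
    refine ⟨?_, ?_, ?_⟩
    · intro h; apply hq1; rw [← h]; ring
    · intro h; apply hq0; linear_combination -h
    · intro h; apply hq2; linear_combination -h
  have d2 : (Fintype.card F : ℂ) ∉ ({(Fintype.card F : ℂ) + 1,
      (Fintype.card F : ℂ) - 1} : Finset ℂ) := by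
    simp only [Finset.mem_insert, Finset.mem_singleton, not_or]
    refine ⟨?_, ?_⟩
    · intro h; exact one_ne_zero (α := ℂ) (by linear_combination -h)
    · intro h; exact one_ne_zero (α := ℂ) (by linear_combination h)
  have d3 : (Fintype.card F : ℂ) + 1 ∉ ({(Fintype.card F : ℂ) - 1} : Finset ℂ) := by
    simp only [Finset.mem_singleton]
    intro h; exact two_ne_zero (α := ℂ) (by linear_combination h)
  have hcount : ∑ χ : Cfsg.IrrCharacter (Matrix.SpecialLinearGroup (Fin 2) F), (1 : ℂ) =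
      ∑ y ∈ t, (Nat.card {χ : Cfsg.IrrCharacter (Matrix.SpecialLinearGroup (Fin 2) F) //
        (χ : Matrix.SpecialLinearGroup (Fin 2) F → ℂ) 1 = y} : ℂ) * 1 :=
    sum_by_degree (fun χ : Cfsg.IrrCharacter (Matrix.SpecialLinearGroup (Fin 2) F) =>
      (χ : Matrix.SpecialLinearGroup (Fin 2) F → ℂ) 1) t hmem (fun _ => 1)
  have hsq : ∑ χ : Cfsg.IrrCharacter (Matrix.SpecialLinearGroup (Fin 2) F),
      (χ : Matrix.SpecialLinearGroup (Fin 2) F → ℂ) 1 ^ 2 =
      ∑ y ∈ t, (Nat.card {χ : Cfsg.IrrCharacter (Matrix.SpecialLinearGroup (Fin 2) F) //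
        (χ : Matrix.SpecialLinearGroup (Fin 2) F → ℂ) 1 = y} : ℂ) * y ^ 2 :=
    sum_by_degree (fun χ : Cfsg.IrrCharacter (Matrix.SpecialLinearGroup (Fin 2) F) =>
      (χ : Matrix.SpecialLinearGroup (Fin 2) F → ℂ) 1) t hmem (fun x => x ^ 2)
  have hL1 : ∑ χ : Cfsg.IrrCharacter (Matrix.SpecialLinearGroup (Fin 2) F), (1 : ℂ) =
      (Fintype.card F : ℂ) + 1 := by
    rw [Finset.sum_const, Finset.card_univ, nsmul_eq_mul, mul_one, ← Nat.card_eq_fintype_card,
      card_irr, Cfsg.Agent.S2331.result]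
    push_cast
    rfl
  have hL2 : ∑ χ : Cfsg.IrrCharacter (Matrix.SpecialLinearGroup (Fin 2) F),
      (χ : Matrix.SpecialLinearGroup (Fin 2) F → ℂ) 1 ^ 2 =
      ((Fintype.card F : ℂ) ^ 2 - 1) * (Fintype.card F : ℂ) := by
    rw [sum_sq_degrees, Cfsg.Agent.S2301.card_SL2]
    have h1 : 1 ≤ Fintype.card F ^ 2 := Nat.one_le_pow _ _ Fintype.card_pos
    push_cast [Nat.cast_sub h1]
    ring
  rw [hL1, ht, Finset.sum_insert d1, Finset.sum_insert d2, Finset.sum_insert d3,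
    Finset.sum_singleton, hN1, hNq] at hcount
  rw [hL2, ht, Finset.sum_insert d1, Finset.sum_insert d2, Finset.sum_insert d3,
    Finset.sum_singleton, hN1, hNq] at hsq
  obtain ⟨a, ha_def⟩ : ∃ a : ℕ, a = Nat.card {χ : Cfsg.IrrCharacter (Matrix.SpecialLinearGroup (Fin 2) F) //
      (χ : Matrix.SpecialLinearGroup (Fin 2) F → ℂ) 1 = (Fintype.card F : ℂ) + 1} := ⟨_, rfl⟩
  obtain ⟨b, hb_def⟩ : ∃ b : ℕ, b = Nat.card {χ : Cfsg.IrrCharacter (Matrix.SpecialLinearGroup (Fin 2) F) //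
      (χ : Matrix.SpecialLinearGroup (Fin 2) F → ℂ) 1 = (Fintype.card F : ℂ) - 1} := ⟨_, rfl⟩
  rw [← ha_def, ← hb_def] at hcount hsq ⊢
  have h2a : (Fintype.card F : ℂ) * (2 * (a : ℂ) - ((Fintype.card F : ℂ) - 2)) = 0 := by
    linear_combination (-(1 / 2 : ℂ)) * hsq + (1 / 2 : ℂ) * ((Fintype.card F : ℂ) - 1) ^ 2 * hcount
  have h2a' : 2 * (a : ℂ) = (Fintype.card F : ℂ) - 2 := by
    have h3 := (mul_eq_zero.mp h2a).resolve_left hq0
    linear_combination h3
  have ha : 2 * a + 2 = Fintype.card F := by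
    have h3 : ((2 * a + 2 : ℕ) : ℂ) = (Fintype.card F : ℂ) := by
      push_cast
      linear_combination h2a'
    exact_mod_cast h3
  have hb : a + b + 1 = Fintype.card F := by
    have h3 : ((a + b + 1 : ℕ) : ℂ) = (Fintype.card F : ℂ) := by
      push_cast
      linear_combination -hcount
    exact_mod_cast h3
  constructor <;> omega

end Cfsg.Agent.S2300
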