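import Mathlib
import Cfsg.Statements.S0631
import Cfsg.Agent.Lib.Helper4.PPrimeQuot
import Cfsg.Agent.Lib.Helper4.Replace
import Cfsg.Agent.S0028
import Cfsg.Agent.S0630

set_option autoImplicit false
open Cfsg

namespace Cfsg.Agent.S0631

universe u

open Cfsg.Agent.Lib.Helper9 in
theorem good_of_constrained {X : Type u} [Group X] [Finite X] {p : ℕ} [Fact p.Prime]
    (hbot : pPrimeCore p X = ⊥) (h : IsPConstrained p X) :
    Subgroup.centralizer (pCore p X : Set X) ≤ pCore p X := by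
  have hA := Cfsg.Agent.S0630.pPrimePCore_eq_pCore p hbot
  have hQp : IsPGroup p ↥(pPrimePCore p X) := by
    rw [hA]; exact Cfsg.Agent.Lib.Helper9.pCore_isPGroup p _
  have h3 : (⊤ : Subgroup ↥(pPrimePCore p X)).map (pPrimePCore p X).subtype = pPrimePCore p X := by
    rw [← MonoidHom.range_eq_map, Subgroup.range_subtype]
  obtain ⟨Pb⟩ : Nonempty (Sylow p ↥(pPrimePCore p X)) := Sylow.nonempty
  have h1 := h Pb
  rw [Cfsg.Agent.S0630.sylow_eq_top_of_isPGroup hQp Pb, h3, hA] at h1
  exact h1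

theorem conj_mem_map_subtype {G : Type u} [Group G] {K : Subgroup G} (M : Subgroup K)
    [hM : M.Normal] {g m : G} (hg : g ∈ K) (hm : m ∈ M.map K.subtype) :
    g * m * g⁻¹ ∈ M.map K.subtype := by
  obtain ⟨m', hm', rfl⟩ := hm
  exact ⟨⟨g, hg⟩ * m' * ⟨g, hg⟩⁻¹, hM.conj_mem m' hm' ⟨g, hg⟩, rfl⟩

/-- in a group with `O_{p'} = 1` and `C(O_p) ≤ O_p`, subgroups between the centralizer and the normalizer of a
`p`-subgroup inherit these properties (under two side conditions) -/
theorem lemmaK {G : Type u} [Group G] [Finite G] {p : ℕ} [Fact p.Prime]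
    (hQ : Subgroup.centralizer (pCore p G : Set G) ≤ pCore p G)
    (P M : Subgroup G) (hP : IsPGroup p P)
    (hCM : Subgroup.centralizer (P : Set G) ≤ M) (hMN : M ≤ Subgroup.normalizer (P : Set G))
    (h3 : ∀ D : Subgroup G, D ≤ M → (∀ m ∈ M, ∀ d ∈ D, m * d * m⁻¹ ∈ D) →
      (Nat.card D).Coprime p → D ≤ Subgroup.centralizer (P : Set G))
    (h4 : ∀ c ∈ M, (∀ r ∈ (pCore p M).map M.subtype, r * c = c * r) →
      c ∈ Subgroup.centralizer (P : Set G)) :
    pPrimeCore p M = ⊥ ∧ Subgroup.centralizer (pCore p M : Set M) ≤ pCore p M := by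
  obtain ⟨Q, hQdef⟩ : ∃ Q, Q = pCore p G := ⟨_, rfl⟩
  have hQp : IsPGroup p Q := by rw [hQdef]; exact Cfsg.Agent.Lib.Helper9.pCore_isPGroup p G
  have hQn : Q.Normal := by rw [hQdef]; exact Cfsg.pCore_normal p G
  have hQcent : Subgroup.centralizer (Q : Set G) ≤ Q := by rw [hQdef]; exact hQ
  have hPQn : P ≤ Subgroup.normalizer (Q : Set G) := by
    rw [Subgroup.normalizer_eq_top]; exact le_top
  have hCQM : Q ⊓ Subgroup.centralizer (P : Set G) ≤ M := inf_le_right.trans hCM
  have hCQn : ∀ m ∈ M, ∀ x ∈ Q ⊓ Subgroup.centralizer (P : Set G),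
      m * x * m⁻¹ ∈ Q ⊓ Subgroup.centralizer (P : Set G) := by
    intro m hm x hx
    obtain ⟨hxQ, hxC⟩ := Subgroup.mem_inf.mp hx
    refine Subgroup.mem_inf.mpr ⟨hQn.conj_mem x hxQ m, ?_⟩
    have hmN := hMN hm
    rw [Subgroup.mem_centralizer_iff] at hxC ⊢
    intro y hy
    have hy' : m⁻¹ * y * m⁻¹⁻¹ ∈ P :=
      (Subgroup.mem_normalizer_iff.mp (Subgroup.inv_mem _ hmN) y).mp hy
    rw [inv_inv] at hy'
    have h5 := hxC _ hy'
    calc y * (m * x * m⁻¹) = m * ((m⁻¹ * y * m) * x) * m⁻¹ := by group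
      _ = m * (x * (m⁻¹ * y * m)) * m⁻¹ := by rw [h5]
      _ = m * x * m⁻¹ * y := by group
  have hkill : ∀ D : Subgroup G, (Nat.card D).Coprime p → D ≤ Subgroup.centralizer (P : Set G) →
      (Q ⊓ Subgroup.centralizer (P : Set G) ≤ Subgroup.centralizer (D : Set G)) → D = ⊥ := by
    intro D hDc hDP hDC
    have hPD : P ≤ Subgroup.centralizer (D : Set G) := by
      intro x hx
      rw [Subgroup.mem_centralizer_iff]
      intro d hd
      exact ((Subgroup.mem_centralizer_iff.mp (hDP hd)) x hx).symm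
    have hDQn : D ≤ Subgroup.normalizer (Q : Set G) := by
      rw [Subgroup.normalizer_eq_top]; exact le_top
    have h := Cfsg.Agent.S0028.result p P D Q hP hDc hQp hPD hPQn hDQn hDC
    rw [eq_bot_iff]
    intro d hd
    rw [Subgroup.mem_bot]
    exact Cfsg.Agent.Lib.Helper4.PPrimeQuot.eq_one_of_mem hDc hQp (hQcent (h hd)) hd
  constructor
  · obtain ⟨D, hDdef⟩ : ∃ D, D = (pPrimeCore p M).map M.subtype := ⟨_, rfl⟩
    have hDM : D ≤ M := by rw [hDdef]; exact Subgroup.map_subtype_le _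
    have hDc : (Nat.card D).Coprime p := by
      rw [hDdef, Subgroup.card_map_of_injective M.subtype_injective]
      exact Cfsg.Agent.Lib.Helper9.pPrimeCore_coprime p M
    have hDn : ∀ m ∈ M, ∀ d ∈ D, m * d * m⁻¹ ∈ D := by
      intro m hm d hd
      rw [hDdef] at hd ⊢
      exact conj_mem_map_subtype _ hm hd
    have hDP := h3 D hDM hDn hDc
    have hDC : Q ⊓ Subgroup.centralizer (P : Set G) ≤ Subgroup.centralizer (D : Set G) := by
      intro x hx
      rw [Subgroup.mem_centralizer_iff]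
      intro d hd
      have hxM := hCQM hx
      have h1 : x * d * x⁻¹ * d⁻¹ ∈ D := D.mul_mem (hDn x hxM d hd) (D.inv_mem hd)
      have h2 : x * d * x⁻¹ * d⁻¹ ∈ Q := by
        have h3' : d * x⁻¹ * d⁻¹ ∈ Q := hQn.conj_mem _ (Q.inv_mem (Subgroup.mem_inf.mp hx).1) d
        have h4' : x * d * x⁻¹ * d⁻¹ = x * (d * x⁻¹ * d⁻¹) := by group
        rw [h4']; exact Q.mul_mem (Subgroup.mem_inf.mp hx).1 h3'
      have h5 := Cfsg.Agent.Lib.Helper4.PPrimeQuot.eq_one_of_mem hDc hQp h2 h1
      have h6 : d * x = (x * d * x⁻¹ * d⁻¹)⁻¹ * (x * d) := by group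
      rw [h6, h5, inv_one, one_mul]
    have hDbot := hkill D hDc hDP hDC
    rw [hDdef, Subgroup.map_eq_bot_iff_of_injective _ M.subtype_injective] at hDbot
    exact hDbot
  · obtain ⟨R, hRdef⟩ : ∃ R, R = (pCore p M).map M.subtype := ⟨_, rfl⟩
    have hCQR : Q ⊓ Subgroup.centralizer (P : Set G) ≤ R := by
      have hn : ((Q ⊓ Subgroup.centralizer (P : Set G)).subgroupOf M).Normal := by
        constructor
        intro x hx m
        rw [Subgroup.mem_subgroupOf] at hx ⊢
        exact hCQn m m.2 x hx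
      have hp : IsPGroup p ((Q ⊓ Subgroup.centralizer (P : Set G)).subgroupOf M) :=
        (hQp.to_le inf_le_left).comap_subtype
      have hle := Cfsg.Agent.Lib.Helper9.le_pCore hn hp
      intro x hx
      rw [hRdef]
      exact ⟨⟨x, hCQM hx⟩, hle (Subgroup.mem_subgroupOf.mpr hx), rfl⟩
    have hCp : IsPGroup p (Subgroup.centralizer (pCore p M : Set M)) := by
      rintro ⟨c0, hc0⟩
      have hcR : ∀ r ∈ R, r * (c0 : G) = (c0 : G) * r := by
        intro r hr
        rw [hRdef] at hr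
        obtain ⟨r0, hr0, rfl⟩ := hr
        exact congrArg Subtype.val ((Subgroup.mem_centralizer_iff.mp hc0) r0 hr0)
      have hcP : (c0 : G) ∈ Subgroup.centralizer (P : Set G) :=
        h4 (c0 : G) c0.2 (by rw [← hRdef]; exact hcR)
      have hn0 : orderOf (c0 : G) ≠ 0 := (orderOf_pos _).ne'
      obtain ⟨x, hxdef⟩ : ∃ x : G, x = (c0 : G) ^ (p ^ (orderOf (c0 : G)).factorization p) :=
        ⟨_, rfl⟩
      have hxord : (Nat.card (Subgroup.zpowers x)).Coprime p := by
        rw [Nat.card_zpowers, hxdef, orderOf_pow,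
          Nat.gcd_eq_right (Nat.ordProj_dvd (orderOf (c0 : G)) p)]
        exact (Nat.coprime_ordCompl (Fact.out : p.Prime) hn0).symm
      have hxD : Subgroup.zpowers x ≤ Subgroup.centralizer (P : Set G) := by
        rw [Subgroup.zpowers_le, hxdef]; exact Subgroup.pow_mem _ hcP _
      have hxC : Q ⊓ Subgroup.centralizer (P : Set G) ≤
          Subgroup.centralizer ((Subgroup.zpowers x : Subgroup G) : Set G) := by
        intro y hy
        have hyR := hCQR hy
        rw [Cfsg.Agent.Lib.Helper4.Replace.mem_centralizer_iff_le, Subgroup.zpowers_le,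
          Subgroup.mem_centralizer_iff]
        intro h hh
        rw [Set.mem_singleton_iff.mp hh, hxdef]
        exact ((show Commute y (c0 : G) from hcR y hyR).pow_right _)
      have hxbot := hkill _ hxord hxD hxC
      have hx1 : x = 1 := by
        have hmem : x ∈ Subgroup.zpowers x := Subgroup.mem_zpowers x
        rw [hxbot, Subgroup.mem_bot] at hmem
        exact hmem
      refine ⟨(orderOf (c0 : G)).factorization p, ?_⟩
      apply Subtype.ext
      apply Subtype.ext
      show (c0 : G) ^ (p ^ (orderOf (c0 : G)).factorization p) = 1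
      rw [← hxdef]; exact hx1
    exact Cfsg.Agent.Lib.Helper9.le_pCore
      (inferInstance : (Subgroup.centralizer (pCore p M : Set M)).Normal) hCp

/-- a group mapping onto a group with `O_{p'} = 1` and `C(O_p) ≤ O_p` with `p'`-kernel is `p`-constrained -/
theorem lemmaT {A B : Type u} [Group A] [Group B] [Finite A] {p : ℕ} [Fact p.Prime]
    (f : A →* B) (hf : Function.Surjective f) (hker : (Nat.card f.ker).Coprime p)
    (hBO : pPrimeCore p B = ⊥)
    (hBQ : Subgroup.centralizer (pCore p B : Set B) ≤ pCore p B) : IsPConstrained p A := by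
  haveI : Finite B := Finite.of_surjective f hf
  have h1 : f.ker ≤ pPrimeCore p A :=
    Cfsg.Agent.Lib.Helper9.le_pPrimeCore (MonoidHom.normal_ker f) hker
  have h2 : pPrimeCore p A ≤ f.ker := by
    have hn : ((pPrimeCore p A).map f).Normal := (Cfsg.pPrimeCore_normal p A).map f hf
    have hc : (Nat.card ((pPrimeCore p A).map f)).Coprime p :=
      Nat.Coprime.coprime_dvd_left (Subgroup.card_map_dvd _ f)
        (Cfsg.Agent.Lib.Helper9.pPrimeCore_coprime p A)
    have hle := Cfsg.Agent.Lib.Helper9.le_pPrimeCore hn hc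
    rw [hBO] at hle
    intro x hx
    rw [MonoidHom.mem_ker]
    have h3 := hle (Subgroup.mem_map_of_mem f hx)
    rwa [Subgroup.mem_bot] at h3
  let φ : A ⧸ pPrimeCore p A →* B := QuotientGroup.lift (pPrimeCore p A) f h2
  have hφ : ∀ x : A, φ (QuotientGroup.mk' (pPrimeCore p A) x) = f x := fun x => rfl
  have hφinj : Function.Injective φ := by
    rw [injective_iff_map_eq_one]
    intro y hy
    obtain ⟨x, rfl⟩ := QuotientGroup.mk'_surjective _ y
    rw [hφ] at hy
    exact (QuotientGroup.eq_one_iff x).mpr (h1 (MonoidHom.mem_ker.mpr hy))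
  have hφsurj : Function.Surjective φ := fun b => by
    obtain ⟨a, rfl⟩ := hf b
    exact ⟨QuotientGroup.mk' _ a, hφ a⟩
  let e : A ⧸ pPrimeCore p A ≃* B := MulEquiv.ofBijective φ ⟨hφinj, hφsurj⟩
  have he : (pCore p (A ⧸ pPrimeCore p A)).map e.toMonoidHom = pCore p B :=
    Cfsg.Agent.Lib.Helper9.pCore_map_equiv p e
  have he' : (pCore p (A ⧸ pPrimeCore p A)).map φ = pCore p B := he
  intro P' c hc
  have h3 := Cfsg.Agent.S0630.sylow_map_eq p P'
  have h4 : ((P' : Subgroup _).map (pPrimePCore p A).subtype).map f = pCore p B := by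
    have hcomp : f = φ.comp (QuotientGroup.mk' (pPrimeCore p A)) := by ext x; rfl
    rw [hcomp, ← Subgroup.map_map, h3, he']
  have h5 := Cfsg.Agent.Lib.Helper4.PPrimeQuot.cent_map f _ hc
  rw [h4] at h5
  have h6 := hBQ h5
  show QuotientGroup.mk' (pPrimeCore p A) c ∈ pCore p (A ⧸ pPrimeCore p A)
  rw [← he'] at h6
  obtain ⟨y, hy, hyc⟩ := h6
  have h7 : y = QuotientGroup.mk' (pPrimeCore p A) c := hφinj (by rw [hyc, hφ])
  rw [← h7]; exact hy

/-- In a p-constrained group the normalizer and the centralizer of any p-subgroup are again p-constrained. -/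
theorem result {G : Type*} [Group G] [Finite G] {p : ℕ} [Fact p.Prime] (hG : Cfsg.IsPConstrained p G) (P : Subgroup G) (hP : IsPGroup p P) : Cfsg.IsPConstrained p ↥(Subgroup.normalizer (P : Set G)) ∧ Cfsg.IsPConstrained p ↥(Subgroup.centralizer (P : Set G)) := by
  classical
  have hO := Cfsg.Agent.Lib.Helper9.pPrimeCore_coprime p G
  have hbot := Cfsg.Agent.Lib.Helper9.pPrimeCore_quotient_eq_bot p G
  have hGb : IsPConstrained p (G ⧸ pPrimeCore p G) := Cfsg.Agent.S0630.result.mp hG
  have hQb := good_of_constrained hbot hGb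
  have hPb : IsPGroup p (P.map (QuotientGroup.mk' (pPrimeCore p G))) := hP.map _
  constructor
  · have h3N : ∀ D : Subgroup (G ⧸ pPrimeCore p G),
        D ≤ Subgroup.normalizer ((P.map (QuotientGroup.mk' (pPrimeCore p G)) : Subgroup (G ⧸ pPrimeCore p G)) : Set (G ⧸ pPrimeCore p G)) →
        (∀ m ∈ Subgroup.normalizer ((P.map (QuotientGroup.mk' (pPrimeCore p G)) : Subgroup (G ⧸ pPrimeCore p G)) : Set (G ⧸ pPrimeCore p G)),
          ∀ d ∈ D, m * d * m⁻¹ ∈ D) →
        (Nat.card D).Coprime p →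
        D ≤ Subgroup.centralizer ((P.map (QuotientGroup.mk' (pPrimeCore p G)) : Subgroup (G ⧸ pPrimeCore p G)) : Set (G ⧸ pPrimeCore p G)) := by
      intro D hDM hDn hDc d hd
      rw [Subgroup.mem_centralizer_iff]
      intro x hx
      have hdN := hDM hd
      have h1 : d * x * d⁻¹ * x⁻¹ ∈ P.map (QuotientGroup.mk' (pPrimeCore p G)) :=
        Subgroup.mul_mem _ ((Subgroup.mem_normalizer_iff.mp hdN x).mp hx) (Subgroup.inv_mem _ hx)
      have h2 : d * x * d⁻¹ * x⁻¹ ∈ D := by
        have h3 : x * d⁻¹ * x⁻¹ ∈ D := hDn x (Subgroup.le_normalizer hx) d⁻¹ (D.inv_mem hd)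
        have h4 : d * x * d⁻¹ * x⁻¹ = d * (x * d⁻¹ * x⁻¹) := by group
        rw [h4]; exact D.mul_mem hd h3
      have h5 := Cfsg.Agent.Lib.Helper4.PPrimeQuot.eq_one_of_mem hDc hPb h1 h2
      have h6 : x * d = (d * x * d⁻¹ * x⁻¹)⁻¹ * (d * x) := by group
      rw [h6, h5, inv_one, one_mul]
    have h4N : ∀ c ∈ Subgroup.normalizer ((P.map (QuotientGroup.mk' (pPrimeCore p G)) : Subgroup (G ⧸ pPrimeCore p G)) : Set (G ⧸ pPrimeCore p G)),
        (∀ r ∈ (pCore p (Subgroup.normalizer
          ((P.map (QuotientGroup.mk' (pPrimeCore p G)) : Subgroup (G ⧸ pPrimeCore p G)) : Set (G ⧸ pPrimeCore p G)))).map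
            (Subgroup.normalizer ((P.map (QuotientGroup.mk' (pPrimeCore p G)) : Subgroup (G ⧸ pPrimeCore p G)) : Set (G ⧸ pPrimeCore p G))).subtype,
          r * c = c * r) →
        c ∈ Subgroup.centralizer ((P.map (QuotientGroup.mk' (pPrimeCore p G)) : Subgroup (G ⧸ pPrimeCore p G)) : Set (G ⧸ pPrimeCore p G)) := by
      intro c _ hcr
      rw [Subgroup.mem_centralizer_iff]
      intro x hx
      apply hcr
      have hle := Cfsg.Agent.Lib.Helper9.le_pCore
        (inferInstance : ((P.map (QuotientGroup.mk' (pPrimeCore p G))).subgroupOf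
          (Subgroup.normalizer ((P.map (QuotientGroup.mk' (pPrimeCore p G)) : Subgroup (G ⧸ pPrimeCore p G)) : Set (G ⧸ pPrimeCore p G)))).Normal)
        hPb.comap_subtype
      exact ⟨⟨x, Subgroup.le_normalizer hx⟩, hle (Subgroup.mem_subgroupOf.mpr hx), rfl⟩
    have hK := lemmaK hQb (P.map (QuotientGroup.mk' (pPrimeCore p G)))
      (Subgroup.normalizer ((P.map (QuotientGroup.mk' (pPrimeCore p G)) : Subgroup (G ⧸ pPrimeCore p G)) : Set (G ⧸ pPrimeCore p G))) hPb
      (Subgroup.centralizer_le_normalizer _) le_rfl h3N h4N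
    let f : ↥(Subgroup.normalizer (P : Set G)) →*
        ↥(Subgroup.normalizer ((P.map (QuotientGroup.mk' (pPrimeCore p G)) : Subgroup (G ⧸ pPrimeCore p G)) : Set (G ⧸ pPrimeCore p G))) :=
      ((QuotientGroup.mk' (pPrimeCore p G)).comp (Subgroup.normalizer (P : Set G)).subtype).codRestrict _
        (fun n => Cfsg.Agent.Lib.Helper4.PPrimeQuot.norm_map _ P n.2)
    have hf : Function.Surjective f := by
      rintro ⟨y, hy⟩
      obtain ⟨g, rfl⟩ := QuotientGroup.mk'_surjective _ y
      obtain ⟨u, hu, hn⟩ := Cfsg.Agent.Lib.Helper4.PPrimeQuot.norm_lift hO hP g hy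
      refine ⟨⟨u * g, hn⟩, Subtype.ext ?_⟩
      show QuotientGroup.mk' (pPrimeCore p G) (u * g) = QuotientGroup.mk' (pPrimeCore p G) g
      have hu1 : QuotientGroup.mk' (pPrimeCore p G) u = 1 := (QuotientGroup.eq_one_iff u).mpr hu
      rw [map_mul, hu1, one_mul]
    have hker : (Nat.card f.ker).Coprime p := by
      have h1 : (f.ker.map (Subgroup.normalizer (P : Set G)).subtype) ≤ pPrimeCore p G := by
        rintro _ ⟨x, hx, rfl⟩
        have hx' : x ∈ f.ker := hx
        rw [MonoidHom.mem_ker] at hx'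
        have h2 : QuotientGroup.mk' (pPrimeCore p G) (x : G) = 1 :=
          congrArg (Subtype.val : ↥(Subgroup.normalizer
            ((P.map (QuotientGroup.mk' (pPrimeCore p G)) : Subgroup (G ⧸ pPrimeCore p G)) : Set (G ⧸ pPrimeCore p G))) → _) hx'
        exact (QuotientGroup.eq_one_iff _).mp h2
      have h2 := Subgroup.card_dvd_of_le h1
      rw [Subgroup.card_map_of_injective (Subgroup.subtype_injective _)] at h2
      exact Nat.Coprime.coprime_dvd_left h2 hO
    exact lemmaT f hf hker hK.1 hK.2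
  · have h3C : ∀ D : Subgroup (G ⧸ pPrimeCore p G),
        D ≤ Subgroup.centralizer ((P.map (QuotientGroup.mk' (pPrimeCore p G)) : Subgroup (G ⧸ pPrimeCore p G)) : Set (G ⧸ pPrimeCore p G)) →
        (∀ m ∈ Subgroup.centralizer ((P.map (QuotientGroup.mk' (pPrimeCore p G)) : Subgroup (G ⧸ pPrimeCore p G)) : Set (G ⧸ pPrimeCore p G)),
          ∀ d ∈ D, m * d * m⁻¹ ∈ D) →
        (Nat.card D).Coprime p →
        D ≤ Subgroup.centralizer ((P.map (QuotientGroup.mk' (pPrimeCore p G)) : Subgroup (G ⧸ pPrimeCore p G)) : Set (G ⧸ pPrimeCore p G)) :=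
      fun D hDM _ _ => hDM
    have hK := lemmaK hQb (P.map (QuotientGroup.mk' (pPrimeCore p G)))
      (Subgroup.centralizer ((P.map (QuotientGroup.mk' (pPrimeCore p G)) : Subgroup (G ⧸ pPrimeCore p G)) : Set (G ⧸ pPrimeCore p G))) hPb
      le_rfl (Subgroup.centralizer_le_normalizer _) h3C (fun c hc _ => hc)
    let f : ↥(Subgroup.centralizer (P : Set G)) →*
        ↥(Subgroup.centralizer ((P.map (QuotientGroup.mk' (pPrimeCore p G)) : Subgroup (G ⧸ pPrimeCore p G)) : Set (G ⧸ pPrimeCore p G))) :=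
      ((QuotientGroup.mk' (pPrimeCore p G)).comp (Subgroup.centralizer (P : Set G)).subtype).codRestrict _
        (fun n => Cfsg.Agent.Lib.Helper4.PPrimeQuot.cent_map _ P n.2)
    have hf : Function.Surjective f := by
      rintro ⟨y, hy⟩
      obtain ⟨g, rfl⟩ := QuotientGroup.mk'_surjective _ y
      obtain ⟨u, hu, hn⟩ := Cfsg.Agent.Lib.Helper4.PPrimeQuot.cent_lift hO hP g hy
      refine ⟨⟨u * g, hn⟩, Subtype.ext ?_⟩
      show QuotientGroup.mk' (pPrimeCore p G) (u * g) = QuotientGroup.mk' (pPrimeCore p G) g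
      have hu1 : QuotientGroup.mk' (pPrimeCore p G) u = 1 := (QuotientGroup.eq_one_iff u).mpr hu
      rw [map_mul, hu1, one_mul]
    have hker : (Nat.card f.ker).Coprime p := by
      have h1 : (f.ker.map (Subgroup.centralizer (P : Set G)).subtype) ≤ pPrimeCore p G := by
        rintro _ ⟨x, hx, rfl⟩
        have hx' : x ∈ f.ker := hx
        rw [MonoidHom.mem_ker] at hx'
        have h2 : QuotientGroup.mk' (pPrimeCore p G) (x : G) = 1 :=
          congrArg (Subtype.val : ↥(Subgroup.centralizer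
            ((P.map (QuotientGroup.mk' (pPrimeCore p G)) : Subgroup (G ⧸ pPrimeCore p G)) : Set (G ⧸ pPrimeCore p G))) → _) hx'
        exact (QuotientGroup.eq_one_iff _).mp h2
      have h2 := Subgroup.card_dvd_of_le h1
      rw [Subgroup.card_map_of_injective (Subgroup.subtype_injective _)] at h2
      exact Nat.Coprime.coprime_dvd_left h2 hO
    exact lemmaT f hf hker hK.1 hK.2

end Cfsg.Agent.S0631
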