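import Cfsg.Statements.S0667
import Mathlib
import Cfsg.Agent.Lib.Helper5.ZJMap

set_option autoImplicit false
open Cfsg

namespace Cfsg.Agent.S0667

open Cfsg.Agent.Lib.Helper5

/-- Glauberman's Theorem in the p-constrained, p-stable vocabulary: for odd p such a group is the product of its largest normal subgroup of order prime to p with the normalizer of Z(J(P)), and Z(J(P)) is normal when that p'-subgroup is trivial. -/
theorem result {G : Type*} [Group G] [Finite G] {p : ℕ} [Fact p.Prime] (hp : p ≠ 2) (hc : Cfsg.IsPConstrained p G) (hs : Cfsg.IsPStable p G) (P : Sylow p G) : Cfsg.pPrimeCore p G ⊔ Subgroup.normalizer (Cfsg.centerThompsonAOf ((P : Subgroup G)) : Set G) = ⊤ ∧ (Cfsg.pPrimeCore p G = ⊥ → (Cfsg.centerThompsonAOf ((P : Subgroup G))).Normal) := by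
  classical
  have hO := Cfsg.Agent.Lib.Helper9.pPrimeCore_coprime p G
  have hbot := Cfsg.Agent.Lib.Helper9.pPrimeCore_quotient_eq_bot p G
  have hGb : IsPConstrained p (G ⧸ pPrimeCore p G) := Cfsg.Agent.S0630.result.mp hc
  have hQb := Cfsg.Agent.S0631.good_of_constrained hbot hGb
  have hst : ∀ (V : Subgroup (G ⧸ pPrimeCore p G)) [V.Normal], IsPGroup p V → IsPStableOn p V :=
    fun V _ hV => ZJMap.stableOn_quot hs V hV
  have hchar := Cfsg.Agent.S0653.result hp hQb hst
    (P.mapSurjective (QuotientGroup.mk'_surjective (pPrimeCore p G)))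
  have hPinj : ∀ x ∈ (P : Subgroup G), QuotientGroup.mk' (pPrimeCore p G) x = 1 → x = 1 :=
    fun x hx h => Cfsg.Agent.Lib.Helper4.PPrimeQuot.eq_one_of_mem hO P.isPGroup' hx
      ((QuotientGroup.eq_one_iff x).mp h)
  have hmap : centerThompsonAOf ((P.mapSurjective (QuotientGroup.mk'_surjective (pPrimeCore p G)) :
      Sylow p (G ⧸ pPrimeCore p G)) : Subgroup (G ⧸ pPrimeCore p G)) =
      (centerThompsonAOf (P : Subgroup G)).map (QuotientGroup.mk' (pPrimeCore p G)) := by
    rw [Sylow.coe_mapSurjective]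
    exact ZJMap.center_map _ _ hPinj
  have hZn : ((centerThompsonAOf (P : Subgroup G)).map
      (QuotientGroup.mk' (pPrimeCore p G))).Normal := by
    rw [← hmap]
    exact Subgroup.normal_of_characteristic _
  have hZp : IsPGroup p (centerThompsonAOf (P : Subgroup G)) :=
    P.isPGroup'.to_le (ZJMap.center_le _)
  have h1 : pPrimeCore p G ⊔ Subgroup.normalizer (centerThompsonAOf (P : Subgroup G) : Set G) = ⊤ := by
    rw [eq_top_iff]
    intro g _
    have hg : QuotientGroup.mk' (pPrimeCore p G) g ∈ Subgroup.normalizer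
        (((centerThompsonAOf (P : Subgroup G)).map (QuotientGroup.mk' (pPrimeCore p G)) :
          Subgroup (G ⧸ pPrimeCore p G)) : Set (G ⧸ pPrimeCore p G)) := by
      rw [Subgroup.normalizer_eq_top]; exact Subgroup.mem_top _
    obtain ⟨u, hu, hn⟩ := Cfsg.Agent.Lib.Helper4.PPrimeQuot.norm_lift hO hZp g hg
    have h2 : g = u⁻¹ * (u * g) := by group
    rw [h2]
    exact Subgroup.mul_mem _ (Subgroup.mem_sup_left (Subgroup.inv_mem _ hu))
      (Subgroup.mem_sup_right hn)
  refine ⟨h1, fun hK => ?_⟩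
  rw [hK, bot_sup_eq] at h1
  exact Subgroup.normalizer_eq_top_iff.mp h1

end Cfsg.Agent.S0667
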