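import Cfsg.Statements.S0658
import Mathlib
import Cfsg.Agent.Lib.Helper5.ZJMap
import Cfsg.Agent.S0667

set_option autoImplicit false
open Cfsg

namespace Cfsg.Agent.S0658

open Cfsg.Agent.Lib.Helper5
open scoped Pointwise

section aux

variable {G : Type*} [Group G] [Finite G]

theorem norm_center {R : Subgroup G} {x : G} (hx : x ∈ Subgroup.normalizer (R : Set G)) :
    x ∈ Subgroup.normalizer (centerThompsonAOf R : Set G) := by
  rw [Subgroup.mem_normalizer_iff_map_conj_eq] at hx ⊢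
  have h := ZJMap.center_map (MulAut.conj x).toMonoidHom R (fun y _ hy =>
    (MulAut.conj x).injective (hy.trans (map_one (MulAut.conj x)).symm))
  have hx' : R.map (MulAut.conj x).toMonoidHom = R := hx
  rw [hx'] at h
  exact h.symm

theorem central_mem {R : Subgroup G} {x : G} (hxR : x ∈ R) (hxa : ∀ r ∈ R, r * x = x * r) :
    x ∈ centerThompsonAOf R := by
  rw [S0653.center_eq, Subgroup.mem_sInf]
  intro A hA
  have hAc := ZJFam.comm_of hA.2.1
  have hk : ∀ u ∈ (A : Set G) ∪ {x}, ∀ v ∈ (A : Set G) ∪ {x}, u * v = v * u := by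
    rintro u (hu | hu) v (hv | hv)
    · exact hAc u hu v hv
    · rw [Set.mem_singleton_iff] at hv; rw [hv]; exact hxa u (hA.1 hu)
    · rw [Set.mem_singleton_iff] at hu; rw [hu]; exact (hxa v (hA.1 hv)).symm
    · rw [Set.mem_singleton_iff] at hu hv; rw [hu, hv]
  have hTc : IsMulCommutative (Subgroup.closure ((A : Set G) ∪ {x})) :=
    ZJFam.isComm_of (ZJFam.closure_comm hk)
  have hTP : Subgroup.closure ((A : Set G) ∪ {x}) ≤ R := by
    rw [Subgroup.closure_le]
    rintro u (hu | hu)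
    · exact hA.1 hu
    · rw [Set.mem_singleton_iff] at hu; rw [hu]; exact hxR
  have hcard := hA.2.2.2 _ hTP hTc trivial
  have hAT : A ≤ Subgroup.closure ((A : Set G) ∪ {x}) := fun a ha =>
    Subgroup.subset_closure (Or.inl ha)
  have heq := Subgroup.eq_of_le_of_card_ge hAT hcard
  rw [heq]
  exact Subgroup.subset_closure (Or.inr rfl)

theorem center_ne_bot {p : ℕ} [Fact p.Prime] {R : Subgroup G} (hR : IsPGroup p R)
    (hR1 : R ≠ ⊥) : centerThompsonAOf R ≠ ⊥ := by
  have : Nontrivial ↥R := (Subgroup.nontrivial_iff_ne_bot R).mpr hR1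
  have := hR.center_nontrivial
  obtain ⟨⟨z', hz'⟩, hz1⟩ := exists_ne (1 : Subgroup.center ↥R)
  have hzne : (z' : G) ≠ 1 := fun h => hz1 (Subtype.ext (Subtype.ext h))
  intro hbot
  apply hzne
  have hmem : (z' : G) ∈ centerThompsonAOf R := by
    apply central_mem z'.2
    intro r hr
    have h := Subgroup.mem_center_iff.mp hz' ⟨r, hr⟩
    exact congrArg Subtype.val h
  rw [hbot, Subgroup.mem_bot] at hmem
  exact hmem

theorem normalizer_grow {p : ℕ} [Fact p.Prime] {P R : Subgroup G} (hP : IsPGroup p P)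
    (hRP : R ≤ P) (hne : R ≠ P) :
    ∃ z ∈ P, z ∉ R ∧ z ∈ Subgroup.normalizer (R : Set G) := by
  have h1 : ¬ (⊤ : Subgroup ↥P) ≤ R.subgroupOf P := by
    intro h
    apply hne
    apply le_antisymm hRP
    intro x hx
    exact h (Subgroup.mem_top (⟨x, hx⟩ : ↥P))
  obtain ⟨b, -, hbN, hbn⟩ := S0651.exists_normalizing hP ⊤ (R.subgroupOf P) h1
  refine ⟨b.1, b.2, fun h => hbN (Subgroup.mem_subgroupOf.mpr h), ?_⟩
  apply S0650.mem_normalizer_fin
  intro x hx
  have h2 := (Subgroup.mem_normalizer_iff.1 hbn ⟨x, hRP hx⟩).1 (Subgroup.mem_subgroupOf.mpr hx)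
  exact Subgroup.mem_subgroupOf.mp h2

theorem exists_conj_le {p : ℕ} [Fact p.Prime] (P : Sylow p G) (M : Subgroup G)
    (hPM : (P : Subgroup G) ≤ M) (U : Subgroup G) (hU : IsPGroup p U) (hUM : U ≤ M) :
    ∃ m ∈ M, ∀ u ∈ U, m * u * m⁻¹ ∈ (P : Subgroup G) := by
  obtain ⟨P', hP'⟩ := (hU.comap_subtype (K := M)).exists_le_sylow
  obtain ⟨h, hh⟩ := MulAction.exists_smul_eq M P' (P.subtype hPM)
  refine ⟨h.1, h.2, fun u hu => ?_⟩
  have h1 : (⟨u, hUM hu⟩ : M) ∈ P' := hP' (show (⟨u, hUM hu⟩ : M) ∈ U.comap M.subtype from hu)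
  have h2 : (h * ⟨u, hUM hu⟩ * h⁻¹ : M) ∈ (P.subtype hPM : Subgroup M) := by
    rw [← hh]
    show _ ∈ (MulAut.conj h • (P' : Subgroup M) : Subgroup M)
    rw [Subgroup.mem_pointwise_smul_iff_inv_smul_mem]
    have h3 : (MulAut.conj h)⁻¹ • (h * ⟨u, hUM hu⟩ * h⁻¹ : M) = ⟨u, hUM hu⟩ := by
      rw [← map_inv, MulAut.smul_def, MulAut.conj_apply, inv_inv]; group
    rw [h3]; exact h1
  exact h2

theorem card_lt_of {H K : Subgroup G} (h : H ≤ K) {x : G} (hxK : x ∈ K) (hxH : x ∉ H) :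
    Nat.card H < Nat.card K := by
  by_contra hcon
  push Not at hcon
  have h1 := Subgroup.eq_of_le_of_card_ge h hcon
  rw [h1] at hxH
  exact hxH hxK

theorem local_fact {p : ℕ} [Fact p.Prime] (hp : p ≠ 2) (Q : Subgroup G)
    (hN : Cfsg.pPrimeCore p ↥(Subgroup.normalizer (Q : Set G)) = ⊥ ∧
      Cfsg.IsPConstrained p ↥(Subgroup.normalizer (Q : Set G)) ∧
      Cfsg.IsPStable p ↥(Subgroup.normalizer (Q : Set G)))
    (T' : Sylow p ↥(Subgroup.normalizer (Q : Set G))) :
    Subgroup.normalizer (Q : Set G) ≤ Subgroup.normalizer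
      (centerThompsonAOf ((T' : Subgroup ↥(Subgroup.normalizer (Q : Set G))).map
        (Subgroup.normalizer (Q : Set G)).subtype) : Set G) := by
  have hn := (Cfsg.Agent.S0667.result hp hN.2.1 hN.2.2 T').2 hN.1
  rw [ZJMap.center_map (Subgroup.normalizer (Q : Set G)).subtype
    (T' : Subgroup ↥(Subgroup.normalizer (Q : Set G)))
    (fun x _ h => Subtype.ext h)]
  intro n hnN
  apply S0650.mem_normalizer_fin
  rintro _ ⟨z, hz, rfl⟩
  exact ⟨⟨n, hnN⟩ * z * ⟨n, hnN⟩⁻¹, hn.conj_mem z hz ⟨n, hnN⟩, rfl⟩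

theorem main {p : ℕ} [Fact p.Prime] (hp : p ≠ 2)
    (hloc : ∀ Q : Subgroup G, IsPGroup p Q → Q ≠ ⊥ →
      Cfsg.pPrimeCore p ↥(Subgroup.normalizer (Q : Set G)) = ⊥ ∧
      Cfsg.IsPConstrained p ↥(Subgroup.normalizer (Q : Set G)) ∧
      Cfsg.IsPStable p ↥(Subgroup.normalizer (Q : Set G)))
    (P : Sylow p G) : ∀ (n : ℕ) (Q : Subgroup G), Q ≤ (P : Subgroup G) → Q ≠ ⊥ →
      Nat.card (P : Subgroup G) -
        Nat.card ((P : Subgroup G) ⊓ Subgroup.normalizer (Q : Set G) : Subgroup G) = n →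
      Subgroup.normalizer (Q : Set G) ≤
        Subgroup.normalizer (centerThompsonAOf (P : Subgroup G) : Set G) := by
  intro n
  induction n using Nat.strong_induction_on with
  | _ n ih =>
  intro Q hQP hQ1 hn
  have hPp : IsPGroup p (P : Subgroup G) := P.isPGroup'
  have hQp : IsPGroup p Q := hPp.to_le hQP
  have hcardle : ∀ Q' : Subgroup G,
      Nat.card ((P : Subgroup G) ⊓ Subgroup.normalizer (Q' : Set G) : Subgroup G) ≤
        Nat.card (P : Subgroup G) :=
    fun Q' => Subgroup.card_le_of_le inf_le_left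
  have IH : ∀ Q' : Subgroup G, Q' ≤ (P : Subgroup G) → Q' ≠ ⊥ →
      Nat.card ((P : Subgroup G) ⊓ Subgroup.normalizer (Q : Set G) : Subgroup G) <
        Nat.card ((P : Subgroup G) ⊓ Subgroup.normalizer (Q' : Set G) : Subgroup G) →
      Subgroup.normalizer (Q' : Set G) ≤
        Subgroup.normalizer (centerThompsonAOf (P : Subgroup G) : Set G) := by
    intro Q' h1 h2 h3
    have h4 := hcardle Q'
    have h5 := hcardle Q
    exact ih _ (by omega) Q' h1 h2 rfl
  obtain ⟨R, hR⟩ : ∃ R : Subgroup G,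
      R = (P : Subgroup G) ⊓ Subgroup.normalizer (Q : Set G) := ⟨_, rfl⟩
  rw [← hR] at IH
  have hRP : R ≤ (P : Subgroup G) := by rw [hR]; exact inf_le_left
  have hRN : R ≤ Subgroup.normalizer (Q : Set G) := by rw [hR]; exact inf_le_right
  have hQR : Q ≤ R := by rw [hR]; exact le_inf hQP Subgroup.le_normalizer
  have hRp : IsPGroup p R := hPp.to_le hRP
  have hR1 : R ≠ ⊥ := by
    intro h
    apply hQ1
    rw [h] at hQR
    exact le_bot_iff.mp hQR
  have hlocQ := hloc Q hQp hQ1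
  by_cases hRPeq : R = (P : Subgroup G)
  · have hPN : (P : Subgroup G) ≤ Subgroup.normalizer (Q : Set G) := by rw [← hRPeq]; exact hRN
    have h1 := local_fact hp Q hlocQ (P.subtype hPN)
    rw [Sylow.coe_subtype, Subgroup.subgroupOf_map_subtype, inf_of_le_left hPN] at h1
    exact h1
  · obtain ⟨z, hzP, hzR, hzN⟩ := normalizer_grow hPp hRP hRPeq
    have hRlt : Nat.card R <
        Nat.card ((P : Subgroup G) ⊓ Subgroup.normalizer (R : Set G) : Subgroup G) :=
      card_lt_of (le_inf hRP Subgroup.le_normalizer) (Subgroup.mem_inf.mpr ⟨hzP, hzN⟩) hzR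
    have hNR : Subgroup.normalizer (R : Set G) ≤
        Subgroup.normalizer (centerThompsonAOf (P : Subgroup G) : Set G) :=
      IH R hRP hR1 hRlt
    obtain ⟨T', hT'⟩ :=
      (hRp.comap_subtype (K := Subgroup.normalizer (Q : Set G))).exists_le_sylow
    obtain ⟨T, hT⟩ : ∃ T : Subgroup G,
        T = (T' : Subgroup _).map (Subgroup.normalizer (Q : Set G)).subtype := ⟨_, rfl⟩
    have hTp : IsPGroup p T := by rw [hT]; exact T'.isPGroup'.map _
    have hTN : T ≤ Subgroup.normalizer (Q : Set G) := by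
      rw [hT]; exact Subgroup.map_subtype_le _
    have hRT : R ≤ T := by
      intro r hr
      rw [hT]
      exact ⟨⟨r, hRN hr⟩, hT' (show (⟨r, hRN hr⟩ : Subgroup.normalizer (Q : Set G)) ∈
        R.comap (Subgroup.normalizer (Q : Set G)).subtype from hr), rfl⟩
    have hLF := local_fact hp Q hlocQ T'
    rw [← hT] at hLF
    by_cases hRT' : R = T
    · rw [← hRT'] at hLF
      have hZR : centerThompsonAOf R ≤ R := ZJMap.center_le R
      have h1 : Nat.card R < Nat.card ((P : Subgroup G) ⊓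
          Subgroup.normalizer (centerThompsonAOf R : Set G) : Subgroup G) :=
        card_lt_of (le_inf hRP (fun x hx => norm_center (Subgroup.le_normalizer hx)))
          (Subgroup.mem_inf.mpr ⟨hzP, norm_center hzN⟩) hzR
      exact hLF.trans (IH _ (hZR.trans hRP) (center_ne_bot hRp hR1) h1)
    · obtain ⟨y, hyT, hyR, hyN⟩ := normalizer_grow hTp hRT hRT'
      obtain ⟨U, hU⟩ : ∃ U : Subgroup G, U = R ⊔ Subgroup.zpowers y := ⟨_, rfl⟩
      have hUT : U ≤ T := by rw [hU]; exact sup_le hRT (Subgroup.zpowers_le.mpr hyT)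
      have hUp : IsPGroup p U := hTp.to_le hUT
      have hUM : U ≤ Subgroup.normalizer (centerThompsonAOf (P : Subgroup G) : Set G) := by
        rw [hU]
        exact (sup_le Subgroup.le_normalizer (Subgroup.zpowers_le.mpr hyN)).trans hNR
      have hPM : (P : Subgroup G) ≤
          Subgroup.normalizer (centerThompsonAOf (P : Subgroup G) : Set G) :=
        fun x hx => norm_center (Subgroup.le_normalizer hx)
      obtain ⟨m, hmM, hmU⟩ := exists_conj_le P _ hPM U hUp hUM
      obtain ⟨Q₂, hQ₂⟩ : ∃ Q₂ : Subgroup G, Q₂ = Q.map (MulAut.conj m).toMonoidHom := ⟨_, rfl⟩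
      have hRU : R ≤ U := by rw [hU]; exact le_sup_left
      have hyU : y ∈ U := by rw [hU]; exact Subgroup.mem_sup_right (Subgroup.mem_zpowers y)
      have hQ₂P : Q₂ ≤ (P : Subgroup G) := by
        rw [hQ₂]
        rintro _ ⟨q, hq, rfl⟩
        exact hmU q (hRU (hQR hq))
      have hQ₂1 : Q₂ ≠ ⊥ := by
        intro h
        apply hQ1
        rw [hQ₂] at h
        exact (Subgroup.map_eq_bot_iff_of_injective _ (MulAut.conj m).injective).mp h
      have hconjN : ∀ n ∈ Subgroup.normalizer (Q : Set G),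
          m * n * m⁻¹ ∈ Subgroup.normalizer (Q₂ : Set G) := by
        intro n hn
        apply S0650.mem_normalizer_fin
        rw [hQ₂]
        rintro _ ⟨q, hq, rfl⟩
        refine ⟨n * q * n⁻¹, (Subgroup.mem_normalizer_iff.mp hn q).mp hq, ?_⟩
        show m * (n * q * n⁻¹) * m⁻¹ = m * n * m⁻¹ * (m * q * m⁻¹) * (m * n * m⁻¹)⁻¹
        group
      have hcard2 : Nat.card R <
          Nat.card ((P : Subgroup G) ⊓ Subgroup.normalizer (Q₂ : Set G) : Subgroup G) := by
        have h1 : U.map (MulAut.conj m).toMonoidHom ≤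
            (P : Subgroup G) ⊓ Subgroup.normalizer (Q₂ : Set G) := by
          rintro _ ⟨u, hu, rfl⟩
          exact Subgroup.mem_inf.mpr ⟨hmU u hu, hconjN u (hTN (hUT hu))⟩
        have h2 := Subgroup.card_le_of_le h1
        rw [Subgroup.card_map_of_injective (MulAut.conj m).injective] at h2
        exact lt_of_lt_of_le (card_lt_of hRU hyU hyR) h2
      have h3 := IH Q₂ hQ₂P hQ₂1 hcard2
      intro n hn
      have h4 := h3 (hconjN n hn)
      have h5 : n = m⁻¹ * (m * n * m⁻¹) * m := by group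
      rw [h5]
      exact Subgroup.mul_mem _ (Subgroup.mul_mem _ (Subgroup.inv_mem _ hmM) h4) hmM

end aux

/-- In a group of characteristic p type all of whose p-locals are p-stable (p odd), the normalizer of Z(J(P)) contains the normalizer of every nontrivial subgroup of the Sylow p-subgroup P. -/
theorem result {G : Type*} [Group G] [Finite G] {p : ℕ} [Fact p.Prime] (hp : p ≠ 2) (hloc : ∀ Q : Subgroup G, IsPGroup p Q → Q ≠ ⊥ → Cfsg.pPrimeCore p ↥(Subgroup.normalizer (Q : Set G)) = ⊥ ∧ Cfsg.IsPConstrained p ↥(Subgroup.normalizer (Q : Set G)) ∧ Cfsg.IsPStable p ↥(Subgroup.normalizer (Q : Set G))) (P : Sylow p G) (Q : Subgroup G) (hQP : Q ≤ (P : Subgroup G)) (hQ1 : Q ≠ ⊥) : Subgroup.normalizer (Q : Set G) ≤ Subgroup.normalizer (Cfsg.centerThompsonAOf ((P : Subgroup G)) : Set G) := by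
  exact main hp hloc P _ Q hQP hQ1 rfl

end Cfsg.Agent.S0658
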