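import Cfsg.Statements.S3078
import Mathlib
import Cfsg.Agent.S0650
import Cfsg.Agent.S0651
import Cfsg.Agent.S0654

set_option autoImplicit false
open Cfsg

namespace Cfsg.Agent.S3078

open Cfsg.Agent.S0650

theorem omegaOne_map {H G : Type*} [Group H] [Group G] (p : ℕ) (f : H →* G)
    (hf : Function.Injective f) (X : Subgroup H) :
    omegaOne p (X.map f) = (omegaOne p X).map f := by
  unfold omegaOne
  rw [MonoidHom.map_closure]
  congr 1
  ext x
  constructor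
  · rintro ⟨⟨x', hx', rfl⟩, hxp⟩
    refine ⟨x', ⟨hx', hf ?_⟩, rfl⟩
    rw [map_pow, hxp, map_one]
  · rintro ⟨x', ⟨hx', hxp⟩, rfl⟩
    exact ⟨⟨x', hx', rfl⟩, by rw [← map_pow, hxp, map_one]⟩

theorem omega_card {S : Type*} [Group S] [Finite S] {p : ℕ} [Fact p.Prime] (hp : p ≠ 2)
    (B : Subgroup S) [B.Normal] (A : Subgroup S) (hA : IsMulCommutative A) (hBA : ⁅B, B⁆ ≤ A)
    (b : S) (hb : b ∈ B)
    (hbN : b ∈ Subgroup.normalizer ((Subgroup.normalizer (A : Set S)) : Set S))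
    (hTab : IsMulCommutative ↥(Zb A b ⊔
      Subgroup.closure {g : S | ∃ a ∈ A, g = a * b⁻¹ * a⁻¹ * b})) :
    Nat.card (omegaOne p A) ≤ Nat.card (omegaOne p (Zb A b ⊔
      Subgroup.closure {g : S | ∃ a ∈ A, g = a * b⁻¹ * a⁻¹ * b})) := by
  have hAc : ∀ x ∈ A, ∀ y ∈ A, x * y = y * x := fun x hx y hy =>
    congrArg Subtype.val (hA.is_comm.comm ⟨x, hx⟩ ⟨y, hy⟩)
  have hBnorm : B.Normal := inferInstance
  have hBn : ∀ x ∈ B, ∀ g : S, g * x * g⁻¹ ∈ B := fun x hx g => hBnorm.conj_mem x hx g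
  have hBA' : ∀ x ∈ B, ∀ y ∈ B, x * y * x⁻¹ * y⁻¹ ∈ A := fun x hx y hy =>
    hBA (Subgroup.commutator_mem_commutator hx hy)
  have hNb : ∀ g ∈ Subgroup.normalizer (A : Set S),
      b * g * b⁻¹ ∈ Subgroup.normalizer (A : Set S) ∧
        b⁻¹ * g * b ∈ Subgroup.normalizer (A : Set S) := by
    intro g hg
    refine ⟨(Subgroup.mem_normalizer_iff.1 hbN g).1 hg, ?_⟩
    rw [Subgroup.mem_normalizer_iff.1 hbN (b⁻¹ * g * b)]
    have h1 : b * (b⁻¹ * g * b) * b⁻¹ = g := by group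
    rw [h1]; exact hg
  have hAN : A ≤ Subgroup.normalizer (A : Set S) := Subgroup.le_normalizer
  have hN1 : ∀ a ∈ A, ∀ x ∈ A, (b⁻¹ * a * b) * x * (b⁻¹ * a * b)⁻¹ ∈ A := fun a ha x hx =>
    (Subgroup.mem_normalizer_iff.1 (hNb a (hAN ha)).2 x).1 hx
  have hN2 : ∀ a ∈ A, ∀ x ∈ A, (b * a * b⁻¹) * x * (b * a * b⁻¹)⁻¹ ∈ A := fun a ha x hx =>
    (Subgroup.mem_normalizer_iff.1 (hNb a (hAN ha)).1 x).1 hx
  obtain ⟨T, hT⟩ : ∃ T : Subgroup S, T = Zb A b ⊔
      Subgroup.closure {g : S | ∃ a ∈ A, g = a * b⁻¹ * a⁻¹ * b} := ⟨_, rfl⟩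
  rw [← hT] at hTab ⊢
  have hTc : ∀ w ∈ T, ∀ w' ∈ T, w * w' = w' * w := fun x hx y hy =>
    congrArg Subtype.val (hTab.is_comm.comm ⟨x, hx⟩ ⟨y, hy⟩)
  have hZT : Zb A b ≤ T := by rw [hT]; exact le_sup_left
  have hcT : ∀ a ∈ A, a * b⁻¹ * a⁻¹ * b ∈ T := fun a ha => by
    rw [hT]; exact Subgroup.mem_sup_right (Subgroup.subset_closure ⟨a, ha, rfl⟩)
  have hE1 : ∀ x ∈ omegaOne p A, x ∈ A := by
    have h : omegaOne p A ≤ A := by
      unfold omegaOne
      rw [Subgroup.closure_le]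
      exact fun x hx => hx.1
    exact fun x hx => h hx
  have hE2 : ∀ x ∈ omegaOne p A, x ^ p = 1 := by
    unfold omegaOne
    apply Cfsg.Agent.S0654.pow_closure p
    · intro x hx y hy
      exact hAc x hx.1 y hy.1
    · intro x hx
      exact hx.2
  have hΩ1 : ∀ w ∈ omegaOne p T, w ∈ T := by
    have h : omegaOne p T ≤ T := by
      unfold omegaOne
      rw [Subgroup.closure_le]
      exact fun x hx => hx.1
    exact fun x hx => h hx
  have hΩ3 : ∀ w ∈ T, w ^ p = 1 → w ∈ omegaOne p T := fun w hw hwp =>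
    Subgroup.subset_closure ⟨hw, hwp⟩
  have hcp : ∀ a ∈ A, a ^ p = 1 → (a * b⁻¹ * a⁻¹ * b) ^ p = 1 := by
    intro a ha hap
    have hkZ : (b⁻¹ * a⁻¹ * b) * a * (b⁻¹ * a⁻¹ * b)⁻¹ * a⁻¹ ∈ Zb A b :=
      kap' A b hN1 hN2 ha (conjY A b (A.inv_mem ha))
    have hka := cenA A b hAc hkZ ha
    have hky := cenY A b hAc hkZ (conjY A b (A.inv_mem ha))
    have hya : (b⁻¹ * a⁻¹ * b) * a =
        ((b⁻¹ * a⁻¹ * b) * a * (b⁻¹ * a⁻¹ * b)⁻¹ * a⁻¹) * a * (b⁻¹ * a⁻¹ * b) := by group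
    have h7 : (b⁻¹ * a⁻¹ * b) ^ p = 1 := by
      have h8 := conj_pow (a := b⁻¹) (b := a⁻¹) (i := p)
      rw [inv_inv] at h8
      rw [h8, inv_pow, hap]
      group
    have hkp : ((b⁻¹ * a⁻¹ * b) * a * (b⁻¹ * a⁻¹ * b)⁻¹ * a⁻¹) ^ p = 1 := by
      have h := pow_conj_comm a (b⁻¹ * a⁻¹ * b) _ hky hya p
      rw [h7, one_mul, mul_one] at h
      exact mul_right_cancel (h.symm.trans (one_mul a).symm)
    have h5 := pow_class2 a (b⁻¹ * a⁻¹ * b) _ hka hky hya p
    have h6 : a * b⁻¹ * a⁻¹ * b = a * (b⁻¹ * a⁻¹ * b) := by group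
    obtain ⟨m, hm⟩ := (Fact.out : p.Prime).odd_of_ne_two hp
    have hsum : ∑ i ∈ Finset.range p, i = p * m := by
      have h9 := Finset.sum_range_id_mul_two p
      have h10 : p * (p - 1) = p * m * 2 := by
        rw [hm]
        have h11 : 2 * m + 1 - 1 = 2 * m := by omega
        rw [h11]; ring
      rw [h10] at h9
      exact Nat.eq_of_mul_eq_mul_right (by norm_num) h9
    rw [h6, h5, hap, h7, hsum, pow_mul, hkp, one_pow, mul_one, mul_one]
  have hFΩ : ∀ a : ↥(omegaOne p A), (a : S) * b⁻¹ * (a : S)⁻¹ * b ∈ omegaOne p T := fun a =>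
    hΩ3 _ (hcT _ (hE1 _ a.2)) (hcp _ (hE1 _ a.2) (hE2 _ a.2))
  have hnorm : ((Zb A b).subgroupOf (omegaOne p T)).Normal := by
    constructor
    intro n hn g
    rw [Subgroup.mem_subgroupOf] at hn ⊢
    have h1 : ((g * n * g⁻¹ : ↥(omegaOne p T)) : S) = (n : S) := by
      have h2 := hTc (g : S) (hΩ1 _ g.2) (n : S) (hΩ1 _ n.2)
      show (g : S) * n * (g : S)⁻¹ = n
      rw [h2]; group
    rw [h1]; exact hn
  let θ : ↥(omegaOne p A) →* ↥(omegaOne p T) ⧸ (Zb A b).subgroupOf (omegaOne p T) :=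
    MonoidHom.mk' (fun a => (QuotientGroup.mk ⟨(a : S) * b⁻¹ * (a : S)⁻¹ * b, hFΩ a⟩ :
      ↥(omegaOne p T) ⧸ (Zb A b).subgroupOf (omegaOne p T))) (by
      intro a a'
      rw [← QuotientGroup.mk_mul, QuotientGroup.eq, Subgroup.mem_subgroupOf]
      obtain ⟨κ, hκ, hmul⟩ := cmul A b hAc hN1 hN2 (hE1 _ a.2) (hE1 _ a'.2)
      show (((a : S) * a') * b⁻¹ * ((a : S) * a')⁻¹ * b)⁻¹ *
        (((a : S) * b⁻¹ * (a : S)⁻¹ * b) * ((a' : S) * b⁻¹ * (a' : S)⁻¹ * b)) ∈ Zb A b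
      rw [hmul, inv_mul_cancel_left]
      exact hκ)
  have hkerZ : ∀ a : ↥(omegaOne p A), a ∈ θ.ker → (a : S) ∈ Zb A b := by
    intro a ha
    rw [MonoidHom.mem_ker] at ha
    have h : (QuotientGroup.mk ⟨(a : S) * b⁻¹ * (a : S)⁻¹ * b, hFΩ a⟩ :
        ↥(omegaOne p T) ⧸ (Zb A b).subgroupOf (omegaOne p T)) = 1 := ha
    rw [QuotientGroup.eq_one_iff, Subgroup.mem_subgroupOf] at h
    have h' : (a : S) * b⁻¹ * (a : S)⁻¹ * b ∈ Zb A b := h
    rw [mem_Zb] at h' ⊢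
    refine ⟨hE1 _ a.2, ?_⟩
    have h1 : b * (a : S) * b⁻¹ = (b * ((a : S) * b⁻¹ * (a : S)⁻¹ * b) * b⁻¹) * (a : S) := by
      group
    rw [h1]
    exact A.mul_mem h'.2 (hE1 _ a.2)
  have hcard_ker : Nat.card θ.ker ≤ Nat.card ((Zb A b).subgroupOf (omegaOne p T)) := by
    apply Nat.card_le_card_of_injective (fun a : θ.ker =>
      (⟨⟨(a.1 : S), hΩ3 _ (hZT (hkerZ a.1 a.2)) (hE2 _ a.1.2)⟩,
        Subgroup.mem_subgroupOf.mpr (hkerZ a.1 a.2)⟩ : (Zb A b).subgroupOf (omegaOne p T)))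
    intro x y hxy
    apply Subtype.ext
    apply Subtype.ext
    exact congrArg (fun t : (Zb A b).subgroupOf (omegaOne p T) =>
      ((t : ↥(omegaOne p T)) : S)) hxy
  have hcard_q : Nat.card (↥(omegaOne p A) ⧸ θ.ker) ≤
      Nat.card (↥(omegaOne p T) ⧸ (Zb A b).subgroupOf (omegaOne p T)) :=
    Nat.card_le_card_of_injective _ (QuotientGroup.kerLift_injective θ)
  calc Nat.card (omegaOne p A)
      = Nat.card (↥(omegaOne p A) ⧸ θ.ker) * Nat.card θ.ker :=
        Subgroup.card_eq_card_quotient_mul_card_subgroup _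
    _ ≤ Nat.card (↥(omegaOne p T) ⧸ (Zb A b).subgroupOf (omegaOne p T)) *
        Nat.card ((Zb A b).subgroupOf (omegaOne p T)) := Nat.mul_le_mul hcard_q hcard_ker
    _ = Nat.card (omegaOne p T) := (Subgroup.card_eq_card_quotient_mul_card_subgroup _).symm

/-- A replacement Theorem for abelian subgroups of p-groups, p odd. Let G be a finite p-group with p odd, A an abelian subgroup of G, and B a subgroup of nilpotency class at most 2 with [B, B] ≤ A, such that A normalizes B but B does not normalize A. Then there is an abelian subgroup A* of G of the same order as A with A ∩ B strictly contained in A* ∩ B, A* contained in N_G(A) and in the normal closure of A, the exponent of A* dividing the exponent of A, and with the subgroup generated by the elements of order dividing p in A of order at most that of the corresponding subgroup of A* (the rank of A is at most the rank of A*). -/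
theorem result {G : Type*} [Group G] [Finite G] {p : ℕ} [Fact p.Prime] (hp : p ≠ 2) (hG : IsPGroup p G) (A B : Subgroup G) (hA : IsMulCommutative A) (hB2 : ⁅⁅B, B⁆, B⁆ = ⊥) (hBA : ⁅B, B⁆ ≤ A) (hAB : A ≤ Subgroup.normalizer (B : Set G)) (hBnA : ¬ B ≤ Subgroup.normalizer (A : Set G)) : ∃ Astar : Subgroup G, IsMulCommutative Astar ∧ Nat.card Astar = Nat.card A ∧ A ⊓ B < Astar ⊓ B ∧ Astar ≤ Subgroup.normalizer (A : Set G) ∧ Astar ≤ Subgroup.normalClosure (A : Set G) ∧ Monoid.exponent Astar ∣ Monoid.exponent A ∧ Nat.card (Cfsg.omegaOne p A) ≤ Nat.card (Cfsg.omegaOne p Astar) := by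
  classical
  obtain ⟨H, hH⟩ : ∃ H : Subgroup G, H = A ⊔ B := ⟨_, rfl⟩
  have hAH : A ≤ H := by rw [hH]; exact le_sup_left
  have hBH : B ≤ H := by rw [hH]; exact le_sup_right
  have hHp : IsPGroup p ↥H := hG.to_subgroup H
  have hHN : H ≤ Subgroup.normalizer (B : Set G) := by
    rw [hH]; exact sup_le hAB Subgroup.le_normalizer
  have hB'n : (B.subgroupOf H).Normal :=
    (Subgroup.normal_subgroupOf_iff_le_normalizer hBH).mpr hHN
  have hA' : IsMulCommutative ↥(A.subgroupOf H) := inferInstance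
  have hB'A' : ⁅B.subgroupOf H, B.subgroupOf H⁆ ≤ A.subgroupOf H := by
    rw [Subgroup.commutator_le]
    intro x hx y hy
    rw [Subgroup.mem_subgroupOf] at hx hy ⊢
    exact hBA (Subgroup.commutator_mem_commutator hx hy)
  have hnot' : ¬ B.subgroupOf H ≤ Subgroup.normalizer ((A.subgroupOf H : Subgroup ↥H) : Set ↥H) := by
    intro hle
    apply hBnA
    intro b hb
    apply mem_normalizer_fin
    intro x hx
    have h1 := hle (show (⟨b, hBH hb⟩ : ↥H) ∈ B.subgroupOf H from hb)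
    exact (Subgroup.mem_normalizer_iff.1 h1 ⟨x, hAH hx⟩).1 (show (⟨x, hAH hx⟩ : ↥H) ∈ A.subgroupOf H from hx)
  obtain ⟨b, hb, hbN, hbNN⟩ := Cfsg.Agent.S0651.exists_normalizing hHp (B.subgroupOf H)
    (Subgroup.normalizer ((A.subgroupOf H : Subgroup ↥H) : Set ↥H)) hnot'
  obtain ⟨h1, h2, -, h4, -, -, h7, -, -, h10⟩ := Cfsg.Agent.S0650.result hHp (B.subgroupOf H)
    (fun h => absurd h hp) (A.subgroupOf H) hA' hB'A' hnot' b hb hbNN hbN
  have hom := omega_card hp (B.subgroupOf H) (A.subgroupOf H) hA' hB'A' b hb hbNN h2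
  obtain ⟨T, hT⟩ : ∃ T : Subgroup ↥H, T = (A.subgroupOf H ⊓
      (A.subgroupOf H).map (MulAut.conj (b⁻¹)).toMonoidHom) ⊔
      Subgroup.closure {g : ↥H | ∃ a ∈ A.subgroupOf H, g = a * b⁻¹ * a⁻¹ * b} := ⟨_, rfl⟩
  rw [← hT] at h1 h2 h4 h7 h10 hom
  have hAmap : (A.subgroupOf H).map H.subtype = A := Subgroup.map_subgroupOf_eq_of_le hAH
  refine ⟨T.map H.subtype, inferInstance, ?_, ?_, ?_, ?_, ?_, ?_⟩
  · rw [Subgroup.card_map_of_injective H.subtype_injective, h1]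
    exact Nat.card_congr (Subgroup.subgroupOfEquivOfLe hAH).toEquiv
  · rw [SetLike.lt_iff_le_and_exists] at h4 ⊢
    obtain ⟨hle, w, hw, hwn⟩ := h4
    constructor
    · intro x hx
      obtain ⟨hxA, hxB⟩ := Subgroup.mem_inf.mp hx
      have h5 := hle (show (⟨x, hAH hxA⟩ : ↥H) ∈ A.subgroupOf H ⊓ B.subgroupOf H from
        Subgroup.mem_inf.mpr ⟨hxA, hxB⟩)
      exact Subgroup.mem_inf.mpr ⟨⟨_, (Subgroup.mem_inf.mp h5).1, rfl⟩, hxB⟩
    · refine ⟨(w : G), Subgroup.mem_inf.mpr ⟨⟨w, (Subgroup.mem_inf.mp hw).1, rfl⟩,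
        (Subgroup.mem_inf.mp hw).2⟩, fun h => hwn ?_⟩
      exact Subgroup.mem_inf.mpr ⟨(Subgroup.mem_inf.mp h).1, (Subgroup.mem_inf.mp h).2⟩
  · rintro _ ⟨w, hw, rfl⟩
    apply mem_normalizer_fin
    intro x hx
    exact (Subgroup.mem_normalizer_iff.1 (h7 hw) ⟨x, hAH hx⟩).1
      (show (⟨x, hAH hx⟩ : ↥H) ∈ A.subgroupOf H from hx)
  · rw [Subgroup.map_le_iff_le_comap, hT]
    apply sup_le
    · intro x hx
      rw [Subgroup.mem_comap]
      exact Subgroup.subset_normalClosure (Subgroup.mem_inf.mp hx).1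
    · rw [Subgroup.closure_le]
      rintro _ ⟨a, ha, rfl⟩
      rw [SetLike.mem_coe, Subgroup.mem_comap]
      show (a : G) * (b : G)⁻¹ * (a : G)⁻¹ * (b : G) ∈ Subgroup.normalClosure (A : Set G)
      have ha' : (a : G) ∈ A := ha
      have h5 : (a : G) * (b : G)⁻¹ * (a : G)⁻¹ * (b : G) =
          (a : G) * ((b : G)⁻¹ * (a : G)⁻¹ * (b : G)⁻¹⁻¹) := by group
      rw [h5]
      exact Subgroup.mul_mem _ (Subgroup.subset_normalClosure ha')
        (Subgroup.normalClosure_normal.conj_mem _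
          (Subgroup.inv_mem _ (Subgroup.subset_normalClosure ha')) _)
  · rw [← Monoid.exponent_eq_of_mulEquiv (T.equivMapOfInjective _ H.subtype_injective),
      ← Monoid.exponent_eq_of_mulEquiv (Subgroup.subgroupOfEquivOfLe hAH)]
    exact h10 hp
  · rw [omegaOne_map p H.subtype H.subtype_injective T,
      Subgroup.card_map_of_injective H.subtype_injective]
    have h5 : omegaOne p A = (omegaOne p (A.subgroupOf H)).map H.subtype := by
      rw [← omegaOne_map p H.subtype H.subtype_injective, hAmap]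
    rw [h5, Subgroup.card_map_of_injective H.subtype_injective]
    exact hom

end Cfsg.Agent.S3078
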