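import Cfsg.Statements.S3079
import Mathlib
import Cfsg.Agent.Lib.Helper5.ZJClosed
import Cfsg.Agent.S0653

set_option autoImplicit false
open Cfsg

namespace Cfsg.Agent.S3079

open Cfsg.Agent.Lib.Helper5

/-- Glauberman's ZJ-Theorem for strongly closed subgroups, p odd. Let G be a finite group that is p-stable in the normalizer form (for every p-subgroup U and g ∈ N_G(U) with [U, g, g] = 1, the image of g lies in O_p(N_G(U)/C_G(U))), with C_G(O_p(G)) ≤ O_p(G), let P be a Sylow p-subgroup and D a subgroup of P strongly closed in P with respect to G. Then Z(J(D)) is normal in G, where J(D) is generated by the abelian subgroups of D of largest order; and so is Ω₁(Z(J_e(D))), where J_e(D) is generated by the elementary abelian subgroups of D of largest order. -/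
theorem result {G : Type*} [Group G] [Finite G] {p : ℕ} [Fact p.Prime] (hp : p ≠ 2) (P : Sylow p G) (D : Subgroup G) (hD : Cfsg.IsStronglyClosed D (P : Subgroup G)) (hst : Cfsg.IsNormalizerPStable p G) (hc : Subgroup.centralizer ((Cfsg.pCore p G : Subgroup G) : Set G) ≤ Cfsg.pCore p G) : (Cfsg.centerThompsonAOf D).Normal ∧ (Cfsg.omegaOne p (Cfsg.centerThompsonOf p D)).Normal := by
  have hst' : ∀ (V : Subgroup G) [V.Normal], IsPGroup p V → IsPStableOn p V :=
    fun V _ hV => ZJClosed.stableOn_of_normalizer hst V hV
  constructor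
  · rw [Cfsg.Agent.S0653.center_eq]
    exact ZJClosed.zj_normal_closed hp hc hst' P D hD (fun _ => True) trivial
      (fun _ _ _ => trivial) (fun _ _ _ _ => trivial)
  · rw [ZJClosed.omegaOne_center_eq, Cfsg.Agent.S0654.omega_eq]
    apply ZJClosed.zj_normal_closed hp hc hst' P D hD (fun A : Subgroup G => ∀ a ∈ A, a ^ p = 1)
    · intro a ha
      rw [Subgroup.mem_bot] at ha
      rw [ha, one_pow]
    · rintro e A hA _ ⟨a, ha, rfl⟩
      rw [← map_pow, hA a ha, map_one]
    · intro U T hU hexp
      have h1 : Monoid.exponent U ∣ p := by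
        apply Monoid.exponent_dvd_of_forall_pow_eq_one
        intro a
        apply Subtype.ext
        rw [Subgroup.coe_pow]
        exact hU a.1 a.2
      have h2 := Monoid.exponent_dvd_iff_forall_pow_eq_one.1 (hexp.trans h1)
      intro a ha
      have h3 := congrArg Subtype.val (h2 ⟨a, ha⟩)
      rwa [Subgroup.coe_pow] at h3

end Cfsg.Agent.S3079
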