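import Cfsg.Statements.S5088
import Cfsg.Agent.Lib.Helper26.FusStab

set_option autoImplicit false
open Cfsg

namespace Cfsg.Agent.S5088

open Cfsg.Agent.Lib.Helper26 Cfsg.FusionSystem

/-- In a saturated fusion system over a finite p-group, a subgroup Q is normal in the system if and only if there is a chain of subgroups 1 = Q₀ ≤ Q₁ ≤ ⋯ ≤ Qₙ = Q such that each Qᵢ with i ≥ 1 is strongly closed in the system and [Q, Qᵢ] ≤ Qᵢ₋₁. -/
theorem result {Ω : Type*} [Group Ω] {S : Subgroup Ω} [Finite S] (p : ℕ) [Fact p.Prime] (hS : IsPGroup p S) (F : Cfsg.FusionSystem S) (hF : F.IsSaturated p) (Q : Subgroup Ω) : F.IsNormal Q ↔ ∃ (n : ℕ) (Qs : Fin (n + 1) → Subgroup Ω), Qs 0 = ⊥ ∧ Qs (Fin.last n) = Q ∧ Monotone Qs ∧ ∀ i : Fin n, F.StronglyClosed (Qs i.succ) ∧ ⁅Q, Qs i.succ⁆ ≤ Qs (Fin.castSucc i) := by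
  constructor
  · intro hQ
    obtain ⟨n, C, hC0, hCn, hmono, hnorm, hcomm⟩ := exists_central_chain hS F hQ
    refine ⟨n, fun i => C i, hC0, hCn, fun i j hij => hmono hij, fun i => ⟨?_, ?_⟩⟩
    · exact stronglyClosed_of_isNormal F (hnorm _)
    · show ⁅Q, C (i.val + 1)⁆ ≤ C i.val
      rw [Subgroup.commutator_comm]
      exact hcomm i
  · rintro ⟨n, Qs, h0, hn, hmono, hstep⟩
    have hsc : ∀ j : Fin (n + 1), F.StronglyClosed (Qs j) := by
      intro j
      rcases Fin.eq_zero_or_eq_succ j with rfl | ⟨k, rfl⟩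
      · rw [h0]
        exact stronglyClosed_bot F
      · exact (hstep k).1
    have hQsc : F.StronglyClosed Q := hn ▸ hsc (Fin.last n)
    apply (Cfsg.Agent.S5086.result p hS F hF Q).mpr
    refine ⟨hQsc, fun P hc hr => ?_⟩
    have hP : P ≤ S := hc.1
    refine le_of_chain hS F hc hr hQsc (F.autGroup P) le_rfl
      (fun α hα β hβ => mul_mem (mul_mem hα hβ) (inv_mem hα))
      (fun j => Qs ⟨n - j, Nat.lt_succ_of_le (Nat.sub_le n j)⟩) n ?_ ?_ ?_ ?_ ?_
    · show Qs ⟨n - 0, _⟩ = Q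
      rw [← hn]
      rfl
    · intro i _ α hα x hx
      exact stronglyClosed_aut_invariant F (hsc _) hP hα x hx
    · intro i hi g hg x hx
      have h1 : (⟨n - i, Nat.lt_succ_of_le (Nat.sub_le n i)⟩ : Fin (n + 1)) =
          (⟨n - i - 1, by omega⟩ : Fin n).succ := by
        apply Fin.ext
        simp
        omega
      have h2 : (⟨n - (i + 1), Nat.lt_succ_of_le (Nat.sub_le n (i + 1))⟩ : Fin (n + 1)) =
          (⟨n - i - 1, by omega⟩ : Fin n).castSucc := by
        apply Fin.ext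
        simp
        omega
      show x⁻¹ * (g * x * g⁻¹) ∈ Qs ⟨n - (i + 1), _⟩
      rw [h2]
      have hx' : x ∈ Qs ⟨n - i, Nat.lt_succ_of_le (Nat.sub_le n i)⟩ := hx
      rw [h1] at hx'
      apply (hstep ⟨n - i - 1, by omega⟩).2
      rw [Subgroup.commutator_comm]
      have h3 : x⁻¹ * (g * x * g⁻¹) = x⁻¹ * g * x⁻¹⁻¹ * g⁻¹ := by group
      rw [h3]
      exact Subgroup.commutator_mem_commutator (inv_mem hx') hg
    · intro β _
      refine ⟨0, fun x hx => ?_⟩
      have h1 : (⟨n - n, Nat.lt_succ_of_le (Nat.sub_le n n)⟩ : Fin (n + 1)) = 0 := by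
        apply Fin.ext
        simp
      have hx' : (x : Ω) ∈ Qs ⟨n - n, Nat.lt_succ_of_le (Nat.sub_le n n)⟩ := hx
      rw [h1, h0, Subgroup.mem_bot] at hx'
      have h2 : x = 1 := Subtype.ext hx'
      rw [h2, map_one]
    · intro g hg hgQ
      exact autInducedBy_le_autGroup F hP (conj_mem_autInducedBy (hQsc.1 hgQ) hg)

end Cfsg.Agent.S5088
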