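import Cfsg.Statements.S3761
import Mathlib
import Cfsg.Agent.Lib.Helper20.Metacyc
import Cfsg.Agent.Lib.Helper20.Metacyc2
import Cfsg.Agent.Lib.Helper20.Metacyc3
import Cfsg.Agent.Lib.Helper20.Metacyc5
import Cfsg.Agent.Lib.Helper20.Metacyc6
import Cfsg.Agent.Lib.Helper20.ESpecial
import Cfsg.Agent.Lib.Helper18.DihedralEquiv
import Cfsg.Agent.Lib.Helper18.UniqueInvolution

set_option autoImplicit false
open Cfsg

namespace Cfsg.Agent.S3761

open Cfsg.Agent.Lib.Helper20.Metacyc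

section setup

variable {G : Type*} [Group G] [Finite G] {p : ℕ} [Fact p.Prime]

theorem power_closure_eq (U : Subgroup G) {u : G} (huU : u ∈ U)
    (hu : ∀ x ∈ U, ∃ l : ℕ, x = u ^ l) :
    Cfsg.powerClosure p 1 U = Subgroup.zpowers (u ^ p) := by
  unfold Cfsg.powerClosure
  apply le_antisymm
  · rw [Subgroup.closure_le]
    rintro y ⟨x, hx, rfl⟩
    obtain ⟨l, rfl⟩ := hu x hx
    rw [pow_one, ← pow_mul, mul_comm, pow_mul]
    exact Subgroup.pow_mem _ (Subgroup.mem_zpowers _) l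
  · rw [Subgroup.zpowers_le]
    exact Subgroup.subset_closure ⟨u, huU, by rw [pow_one]⟩

theorem mem_M_iff (u g : G) :
    g ∈ Subgroup.centralizer (Subgroup.zpowers (u ^ p) : Set G) ↔ Commute g (u ^ p) := by
  rw [Subgroup.mem_centralizer_iff]
  constructor
  · intro h
    exact (h _ (Subgroup.mem_zpowers _)).symm
  · intro h k hk
    obtain ⟨i, rfl⟩ := Subgroup.mem_zpowers_iff.mp hk
    exact ((h.zpow_right i).eq).symm

theorem U_eq_zpowers (U : Subgroup G) {u : G} (huU : u ∈ U)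
    (hu : ∀ x ∈ U, ∃ l : ℕ, x = u ^ l) : U = Subgroup.zpowers u := by
  apply le_antisymm
  · intro x hx
    obtain ⟨l, rfl⟩ := hu x hx
    exact Subgroup.pow_mem _ (Subgroup.mem_zpowers u) l
  · rw [Subgroup.zpowers_le]
    exact huU

theorem U_le_M (U : Subgroup G) [IsCyclic U] {u : G} (huU : u ∈ U) :
    U ≤ Subgroup.centralizer (Subgroup.zpowers (u ^ p) : Set G) := by
  intro x hx
  rw [mem_M_iff]
  exact comm_of_mem U hx (U.pow_mem huU p)

theorem mem_U_iff (U : Subgroup G) {u : G} (huU : u ∈ U)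
    (hu : ∀ x ∈ U, ∃ l : ℕ, x = u ^ l) (hC : Subgroup.centralizer (U : Set G) = U) (g : G) :
    g ∈ U ↔ Commute g u := by
  rw [← mem_C_iff U huU hu, hC]

theorem two_le_n (hG : IsPGroup p G) (hna : ¬ IsMulCommutative G) (U : Subgroup G)
    [hUn : U.Normal] [IsCyclic U] {u : G} (huU : u ∈ U) (hu : ∀ x ∈ U, ∃ l : ℕ, x = u ^ l)
    {n : ℕ} (hon : orderOf u = p ^ n) (hC : Subgroup.centralizer (U : Set G) = U) : 2 ≤ n := by
  have hp : p.Prime := Fact.out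
  by_contra hlt
  have hcard : Nat.card U = p ^ n := by
    rw [← hon, ← Nat.card_zpowers u, ← U_eq_zpowers U huU hu]
  have htop : U = ⊤ := by
    rw [← hC, Subgroup.centralizer_eq_top_iff_subset]
    have hn01 : n = 0 ∨ n = 1 := by omega
    rcases hn01 with h0 | h1
    · rw [h0, pow_zero] at hcard
      have : U = ⊥ := Subgroup.card_eq_one.mp hcard
      rw [this]
      intro x hx
      rw [SetLike.mem_coe, Subgroup.mem_bot] at hx
      rw [hx]
      exact Subgroup.one_mem _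
    · rw [h1, pow_one] at hcard
      exact Cfsg.Agent.Lib.Helper20.ESpecial.le_center_of_normal_card_prime hG U hcard
  apply hna
  refine ⟨⟨fun x y => ?_⟩⟩
  exact comm_of_mem U (htop ▸ Subgroup.mem_top x) (htop ▸ Subgroup.mem_top y)

theorem rho_M (hG : IsPGroup p G) (U : Subgroup G) [hUn : U.Normal] [IsCyclic U] {u : G}
    (huU : u ∈ U) {n : ℕ} (hon : orderOf u = p ^ n) (hn1 : 1 ≤ n) {g : G}
    (hg : Commute g (u ^ p)) :
    ∃ c : ℕ, ∀ x ∈ U, g * x * g⁻¹ = x ^ (1 + p ^ (n - 1) * c) := by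
  have hp : p.Prime := Fact.out
  obtain ⟨ρ, hρ, hc⟩ := exists_rho hG U g
  have hρ1 : 1 ≤ ρ := by
    rcases Nat.eq_zero_or_pos ρ with h | h
    · subst h
      simp at hρ
    · exact h
  have h1 : g * u ^ p * g⁻¹ = u ^ p := by
    rw [hg.eq, mul_inv_cancel_right]
  rw [hc _ (U.pow_mem huU p), ← pow_mul, pow_eq_pow_iff_modEq, hon] at h1
  have h2 : p ^ n ∣ p * ρ - p := (Nat.modEq_iff_dvd' (Nat.le_mul_of_pos_right p hρ1)).mp h1.symm
  have h3 : p * ρ - p = p * (ρ - 1) := by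
    rw [Nat.mul_sub, mul_one]
  have h4 : p ^ n = p * p ^ (n - 1) := by
    rw [← pow_succ']
    congr 1
    omega
  rw [h3, h4] at h2
  obtain ⟨c, hcc⟩ := (Nat.mul_dvd_mul_iff_left hp.pos).mp h2
  refine ⟨c, fun x hx => ?_⟩
  rw [hc x hx]
  congr 1
  omega

theorem z_pow_p {u : G} {n : ℕ} (hon : orderOf u = p ^ n) (hn1 : 1 ≤ n) :
    (u ^ p ^ (n - 1)) ^ p = 1 := by
  rw [← pow_mul, ← pow_succ, Nat.sub_add_cancel hn1, ← hon, pow_orderOf_eq_one]

theorem z_central (hG : IsPGroup p G) (U : Subgroup G) [hUn : U.Normal] [IsCyclic U] {u : G}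
    (huU : u ∈ U) {n : ℕ} (hon : orderOf u = p ^ n) (hn1 : 1 ≤ n) (g : G) :
    Commute g (u ^ p ^ (n - 1)) := by
  obtain ⟨ρ, hρ, hc⟩ := exists_rho hG U g
  have hzp := z_pow_p (p := p) hon hn1
  have h1 := hc _ (U.pow_mem huU (p ^ (n - 1)))
  have h2 : (u ^ p ^ (n - 1)) ^ ρ = u ^ p ^ (n - 1) := by
    conv_lhs => rw [← Nat.div_add_mod ρ p, hρ, pow_add, pow_mul, hzp, one_pow, one_mul, pow_one]
  rw [h2] at h1
  show g * _ = _ * g
  calc g * u ^ p ^ (n - 1) = g * u ^ p ^ (n - 1) * g⁻¹ * g := by group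
    _ = _ := by rw [h1]

theorem cb_M (hG : IsPGroup p G) (U : Subgroup G) [hUn : U.Normal] [IsCyclic U] {u : G}
    (huU : u ∈ U) {n : ℕ} (hon : orderOf u = p ^ n) (hn1 : 1 ≤ n) {g : G}
    (hg : Commute g (u ^ p)) : ∃ c : ℕ, cb g u = (u ^ p ^ (n - 1)) ^ c := by
  obtain ⟨c, hc⟩ := rho_M hG U huU hon hn1 hg
  refine ⟨c, ?_⟩
  unfold cb
  rw [hc u huU, add_comm, pow_add, pow_one, mul_inv_cancel_right, pow_mul]

theorem exists_psi (hG : IsPGroup p G) (U : Subgroup G) [hUn : U.Normal] [IsCyclic U] {u : G}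
    (huU : u ∈ U) {n : ℕ} (hon : orderOf u = p ^ n) (hn1 : 1 ≤ n) :
    ∃ ψ : ↥(Subgroup.centralizer (Subgroup.zpowers (u ^ p) : Set G)) →* G,
      ∀ g, ψ g = cb (g : G) u := by
  refine ⟨MonoidHom.mk' (fun g => cb (g : G) u) ?_, fun g => rfl⟩
  intro g h
  have hh := (mem_M_iff u (h : G)).mp h.2
  obtain ⟨c, hc⟩ := cb_M hG U huU hon hn1 hh
  show cb ((g : G) * (h : G)) u = cb (g : G) u * cb (h : G) u
  have h1 : cb ((g : G) * (h : G)) u = (g : G) * cb (h : G) u * (g : G)⁻¹ * cb (g : G) u := by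
    unfold cb
    group
  rw [h1, hc, ((z_central hG U huU hon hn1 (g : G)).pow_right c).eq, mul_inv_cancel_right]
  exact (((z_central hG U huU hon hn1 (cb (g : G) u)).pow_right c).eq).symm

theorem relIndex_dvd (hG : IsPGroup p G) (U : Subgroup G) [hUn : U.Normal] [IsCyclic U] {u : G}
    (huU : u ∈ U) (hu : ∀ x ∈ U, ∃ l : ℕ, x = u ^ l) {n : ℕ} (hon : orderOf u = p ^ n)
    (hn1 : 1 ≤ n) (hC : Subgroup.centralizer (U : Set G) = U) :
    U.relIndex (Subgroup.centralizer (Subgroup.zpowers (u ^ p) : Set G)) ∣ p := by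
  obtain ⟨ψ, hψ⟩ := exists_psi hG U huU hon hn1
  have hker : ψ.ker = U.subgroupOf (Subgroup.centralizer (Subgroup.zpowers (u ^ p) : Set G)) := by
    ext g
    rw [MonoidHom.mem_ker, hψ, cb_eq_one_iff, Subgroup.mem_subgroupOf, mem_U_iff U huU hu hC]
  have hrange : ψ.range ≤ Subgroup.zpowers (u ^ p ^ (n - 1)) := by
    rintro _ ⟨g, rfl⟩
    obtain ⟨c, hc⟩ := cb_M hG U huU hon hn1 ((mem_M_iff u (g : G)).mp g.2)
    rw [hψ, hc]
    exact Subgroup.pow_mem _ (Subgroup.mem_zpowers _) c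
  have h1 : U.relIndex (Subgroup.centralizer (Subgroup.zpowers (u ^ p) : Set G))
      = Nat.card ψ.range := by
    rw [Subgroup.relIndex, ← hker, Subgroup.index_ker]
  rw [h1]
  refine (Subgroup.card_dvd_of_le hrange).trans ?_
  rw [Nat.card_zpowers]
  exact orderOf_dvd_of_pow_eq_one (z_pow_p hon hn1)

theorem relIndex_eq (hG : IsPGroup p G) (U : Subgroup G) [hUn : U.Normal] [IsCyclic U] {u : G}
    (huU : u ∈ U) (hu : ∀ x ∈ U, ∃ l : ℕ, x = u ^ l) {n : ℕ} (hon : orderOf u = p ^ n)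
    (hn1 : 1 ≤ n) (hC : Subgroup.centralizer (U : Set G) = U) {g : G}
    (hg : Commute g (u ^ p)) (hgU : ¬ Commute g u) :
    U.relIndex (Subgroup.centralizer (Subgroup.zpowers (u ^ p) : Set G)) = p := by
  have hp : p.Prime := Fact.out
  rcases (Nat.dvd_prime hp).mp (relIndex_dvd hG U huU hu hon hn1 hC) with h | h
  · exfalso
    rw [Subgroup.relIndex_eq_one] at h
    exact hgU ((mem_U_iff U huU hu hC g).mp (h ((mem_M_iff u g).mpr hg)))
  · exact h

theorem pow_p_comm (hG : IsPGroup p G) (U : Subgroup G) [hUn : U.Normal] [IsCyclic U] {u : G}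
    (huU : u ∈ U) {n : ℕ} (hon : orderOf u = p ^ n) (hn1 : 1 ≤ n) {g : G}
    (hg : Commute g (u ^ p)) : Commute (g ^ p) u := by
  obtain ⟨ψ, hψ⟩ := exists_psi hG U huU hon hn1
  obtain ⟨c, hc⟩ := cb_M hG U huU hon hn1 hg
  have h1 := hψ (⟨g, (mem_M_iff u g).mpr hg⟩ ^ p)
  rw [map_pow, hψ] at h1
  simp only [Subgroup.coe_pow] at h1
  rw [← cb_eq_one_iff, ← h1, hc, ← pow_mul, mul_comm, pow_mul, z_pow_p hon hn1, one_pow]

theorem coset_rep (hG : IsPGroup p G) (U : Subgroup G) [hUn : U.Normal] [IsCyclic U] {u : G}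
    (huU : u ∈ U) {n : ℕ} (hon : orderOf u = p ^ n) (hn1 : 1 ≤ n) {y x : G}
    (hy : Commute y (u ^ p)) (hyU : ¬ Commute y u) (hx : Commute x (u ^ p)) :
    ∃ b : ℕ, Commute (x * (y ^ b)⁻¹) u := by
  have hp : p.Prime := Fact.out
  obtain ⟨ψ, hψ⟩ := exists_psi hG U huU hon hn1
  obtain ⟨c', hc'⟩ := cb_M hG U huU hon hn1 hy
  obtain ⟨c, hc⟩ := cb_M hG U huU hon hn1 hx
  have hzp := z_pow_p (p := p) hon hn1
  have hcop : Nat.Coprime c' p := by
    rw [Nat.coprime_comm, hp.coprime_iff_not_dvd]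
    rintro ⟨k, rfl⟩
    apply hyU
    rw [← cb_eq_one_iff, hc', pow_mul, hzp, one_pow]
  obtain ⟨b, -, hb⟩ := Nat.exists_mul_mod_eq_of_coprime c hcop hp.ne_zero
  refine ⟨b, ?_⟩
  have h1 := hψ (⟨x, (mem_M_iff u x).mpr hx⟩ * (⟨y, (mem_M_iff u y).mpr hy⟩ ^ b)⁻¹)
  rw [map_mul, map_inv, map_pow, hψ, hψ] at h1
  simp only [Subgroup.coe_mul, Subgroup.coe_inv, Subgroup.coe_pow] at h1
  have hmod : ∀ k : ℕ, (u ^ p ^ (n - 1)) ^ k = (u ^ p ^ (n - 1)) ^ (k % p) := by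
    intro k
    conv_lhs => rw [← Nat.div_add_mod k p, pow_add, pow_mul, hzp, one_pow, one_mul]
  rw [← cb_eq_one_iff, ← h1, hc, hc', mul_inv_eq_one, hmod c, ← pow_mul (u ^ p ^ (n - 1)) c' b,
    hmod (c' * b), hb]

theorem norm_p (hG : IsPGroup p G) (U : Subgroup G) [hUn : U.Normal] [IsCyclic U] {u : G}
    (huU : u ∈ U) {n : ℕ} (hon : orderOf u = p ^ n) (hn1 : 1 ≤ n) (hpn : p ≠ 2 ∨ 3 ≤ n) {g : G}
    (hg : Commute g (u ^ p)) :
    ∃ s : ℕ, ¬ p ∣ s ∧ ∀ y ∈ U, (y * g) ^ p = y ^ (p * s) * g ^ p := by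
  by_cases hp2 : p = 2
  · subst hp2
    have hn3 : 3 ≤ n := by
      rcases hpn with h | h
      · exact absurd rfl h
      · exact h
    obtain ⟨c, hc⟩ := rho_M hG U huU hon hn1 hg
    refine ⟨1 + 2 ^ (n - 2) * c, ?_, fun y hy => ?_⟩
    · have h2 : 2 ^ (n - 2) = 2 * 2 ^ (n - 3) := by
        rw [← pow_succ']
        congr 1
        omega
      intro hdvd
      rw [h2, mul_assoc] at hdvd
      omega
    · have h1 : (y * g) ^ 2 = y * (g * y * g⁻¹) * g ^ 2 := by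
        rw [pow_two, pow_two]
        group
      rw [h1, hc y hy, ← pow_succ']
      congr 2
      have h2 : 2 ^ (n - 1) = 2 * 2 ^ (n - 2) := by
        rw [← pow_succ']
        congr 1
        omega
      rw [h2]
      ring
  · obtain ⟨s, hs, h⟩ := exact_norm hp2 hG U g 1
    refine ⟨s, hs, fun y hy => ?_⟩
    have h1 := h y hy
    rwa [pow_one] at h1

theorem exists_order_p (hG : IsPGroup p G) (U : Subgroup G) [hUn : U.Normal] [IsCyclic U]
    {u : G} (huU : u ∈ U) (hu : ∀ x ∈ U, ∃ l : ℕ, x = u ^ l) {n : ℕ} (hon : orderOf u = p ^ n)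
    (hn1 : 1 ≤ n) (hC : Subgroup.centralizer (U : Set G) = U) (hpn : p ≠ 2 ∨ 3 ≤ n) {g : G}
    (hg : Commute g (u ^ p)) (hgU : ¬ Commute g u) :
    ∃ y, Commute y (u ^ p) ∧ ¬ Commute y u ∧ y ^ p = 1 := by
  have hp : p.Prime := Fact.out
  have hgp := pow_p_comm hG U huU hon hn1 hg
  have hgpU : g ^ p ∈ U := (mem_U_iff U huU hu hC _).mpr hgp
  obtain ⟨k, hk⟩ := hu _ hgpU
  have h1 : 1 < p ^ n := Nat.one_lt_pow (by omega) hp.one_lt
  have hpk : p ∣ k := by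
    by_contra hpk
    have hcop : Nat.Coprime k (p ^ n) :=
      Nat.Coprime.pow_right n (Nat.coprime_comm.mp ((hp.coprime_iff_not_dvd).mpr hpk))
    obtain ⟨m, -, hm⟩ := Nat.exists_mul_mod_eq_one_of_coprime hcop h1
    apply hgU
    have h2 : (g ^ p) ^ m = u := by
      rw [hk, ← pow_mul, ← pow_mod_orderOf, hon, hm, pow_one]
    have h3 : Commute g ((g ^ p) ^ m) := ((Commute.refl g).pow_right p).pow_right m
    rwa [h2] at h3
  obtain ⟨k₁, rfl⟩ := hpk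
  obtain ⟨s, hs, hnorm⟩ := norm_p hG U huU hon hn1 hpn hg
  have hcop : Nat.Coprime s (p ^ n) :=
    Nat.Coprime.pow_right n (Nat.coprime_comm.mp ((hp.coprime_iff_not_dvd).mpr hs))
  obtain ⟨s', -, hs'⟩ := Nat.exists_mul_mod_eq_one_of_coprime hcop h1
  have hx0U : ((u ^ k₁)⁻¹) ^ s' ∈ U := U.pow_mem (U.inv_mem (U.pow_mem huU k₁)) s'
  have hx0 : Commute (((u ^ k₁)⁻¹) ^ s') u := comm_of_mem U hx0U huU
  refine ⟨((u ^ k₁)⁻¹) ^ s' * g, ?_, ?_, ?_⟩
  · exact Commute.mul_left (hx0.pow_right p) hg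
  · intro hcomm
    apply hgU
    have h4 := (hx0.inv_left).mul_left hcomm
    rwa [inv_mul_cancel_left] at h4
  · rw [hnorm _ hx0U, hk, ← pow_mul, inv_pow, inv_mul_eq_one, ← pow_mul, pow_eq_pow_iff_modEq, hon]
    have h5 : k₁ * (s' * (p * s)) = (p * k₁) * (s * s') := by ring
    rw [h5]
    have h6 : s * s' ≡ 1 [MOD p ^ n] := by
      rw [Nat.ModEq, hs', Nat.mod_eq_of_lt h1]
    have h7 := Nat.ModEq.mul_left (p * k₁) h6
    rw [mul_one] at h7
    exact h7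

theorem order_p_form (hG : IsPGroup p G) (U : Subgroup G) [hUn : U.Normal] [IsCyclic U]
    {u : G} (huU : u ∈ U) (hu : ∀ x ∈ U, ∃ l : ℕ, x = u ^ l) {n : ℕ} (hon : orderOf u = p ^ n)
    (hn1 : 1 ≤ n) (hC : Subgroup.centralizer (U : Set G) = U) (hpn : p ≠ 2 ∨ 3 ≤ n) {y : G}
    (hy : Commute y (u ^ p)) (hyU : ¬ Commute y u) (hyp : y ^ p = 1) {x : G}
    (hx : Commute x (u ^ p)) (hxp : x ^ p = 1) :
    x ∈ Subgroup.zpowers (u ^ p ^ (n - 1)) ⊔ Subgroup.zpowers y := by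
  have hp : p.Prime := Fact.out
  obtain ⟨b, hb⟩ := coset_rep hG U huU hon hn1 hy hyU hx
  have hw : x * (y ^ b)⁻¹ ∈ U := (mem_U_iff U huU hu hC _).mpr hb
  have hyb : Commute (y ^ b) (u ^ p) := hy.pow_left b
  obtain ⟨s, hs, hnorm⟩ := norm_p hG U huU hon hn1 hpn hyb
  have h1 := hnorm _ hw
  rw [inv_mul_cancel_right, hxp, ← pow_mul y b p, mul_comm b p, pow_mul y p b, hyp, one_pow,
    mul_one, pow_mul] at h1
  obtain ⟨l, hl⟩ := hu _ hw
  have hcop : Nat.Coprime s (p ^ n) :=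
    Nat.Coprime.pow_right n (Nat.coprime_comm.mp ((hp.coprime_iff_not_dvd).mpr hs))
  have h2 : orderOf ((x * (y ^ b)⁻¹) ^ p) ∣ s := orderOf_dvd_of_pow_eq_one h1.symm
  have h3 : orderOf ((x * (y ^ b)⁻¹) ^ p) ∣ p ^ n := by
    apply orderOf_dvd_of_pow_eq_one
    rw [hl, ← pow_mul, ← pow_mul, mul_comm p (p ^ n), mul_comm l, pow_mul, pow_mul, ← hon,
      pow_orderOf_eq_one, one_pow, one_pow]
  have h4 := Nat.dvd_gcd h2 h3
  rw [hcop] at h4
  have h5 : (x * (y ^ b)⁻¹) ^ p = 1 := orderOf_eq_one_iff.mp (Nat.dvd_one.mp h4)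
  rw [hl, ← pow_mul] at h5
  have h6 : p ^ n ∣ l * p := by
    rw [← hon]
    exact orderOf_dvd_of_pow_eq_one h5
  have h7 : p ^ n = p ^ (n - 1) * p := by
    rw [← pow_succ]
    congr 1
    omega
  rw [h7] at h6
  obtain ⟨d, rfl⟩ := (Nat.mul_dvd_mul_iff_right hp.pos).mp h6
  have h8 : x = (u ^ p ^ (n - 1)) ^ d * y ^ b := by
    rw [← pow_mul, ← hl, inv_mul_cancel_right]
  rw [h8]
  exact Subgroup.mul_mem _
    (Subgroup.mem_sup_left (Subgroup.pow_mem _ (Subgroup.mem_zpowers _) d))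
    (Subgroup.mem_sup_right (Subgroup.pow_mem _ (Subgroup.mem_zpowers _) b))

theorem omega_eq (hG : IsPGroup p G) (U : Subgroup G) [hUn : U.Normal] [IsCyclic U]
    {u : G} (huU : u ∈ U) (hu : ∀ x ∈ U, ∃ l : ℕ, x = u ^ l) {n : ℕ} (hon : orderOf u = p ^ n)
    (hn1 : 1 ≤ n) (hC : Subgroup.centralizer (U : Set G) = U) (hpn : p ≠ 2 ∨ 3 ≤ n) {y : G}
    (hy : Commute y (u ^ p)) (hyU : ¬ Commute y u) (hyp : y ^ p = 1) :
    Cfsg.omegaOne p (Subgroup.centralizer (Subgroup.zpowers (u ^ p) : Set G)) =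
      Subgroup.zpowers (u ^ p ^ (n - 1)) ⊔ Subgroup.zpowers y := by
  unfold Cfsg.omegaOne
  apply le_antisymm
  · rw [Subgroup.closure_le]
    rintro x ⟨hxM, hxp⟩
    exact order_p_form hG U huU hu hon hn1 hC hpn hy hyU hyp ((mem_M_iff u x).mp hxM) hxp
  · rw [sup_le_iff, Subgroup.zpowers_le, Subgroup.zpowers_le]
    refine ⟨Subgroup.subset_closure ⟨(mem_M_iff u _).mpr ?_, z_pow_p hon hn1⟩,
      Subgroup.subset_closure ⟨(mem_M_iff u y).mpr hy, hyp⟩⟩
    exact (z_central hG U huU hon hn1 (u ^ p)).symm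

theorem sup_exp (z y : G) (hz : ∀ g : G, Commute g z) (hzp : z ^ p = 1) (hyp : y ^ p = 1) :
    ∀ a ∈ Subgroup.zpowers z ⊔ Subgroup.zpowers y, a ^ p = 1 := by
  intro a ha
  haveI : (Subgroup.zpowers z).Normal := by
    constructor
    intro x hx g
    obtain ⟨i, rfl⟩ := Subgroup.mem_zpowers_iff.mp hx
    rw [((hz g).zpow_right i).eq, mul_inv_cancel_right]
    exact Subgroup.zpow_mem _ (Subgroup.mem_zpowers z) i
  have h1 := Subgroup.normal_mul (Subgroup.zpowers z) (Subgroup.zpowers y)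
  have ha' : a ∈ ((Subgroup.zpowers z ⊔ Subgroup.zpowers y : Subgroup G) : Set G) := ha
  rw [h1] at ha'
  obtain ⟨a₁, ha₁, a₂, ha₂, rfl⟩ := Set.mem_mul.mp ha'
  obtain ⟨i, rfl⟩ := Subgroup.mem_zpowers_iff.mp ha₁
  obtain ⟨j, rfl⟩ := Subgroup.mem_zpowers_iff.mp ha₂
  have hcomm : Commute (z ^ i) (y ^ j) := ((hz (y ^ j)).symm.zpow_left i)
  rw [hcomm.mul_pow, ← zpow_natCast (z ^ i), ← zpow_mul, mul_comm, zpow_mul, zpow_natCast, hzp,
    one_zpow, one_mul, ← zpow_natCast (y ^ j), ← zpow_mul, mul_comm, zpow_mul, zpow_natCast, hyp,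
    one_zpow]

theorem inf_eq_bot_of_prime {y : G} (hyo : orderOf y = p) (K : Subgroup G) (hyK : y ∉ K) :
    K ⊓ Subgroup.zpowers y = ⊥ := by
  have hp : p.Prime := Fact.out
  rw [Subgroup.eq_bot_iff_forall]
  intro a ha
  by_contra ha1
  have hay : a ∈ Subgroup.zpowers y := ha.2
  have hap : a ^ p = 1 := by
    obtain ⟨i, rfl⟩ := Subgroup.mem_zpowers_iff.mp hay
    rw [← zpow_natCast, ← zpow_mul, mul_comm, zpow_mul, zpow_natCast, ← hyo, pow_orderOf_eq_one,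
      one_zpow]
  have hao : orderOf a = p := orderOf_eq_prime hap ha1
  have hle : Subgroup.zpowers a ≤ Subgroup.zpowers y := by
    rw [Subgroup.zpowers_le]
    exact hay
  have heq : Subgroup.zpowers a = Subgroup.zpowers y := by
    apply Subgroup.eq_of_le_of_card_ge hle
    rw [Nat.card_zpowers, Nat.card_zpowers, hao, hyo]
  apply hyK
  have h1 : y ∈ Subgroup.zpowers a := by
    rw [heq]
    exact Subgroup.mem_zpowers y
  have h2 : Subgroup.zpowers a ≤ K := by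
    rw [Subgroup.zpowers_le]
    exact ha.1
  exact h2 h1

theorem le_omega (hG : IsPGroup p G) (U : Subgroup G) [hUn : U.Normal] [IsCyclic U]
    {u : G} (huU : u ∈ U) (E' : Subgroup G) (hE'n : E'.Normal) (hE' : ∀ e ∈ E', e ^ p = 1) :
    E' ≤ Cfsg.omegaOne p (Subgroup.centralizer (Subgroup.zpowers (u ^ p) : Set G)) := by
  intro e he
  unfold Cfsg.omegaOne
  apply Subgroup.subset_closure
  refine ⟨(mem_M_iff u e).mpr ?_, hE' e he⟩
  obtain ⟨ρ, hρ, hc⟩ := exists_rho hG U e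
  have hp : p.Prime := Fact.out
  have hρ1 : 1 ≤ ρ := by
    rcases Nat.eq_zero_or_pos ρ with h | h
    · subst h
      simp at hρ
    · exact h
  have h1 : cb e u ∈ E' := by
    unfold cb
    have h2 : e * u * e⁻¹ * u⁻¹ = e * (u * e⁻¹ * u⁻¹) := by group
    rw [h2]
    exact E'.mul_mem he (hE'n.conj_mem _ (E'.inv_mem he) u)
  have h3 : cb e u = u ^ (ρ - 1) := by
    unfold cb
    rw [hc u huU, mul_inv_eq_iff_eq_mul, ← pow_succ]
    congr 1
    omega
  have h4 := hE' _ h1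
  rw [h3, ← pow_mul] at h4
  have h5 : e * u ^ p * e⁻¹ = u ^ p := by
    rw [hc _ (U.pow_mem huU p), ← pow_mul]
    have h6 : p * ρ = (ρ - 1) * p + p := by
      have h7 : ρ = (ρ - 1) + 1 := by omega
      conv_lhs => rw [h7]
      ring
    rw [h6, pow_add, h4, one_mul]
  show e * u ^ p = u ^ p * e
  calc e * u ^ p = e * u ^ p * e⁻¹ * e := by group
    _ = _ := by rw [h5]

theorem omega_normal (hG : IsPGroup p G) (U : Subgroup G) [hUn : U.Normal] [IsCyclic U]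
    {u : G} (huU : u ∈ U) :
    (Cfsg.omegaOne p (Subgroup.centralizer (Subgroup.zpowers (u ^ p) : Set G))).Normal := by
  haveI hzn : (Subgroup.zpowers (u ^ p)).Normal :=
    normal_of_le hG U (by
      rw [Subgroup.zpowers_le]
      exact U.pow_mem huU p)
  have hMn : (Subgroup.centralizer (Subgroup.zpowers (u ^ p) : Set G)).Normal :=
    Subgroup.normal_centralizer
  unfold Cfsg.omegaOne
  constructor
  intro x hx g
  have h : Subgroup.closure {x : G | x ∈ Subgroup.centralizer (Subgroup.zpowers (u ^ p) : Set G)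
      ∧ x ^ p = 1} ≤
      (Subgroup.closure {x : G | x ∈ Subgroup.centralizer (Subgroup.zpowers (u ^ p) : Set G)
      ∧ x ^ p = 1}).comap (MulAut.conj g).toMonoidHom := by
    rw [Subgroup.closure_le]
    rintro x ⟨hxM, hxp⟩
    show g * x * g⁻¹ ∈ Subgroup.closure _
    apply Subgroup.subset_closure
    exact ⟨hMn.conj_mem x hxM g, by rw [conj_pow, hxp, mul_one, mul_inv_cancel]⟩
  exact h hx

theorem second_alt (hG : IsPGroup p G) (U : Subgroup G) [hUn : U.Normal] [IsCyclic U]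
    {u : G} (huU : u ∈ U) (hu : ∀ x ∈ U, ∃ l : ℕ, x = u ^ l) {n : ℕ} (hon : orderOf u = p ^ n)
    (hn1 : 1 ≤ n) (hC : Subgroup.centralizer (U : Set G) = U) (hpn : p ≠ 2 ∨ 3 ≤ n) {g : G}
    (hg : Commute g (u ^ p)) (hgU : ¬ Commute g u) :
    U.relIndex (Subgroup.centralizer (Subgroup.zpowers (u ^ p) : Set G)) = p ∧
    Cfsg.IsElementaryAbelian p
      (Cfsg.omegaOne p (Subgroup.centralizer (Subgroup.zpowers (u ^ p) : Set G))) ∧
    Nat.card ↥(Cfsg.omegaOne p (Subgroup.centralizer (Subgroup.zpowers (u ^ p) : Set G))) = p ^ 2 ∧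
    (Cfsg.omegaOne p (Subgroup.centralizer (Subgroup.zpowers (u ^ p) : Set G))).Characteristic := by
  have hp : p.Prime := Fact.out
  obtain ⟨y, hy, hyU, hyp⟩ := exists_order_p hG U huU hu hon hn1 hC hpn hg hgU
  have hzc := z_central hG U huU hon hn1
  have hzp := z_pow_p (p := p) hon hn1
  have hz1 : u ^ p ^ (n - 1) ≠ 1 := by
    apply pow_ne_one_of_lt_orderOf (pow_pos hp.pos _).ne'
    rw [hon]
    exact Nat.pow_lt_pow_right hp.one_lt (by omega)
  have hzo : orderOf (u ^ p ^ (n - 1)) = p := orderOf_eq_prime hzp hz1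
  have hy1 : y ≠ 1 := by
    rintro rfl
    exact hyU (Commute.one_left u)
  have hyo : orderOf y = p := orderOf_eq_prime hyp hy1
  have hEq := omega_eq hG U huU hu hon hn1 hC hpn hy hyU hyp
  have hexp := sup_exp (u ^ p ^ (n - 1)) y hzc hzp hyp
  refine ⟨relIndex_eq hG U huU hu hon hn1 hC hg hgU, ?_, ?_, ?_⟩
  · rw [hEq]
    refine ⟨?_, hexp⟩
    have hcomm := sup_zpowers_comm (Subgroup.zpowers (u ^ p ^ (n - 1))) y
      (by
        intro a ha b hb
        obtain ⟨i, rfl⟩ := Subgroup.mem_zpowers_iff.mp ha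
        exact ((hzc b).symm.zpow_left i).eq)
      (by
        intro a ha
        obtain ⟨i, rfl⟩ := Subgroup.mem_zpowers_iff.mp ha
        exact ((hzc y).symm.zpow_left i).eq)
    exact ⟨⟨fun a b => Subtype.ext (hcomm a a.2 b b.2)⟩⟩
  · rw [hEq]
    haveI : (Subgroup.zpowers (u ^ p ^ (n - 1))).Normal := by
      constructor
      intro x hx g
      obtain ⟨i, rfl⟩ := Subgroup.mem_zpowers_iff.mp hx
      rw [((hzc g).zpow_right i).eq, mul_inv_cancel_right]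
      exact Subgroup.zpow_mem _ (Subgroup.mem_zpowers _) i
    have hyz : y ∉ Subgroup.zpowers (u ^ p ^ (n - 1)) := by
      intro hyz
      obtain ⟨i, rfl⟩ := Subgroup.mem_zpowers_iff.mp hyz
      apply hyU
      exact (((Commute.refl u).pow_left (p ^ (n - 1))).zpow_left i)
    have h1 := card_mul_relIndex' (le_sup_left :
      Subgroup.zpowers (u ^ p ^ (n - 1)) ≤ Subgroup.zpowers (u ^ p ^ (n - 1)) ⊔ Subgroup.zpowers y)
    rw [Subgroup.relIndex_sup_left, ← Subgroup.inf_relIndex_right,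
      inf_eq_bot_of_prime hyo _ hyz, Subgroup.relIndex_bot_left, Nat.card_zpowers,
      Nat.card_zpowers, hzo, hyo] at h1
    rw [← h1, pow_two]
  · haveI hEn := omega_normal (p := p) hG U huU
    rw [Subgroup.characteristic_iff_map_le]
    intro φ
    apply le_omega hG U huU _ (Subgroup.Normal.map hEn φ.toMonoidHom φ.surjective)
    rintro _ ⟨a, ha, rfl⟩
    have ha' : a ^ p = 1 := by
      rw [hEq] at ha
      exact hexp a ha
    show (φ a) ^ p = 1
    rw [← map_pow, ha', map_one]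

theorem exists_not_comm (U : Subgroup G) [IsCyclic U] {u : G} (huU : u ∈ U)
    (hu : ∀ x ∈ U, ∃ l : ℕ, x = u ^ l) (hC : Subgroup.centralizer (U : Set G) = U)
    (hna : ¬ IsMulCommutative G) : ∃ g₀ : G, ¬ Commute g₀ u := by
  by_contra hcon
  push_neg at hcon
  apply hna
  refine ⟨⟨fun x y => ?_⟩⟩
  exact comm_of_mem U ((mem_U_iff U huU hu hC x).mpr (hcon x))
    ((mem_U_iff U huU hu hC y).mpr (hcon y))

theorem exists_min_pow (hG : IsPGroup p G) {u g₀ : G} (hg₀ : ¬ Commute g₀ u) :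
    ∃ j : ℕ, ¬ Commute (g₀ ^ p ^ j) u ∧ Commute (g₀ ^ p ^ (j + 1)) u := by
  obtain ⟨k, hk⟩ := (IsPGroup.iff_orderOf.mp hG) g₀
  have hex2 : ∃ j, Commute (g₀ ^ p ^ j) u :=
    ⟨k, by
      rw [← hk, pow_orderOf_eq_one]
      exact Commute.one_left u⟩
  classical
  obtain ⟨j, hj, hmin⟩ : ∃ j, Commute (g₀ ^ p ^ j) u ∧ ∀ i < j, ¬ Commute (g₀ ^ p ^ i) u :=
    ⟨Nat.find hex2, Nat.find_spec hex2, fun i hi => Nat.find_min hex2 hi⟩
  have hj0 : j ≠ 0 := by
    rintro rfl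
    rw [pow_zero, pow_one] at hj
    exact hg₀ hj
  obtain ⟨j', rfl⟩ := Nat.exists_eq_succ_of_ne_zero hj0
  exact ⟨j', hmin j' (Nat.lt_succ_self j'), hj⟩

theorem exists_M_not_U (hp2 : p ≠ 2) (hG : IsPGroup p G) (U : Subgroup G) [hUn : U.Normal]
    [IsCyclic U] {u : G} (huU : u ∈ U) (hu : ∀ x ∈ U, ∃ l : ℕ, x = u ^ l)
    (hC : Subgroup.centralizer (U : Set G) = U) (hna : ¬ IsMulCommutative G) :
    ∃ g, Commute g (u ^ p) ∧ ¬ Commute g u := by
  obtain ⟨g₀, hg₀⟩ := exists_not_comm U huU hu hC hna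
  obtain ⟨j, hj1, hj2⟩ := exists_min_pow hG hg₀
  refine ⟨g₀ ^ p ^ j, ?_, hj1⟩
  rw [← comm_pow_iff hp2 hG U (g₀ ^ p ^ j) huU p, ← pow_mul, ← pow_succ]
  exact hj2

end setup

section two

variable {G : Type*} [Group G] [Finite G]

theorem nt2 {n ρ : ℕ} (hn : 2 ≤ n) (hρ : ρ % 2 = 1) (h : ρ ^ 2 ≡ 1 [MOD 2 ^ n]) :
    2 ^ (n - 1) ∣ ρ - 1 ∨ 2 ^ (n - 1) ∣ ρ + 1 := by
  obtain ⟨k, rfl⟩ : ∃ k, ρ = 2 * k + 1 := ⟨ρ / 2, by omega⟩
  have h1 : 2 ^ n ∣ (2 * k + 1) ^ 2 - 1 :=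
    (Nat.modEq_iff_dvd' (Nat.one_le_pow _ _ (by omega))).mp h.symm
  have h2 : (2 * k + 1) ^ 2 - 1 = 4 * (k * (k + 1)) := by
    have h2' : (2 * k + 1) ^ 2 = 4 * (k * (k + 1)) + 1 := by ring
    omega
  have h3 : 2 ^ n = 4 * 2 ^ (n - 2) := by
    have h3' : n = (n - 2) + 2 := by omega
    conv_lhs => rw [h3', pow_add]
    ring
  rw [h2, h3] at h1
  have h4 : 2 ^ (n - 2) ∣ k * (k + 1) := (Nat.mul_dvd_mul_iff_left (by norm_num)).mp h1
  have h5 : 2 ^ (n - 1) = 2 * 2 ^ (n - 2) := by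
    rw [← pow_succ']
    congr 1
    omega
  by_cases hk : 2 ∣ k
  · left
    have hcop : Nat.Coprime (2 ^ (n - 2)) (k + 1) :=
      Nat.Coprime.pow_left _ ((Nat.prime_two.coprime_iff_not_dvd).mpr (by omega))
    have h6 := hcop.dvd_of_dvd_mul_right h4
    rw [h5]
    have h7 : 2 * k + 1 - 1 = 2 * k := by omega
    rw [h7]
    exact Nat.mul_dvd_mul_left 2 h6
  · right
    have hcop : Nat.Coprime (2 ^ (n - 2)) k :=
      Nat.Coprime.pow_left _ ((Nat.prime_two.coprime_iff_not_dvd).mpr hk)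
    have h6 := hcop.dvd_of_dvd_mul_left h4
    rw [h5]
    have h7 : 2 * k + 1 + 1 = 2 * (k + 1) := by ring
    rw [h7]
    exact Nat.mul_dvd_mul_left 2 h6

theorem rho_sq (U : Subgroup G) {u : G} (huU : u ∈ U) {n : ℕ} (hon : orderOf u = 2 ^ n)
    {g : G} {ρ : ℕ} (hc : ∀ x ∈ U, g * x * g⁻¹ = x ^ ρ) (hg2 : Commute (g ^ 2) u) :
    ρ ^ 2 ≡ 1 [MOD 2 ^ n] := by
  have h1 := conj_pow_rho U hc 2 u huU
  rw [hg2.eq, mul_inv_cancel_right] at h1
  rw [← hon, ← pow_eq_pow_iff_modEq, pow_one]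
  exact h1.symm

theorem two_pow_n {n : ℕ} (hn1 : 1 ≤ n) : 2 ^ n = 2 ^ (n - 1) * 2 := by
  rw [← pow_succ]
  congr 1
  omega

theorem comm_sq_of_dvd (U : Subgroup G) {u : G} (huU : u ∈ U) {n : ℕ} (hon : orderOf u = 2 ^ n)
    (hn1 : 1 ≤ n) {g : G} {ρ : ℕ} (hρ1 : 1 ≤ ρ) (hc : ∀ x ∈ U, g * x * g⁻¹ = x ^ ρ)
    (h : 2 ^ (n - 1) ∣ ρ - 1) : Commute g (u ^ 2) := by
  obtain ⟨c, hcc⟩ := h
  have h1 := hc _ (U.pow_mem huU 2)
  have h2 : (u ^ 2) ^ ρ = u ^ 2 := by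
    rw [← pow_mul]
    have h3 : 2 * ρ = 2 ^ n * c + 2 := by
      rw [two_pow_n hn1, mul_comm (2 ^ (n - 1)) 2, mul_assoc, ← hcc]
      omega
    rw [h3, pow_add, pow_mul, ← hon, pow_orderOf_eq_one, one_pow, one_mul]
  rw [h2] at h1
  show g * u ^ 2 = u ^ 2 * g
  calc g * u ^ 2 = g * u ^ 2 * g⁻¹ * g := by group
    _ = _ := by rw [h1]

theorem conj_of_dvd_add (U : Subgroup G) {u : G} (huU : u ∈ U) {n : ℕ}
    (hon : orderOf u = 2 ^ n) (hn1 : 1 ≤ n) {g : G} {ρ : ℕ}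
    (hc : ∀ x ∈ U, g * x * g⁻¹ = x ^ ρ) (h : 2 ^ (n - 1) ∣ ρ + 1) :
    g * u * g⁻¹ = u⁻¹ ∨ g * u * g⁻¹ = u ^ (2 ^ (n - 1) - 1) := by
  obtain ⟨c, hcc⟩ := h
  rw [hc u huU]
  rcases Nat.even_or_odd' c with ⟨c', rfl | rfl⟩
  · left
    rw [eq_inv_iff_mul_eq_one, ← pow_succ, hcc]
    have h3 : 2 ^ (n - 1) * (2 * c') = 2 ^ n * c' := by
      rw [two_pow_n hn1]
      ring
    rw [h3, pow_mul, ← hon, pow_orderOf_eq_one, one_pow]
  · right
    apply mul_right_cancel (b := u)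
    rw [← pow_succ, ← pow_succ, hcc, Nat.sub_add_cancel (Nat.one_le_pow _ _ (by norm_num))]
    have h3 : 2 ^ (n - 1) * (2 * c' + 1) = 2 ^ n * c' + 2 ^ (n - 1) := by
      rw [two_pow_n hn1]
      ring
    rw [h3, pow_add, pow_mul, ← hon, pow_orderOf_eq_one, one_pow, one_mul]

theorem inv_sq_of_dvd (U : Subgroup G) {u : G} (huU : u ∈ U) {n : ℕ}
    (hon : orderOf u = 2 ^ n) (hn1 : 1 ≤ n) {g : G} {ρ : ℕ}
    (hc : ∀ x ∈ U, g * x * g⁻¹ = x ^ ρ) (h : 2 ^ (n - 1) ∣ ρ + 1) :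
    g * u ^ 2 * g⁻¹ = (u ^ 2)⁻¹ := by
  obtain ⟨c, hcc⟩ := h
  rw [hc _ (U.pow_mem huU 2), eq_inv_iff_mul_eq_one, ← pow_succ, ← pow_mul, hcc]
  have h3 : 2 * (2 ^ (n - 1) * c) = 2 ^ n * c := by
    rw [two_pow_n hn1]
    ring
  rw [h3, pow_mul, ← hon, pow_orderOf_eq_one, one_pow]

theorem step1 (hG : IsPGroup 2 G) (U : Subgroup G) [hUn : U.Normal] [IsCyclic U] {u : G}
    (huU : u ∈ U) {n : ℕ} (hon : orderOf u = 2 ^ n) (hn2 : 2 ≤ n)
    (hM : ∀ g, Commute g (u ^ 2) → Commute g u) {g : G} (hgU : ¬ Commute g u)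
    (hg2 : Commute (g ^ 2) u) : g * u ^ 2 * g⁻¹ = (u ^ 2)⁻¹ := by
  haveI : Fact (Nat.Prime 2) := ⟨Nat.prime_two⟩
  obtain ⟨ρ, hρ, hc⟩ := exists_rho hG U g
  have hsq := rho_sq U huU hon hc hg2
  rcases nt2 hn2 hρ hsq with h | h
  · exfalso
    exact hgU (hM g (comm_sq_of_dvd U huU hon (by omega) (by omega) hc h))
  · exact inv_sq_of_dvd U huU hon (by omega) hc h

theorem step2 (hG : IsPGroup 2 G) (U : Subgroup G) [hUn : U.Normal] [IsCyclic U] {u : G}
    (huU : u ∈ U) {n : ℕ} (hon : orderOf u = 2 ^ n) (hn3 : 3 ≤ n)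
    (hM : ∀ g, Commute g (u ^ 2) → Commute g u) (h : G) : Commute (h ^ 2) u := by
  haveI : Fact (Nat.Prime 2) := ⟨Nat.prime_two⟩
  by_contra hcon
  obtain ⟨j, hj1, hj2⟩ := exists_min_pow hG hcon
  have hk2 : (h ^ 2) ^ 2 ^ j = (h ^ 2 ^ j) ^ 2 := by
    rw [← pow_mul, mul_comm, pow_mul]
  have hk4 : (h ^ 2) ^ 2 ^ (j + 1) = ((h ^ 2 ^ j) ^ 2) ^ 2 := by
    rw [pow_succ 2 j, pow_mul (h ^ 2) (2 ^ j) 2, hk2]
  rw [hk2] at hj1
  rw [hk4] at hj2
  have h1 := step1 hG U huU hon (by omega) hM hj1 hj2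
  obtain ⟨σ, hσ, hc⟩ := exists_rho hG U (h ^ 2 ^ j)
  have h2 := conj_pow_rho U hc 2 (u ^ 2) (U.pow_mem huU 2)
  rw [h1] at h2
  have h3 : u ^ (2 * (σ * σ + 1)) = 1 := by
    rw [pow_mul, pow_succ, ← pow_two σ, ← h2, inv_mul_cancel]
  have h4 : 2 ^ n ∣ 2 * (σ * σ + 1) := by
    rw [← hon]
    exact orderOf_dvd_of_pow_eq_one h3
  have h5 : 2 ^ n = 2 * (4 * 2 ^ (n - 3)) := by
    have h5' : n = (n - 3) + 3 := by omega
    conv_lhs => rw [h5', pow_add]
    ring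
  rw [h5] at h4
  have h6 : 4 * 2 ^ (n - 3) ∣ σ * σ + 1 := (Nat.mul_dvd_mul_iff_left (by norm_num)).mp h4
  exact Cfsg.Agent.Lib.Helper18.UniqueInvolution.not_four_dvd_sq_add_one σ
    ((Dvd.intro _ rfl).trans h6)

theorem index_two (hG : IsPGroup 2 G) (hna : ¬ IsMulCommutative G) (U : Subgroup G)
    [hUn : U.Normal] [IsCyclic U] {u : G} (huU : u ∈ U) (hu : ∀ x ∈ U, ∃ l : ℕ, x = u ^ l)
    {n : ℕ} (hon : orderOf u = 2 ^ n) (hn2 : 2 ≤ n) (hC : Subgroup.centralizer (U : Set G) = U)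
    (hM : 3 ≤ n → ∀ g, Commute g (u ^ 2) → Commute g u) : U.index = 2 := by
  haveI : Fact (Nat.Prime 2) := ⟨Nat.prime_two⟩
  obtain ⟨a, ha⟩ := exists_not_comm U huU hu hC hna
  by_cases hn3 : 3 ≤ n
  · have hM' := hM hn3
    rw [Subgroup.index_eq_two_iff]
    refine ⟨a, fun b => ?_⟩
    by_cases hb : Commute b u
    · right
      refine ⟨(mem_U_iff U huU hu hC b).mpr hb, fun hba => ha ?_⟩
      have h1 := U.mul_mem (U.inv_mem ((mem_U_iff U huU hu hC b).mpr hb)) hba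
      rw [inv_mul_cancel_left] at h1
      exact (mem_U_iff U huU hu hC a).mp h1
    · left
      refine ⟨?_, fun hbU => hb ((mem_U_iff U huU hu hC b).mp hbU)⟩
      rw [mem_U_iff U huU hu hC]
      apply hM'
      have h1 := step1 hG U huU hon hn2 hM' ha (step2 hG U huU hon hn3 hM' a)
      have h2 := step1 hG U huU hon hn2 hM' hb (step2 hG U huU hon hn3 hM' b)
      have h3 : b * a * u ^ 2 * (b * a)⁻¹ = u ^ 2 := by
        have h4 : b * a * u ^ 2 * (b * a)⁻¹ = b * (a * u ^ 2 * a⁻¹) * b⁻¹ := by group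
        rw [h4, h1]
        have h5 : b * (u ^ 2)⁻¹ * b⁻¹ = (b * u ^ 2 * b⁻¹)⁻¹ := by group
        rw [h5, h2, inv_inv]
      show b * a * u ^ 2 = u ^ 2 * (b * a)
      calc b * a * u ^ 2 = b * a * u ^ 2 * (b * a)⁻¹ * (b * a) := by group
        _ = _ := by rw [h3]
  · have hn : n = 2 := by omega
    subst hn
    have hz := z_central hG U huU hon (by omega : 1 ≤ 2)
    have htop : Subgroup.centralizer (Subgroup.zpowers (u ^ 2) : Set G) = ⊤ := by
      rw [eq_top_iff]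
      intro g _
      rw [mem_M_iff]
      exact hz g
    have h1 := relIndex_eq hG U huU hu hon (by omega) hC (hz a) ha
    rw [htop, Subgroup.relIndex_top_right] at h1
    exact h1

theorem elt_sq_one (U : Subgroup G) {u : G} (hu : ∀ x ∈ U, ∃ l : ℕ, x = u ^ l) {n : ℕ}
    (hon : orderOf u = 2 ^ n) (hn1 : 1 ≤ n) {w : G} (hwU : w ∈ U) (hw : w ^ 2 = 1) :
    w = 1 ∨ w = u ^ 2 ^ (n - 1) := by
  obtain ⟨l, rfl⟩ := hu w hwU
  rw [← pow_mul] at hw
  have h1 : 2 ^ n ∣ l * 2 := by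
    rw [← hon]
    exact orderOf_dvd_of_pow_eq_one hw
  rw [two_pow_n hn1] at h1
  obtain ⟨d, rfl⟩ := (Nat.mul_dvd_mul_iff_right (by norm_num)).mp h1
  rcases Nat.even_or_odd' d with ⟨d', rfl | rfl⟩
  · left
    have h3 : 2 ^ (n - 1) * (2 * d') = 2 ^ n * d' := by
      rw [two_pow_n hn1]
      ring
    rw [h3, pow_mul, ← hon, pow_orderOf_eq_one, one_pow]
  · right
    have h3 : 2 ^ (n - 1) * (2 * d' + 1) = 2 ^ n * d' + 2 ^ (n - 1) := by
      rw [two_pow_n hn1]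
      ring
    rw [h3, pow_add, pow_mul, ← hon, pow_orderOf_eq_one, one_pow, one_mul]

theorem first_alt (hG : IsPGroup 2 G) (U : Subgroup G) [hUn : U.Normal] [IsCyclic U] {u : G}
    (huU : u ∈ U) (hu : ∀ x ∈ U, ∃ l : ℕ, x = u ^ l) {n : ℕ} (hon : orderOf u = 2 ^ n)
    (hn2 : 2 ≤ n) (hC : Subgroup.centralizer (U : Set G) = U)
    (hM : 3 ≤ n → ∀ g, Commute g (u ^ 2) → Commute g u) (hidx : U.index = 2) :
    Nat.card G = 2 ^ (n + 1) ∧ ((∃ m : ℕ, Nonempty (G ≃* DihedralGroup m)) ∨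
      (∃ m : ℕ, Nonempty (G ≃* QuaternionGroup m)) ∨ Cfsg.IsQuasiDihedral G) := by
  haveI : Fact (Nat.Prime 2) := ⟨Nat.prime_two⟩
  have hUz := U_eq_zpowers U huU hu
  have hcard : Nat.card G = 2 ^ (n + 1) := by
    rw [← Subgroup.card_mul_index U, hidx, hUz, Nat.card_zpowers, hon, pow_succ]
  refine ⟨hcard, ?_⟩
  have hne : U ≠ ⊤ := by
    intro h
    rw [h, Subgroup.index_top] at hidx
    omega
  obtain ⟨y, hyU⟩ : ∃ y, y ∉ U := by
    by_contra hcon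
    push_neg at hcon
    exact hne (eq_top_iff.mpr fun x _ => hcon x)
  have hy2U : y ^ 2 ∈ U := Subgroup.sq_mem_of_index_two hidx y
  have hyc : ¬ Commute y u := fun h => hyU ((mem_U_iff U huU hu hC y).mpr h)
  have hy2c : Commute (y ^ 2) u := (mem_U_iff U huU hu hC _).mp hy2U
  obtain ⟨ρ, hρ, hc⟩ := exists_rho hG U y
  have hsq := rho_sq U huU hon hc hy2c
  have hdvd : 2 ^ (n - 1) ∣ ρ + 1 := by
    by_cases hn3 : 3 ≤ n
    · rcases nt2 hn2 hρ hsq with h | h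
      · exfalso
        exact hyc (hM hn3 y (comm_sq_of_dvd U huU hon (by omega) (by omega) hc h))
      · exact h
    · have hn : n = 2 := by omega
      subst hn
      show 2 ^ 1 ∣ ρ + 1
      omega
  have hz2 : (u ^ 2 ^ (n - 1)) ^ 2 = 1 := z_pow_p (p := 2) hon (by omega)
  have hyU' : y ∉ Subgroup.zpowers u := by
    rw [← hUz]
    exact hyU
  obtain ⟨l, hl⟩ := hu _ hy2U
  have hyy : y * y ^ 2 * y⁻¹ = y ^ 2 := by group
  have h2n : 2 ^ n = 2 * 2 ^ (n - 1) := by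
    rw [two_pow_n (by omega : 1 ≤ n), mul_comm]
  rcases conj_of_dvd_add U huU hon (by omega) hc hdvd with hα | hβ
  · have h1 : y ^ 2 = 1 ∨ y ^ 2 = u ^ 2 ^ (n - 1) := by
      apply elt_sq_one U hu hon (by omega) hy2U
      have h2 : y * y ^ 2 * y⁻¹ = (y ^ 2)⁻¹ := by
        rw [hl, ← conj_pow, hα, inv_pow]
      rw [hyy] at h2
      rw [pow_two]
      nth_rewrite 1 [h2]
      exact inv_mul_cancel _
    rcases h1 with h1 | h1
    · left
      exact ⟨2 ^ n, Cfsg.Agent.Lib.Helper18.DihedralEquiv.dihedral_equiv (2 ^ n) (by positivity)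
        u y hon h1 hα hyU' (by rw [hcard, pow_succ, mul_comm])⟩
    · right
      left
      exact ⟨2 ^ (n - 1), Cfsg.Agent.Lib.Helper18.UniqueInvolution.quat_equiv (2 ^ (n - 1))
        (by positivity) u y (by rw [hon, h2n]) h1 hα hyU'
        (by
          rw [hcard, pow_succ, h2n]
          ring)⟩
  · have hn3 : 3 ≤ n := by
      by_contra hn3
      have hn : n = 2 := by omega
      subst hn
      apply hyc
      have h3 : y * u * y⁻¹ = u := by
        rw [hβ]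
        norm_num
      show y * u = u * y
      calc y * u = y * u * y⁻¹ * y := by group
        _ = _ := by rw [h3]
    have h1 : y ^ 2 = 1 ∨ y ^ 2 = u ^ 2 ^ (n - 1) := by
      apply elt_sq_one U hu hon (by omega) hy2U
      have h2 : y * y ^ 2 * y⁻¹ = (y ^ 2) ^ (2 ^ (n - 1) - 1) := by
        rw [hl, ← conj_pow, hβ, ← pow_mul, ← pow_mul, mul_comm]
      rw [hyy] at h2
      have h3 : (y ^ 2) ^ (2 ^ (n - 1) - 2) = 1 := by
        have h4 : 2 ^ (n - 1) - 1 = (2 ^ (n - 1) - 2) + 1 := by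
          have h4' : 2 ^ 2 ≤ 2 ^ (n - 1) := Nat.pow_le_pow_right (by norm_num) (by omega)
          omega
        rw [h4, pow_succ (y ^ 2) (2 ^ (n - 1) - 2)] at h2
        exact mul_eq_right.mp h2.symm
      have h5 : orderOf (y ^ 2) ∣ 2 ^ (n - 1) - 2 := orderOf_dvd_of_pow_eq_one h3
      have h6 : orderOf (y ^ 2) ∣ 2 ^ n := by
        apply orderOf_dvd_of_pow_eq_one
        rw [hl, ← pow_mul, mul_comm, pow_mul, ← hon, pow_orderOf_eq_one, one_pow]
      have h7 : 2 ^ (n - 1) - 2 = 2 * (2 ^ (n - 2) - 1) := by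
        have h7' : 2 ^ (n - 1) = 2 * 2 ^ (n - 2) := by
          rw [← pow_succ']
          congr 1
          omega
        omega
      have h9 := Nat.dvd_gcd h5 h6
      rw [h7, h2n, Nat.gcd_mul_left] at h9
      have hcop : Nat.Coprime (2 ^ (n - 2) - 1) (2 ^ (n - 1)) := by
        apply Nat.Coprime.pow_right
        rw [Nat.coprime_comm, Nat.prime_two.coprime_iff_not_dvd]
        have h7' : 2 ^ (n - 2) = 2 * 2 ^ (n - 3) := by
          rw [← pow_succ']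
          congr 1
          omega
        have h7'' : 0 < 2 ^ (n - 3) := by positivity
        intro hdvd2
        rw [h7'] at hdvd2
        omega
      rw [hcop, mul_one] at h9
      exact orderOf_dvd_iff_pow_eq_one.mp h9
    right
    right
    rcases h1 with h1 | h1
    · refine ⟨n, hn3, hcard, u, y, hon, ?_, hβ⟩
      exact orderOf_eq_prime h1 (by
        rintro rfl
        exact hyU U.one_mem)
    · refine ⟨n, hn3, hcard, u, u * y, hon, ?_, ?_⟩
      · apply orderOf_eq_prime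
        · have h2 : (u * y) ^ 2 = u * (y * u * y⁻¹) * y ^ 2 := by
            rw [pow_two, pow_two]
            group
          rw [h2, hβ, h1, ← pow_succ', Nat.sub_add_cancel (Nat.one_le_pow _ _ (by norm_num)),
            ← pow_two, hz2]
        · intro h2
          apply hyU
          have h3 : y = u⁻¹ := by
            rw [eq_inv_iff_mul_eq_one]
            have h4 : y * u = u⁻¹ * (u * y) * u := by group
            rw [h4, h2, mul_one, inv_mul_cancel]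
          rw [h3]
          exact U.inv_mem huU
      · have h2 : u * y * u * (u * y)⁻¹ = u * (y * u * y⁻¹) * u⁻¹ := by group
        rw [h2, hβ, ← pow_succ', pow_succ, mul_inv_cancel_right]

end two

theorem result {G : Type*} [Group G] [Finite G] {p : ℕ} [Fact p.Prime] (hG : IsPGroup p G) (hna : ¬ IsMulCommutative G) (U : Subgroup G) [U.Normal] (hU : IsCyclic U) (n : ℕ) (hUn : Nat.card U = p ^ n) (hC : Subgroup.centralizer (U : Set G) = U) : (p = 2 ∧ Nat.card G = 2 ^ (n + 1) ∧ ((∃ m : ℕ, Nonempty (G ≃* DihedralGroup m)) ∨ (∃ m : ℕ, Nonempty (G ≃* QuaternionGroup m)) ∨ Cfsg.IsQuasiDihedral G)) ∨ (U.relIndex (Subgroup.centralizer (Cfsg.powerClosure p 1 U : Set G)) = p ∧ Cfsg.IsElementaryAbelian p (Cfsg.omegaOne p (Subgroup.centralizer (Cfsg.powerClosure p 1 U : Set G))) ∧ Nat.card ↥(Cfsg.omegaOne p (Subgroup.centralizer (Cfsg.powerClosure p 1 U : Set G))) = p ^ 2 ∧ (Cfsg.omegaOne p (Subgroup.centralizer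 (Cfsg.powerClosure p 1 U : Set G))).Characteristic) := by
  haveI := hU
  obtain ⟨u, huU, hu⟩ := exists_gen U
  have hon : orderOf u = p ^ n := by
    rw [← Nat.card_zpowers u, ← U_eq_zpowers U huU hu]
    exact hUn
  have hn2 := two_le_n hG hna U huU hu hon hC
  rw [power_closure_eq U huU hu]
  by_cases hcase : (∃ g, Commute g (u ^ p) ∧ ¬ Commute g u) ∧ (p ≠ 2 ∨ 3 ≤ n)
  · right
    obtain ⟨⟨g, hg, hgU⟩, hpn⟩ := hcase
    exact second_alt hG U huU hu hon (by omega) hC hpn hg hgU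
  · left
    have hp2 : p = 2 := by
      by_contra hp2
      exact hcase ⟨exists_M_not_U hp2 hG U huU hu hC hna, Or.inl hp2⟩
    subst hp2
    have hM : 3 ≤ n → ∀ g, Commute g (u ^ 2) → Commute g u := by
      intro hn3 g hg
      by_contra hgU
      exact hcase ⟨⟨g, hg, hgU⟩, Or.inr hn3⟩
    have hidx := index_two hG hna U huU hu hon hn2 hC hM
    exact ⟨rfl, first_alt hG U huU hu hon hn2 hC hM hidx⟩

end Cfsg.Agent.S3761
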