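import Cfsg.Statements.S5185
import Mathlib
import Cfsg.Agent.Lib.Helper27.EssAut
import Cfsg.Agent.Lib.Helper2.SLGen

set_option autoImplicit false
set_option linter.deprecated false
universe u
open Cfsg

namespace Cfsg.Agent.S5185

open Cfsg.FusionSystem Cfsg.Agent.Lib.Helper26 Cfsg.Agent.Lib.Helper27.EssAut

/-- In an elementary abelian group of order `p²`, a group of automorphisms of order divisible
by `p` without normal Sylow `p`-subgroup contains two "opposite transvections". -/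
theorem exists_pair {H : Type*} [Group H] [Finite H] {p : ℕ} [Fact p.Prime]
    (hcomm : ∀ x y : H, x * y = y * x) (hcard : Nat.card H = p ^ 2) (hexp : ∀ x : H, x ^ p = 1)
    (A : Subgroup (MulAut H)) (hpA : p ∣ Nat.card A)
    (hns : ∀ R : Sylow p A, ¬ (R : Subgroup A).Normal) :
    ∃ e1 e2 : H, ∃ α ∈ A, ∃ β ∈ A, e1 ≠ 1 ∧ e2 ∉ Subgroup.zpowers e1 ∧ α e1 = e1 ∧
      α e2 = e2 * e1 ∧ β e2 = e2 ∧ β e1 = e1 * e2 := by
  have hp : p.Prime := Fact.out
  have hpH : p ∣ Nat.card H := by rw [hcard]; exact dvd_pow_self p (by norm_num)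
  have hord : ∀ x : H, x ≠ 1 → orderOf x = p := fun x hx => orderOf_eq_prime (hexp x) hx
  have hzcard : ∀ x : H, x ≠ 1 → Nat.card (Subgroup.zpowers x) = p := fun x hx => by
    rw [Nat.card_zpowers, hord x hx]
  obtain ⟨R⟩ : Nonempty (Sylow p A) := inferInstance
  have hRn := hns R
  have hPp : IsPGroup p ((R : Subgroup A).map A.subtype) := R.isPGroup'.map _
  obtain ⟨e, he1, hefix⟩ := exists_fixed _ hPp hpH
  obtain ⟨L, hLdef⟩ : ∃ L, L = Subgroup.zpowers e := ⟨_, rfl⟩
  have hLc : Nat.card L = p := hLdef ▸ hzcard e he1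
  let T : Subgroup (MulAut H) :=
    { carrier := {γ | (∀ x ∈ L, γ x = x) ∧ ∀ x, x⁻¹ * γ x ∈ L}
      one_mem' := ⟨fun x _ => rfl, fun x => by simp⟩
      mul_mem' := by
        rintro γ₁ γ₂ ⟨h1, h1'⟩ ⟨h2, h2'⟩
        refine ⟨fun x hx => by rw [MulAut.mul_apply, h2 x hx, h1 x hx], fun x => ?_⟩
        rw [MulAut.mul_apply]
        have : x⁻¹ * γ₁ (γ₂ x) = (x⁻¹ * γ₂ x) * ((γ₂ x)⁻¹ * γ₁ (γ₂ x)) := by group
        rw [this]
        exact mul_mem (h2' x) (h1' (γ₂ x))
      inv_mem' := by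
        rintro γ ⟨h1, h1'⟩
        have hfixinv : ∀ x ∈ L, γ⁻¹ x = x := fun x hx => by
          calc γ⁻¹ x = γ⁻¹ (γ x) := by rw [h1 x hx]
            _ = x := MulAut.inv_apply_self _ _ _
        refine ⟨hfixinv, fun x => ?_⟩
        have h := h1' (γ⁻¹ x)
        rw [MulAut.apply_inv_self] at h
        have : x⁻¹ * γ⁻¹ x = ((γ⁻¹ x)⁻¹ * x)⁻¹ := by group
        rw [this]
        exact inv_mem h }
  have hTmem : ∀ γ : MulAut H, γ ∈ T ↔ (∀ x ∈ L, γ x = x) ∧ ∀ x, x⁻¹ * γ x ∈ L :=
    fun γ => Iff.rfl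
  have hTp : IsPGroup p T := by
    rintro ⟨γ, hγ⟩
    obtain ⟨hγ1, hγ2⟩ := (hTmem γ).1 hγ
    refine ⟨1, ?_⟩
    apply Subtype.ext
    simp only [pow_one, Subgroup.coe_pow, Subgroup.coe_one]
    ext x
    have hx : γ x = x * (x⁻¹ * γ x) := by group
    rw [pow_apply_mul γ hx (hγ1 _ (hγ2 x)) p, MulAut.one_apply, hexp, mul_one]
  have hPT : ∀ γ : A, γ ∈ (R : Subgroup A) → (γ : MulAut H) ∈ T := by
    intro γ hγ
    have hfix : ∀ x ∈ L, (γ : MulAut H) x = x := by
      intro x hx
      rw [hLdef] at hx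
      obtain ⟨k, rfl⟩ := Subgroup.mem_zpowers_iff.1 hx
      have h0 : (γ : MulAut H) e = e := hefix _ ⟨γ, hγ, rfl⟩
      rw [map_zpow, h0]
    obtain ⟨m, hm⟩ := R.isPGroup' ⟨γ, hγ⟩
    have hm' : (γ : MulAut H) ^ p ^ m = 1 := by
      have := congrArg (fun z : (R : Subgroup A) => ((z : A) : MulAut H)) hm
      simpa using this
    exact (hTmem _).2 ⟨hfix, trans_of_fix hcomm hcard _ hm' L hLc hfix⟩
  have hRT : T.subgroupOf A = (R : Subgroup A) :=
    R.is_maximal' (hTp.comap_subtype) (fun γ hγ => Subgroup.mem_subgroupOf.2 (hPT γ hγ))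
  obtain ⟨r, hr, g, hg⟩ : ∃ r ∈ (R : Subgroup A), ∃ g : A, g * r * g⁻¹ ∉ (R : Subgroup A) := by
    by_contra hcon
    push Not at hcon
    exact hRn ⟨fun n hn g => hcon n hn g⟩
  obtain ⟨β₀, hβ₀⟩ : ∃ β₀ : A, β₀ = g * r * g⁻¹ := ⟨_, rfl⟩
  rw [← hβ₀] at hg
  have hβ₀T : (β₀ : MulAut H) ∉ T := fun h => hg (hRT ▸ Subgroup.mem_subgroupOf.2 h)
  obtain ⟨m, hm⟩ := R.isPGroup' ⟨r, hr⟩
  have hβ₀pow : (β₀ : MulAut H) ^ p ^ m = 1 := by
    have h1 : r ^ p ^ m = 1 := by
      have := congrArg Subtype.val hm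
      simpa using this
    have h2 : β₀ ^ p ^ m = 1 := by rw [hβ₀, conj_pow, h1, mul_one, mul_inv_cancel]
    have := congrArg Subtype.val h2
    simpa using this
  have hZp : IsPGroup p (Subgroup.zpowers (β₀ : MulAut H)) := by
    rintro ⟨γ, hγ⟩
    obtain ⟨k, rfl⟩ := Subgroup.mem_zpowers_iff.1 hγ
    refine ⟨m, Subtype.ext ?_⟩
    simp only [Subgroup.coe_pow, Subgroup.coe_one]
    rw [← zpow_natCast, ← zpow_mul, mul_comm, zpow_mul, zpow_natCast, hβ₀pow, one_zpow]
  obtain ⟨e', he'1, he'fix⟩ := exists_fixed _ hZp hpH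
  have hβ₀e' : (β₀ : MulAut H) e' = e' := he'fix _ (Subgroup.mem_zpowers _)
  obtain ⟨L2, hL2def⟩ : ∃ L2, L2 = Subgroup.zpowers e' := ⟨_, rfl⟩
  have hL2c : Nat.card L2 = p := hL2def ▸ hzcard e' he'1
  have hL2fix : ∀ x ∈ L2, (β₀ : MulAut H) x = x := by
    intro x hx
    rw [hL2def] at hx
    obtain ⟨k, rfl⟩ := Subgroup.mem_zpowers_iff.1 hx
    rw [map_zpow, hβ₀e']
  have hβ₀L2 := trans_of_fix hcomm hcard _ hβ₀pow L2 hL2c hL2fix
  have hnotfix : ¬ ∀ x ∈ L, (β₀ : MulAut H) x = x := fun h =>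
    hβ₀T ((hTmem _).2 ⟨h, trans_of_fix hcomm hcard _ hβ₀pow L hLc h⟩)
  have he'L : e' ∉ L := by
    intro h
    apply hnotfix
    have hle : L2 ≤ L := by
      rw [hL2def, Subgroup.zpowers_le]
      exact h
    have heq : L2 = L := Subgroup.eq_of_le_of_card_ge hle (by rw [hLc, hL2c])
    intro x hx
    exact hL2fix x (heq ▸ hx)
  have hRbot : (R : Subgroup A) ≠ ⊥ := R.ne_bot_of_dvd_card hpA
  obtain ⟨⟨α, hαR⟩, hα1⟩ := Subgroup.ne_bot_iff_exists_ne_one.1 hRbot
  have hαT := (hTmem _).1 (hPT α hαR)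
  have hαne : (α : MulAut H) ≠ 1 := fun h => hα1 (Subtype.ext (Subtype.ext h))
  have hαe' : (α : MulAut H) e' ≠ e' := by
    intro h
    apply hαne
    let Fx : Subgroup H := MonoidHom.eqLocus ((α : MulAut H).toMonoidHom) (MonoidHom.id H)
    have hLF : L ≤ Fx := fun x hx => hαT.1 x hx
    have he'F : e' ∈ Fx := h
    have hdvd : Nat.card Fx ∣ p ^ 2 := hcard ▸ Subgroup.card_subgroup_dvd_card _
    obtain ⟨j, hj, hjc⟩ := (Nat.dvd_prime_pow hp).1 hdvd
    have hLle : p ≤ Nat.card Fx := hLc ▸ Subgroup.card_le_of_le hLF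
    have hj2 : j = 2 := by
      interval_cases j
      · rw [hjc, pow_zero] at hLle
        have := hp.one_lt
        omega
      · exfalso
        have heq : L = Fx := Subgroup.eq_of_le_of_card_ge hLF (by rw [hjc, pow_one, hLc])
        exact he'L (heq ▸ he'F)
      · rfl
    have htop : Fx = ⊤ := Subgroup.eq_top_of_card_eq _ (by rw [hjc, hj2, hcard])
    ext x
    have hx : x ∈ Fx := htop ▸ Subgroup.mem_top x
    exact hx
  obtain ⟨e1, he1def⟩ : ∃ e1, e1 = e'⁻¹ * (α : MulAut H) e' := ⟨_, rfl⟩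
  have he1L : e1 ∈ L := he1def ▸ hαT.2 e'
  have he1ne : e1 ≠ 1 := by
    intro h
    rw [he1def] at h
    exact hαe' (inv_mul_eq_one.1 h).symm
  have hαe1 : (α : MulAut H) e1 = e1 := hαT.1 e1 he1L
  have hαe2 : (α : MulAut H) e' = e' * e1 := by rw [he1def, mul_inv_cancel_left]
  have hzL : Subgroup.zpowers e1 = L :=
    Subgroup.eq_of_le_of_card_ge (Subgroup.zpowers_le.2 he1L) (by rw [hLc, hzcard e1 he1ne])
  have he2 : e' ∉ Subgroup.zpowers e1 := hzL ▸ he'L
  obtain ⟨l, hldef⟩ : ∃ l, l = e1⁻¹ * (β₀ : MulAut H) e1 := ⟨_, rfl⟩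
  have hlL2 : l ∈ L2 := hldef ▸ hβ₀L2 e1
  have hlne : l ≠ 1 := by
    intro h
    rw [hldef] at h
    have hfix1 : (β₀ : MulAut H) e1 = e1 := (inv_mul_eq_one.1 h).symm
    apply hnotfix
    intro x hx
    rw [← hzL] at hx
    obtain ⟨k, rfl⟩ := Subgroup.mem_zpowers_iff.1 hx
    rw [map_zpow, hfix1]
  have hzl : Subgroup.zpowers l = L2 :=
    Subgroup.eq_of_le_of_card_ge (Subgroup.zpowers_le.2 hlL2) (by rw [hL2c, hzcard l hlne])
  have he'l : e' ∈ Subgroup.zpowers l := by
    rw [hzl, hL2def]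
    exact Subgroup.mem_zpowers e'
  rw [← (isOfFinOrder_of_finite l).mem_powers_iff_mem_zpowers, Submonoid.mem_powers_iff] at he'l
  obtain ⟨n, hn⟩ := he'l
  have hβ₀l : (β₀ : MulAut H) l = l := hL2fix l hlL2
  have hβ₀e1 : (β₀ : MulAut H) e1 = e1 * l := by rw [hldef, mul_inv_cancel_left]
  refine ⟨e1, e', (α : MulAut H), α.2, (β₀ : MulAut H) ^ n, A.pow_mem β₀.2 n, he1ne, he2, hαe1,
    hαe2, pow_apply_fix _ hβ₀e' n, ?_⟩
  rw [pow_apply_mul _ hβ₀e1 hβ₀l n, hn]

/-- Two opposite transvections of an elementary abelian group of order `p²` generate a copy of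
`SL₂(p)`. -/
theorem sl2_embed {H : Type*} [Group H] [Finite H] {p : ℕ} [Fact p.Prime]
    (hcomm : ∀ x y : H, x * y = y * x)
    (hcard : Nat.card H = p ^ 2) (hexp : ∀ x : H, x ^ p = 1) {e1 e2 : H} (he1 : e1 ≠ 1)
    (he2 : e2 ∉ Subgroup.zpowers e1) {α β : MulAut H} (hα1 : α e1 = e1) (hα2 : α e2 = e2 * e1)
    (hβ2 : β e2 = e2) (hβ1 : β e1 = e1 * e2) :
    ∃ ρ : Matrix.SpecialLinearGroup (Fin 2) (ZMod p) →* MulAut H,
      Function.Injective ρ ∧ ρ.range ≤ Subgroup.closure {α, β} := by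
  classical
  have hp : p.Prime := Fact.out
  let _ : CommGroup H := { (inferInstance : Group H) with mul_comm := hcomm }
  obtain ⟨_⟩ : Nonempty (Module (ZMod p) (Additive H)) := ⟨AddCommGroup.zmodModule (n := p) (by
    intro x
    show Additive.ofMul ((Additive.toMul x) ^ p) = 0
    rw [hexp]
    rfl)⟩
  have hsmul : ∀ (c : ZMod p) (x : H), c • Additive.ofMul x = Additive.ofMul (x ^ c.val) := by
    intro c x
    conv_lhs => rw [← ZMod.natCast_zmod_val c]
    rw [Nat.cast_smul_eq_nsmul]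
    rfl
  have hfinr : Module.finrank (ZMod p) (Additive H) = 2 := by
    have := Fintype.ofFinite (Additive H)
    have h1 := Module.card_eq_pow_finrank (K := ZMod p) (V := Additive H)
    rw [ZMod.card, ← Nat.card_eq_fintype_card] at h1
    have h2 : Nat.card (Additive H) = p ^ 2 := hcard
    rw [h2] at h1
    exact (Nat.pow_right_injective hp.two_le h1).symm
  have hli : LinearIndependent (ZMod p) ![Additive.ofMul e1, Additive.ofMul e2] := by
    rw [LinearIndependent.pair_iff]
    intro s t hst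
    have ht : t = 0 := by
      by_contra ht
      apply he2
      have h1 : Additive.ofMul e2 = (-(t⁻¹ * s)) • Additive.ofMul e1 := by
        have h2 : t • Additive.ofMul e2 = -(s • Additive.ofMul e1) :=
          eq_neg_of_add_eq_zero_right hst
        calc Additive.ofMul e2 = t⁻¹ • (t • Additive.ofMul e2) := by
              rw [smul_smul, inv_mul_cancel₀ ht, one_smul]
          _ = (-(t⁻¹ * s)) • Additive.ofMul e1 := by rw [h2, smul_neg, smul_smul, neg_smul]
      rw [hsmul] at h1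
      have h3 : e2 = e1 ^ (-(t⁻¹ * s)).val := Additive.ofMul.injective h1
      rw [h3]
      exact Subgroup.pow_mem _ (Subgroup.mem_zpowers e1) _
    subst ht
    rw [zero_smul, add_zero] at hst
    refine ⟨?_, rfl⟩
    by_contra hs
    have h5 : Additive.ofMul e1 = s⁻¹ • (s • Additive.ofMul e1) := by
      rw [smul_smul, inv_mul_cancel₀ hs, one_smul]
    rw [hst, smul_zero] at h5
    exact he1 (Additive.ofMul.injective h5)
  let b : Module.Basis (Fin 2) (ZMod p) (Additive H) :=
    basisOfLinearIndependentOfCardEqFinrank hli (by rw [hfinr]; rfl)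
  have hb : ⇑b = ![Additive.ofMul e1, Additive.ofMul e2] :=
    coe_basisOfLinearIndependentOfCardEqFinrank _ _
  have hb0 : b 0 = Additive.ofMul e1 := by rw [hb]; rfl
  have hb1 : b 1 = Additive.ofMul e2 := by rw [hb]; rfl
  have hsingle : ∀ i, b.equivFun (b i) = Pi.single i 1 := by
    intro i
    ext j
    rw [b.equivFun_self, Pi.single_apply]
    simp [eq_comm]
  let toAut : ((Additive H) ≃ₗ[ZMod p] (Additive H)) →* MulAut H :=
    { toFun := fun f => MulEquiv.toAdditive.symm f.toAddEquiv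
      map_one' := by ext x; rfl
      map_mul' := by intro f g; ext x; rfl }
  let cj : ((Fin 2 → ZMod p) ≃ₗ[ZMod p] (Fin 2 → ZMod p)) →*
      ((Additive H) ≃ₗ[ZMod p] (Additive H)) :=
    { toFun := fun f => (b.equivFun.trans f).trans b.equivFun.symm
      map_one' := LinearEquiv.ext fun x => by
        show b.equivFun.symm (b.equivFun x) = x
        exact LinearEquiv.symm_apply_apply _ _
      map_mul' := fun f g => LinearEquiv.ext fun x => by
        show b.equivFun.symm (f (g (b.equivFun x))) =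
          b.equivFun.symm (f (b.equivFun (b.equivFun.symm (g (b.equivFun x)))))
        rw [LinearEquiv.apply_symm_apply] }
  have hcjapp : ∀ (f : (Fin 2 → ZMod p) ≃ₗ[ZMod p] (Fin 2 → ZMod p)) (x : Additive H),
      cj f x = b.equivFun.symm (f (b.equivFun x)) := fun _ _ => rfl
  have htoAut : Function.Injective toAut := by
    intro f g h
    ext x
    have := congrArg (fun φ : MulAut H => Additive.ofMul (φ (Additive.toMul x))) h
    exact this
  have hcj : Function.Injective cj := by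
    intro f g h
    ext w : 1
    have h2 : ∀ f' : (Fin 2 → ZMod p) ≃ₗ[ZMod p] (Fin 2 → ZMod p),
        b.equivFun ((cj f') (b.equivFun.symm w)) = f' w := by
      intro f'
      rw [hcjapp, LinearEquiv.apply_symm_apply, LinearEquiv.apply_symm_apply]
    rw [← h2 f, ← h2 g, h]
  let ρ : Matrix.SpecialLinearGroup (Fin 2) (ZMod p) →* MulAut H :=
    toAut.comp (cj.comp Matrix.SpecialLinearGroup.toLin')
  have hinj : Function.Injective ρ :=
    (htoAut.comp hcj).comp Matrix.SpecialLinearGroup.toLin'_injective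
  have key : ∀ (M : Matrix.SpecialLinearGroup (Fin 2) (ZMod p)) (γ : MulAut H),
      (∀ i : Fin 2, Additive.ofMul (γ (Additive.toMul (b i))) =
        b.equivFun.symm (Matrix.mulVec M.1 (b.equivFun (b i)))) → ρ M = γ := by
    intro M γ h
    let γL : Additive H →ₗ[ZMod p] Additive H :=
      (MulEquiv.toAdditive γ).toAddMonoidHom.toZModLinearMap p
    let ρL : Additive H →ₗ[ZMod p] Additive H :=
      ((cj (Matrix.SpecialLinearGroup.toLin' M)) : Additive H ≃ₗ[ZMod p] Additive H).toLinearMap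
    have heq : ρL = γL := b.ext (fun i => (h i).symm)
    ext x
    have := congrArg (fun f : Additive H →ₗ[ZMod p] Additive H =>
      Additive.toMul (f (Additive.ofMul x))) heq
    exact this
  have h01eq : ∀ (h : (0 : Fin 2) ≠ 1),
      ρ (Matrix.SpecialLinearGroup.transvection h (1 : ZMod p)) = α := by
    intro h
    apply key
    have t0 := Matrix.SpecialLinearGroup.transvection_mulVec_single_self h (1 : ZMod p)
    have t1 := Matrix.SpecialLinearGroup.transvection_mulVec_single_other h (1 : ZMod p)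
    refine Fin.forall_fin_two.2 ⟨?_, ?_⟩
    · rw [hsingle, t0, ← hsingle, LinearEquiv.symm_apply_apply, hb0]
      show Additive.ofMul (α e1) = _
      rw [hα1]
    · rw [hsingle, t1, map_add, map_smul, ← hsingle, ← hsingle, LinearEquiv.symm_apply_apply,
        LinearEquiv.symm_apply_apply, one_smul, hb0, hb1]
      show Additive.ofMul (α e2) = _
      rw [hα2]
      rfl
  have h10eq : ∀ (h : (1 : Fin 2) ≠ 0),
      ρ (Matrix.SpecialLinearGroup.transvection h (1 : ZMod p)) = β := by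
    intro h
    apply key
    have t0 := Matrix.SpecialLinearGroup.transvection_mulVec_single_self h (1 : ZMod p)
    have t1 := Matrix.SpecialLinearGroup.transvection_mulVec_single_other h (1 : ZMod p)
    refine Fin.forall_fin_two.2 ⟨?_, ?_⟩
    · rw [hsingle, t1, map_add, map_smul, ← hsingle, ← hsingle, LinearEquiv.symm_apply_apply,
        LinearEquiv.symm_apply_apply, one_smul, hb0, hb1]
      show Additive.ofMul (β e1) = _
      rw [hβ1]
      rfl
    · rw [hsingle, t0, ← hsingle, LinearEquiv.symm_apply_apply, hb1]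
      show Additive.ofMul (β e2) = _
      rw [hβ2]
  refine ⟨ρ, hinj, ?_⟩
  rintro _ ⟨M, rfl⟩
  refine Cfsg.Agent.Lib.Helper2.SLGen.transvection_induction
    (fun M => ρ M ∈ Subgroup.closure {α, β}) ?_
    (fun A B hA hB => by rw [map_mul]; exact mul_mem hA hB) M
  intro i j hij c
  have hpow : ∀ (n : ℕ), Matrix.SpecialLinearGroup.transvection hij (n : ZMod p) =
      (Matrix.SpecialLinearGroup.transvection hij (1 : ZMod p)) ^ n := by
    intro n
    induction n with
    | zero => simp [Matrix.SpecialLinearGroup.transvection_coeff_zero]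
    | succ n ih => rw [Nat.cast_succ, Matrix.SpecialLinearGroup.transvection_add, ih, pow_succ]
  have hc : Matrix.SpecialLinearGroup.transvection hij c =
      (Matrix.SpecialLinearGroup.transvection hij (1 : ZMod p)) ^ c.val := by
    rw [← hpow, ZMod.natCast_zmod_val]
  show ρ (Matrix.SpecialLinearGroup.transvection hij c) ∈ _
  rw [hc, map_pow]
  apply Subgroup.pow_mem
  fin_cases i <;> fin_cases j
  · exact absurd rfl hij
  · rw [h01eq hij]
    exact Subgroup.subset_closure (by simp)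
  · rw [h10eq hij]
    exact Subgroup.subset_closure (by simp)
  · exact absurd rfl hij

/-- Let F be a saturated fusion system over a finite p-group S and H an essential subgroup of order p². Then H is elementary abelian (isomorphic to C_p × C_p) and its F-automorphism group contains a subgroup isomorphic to SL(2,p). -/
theorem result {Ω : Type u} [Group Ω] {S : Subgroup Ω} [Finite S] (p : ℕ) [Fact p.Prime] (hS : IsPGroup p S)
    (F : Cfsg.FusionSystem S) (hF : F.IsSaturated p) (H : Subgroup Ω) (hH : F.IsEssential p H) (hcard : Nat.card H = p ^ 2) :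
    Cfsg.IsElementaryAbelian p H ∧
      ∃ K : Subgroup ↥(F.autGroup H), Nonempty (↥K ≃* Matrix.SpecialLinearGroup (Fin 2) (ZMod p)) := by
  have hp : p.Prime := Fact.out
  have hHS : H ≤ S := hH.1.1
  have hfin : Finite H := finite_of_le hHS
  have hcomm : ∀ a b : H, a * b = b * a := fun a b => (IsPGroup.isMulCommutative_of_card_eq_prime_sq hcard).is_comm.comm a b
  have hns := ess_no_normal_sylow p F hH
  have hdvd := ess_dvd_card p F hH
  have hncyc : ¬ IsCyclic H := by
    intro hcyc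
    have hAcomm : ∀ a b : F.autGroup H, a * b = b * a := by
      intro a b
      apply Subtype.ext
      have e := IsCyclic.mulAutMulEquiv H
      apply e.injective
      simp only [Subgroup.coe_mul, map_mul]
      exact mul_comm _ _
    obtain ⟨R⟩ : Nonempty (Sylow p (F.autGroup H)) := inferInstance
    apply hns R
    constructor
    intro n hn g
    rw [hAcomm g n, mul_assoc, mul_inv_cancel, mul_one]
    exact hn
  have hexp : ∀ x : H, x ^ p = 1 := by
    intro x
    have h1 : orderOf x ∣ p ^ 2 := hcard ▸ orderOf_dvd_natCard x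
    obtain ⟨j, hj, hjc⟩ := (Nat.dvd_prime_pow hp).1 h1
    interval_cases j
    · rw [pow_zero, orderOf_eq_one_iff] at hjc
      rw [hjc, one_pow]
    · rw [pow_one] at hjc
      rw [← hjc]
      exact pow_orderOf_eq_one x
    · exact absurd (isCyclic_of_orderOf_eq_card x (hjc.trans hcard.symm)) hncyc
  refine ⟨⟨⟨⟨hcomm⟩⟩, fun a ha => congrArg Subtype.val (hexp ⟨a, ha⟩)⟩, ?_⟩
  obtain ⟨e1, e2, α, hα, β, hβ, he1, he2, h1, h2, h3, h4⟩ :=
    exists_pair hcomm hcard hexp (F.autGroup H) hdvd hns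
  obtain ⟨ρ, hinj, hrange⟩ := sl2_embed hcomm hcard hexp he1 he2 h1 h2 h3 h4
  have hle : ρ.range ≤ F.autGroup H := hrange.trans ((Subgroup.closure_le _).2 (by
    rintro x (rfl | rfl)
    exacts [hα, hβ]))
  refine ⟨ρ.range.subgroupOf (F.autGroup H), ⟨?_⟩⟩
  exact (Subgroup.subgroupOfEquivOfLe hle).trans (MonoidHom.ofInjective hinj).symm

end Cfsg.Agent.S5185
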