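import Cfsg.Statements.S5187
import Mathlib
import Cfsg.Agent.Lib.Helper27.EssQuot
import Cfsg.Agent.Lib.Helper16.Basic

set_option autoImplicit false
universe u
open Cfsg

namespace Cfsg.Agent.S5187

open Cfsg.FusionSystem Cfsg.Agent.Lib.Helper26 Cfsg.Agent.Lib.Helper27.EssAut
open Cfsg.Agent.Lib.Helper27.EssQuot

theorem pow_mod_of {G : Type*} [Monoid G] {x : G} {n : ℕ} (hx : x ^ n = 1) (k : ℕ) :
    x ^ (k % n) = x ^ k := by
  conv_rhs => rw [← Nat.mod_add_div k n, pow_add, pow_mul, hx, one_pow, mul_one]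

theorem mem_pair_closure {G : Type*} [Group G] [Finite G] (hcomm : ∀ x y : G, x * y = y * x)
    (x1 x2 : G) : ∀ z ∈ Subgroup.closure {x1, x2}, ∃ m n : ℕ, z = x1 ^ m * x2 ^ n := by
  intro z hz
  induction hz using Subgroup.closure_induction with
  | mem x hx =>
    rcases hx with rfl | rfl
    · exact ⟨1, 0, by simp⟩
    · exact ⟨0, 1, by simp⟩
  | one => exact ⟨0, 0, by simp⟩
  | mul x y _ _ hx hy =>
    obtain ⟨i, j, rfl⟩ := hx
    obtain ⟨i', j', rfl⟩ := hy
    refine ⟨i + i', j + j', ?_⟩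
    rw [pow_add, pow_add]
    calc x1 ^ i * x2 ^ j * (x1 ^ i' * x2 ^ j') = x1 ^ i * (x2 ^ j * x1 ^ i') * x2 ^ j' := by
          simp only [mul_assoc]
      _ = x1 ^ i * (x1 ^ i' * x2 ^ j) * x2 ^ j' := by rw [hcomm (x2 ^ j) (x1 ^ i')]
      _ = x1 ^ i * x1 ^ i' * (x2 ^ j * x2 ^ j') := by simp only [mul_assoc]
  | inv x _ hx =>
    obtain ⟨i, j, rfl⟩ := hx
    refine ⟨i * (Nat.card G - 1), j * (Nat.card G - 1), ?_⟩
    have h1 : (x1 ^ i * x2 ^ j) ^ (Nat.card G - 1) =
        x1 ^ (i * (Nat.card G - 1)) * x2 ^ (j * (Nat.card G - 1)) := by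
      rw [(show Commute (x1 ^ i) (x2 ^ j) from hcomm _ _).mul_pow, ← pow_mul, ← pow_mul]
    rw [← h1, inv_eq_iff_mul_eq_one, ← pow_succ', Nat.sub_add_cancel Nat.card_pos]
    exact pow_card_eq_one'

theorem homocyclic_iso {G : Type*} [Group G] [Finite G] (hcomm : ∀ x y : G, x * y = y * x)
    {n : ℕ} [NeZero n] {x1 x2 : G} (h1 : x1 ^ n = 1) (h2 : x2 ^ n = 1)
    (hgen : ∀ z : G, ∃ i j : ℕ, z = x1 ^ i * x2 ^ j)
    (hind : ∀ i j : ℕ, x1 ^ i * x2 ^ j = 1 → n ∣ i ∧ n ∣ j) :
    Nonempty (G ≃* Multiplicative (ZMod n × ZMod n)) := by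
  let g : Multiplicative (ZMod n × ZMod n) →* G :=
    { toFun := fun v => x1 ^ (Multiplicative.toAdd v).1.val * x2 ^ (Multiplicative.toAdd v).2.val
      map_one' := by simp
      map_mul' := by
        intro v w
        show x1 ^ ((Multiplicative.toAdd v).1 + (Multiplicative.toAdd w).1).val *
          x2 ^ ((Multiplicative.toAdd v).2 + (Multiplicative.toAdd w).2).val = _
        rw [ZMod.val_add, ZMod.val_add, pow_mod_of h1, pow_mod_of h2, pow_add, pow_add]
        generalize x1 ^ (Multiplicative.toAdd v).1.val = A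
        generalize x1 ^ (Multiplicative.toAdd w).1.val = B
        generalize x2 ^ (Multiplicative.toAdd v).2.val = C
        generalize x2 ^ (Multiplicative.toAdd w).2.val = D
        calc A * B * (C * D) = A * (B * C) * D := by simp only [mul_assoc]
          _ = A * (C * B) * D := by rw [hcomm B C]
          _ = A * C * (B * D) := by simp only [mul_assoc] }
  have hg : ∀ v, g v = x1 ^ (Multiplicative.toAdd v).1.val * x2 ^ (Multiplicative.toAdd v).2.val :=
    fun _ => rfl
  have hinj : Function.Injective g := by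
    rw [injective_iff_map_eq_one]
    intro v hv
    rw [hg] at hv
    obtain ⟨hi, hj⟩ := hind _ _ hv
    have e1 : (Multiplicative.toAdd v).1 = 0 :=
      (ZMod.val_eq_zero _).1 (Nat.eq_zero_of_dvd_of_lt hi (ZMod.val_lt _))
    have e2 : (Multiplicative.toAdd v).2 = 0 :=
      (ZMod.val_eq_zero _).1 (Nat.eq_zero_of_dvd_of_lt hj (ZMod.val_lt _))
    apply Multiplicative.toAdd.injective
    exact Prod.ext e1 e2
  have hsurj : Function.Surjective g := by
    intro z
    obtain ⟨i, j, rfl⟩ := hgen z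
    refine ⟨Multiplicative.ofAdd ((i : ZMod n), (j : ZMod n)), ?_⟩
    rw [hg]
    show x1 ^ ((i : ZMod n)).val * x2 ^ ((j : ZMod n)).val = _
    rw [ZMod.val_natCast, ZMod.val_natCast, pow_mod_of h1, pow_mod_of h2]
  exact ⟨(MulEquiv.ofBijective g ⟨hinj, hsurj⟩).symm⟩

theorem end_sum_apply {V : Type*} [AddCommGroup V] (s : Finset ℕ) (f : ℕ → AddMonoid.End V)
    (v : V) : (∑ m ∈ s, f m) v = ∑ m ∈ s, (f m) v := by
  classical
  induction s using Finset.induction_on with
  | empty => rfl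
  | insert a s ha ih =>
    rw [Finset.sum_insert ha, Finset.sum_insert ha, ← ih]
    rfl

/-- The binomial computation: if `N² V ⊆ pV` and `(1+N)^p = 1` with `p ≥ 5`, then
`p N V ⊆ p² V`. -/
theorem nil_comp {V : Type*} [AddCommGroup V] {p : ℕ} [Fact p.Prime] (hp5 : 5 ≤ p)
    (N : AddMonoid.End V) (hap : (N + 1) ^ p = 1)
    (hN2 : ∀ v : V, ∃ w : V, N (N v) = p • w) :
    ∀ v : V, ∃ w : V, (p * p) • w = p • N v := by
  have hp : p.Prime := Fact.out
  let P2 : AddSubgroup V := (nsmulAddMonoidHom (α := V) (p * p)).range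
  have hP2 : ∀ u : V, u ∈ P2 ↔ ∃ w, (p * p) • w = u := fun u => Iff.rfl
  have hNP2 : ∀ u ∈ P2, N u ∈ P2 := by
    intro u hu
    obtain ⟨w, rfl⟩ := (hP2 u).1 hu
    exact (hP2 _).2 ⟨N w, (map_nsmul N _ _).symm⟩
  have hNkP2 : ∀ (k : ℕ), ∀ u ∈ P2, (N ^ k) u ∈ P2 := by
    intro k
    induction k with
    | zero => intro u hu; exact hu
    | succ k ih =>
      intro u hu
      rw [pow_succ]
      exact ih _ (hNP2 u hu)
  have hpow2 : ∀ v, (N ^ 2) v = N (N v) := fun v => by rw [pow_two]; rfl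
  have hpow3 : ∀ v, (N ^ 3) v = N (N (N v)) := fun v => by
    rw [pow_succ, pow_two]; rfl
  have hN4 : ∀ v, (N ^ 4) v ∈ P2 := by
    intro v
    obtain ⟨w, hw⟩ := hN2 v
    obtain ⟨w', hw'⟩ := hN2 w
    have h4 : (N ^ 4) v = N (N (N (N v))) := by
      rw [pow_succ, pow_succ, pow_two]; rfl
    rw [h4, hw, map_nsmul, map_nsmul, hw']
    exact (hP2 _).2 ⟨w', by rw [mul_nsmul']⟩
  intro v
  have hsum := (Commute.one_right N).add_pow p
  rw [hap] at hsum
  have hterm : ∀ m : ℕ, (N ^ m * 1 ^ (p - m) * (p.choose m : AddMonoid.End V)) v =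
      (p.choose m) • (N ^ m) v := by
    intro m
    rw [one_pow, mul_one]
    show (N ^ m) ((p.choose m : AddMonoid.End V) v) = _
    rw [AddMonoid.End.natCast_apply, map_nsmul]
  have hv : v = ∑ m ∈ Finset.range (p + 1), (p.choose m) • (N ^ m) v := by
    have h1 : (1 : AddMonoid.End V) v = (∑ m ∈ Finset.range (p + 1),
        N ^ m * 1 ^ (p - m) * (p.choose m : AddMonoid.End V)) v := by rw [← hsum]
    rw [end_sum_apply, Finset.sum_congr rfl (fun m _ => hterm m)] at h1
    exact h1
  have hp3 : p + 1 = (p - 2) + 1 + 1 + 1 := by omega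
  rw [hp3, Finset.sum_range_succ', Finset.sum_range_succ'] at hv
  have ht0 : (p.choose 0) • (N ^ 0) v = v := by
    rw [Nat.choose_zero_right, one_smul, pow_zero]; rfl
  have ht1 : (p.choose (0 + 1)) • (N ^ (0 + 1)) v = p • N v := by
    rw [zero_add, Nat.choose_one_right, pow_one]
  rw [ht0, ht1] at hv
  have hS : ∑ k ∈ Finset.range (p - 2 + 1), (p.choose (k + 1 + 1)) • (N ^ (k + 1 + 1)) v ∈ P2 := by
    apply AddSubgroup.sum_mem
    intro i hi
    rw [Finset.mem_range] at hi
    rcases Nat.lt_or_ge i 2 with hi2 | hi2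
    · interval_cases i
      · -- m = 2
        obtain ⟨c, hc⟩ := hp.dvd_choose_self (k := 2) (by norm_num) (by omega)
        obtain ⟨w, hw⟩ := hN2 v
        rw [hc, hpow2, hw]
        exact (hP2 _).2 ⟨c • w, by rw [smul_smul, smul_smul]; congr 1; ring⟩
      · -- m = 3
        obtain ⟨c, hc⟩ := hp.dvd_choose_self (k := 3) (by norm_num) (by omega)
        obtain ⟨w, hw⟩ := hN2 v
        rw [hc, hpow3, hw, map_nsmul]
        exact (hP2 _).2 ⟨c • N w, by rw [smul_smul, smul_smul]; congr 1; ring⟩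
    · have h4 : i + 1 + 1 = (i - 2) + 4 := by omega
      rw [h4, pow_add]
      apply AddSubgroup.nsmul_mem
      exact hNkP2 _ _ (hN4 v)
  obtain ⟨s, hs⟩ : ∃ s, s = ∑ k ∈ Finset.range (p - 2 + 1),
      (p.choose (k + 1 + 1)) • (N ^ (k + 1 + 1)) v := ⟨_, rfl⟩
  rw [← hs] at hv hS
  have h5 : p • N v = -s := by
    have h6 : s + p • N v = 0 := by
      have h7 : v = (s + p • N v) + v := hv
      have h8 : (s + p • N v) + v = 0 + v := by rw [zero_add]; exact h7.symm
      exact add_right_cancel h8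
    exact eq_neg_of_add_eq_zero_right h6
  rw [h5]
  exact (hP2 _).1 (P2.neg_mem hS)

theorem trivial_mod {H : Type*} [Group H] (hcomm : ∀ x y : H, x * y = y * x) {p : ℕ}
    [Fact p.Prime] (hp5 : 5 ≤ p) (α : MulAut H) (hαp : α ^ p = 1) (Φ : Subgroup H)
    (hN2 : ∀ x : H, ∃ w : H, α (α x / x) / (α x / x) = w ^ p)
    (hΩ : ∀ y : H, y ^ p = 1 → y ∈ Φ) (hpow : ∀ w : H, w ^ p ∈ Φ) : ∀ x : H, α x / x ∈ Φ := by
  let _ : CommGroup H := { (inferInstance : Group H) with mul_comm := hcomm }
  let a : AddMonoid.End (Additive H) := (MulEquiv.toAdditive α).toAddMonoidHom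
  have hak : ∀ (k : ℕ) (v : Additive H),
      (a ^ k) v = Additive.ofMul ((α ^ k) (Additive.toMul v)) := by
    intro k
    induction k with
    | zero => intro v; rfl
    | succ k ih =>
      intro v
      rw [pow_succ, pow_succ]
      show (a ^ k) (a v) = Additive.ofMul ((α ^ k) (α (Additive.toMul v)))
      rw [ih]
      rfl
  have hap : (a - 1 + 1) ^ p = 1 := by
    rw [sub_add_cancel]
    apply AddMonoidHom.ext
    intro v
    have h0 := hak p v
    rw [hαp] at h0
    exact h0
  have hN2' : ∀ v : Additive H, ∃ w : Additive H, (a - 1) ((a - 1) v) = p • w := by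
    intro v
    obtain ⟨w, hw⟩ := hN2 (Additive.toMul v)
    exact ⟨Additive.ofMul w, hw⟩
  intro x
  obtain ⟨w, hw⟩ := nil_comp hp5 (a - 1) hap hN2' (Additive.ofMul x)
  have h1 : ((Additive.toMul w) ^ p) ^ p = (α x / x) ^ p := by
    rw [← pow_mul]
    exact hw
  have h2 : ((α x / x) / (Additive.toMul w) ^ p) ^ p = 1 := by
    rw [div_pow, h1, div_self']
  have h3 := hΩ _ h2
  have h4 : α x / x = ((α x / x) / (Additive.toMul w) ^ p) * (Additive.toMul w) ^ p := by
    rw [div_mul_cancel]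
  rw [h4]
  exact Φ.mul_mem h3 (hpow _)

/-- Let F be a saturated fusion system over a finite p-group S and H an abelian essential subgroup that can be generated by two elements (its Frattini quotient has order at most p²). Then H is elementary abelian of order p², or p ≤ 3 and H is homocyclic of rank two, that is isomorphic to C_{pᵏ} × C_{pᵏ} for some k. -/
theorem result {Ω : Type u} [Group Ω] {S : Subgroup Ω} [Finite S] (p : ℕ) [Fact p.Prime] (hS : IsPGroup p S)
    (F : Cfsg.FusionSystem S) (hF : F.IsSaturated p) (H : Subgroup Ω) (hH : F.IsEssential p H) (hab : IsMulCommutative ↥H) (hrk : (frattini ↥H).index ≤ p ^ 2) :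
    (Cfsg.IsElementaryAbelian p H ∧ Nat.card H = p ^ 2) ∨
      (p ≤ 3 ∧ ∃ k : ℕ, Nonempty (↥H ≃* Multiplicative (ZMod (p ^ k) × ZMod (p ^ k)))) := by
  classical
  have hp : p.Prime := Fact.out
  have hHS : H ≤ S := hH.1.1
  have hfin : Finite H := finite_of_le hHS
  have hHp : IsPGroup p H := hS.to_le hHS
  have hcomm : ∀ a b : H, a * b = b * a := fun a b => hab.is_comm.comm a b
  have hinn : ∀ γ : MulAut H, γ ∈ Inn H → γ = 1 := by
    rintro γ ⟨g, rfl⟩
    ext x
    rw [MulAut.conj_apply, hcomm g x, mul_assoc, mul_inv_cancel, mul_one]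
    rfl
  obtain ⟨hdvd, hns, hker⟩ := ess_quot p hS F hH
  obtain ⟨r, hr⟩ := hHp.index (frattini H)
  have hr2 : r ≤ 2 := by
    rw [hr] at hrk
    exact (Nat.pow_le_pow_iff_right hp.one_lt).1 hrk
  have hr2' : r = 2 := by
    by_contra hne
    have hr1 : r ≤ 1 := by omega
    have hcQ : Nat.card (H ⧸ frattini H) = p ^ r := hr
    have hcyc : IsCyclic (H ⧸ frattini H) := by
      interval_cases r
      · rw [pow_zero] at hcQ
        have : Subsingleton (H ⧸ frattini H) := (Nat.card_eq_one_iff_unique.1 hcQ).1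
        infer_instance
      · rw [pow_one] at hcQ
        exact isCyclic_of_prime_card hcQ
    have hcA : Nat.card (MulAut (H ⧸ frattini H)) = (p ^ r).totient := by
      rw [IsCyclic.card_mulAut, hcQ]
    have h3 : p ∣ (p ^ r).totient := by
      rw [← hcA]
      exact dvd_trans hdvd (Subgroup.card_subgroup_dvd_card _)
    interval_cases r
    · rw [pow_zero, Nat.totient_one, Nat.dvd_one] at h3
      exact hp.one_lt.ne' h3
    · rw [pow_one, Nat.totient_prime hp] at h3
      have h4 := Nat.le_of_dvd (by have := hp.two_le; omega) h3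
      have h5 := hp.two_le
      omega
  subst hr2'
  obtain ⟨hQc, hQcard, hQexp, e1, e2, α, hα, β, hβ, he1, he2, ha1, ha2, hb2, hb1⟩ :=
    ess_quot_pair p hS F hH hr
  have hex : ∃ a : ℕ, ∀ x : H, x ^ p ^ a = 1 := by
    obtain ⟨n, hn⟩ := IsPGroup.iff_card.1 hHp
    exact ⟨n, fun x => by rw [← hn]; exact pow_card_eq_one'⟩
  obtain ⟨a, ha, hamin⟩ : ∃ a, (∀ x : H, x ^ p ^ a = 1) ∧ ∀ b < a, ¬ ∀ x : H, x ^ p ^ b = 1 :=
    ⟨Nat.find hex, Nat.find_spec hex, fun b hb => Nat.find_min hex hb⟩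
  have ha0 : a ≠ 0 := by
    rintro rfl
    apply he1
    obtain ⟨x, rfl⟩ := QuotientGroup.mk_surjective e1
    have := ha x
    rw [pow_zero, pow_one] at this
    rw [this]
    rfl
  obtain ⟨a', rfl⟩ : ∃ a', a = a' + 1 := ⟨a - 1, by omega⟩
  have hnot := hamin a' (Nat.lt_succ_self a')
  let f : H →* H :=
    { toFun := fun x => x ^ p ^ a'
      map_one' := one_pow _
      map_mul' := fun x y => (show Commute x y from hcomm x y).mul_pow _ }
  have hf : ∀ x, f x = x ^ p ^ a' := fun _ => rfl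
  have hΦU : frattini H ≤ f.ker := by
    apply Cfsg.Agent.Lib.Helper16.Basic.frattini_le_ker_of_elementary (p := p) f
      (fun x y => hcomm _ _)
    intro x
    rw [hf, ← pow_mul, ← pow_succ]
    exact ha x
  have hUne : f.ker ≠ ⊤ := by
    intro htop
    apply hnot
    intro x
    have : x ∈ f.ker := htop ▸ Subgroup.mem_top x
    exact this
  have hUinv : ∀ γ : MulAut H, ∀ x ∈ f.ker, γ x ∈ f.ker := by
    intro γ x hx
    rw [MonoidHom.mem_ker, hf] at hx ⊢
    rw [← map_pow, hx, map_one]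
  have hUΦ : f.ker = frattini H := by
    rcases irred_of_pair (frattini H) hQc hQcard hQexp he1 he2 ha1 ha2 hb1 f.ker hΦU
      (hUinv α) (hUinv β) with h | h
    · exact h
    · exact absurd h hUne
  have hstar : ∀ x : H, x ^ p ^ a' = 1 → x ∈ frattini H := by
    intro x hx
    rw [← hUΦ, MonoidHom.mem_ker]
    exact hx
  obtain ⟨x1, rfl⟩ := QuotientGroup.mk_surjective e1
  obtain ⟨x2, rfl⟩ := QuotientGroup.mk_surjective e2
  have hQind : ∀ i j : ℕ, (x1 : H ⧸ frattini H) ^ i * (x2 : H ⧸ frattini H) ^ j = 1 →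
      p ∣ i ∧ p ∣ j := by
    intro i j hij
    have hj : p ∣ j := by
      by_contra hj
      apply he2
      apply mem_of_pow_mem (hQexp _) hj
      have : (x2 : H ⧸ frattini H) ^ j = ((x1 : H ⧸ frattini H) ^ i)⁻¹ :=
        eq_inv_of_mul_eq_one_right hij
      rw [this]
      exact Subgroup.inv_mem _ (Subgroup.pow_mem _ (Subgroup.mem_zpowers _) _)
    refine ⟨?_, hj⟩
    obtain ⟨k, rfl⟩ := hj
    rw [pow_mul, hQexp, one_pow, mul_one] at hij
    have := orderOf_dvd_of_pow_eq_one hij
    rwa [orderOf_eq_prime (hQexp _) he1] at this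
  have hgen : ∀ z : H, ∃ i j : ℕ, z = x1 ^ i * x2 ^ j := by
    have hK : Subgroup.closure {x1, x2} = ⊤ := by
      apply frattini_nongenerating
      rw [eq_top_iff]
      intro z _
      obtain ⟨i, j, hz⟩ := gen_pair hQc hQcard hQexp he1 he2 (z : H ⧸ frattini H)
      have h1 : ((x1 ^ i * x2 ^ j : H) : H ⧸ frattini H) = (z : H ⧸ frattini H) := by
        rw [hz]
        rfl
      rw [QuotientGroup.eq] at h1
      have : z = (x1 ^ i * x2 ^ j) * ((x1 ^ i * x2 ^ j)⁻¹ * z) := by group
      rw [this]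
      exact Subgroup.mul_mem_sup (Subgroup.mul_mem _
        (Subgroup.pow_mem _ (Subgroup.subset_closure (by simp)) _)
        (Subgroup.pow_mem _ (Subgroup.subset_closure (by simp)) _)) h1
    intro z
    exact mem_pair_closure hcomm x1 x2 z (hK ▸ Subgroup.mem_top z)
  have hind : ∀ i j : ℕ, x1 ^ i * x2 ^ j = 1 → p ^ (a' + 1) ∣ i ∧ p ^ (a' + 1) ∣ j := by
    intro i j hij
    have key : ∀ k, k ≤ a' + 1 → p ^ k ∣ i ∧ p ^ k ∣ j := by
      intro k
      induction k with
      | zero => intro _; exact ⟨by rw [pow_zero]; exact one_dvd _, by rw [pow_zero]; exact one_dvd _⟩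
      | succ k ih =>
        intro hk
        obtain ⟨⟨i', hi'⟩, ⟨j', hj'⟩⟩ := ih (by omega)
        have hy : (x1 ^ i' * x2 ^ j') ^ p ^ k = 1 := by
          rw [(show Commute (x1 ^ i') (x2 ^ j') from hcomm _ _).mul_pow, ← pow_mul, ← pow_mul,
            mul_comm i', mul_comm j', ← hi', ← hj']
          exact hij
        have hy' : (x1 ^ i' * x2 ^ j') ^ p ^ a' = 1 := by
          obtain ⟨d, hd⟩ : ∃ d, a' = k + d := ⟨a' - k, by omega⟩
          rw [hd, pow_add, pow_mul, hy, one_pow]
        have hyΦ := hstar _ hy'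
        have hyQ : (x1 : H ⧸ frattini H) ^ i' * (x2 : H ⧸ frattini H) ^ j' = 1 := by
          rw [← QuotientGroup.mk_pow, ← QuotientGroup.mk_pow, ← QuotientGroup.mk_mul]
          exact (QuotientGroup.eq_one_iff _).2 hyΦ
        obtain ⟨⟨i'', hi''⟩, ⟨j'', hj''⟩⟩ := hQind _ _ hyQ
        exact ⟨⟨i'', by rw [hi', hi'', pow_succ, mul_assoc]⟩,
          ⟨j'', by rw [hj', hj'', pow_succ, mul_assoc]⟩⟩
    exact key (a' + 1) le_rfl
  have : NeZero (p ^ (a' + 1)) := ⟨pow_ne_zero _ hp.ne_zero⟩
  obtain ⟨e⟩ := homocyclic_iso hcomm (n := p ^ (a' + 1)) (ha x1) (ha x2) hgen hind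
  rcases Nat.eq_zero_or_pos a' with ha' | ha'
  · subst ha'
    left
    refine ⟨⟨hab, fun x hx => ?_⟩, ?_⟩
    · have := ha ⟨x, hx⟩
      rw [zero_add, pow_one] at this
      exact congrArg Subtype.val this
    · rw [Nat.card_congr e.toEquiv]
      have h1 : Nat.card (Multiplicative (ZMod (p ^ (0 + 1)) × ZMod (p ^ (0 + 1)))) =
          Nat.card (ZMod (p ^ (0 + 1)) × ZMod (p ^ (0 + 1))) :=
        Nat.card_congr Multiplicative.toAdd
      rw [h1, Nat.card_prod, Nat.card_zmod, zero_add, pow_one, pow_two]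
  · by_cases hp3 : p ≤ 3
    · right
      exact ⟨hp3, a' + 1, ⟨e⟩⟩
    · exfalso
      have hp5 : 5 ≤ p := by
        have h4 : p ≠ 4 := fun h => by
          rw [h] at hp
          exact absurd hp (by norm_num)
        omega
      have hψp : (autQuot (frattini H) α) ^ p = 1 := by
        ext y
        obtain ⟨i, j, rfl⟩ := gen_pair hQc hQcard hQexp he1 he2 y
        have hy : autQuot (frattini H) α ((x1 : H ⧸ frattini H) ^ i * (x2 : H ⧸ frattini H) ^ j) =
            ((x1 : H ⧸ frattini H) ^ i * (x2 : H ⧸ frattini H) ^ j) * (x1 : H ⧸ frattini H) ^ j := by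
          rw [map_mul, map_pow, map_pow, ha1, ha2,
            (show Commute (x2 : H ⧸ frattini H) x1 from hQc _ _).mul_pow, mul_assoc]
        have hl : autQuot (frattini H) α ((x1 : H ⧸ frattini H) ^ j) =
            (x1 : H ⧸ frattini H) ^ j := by rw [map_pow, ha1]
        rw [pow_apply_mul _ hy hl p, MulAut.one_apply, ← pow_mul, mul_comm j p, pow_mul, hQexp,
          one_pow, mul_one]
      have hαp : α ^ p = 1 := by
        apply hinn
        apply hker _ (Subgroup.pow_mem _ hα p)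
        rw [map_pow, hψp]
      have hΦpow : ∀ y ∈ frattini H, ∃ w : H, y = w ^ p := by
        let pw : H →* H :=
          { toFun := fun x => x ^ p
            map_one' := one_pow _
            map_mul' := fun x y => (show Commute x y from hcomm x y).mul_pow _ }
        have hPwn : pw.range.Normal := ⟨fun n hn g => by
          rw [hcomm g n, mul_assoc, mul_inv_cancel, mul_one]
          exact hn⟩
        have h1 : frattini H ≤ (QuotientGroup.mk' pw.range).ker := by
          apply Cfsg.Agent.Lib.Helper16.Basic.frattini_le_ker_of_elementary (p := p)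
            (QuotientGroup.mk' pw.range)
          · intro x y
            rw [← map_mul, ← map_mul, hcomm]
          · intro x
            rw [← map_pow]
            exact (QuotientGroup.eq_one_iff _).2 ⟨x, rfl⟩
        rw [QuotientGroup.ker_mk'] at h1
        intro y hy
        obtain ⟨w, hw⟩ := h1 hy
        exact ⟨w, hw.symm⟩
      have hN2 : ∀ x : H, ∃ w : H, α (α x / x) / (α x / x) = w ^ p := by
        intro x
        apply hΦpow
        rw [← QuotientGroup.eq_one_iff]
        obtain ⟨i, j, hx⟩ := gen_pair hQc hQcard hQexp he1 he2 (x : H ⧸ frattini H)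
        have hy : autQuot (frattini H) α (x : H ⧸ frattini H) =
            (x : H ⧸ frattini H) * (x1 : H ⧸ frattini H) ^ j := by
          rw [hx, map_mul, map_pow, map_pow, ha1, ha2,
            (show Commute (x2 : H ⧸ frattini H) x1 from hQc _ _).mul_pow, mul_assoc]
        have hy2 : ((α x / x : H) : H ⧸ frattini H) = (x1 : H ⧸ frattini H) ^ j := by
          rw [QuotientGroup.mk_div, ← autQuot_mk, hy, hQc, mul_div_cancel_right]
        rw [QuotientGroup.mk_div, ← autQuot_mk, hy2, map_pow, ha1, div_self']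
      have hΩ : ∀ y : H, y ^ p = 1 → y ∈ frattini H := by
        intro y hy
        apply hstar
        obtain ⟨d, hd⟩ : ∃ d, a' = 1 + d := ⟨a' - 1, by omega⟩
        rw [hd, pow_add, pow_one, pow_mul, hy, one_pow]
      have htriv := trivial_mod hcomm hp5 α hαp (frattini H) hN2 hΩ
        (fun w => Cfsg.Agent.Lib.Helper20.ESpecial.pow_mem_frattini hHp w)
      have h1 : autQuot (frattini H) α = 1 := by
        rw [autQuot_eq_one_iff]
        intro x
        rw [← div_eq_mul_inv]
        exact htriv x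
      rw [h1, MulAut.one_apply] at ha2
      exact he1 (by
        have := ha2
        exact (mul_eq_left.mp this.symm))

end Cfsg.Agent.S5187
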