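import Cfsg.Statements.S5084
import Cfsg.Agent.Lib.Helper26.FusNK
import Cfsg.Agent.S5082

set_option autoImplicit false
open Cfsg

namespace Cfsg.Agent.S5084

open Cfsg.Agent.Lib.Helper26 Cfsg.FusionSystem

/-- In a saturated fusion system over a finite p-group S, a subgroup Q is central in the system if and only if Q ≤ S and no element of Q is conjugate in the system to any element other than itself. -/
theorem result {Ω : Type*} [Group Ω] {S : Subgroup Ω} [Finite S] (p : ℕ) [Fact p.Prime] (hS : IsPGroup p S) (F : Cfsg.FusionSystem S) (hF : F.IsSaturated p) (Q : Subgroup Ω) : F.IsCentral Q ↔ (Q ≤ S ∧ ∀ x ∈ Q, ∀ y : Ω, F.IsConjElt x y → y = x) := by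
  constructor
  · rintro ⟨hQS, h⟩
    refine ⟨hQS, ?_⟩
    rintro x hx y ⟨φ, hφ, rfl⟩
    obtain ⟨ψ, hψ, hext, hfix⟩ := h _ φ hφ
    have h1 := hext ⟨x, Subgroup.mem_zpowers x⟩
    have h2 := hfix ⟨x, hx⟩
    rw [← h1]
    exact h2
  · rintro ⟨hQS, h⟩
    have hconj : ∀ g ∈ S, ∀ x ∈ Q, g * x * g⁻¹ = x := by
      intro g hg x hx
      apply h x hx
      exact ⟨conjHom (Subgroup.zpowers x) g,
        F.conj_mem ((Subgroup.zpowers_le).mpr (hQS hx)) hg, rfl⟩
    have hK : ∀ g ∈ S, ∃ κ ∈ (⊥ : Subgroup (MulAut Q)), ∀ x : Q, ((κ x : Q) : Ω) = g * x * g⁻¹ :=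
      fun g hg => ⟨1, Subgroup.one_mem _, fun x => (hconj g hg x x.2).symm⟩
    apply (isCentral_iff_le_nk F Q).mpr
    refine ⟨hQS, ?_⟩
    have hle : F ≤ nkSystem F Q ⊥ hQS hK := by
      apply Cfsg.Agent.S5082.result p hS F hF
      intro P hP
      have hPS : P ≤ S := by
        rcases hP with rfl | hess
        · exact le_rfl
        · exact hess.1.1
      have hQP : Q ≤ P := by
        rcases hP with rfl | hess
        · exact hQS
        · intro x hx
          apply hess.1.2 P (isConj_refl F hess.1.1)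
          refine mem_centralizerIn_iff.mpr ⟨hQS hx, Subgroup.mem_centralizer_iff.mpr fun y hy => ?_⟩
          have h3 := hconj y (hess.1.1 hy) x hx
          calc y * x = (y * x * y⁻¹) * y := by group
            _ = x * y := by rw [h3]
      intro α hα
      apply mem_nk_autGroup F hQS hK hPS hQP hα
      refine ⟨1, Subgroup.one_mem _, fun x => ?_⟩
      have hz : Subgroup.zpowers (x : Ω) ≤ P := (Subgroup.zpowers_le).mpr (hQP x.2)
      have h2 := restrict_mem F (autGroup_hom_mem F hPS hα) hz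
      exact h x x.2 _ ⟨_, h2, rfl⟩
    exact hle

end Cfsg.Agent.S5084
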