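import Cfsg.Statements.S5595
import Mathlib
import Cfsg.Agent.Lib.Helper9.Cores
import Cfsg.Agent.Lib.Helper20.ESpecial

set_option autoImplicit false
open Cfsg

namespace Cfsg.Agent.S5595

variable {G : Type*} [Group G]

theorem comm_of_eq_one {a b : G} (h : a * b * a⁻¹ * b⁻¹ = 1) : a * b = b * a :=
  mul_inv_eq_iff_eq_mul.mp (mul_inv_eq_one.mp h)

theorem exists_v (A : Subgroup G) (z x : G) (hxz : x * z = z * x) (hx1 : x ≠ 1) (hxnz : x ≠ z)
    (hxA : x ∈ A)
    (hA2 : ∀ a ∈ A, ∀ b ∈ A, a * b * a⁻¹ * b⁻¹ = 1 ∨ a * b * a⁻¹ * b⁻¹ = z)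
    (hA3 : ∀ a ∈ A, (∀ b ∈ A, a * b = b * a) → a = 1 ∨ a = z) :
    ∃ v ∈ A, v * x * v⁻¹ = x * z := by
  by_contra hno
  push Not at hno
  rcases hA3 x hxA (fun b hb => by
    rcases hA2 b hb x hxA with h | h
    · exact (comm_of_eq_one h).symm
    · exact absurd (by rw [mul_inv_eq_iff_eq_mul.mp h, hxz]) (hno b hb)) with h | h
  · exact hx1 h
  · exact hxnz h

theorem center_P (A : Subgroup G) (z x : G) (hz2 : z * z = 1) (hx2 : x * x = 1)
    (hxA : x ∈ A) (hAz : ∀ a ∈ A, a * z = z * a)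
    (hA2 : ∀ a ∈ A, ∀ b ∈ A, a * b * a⁻¹ * b⁻¹ = 1 ∨ a * b * a⁻¹ * b⁻¹ = z)
    (hA3 : ∀ a ∈ A, (∀ b ∈ A, a * b = b * a) → a = 1 ∨ a = z)
    (d : G) (hdA : d ∈ A) (hdP : ∀ p ∈ A, p * x = x * p → p * d = d * p) :
    d = 1 ∨ d = z ∨ d = x ∨ d = x * z := by
  have hxi : x⁻¹ = x := inv_eq_of_mul_eq_one_right hx2
  by_cases hc : ∀ b ∈ A, d * b = b * d
  · rcases hA3 d hdA hc with h | h
    · exact Or.inl h
    · exact Or.inr (Or.inl h)
  · push Not at hc
    obtain ⟨w, hwA, hw⟩ := hc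
    have hwd : w * d * w⁻¹ * d⁻¹ = z := by
      rcases hA2 w hwA d hdA with h | h
      · exact absurd (comm_of_eq_one h).symm hw
      · exact h
    have hwx : w * x * w⁻¹ * x⁻¹ = z := by
      rcases hA2 w hwA x hxA with h | h
      · exact absurd (hdP w hwA (comm_of_eq_one h)).symm hw
      · exact h
    have h_wx : w * x * w⁻¹ = z * x := mul_inv_eq_iff_eq_mul.mp hwx
    have h_wd : w * d * w⁻¹ = z * d := mul_inv_eq_iff_eq_mul.mp hwd
    have hcen : ∀ a ∈ A, (d * x) * a = a * (d * x) := by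
      intro a ha
      by_cases hax : a * x = x * a
      · have := hdP a ha hax
        rw [mul_assoc, ← hax, ← mul_assoc, ← this, mul_assoc]
      · have hax' : a * x * a⁻¹ * x⁻¹ = z := by
          rcases hA2 a ha x hxA with h | h
          · exact absurd (comm_of_eq_one h) hax
          · exact h
        have h_ax : a * x * a⁻¹ = z * x := mul_inv_eq_iff_eq_mul.mp hax'
        have hp : (a⁻¹ * w) * x = x * (a⁻¹ * w) := by
          have : (a⁻¹ * w) * x * (a⁻¹ * w)⁻¹ = x := by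
            calc (a⁻¹ * w) * x * (a⁻¹ * w)⁻¹ = a⁻¹ * (w * x * w⁻¹) * a := by group
              _ = a⁻¹ * (a * x * a⁻¹) * a := by rw [h_wx, h_ax]
              _ = x := by group
          exact mul_inv_eq_iff_eq_mul.mp this
        have hpd := hdP (a⁻¹ * w) (A.mul_mem (A.inv_mem ha) hwA) hp
        have h_ad : a * d * a⁻¹ = z * d := by
          have h1 : a * d * a⁻¹ = w * ((a⁻¹ * w)⁻¹ * d * (a⁻¹ * w)) * w⁻¹ := by group
          have h2 : (a⁻¹ * w)⁻¹ * d * (a⁻¹ * w) = d := by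
            rw [mul_assoc, ← hpd, ← mul_assoc, inv_mul_cancel, one_mul]
          rw [h1, h2, h_wd]
        have : a * (d * x) * a⁻¹ = d * x := by
          calc a * (d * x) * a⁻¹ = (a * d * a⁻¹) * (a * x * a⁻¹) := by group
            _ = z * d * (z * x) := by rw [h_ad, h_ax]
            _ = d * x := by
              rw [← hAz d hdA, mul_assoc, ← mul_assoc z z x, hz2, one_mul]
        exact (mul_inv_eq_iff_eq_mul.mp this).symm
    rcases hA3 (d * x) (A.mul_mem hdA hxA) hcen with h | h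
    · right; right; left
      rw [eq_inv_of_mul_eq_one_left h, hxi]
    · right; right; right
      rw [eq_mul_inv_of_mul_eq h, hxi]
      exact (hAz x hxA).symm

theorem abstract_key (A B : Subgroup G) (z x : G) (hz2 : z * z = 1) (hx2 : x * x = 1)
    (hxz : x * z = z * x) (hx1 : x ≠ 1) (hxnz : x ≠ z)
    (hxA : x ∈ A) (hAz : ∀ a ∈ A, a * z = z * a)
    (hA2 : ∀ a ∈ A, ∀ b ∈ A, a * b * a⁻¹ * b⁻¹ = 1 ∨ a * b * a⁻¹ * b⁻¹ = z)
    (hA3 : ∀ a ∈ A, (∀ b ∈ A, a * b = b * a) → a = 1 ∨ a = z)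
    (hxB : x ∈ B) (hBx : ∀ b ∈ B, b * x = x * b)
    (hB2 : ∀ a ∈ B, ∀ b ∈ B, a * b * a⁻¹ * b⁻¹ = 1 ∨ a * b * a⁻¹ * b⁻¹ = x)
    (hB3 : ∀ b ∈ B, b * b = 1 ∨ b * b = x)
    (hB4 : ∀ g : G, (∀ b ∈ B, g * b = b * g) → g ∈ B)
    (hNA : ∀ g : G, g * z = z * g → ∀ a ∈ A, g * a * g⁻¹ ∈ A)
    (hNB : ∀ g : G, g * x = x * g → ∀ b ∈ B, g * b * g⁻¹ ∈ B)
    (hT : ∀ h : G, h * z * h⁻¹ = x → ∀ a ∈ A, h * a * h⁻¹ ∈ B)
    (hnab : ∃ a ∈ A, ∃ b ∈ A, a * x = x * a ∧ b * x = x * b ∧ a * b * a⁻¹ * b⁻¹ = z) :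
    z ∈ B := by
  by_contra hzB
  have hzi : z⁻¹ = z := inv_eq_of_mul_eq_one_right hz2
  have hxi : x⁻¹ = x := inv_eq_of_mul_eq_one_right hx2
  obtain ⟨v, hvA, hv⟩ := exists_v A z x hxz hx1 hxnz hxA hA2 hA3
  -- case A excluded
  have hK : ∀ q ∈ B, q * z * q⁻¹ * z = x → False := by
    intro q hq h
    have h1 : q * z * q⁻¹ = x * z := by rw [eq_mul_inv_of_mul_eq h, hzi]
    have hvz : v * z * v⁻¹ = z := by rw [hAz v hvA, mul_inv_cancel_right]
    have h2 : (v * q) * z * (v * q)⁻¹ = x := by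
      calc (v * q) * z * (v * q)⁻¹ = v * (q * z * q⁻¹) * v⁻¹ := by group
        _ = v * (x * z) * v⁻¹ := by rw [h1]
        _ = (v * x * v⁻¹) * (v * z * v⁻¹) := by group
        _ = x * z * z := by rw [hv, hvz]
        _ = x := by rw [mul_assoc, hz2, mul_one]
    have h3 : (v * q) * x * (v * q)⁻¹ ∈ B := hT _ h2 x hxA
    have h4 : (v * q) * x * (v * q)⁻¹ = x * z := by
      calc (v * q) * x * (v * q)⁻¹ = v * (q * x * q⁻¹) * v⁻¹ := by group
        _ = v * x * v⁻¹ := by rw [hBx q hq, mul_inv_cancel_right]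
        _ = x * z := hv
    rw [h4] at h3
    apply hzB
    have := B.mul_mem (B.inv_mem hxB) h3
    rwa [inv_mul_cancel_left] at this
  -- the intersection
  have hD : ∀ d ∈ A, d ∈ B → d = 1 ∨ d = x := by
    intro d hdA hdB
    have hdP : ∀ p ∈ A, p * x = x * p → p * d = d * p := by
      intro p hp hpx
      rcases hA2 p hp d hdA with h | h
      · exact comm_of_eq_one h
      · exfalso; apply hzB; rw [← h]
        exact B.mul_mem (hNB p hpx d hdB) (B.inv_mem hdB)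
    rcases center_P A z x hz2 hx2 hxA hAz hA2 hA3 d hdA hdP with h | h | h | h
    · left; exact h
    · exfalso; exact hzB (h ▸ hdB)
    · right; exact h
    · exfalso; apply hzB
      have := B.mul_mem (B.inv_mem hxB) (h ▸ hdB)
      rwa [inv_mul_cancel_left] at this
  have hDc : ∀ e ∈ A, e ∈ B → ∀ b ∈ B, e * b = b * e := by
    intro e heA heB b hb
    rcases hD e heA heB with h | h
    · rw [h, one_mul, mul_one]
    · rw [h]; exact (hBx b hb).symm
  have hPR : ∀ p ∈ A, p * x = x * p → ∀ r ∈ B, r * z = z * r →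
      (r⁻¹ * p * r * p⁻¹ ∈ A ∧ r⁻¹ * p * r * p⁻¹ ∈ B) := by
    intro p hp hpx r hr hrz
    constructor
    · have hrz' : r⁻¹ * z = z * r⁻¹ := (Commute.inv_left (show Commute r z from hrz)).eq
      have := hNA r⁻¹ hrz' p hp
      rw [inv_inv] at this
      exact A.mul_mem this (A.inv_mem hp)
    · have := hNB p hpx r hr
      have h2 : r⁻¹ * p * r * p⁻¹ = r⁻¹ * (p * r * p⁻¹) := by group
      rw [h2]; exact B.mul_mem (B.inv_mem hr) this
  have hκB : ∀ q ∈ B, q * z * q⁻¹ * z ∈ B := by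
    intro q hq
    have := hNB z hxz.symm q⁻¹ (B.inv_mem hq)
    rw [hzi] at this
    have h2 : q * z * q⁻¹ * z = q * (z * q⁻¹ * z) := by group
    rw [h2]; exact B.mul_mem hq this
  have hKK : ∀ q ∈ B, (q * z * q⁻¹ * z ∈ A) → q * z = z * q := by
    intro q hq hA'
    rcases hD _ hA' (hκB q hq) with h | h
    · have := eq_inv_of_mul_eq_one_left h
      rw [hzi] at this
      exact mul_inv_eq_iff_eq_mul.mp this
    · exact (hK q hq h).elim
  have hκz : ∀ q ∈ B, (q * z * q⁻¹ * z) * z = z * (q * z * q⁻¹ * z) := by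
    intro q hq
    apply hKK _ (hκB q hq)
    have h0 : z * (q * z * q⁻¹ * z)⁻¹ * z = q * z * q⁻¹ * z := by
      calc z * (q * z * q⁻¹ * z)⁻¹ * z = (z * z⁻¹) * q * z⁻¹ * q⁻¹ * z := by group
        _ = q * z * q⁻¹ * z := by rw [mul_inv_cancel, one_mul, hzi]
    have h1 : (q * z * q⁻¹ * z) * z * (q * z * q⁻¹ * z)⁻¹ * z
        = (q * z * q⁻¹ * z) * (q * z * q⁻¹ * z) := by
      calc (q * z * q⁻¹ * z) * z * (q * z * q⁻¹ * z)⁻¹ * z
          = (q * z * q⁻¹ * z) * (z * (q * z * q⁻¹ * z)⁻¹ * z) := by group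
        _ = (q * z * q⁻¹ * z) * (q * z * q⁻¹ * z) := by rw [h0]
    rw [h1]
    rcases hB3 _ (hκB q hq) with h | h
    · rw [h]; exact A.one_mem
    · rw [h]; exact hxA
  have hρ : ∀ p ∈ A, p * x = x * p → ∀ q ∈ B, (q⁻¹ * p * q * p⁻¹ ∈ B ∧
      (q⁻¹ * p * q * p⁻¹) * z = z * (q⁻¹ * p * q * p⁻¹)) := by
    intro p hp hpx q hq
    have htB : q⁻¹ * p * q * p⁻¹ ∈ B := by
      have h2 : q⁻¹ * p * q * p⁻¹ = q⁻¹ * (p * q * p⁻¹) := by group
      rw [h2]; exact B.mul_mem (B.inv_mem hq) (hNB p hpx q hq)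
    refine ⟨htB, hKK _ htB ?_⟩
    have hcB : q * z * q⁻¹ * z ∈ B := hκB q hq
    have hcz : (q * z * q⁻¹ * z) * z = z * (q * z * q⁻¹ * z) := hκz q hq
    obtain ⟨f1A, f1B⟩ := hPR p hp hpx _ hcB hcz
    have hpz : p * z = z * p := hAz p hp
    have e1 : p⁻¹ * z * p = z := by rw [mul_assoc, ← hpz, inv_mul_cancel_left]
    have e2 : z * p⁻¹ * z⁻¹ = p⁻¹ := by
      rw [← (Commute.inv_left (show Commute p z from hpz)).eq, mul_inv_cancel_right]
    have key : (q⁻¹ * p * q * p⁻¹) * z * (q⁻¹ * p * q * p⁻¹)⁻¹ * z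
        = (q⁻¹ * (q * z * q⁻¹ * z)) * ((q * z * q⁻¹ * z)⁻¹ * p * (q * z * q⁻¹ * z) * p⁻¹)
          * (q⁻¹ * (q * z * q⁻¹ * z))⁻¹ := by
      have l1 : (q⁻¹ * p * q * p⁻¹) * z * (q⁻¹ * p * q * p⁻¹)⁻¹ * z
          = q⁻¹ * p * q * z * q⁻¹ * p⁻¹ * q * z := by
        calc (q⁻¹ * p * q * p⁻¹) * z * (q⁻¹ * p * q * p⁻¹)⁻¹ * z
            = q⁻¹ * p * q * (p⁻¹ * z * p) * q⁻¹ * p⁻¹ * q * z := by group
          _ = q⁻¹ * p * q * z * q⁻¹ * p⁻¹ * q * z := by rw [e1]
      have l2 : (q⁻¹ * (q * z * q⁻¹ * z)) * ((q * z * q⁻¹ * z)⁻¹ * p * (q * z * q⁻¹ * z) * p⁻¹)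
          * (q⁻¹ * (q * z * q⁻¹ * z))⁻¹ = q⁻¹ * p * q * z * q⁻¹ * p⁻¹ * q * z := by
        calc (q⁻¹ * (q * z * q⁻¹ * z)) * ((q * z * q⁻¹ * z)⁻¹ * p * (q * z * q⁻¹ * z) * p⁻¹)
              * (q⁻¹ * (q * z * q⁻¹ * z))⁻¹
            = q⁻¹ * p * q * z * q⁻¹ * (z * p⁻¹ * z⁻¹) * q * z⁻¹ := by group
          _ = q⁻¹ * p * q * z * q⁻¹ * p⁻¹ * q * z := by rw [e2, hzi]
      rw [l1, l2]
    rw [key]
    have hcomm := hDc _ f1A f1B (q⁻¹ * (q * z * q⁻¹ * z)) (B.mul_mem (B.inv_mem hq) hcB)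
    rw [← hcomm, mul_inv_cancel_right]
    exact f1A
  obtain ⟨a, haA, b, hbA, hax, hbx, hab⟩ := hnab
  have hall : ∀ q₀ ∈ B, q₀ * z = z * q₀ := by
    intro q₀ hq₀
    have hbax : (b * a) * x = x * (b * a) := by
      rw [mul_assoc, hax, ← mul_assoc, hbx, mul_assoc]
    have hbax' : (b * a)⁻¹ * x = x * (b * a)⁻¹ :=
      (Commute.inv_left (show Commute (b * a) x from hbax)).eq
    have hqB : (b * a)⁻¹ * q₀ * (b * a) ∈ B := by
      have := hNB _ hbax' q₀ hq₀; rwa [inv_inv] at this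
    obtain ⟨q, hqdef⟩ : ∃ q, q = (b * a)⁻¹ * q₀ * (b * a) := ⟨_, rfl⟩
    rw [← hqdef] at hqB
    obtain ⟨hρB, hρz⟩ := hρ a haA hax q hqB
    obtain ⟨hσB, hσz⟩ := hρ b hbA hbx q hqB
    obtain ⟨ρ, hρdef⟩ : ∃ ρ, ρ = q⁻¹ * a * q * a⁻¹ := ⟨_, rfl⟩
    obtain ⟨σ, hσdef⟩ : ∃ σ, σ = q⁻¹ * b * q * b⁻¹ := ⟨_, rfl⟩
    rw [← hρdef] at hρB hρz
    rw [← hσdef] at hσB hσz
    obtain ⟨e1A, e1B⟩ := hPR a haA hax σ hσB hσz
    obtain ⟨e2A, e2B⟩ := hPR b hbA hbx ρ hρB hρz
    have e3 : ρ⁻¹ * σ⁻¹ * ρ⁻¹⁻¹ * σ⁻¹⁻¹ ∈ A ⊓ B := by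
      rcases hB2 ρ⁻¹ (B.inv_mem hρB) σ⁻¹ (B.inv_mem hσB) with h | h
      · rw [h]; exact (A ⊓ B).one_mem
      · rw [h]; exact ⟨hxA, hxB⟩
    have he : (ρ⁻¹ * b * ρ * b⁻¹)⁻¹ * (ρ⁻¹ * σ⁻¹ * ρ⁻¹⁻¹ * σ⁻¹⁻¹) * (σ⁻¹ * a * σ * a⁻¹) ∈ A ⊓ B :=
      (A ⊓ B).mul_mem ((A ⊓ B).mul_mem ((A ⊓ B).inv_mem ⟨e2A, e2B⟩) e3) ⟨e1A, e1B⟩
    have hid : (ρ⁻¹ * b * ρ * b⁻¹)⁻¹ * (ρ⁻¹ * σ⁻¹ * ρ⁻¹⁻¹ * σ⁻¹⁻¹) * (σ⁻¹ * a * σ * a⁻¹)
        = q₀⁻¹ * (a * b * a⁻¹ * b⁻¹) * q₀ * (a * b * a⁻¹ * b⁻¹)⁻¹ := by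
      rw [hρdef, hσdef, hqdef]; group
    rw [hid, hab, hzi] at he
    have h5 := hKK q₀⁻¹ (B.inv_mem hq₀) (by rw [inv_inv]; exact he.1)
    have h6 := (Commute.inv_left (show Commute q₀⁻¹ z from h5)).eq
    rwa [inv_inv] at h6
  exact hzB (hB4 z (fun b hb => (hall b hb).symm))

theorem iter_conj (c x u : G) (hcu : c * u = u * c) (h : c * x * c⁻¹ = x * u) (k : ℕ) :
    c ^ k * x * (c ^ k)⁻¹ = x * u ^ k := by
  induction k with
  | zero => simp
  | succ k ih =>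
    have hcu' : c * u ^ k * c⁻¹ = u ^ k := by
      have : Commute c (u ^ k) := (show Commute c u from hcu).pow_right k
      rw [this.eq, mul_inv_cancel_right]
    calc c ^ (k + 1) * x * (c ^ (k + 1))⁻¹ = c * (c ^ k * x * (c ^ k)⁻¹) * c⁻¹ := by
          rw [pow_succ']; group
      _ = c * (x * u ^ k) * c⁻¹ := by rw [ih]
      _ = (c * x * c⁻¹) * (c * u ^ k * c⁻¹) := by group
      _ = x * u * u ^ k := by rw [h, hcu']
      _ = x * u ^ (k + 1) := by rw [pow_succ', mul_assoc]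

theorem eq_one_of_pow (u : G) (m : ℕ) (hm : Odd m) (h1 : u ^ m = 1) (h4 : (u * u) * (u * u) = 1) :
    u = 1 := by
  have h4' : u ^ 4 = 1 := by
    rw [show (4 : ℕ) = 2 * 2 from rfl, pow_mul, pow_two, pow_two]; exact h4
  have hg : u ^ Nat.gcd m 4 = 1 := pow_gcd_eq_one.mpr ⟨h1, h4'⟩
  have hcop : Nat.gcd m 4 = 1 := by
    have : Nat.Coprime m (2 ^ 2) := Nat.Coprime.pow_right 2 (Nat.coprime_two_right.mpr hm)
    exact this
  rwa [hcop, pow_one] at hg

theorem small_case (A : Subgroup G) (z x : G) (hz1 : z ≠ 1) (hz2 : z * z = 1) (hx2 : x * x = 1)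
    (hxz : x * z = z * x) (hx1 : x ≠ 1) (hxnz : x ≠ z)
    (hzA : z ∈ A) (hxA : x ∈ A) (hAz : ∀ a ∈ A, a * z = z * a)
    (hA2 : ∀ a ∈ A, ∀ b ∈ A, a * b * a⁻¹ * b⁻¹ = 1 ∨ a * b * a⁻¹ * b⁻¹ = z)
    (hA3 : ∀ a ∈ A, (∀ b ∈ A, a * b = b * a) → a = 1 ∨ a = z)
    (hAsq : ∀ a ∈ A, a * a = 1 ∨ a * a = z)
    (hA4 : ∀ g : G, (∀ a ∈ A, g * a = a * g) → g ∈ A)
    (hNA : ∀ g : G, g * z = z * g → ∀ a ∈ A, g * a * g⁻¹ ∈ A)
    (hnab : ¬ ∃ a ∈ A, ∃ b ∈ A, a * x = x * a ∧ b * x = x * b ∧ a * b * a⁻¹ * b⁻¹ = z)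
    (c : G) (hcz : c * z = z * c) (m : ℕ) (hm : Odd m) (hcm : c ^ m = 1) : c = 1 := by
  have hzi : z⁻¹ = z := inv_eq_of_mul_eq_one_right hz2
  have hxi : x⁻¹ = x := inv_eq_of_mul_eq_one_right hx2
  have hPab : ∀ a ∈ A, ∀ b ∈ A, a * x = x * a → b * x = x * b → a * b = b * a := by
    intro a ha b hb hax hbx
    rcases hA2 a ha b hb with h | h
    · exact comm_of_eq_one h
    · exact (hnab ⟨a, ha, b, hb, hax, hbx, h⟩).elim
  have hP4 : ∀ p ∈ A, p * x = x * p → p = 1 ∨ p = z ∨ p = x ∨ p = x * z := fun p hp hpx =>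
    center_P A z x hz2 hx2 hxA hAz hA2 hA3 p hp (fun p' hp' hp'x => hPab p' hp' p hp hp'x hpx)
  obtain ⟨v, hvA, hv⟩ := exists_v A z x hxz hx1 hxnz hxA hA2 hA3
  obtain ⟨w, hwA, hw, hww⟩ : ∃ w ∈ A, w * x * w⁻¹ = x * z ∧ w * w = z := by
    rcases hAsq v hvA with h | h
    · refine ⟨v * x, A.mul_mem hvA hxA, ?_, ?_⟩
      · have : v * x * x * (v * x)⁻¹ = v * x * v⁻¹ := by group
        rw [this, hv]
      · have : v * x * (v * x) = (v * x * v⁻¹) * (v * v) * x := by group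
        rw [this, hv, h, mul_one, hxz, mul_assoc, hx2, mul_one]
    · exact ⟨v, hvA, hv, h⟩
  -- rewriting rules
  have s2 : z * w = w * z := (hAz w hwA).symm
  have s3 : z * x = x * z := hxz.symm
  have s1 : w * x = x * (w * z) := by
    have := mul_inv_eq_iff_eq_mul.mp hw
    rw [this, mul_assoc, s2]
  have s1' : ∀ t, w * (x * t) = x * (w * (z * t)) := fun t => by
    rw [← mul_assoc, s1]; simp only [mul_assoc]
  have s2' : ∀ t, z * (w * t) = w * (z * t) := fun t => by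
    rw [← mul_assoc, s2, mul_assoc]
  have s3' : ∀ t, z * (x * t) = x * (z * t) := fun t => by
    rw [← mul_assoc, s3, mul_assoc]
  have s4' : ∀ t, x * (x * t) = t := fun t => by rw [← mul_assoc, hx2, one_mul]
  have s5' : ∀ t, w * (w * t) = z * t := fun t => by rw [← mul_assoc, hww]
  have s6' : ∀ t, z * (z * t) = t := fun t => by rw [← mul_assoc, hz2, one_mul]
  have hwi : w⁻¹ = w * z := by
    apply inv_eq_of_mul_eq_one_right
    rw [← mul_assoc, hww, hz2]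
  have hlist : ∀ a ∈ A, a = 1 ∨ a = z ∨ a = x ∨ a = x * z ∨ a = w ∨ a = w * z ∨ a = x * w
      ∨ a = x * (w * z) := by
    intro a ha
    by_cases hax : a * x = x * a
    · rcases hP4 a ha hax with h | h | h | h
      · exact Or.inl h
      · exact Or.inr (Or.inl h)
      · exact Or.inr (Or.inr (Or.inl h))
      · exact Or.inr (Or.inr (Or.inr (Or.inl h)))
    · have hax' : a * x * a⁻¹ * x⁻¹ = z := by
        rcases hA2 a ha x hxA with h | h
        · exact absurd (comm_of_eq_one h) hax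
        · exact h
      have h_ax : a * x * a⁻¹ = x * z := by rw [mul_inv_eq_iff_eq_mul.mp hax', hxz]
      have hp : (w⁻¹ * a) * x = x * (w⁻¹ * a) := by
        have : (w⁻¹ * a) * x * (w⁻¹ * a)⁻¹ = x := by
          calc (w⁻¹ * a) * x * (w⁻¹ * a)⁻¹ = w⁻¹ * (a * x * a⁻¹) * w := by group
            _ = w⁻¹ * (w * x * w⁻¹) * w := by rw [h_ax, hw]
            _ = x := by group
        exact mul_inv_eq_iff_eq_mul.mp this
      have haw : a = w * (w⁻¹ * a) := by group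
      rcases hP4 (w⁻¹ * a) (A.mul_mem (A.inv_mem hwA) ha) hp with h | h | h | h
      · rw [h, mul_one] at haw; exact Or.inr (Or.inr (Or.inr (Or.inr (Or.inl haw))))
      · rw [h] at haw; exact Or.inr (Or.inr (Or.inr (Or.inr (Or.inr (Or.inl haw)))))
      · rw [h, s1] at haw
        exact Or.inr (Or.inr (Or.inr (Or.inr (Or.inr (Or.inr (Or.inr haw))))))
      · rw [h, s1', hz2, mul_one] at haw
        exact Or.inr (Or.inr (Or.inr (Or.inr (Or.inr (Or.inr (Or.inl haw))))))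
  -- c commutes with w
  have hcw : c * w = w * c := by
    have hyA : c * w * c⁻¹ ∈ A := hNA c hcz w hwA
    have hyy : (c * w * c⁻¹) * (c * w * c⁻¹) = z := by
      have : (c * w * c⁻¹) * (c * w * c⁻¹) = c * (w * w) * c⁻¹ := by group
      rw [this, hww, hcz, mul_inv_cancel_right]
    rcases hlist _ hyA with h | h | h | h | h | h | h | h
    · rw [h] at hyy; exact absurd (by simpa using hyy.symm) hz1
    · rw [h, hz2] at hyy; exact absurd hyy.symm hz1
    · rw [h, hx2] at hyy; exact absurd hyy.symm hz1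
    · rw [h] at hyy
      simp only [mul_assoc, s1, s1', s2, s2', s3, s3', hx2, s4', hww, s5', hz2, s6', mul_one,
        one_mul] at hyy
      exact absurd hyy.symm hz1
    · exact mul_inv_eq_iff_eq_mul.mp h
    · -- c w c⁻¹ = w z
      exfalso
      have h2 : (c * c) * w * (c * c)⁻¹ = w := by
        calc (c * c) * w * (c * c)⁻¹ = c * (c * w * c⁻¹) * c⁻¹ := by group
          _ = c * (w * z) * c⁻¹ := by rw [h]
          _ = (c * w * c⁻¹) * (c * z * c⁻¹) := by group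
          _ = w * z * z := by rw [h, hcz, mul_inv_cancel_right]
          _ = w := by rw [mul_assoc, hz2, mul_one]
      have h3 : Commute (c * c) w := mul_inv_eq_iff_eq_mul.mp h2
      obtain ⟨k, hk⟩ := hm
      have h4 : (c * c) ^ (k + 1) = c := by
        rw [← pow_two, ← pow_mul, show 2 * (k + 1) = m + 1 by omega, pow_succ, hcm, one_mul]
      have h5 : Commute c w := by
        have := h3.pow_left (k + 1)
        rwa [h4] at this
      have h6 : c * w * c⁻¹ = w := by rw [h5.eq, mul_inv_cancel_right]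
      rw [h6] at h
      have : z = 1 := by
        have := mul_left_cancel (a := w) (b := 1) (c := z) (by rw [mul_one]; exact h)
        exact this.symm
      exact hz1 this
    · rw [h] at hyy
      simp only [mul_assoc, s1, s1', s2, s2', s3, s3', hx2, s4', hww, s5', hz2, s6', mul_one,
        one_mul] at hyy
      exact absurd hyy.symm hz1
    · rw [h] at hyy
      simp only [mul_assoc, s1, s1', s2, s2', s3, s3', hx2, s4', hww, s5', hz2, s6', mul_one,
        one_mul] at hyy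
      exact absurd hyy.symm hz1
  -- c commutes with x
  have hcx : c * x = x * c := by
    have hyA : c * x * c⁻¹ ∈ A := hNA c hcz x hxA
    have hyy : (c * x * c⁻¹) * (c * x * c⁻¹) = 1 := by
      have : (c * x * c⁻¹) * (c * x * c⁻¹) = c * (x * x) * c⁻¹ := by group
      rw [this, hx2, mul_one, mul_inv_cancel]
    have hfin : ∀ u : G, c * u = u * c → (u * u) * (u * u) = 1 → c * x * c⁻¹ = x * u → u = 1 := by
      intro u hcu hu4 hu
      have := iter_conj c x u hcu hu m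
      rw [hcm, one_mul, inv_one, mul_one] at this
      have hum : u ^ m = 1 := by
        have := mul_left_cancel (a := x) (b := 1) (c := u ^ m) (by rw [mul_one]; exact this)
        exact this.symm
      exact eq_one_of_pow u m hm hum hu4
    rcases hlist _ hyA with h | h | h | h | h | h | h | h
    · exfalso; apply hx1
      have := mul_inv_eq_iff_eq_mul.mp h
      rw [one_mul] at this
      exact mul_left_cancel (a := c) (by rw [mul_one]; exact this)
    · exfalso; apply hxnz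
      have := mul_inv_eq_iff_eq_mul.mp h
      rw [← hcz] at this
      exact mul_left_cancel this
    · exact mul_inv_eq_iff_eq_mul.mp h
    · exfalso
      exact hz1 (hfin z hcz (by rw [hz2, one_mul]) h)
    · exfalso; rw [h, hww] at hyy; exact hz1 hyy
    · exfalso; rw [h] at hyy
      simp only [mul_assoc, s1, s1', s2, s2', s3, s3', hx2, s4', hww, s5', hz2, s6', mul_one,
        one_mul] at hyy
      exact hz1 hyy
    · exfalso
      have hw1 := hfin w hcw (by rw [hww, hz2]) h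
      rw [hw1, one_mul] at hww
      exact hz1 hww.symm
    · exfalso
      have hcwz : c * (w * z) = (w * z) * c := by
        rw [← mul_assoc, hcw, mul_assoc, hcz, mul_assoc]
      have hwz2 : (w * z) * (w * z) = z := by
        simp only [mul_assoc, s1, s1', s2, s2', s3, s3', hx2, s4', hww, s5', hz2, s6', mul_one,
          one_mul]
      have hw1 := hfin (w * z) hcwz (by rw [hwz2, hz2]) h
      rw [hw1, one_mul] at hwz2
      exact hz1 hwz2.symm
  have hCc : Commute c z := hcz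
  have hCw : Commute c w := hcw
  have hCx : Commute c x := hcx
  have hcA : c ∈ A := by
    apply hA4
    intro a ha
    rcases hlist a ha with h | h | h | h | h | h | h | h <;> rw [h]
    · rw [mul_one, one_mul]
    · exact hCc.eq
    · exact hCx.eq
    · exact (hCx.mul_right hCc).eq
    · exact hCw.eq
    · exact (hCw.mul_right hCc).eq
    · exact (hCx.mul_right hCw).eq
    · exact (hCx.mul_right (hCw.mul_right hCc)).eq
  apply eq_one_of_pow c m hm hcm
  rcases hAsq c hcA with h | h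
  · rw [h, mul_one]
  · rw [h, hz2]

/-- the largest normal 2-subgroup of the centralizer of `y`, inside `G` -/
noncomputable def O2C (y : G) : Subgroup G :=
  (Cfsg.pCore 2 ↥(Subgroup.centralizer ({y} : Set G))).map (Subgroup.centralizer ({y} : Set G)).subtype

theorem O2C_comm (y a : G) (ha : a ∈ O2C y) : a * y = y * a := by
  obtain ⟨a', -, rfl⟩ := ha
  exact Subgroup.mem_centralizer_singleton_iff.mp a'.2

theorem O2C_norm (y c a : G) (hc : c * y = y * c) (ha : a ∈ O2C y) : c * a * c⁻¹ ∈ O2C y := by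
  obtain ⟨a', ha', rfl⟩ := ha
  haveI := Cfsg.Agent.Lib.Helper9.pCore_characteristic 2 ↥(Subgroup.centralizer ({y} : Set G))
  have hn : (Cfsg.pCore 2 ↥(Subgroup.centralizer ({y} : Set G))).Normal := inferInstance
  have := hn.conj_mem a' ha' ⟨c, Subgroup.mem_centralizer_singleton_iff.mpr hc⟩
  exact ⟨_, this, rfl⟩

theorem O2C_conj [Finite G] (h y a : G) (ha : a ∈ O2C y) : h * a * h⁻¹ ∈ O2C (h * y * h⁻¹) := by
  have hQ2 : IsPGroup 2 ↥(O2C y) :=
    IsPGroup.map (Cfsg.Agent.Lib.Helper9.pCore_isPGroup 2 ↥(Subgroup.centralizer ({y} : Set G))) _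
  have hMC' : (O2C y).map (MulAut.conj h).toMonoidHom ≤ Subgroup.centralizer ({h * y * h⁻¹} : Set G) := by
    rintro _ ⟨b, hb, rfl⟩
    rw [Subgroup.mem_centralizer_singleton_iff]
    have := O2C_comm y b hb
    simp only [MulEquiv.toMonoidHom_eq_coe, MonoidHom.coe_coe, MulAut.conj_apply]
    calc h * b * h⁻¹ * (h * y * h⁻¹) = h * (b * y) * h⁻¹ := by group
      _ = h * (y * b) * h⁻¹ := by rw [this]
      _ = h * y * h⁻¹ * (h * b * h⁻¹) := by group
  have hM2 : IsPGroup 2 ↥((O2C y).map (MulAut.conj h).toMonoidHom) := hQ2.map _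
  have hN2 : IsPGroup 2 ↥(((O2C y).map (MulAut.conj h).toMonoidHom).subgroupOf
      (Subgroup.centralizer ({h * y * h⁻¹} : Set G))) :=
    hM2.comap_of_injective _ (Subgroup.subtype_injective _)
  have hNn : (((O2C y).map (MulAut.conj h).toMonoidHom).subgroupOf
      (Subgroup.centralizer ({h * y * h⁻¹} : Set G))).Normal := by
    refine ⟨fun n hn c => ?_⟩
    rw [Subgroup.mem_subgroupOf] at hn ⊢
    obtain ⟨b, hb, hbn⟩ := hn
    have hc := Subgroup.mem_centralizer_singleton_iff.mp c.2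
    have hc' : (h⁻¹ * (c : G) * h) * y = y * (h⁻¹ * (c : G) * h) := by
      calc (h⁻¹ * (c : G) * h) * y = h⁻¹ * ((c : G) * (h * y * h⁻¹)) * h := by group
        _ = h⁻¹ * ((h * y * h⁻¹) * (c : G)) * h := by rw [hc]
        _ = y * (h⁻¹ * (c : G) * h) := by group
    refine ⟨(h⁻¹ * (c : G) * h) * b * (h⁻¹ * (c : G) * h)⁻¹, O2C_norm y _ b hc' hb, ?_⟩
    simp only [MulEquiv.toMonoidHom_eq_coe, MonoidHom.coe_coe, MulAut.conj_apply] at hbn ⊢
    push_cast
    rw [← hbn]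
    group
  have hle := Cfsg.Agent.Lib.Helper9.le_pCore hNn hN2
  have hmem : h * a * h⁻¹ ∈ (O2C y).map (MulAut.conj h).toMonoidHom :=
    ⟨a, ha, by simp [MulAut.conj_apply]⟩
  exact ⟨⟨h * a * h⁻¹, hMC' hmem⟩, hle (Subgroup.mem_subgroupOf.mpr hmem), rfl⟩

/-- Setting: `z` is an involution of the finite group `G`; for each element `x`, `Q x` denotes the largest normal 2-subgroup of the centralizer of `x`; `Q z` is extraspecial and contains its own centralizer in `G` (a large extraspecial 2-subgroup in this sense). Call the conjugates of `z` singular, and say that singular `x` is orthogonal to singular `y` when `x ∈ Q y`. Then orthogonality is symmetric: if a conjugate `x` of `z` lies in `Q z`, then `z` lies in `Q x`. -/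
theorem result {G : Type*} [Group G] [Finite G]
    (Q : G → Subgroup G)
    (hQ : ∀ x : G, Q x = (Cfsg.pCore 2 ↥(Subgroup.centralizer ({x} : Set G))).map (Subgroup.centralizer ({x} : Set G)).subtype)
    (z : G) (hz : orderOf z = 2) (hE : Cfsg.IsExtraspecial 2 ↥(Q z))
    (hC : Subgroup.centralizer ((Q z : Subgroup G) : Set G) ≤ Q z)
    (g : G) (hx : g * z * g⁻¹ ∈ Q z) : z ∈ Q (g * z * g⁻¹) := by
  classical
  obtain rfl : Q = fun y => O2C y := funext hQ
  dsimp only at hE hC hx ⊢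
  have hz2 : z * z = 1 := by rw [← pow_two, ← hz]; exact pow_orderOf_eq_one z
  have hz1 : z ≠ 1 := by
    rintro rfl
    rw [orderOf_one] at hz; omega
  have hAz : ∀ a ∈ O2C z, a * z = z * a := fun a ha => O2C_comm z a ha
  have hzA : z ∈ O2C z := hC (Subgroup.mem_centralizer_iff.mpr hAz)
  generalize hxdef : g * z * g⁻¹ = x at hx ⊢
  by_cases hxnz : x = z
  · rw [hxnz]; exact hzA
  have hx1 : x ≠ 1 := by
    rintro rfl
    apply hz1
    have : z = g⁻¹ * (g * z * g⁻¹) * g := by group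
    rw [this, hxdef]; group
  have hx2 : x * x = 1 := by
    rw [← hxdef]
    calc g * z * g⁻¹ * (g * z * g⁻¹) = g * (z * z) * g⁻¹ := by group
      _ = 1 := by rw [hz2, mul_one, mul_inv_cancel]
  have hxz : x * z = z * x := hAz x hx
  -- the centre of A
  have hcen : ∀ c : ↥(O2C z), c ∈ Subgroup.center ↥(O2C z) → (c : G) = 1 ∨ (c : G) = z := by
    intro c hc
    have h2 := hE.2
    obtain ⟨y, hy, huniq⟩ := (Nat.card_eq_two_iff' (1 : Subgroup.center ↥(O2C z))).mp h2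
    have hz' : (⟨z, hzA⟩ : ↥(O2C z)) ∈ Subgroup.center ↥(O2C z) := by
      rw [Subgroup.mem_center_iff]
      intro g'
      exact Subtype.ext (hAz g' g'.2)
    have hzy : (⟨⟨z, hzA⟩, hz'⟩ : Subgroup.center ↥(O2C z)) = y := by
      apply huniq
      intro h
      apply hz1
      have := congrArg (fun t : Subgroup.center ↥(O2C z) => ((t : ↥(O2C z)) : G)) h
      simpa using this
    by_cases hc1 : (⟨c, hc⟩ : Subgroup.center ↥(O2C z)) = 1
    · left
      have := congrArg (fun t : Subgroup.center ↥(O2C z) => ((t : ↥(O2C z)) : G)) hc1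
      simpa using this
    · right
      have h3 := huniq ⟨c, hc⟩ hc1
      rw [← hzy] at h3
      have := congrArg (fun t : Subgroup.center ↥(O2C z) => ((t : ↥(O2C z)) : G)) h3
      simpa using this
  have hA2 : ∀ a ∈ O2C z, ∀ b ∈ O2C z, a * b * a⁻¹ * b⁻¹ = 1 ∨ a * b * a⁻¹ * b⁻¹ = z := by
    intro a ha b hb
    have := hcen _ (Cfsg.Agent.Lib.Helper20.ESpecial.comm_mem_center hE.1.2.2 ⟨a, ha⟩ ⟨b, hb⟩)
    simpa using this
  have hA3 : ∀ a ∈ O2C z, (∀ b ∈ O2C z, a * b = b * a) → a = 1 ∨ a = z := by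
    intro a ha hab
    have : (⟨a, ha⟩ : ↥(O2C z)) ∈ Subgroup.center ↥(O2C z) := by
      rw [Subgroup.mem_center_iff]
      intro g'
      exact Subtype.ext (hab g' g'.2).symm
    simpa using hcen _ this
  have hAsq : ∀ a ∈ O2C z, a * a = 1 ∨ a * a = z := by
    intro a ha
    have h1 := Cfsg.Agent.Lib.Helper20.ESpecial.pow_mem_frattini hE.1.1 (⟨a, ha⟩ : ↥(O2C z))
    rw [hE.1.2.1] at h1
    have := hcen _ h1
    simpa [pow_two] using this
  have hA4 : ∀ g' : G, (∀ a ∈ O2C z, g' * a = a * g') → g' ∈ O2C z := fun g' hg' =>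
    hC (Subgroup.mem_centralizer_iff.mpr (fun a ha => (hg' a ha).symm))
  have hNA : ∀ g' : G, g' * z = z * g' → ∀ a ∈ O2C z, g' * a * g'⁻¹ ∈ O2C z :=
    fun g' hg' a ha => O2C_norm z g' a hg' ha
  have hNB : ∀ g' : G, g' * x = x * g' → ∀ b ∈ O2C x, g' * b * g'⁻¹ ∈ O2C x :=
    fun g' hg' a ha => O2C_norm x g' a hg' ha
  have hT : ∀ h : G, h * z * h⁻¹ = x → ∀ a ∈ O2C z, h * a * h⁻¹ ∈ O2C x := by
    intro h hh a ha
    have := O2C_conj h z a ha
    rwa [hh] at this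
  have hBiff : ∀ b, b ∈ O2C x ↔ g⁻¹ * b * g ∈ O2C z := by
    intro b
    constructor
    · intro hb
      have := O2C_conj g⁻¹ x b hb
      have e : g⁻¹ * x * g⁻¹⁻¹ = z := by rw [← hxdef]; group
      rwa [e, inv_inv] at this
    · intro hb
      have := hT g hxdef _ hb
      have e : g * (g⁻¹ * b * g) * g⁻¹ = b := by group
      rwa [e] at this
  by_cases hnab : ∃ a ∈ O2C z, ∃ b ∈ O2C z, a * x = x * a ∧ b * x = x * b ∧ a * b * a⁻¹ * b⁻¹ = z
  · have hconj : ∀ t s : G, g⁻¹ * t * g = s → t = g * s * g⁻¹ := by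
      intro t s h; rw [← h]; group
    have hxB : x ∈ O2C x := by
      rw [hBiff]
      have e : g⁻¹ * x * g = z := by rw [← hxdef]; group
      rw [e]; exact hzA
    have hBx : ∀ b ∈ O2C x, b * x = x * b := fun b hb => O2C_comm x b hb
    have hB2 : ∀ a ∈ O2C x, ∀ b ∈ O2C x, a * b * a⁻¹ * b⁻¹ = 1 ∨ a * b * a⁻¹ * b⁻¹ = x := by
      intro a ha b hb
      have e : (g⁻¹ * a * g) * (g⁻¹ * b * g) * (g⁻¹ * a * g)⁻¹ * (g⁻¹ * b * g)⁻¹
          = g⁻¹ * (a * b * a⁻¹ * b⁻¹) * g := by group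
      rcases hA2 _ ((hBiff a).mp ha) _ ((hBiff b).mp hb) with h | h
      · left; rw [e] at h; rw [hconj _ _ h]; group
      · right; rw [e] at h; rw [hconj _ _ h, hxdef]
    have hB3 : ∀ b ∈ O2C x, b * b = 1 ∨ b * b = x := by
      intro b hb
      have e : (g⁻¹ * b * g) * (g⁻¹ * b * g) = g⁻¹ * (b * b) * g := by group
      rcases hAsq _ ((hBiff b).mp hb) with h | h
      · left; rw [e] at h; rw [hconj _ _ h]; group
      · right; rw [e] at h; rw [hconj _ _ h, hxdef]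
    have hB4 : ∀ g' : G, (∀ b ∈ O2C x, g' * b = b * g') → g' ∈ O2C x := by
      intro g' hg'
      rw [hBiff]
      apply hA4
      intro a ha
      have h1 : g * a * g⁻¹ ∈ O2C x := hT g hxdef a ha
      have h2 := hg' _ h1
      calc g⁻¹ * g' * g * a = g⁻¹ * (g' * (g * a * g⁻¹)) * g := by group
        _ = g⁻¹ * ((g * a * g⁻¹) * g') * g := by rw [h2]
        _ = a * (g⁻¹ * g' * g) := by group
    exact abstract_key (O2C z) (O2C x) z x hz2 hx2 hxz hx1 hxnz hx hAz hA2 hA3 hxB hBx hB2 hB3 hB4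
      hNA hNB hT hnab
  · -- the small case: the centralizer of z is a 2-group
    have hP : IsPGroup 2 ↥(Subgroup.centralizer ({z} : Set G)) := by
      intro c
      have hne : orderOf (c : G) ≠ 0 := (orderOf_pos _).ne'
      obtain ⟨k, m, hm, hkm⟩ := Nat.exists_eq_two_pow_mul_odd hne
      refine ⟨k, Subtype.ext ?_⟩
      have hcz : ((c : G) ^ 2 ^ k) * z = z * ((c : G) ^ 2 ^ k) := by
        have : Commute (c : G) z := Subgroup.mem_centralizer_singleton_iff.mp c.2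
        exact (this.pow_left _).eq
      have hc := small_case (O2C z) z x hz1 hz2 hx2 hxz hx1 hxnz hzA hx hAz hA2 hA3 hAsq hA4 hNA hnab
        ((c : G) ^ 2 ^ k) hcz m hm (by rw [← pow_mul, ← hkm]; exact pow_orderOf_eq_one _)
      simpa using hc
    have htop : (⊤ : Subgroup ↥(Subgroup.centralizer ({z} : Set G))) ≤
        Cfsg.pCore 2 ↥(Subgroup.centralizer ({z} : Set G)) :=
      Cfsg.Agent.Lib.Helper9.le_pCore inferInstance (hP.to_subgroup ⊤)
    rw [hBiff]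
    have hcomm : (g⁻¹ * z * g) * z = z * (g⁻¹ * z * g) := by
      have e : g⁻¹ * x * g = z := by rw [← hxdef]; group
      calc (g⁻¹ * z * g) * z = (g⁻¹ * z * g) * (g⁻¹ * x * g) := by rw [e]
        _ = g⁻¹ * (z * x) * g := by group
        _ = g⁻¹ * (x * z) * g := by rw [hxz]
        _ = (g⁻¹ * x * g) * (g⁻¹ * z * g) := by group
        _ = z * (g⁻¹ * z * g) := by rw [e]
    exact ⟨⟨g⁻¹ * z * g, Subgroup.mem_centralizer_singleton_iff.mpr hcomm⟩,
      htop (Subgroup.mem_top _), rfl⟩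

end Cfsg.Agent.S5595
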