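import Cfsg.Statements.S3762
import Mathlib
import Cfsg.Agent.Lib.Helper27.PHallD
import Cfsg.Agent.S0110
import Cfsg.Agent.S3761

set_option autoImplicit false
open Cfsg

namespace Cfsg.Agent.S3762

open Cfsg.Agent.Lib.Helper27.PHall
open scoped commutatorElement

/-- Let G be a finite p-group of symplectic type: every characteristic abelian subgroup of G is cyclic. Then G = E ∗ R is a central product of subgroups E and R (they commute elementwise and generate G) where E is extraspecial or trivial, and R is cyclic, or p = 2 and R is dihedral, semidihedral or generalized quaternion of order at least 16. -/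
theorem result {G : Type*} [Group G] [Finite G] {p : ℕ} [Fact p.Prime] (hG : IsPGroup p G) (hsymp : ∀ A : Subgroup G, A.Characteristic → IsMulCommutative A → IsCyclic A) : ∃ E R : Subgroup G, (∀ e ∈ E, ∀ r ∈ R, e * r = r * e) ∧ E ⊔ R = ⊤ ∧ (E = ⊥ ∨ Cfsg.IsExtraspecial p ↥E) ∧ (IsCyclic R ∨ (p = 2 ∧ 16 ≤ Nat.card R ∧ ((∃ m : ℕ, Nonempty (↥R ≃* DihedralGroup m)) ∨ (∃ m : ℕ, Nonempty (↥R ≃* QuaternionGroup m)) ∨ Cfsg.IsQuasiDihedral ↥R))) := by
  classical
  have hpp : p.Prime := Fact.out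
  rcases subsingleton_or_nontrivial G with hsub | hnt
  · refine ⟨⊥, ⊤, ?_, ?_, Or.inl rfl, Or.inl inferInstance⟩
    · intro e _ r _
      exact Subsingleton.elim _ _
    · rw [bot_sup_eq]
  obtain ⟨H, C, hHC, -, hHinv0, hCinv0, hHcen, hCcomm, hCpow, hCself0⟩ :=
    Cfsg.Agent.Lib.Helper12.SmallExp.exists_critical_inv hG (⊤ : Subgroup (MulAut G))
      (fun g => Subgroup.mem_top _) ⊤ (fun α _ x _ => Subgroup.mem_top _)
  have hHinv : ∀ α : MulAut G, ∀ x ∈ H, α x ∈ H := fun α x hx =>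
    hHinv0 α (Subgroup.mem_top α) x hx
  have hCinv : ∀ α : MulAut G, ∀ x ∈ C, α x ∈ C := fun α x hx =>
    hCinv0 α (Subgroup.mem_top α) x hx
  have hCself : ∀ q : G, (∀ c ∈ C, q * c = c * q) → q ∈ H := fun q hq =>
    hCself0 q (Subgroup.mem_top q) hq
  have hcl : Cl2 p C H :=
    ⟨hHC, hHcen, fun x _ hxc => hCself x hxc, fun c hc d _ => hCcomm c hc d, hCpow⟩
  have hHab : ∀ a ∈ H, ∀ b ∈ H, a * b = b * a := fun a ha b hb => hHcen a ha b (hHC hb)
  have hHcyc : IsCyclic ↥H := hsymp H (char_of_inv H hHinv) (comm_of H hHab)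
  obtain ⟨g, hgH, hgen⟩ := gen_of_cyclic H hHcyc
  -- a central element of order p
  obtain ⟨z₀, hz0c, hz0p, hz0ne⟩ : ∃ z₀ : G, (∀ x : G, z₀ * x = x * z₀) ∧ z₀ ^ p = 1 ∧ z₀ ≠ 1 := by
    have hcn : Nontrivial (Subgroup.center G) := hG.center_nontrivial
    have hcp : IsPGroup p (Subgroup.center G) := hG.to_subgroup _
    obtain ⟨k, hk⟩ := IsPGroup.iff_card.1 hcp
    have hk0 : k ≠ 0 := by
      rintro rfl
      rw [pow_zero] at hk
      exact (Finite.one_lt_card (α := Subgroup.center G)).ne' hk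
    have hdvd : p ∣ Nat.card (Subgroup.center G) := by
      rw [hk]; exact dvd_pow_self p hk0
    obtain ⟨z, hz⟩ := exists_prime_orderOf_dvd_card' p hdvd
    refine ⟨z.1, fun x => (Subgroup.mem_center_iff.1 z.2 x).symm, ?_, ?_⟩
    · have h1 := pow_orderOf_eq_one z
      rw [hz] at h1
      simpa using congrArg Subtype.val h1
    · intro h1
      have h2 : z = 1 := Subtype.ext h1
      rw [h2, orderOf_one] at hz
      exact hpp.one_lt.ne hz
  have hz0H : z₀ ∈ H := hCself z₀ (fun c _ => hz0c c)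
  have hZ0 : ∀ u ∈ H, u ^ p = 1 → u ∈ Subgroup.zpowers z₀ :=
    mem_zpowers_of_pow H hHcyc z₀ hz0H hz0p hz0ne
  have hZc : ∀ z ∈ Subgroup.zpowers z₀, ∀ x : G, z * x = x * z := by
    intro z hz x
    obtain ⟨i, rfl⟩ := Subgroup.mem_zpowers_iff.1 hz
    exact ((show Commute z₀ x from hz0c x).zpow_left i).eq
  have hZ0c : ∀ u ∈ H, u ^ p = 1 → ∀ x : G, u * x = x * u := fun u hu hup =>
    hZc u (hZ0 u hu hup)
  -- order of g
  obtain ⟨n, hn⟩ := IsPGroup.iff_card.1 (hG.to_subgroup H)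
  have hHz : H = Subgroup.zpowers g := Cfsg.Agent.S3761.U_eq_zpowers H hgH hgen
  have hon : orderOf g = p ^ n := by
    rw [← Nat.card_zpowers, ← hHz]; exact hn
  have hn1 : 1 ≤ n := by
    by_contra hlt
    have hn0 : n = 0 := by omega
    rw [hn0, pow_zero, orderOf_eq_one_iff] at hon
    apply hz0ne
    obtain ⟨k, hk⟩ := hgen z₀ hz0H
    rw [hk, hon, one_pow]
  -- the extraspecial factor
  obtain ⟨E, hEC, hEpp, hCdec, hEcase⟩ : ∃ E : Subgroup G, E ≤ C ∧ (∀ e ∈ E, (e ^ p) ^ p = 1) ∧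
      (∀ c ∈ C, ∃ e ∈ E, ∃ u ∈ H, c = e * u) ∧
      (E = ⊥ ∨ (Cfsg.IsExtraspecial p ↥E ∧ Subgroup.zpowers z₀ ≤ E)) := by
    by_cases hCab : ∀ c ∈ C, ∀ d ∈ C, c * d = d * c
    · refine ⟨⊥, bot_le, ?_, ?_, Or.inl rfl⟩
      · intro e he
        rw [Subgroup.mem_bot] at he
        rw [he]; simp
      · intro c hc
        exact ⟨1, Subgroup.one_mem _, c, hCself c (fun d hd => hCab c hc d hd), by simp⟩
    · push_neg at hCab
      have hstar : ∀ c ∈ C, ∃ u ∈ H, ((c * u) ^ p) ^ p = 1 := by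
        by_cases hQ2 : ∀ u ∈ H, u ^ p = 1 → ∃ v ∈ H, u = v ^ p
        · intro c hc
          obtain ⟨u, hu, hcu⟩ := hcl.exists_pow_one hG hsymp hCinv hHinv hCab (Or.inr hQ2) c hc
          exact ⟨u, hu, by rw [hcu, one_pow]⟩
        · push_neg at hQ2
          obtain ⟨u, hu, hup, hno⟩ := hQ2
          have hgp : g ^ p = 1 := by
            obtain ⟨k, rfl⟩ := hgen u hu
            rcases pow_dichotomy hG g k with ⟨j, hj⟩ | hg
            · exfalso
              exact hno (g ^ j) (H.pow_mem hgH j) (by rw [hj, ← pow_mul, ← pow_mul, mul_comm])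
            · obtain ⟨i, hi⟩ := Subgroup.mem_zpowers_iff.1 hg
              rw [← hi, ← zpow_natCast, ← zpow_mul, mul_comm, zpow_mul, zpow_natCast, hup,
                one_zpow]
          intro c hc
          refine ⟨1, H.one_mem, ?_⟩
          rw [mul_one]
          obtain ⟨k, hk⟩ := hgen _ (hCpow c hc)
          rw [hk, ← pow_mul, mul_comm, pow_mul, hgp, one_pow]
      obtain ⟨E, hEC, hZE, hEpp, hdec, hEx⟩ :=
        exists_E hG hcl hHcyc hCab hstar z₀ hz0H hz0p hz0ne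
      exact ⟨E, hEC, hEpp, hdec, Or.inr ⟨hEx, hZE⟩⟩
  have hEcase' : E = ⊥ ∨ Cfsg.IsExtraspecial p ↥E := by
    rcases hEcase with hE | ⟨hEx, -⟩
    · exact Or.inl hE
    · exact Or.inr hEx
  -- the complement
  obtain ⟨R, hRdef⟩ : ∃ R : Subgroup G, R = Subgroup.centralizer (E : Set G) := ⟨_, rfl⟩
  have hER : ∀ e ∈ E, ∀ r ∈ R, e * r = r * e := by
    intro e he r hr
    rw [hRdef] at hr
    exact Subgroup.mem_centralizer_iff.1 hr e he
  have hHR : H ≤ R := by
    intro u hu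
    rw [hRdef, Subgroup.mem_centralizer_iff]
    intro e he
    exact (hHcen u hu e (hEC he)).symm
  have hRself : ∀ r ∈ R, (∀ u ∈ H, r * u = u * r) → r ∈ H := by
    intro r hr hru
    apply hCself
    intro c hc
    obtain ⟨e, he, u, hu, rfl⟩ := hCdec c hc
    have c1 : Commute r e := (hER e he r hr).symm
    have c2 : Commute r u := hru u hu
    exact (c1.mul_right c2).eq
  have hsup : E ⊔ R = ⊤ := by
    rcases hEcase with hE | ⟨hEx, hZE⟩
    · rw [hRdef, hE]
      simp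
    · rw [hRdef]
      apply Cfsg.Agent.S0110.result hG E hEx
      rw [Subgroup.commutator_le]
      intro x _ e he
      have hw : ⁅x, e⁆ ∈ H := by
        have h1 := hCcomm e (hEC he) x
        have e1 : ⁅x, e⁆ = ⁅e, x⁆⁻¹ := (commutatorElement_inv e x).symm
        rw [e1]
        exact H.inv_mem h1
      have hwp : ⁅x, e⁆ ^ p = 1 := by
        have e1 : ⁅x, e⁆ * e = x * e * x⁻¹ := by simp [commutatorElement_def]
        have e2 : (⁅x, e⁆ * e) ^ p = e ^ p := by
          rw [e1, conj_pow]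
          have hc := hZ0c (e ^ p) (hCpow e (hEC he)) (hEpp e he) x
          rw [← hc, mul_inv_cancel_right]
        have c1 : Commute ⁅x, e⁆ e := hHcen _ hw e (hEC he)
        rw [c1.mul_pow] at e2
        simpa using e2
      have hwZ := hZ0 _ hw hwp
      exact ⟨hZE hwZ, Subgroup.mem_centralizer_iff.2 (fun y _ => (hZc _ hwZ y).symm)⟩
  have hdec : ∀ x : G, ∃ e ∈ E, ∃ r ∈ R, x = e * r := exists_mul_of_sup_eq_top E R hER hsup
  by_cases hRab : ∀ a ∈ R, ∀ b ∈ R, a * b = b * a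
  · have hRH : R ≤ H := fun r hr => hRself r hr (fun u hu => hRab r hr u (hHR hu))
    have hRH' : R = H := le_antisymm hRH hHR
    refine ⟨E, R, hER, hsup, hEcase', Or.inl ?_⟩
    rw [hRH']
    exact hHcyc
  push_neg at hRab
  -- the small case
  have hAB : p = 2 → (g ^ p) ^ p = 1 → ∃ E R : Subgroup G, (∀ e ∈ E, ∀ r ∈ R, e * r = r * e) ∧ E ⊔ R = ⊤ ∧ (E = ⊥ ∨ Cfsg.IsExtraspecial p ↥E) ∧ (IsCyclic R ∨ (p = 2 ∧ 16 ≤ Nat.card R ∧ ((∃ m : ℕ, Nonempty (↥R ≃* DihedralGroup m)) ∨ (∃ m : ℕ, Nonempty (↥R ≃* QuaternionGroup m)) ∨ Cfsg.IsQuasiDihedral ↥R))) := by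
    intro hp2 hg4
    have hX := absorb hG hcl hHcyc hHinv hCself g hgH hgen n hon hn1 z₀ hz0p hz0ne hz0c hZ0
      E R hEC hEpp hER hdec hRself hRab hp2 hg4
    refine ⟨⊤, ⊥, ?_, ?_, Or.inr hX, Or.inl inferInstance⟩
    · intro e _ r hr
      rw [Subgroup.mem_bot] at hr
      rw [hr]; simp
    · simp
  have hHn : H.Normal := ⟨fun x hx y => by simpa using hHinv (MulAut.conj y) x hx⟩
  have hna : ¬ IsMulCommutative ↥R := by
    intro hc
    obtain ⟨a, ha, b, hb, hab⟩ := hRab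
    apply hab
    have h1 := hc.is_comm.comm (⟨a, ha⟩ : ↥R) ⟨b, hb⟩
    exact congrArg Subtype.val h1
  have hUcyc : IsCyclic ↥(H.subgroupOf R) :=
    (MulEquiv.isCyclic (Subgroup.subgroupOfEquivOfLe hHR)).2 hHcyc
  have hUn : Nat.card ↥(H.subgroupOf R) = p ^ n := by
    rw [← hn]; exact Nat.card_congr (Subgroup.subgroupOfEquivOfLe hHR).toEquiv
  have hUC : Subgroup.centralizer ((H.subgroupOf R : Subgroup ↥R) : Set ↥R) = H.subgroupOf R := by
    ext x
    rw [Subgroup.mem_centralizer_iff, Subgroup.mem_subgroupOf]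
    constructor
    · intro hx
      apply hRself _ x.2
      intro u hu
      have h1 := hx ⟨u, hHR hu⟩ (Subgroup.mem_subgroupOf.2 hu)
      exact (congrArg Subtype.val h1).symm
    · intro hx y hy
      exact Subtype.ext (hHab _ (Subgroup.mem_subgroupOf.1 hy) _ hx)
  rcases Cfsg.Agent.S3761.result (hG.to_subgroup R) hna (H.subgroupOf R) hUcyc n hUn hUC with
    ⟨hp2, hcard, htype⟩ | ⟨hrel, -⟩
  · by_cases h16 : 16 ≤ Nat.card ↥R
    · exact ⟨E, R, hER, hsup, hEcase', Or.inr ⟨hp2, h16, htype⟩⟩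
    · apply hAB hp2
      have hn2 : n ≤ 2 := by
        by_contra hlt
        have h1 : 2 ^ 4 ≤ 2 ^ (n + 1) := Nat.pow_le_pow_right (by norm_num) (by omega)
        rw [hcard] at h16
        omega
      rw [← pow_mul, ← sq]
      apply orderOf_dvd_iff_pow_eq_one.1
      rw [hon]
      exact Nat.pow_dvd_pow p hn2
  · have hp1 : p ≠ 1 := hpp.one_lt.ne'
    have hnot : ¬ (Subgroup.centralizer (Cfsg.powerClosure p 1 (H.subgroupOf R) : Set ↥R)
        ≤ H.subgroupOf R) := by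
      intro hle
      rw [← Subgroup.relIndex_eq_one] at hle
      rw [hle] at hrel
      exact hp1 hrel.symm
    obtain ⟨r, hrK, hrU⟩ := SetLike.not_le_iff_exists.1 hnot
    have hrR : (r : G) ∈ R := r.2
    have hrH : (r : G) ∉ H := fun h' => hrU (Subgroup.mem_subgroupOf.2 h')
    have hrc : (r : G) * g ^ p = g ^ p * (r : G) := by
      have hmem : (⟨g, hHR hgH⟩ : ↥R) ^ (p ^ 1) ∈ Cfsg.powerClosure p 1 (H.subgroupOf R) :=
        Subgroup.subset_closure ⟨⟨g, hHR hgH⟩, Subgroup.mem_subgroupOf.2 hgH, rfl⟩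
      have h1 := Subgroup.mem_centralizer_iff.1 hrK _ hmem
      have h2 := congrArg Subtype.val h1
      simp only [pow_one, Subgroup.coe_mul, Subgroup.coe_pow] at h2
      exact h2.symm
    by_cases hQ : p ≠ 2 ∨ ∀ u ∈ Subgroup.zpowers (g ^ p), u ^ p = 1 →
        ∃ v ∈ Subgroup.zpowers (g ^ p), u = v ^ p
    · exact (bad_case hG hsymp hcl hHcyc hHinv hCself g hgH hgen n hon hn1 hZ0c E R hEC hEpp
        hER hdec hRself r hrR hrH hrc hQ).elim
    · push_neg at hQ
      obtain ⟨hp2, u, hu, hup, hno⟩ := hQ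
      apply hAB hp2
      obtain ⟨k, hk⟩ := (Submonoid.mem_powers_iff _ _).1 (mem_powers_iff_mem_zpowers.2 hu)
      rcases pow_dichotomy hG (g ^ p) k with ⟨j, hj⟩ | hg'
      · exfalso
        exact hno ((g ^ p) ^ j) (Subgroup.pow_mem _ (Subgroup.mem_zpowers _) j)
          (by rw [← hk, hj]; exact pow_right_comm (g ^ p) p j)
      · obtain ⟨i, hi⟩ := Subgroup.mem_zpowers_iff.1 hg'
        rw [← hi, hk, ← zpow_natCast, ← zpow_mul, mul_comm, zpow_mul, zpow_natCast, hup,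
          one_zpow]

end Cfsg.Agent.S3762
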