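import Mathlib
import Cfsg.Statements.S4065

set_option autoImplicit false
open Cfsg

namespace Cfsg.Agent.S4065

/-- Two matrices commuting with a non-scalar `2 × 2` matrix commute. -/
theorem comm_of_comm {F : Type*} [Field F] (A B C : Matrix (Fin 2) (Fin 2) F)
    (hA : A 0 1 ≠ 0 ∨ A 1 0 ≠ 0 ∨ A 0 0 ≠ A 1 1) (hB : A * B = B * A) (hC : A * C = C * A) :
    B * C = C * B := by
  have e := fun i j => congrFun (congrFun hB i) j
  have e' := fun i j => congrFun (congrFun hC i) j
  have h1 := e 0 0
  have h2 := e 0 1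
  have h3 := e 1 0
  have h1' := e' 0 0
  have h2' := e' 0 1
  have h3' := e' 1 0
  simp only [Matrix.mul_apply, Fin.sum_univ_two] at h1 h2 h3 h1' h2' h3'
  rcases hA with hb | hc | had
  · ext i j
    fin_cases i <;> fin_cases j <;> simp only [Matrix.mul_apply, Fin.sum_univ_two, Fin.zero_eta,
      Fin.mk_one]
    · apply mul_left_cancel₀ hb
      linear_combination (B 0 1) * h1' - (C 0 1) * h1
    · apply mul_left_cancel₀ hb
      linear_combination (B 0 1) * h2' - (C 0 1) * h2
    · apply mul_left_cancel₀ (mul_ne_zero hb hb)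
      linear_combination (A 0 1 * (C 0 0 - C 1 1)) * h1 - (A 0 1 * (B 0 0 - B 1 1)) * h1' +
        (A 1 0 * C 0 1) * h2 - (A 1 0 * B 0 1) * h2'
    · apply mul_left_cancel₀ hb
      linear_combination (C 0 1) * h1 - (B 0 1) * h1'
  · ext i j
    fin_cases i <;> fin_cases j <;> simp only [Matrix.mul_apply, Fin.sum_univ_two, Fin.zero_eta,
      Fin.mk_one]
    · apply mul_left_cancel₀ hc
      linear_combination (B 1 0) * h1' - (C 1 0) * h1
    · apply mul_left_cancel₀ (mul_ne_zero hc hc)
      linear_combination ((A 0 0 - A 1 1) * C 1 0) * h1 - ((A 0 0 - A 1 1) * B 1 0) * h1' +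
        (A 1 0 * C 0 1) * h3 - (A 1 0 * B 0 1) * h3'
    · apply mul_left_cancel₀ hc
      linear_combination (B 1 0) * h3' - (C 1 0) * h3
    · apply mul_left_cancel₀ hc
      linear_combination (C 1 0) * h1 - (B 1 0) * h1'
  · have he : A 0 0 - A 1 1 ≠ 0 := sub_ne_zero.2 had
    ext i j
    fin_cases i <;> fin_cases j <;> simp only [Matrix.mul_apply, Fin.sum_univ_two, Fin.zero_eta,
      Fin.mk_one]
    · apply mul_left_cancel₀ (mul_ne_zero he he)
      linear_combination ((A 0 0 - A 1 1) * C 1 0) * h2 - ((A 0 0 - A 1 1) * B 1 0) * h2' +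
        (A 0 1 * (C 0 0 - C 1 1)) * h3 - (A 0 1 * (B 0 0 - B 1 1)) * h3'
    · apply mul_left_cancel₀ he
      linear_combination (B 0 0 - B 1 1) * h2' - (C 0 0 - C 1 1) * h2
    · apply mul_left_cancel₀ he
      linear_combination (B 0 0 - B 1 1) * h3' - (C 0 0 - C 1 1) * h3
    · apply mul_left_cancel₀ (mul_ne_zero he he)
      linear_combination ((A 0 0 - A 1 1) * B 1 0) * h2' - ((A 0 0 - A 1 1) * C 1 0) * h2 +
        (A 0 1 * (B 0 0 - B 1 1)) * h3' - (A 0 1 * (C 0 0 - C 1 1)) * h3

/-- In characteristic two the centre of `SL₂` is trivial. -/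
theorem center_eq_bot {F : Type*} [Field F] [CharP F 2] :
    Subgroup.center (Matrix.SpecialLinearGroup (Fin 2) F) = ⊥ := by
  rw [eq_bot_iff]
  intro A hA
  rw [Matrix.SpecialLinearGroup.mem_center_iff] at hA
  obtain ⟨r, hr, hA⟩ := hA
  rw [Subgroup.mem_bot]
  have hr2 : r ^ 2 = 1 := by simpa using hr
  have hr1 : r = 1 := by
    have h2 : (r + 1) ^ 2 = 0 := by
      rw [CharTwo.add_sq, hr2, one_pow, CharTwo.add_self_eq_zero]
    have h3 : r + 1 = 0 := by simpa using h2
    have h4 : r = -1 := eq_neg_of_add_eq_zero_left h3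
    rw [h4, CharTwo.neg_eq]
  apply Subtype.ext
  rw [← hA, hr1]
  simp

/-- In characteristic two a non-identity element of `SL₂` is not a scalar matrix. -/
theorem nonscalar {F : Type*} [Field F] [CharP F 2] (a : Matrix.SpecialLinearGroup (Fin 2) F)
    (ha : a ≠ 1) : a.1 0 1 ≠ 0 ∨ a.1 1 0 ≠ 0 ∨ a.1 0 0 ≠ a.1 1 1 := by
  by_contra hcon
  have h1 : a.1 0 1 = 0 := by
    by_contra h
    exact hcon (Or.inl h)
  have h2 : a.1 1 0 = 0 := by
    by_contra h
    exact hcon (Or.inr (Or.inl h))
  have h3 : a.1 0 0 = a.1 1 1 := by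
    by_contra h
    exact hcon (Or.inr (Or.inr h))
  have hdet := a.2
  rw [Matrix.det_fin_two, h1, h2, ← h3, mul_zero, sub_zero] at hdet
  have hr1 : a.1 0 0 = 1 := by
    have h4 : (a.1 0 0 + 1) ^ 2 = 0 := by
      rw [CharTwo.add_sq, pow_two, hdet, one_pow, CharTwo.add_self_eq_zero]
    have h5 : a.1 0 0 + 1 = 0 := by simpa using h4
    have h6 : a.1 0 0 = -1 := eq_neg_of_add_eq_zero_left h5
    rw [h6, CharTwo.neg_eq]
  apply ha
  apply Subtype.ext
  ext i j
  fin_cases i <;> fin_cases j
  · simpa using hr1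
  · simpa using h1
  · simpa using h2
  · simp only [Fin.mk_one]
    rw [← h3, hr1]
    simp

/-- In `PSL₂` over a field of characteristic two, two elements commuting with a non-identity
element commute. -/
theorem psl_comm {F : Type*} [Field F] [CharP F 2]
    (a b c : Matrix.ProjectiveSpecialLinearGroup (Fin 2) F) (ha : a ≠ 1)
    (hb : b * a = a * b) (hc : c * a = a * c) : b * c = c * b := by
  obtain ⟨a, rfl⟩ := QuotientGroup.mk_surjective a
  obtain ⟨b, rfl⟩ := QuotientGroup.mk_surjective b
  obtain ⟨c, rfl⟩ := QuotientGroup.mk_surjective c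
  have key : ∀ u v : Matrix.SpecialLinearGroup (Fin 2) F,
      (QuotientGroup.mk u : Matrix.ProjectiveSpecialLinearGroup (Fin 2) F) * QuotientGroup.mk v =
        QuotientGroup.mk v * QuotientGroup.mk u → u * v = v * u := by
    intro u v h
    rw [← QuotientGroup.mk_mul, ← QuotientGroup.mk_mul, QuotientGroup.eq, center_eq_bot,
      Subgroup.mem_bot] at h
    exact eq_of_inv_mul_eq_one h
  have ha1 : a ≠ 1 := by
    rintro rfl
    exact ha rfl
  have hba := key b a hb
  have hca := key c a hc
  have hB : a.1 * b.1 = b.1 * a.1 := by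
    have := congrArg Subtype.val hba
    simpa using this.symm
  have hC : a.1 * c.1 = c.1 * a.1 := by
    have := congrArg Subtype.val hca
    simpa using this.symm
  have h := comm_of_comm a.1 b.1 c.1 (nonscalar a ha1) hB hC
  have hbc : b * c = c * b := by
    apply Subtype.ext
    simpa using h
  rw [← QuotientGroup.mk_mul, ← QuotientGroup.mk_mul, hbc]

/-- Let F be a finite field with 2ⁿ elements, n ≥ 2. In PSL₂(F) the centralizer of every element meets each of its conjugates by elements outside its normalizer trivially. -/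
theorem result (n : ℕ) (hn : 2 ≤ n)
    (x : Matrix.ProjectiveSpecialLinearGroup (Fin 2) (GaloisField 2 n)) :
    Cfsg.IsTISubset (Subgroup.centralizer ({x} : Set (Matrix.ProjectiveSpecialLinearGroup (Fin 2) (GaloisField 2 n))) :
      Set (Matrix.ProjectiveSpecialLinearGroup (Fin 2) (GaloisField 2 n))) := by
  haveI : Fact (Nat.Prime 2) := ⟨Nat.prime_two⟩
  intro g hg y hy hgy
  by_contra hy1
  apply hg
  rw [SetLike.mem_coe, Subgroup.mem_centralizer_singleton_iff] at hy hgy
  by_cases hx : x = 1
  · subst hx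
    rw [Subgroup.mem_set_normalizer_iff'']
    intro h
    simp [Subgroup.mem_centralizer_singleton_iff]
  · -- centralizers of x and y coincide
    have hxy : ∀ h, h * x = x * h ↔ h * y = y * h := by
      intro h
      constructor
      · intro hh
        exact psl_comm x h y hx hh hy
      · intro hh
        exact psl_comm y h x hy1 hh hy.symm
    have hgy1 : g * y * g⁻¹ ≠ 1 := by
      intro h
      apply hy1
      have : y = g⁻¹ * (g * y * g⁻¹) * g := by group
      rw [this, h]
      group
    have hxy' : ∀ h, h * x = x * h ↔ h * (g * y * g⁻¹) = (g * y * g⁻¹) * h := by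
      intro h
      constructor
      · intro hh
        exact psl_comm x h (g * y * g⁻¹) hx hh hgy
      · intro hh
        exact psl_comm (g * y * g⁻¹) h x hgy1 hh hgy.symm
    rw [Subgroup.mem_normalizer_iff]
    intro h
    rw [Subgroup.mem_centralizer_singleton_iff, Subgroup.mem_centralizer_singleton_iff, hxy h,
      hxy' (g * h * g⁻¹)]
    constructor
    · intro hh
      have e1 : g * h * g⁻¹ * (g * y * g⁻¹) = g * (h * y) * g⁻¹ := by group
      have e2 : g * y * g⁻¹ * (g * h * g⁻¹) = g * (y * h) * g⁻¹ := by group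
      rw [e1, e2, hh]
    · intro hh
      have e1 : g * h * g⁻¹ * (g * y * g⁻¹) = g * (h * y) * g⁻¹ := by group
      have e2 : g * y * g⁻¹ * (g * h * g⁻¹) = g * (y * h) * g⁻¹ := by group
      rw [e1, e2] at hh
      exact mul_left_cancel (mul_right_cancel hh)

end Cfsg.Agent.S4065
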