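import Cfsg.Statements.S1465
import Mathlib
import Cfsg.Agent.Lib.Helper5.QuadPair3
import Cfsg.Agent.Lib.Helper5.ZJClosed
import Cfsg.Agent.Lib.Helper12.Balance

set_option autoImplicit false
open Cfsg

namespace Cfsg.Agent.S1465

open scoped commutatorElement

/-- Let p be an odd prime, G a solvable group of odd order, P a normal p-subgroup of G, and X the subgroup generated by a family of abelian p-subgroups of G each normalized by P. Then the image of X in G/C_G(P) lies in O_p(G/C_G(P)); and if O_{p'}(G) = 1 and O_p(G) ∩ C_G(P) ≤ P then X ≤ O_p(G). -/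
theorem result {G : Type*} [Group G] [Finite G] [Group.IsSolvable G] (hodd : Odd (Nat.card G)) (p : ℕ) [Fact p.Prime] (hp : p ≠ 2) (P : Subgroup G) [P.Normal] (hP : IsPGroup p P)
    (S : Set (Subgroup G)) (hS : ∀ B ∈ S, IsMulCommutative B ∧ IsPGroup p B ∧ P ≤ Subgroup.normalizer (B : Set G)) :
    (sSup S).map (QuotientGroup.mk' (Subgroup.centralizer (P : Set G))) ≤ Cfsg.pCore p (G ⧸ Subgroup.centralizer (P : Set G)) ∧
      (Cfsg.pPrimeCore p G = ⊥ → Cfsg.pCore p G ⊓ Subgroup.centralizer (P : Set G) ≤ P → sSup S ≤ Cfsg.pCore p G) := by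
  have hst := Cfsg.Agent.Lib.Helper5.QuadPair.isNormalizerPStable_of_odd hodd p hp
  have hPst := Cfsg.Agent.Lib.Helper5.ZJClosed.stableOn_of_normalizer hst P hP
  have hB : ∀ B ∈ S, B ≤ Cfsg.Agent.Lib.Helper5.ZJ.KK p P := by
    intro B hB b hb
    obtain ⟨hBc, hBp, hBN⟩ := hS B hB
    have hq := Cfsg.Agent.Lib.Helper5.ZJ.quad_of_normalizes P B
      (fun x hx a ha => (Subgroup.mem_normalizer_iff.mp (hBN hx) a).mp ha)
      (fun x hx y hy => congrArg Subtype.val (hBc.is_comm.comm ⟨x, hx⟩ ⟨y, hy⟩)) hb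
    exact Cfsg.Agent.Lib.Helper5.ZJ.mem_KK.2 (hPst b hq)
  have hle : sSup S ≤ Cfsg.Agent.Lib.Helper5.ZJ.KK p P := sSup_le hB
  constructor
  · rw [Subgroup.map_le_iff_le_comap]; exact hle
  · intro hO hPC
    refine hle.trans ?_
    apply Cfsg.Agent.Lib.Helper9.le_pCore (Cfsg.Agent.Lib.Helper5.ZJ.KK_normal p P)
    apply IsPGroup.comap_of_ker_isPGroup (Cfsg.Agent.Lib.Helper9.pCore_isPGroup p _)
    rw [QuotientGroup.ker_mk']
    obtain ⟨C, hCdef⟩ : ∃ C : Subgroup G, C = Subgroup.centralizer (P : Set G) := ⟨_, rfl⟩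
    rw [← hCdef]
    haveI hCn : C.Normal := by rw [hCdef]; infer_instance
    have hOC : pPrimeCore p ↥C = ⊥ := by
      have h1 := Cfsg.Agent.Lib.Helper9.pPrimeCore_subtype_le p C
      rw [hO, le_bot_iff, Subgroup.map_eq_bot_iff_of_injective _ C.subtype_injective] at h1
      exact h1
    have hcc := Cfsg.Agent.Lib.Helper12.Balance.hh_solvable ↥C p hOC
    have htop : pCore p ↥C = ⊤ := by
      rw [eq_top_iff]
      intro c _
      apply hcc
      rw [Subgroup.mem_centralizer_iff]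
      intro x hx
      have hxP : (x : G) ∈ P := hPC (Subgroup.mem_inf.mpr
        ⟨Cfsg.Agent.Lib.Helper9.pCore_subtype_le p C (Subgroup.mem_map_of_mem _ hx), by
          rw [← hCdef]; exact x.2⟩)
      have hc : (c : G) ∈ Subgroup.centralizer (P : Set G) := by rw [← hCdef]; exact c.2
      apply Subtype.ext
      exact Subgroup.mem_centralizer_iff.mp hc (x : G) hxP
    have hCp := Cfsg.Agent.Lib.Helper9.pCore_isPGroup p ↥C
    rw [htop] at hCp
    exact hCp.of_equiv Subgroup.topEquiv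

end Cfsg.Agent.S1465
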