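import Cfsg.Statements.S1024
import Mathlib

set_option autoImplicit false
open Cfsg

namespace Cfsg.Agent.S1024

open Cfsg.Lie

theorem chainCoeff_pos (D : ChevalleyDatum) (r s u : ℕ) :
    ∀ km ∈ D.chainCoeff r s u, 1 ≤ km.1 := by
  intro km hkm
  unfold ChevalleyDatum.chainCoeff at hkm
  simp only [List.mem_flatMap, List.mem_map] at hkm
  obtain ⟨e, -, q, -, rfl⟩ := hkm
  simp

theorem xMat_zero {F : Type*} [Field F] (D : ChevalleyDatum) (r : Fin D.nroots) :
    D.xMat F r 0 = 1 := by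
  ext row col
  unfold ChevalleyDatum.xMat
  rcases col with i | s
  · rcases row with i' | u
    · simp [Matrix.one_apply]
    · simp [Matrix.one_apply]
  · by_cases hsr : s = r
    · subst hsr
      rcases row with i' | u
      · simp [Matrix.one_apply]
      · simp [Matrix.one_apply]
    · by_cases hneg : s.val = D.negIdx.getD r.val 0
      · rcases row with i' | u
        · simp [Matrix.one_apply, hsr, hneg]
        · by_cases hus : u = s
          · simp [Matrix.one_apply, hsr, hneg, hus]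
          · simp [Matrix.one_apply, hsr, hneg, hus]
      · rcases row with i' | u
        · simp [Matrix.one_apply, hsr, hneg]
        · have hsum : ((D.chainCoeff r.val s.val u.val).map fun km => ((km.2 : ℤ) : F) * (0 : F) ^ km.1).sum = 0 := by
            apply List.sum_eq_zero
            intro x hx
            simp only [List.mem_map] at hx
            obtain ⟨km, hkm, rfl⟩ := hx
            have := chainCoeff_pos D _ _ _ km hkm
            have h0 : (0 : F) ^ km.1 = 0 := zero_pow (by omega)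
            rw [h0, mul_zero]
          simp only [Matrix.of_apply, hsr, hneg, if_false, hsum, add_zero, Matrix.one_apply,
            Sum.inr.injEq]

theorem neg_ok_G2 : ∀ r < chevG2.nroots, chevG2.negIdx.getD r 0 < chevG2.nroots ∧ chevG2.negIdx.getD r 0 ≠ r := by
  decide +kernel
theorem neg_ok_B2 : ∀ r < chevB2.nroots, chevB2.negIdx.getD r 0 < chevB2.nroots ∧ chevB2.negIdx.getD r 0 ≠ r := by
  decide +kernel
theorem neg_ok_D4 : ∀ r < chevD4.nroots, chevD4.negIdx.getD r 0 < chevD4.nroots ∧ chevD4.negIdx.getD r 0 ≠ r := by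
  decide +kernel
theorem neg_ok_F4 : ∀ r < chevF4.nroots, chevF4.negIdx.getD r 0 < chevF4.nroots ∧ chevF4.negIdx.getD r 0 ≠ r := by
  decide +kernel
theorem neg_ok_E6 : ∀ r < chevE6.nroots, chevE6.negIdx.getD r 0 < chevE6.nroots ∧ chevE6.negIdx.getD r 0 ≠ r := by
  decide +kernel
theorem neg_ok_E7 : ∀ r < chevE7.nroots, chevE7.negIdx.getD r 0 < chevE7.nroots ∧ chevE7.negIdx.getD r 0 ≠ r := by
  decide +kernel
theorem neg_ok_E8 : ∀ r < chevE8.nroots, chevE8.negIdx.getD r 0 < chevE8.nroots ∧ chevE8.negIdx.getD r 0 ≠ r := by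
  decide +kernel

theorem neg_ok (D : ChevalleyDatum) (hD : D ∈ [Cfsg.Lie.chevG2, Cfsg.Lie.chevB2, Cfsg.Lie.chevD4, Cfsg.Lie.chevF4, Cfsg.Lie.chevE6, Cfsg.Lie.chevE7, Cfsg.Lie.chevE8]) :
    ∀ r < D.nroots, D.negIdx.getD r 0 < D.nroots ∧ D.negIdx.getD r 0 ≠ r := by
  simp only [List.mem_cons, List.not_mem_nil, or_false] at hD
  rcases hD with rfl | rfl | rfl | rfl | rfl | rfl | rfl
  · exact neg_ok_G2
  · exact neg_ok_B2
  · exact neg_ok_D4
  · exact neg_ok_F4
  · exact neg_ok_E6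
  · exact neg_ok_E7
  · exact neg_ok_E8

theorem xMat_entry_neg {F : Type*} [Field F] (D : ChevalleyDatum) (r s : Fin D.nroots) (t : F)
    (hs : s.val = D.negIdx.getD r.val 0) (hsr : s ≠ r) :
    D.xMat F r t (Sum.inr r) (Sum.inr s) = -(t ^ 2) := by
  unfold ChevalleyDatum.xMat
  have hrs : r ≠ s := fun h => hsr h.symm
  simp [hsr, hs, hrs]

/-- `x_r(0) = 1`, and `x_r(t) = 1` forces `t = 0`: the map `t ↦ x_r(t)` is injective. -/
theorem result {F : Type*} [Field F] (D : Cfsg.Lie.ChevalleyDatum) (hD : D ∈ [Cfsg.Lie.chevG2, Cfsg.Lie.chevB2, Cfsg.Lie.chevD4, Cfsg.Lie.chevF4, Cfsg.Lie.chevE6, Cfsg.Lie.chevE7, Cfsg.Lie.chevE8]) (r : ℕ) (hr : r < D.nroots) (t : F) :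
    D.x F r t = 1 ↔ t = 0 := by
  unfold ChevalleyDatum.x
  rw [dif_pos hr]
  constructor
  · intro h
    obtain ⟨h1, h2⟩ := neg_ok D hD r hr
    have hsr : (⟨D.negIdx.getD r 0, h1⟩ : Fin D.nroots) ≠ ⟨r, hr⟩ := by
      intro h
      exact h2 (Fin.mk.inj h)
    have h3 := xMat_entry_neg (F := F) D ⟨r, hr⟩ ⟨D.negIdx.getD r 0, h1⟩ t rfl hsr
    rw [h] at h3
    have hne : (Sum.inr ⟨r, hr⟩ : D.Idx) ≠ Sum.inr ⟨D.negIdx.getD r 0, h1⟩ := by
      intro h
      exact hsr (Sum.inr.inj h).symm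
    rw [Matrix.one_apply_ne hne] at h3
    have h4 : t ^ 2 = 0 := by
      have := congrArg Neg.neg h3
      simpa using this.symm
    exact pow_eq_zero_iff (n := 2) (by norm_num) |>.mp h4
  · rintro rfl
    exact xMat_zero D ⟨r, hr⟩

end Cfsg.Agent.S1024
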