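import Cfsg.Statements.S1033
import Cfsg.Agent.Lib.Helper7.HFundG2
import Cfsg.Agent.Lib.Helper7.HFundB2
import Cfsg.Agent.Lib.Helper7.HFundD4
import Cfsg.Agent.Lib.Helper7.HFundF4
import Cfsg.Agent.Lib.Helper7.HFundE6
import Cfsg.Agent.Lib.Helper7.HFundE7
import Cfsg.Agent.Lib.Helper7.HFundE8a
import Cfsg.Agent.Lib.Helper7.HFundE8b
import Cfsg.Agent.Lib.Helper7.HFundE8c

set_option autoImplicit false
open Cfsg

namespace Cfsg.Agent.S1033

open Cfsg.Lie Cfsg.Agent.Lib.Helper7.ChevEngine Cfsg.Agent.Lib.Helper7.ChevH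

theorem hcheck_all (D : Cfsg.Lie.ChevalleyDatum) (hD : D ∈ [Cfsg.Lie.chevG2, Cfsg.Lie.chevB2, Cfsg.Lie.chevD4, Cfsg.Lie.chevF4, Cfsg.Lie.chevE6, Cfsg.Lie.chevE7, Cfsg.Lie.chevE8]) (i : ℕ) (hi : i < D.rank) :
    hCheck D (D.simple i) (D.cartan i) = true := by
  simp only [List.mem_cons, List.not_mem_nil, or_false] at hD
  rcases hD with rfl | rfl | rfl | rfl | rfl | rfl | rfl
  · have hi' : i < 2 := hi
    interval_cases i
    · exact Cfsg.Agent.Lib.Helper7.HFundG2.hG2_0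
    · exact Cfsg.Agent.Lib.Helper7.HFundG2.hG2_1
  · have hi' : i < 2 := hi
    interval_cases i
    · exact Cfsg.Agent.Lib.Helper7.HFundB2.hB2_0
    · exact Cfsg.Agent.Lib.Helper7.HFundB2.hB2_1
  · have hi' : i < 4 := hi
    interval_cases i
    · exact Cfsg.Agent.Lib.Helper7.HFundD4.hD4_0
    · exact Cfsg.Agent.Lib.Helper7.HFundD4.hD4_1
    · exact Cfsg.Agent.Lib.Helper7.HFundD4.hD4_2
    · exact Cfsg.Agent.Lib.Helper7.HFundD4.hD4_3
  · have hi' : i < 4 := hi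
    interval_cases i
    · exact Cfsg.Agent.Lib.Helper7.HFundF4.hF4_0
    · exact Cfsg.Agent.Lib.Helper7.HFundF4.hF4_1
    · exact Cfsg.Agent.Lib.Helper7.HFundF4.hF4_2
    · exact Cfsg.Agent.Lib.Helper7.HFundF4.hF4_3
  · have hi' : i < 6 := hi
    interval_cases i
    · exact Cfsg.Agent.Lib.Helper7.HFundE6.hE6_0
    · exact Cfsg.Agent.Lib.Helper7.HFundE6.hE6_1
    · exact Cfsg.Agent.Lib.Helper7.HFundE6.hE6_2
    · exact Cfsg.Agent.Lib.Helper7.HFundE6.hE6_3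
    · exact Cfsg.Agent.Lib.Helper7.HFundE6.hE6_4
    · exact Cfsg.Agent.Lib.Helper7.HFundE6.hE6_5
  · have hi' : i < 7 := hi
    interval_cases i
    · exact Cfsg.Agent.Lib.Helper7.HFundE7.hE7_0
    · exact Cfsg.Agent.Lib.Helper7.HFundE7.hE7_1
    · exact Cfsg.Agent.Lib.Helper7.HFundE7.hE7_2
    · exact Cfsg.Agent.Lib.Helper7.HFundE7.hE7_3
    · exact Cfsg.Agent.Lib.Helper7.HFundE7.hE7_4
    · exact Cfsg.Agent.Lib.Helper7.HFundE7.hE7_5
    · exact Cfsg.Agent.Lib.Helper7.HFundE7.hE7_6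
  · have hi' : i < 8 := hi
    interval_cases i
    · exact Cfsg.Agent.Lib.Helper7.HFundE8a.hE8_0
    · exact Cfsg.Agent.Lib.Helper7.HFundE8a.hE8_1
    · exact Cfsg.Agent.Lib.Helper7.HFundE8a.hE8_2
    · exact Cfsg.Agent.Lib.Helper7.HFundE8b.hE8_3
    · exact Cfsg.Agent.Lib.Helper7.HFundE8b.hE8_4
    · exact Cfsg.Agent.Lib.Helper7.HFundE8b.hE8_5
    · exact Cfsg.Agent.Lib.Helper7.HFundE8c.hE8_6
    · exact Cfsg.Agent.Lib.Helper7.HFundE8c.hE8_7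

/-- `h_p(c)` (for a fundamental root `p = p_{i+1}` and `c ≠ 0`) is diagonal: it fixes each `h_{p_j}` and scales `e_s` by `c^{A_{p,s}}`. -/
theorem result {F : Type*} [Field F] (D : Cfsg.Lie.ChevalleyDatum) (hD : D ∈ [Cfsg.Lie.chevG2, Cfsg.Lie.chevB2, Cfsg.Lie.chevD4, Cfsg.Lie.chevF4, Cfsg.Lie.chevE6, Cfsg.Lie.chevE7, Cfsg.Lie.chevE8]) (i : ℕ) (hi : i < D.rank) (c : F) (hc : c ≠ 0) :
    D.hMat F (D.simple i) c = Matrix.diagonal (Sum.elim (fun _ => (1 : F)) (fun s : Fin D.nroots => c ^ (D.cartan i s))) := by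
  exact hMat_diag D (D.simple i) (D.cartan i) (hcheck_all D hD i hi) c hc

end Cfsg.Agent.S1033
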