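import Cfsg.Statements.S2157
import Mathlib

set_option autoImplicit false
open Cfsg

namespace Cfsg.Agent.S2157

open Cfsg.Lie

def goodChain (D : ChevalleyDatum) (r : ℕ) : ℕ → List ℕ → Bool
  | _, [] => true
  | a, b :: l => decide (a < D.nroots) && (D.chainRoot r a 1 == some b) && goodChain D r b l

def good (D : ChevalleyDatum) : Bool :=
  (List.range D.nroots).all fun r =>
    (D.chain.getD r #[]).toList.all fun e => goodChain D r e.1 (e.2.toList.map Prod.fst)

theorem chain_char {F : Type*} [Field F] (D : ChevalleyDatum) (χ : ℕ → Fˣ) (hχ : D.IsRootCharacter χ)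
    (r : ℕ) (hr : r < D.nroots) :
    ∀ (l : List ℕ) (a : ℕ), goodChain D r a l = true →
      ∀ (j : ℕ) (u : ℕ), l[j]? = some u → χ u = χ r ^ (j + 1) * χ a
  | [], a, _, j, u, h => by simp at h
  | b :: l, a, hg, j, u, h => by
    simp only [goodChain, Bool.and_eq_true, decide_eq_true_eq, beq_iff_eq] at hg
    obtain ⟨⟨ha, hab⟩, hl⟩ := hg
    have hb : χ b = χ r * χ a := hχ.2 r a b hr ha hab
    cases j with
    | zero =>
      simp only [List.getElem?_cons_zero, Option.some.injEq] at h
      subst h
      simpa using hb
    | succ j =>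
      simp only [List.getElem?_cons_succ] at h
      have := chain_char D χ hχ r hr l b hl j u h
      rw [this, hb, pow_succ _ (j + 1), mul_assoc]

theorem mem_chainCoeff (D : ChevalleyDatum) (r s u : ℕ) (km : ℕ × ℤ) (h : km ∈ D.chainCoeff r s u) :
    ∃ e ∈ (D.chain.getD r #[]).toList, e.1 = s ∧
      ∃ j, (e.2.toList.map Prod.fst)[j]? = some u ∧ km.1 = j + 1 := by
  simp only [ChevalleyDatum.chainCoeff, List.mem_flatMap, List.mem_filter, List.mem_map,
    decide_eq_true_eq] at h
  obtain ⟨e, ⟨he, hes⟩, q, ⟨hq, hqu⟩, rfl⟩ := h
  refine ⟨e, he, hes, q.2, ?_, rfl⟩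
  rw [List.mem_zipIdx_iff_getElem?] at hq
  simp [hq, hqu]

theorem key {F : Type*} [Field F] (D : ChevalleyDatum) (hgood : good D = true) (χ : ℕ → Fˣ)
    (hχ : D.IsRootCharacter χ) (r : ℕ) (hr : r < D.nroots) (t : F) :
    D.charDiag F χ * D.x F r t * D.charDiag F (fun s => (χ s)⁻¹) = D.x F r ((χ r : F) * t) := by
  have hcoef : ∀ (s u : ℕ) (km : ℕ × ℤ), km ∈ D.chainCoeff r s u → χ u = χ r ^ km.1 * χ s := by
    intro s u km hkm
    obtain ⟨e, he, hes, j, hj, hk⟩ := mem_chainCoeff D r s u km hkm
    have h1 : goodChain D r e.1 (e.2.toList.map Prod.fst) = true := by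
      have := hgood
      simp only [good, List.all_eq_true, List.mem_range] at this
      exact this r hr e he
    rw [hk, ← hes]
    exact chain_char D χ hχ r hr _ _ h1 j u hj
  have hneg : χ (D.negIdx.getD r 0) = (χ r)⁻¹ := hχ.1 r hr
  simp only [ChevalleyDatum.x, dif_pos hr, ChevalleyDatum.charDiag]
  ext row col
  rw [Matrix.mul_diagonal, Matrix.diagonal_mul]
  rcases col with i | s
  · rcases row with i' | u
    · simp [ChevalleyDatum.xMat]
    · simp only [ChevalleyDatum.xMat, Matrix.of_apply, Sum.elim_inr, Sum.elim_inl, mul_one]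
      by_cases hu : u = ⟨r, hr⟩
      · subst hu
        simp only [if_true]
        ring
      · simp [hu]
  · by_cases hs : s = ⟨r, hr⟩
    · subst hs
      rcases row with i' | u
      · simp [ChevalleyDatum.xMat]
      · simp only [ChevalleyDatum.xMat, Matrix.of_apply, Sum.elim_inr, if_true]
        by_cases hu : u = ⟨r, hr⟩
        · subst hu
          simp
        · simp [hu]
    · by_cases hs2 : s.val = D.negIdx.getD r 0
      · have hχs : (χ s.val) = (χ r)⁻¹ := by rw [hs2]; exact hneg
        rcases row with i' | u
        · simp only [ChevalleyDatum.xMat, Matrix.of_apply, Sum.elim_inr, Sum.elim_inl, if_neg hs,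
            if_pos hs2, one_mul]
          rw [hχs]
          simp
          ring
        · simp only [ChevalleyDatum.xMat, Matrix.of_apply, Sum.elim_inr, if_neg hs, if_pos hs2]
          by_cases hu : u = s
          · subst hu
            simp
          · simp only [if_neg hu]
            by_cases hu2 : u = ⟨r, hr⟩
            · subst hu2
              simp only [if_true]
              rw [hχs]
              simp
              ring
            · simp [hu2]
      · rcases row with i' | u
        · simp only [ChevalleyDatum.xMat, Matrix.of_apply, Sum.elim_inr, Sum.elim_inl, if_neg hs, if_neg hs2]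
          simp
        · simp only [ChevalleyDatum.xMat, Matrix.of_apply, Sum.elim_inr, if_neg hs, if_neg hs2]
          have hsum : (χ u.val : F) *
              ((D.chainCoeff r s.val u.val).map fun km => ((km.2 : ℤ) : F) * t ^ km.1).sum *
                ((χ s.val)⁻¹ : Fˣ) =
              ((D.chainCoeff r s.val u.val).map fun km => ((km.2 : ℤ) : F) * ((χ r : F) * t) ^ km.1).sum := by
            rw [← List.sum_map_mul_left, ← List.sum_map_mul_right]
            congr 1
            apply List.map_congr_left
            intro km hkm
            have := hcoef s.val u.val km hkm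
            rw [this]
            simp only [Units.val_mul, Units.val_pow_eq_pow_val, Units.val_inv_eq_inv_val]
            have hne : (χ s.val : F) ≠ 0 := Units.ne_zero _
            field_simp
            rw [mul_pow]
            ring
          rw [mul_add, add_mul, hsum]
          by_cases hu : u = s
          · subst hu
            simp
          · simp [hu]

theorem good_G2 : good chevG2 = true := by decide +kernel
theorem good_B2 : good chevB2 = true := by decide +kernel
theorem good_D4 : good chevD4 = true := by decide +kernel
theorem good_F4 : good chevF4 = true := by decide +kernel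
theorem good_E6 : good chevE6 = true := by decide +kernel
theorem good_E7 : good chevE7 = true := by decide +kernel
theorem good_E8 : good chevE8 = true := by decide +kernel

theorem result {F : Type*} [Field F] (D : Cfsg.Lie.ChevalleyDatum) (hD : D ∈ [Cfsg.Lie.chevG2, Cfsg.Lie.chevB2, Cfsg.Lie.chevD4, Cfsg.Lie.chevF4, Cfsg.Lie.chevE6, Cfsg.Lie.chevE7, Cfsg.Lie.chevE8]) (χ : ℕ → Fˣ) (hχ : D.IsRootCharacter χ) (r : ℕ) (hr : r < D.nroots) (t : F) :
    D.charDiag F χ * D.x F r t * D.charDiag F (fun s => (χ s)⁻¹) = D.x F r ((χ r : F) * t) := by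
  have hgood : good D = true := by
    simp only [List.mem_cons, List.mem_nil_iff, or_false] at hD
    rcases hD with rfl | rfl | rfl | rfl | rfl | rfl | rfl
    exacts [good_G2, good_B2, good_D4, good_F4, good_E6, good_E7, good_E8]
  exact key D hgood χ hχ r hr t

end Cfsg.Agent.S2157
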