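import Cfsg.Statements.S1032
import Cfsg.Agent.S1033
import Cfsg.Agent.S2157
import Cfsg.Agent.Lib.Helper7.Pack

set_option autoImplicit false
open Cfsg

namespace Cfsg.Agent.S1032

open Cfsg.Lie Cfsg.Agent.Lib.Helper7.Pack

def cartRow (D : ChevalleyDatum) (i : ℕ) : ℕ := packZ (D.cartanSR.getD i #[]).toList

def rowOk (D : ChevalleyDatum) (i : ℕ) : Bool :=
  decide ((D.cartanSR.getD i #[]).toList.length = D.nroots) &&
    (D.cartanSR.getD i #[]).toList.all (fun c => decide (-8 ≤ c) && decide (c < 8))

theorem cartan_eq_dig (D : ChevalleyDatum) (i r : ℕ) (h : rowOk D i = true) (hr : r < D.nroots) :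
    D.cartan i r = digZ (cartRow D i) r := by
  unfold rowOk at h
  simp only [Bool.and_eq_true, decide_eq_true_eq, List.all_eq_true] at h
  obtain ⟨h1, h2⟩ := h
  unfold cartRow
  rw [digZ_packZ _ h2 r (by omega)]
  unfold ChevalleyDatum.cartan
  simp [Array.getD_eq_getD_getElem?, List.getD_eq_getElem?_getD]

def addCheck (D : ChevalleyDatum) : Bool :=
  (List.range D.rank).all fun i => rowOk D i &&
    (List.range D.nroots).all fun r =>
      decide (D.neg r < D.nroots) && decide (digZ (cartRow D i) (D.neg r) = - digZ (cartRow D i) r) &&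
      (D.chain.getD r #[]).toList.all fun e =>
        match e.2.toList.head? with
        | none => true
        | some q => decide (q.1 < D.nroots) &&
            decide (digZ (cartRow D i) q.1 = digZ (cartRow D i) r + digZ (cartRow D i) e.1)

theorem cartan_neg (D : ChevalleyDatum) (h : addCheck D = true) (i : ℕ) (hi : i < D.rank) (r : ℕ)
    (hr : r < D.nroots) : D.cartan i (D.neg r) = - D.cartan i r := by
  unfold addCheck at h
  simp only [List.all_eq_true, List.mem_range, Bool.and_eq_true, decide_eq_true_eq] at h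
  obtain ⟨hrow, h2⟩ := h i hi
  obtain ⟨⟨h3, h4⟩, -⟩ := h2 r hr
  rw [cartan_eq_dig D i _ (by simpa [rowOk] using hrow) h3, cartan_eq_dig D i _ (by simpa [rowOk] using hrow) hr]
  exact h4

theorem cartan_add (D : ChevalleyDatum) (h : addCheck D = true) (i : ℕ) (hi : i < D.rank) (r s k : ℕ)
    (hr : r < D.nroots) (hs : s < D.nroots) (hk : D.chainRoot r s 1 = some k) :
    D.cartan i k = D.cartan i r + D.cartan i s := by
  unfold addCheck at h
  simp only [List.all_eq_true, List.mem_range, Bool.and_eq_true, decide_eq_true_eq] at h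
  obtain ⟨hrow, h2⟩ := h i hi
  obtain ⟨-, h5⟩ := h2 r hr
  have hrow' : rowOk D i = true := by simpa [rowOk] using hrow
  unfold ChevalleyDatum.chainRoot ChevalleyDatum.chainEntry at hk
  cases hf : (D.chain.getD r #[]).toList.find? (fun e => decide (e.1 = s)) with
  | none =>
    rw [hf] at hk
    simp at hk
  | some e =>
    rw [hf] at hk
    have he : e ∈ (D.chain.getD r #[]).toList := List.mem_of_find?_eq_some hf
    have hes : e.1 = s := by
      have := List.find?_some hf
      simpa using this
    have h6 := h5 e he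
    simp only [Nat.sub_self, Option.map_eq_some_iff] at hk
    obtain ⟨q, hq, hqk⟩ := hk
    have hq' : e.2.toList.head? = some q := by
      rw [List.head?_eq_getElem?]
      exact hq
    rw [hq'] at h6
    simp only [Bool.and_eq_true, decide_eq_true_eq] at h6
    obtain ⟨h7, h8⟩ := h6
    rw [hqk] at h7 h8
    rw [hes] at h8
    rw [cartan_eq_dig D i k hrow' h7, cartan_eq_dig D i r hrow' hr, cartan_eq_dig D i s hrow' hs]
    exact h8

theorem add_G2 : addCheck chevG2 = true := by decide +kernel
theorem add_B2 : addCheck chevB2 = true := by decide +kernel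
theorem add_D4 : addCheck chevD4 = true := by decide +kernel
theorem add_F4 : addCheck chevF4 = true := by decide +kernel
theorem add_E6 : addCheck chevE6 = true := by decide +kernel
theorem add_E7 : addCheck chevE7 = true := by decide +kernel
theorem add_E8 : addCheck chevE8 = true := by decide +kernel

theorem add_all (D : Cfsg.Lie.ChevalleyDatum) (hD : D ∈ [Cfsg.Lie.chevG2, Cfsg.Lie.chevB2, Cfsg.Lie.chevD4, Cfsg.Lie.chevF4, Cfsg.Lie.chevE6, Cfsg.Lie.chevE7, Cfsg.Lie.chevE8]) :
    addCheck D = true := by
  simp only [List.mem_cons, List.not_mem_nil, or_false] at hD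
  rcases hD with rfl | rfl | rfl | rfl | rfl | rfl | rfl
  exacts [add_G2, add_B2, add_D4, add_F4, add_E6, add_E7, add_E8]

noncomputable def chi {F : Type*} [Field F] (D : ChevalleyDatum) (i : ℕ) (c : F) (hc : c ≠ 0) : ℕ → Fˣ :=
  fun x => Units.mk0 (c ^ D.cartan i x) (zpow_ne_zero _ hc)

theorem chi_root {F : Type*} [Field F] (D : ChevalleyDatum) (h : addCheck D = true) (i : ℕ) (hi : i < D.rank)
    (c : F) (hc : c ≠ 0) : D.IsRootCharacter (chi D i c hc) := by
  constructor
  · intro r hr
    apply Units.ext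
    simp only [chi, Units.val_mk0, Units.val_inv_eq_inv_val]
    rw [cartan_neg D h i hi r hr, zpow_neg]
  · intro r s k hr hs hk
    apply Units.ext
    simp only [chi, Units.val_mk0, Units.val_mul]
    rw [cartan_add D h i hi r s k hr hs hk, zpow_add₀ hc]

/-- For a fundamental root `p`, a root `s` and `c ≠ 0`: `h_p(c) x_s(t) h_p(c)⁻¹ = x_s(c^{A_{p,s}} t)`, stated as `h_p(c) x_s(t) = x_s(c^{A_{p,s}} t) h_p(c)`. -/
theorem result {F : Type*} [Field F] (D : Cfsg.Lie.ChevalleyDatum) (hD : D ∈ [Cfsg.Lie.chevG2, Cfsg.Lie.chevB2, Cfsg.Lie.chevD4, Cfsg.Lie.chevF4, Cfsg.Lie.chevE6, Cfsg.Lie.chevE7, Cfsg.Lie.chevE8]) (i s : ℕ) (hi : i < D.rank) (hs : s < D.nroots) (c : F) (hc : c ≠ 0) (t : F) :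
    D.hMat F (D.simple i) c * D.x F s t = D.x F s (c ^ (D.cartan i s) * t) * D.hMat F (D.simple i) c := by
  have hadd := add_all D hD
  have hroot := chi_root D hadd i hi c hc
  have h1 : D.hMat F (D.simple i) c = D.charDiag F (chi D i c hc) := by
    rw [Cfsg.Agent.S1033.result D hD i hi c hc]
    rfl
  have h2 := Cfsg.Agent.S2157.result D hD (chi D i c hc) hroot s hs t
  have h3 : D.charDiag F (fun r => (chi D i c hc r)⁻¹) * D.charDiag F (chi D i c hc) = 1 := by
    unfold ChevalleyDatum.charDiag
    rw [Matrix.diagonal_mul_diagonal]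
    rw [← Matrix.diagonal_one]
    congr 1
    funext idx
    rcases idx with j | u
    · simp
    · simp
  have h4 : (chi D i c hc s : F) = c ^ D.cartan i s := rfl
  rw [h1]
  calc D.charDiag F (chi D i c hc) * D.x F s t
      = D.charDiag F (chi D i c hc) * D.x F s t *
          (D.charDiag F (fun r => (chi D i c hc r)⁻¹) * D.charDiag F (chi D i c hc)) := by
        rw [h3, mul_one]
    _ = (D.charDiag F (chi D i c hc) * D.x F s t * D.charDiag F (fun r => (chi D i c hc r)⁻¹)) *
          D.charDiag F (chi D i c hc) := by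
        simp only [mul_assoc]
    _ = D.x F s (c ^ (D.cartan i s) * t) * D.charDiag F (chi D i c hc) := by
        rw [h2, h4]

end Cfsg.Agent.S1032
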