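import Cfsg.Statements.S1036
import Cfsg.Agent.Lib.Helper7.ChevTorus
import Cfsg.Agent.Lib.Helper7.TriAll
import Cfsg.Agent.Lib.Helper7.Tri2

set_option autoImplicit false
open Cfsg

namespace Cfsg.Agent.S1036

open Cfsg.Lie Cfsg.Agent.Lib.Helper7.ChevTorus Cfsg.Agent.Lib.Helper7.Shift Cfsg.Agent.Lib.Helper7.Tri2
  Cfsg.Agent.Lib.Helper7.ChevTri

theorem conj_mem {F : Type*} [Field F] (D : ChevalleyDatum)
    (hD : D ∈ [chevG2, chevB2, chevD4, chevF4, chevE6, chevE7, chevE8]) (g : GL D.Idx F) (hg : g ∈ torus F D)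
    (n : GL D.Idx F) (hn : n ∈ D.posUnipotent F) : g * n * g⁻¹ ∈ D.posUnipotent F := by
  obtain ⟨χ, hχ⟩ := torus_conj_x D hD g hg
  unfold ChevalleyDatum.posUnipotent at hn ⊢
  induction hn using Subgroup.closure_induction with
  | mem x hx =>
    obtain ⟨r, t, hr, hx⟩ := hx
    apply Subgroup.subset_closure
    refine ⟨r, (χ r : F) * t, hr, ?_⟩
    rw [Units.val_mul, Units.val_mul, hx]
    exact hχ r hr.1 t
  | one =>
    rw [mul_one, mul_inv_cancel]
    exact one_mem _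
  | mul a b _ _ iha ihb =>
    have e : g * (a * b) * g⁻¹ = (g * a * g⁻¹) * (g * b * g⁻¹) := by group
    rw [e]
    exact mul_mem iha ihb
  | inv a _ iha =>
    have e : g * a⁻¹ * g⁻¹ = (g * a * g⁻¹)⁻¹ := by group
    rw [e]
    exact inv_mem iha

theorem result {F : Type*} [Field F] (D : Cfsg.Lie.ChevalleyDatum) (hD : D ∈ [Cfsg.Lie.chevG2, Cfsg.Lie.chevB2, Cfsg.Lie.chevD4, Cfsg.Lie.chevF4, Cfsg.Lie.chevE6, Cfsg.Lie.chevE7, Cfsg.Lie.chevE8]) :
    D.diagonalSubgroup F ≤ Subgroup.normalizer (D.posUnipotent F : Set (GL D.Idx F)) ∧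
      D.posUnipotent F ⊓ D.diagonalSubgroup F = ⊥ := by
  constructor
  · intro g hg
    have ht := diagonalSubgroup_le_torus D hD hg
    rw [Subgroup.mem_normalizer_iff]
    intro n
    constructor
    · intro hn
      exact conj_mem D hD g ht n hn
    · intro hn
      have := conj_mem D hD g⁻¹ (inv_mem ht) _ hn
      have e : g⁻¹ * (g * n * g⁻¹) * g⁻¹⁻¹ = n := by group
      rw [e] at this
      exact this
  · rw [eq_bot_iff]
    intro g hg
    obtain ⟨hU, hH⟩ := hg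
    have h1 := posUnipotent_le_UL (F := F) D (Cfsg.Agent.Lib.Helper7.TriAll.tri_of_mem D hD) hU
    rw [mem_UL] at h1
    obtain ⟨c, hc⟩ := diagonalSubgroup_le_torus D hD hH
    rw [Subgroup.mem_bot]
    apply Units.ext
    rw [Units.val_one, hc]
    rw [hc] at h1
    exact diag_sh_one _ _ h1

end Cfsg.Agent.S1036
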