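import Cfsg.Statements.S1043
import Cfsg.Agent.Lib.Helper7.ChevBN

set_option autoImplicit false
open Cfsg

namespace Cfsg.Agent.S1043

open Cfsg.Lie Cfsg.Agent.Lib.Helper7.ChevN Cfsg.Agent.Lib.Helper7.ChevConjU Cfsg.Agent.Lib.Helper7.HBaseAll
  Cfsg.Agent.Lib.Helper7.ChevTorus Cfsg.Agent.Lib.Helper7.ChevBN

theorem result {F : Type*} [Field F] (D : Cfsg.Lie.ChevalleyDatum) (hD : D ∈ [Cfsg.Lie.chevG2, Cfsg.Lie.chevB2, Cfsg.Lie.chevD4, Cfsg.Lie.chevF4, Cfsg.Lie.chevE6, Cfsg.Lie.chevE7, Cfsg.Lie.chevE8]) :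
    D.borelSubgroup F ≤ D.group F ∧ D.monomialSubgroup F ≤ D.group F ∧ D.borelSubgroup F ⊔ D.monomialSubgroup F = D.group F := by
  have hU : D.posUnipotent F ≤ D.group F := by
    unfold ChevalleyDatum.posUnipotent
    rw [Subgroup.closure_le]
    rintro g ⟨r, t, -, hg⟩
    have : g = xGL D hD r t := Units.ext (by rw [hg, xGL_val])
    rw [this]
    exact xGL_mem_group D hD r t
  have hH : D.diagonalSubgroup F ≤ D.group F := by
    unfold ChevalleyDatum.diagonalSubgroup
    rw [Subgroup.closure_le]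
    rintro g ⟨r, t, -, -, hg⟩
    exact mem_group_of_word D hD g _ hg
  have hNn : Subgroup.closure {g : GL D.Idx F | ∃ r : ℕ, r < D.nroots ∧
      (g : Matrix D.Idx D.Idx F) = D.nMat F r 1} ≤ D.group F := by
    rw [Subgroup.closure_le]
    rintro g ⟨r, -, hg⟩
    exact mem_group_of_word D hD g _ hg
  have hB : D.borelSubgroup F ≤ D.group F := sup_le hU hH
  have hN : D.monomialSubgroup F ≤ D.group F := sup_le hH hNn
  refine ⟨hB, hN, le_antisymm (sup_le hB hN) ?_⟩
  have key : ∀ r < D.nroots, ∀ t : F, xGL D hD r t ∈ D.borelSubgroup F ⊔ D.monomialSubgroup F := by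
    obtain ⟨hC, -, -⟩ := all_of_mem D hD
    have hC' := hC
    obtain ⟨hc, LV, PI, hl⟩ := hC
    apply root_induction D LV PI hl (fun r => ∀ t : F, xGL D hD r t ∈ D.borelSubgroup F ⊔ D.monomialSubgroup F)
    · intro j hj t
      apply Subgroup.mem_sup_left
      apply Subgroup.mem_sup_left
      apply Subgroup.subset_closure
      exact ⟨D.simple j, t, posSimple D hD j hj, xGL_val D hD _ t⟩
    · intro i hi r hr hwr ih t
      obtain ⟨m, W, hn, -, hcj⟩ := hc i hi
      have hnG : wordGL D hD (D.nWord (D.simple i) (1 : F)) ∈ D.borelSubgroup F ⊔ D.monomialSubgroup F := by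
        apply Subgroup.mem_sup_right
        apply Subgroup.mem_sup_right
        apply Subgroup.subset_closure
        exact ⟨D.simple i, simple_lt D hC' i hi, wordGL_val D hD _⟩
      have e2 : wordGL D hD (D.nWord (D.simple i) (1 : F)) * xGL D hD r t =
          xGL D hD (D.reflectRoot i r) (((etaM m r : ℤ) : F) * t) * wordGL D hD (D.nWord (D.simple i) (1 : F)) := by
        apply Units.ext
        rw [Units.val_mul, Units.val_mul, xGL_val, xGL_val, wordGL_val]
        exact conj_x D i m W hn hcj r hr t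
      rw [eq_inv_mul_of_mul_eq e2]
      exact mul_mem (inv_mem hnG) (mul_mem (ih _) hnG)
  unfold ChevalleyDatum.group
  rw [Subgroup.closure_le]
  rintro g ⟨r, t, hg⟩
  have : g = xGL D hD r.val t := by
    apply Units.ext
    rw [hg, xGL_val]
    simp [ChevalleyDatum.x, r.isLt]
  rw [this]
  exact key r.val r.isLt t

end Cfsg.Agent.S1043
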