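import Cfsg.Statements.S1050
import Cfsg.Agent.Lib.Helper7.ChevTorus
import Cfsg.Agent.Lib.Helper7.TriAll
import Cfsg.Agent.Lib.Helper7.Tri2

set_option autoImplicit false
open Cfsg

namespace Cfsg.Agent.S1050

open Cfsg.Lie Cfsg.Agent.Lib.Helper7.ChevTorus Cfsg.Agent.Lib.Helper7.Shift Cfsg.Agent.Lib.Helper7.Tri2
  Cfsg.Agent.Lib.Helper7.ChevTri Cfsg.Agent.Lib.Helper7.ChevEngine

theorem bfun_injective (l n : ℕ) : Function.Injective (bfun l n) := by
  intro a b h
  rcases a with i | s <;> rcases b with j | u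
  · simp only [bfun, Sum.elim_inl] at h
    exact congrArg Sum.inl (Fin.ext (by omega))
  · simp only [bfun, Sum.elim_inl, Sum.elim_inr] at h
    have := i.isLt
    split_ifs at h <;> omega
  · simp only [bfun, Sum.elim_inl, Sum.elim_inr] at h
    have := j.isLt
    split_ifs at h <;> omega
  · simp only [bfun, Sum.elim_inr] at h
    apply congrArg Sum.inr
    apply Fin.ext
    split_ifs at h <;> omega

theorem torus_le_TG {F : Type*} [Field F] (D : ChevalleyDatum) :
    torus F D ≤ TG (R := F) (bfun D.rank D.nroots) := by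
  have key : ∀ g : GL D.Idx F, g ∈ torus F D → Sh (bfun D.rank D.nroots) 0 (g : Matrix D.Idx D.Idx F) := by
    rintro g ⟨c, hc⟩
    rw [hc]
    exact sh_diagonal _ _
  intro g hg
  exact ⟨key g hg, key g⁻¹ (inv_mem hg)⟩

theorem result {F : Type*} [Field F] (D : Cfsg.Lie.ChevalleyDatum) (hD : D ∈ [Cfsg.Lie.chevG2, Cfsg.Lie.chevB2, Cfsg.Lie.chevD4, Cfsg.Lie.chevF4, Cfsg.Lie.chevE6, Cfsg.Lie.chevE7, Cfsg.Lie.chevE8]) : Group.IsSolvable ↥(D.borelSubgroup F) := by
  apply isSolvable_of_le_TG (bfun D.rank D.nroots) (bfun_injective D.rank D.nroots) (D.rank + D.nroots)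
    (bfun_lt D.rank D.nroots)
  unfold ChevalleyDatum.borelSubgroup
  apply sup_le
  · exact le_trans (posUnipotent_le_UL (F := F) D (Cfsg.Agent.Lib.Helper7.TriAll.tri_of_mem D hD))
      (UL_le_TG _ _ _)
  · exact le_trans (diagonalSubgroup_le_torus D hD) (torus_le_TG D)

end Cfsg.Agent.S1050
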