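import Cfsg.Statements.S1037
import Cfsg.Agent.Lib.Helper7.ChevTriNeg
import Cfsg.Agent.Lib.Helper19.RelIndex
import Cfsg.Agent.S1050

set_option autoImplicit false
open Cfsg

namespace Cfsg.Agent.S1037

open Cfsg.Lie Cfsg.Agent.Lib.Helper7.ChevTorus Cfsg.Agent.Lib.Helper7.Shift Cfsg.Agent.Lib.Helper7.Tri2
  Cfsg.Agent.Lib.Helper7.ChevTri Cfsg.Agent.Lib.Helper7.ChevTriNeg Cfsg.Agent.Lib.Helper7.ChevEngine

theorem tri_inter {F : Type*} [Field F] (l n : ℕ) (M : Matrix (Ix l n) (Ix l n) F)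
    (h1 : Sh (bfun l n) 0 M) (h2 : Sh (bneg l n) 1 (M - 1)) : M = 1 := by
  ext i j
  by_contra hne
  have h3 : (M - 1) i j ≠ 0 := by
    rw [Matrix.sub_apply]
    exact sub_ne_zero.mpr hne
  have h4 := h2 i j h3
  have b1 := bfun_lt l n i
  have b2 := bfun_lt l n j
  unfold bneg at h4
  by_cases hij : i = j
  · subst hij
    omega
  · have h5 : M i j ≠ 0 := by
      rwa [Matrix.sub_apply, Matrix.one_apply_ne hij, sub_zero] at h3
    have h6 := h1 i j h5
    omega

theorem borel_le_TG {F : Type*} [Field F] (D : ChevalleyDatum)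
    (hD : D ∈ [chevG2, chevB2, chevD4, chevF4, chevE6, chevE7, chevE8]) :
    D.borelSubgroup F ≤ TG (R := F) (bfun D.rank D.nroots) := by
  unfold ChevalleyDatum.borelSubgroup
  apply sup_le
  · exact le_trans (posUnipotent_le_UL (F := F) D (Cfsg.Agent.Lib.Helper7.TriAll.tri_of_mem D hD))
      (UL_le_TG _ _ _)
  · exact le_trans (diagonalSubgroup_le_torus D hD) (Cfsg.Agent.S1050.torus_le_TG D)

theorem conj_mem_neg {F : Type*} [Field F] (D : ChevalleyDatum)
    (hD : D ∈ [chevG2, chevB2, chevD4, chevF4, chevE6, chevE7, chevE8]) (g : GL D.Idx F) (hg : g ∈ torus F D)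
    (n : GL D.Idx F) (hn : n ∈ D.negUnipotent F) : g * n * g⁻¹ ∈ D.negUnipotent F := by
  obtain ⟨χ, hχ⟩ := torus_conj_x D hD g hg
  unfold ChevalleyDatum.negUnipotent at hn ⊢
  induction hn using Subgroup.closure_induction with
  | mem x hx =>
    obtain ⟨r, t, hr, hx⟩ := hx
    apply Subgroup.subset_closure
    refine ⟨r, (χ r : F) * t, hr, ?_⟩
    rw [Units.val_mul, Units.val_mul, hx]
    exact hχ r hr.1 t
  | one =>
    rw [mul_one, mul_inv_cancel]
    exact one_mem _
  | mul a b _ _ iha ihb =>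
    have e : g * (a * b) * g⁻¹ = (g * a * g⁻¹) * (g * b * g⁻¹) := by group
    rw [e]
    exact mul_mem iha ihb
  | inv a _ iha =>
    have e : g * a⁻¹ * g⁻¹ = (g * a * g⁻¹)⁻¹ := by group
    rw [e]
    exact inv_mem iha

theorem inter_bot {F : Type*} [Field F] (D : ChevalleyDatum)
    (hD : D ∈ [chevG2, chevB2, chevD4, chevF4, chevE6, chevE7, chevE8]) (g : GL D.Idx F)
    (hB : g ∈ D.borelSubgroup F) (hV : g ∈ D.negUnipotent F) : g = 1 := by
  have h1 := (borel_le_TG D hD hB).1
  have h2 := negUnipotent_le_UL (F := F) D (triN_of_mem D hD) hV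
  rw [mem_UL] at h2
  apply Units.ext
  rw [Units.val_one]
  exact tri_inter D.rank D.nroots _ h1 h2

theorem result {F : Type*} [Field F] (D : Cfsg.Lie.ChevalleyDatum) (hD : D ∈ [Cfsg.Lie.chevG2, Cfsg.Lie.chevB2, Cfsg.Lie.chevD4, Cfsg.Lie.chevF4, Cfsg.Lie.chevE6, Cfsg.Lie.chevE7, Cfsg.Lie.chevE8]) :
    D.borelSubgroup F ⊓ D.negUnipotent F = ⊥ ∧
      D.borelSubgroup F ⊓ (D.negUnipotent F ⊔ D.diagonalSubgroup F) = D.diagonalSubgroup F := by
  constructor
  · rw [eq_bot_iff]
    intro g hg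
    rw [Subgroup.mem_bot]
    exact inter_bot D hD g hg.1 hg.2
  · apply le_antisymm
    · intro g hg
      obtain ⟨hB, hVH⟩ := hg
      have hnorm : D.diagonalSubgroup F ≤ Subgroup.normalizer (D.negUnipotent F : Set (GL D.Idx F)) := by
        intro h hh
        have ht := diagonalSubgroup_le_torus D hD hh
        rw [Subgroup.mem_normalizer_iff]
        intro n
        constructor
        · intro hn
          exact conj_mem_neg D hD h ht n hn
        · intro hn
          have := conj_mem_neg D hD h⁻¹ (inv_mem ht) _ hn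
          have e : h⁻¹ * (h * n * h⁻¹) * h⁻¹⁻¹ = n := by group
          rw [e] at this
          exact this
      obtain ⟨v, hv, h, hh, rfl⟩ := Cfsg.Agent.Lib.Helper19.exists_mul_of_mem_sup _ _ hnorm g hVH
      have hhB : h ∈ D.borelSubgroup F := (le_sup_right : D.diagonalSubgroup F ≤ D.borelSubgroup F) hh
      have hvB : v ∈ D.borelSubgroup F := by
        have := (D.borelSubgroup F).mul_mem hB ((D.borelSubgroup F).inv_mem hhB)
        rwa [mul_inv_cancel_right] at this
      rw [inter_bot D hD v hvB hv, one_mul]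
      exact hh
    · intro g hg
      exact ⟨(le_sup_right : D.diagonalSubgroup F ≤ D.borelSubgroup F) hg,
        (le_sup_right : D.diagonalSubgroup F ≤ D.negUnipotent F ⊔ D.diagonalSubgroup F) hg⟩

end Cfsg.Agent.S1037
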