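import Cfsg.Statements.S1040
import Cfsg.Agent.Lib.Helper7.ChevExch
import Cfsg.Agent.S1036

set_option autoImplicit false
open Cfsg

namespace Cfsg.Agent.S1040

open Cfsg.Lie Cfsg.Agent.Lib.Helper7.ChevExch

theorem result {F : Type*} [Field F] (D : Cfsg.Lie.ChevalleyDatum) (hD : D ∈ [Cfsg.Lie.chevG2, Cfsg.Lie.chevB2, Cfsg.Lie.chevD4, Cfsg.Lie.chevF4, Cfsg.Lie.chevE6, Cfsg.Lie.chevE7, Cfsg.Lie.chevE8]) :
    D.posUnipotent F ⊓ D.monomialSubgroup F = ⊥ ∧ D.borelSubgroup F ⊓ D.monomialSubgroup F = D.diagonalSubgroup F := by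
  have hBN := borel_inf_mono (F := F) D hD
  refine ⟨?_, hBN⟩
  rw [eq_bot_iff]
  rintro g ⟨hU, hN⟩
  have hB : g ∈ D.borelSubgroup F := by
    unfold ChevalleyDatum.borelSubgroup
    exact Subgroup.mem_sup_left hU
  have hH : g ∈ D.diagonalSubgroup F := by
    rw [← hBN]
    exact ⟨hB, hN⟩
  have h2 := (Cfsg.Agent.S1036.result (F := F) D hD).2
  rw [← h2]
  exact ⟨hU, hH⟩

end Cfsg.Agent.S1040
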