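import Cfsg.Statements.S1038
import Cfsg.Agent.Lib.Helper7.ChevBN

set_option autoImplicit false
open Cfsg

namespace Cfsg.Agent.S1038

open Cfsg.Lie Cfsg.Agent.Lib.Helper7.ChevBN

theorem conj_mem_H {F : Type*} [Field F] (D : ChevalleyDatum)
    (hD : D ∈ [chevG2, chevB2, chevD4, chevF4, chevE6, chevE7, chevE8]) (r : ℕ) (hr : r < D.nroots)
    (a : GL D.Idx F) (c : F) (hc : c = 1 ∨ c = -1) (ha : (a : Matrix D.Idx D.Idx F) = D.nMat F r c)
    (h : GL D.Idx F) (hh : h ∈ D.diagonalSubgroup F) : a * h * a⁻¹ ∈ D.diagonalSubgroup F := by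
  unfold ChevalleyDatum.diagonalSubgroup at hh ⊢
  induction hh using Subgroup.closure_induction with
  | mem x hx =>
    obtain ⟨s, t, hs, ht, hx⟩ := hx
    obtain ⟨s', hs', e⟩ := nh_all (F := F) D hD r hr c hc s hs t ht
    apply Subgroup.subset_closure
    refine ⟨s', t, hs', ht, ?_⟩
    rw [Units.val_mul, Units.val_mul, hx, ha, e, mul_assoc, ← ha, Units.mul_inv, mul_one]
  | one =>
    rw [mul_one, mul_inv_cancel]
    exact one_mem _
  | mul x y _ _ ihx ihy =>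
    have e : a * (x * y) * a⁻¹ = (a * x * a⁻¹) * (a * y * a⁻¹) := by group
    rw [e]
    exact mul_mem ihx ihy
  | inv x _ ihx =>
    have e : a * x⁻¹ * a⁻¹ = (a * x * a⁻¹)⁻¹ := by group
    rw [e]
    exact inv_mem ihx

theorem result {F : Type*} [Field F] (D : Cfsg.Lie.ChevalleyDatum) (hD : D ∈ [Cfsg.Lie.chevG2, Cfsg.Lie.chevB2, Cfsg.Lie.chevD4, Cfsg.Lie.chevF4, Cfsg.Lie.chevE6, Cfsg.Lie.chevE7, Cfsg.Lie.chevE8]) : ((D.diagonalSubgroup F).subgroupOf (D.monomialSubgroup F)).Normal := by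
  apply Subgroup.normal_subgroupOf_of_le_normalizer
  unfold ChevalleyDatum.monomialSubgroup
  apply sup_le Subgroup.le_normalizer
  rw [Subgroup.closure_le]
  rintro g ⟨r, hr, hg⟩
  have hinv : ((g⁻¹ : GL D.Idx F) : Matrix D.Idx D.Idx F) = D.nMat F r (-1) := by
    calc ((g⁻¹ : GL D.Idx F) : Matrix D.Idx D.Idx F)
        = ((g⁻¹ : GL D.Idx F) : Matrix D.Idx D.Idx F) * (D.nMat F r 1 * D.nMat F r (-1)) := by
          rw [nMat_inv' D hD r 1 one_ne_zero, mul_one]
      _ = (((g⁻¹ : GL D.Idx F) : Matrix D.Idx D.Idx F) * (g : Matrix D.Idx D.Idx F)) * D.nMat F r (-1) := by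
          rw [hg, mul_assoc]
      _ = D.nMat F r (-1) := by rw [Units.inv_mul, one_mul]
  change g ∈ Subgroup.normalizer (D.diagonalSubgroup F : Set (GL D.Idx F))
  rw [Subgroup.mem_normalizer_iff]
  intro h
  constructor
  · intro hh
    exact conj_mem_H D hD r hr g 1 (Or.inl rfl) hg h hh
  · intro hh
    have := conj_mem_H D hD r hr g⁻¹ (-1) (Or.inr rfl) hinv _ hh
    have e : g⁻¹ * (g * h * g⁻¹) * g⁻¹⁻¹ = h := by group
    rw [e] at this
    exact this

end Cfsg.Agent.S1038
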