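import Mathlib
import Cfsg.Statements.S0319
import Cfsg.Agent.Lib.Helper2.BNPar

set_option autoImplicit false
open Cfsg

namespace Cfsg.Agent.S0319

open Cfsg.Agent.Lib.Helper2.BN in
theorem ℓ_two {G : Type*} [Group G] (P : Cfsg.BNPair G) (s s' : P.S) (hne : s ≠ s') :
    ℓ P (σ P s) < ℓ P (σ P s' * σ P s) := by
  have h1 := ℓ_ne P s' (σ P s)
  have h2 := ℓ_σ P s
  have h3 : ℓ P (σ P s' * σ P s) ≠ 0 := by
    intro h0
    have h4 := (ℓ_eq_zero P).mp h0
    have h5 : σ P s' = (σ P s)⁻¹ := eq_inv_of_mul_eq_one_left h4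
    rw [σ_inv] at h5
    exact hne (σ_inj P s' s h5).symm
  omega

open Cfsg.Agent.Lib.Helper2.BN in
theorem comm_of_mem {G : Type*} [Group G] (P : Cfsg.BNPair G) (K : Set (W P)) (hK : K ⊆ R P)
    (s s' : P.S) (hne : s ≠ s') (hs' : σ P s' ∉ K)
    (h : σ P s' * σ P s * σ P s' ∈ Subgroup.closure K) : σ P s' * σ P s = σ P s * σ P s' := by
  let l : List (W P) := [σ P s', σ P s, σ P s']
  have hl : ∀ x ∈ l, x ∈ R P := by
    intro x hx
    simp only [l, List.mem_cons, List.not_mem_nil, or_false] at hx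
    rcases hx with rfl | rfl | rfl
    · exact σ_mem P s'
    · exact σ_mem P s
    · exact σ_mem P s'
  have hprod : l.prod = σ P s' * σ P s * σ P s' := by
    simp [l, mul_assoc]
  rcases Nat.lt_or_ge (ℓ P l.prod) l.length with hlt | hge
  · obtain ⟨l', hl'1, hl'2, hl'3⟩ := deletion P l hl hlt
    have hlen : l'.length = 1 := by
      have : l.length = 3 := rfl
      omega
    match l', hl'1, hl'2, hlen with
    | [x], hl'1, hl'2, _ =>
      have hx := hl'1 x (by simp)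
      rw [List.prod_singleton, hprod] at hl'2
      simp only [l, List.mem_cons, List.not_mem_nil, or_false] at hx
      have hxx : x = σ P s' ∨ x = σ P s := by tauto
      rcases hxx with rfl | rfl
      · exfalso
        have h1 : σ P s' * σ P s = 1 := by
          have : σ P s' * σ P s * σ P s' = 1 * σ P s' := by rw [one_mul]; exact hl'2.symm
          exact mul_right_cancel this
        have h5 : σ P s' = (σ P s)⁻¹ := eq_inv_of_mul_eq_one_left h1
        rw [σ_inv] at h5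
        exact hne (σ_inj P s' s h5).symm
      · calc σ P s' * σ P s = σ P s' * σ P s * σ P s' * σ P s' := by rw [mul_σ_cancel]
          _ = σ P s * σ P s' := by rw [← hl'2]
  · exfalso
    have hlen : l.length = ℓ P l.prod := by
      have := ℓ_le P l hl
      omega
    have hw : l.prod ∈ Subgroup.closure K := by rw [hprod]; exact h
    exact hs' (letters_mem P K hK l hl hlen hw (σ P s') (by simp [l]))

/-- Simplicity criterion for groups with a (B,N)-pair: if the distinguished generators admit no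
splitting into two non-empty mutually commuting parts, `B` is solvable, `G` is perfect and the intersection
of all conjugates of `B` is trivial, then `G` is simple. -/
theorem result {G : Type*} [Group G] [Nontrivial G]
    (P : Cfsg.BNPair G) (hirr : P.Irreducible) (hsolv : Group.IsSolvable P.B) (hperf : commutator G = ⊤)
    (hcore : P.B.normalCore = ⊥) : IsSimpleGroup G := by
  refine { eq_bot_or_eq_top_of_normal := ?_ }
  intro H hH
  have hBM : P.B ≤ P.B ⊔ H := le_sup_left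
  have hpar := Cfsg.Agent.Lib.Helper2.BN.eq_parabolic P (P.B ⊔ H) hBM
  set X : Set G := P.S ∩ ((P.B ⊔ H : Subgroup G) : Set G) with hX
  have hXS : X ⊆ P.S := Set.inter_subset_left
  have hdich : ¬ (X.Nonempty ∧ (P.S \ X).Nonempty) := by
    rintro ⟨hne1, hne2⟩
    obtain ⟨s, hsX, s', hs'X, hcomm⟩ := hirr X hXS hne1 hne2
    apply hcomm
    have hsS : s ∈ P.S := hXS hsX
    have hs'S : s' ∈ P.S := hs'X.1
    have hne : (⟨s, hsS⟩ : P.S) ≠ ⟨s', hs'S⟩ := by
      intro h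
      have : s = s' := congrArg Subtype.val h
      rw [this] at hsX
      exact hs'X.2 hsX
    have hs'K : Cfsg.Agent.Lib.Helper2.BN.σ P ⟨s', hs'S⟩ ∉ Cfsg.Agent.Lib.Helper2.BN.Jbar P X := by
      rintro ⟨t, ht, heq⟩
      have := Cfsg.Agent.Lib.Helper2.BN.σ_inj P t ⟨s', hs'S⟩ heq
      rw [this] at ht
      exact hs'X.2 ht
    have hsK : Cfsg.Agent.Lib.Helper2.BN.σ P ⟨s, hsS⟩ ∈ Cfsg.Agent.Lib.Helper2.BN.Jbar P X :=
      ⟨⟨s, hsS⟩, hsX, rfl⟩
    obtain ⟨b, hb, h, hh, hbh⟩ := Subgroup.mem_sup_of_normal_right.mp hsX.2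
    have hhC : h ∈ Cfsg.Agent.Lib.Helper2.BN.C P (Cfsg.Agent.Lib.Helper2.BN.σ P ⟨s, hsS⟩) := by
      have h1 : h = b⁻¹ * s := by rw [← hbh]; group
      rw [h1]
      exact Cfsg.Agent.Lib.Helper2.BN.C_mul_left P (Cfsg.Agent.Lib.Helper2.BN.s_mem_C P ⟨s, hsS⟩)
        (P.B.inv_mem hb)
    have hPA := (Cfsg.Agent.Lib.Helper2.BN.PA_iff P ⟨s', hs'S⟩ (Cfsg.Agent.Lib.Helper2.BN.σ P ⟨s, hsS⟩)).mpr
      (ℓ_two P ⟨s, hsS⟩ ⟨s', hs'S⟩ hne)
    have h1 := hPA s' (Cfsg.Agent.Lib.Helper2.BN.s_mem_C P ⟨s', hs'S⟩) h hhC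
    have hs'inv : s'⁻¹ ∈ Cfsg.Agent.Lib.Helper2.BN.C P (Cfsg.Agent.Lib.Helper2.BN.σ P ⟨s', hs'S⟩) := by
      have := Cfsg.Agent.Lib.Helper2.BN.C_inv P (Cfsg.Agent.Lib.Helper2.BN.s_mem_C P ⟨s', hs'S⟩)
      rwa [Cfsg.Agent.Lib.Helper2.BN.σ_inv] at this
    have h2 := Cfsg.Agent.Lib.Helper2.BN.BN1' P ⟨s', hs'S⟩ _ h1 hs'inv
    have h3 : s' * h * s'⁻¹ ∈ P.parabolic X := by
      rw [← hpar]
      exact Subgroup.mem_sup_right (hH.conj_mem h hh s')
    obtain ⟨w, hw, hwC⟩ := (Cfsg.Agent.Lib.Helper2.BN.mem_parabolic_iff_C P hXS _).mp h3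
    have hcommW : Cfsg.Agent.Lib.Helper2.BN.σ P ⟨s', hs'S⟩ * Cfsg.Agent.Lib.Helper2.BN.σ P ⟨s, hsS⟩
        = Cfsg.Agent.Lib.Helper2.BN.σ P ⟨s, hsS⟩ * Cfsg.Agent.Lib.Helper2.BN.σ P ⟨s', hs'S⟩ := by
      rcases h2 with h2 | h2
      · have h4 := Cfsg.Agent.Lib.Helper2.BN.C_disjoint P h2 hwC
        rw [← h4] at hw
        exact comm_of_mem P _ (Cfsg.Agent.Lib.Helper2.BN.Jbar_subset P X) ⟨s, hsS⟩ ⟨s', hs'S⟩ hne hs'K hw
      · exfalso
        have h4 := Cfsg.Agent.Lib.Helper2.BN.C_disjoint P h2 hwC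
        rw [← h4] at hw
        apply hs'K
        apply Cfsg.Agent.Lib.Helper2.BN.mem_of_mem_closure P _ (Cfsg.Agent.Lib.Helper2.BN.Jbar_subset P X)
        have h5 : Cfsg.Agent.Lib.Helper2.BN.σ P ⟨s', hs'S⟩
            = (Cfsg.Agent.Lib.Helper2.BN.σ P ⟨s', hs'S⟩ * Cfsg.Agent.Lib.Helper2.BN.σ P ⟨s, hsS⟩)
              * (Cfsg.Agent.Lib.Helper2.BN.σ P ⟨s, hsS⟩)⁻¹ := by group
        rw [h5]
        exact Subgroup.mul_mem _ hw (Subgroup.inv_mem _ (Subgroup.subset_closure hsK))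
    have hN : s * s' * s⁻¹ * s'⁻¹ ∈ P.N :=
      P.N.mul_mem (P.N.mul_mem (P.N.mul_mem (P.subset hsS) (P.subset hs'S)) (P.N.inv_mem (P.subset hsS)))
        (P.N.inv_mem (P.subset hs'S))
    have hπ : Cfsg.Agent.Lib.Helper2.BN.π P ⟨s * s' * s⁻¹ * s'⁻¹, hN⟩ = 1 := by
      have h6 : (⟨s * s' * s⁻¹ * s'⁻¹, hN⟩ : P.N)
          = ⟨s, P.subset hsS⟩ * ⟨s', P.subset hs'S⟩ * ⟨s, P.subset hsS⟩⁻¹ * ⟨s', P.subset hs'S⟩⁻¹ := rfl
      rw [h6, map_mul, map_mul, map_mul, map_inv, map_inv]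
      show Cfsg.Agent.Lib.Helper2.BN.σ P ⟨s, hsS⟩ * Cfsg.Agent.Lib.Helper2.BN.σ P ⟨s', hs'S⟩
        * (Cfsg.Agent.Lib.Helper2.BN.σ P ⟨s, hsS⟩)⁻¹ * (Cfsg.Agent.Lib.Helper2.BN.σ P ⟨s', hs'S⟩)⁻¹ = 1
      rw [← hcommW]
      group
    exact (Cfsg.Agent.Lib.Helper2.BN.π_eq_one_iff P _).mp hπ
  by_cases hXne : X.Nonempty
  · right
    have hXS' : X = P.S := by
      apply Set.Subset.antisymm hXS
      intro s hs
      by_contra hsX
      exact hdich ⟨hXne, ⟨s, hs, hsX⟩⟩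
    rw [hXS', Cfsg.Agent.Lib.Helper2.BN.parabolic_S] at hpar
    by_contra hHtop
    have hnt : Nontrivial (G ⧸ H) := by
      rw [← not_subsingleton_iff_nontrivial]
      intro hsub
      exact hHtop (QuotientGroup.subgroup_eq_top_of_subsingleton H hsub)
    have hperfG : Group.IsPerfect G := ⟨hperf⟩
    have hperfQ : Group.IsPerfect (G ⧸ H) := inferInstance
    have hsurj : Function.Surjective ((QuotientGroup.mk' H).comp P.B.subtype) := by
      intro q
      obtain ⟨g, rfl⟩ := QuotientGroup.mk'_surjective H q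
      have hg : g ∈ P.B ⊔ H := by rw [hpar]; exact Subgroup.mem_top g
      obtain ⟨b, hb, h, hh, hbh⟩ := Subgroup.mem_sup_of_normal_right.mp hg
      refine ⟨⟨b, hb⟩, ?_⟩
      show QuotientGroup.mk' H b = QuotientGroup.mk' H g
      have h1 : QuotientGroup.mk' H h = 1 := (QuotientGroup.eq_one_iff h).mpr hh
      rw [← hbh, map_mul, h1, mul_one]
    have hsolvQ : Group.IsSolvable (G ⧸ H) := Group.isSolvable_of_surjective hsurj
    exact Group.IsPerfect.not_isSolvable (G ⧸ H) hsolvQ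
  · left
    rw [Set.not_nonempty_iff_eq_empty] at hXne
    rw [hXne] at hpar
    have h1 : P.parabolic ∅ = P.B := by
      unfold Cfsg.BNPair.parabolic
      rw [Subgroup.closure_empty, sup_bot_eq]
    rw [h1] at hpar
    have h2 : H ≤ P.B := by
      rw [← hpar]
      exact le_sup_right
    have h3 : H ≤ P.B.normalCore := Subgroup.normal_le_normalCore.mpr h2
    rw [hcore] at h3
    exact le_bot_iff.mp h3

end Cfsg.Agent.S0319
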