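import Cfsg.Statements.S1052
import Cfsg.Agent.Lib.Helper7.ChevPerf

set_option autoImplicit false
set_option maxRecDepth 1000000
open Cfsg

namespace Cfsg.Agent.S1052

open Cfsg.Lie Cfsg.Agent.Lib.Helper7.ChevEngine Cfsg.Agent.Lib.Helper7.ChevTorus Cfsg.Agent.Lib.Helper7.ChevComm
  Cfsg.Agent.Lib.Helper7.ChevPerf

theorem sD4_0 : chevD4.simple 0 = 18 := by decide +kernel
theorem cD4_0 : commCheck chevD4 6 22 18 (1) = true := by decide +kernel
theorem sD4_1 : chevD4.simple 1 = 14 := by decide +kernel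
theorem cD4_1 : commCheck chevD4 1 23 14 (-1) = true := by decide +kernel
theorem sD4_2 : chevD4.simple 2 = 13 := by decide +kernel
theorem cD4_2 : commCheck chevD4 3 22 13 (-1) = true := by decide +kernel
theorem sD4_3 : chevD4.simple 3 = 12 := by decide +kernel
theorem cD4_3 : commCheck chevD4 2 22 12 (-1) = true := by decide +kernel

theorem perfD4 {F : Type*} [Field F] :
    commutator ↥(chevD4.group F) = ⊤ := by
  apply perfect_of_simple chevD4 (by simp)
  intro j hj t
  have hj' : j < 4 := hj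
  interval_cases j
  · rw [sD4_0]
    exact comm_mem chevD4 (by simp) 6 22 18 (1) (Or.inl rfl) cD4_0 t
  · rw [sD4_1]
    exact comm_mem chevD4 (by simp) 1 23 14 (-1) (Or.inr rfl) cD4_1 t
  · rw [sD4_2]
    exact comm_mem chevD4 (by simp) 3 22 13 (-1) (Or.inr rfl) cD4_2 t
  · rw [sD4_3]
    exact comm_mem chevD4 (by simp) 2 22 12 (-1) (Or.inr rfl) cD4_3 t

theorem sF4_0 : chevF4.simple 0 = 33 := by decide +kernel
theorem cF4_0 : commCheck chevF4 7 44 33 (-1) = true := by decide +kernel
theorem sF4_1 : chevF4.simple 1 = 27 := by decide +kernel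
theorem cF4_1 : commCheck chevF4 8 40 27 (-1) = true := by decide +kernel
theorem sF4_2 : chevF4.simple 2 = 25 := by decide +kernel
theorem cF4_2 : commCheck chevF4 2 46 25 (-1) = true := by decide +kernel
theorem sF4_3 : chevF4.simple 3 = 24 := by decide +kernel
theorem cF4_3 : commCheck chevF4 1 47 24 (-1) = true := by decide +kernel

theorem perfF4 {F : Type*} [Field F] :
    commutator ↥(chevF4.group F) = ⊤ := by
  apply perfect_of_simple chevF4 (by simp)
  intro j hj t
  have hj' : j < 4 := hj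
  interval_cases j
  · rw [sF4_0]
    exact comm_mem chevF4 (by simp) 7 44 33 (-1) (Or.inr rfl) cF4_0 t
  · rw [sF4_1]
    exact comm_mem chevF4 (by simp) 8 40 27 (-1) (Or.inr rfl) cF4_1 t
  · rw [sF4_2]
    exact comm_mem chevF4 (by simp) 2 46 25 (-1) (Or.inr rfl) cF4_2 t
  · rw [sF4_3]
    exact comm_mem chevF4 (by simp) 1 47 24 (-1) (Or.inr rfl) cF4_3 t

theorem sE6_0 : chevE6.simple 0 = 56 := by decide +kernel
theorem cE6_0 : commCheck chevE6 16 66 56 (1) = true := by decide +kernel
theorem sE6_1 : chevE6.simple 1 = 46 := by decide +kernel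
theorem cE6_1 : commCheck chevE6 1 71 46 (-1) = true := by decide +kernel
theorem sE6_2 : chevE6.simple 2 = 42 := by decide +kernel
theorem cE6_2 : commCheck chevE6 5 69 42 (-1) = true := by decide +kernel
theorem sE6_3 : chevE6.simple 3 = 39 := by decide +kernel
theorem cE6_3 : commCheck chevE6 2 70 39 (-1) = true := by decide +kernel
theorem sE6_4 : chevE6.simple 4 = 37 := by decide +kernel
theorem cE6_4 : commCheck chevE6 3 69 37 (-1) = true := by decide +kernel
theorem sE6_5 : chevE6.simple 5 = 36 := by decide +kernel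
theorem cE6_5 : commCheck chevE6 4 68 36 (-1) = true := by decide +kernel

theorem perfE6 {F : Type*} [Field F] :
    commutator ↥(chevE6.group F) = ⊤ := by
  apply perfect_of_simple chevE6 (by simp)
  intro j hj t
  have hj' : j < 6 := hj
  interval_cases j
  · rw [sE6_0]
    exact comm_mem chevE6 (by simp) 16 66 56 (1) (Or.inl rfl) cE6_0 t
  · rw [sE6_1]
    exact comm_mem chevE6 (by simp) 1 71 46 (-1) (Or.inr rfl) cE6_1 t
  · rw [sE6_2]
    exact comm_mem chevE6 (by simp) 5 69 42 (-1) (Or.inr rfl) cE6_2 t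
  · rw [sE6_3]
    exact comm_mem chevE6 (by simp) 2 70 39 (-1) (Or.inr rfl) cE6_3 t
  · rw [sE6_4]
    exact comm_mem chevE6 (by simp) 3 69 37 (-1) (Or.inr rfl) cE6_4 t
  · rw [sE6_5]
    exact comm_mem chevE6 (by simp) 4 68 36 (-1) (Or.inr rfl) cE6_5 t

theorem sE7_0 : chevE7.simple 0 = 93 := by decide +kernel
theorem cE7_0 : commCheck chevE7 1 125 93 (-1) = true := by decide +kernel
theorem sE7_1 : chevE7.simple 1 = 78 := by decide +kernel
theorem cE7_1 : commCheck chevE7 7 122 78 (-1) = true := by decide +kernel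
theorem sE7_2 : chevE7.simple 2 = 73 := by decide +kernel
theorem cE7_2 : commCheck chevE7 2 124 73 (-1) = true := by decide +kernel
theorem sE7_3 : chevE7.simple 3 = 69 := by decide +kernel
theorem cE7_3 : commCheck chevE7 3 123 69 (-1) = true := by decide +kernel
theorem sE7_4 : chevE7.simple 4 = 66 := by decide +kernel
theorem cE7_4 : commCheck chevE7 4 122 66 (-1) = true := by decide +kernel
theorem sE7_5 : chevE7.simple 5 = 64 := by decide +kernel
theorem cE7_5 : commCheck chevE7 5 121 64 (-1) = true := by decide +kernel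
theorem sE7_6 : chevE7.simple 6 = 63 := by decide +kernel
theorem cE7_6 : commCheck chevE7 6 120 63 (-1) = true := by decide +kernel

theorem perfE7 {F : Type*} [Field F] :
    commutator ↥(chevE7.group F) = ⊤ := by
  apply perfect_of_simple chevE7 (by simp)
  intro j hj t
  have hj' : j < 7 := hj
  interval_cases j
  · rw [sE7_0]
    exact comm_mem chevE7 (by simp) 1 125 93 (-1) (Or.inr rfl) cE7_0 t
  · rw [sE7_1]
    exact comm_mem chevE7 (by simp) 7 122 78 (-1) (Or.inr rfl) cE7_1 t
  · rw [sE7_2]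
    exact comm_mem chevE7 (by simp) 2 124 73 (-1) (Or.inr rfl) cE7_2 t
  · rw [sE7_3]
    exact comm_mem chevE7 (by simp) 3 123 69 (-1) (Or.inr rfl) cE7_3 t
  · rw [sE7_4]
    exact comm_mem chevE7 (by simp) 4 122 66 (-1) (Or.inr rfl) cE7_4 t
  · rw [sE7_5]
    exact comm_mem chevE7 (by simp) 5 121 64 (-1) (Or.inr rfl) cE7_5 t
  · rw [sE7_6]
    exact comm_mem chevE7 (by simp) 6 120 63 (-1) (Or.inr rfl) cE7_6 t

theorem sE8_0 : chevE8.simple 0 = 162 := by decide +kernel
theorem cE8_0 : commCheck chevE8 14 233 162 (-1) = true := by decide +kernel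
theorem sE8_1 : chevE8.simple 1 = 141 := by decide +kernel
theorem cE8_1 : commCheck chevE8 7 234 141 (-1) = true := by decide +kernel
theorem sE8_2 : chevE8.simple 2 = 135 := by decide +kernel
theorem cE8_2 : commCheck chevE8 6 234 135 (-1) = true := by decide +kernel
theorem sE8_3 : chevE8.simple 3 = 130 := by decide +kernel
theorem cE8_3 : commCheck chevE8 5 235 130 (-1) = true := by decide +kernel
theorem sE8_4 : chevE8.simple 4 = 126 := by decide +kernel
theorem cE8_4 : commCheck chevE8 4 236 126 (-1) = true := by decide +kernel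
theorem sE8_5 : chevE8.simple 5 = 123 := by decide +kernel
theorem cE8_5 : commCheck chevE8 3 237 123 (-1) = true := by decide +kernel
theorem sE8_6 : chevE8.simple 6 = 121 := by decide +kernel
theorem cE8_6 : commCheck chevE8 2 238 121 (-1) = true := by decide +kernel
theorem sE8_7 : chevE8.simple 7 = 120 := by decide +kernel
theorem cE8_7 : commCheck chevE8 1 239 120 (-1) = true := by decide +kernel

theorem perfE8 {F : Type*} [Field F] :
    commutator ↥(chevE8.group F) = ⊤ := by
  apply perfect_of_simple chevE8 (by simp)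
  intro j hj t
  have hj' : j < 8 := hj
  interval_cases j
  · rw [sE8_0]
    exact comm_mem chevE8 (by simp) 14 233 162 (-1) (Or.inr rfl) cE8_0 t
  · rw [sE8_1]
    exact comm_mem chevE8 (by simp) 7 234 141 (-1) (Or.inr rfl) cE8_1 t
  · rw [sE8_2]
    exact comm_mem chevE8 (by simp) 6 234 135 (-1) (Or.inr rfl) cE8_2 t
  · rw [sE8_3]
    exact comm_mem chevE8 (by simp) 5 235 130 (-1) (Or.inr rfl) cE8_3 t
  · rw [sE8_4]
    exact comm_mem chevE8 (by simp) 4 236 126 (-1) (Or.inr rfl) cE8_4 t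
  · rw [sE8_5]
    exact comm_mem chevE8 (by simp) 3 237 123 (-1) (Or.inr rfl) cE8_5 t
  · rw [sE8_6]
    exact comm_mem chevE8 (by simp) 2 238 121 (-1) (Or.inr rfl) cE8_6 t
  · rw [sE8_7]
    exact comm_mem chevE8 (by simp) 1 239 120 (-1) (Or.inr rfl) cE8_7 t

theorem sG2_0 : chevG2.simple 0 = 7 := by decide +kernel
theorem pG2_0 : (∑ k ∈ Finset.range chevG2.rank, (fnsOf chevG2).cor 1 k * chevG2.cartan k 7) = (-1) := by decide +kernel
theorem sG2_1 : chevG2.simple 1 = 6 := by decide +kernel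
theorem cG2_1 : commCheck chevG2 1 11 6 (-1) = true := by decide +kernel

theorem perfG2 {F : Type*} [Field F] (c : F) (hc0 : c ≠ 0) (hc1 : c ≠ 1) :
    commutator ↥(chevG2.group F) = ⊤ := by
  apply perfect_of_simple chevG2 (by simp)
  intro j hj t
  have hj' : j < 2 := hj
  interval_cases j
  · rw [sG2_0]
    exact torus_mem chevG2 (by simp) 7 1 (by decide) (by decide) (-1) (Or.inr rfl) pG2_0 c hc0 hc1 t
  · rw [sG2_1]
    exact comm_mem chevG2 (by simp) 1 11 6 (-1) (Or.inr rfl) cG2_1 t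

theorem sB2_0 : chevB2.simple 0 = 5 := by decide +kernel
theorem pB2_0 : (∑ k ∈ Finset.range chevB2.rank, (fnsOf chevB2).cor 0 k * chevB2.cartan k 5) = (-1) := by decide +kernel
theorem sB2_1 : chevB2.simple 1 = 4 := by decide +kernel
theorem pB2_1 : (∑ k ∈ Finset.range chevB2.rank, (fnsOf chevB2).cor 0 k * chevB2.cartan k 2) = (1) := by decide +kernel
theorem cB2_1 : comm2Check chevB2 0 6 2 (-1) 4 (1) = true := by decide +kernel

theorem perfB2 {F : Type*} [Field F] (c : F) (hc0 : c ≠ 0) (hc1 : c ≠ 1) :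
    commutator ↥(chevB2.group F) = ⊤ := by
  apply perfect_of_simple chevB2 (by simp)
  intro j hj t
  have hj' : j < 2 := hj
  interval_cases j
  · rw [sB2_0]
    exact torus_mem chevB2 (by simp) 5 0 (by decide) (by decide) (-1) (Or.inr rfl) pB2_0 c hc0 hc1 t
  · rw [sB2_1]
    exact comm2_mem chevB2 (by simp) 0 6 2 (-1) 4 (1) (Or.inl rfl) cB2_1
      (torus_mem chevB2 (by simp) 2 0 (by decide) (by decide) (1) (Or.inl rfl) pB2_1 c hc0 hc1) t

theorem result {F : Type*} [Field F] (D : Cfsg.Lie.ChevalleyDatum) (hD : D ∈ [Cfsg.Lie.chevG2, Cfsg.Lie.chevB2, Cfsg.Lie.chevD4, Cfsg.Lie.chevF4, Cfsg.Lie.chevE6, Cfsg.Lie.chevE7, Cfsg.Lie.chevE8]) (h2 : D = Cfsg.Lie.chevG2 ∨ D = Cfsg.Lie.chevB2 → ∃ a : F, a ≠ 0 ∧ a ≠ 1) :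
    commutator ↥(D.group F) = ⊤ := by
  simp only [List.mem_cons, List.not_mem_nil, or_false] at hD
  rcases hD with rfl | rfl | rfl | rfl | rfl | rfl | rfl
  · obtain ⟨c, hc0, hc1⟩ := h2 (Or.inl rfl)
    exact perfG2 c hc0 hc1
  · obtain ⟨c, hc0, hc1⟩ := h2 (Or.inr rfl)
    exact perfB2 c hc0 hc1
  · exact perfD4
  · exact perfF4
  · exact perfE6
  · exact perfE7
  · exact perfE8

end Cfsg.Agent.S1052
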