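import Cfsg.Statements.S1034
import Cfsg.Agent.Lib.Helper7.ChevTorus

set_option autoImplicit false
open Cfsg

namespace Cfsg.Agent.S1034

open Cfsg.Lie Cfsg.Agent.Lib.Helper7.ChevH Cfsg.Agent.Lib.Helper7.ChevHAll Cfsg.Agent.Lib.Helper7.ChevTorus
  Cfsg.Agent.Lib.Helper7.HBaseAll

theorem wordMat_flatMap {F : Type*} [Field F] (D : ChevalleyDatum) {α : Type*} (l : List α)
    (f : α → List (ℕ × F)) :
    D.wordMat F (l.flatMap f) = (l.map fun a => D.wordMat F (f a)).prod := by
  induction l with
  | nil => simp [ChevalleyDatum.wordMat]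
  | cons a l ih => rw [List.flatMap_cons, wordMat_append, ih, List.map_cons, List.prod_cons]

theorem prod_hDiag {F : Type*} [Field F] (D : ChevalleyDatum) (c : ℕ → Fˣ) (l : ℕ) :
    ((List.range l).map fun i => hDiag F D (D.cartan i) (c i : F)).prod =
      D.charDiag F (fun s => ∏ j ∈ Finset.range l, c j ^ D.cartan j s) := by
  induction l with
  | zero =>
    simp only [List.range_zero, List.map_nil, List.prod_nil, Finset.range_zero, Finset.prod_empty]
    exact (charDiag_one D).symm
  | succ l ih =>
    rw [List.range_succ, List.map_append, List.prod_append, ih, List.map_cons, List.map_nil, List.prod_cons,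
      List.prod_nil, mul_one]
    have e : hDiag F D (D.cartan l) (c l : F) = D.charDiag F (fun s => c l ^ D.cartan l s) := by
      unfold hDiag ChevalleyDatum.charDiag
      congr 1
      funext idx
      rcases idx with i | s
      · rfl
      · simp only [Sum.elim_inr]
        rw [Units.val_zpow_eq_zpow_val]
    rw [e, charDiag_mul]
    congr 1
    funext s
    rw [Finset.prod_range_succ]

theorem result {F : Type*} [Field F] (D : Cfsg.Lie.ChevalleyDatum) (hD : D ∈ [Cfsg.Lie.chevG2, Cfsg.Lie.chevB2, Cfsg.Lie.chevD4, Cfsg.Lie.chevF4, Cfsg.Lie.chevE6, Cfsg.Lie.chevE7, Cfsg.Lie.chevE8]) (g : GL D.Idx F) (hg : g ∈ D.diagonalSubgroup F) :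
    ∃ c : ℕ → F, (∀ i < D.rank, c i ≠ 0) ∧
      (g : Matrix D.Idx D.Idx F) = D.wordMat F ((List.range D.rank).flatMap fun i => D.hWord (D.simple i) (c i)) := by
  obtain ⟨c, hc⟩ := diagonalSubgroup_le_torus D hD hg
  obtain ⟨-, -, hB⟩ := all_of_mem D hD
  refine ⟨fun i => (c i : F), fun i _ => Units.ne_zero (c i), ?_⟩
  rw [hc, wordMat_flatMap]
  have e1 : ((List.range D.rank).map fun i => D.wordMat F (D.hWord (D.simple i) (c i : F))) =
      ((List.range D.rank).map fun i => hDiag F D (D.cartan i) (c i : F)) := by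
    apply List.map_congr_left
    intro i hi
    exact hMat_diag D (D.simple i) (D.cartan i) (hB.1 i (List.mem_range.mp hi)) (c i : F) (Units.ne_zero (c i))
  rw [e1, prod_hDiag]
  rfl

end Cfsg.Agent.S1034
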