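import Cfsg.Statements.S1080

set_option autoImplicit false
open Cfsg

namespace Cfsg.Agent.S1080

open Cfsg.Lie

theorem xMat_map {F : Type*} [Field F] (D : ChevalleyDatum) (f : F ≃+* F) (r : Fin D.nroots) (t : F) :
    (D.xMat F r t).map f = D.xMat F r (f t) := by
  ext row col
  simp only [Matrix.map_apply]
  unfold ChevalleyDatum.xMat
  rcases col with i | s
  · rcases row with i' | u
    · simp only [Matrix.of_apply]
      split_ifs <;> simp
    · simp only [Matrix.of_apply]
      split_ifs <;> simp
  · simp only [Matrix.of_apply]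
    by_cases h1 : s = r
    · simp only [h1, if_true]
      rcases row with i' | u
      · simp
      · simp only
        split_ifs <;> simp
    · simp only [h1, if_false]
      by_cases h2 : s.val = D.negIdx.getD r.val 0
      · simp only [h2, if_true]
        rcases row with i' | u
        · simp
        · simp only
          split_ifs <;> simp
      · simp only [h2, if_false]
        rcases row with i' | u
        · simp
        · simp only [map_add, map_list_sum, List.map_map]
          congr 1
          · split_ifs <;> simp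
          · congr 1
            apply List.map_congr_left
            intro km _
            simp

theorem x_map {F : Type*} [Field F] (D : ChevalleyDatum) (f : F ≃+* F) (r : ℕ) (t : F) :
    (D.x F r t).map f = D.x F r (f t) := by
  unfold ChevalleyDatum.x
  by_cases h : r < D.nroots
  · rw [dif_pos h, dif_pos h, xMat_map]
  · rw [dif_neg h, dif_neg h]
    exact Matrix.map_one f (map_zero f) (map_one f)

noncomputable def phi {F : Type*} [Field F] (D : ChevalleyDatum) (f : F ≃+* F) : GL D.Idx F ≃* GL D.Idx F :=
  Units.mapEquiv (RingEquiv.mapMatrix (m := D.Idx) f).toMulEquiv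

theorem phi_val {F : Type*} [Field F] (D : ChevalleyDatum) (f : F ≃+* F) (g : GL D.Idx F) :
    ((phi D f g : GL D.Idx F) : Matrix D.Idx D.Idx F) = (g : Matrix D.Idx D.Idx F).map f := rfl

theorem phi_mem {F : Type*} [Field F] (D : ChevalleyDatum) (f : F ≃+* F) (g : GL D.Idx F) (hg : g ∈ D.group F) :
    phi D f g ∈ D.group F := by
  unfold ChevalleyDatum.group at hg ⊢
  induction hg using Subgroup.closure_induction with
  | mem x hx =>
    obtain ⟨r, t, hx⟩ := hx
    apply Subgroup.subset_closure
    refine ⟨r, f t, ?_⟩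
    rw [phi_val, hx, xMat_map]
  | one =>
    rw [map_one]
    exact one_mem _
  | mul x y _ _ ihx ihy =>
    rw [map_mul]
    exact mul_mem ihx ihy
  | inv x _ ihx =>
    rw [map_inv]
    exact inv_mem ihx

theorem phi_symm_phi {F : Type*} [Field F] (D : ChevalleyDatum) (f : F ≃+* F) (g : GL D.Idx F) :
    phi D f.symm (phi D f g) = g := by
  apply Units.ext
  rw [phi_val, phi_val]
  ext i j
  simp

theorem phi_phi_symm {F : Type*} [Field F] (D : ChevalleyDatum) (f : F ≃+* F) (g : GL D.Idx F) :
    phi D f (phi D f.symm g) = g := by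
  apply Units.ext
  rw [phi_val, phi_val]
  ext i j
  simp

theorem result {F : Type*} [Field F] (D : Cfsg.Lie.ChevalleyDatum) (hD : D ∈ [Cfsg.Lie.chevG2, Cfsg.Lie.chevB2, Cfsg.Lie.chevD4, Cfsg.Lie.chevF4, Cfsg.Lie.chevE6, Cfsg.Lie.chevE7, Cfsg.Lie.chevE8]) (f : F ≃+* F) :
    ∃ α : ↥(D.group F) ≃* ↥(D.group F), ∀ (g : ↥(D.group F)) (r : ℕ) (t : F), r < D.nroots →
      ((g : GL D.Idx F) : Matrix D.Idx D.Idx F) = D.x F r t → ((α g : GL D.Idx F) : Matrix D.Idx D.Idx F) = D.x F r (f t) := by
  refine ⟨{ toFun := fun g => ⟨phi D f g.1, phi_mem D f g.1 g.2⟩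
            invFun := fun g => ⟨phi D f.symm g.1, phi_mem D f.symm g.1 g.2⟩
            left_inv := fun g => Subtype.ext (phi_symm_phi D f g.1)
            right_inv := fun g => Subtype.ext (phi_phi_symm D f g.1)
            map_mul' := fun g h => Subtype.ext (map_mul (phi D f) g.1 h.1) }, ?_⟩
  intro g r t _ hg
  change ((phi D f g.1 : GL D.Idx F) : Matrix D.Idx D.Idx F) = D.x F r (f t)
  rw [phi_val, hg, x_map]

end Cfsg.Agent.S1080
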