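import Cfsg.Statements.S1117
import Cfsg.Agent.Lib.Helper7.TwCore

set_option autoImplicit false
open Cfsg

namespace Cfsg.Agent.S1117

open Cfsg.Lie Cfsg.Agent.Lib.Helper7.ChevEngine Cfsg.Agent.Lib.Helper7.ChevTorus Cfsg.Agent.Lib.Helper7.ChevW0
  Cfsg.Agent.Lib.Helper7.W0All Cfsg.Agent.Lib.Helper7.TwCore

def mone : Poly := [(-1, 0, 0)]

def two : Poly := [(2, 0, 0)]

def blocks : List (List ℕ) := [[0, 1, 0, 1, 0, 1]]

theorem w0c : w0Check chevG2 wtG2 blocks.flatten = true := by decide +kernel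

def wsA : List (List (ℕ × Poly)) :=
  [[(7, []), (6, []), (8, []), (9, one), (10, []), (11, one)],
    [(4, one), (5, one), (3, []), (2, two), (1, one), (0, one)],
    [(7, mone), (6, mone), (8, one), (9, []), (10, []), (11, one)]]

def wT : List (ℕ × Poly) := [(7, one), (6, one), (8, one), (9, one), (10, []), (11, [])]

theorem chkA : ∀ k < chevG2.rank + chevG2.nroots,
    eqCheckP 3 chevG2.rank chevG2.nroots (fnsOf chevG2) (nPolyWord chevG2 [0, 1, 0, 1, 0, 1]) wsA.flatten k =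
      true := by
  decide +kernel

theorem ent0 : entChk 3 chevG2.rank chevG2.nroots (fnsOf chevG2) wT 0
    (chevG2.rank + chevG2.simple 0) (-2) = true := by decide +kernel

theorem ent1 : entChk 3 chevG2.rank chevG2.nroots (fnsOf chevG2) wT 1
    (chevG2.rank + chevG2.simple 1) (-2) = true := by decide +kernel


/-- The normal core of `B¹ = G¹ ∩ B` in ²G₂(3^(2m+1)) is trivial. -/
theorem result {K : Type*} [Field K] [Fintype K] {m : ℕ} (hK : Fintype.card K = 3 ^ (2 * m + 1)) :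
    ((Cfsg.Lie.chevG2.borelSubgroup K ⊓ Cfsg.Lie.twistedG2 K (3 ^ m)).subgroupOf (Cfsg.Lie.twistedG2 K (3 ^ m))).normalCore = ⊥ := by
  have hD : chevG2 ∈ [chevG2, chevB2, chevD4, chevF4, chevE6, chevE7, chevE8] := by simp
  have h3n : ((3 : ℕ) : K) = 0 := char_of_card 3 (2 * m + 1) hK
  have h3' : (3 : K) = 0 := by
    have e : (3 : K) = ((3 : ℕ) : K) := by norm_num
    rw [e]
    exact h3n
  have h3 : (((3 : ℤ)) : K) = 0 := by
    have e : (((3 : ℤ)) : K) = (3 : K) := by norm_num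
    rw [e]
    exact h3'
  have he : (3 : ℕ) ^ m ≠ 0 := pow_ne_zero m (by norm_num)
  have ho : Odd ((3 : ℕ) ^ m) := Odd.pow (by decide)
  have z1 : (0 : K) ^ (3 ^ m) = 0 := zero_pow he
  have z2 : (0 : K) ^ (3 ^ m + 1) = 0 := zero_pow (Nat.succ_ne_zero _)
  have z3 : (0 : K) ^ (2 * 3 ^ m + 1) = 0 := zero_pow (Nat.succ_ne_zero _)
  have n1 : (-1 : K) ^ (3 ^ m) = -1 := ho.neg_one_pow
  have n2 : (-1 : K) ^ (3 ^ m + 1) = 1 := by rw [pow_succ, n1]; ring
  have n3 : (-1 : K) ^ (2 * 3 ^ m + 1) = -1 := (odd_two_mul_add_one _).neg_one_pow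
  have two_eq : (2 : K) = -1 := by linear_combination h3'
  have cU001 : wordGL chevG2 hD (([(7, []), (6, []), (8, []), (9, one), (10, []), (11, one)] :
      List (ℕ × Poly)).map fun x => (x.1, eval (1 : K) 1 x.2)) ∈ twistedG2 K (3 ^ m) := by
    refine gen_mem chevG2 hD (g2Words K (3 ^ m)) _ ⟨0, 0, 1, Or.inl ?_⟩
    simp [reeWordU, g2a, g2b, g2ab, g2aab, g2aaab, g2aaabb, eval, evalM, one, z1, z2, z3]
  have cV222 : wordGL chevG2 hD (([(4, one), (5, one), (3, []), (2, two), (1, one), (0, one)] :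
      List (ℕ × Poly)).map fun x => (x.1, eval (1 : K) 1 x.2)) ∈ twistedG2 K (3 ^ m) := by
    refine gen_mem chevG2 hD (g2Words K (3 ^ m)) _ ⟨-1, -1, -1, Or.inr ?_⟩
    simp [reeWordV, reeWordU, ChevalleyDatum.negWord, g2a, g2b, g2ab, g2aab, g2aaab, g2aaabb, eval, evalM,
      one, two, n1, n2, n3]
    exact ⟨by decide, by decide, by decide, ⟨by decide, by norm_num⟩, by decide, by decide⟩
  have cU201 : wordGL chevG2 hD (([(7, mone), (6, mone), (8, one), (9, []), (10, []), (11, one)] :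
      List (ℕ × Poly)).map fun x => (x.1, eval (1 : K) 1 x.2)) ∈ twistedG2 K (3 ^ m) := by
    refine gen_mem chevG2 hD (g2Words K (3 ^ m)) _ ⟨-1, 0, 1, Or.inl ?_⟩
    simp [reeWordU, g2a, g2b, g2ab, g2aab, g2aaab, g2aaabb, eval, evalM, one, mone, z1, n1, n2, n3]
  have cT : wordGL chevG2 hD (wT.map fun x => (x.1, eval (1 : K) 1 x.2)) ∈ twistedG2 K (3 ^ m) := by
    refine gen_mem chevG2 hD (g2Words K (3 ^ m)) _ ⟨1, 0, 0, Or.inl ?_⟩
    simp [wT, reeWordU, g2a, g2b, g2ab, g2aab, g2aaab, g2aaabb, eval, evalM, one, z1]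
  have bA : nWordGL (F := K) chevG2 hD [0, 1, 0, 1, 0, 1] ∈ twistedG2 K (3 ^ m) := by
    apply block_mem chevG2 hD (twistedG2 K (3 ^ m)) 3 h3 [0, 1, 0, 1, 0, 1] wsA 1 1 chkA
    intro w hw
    simp only [wsA, List.mem_cons, List.not_mem_nil, or_false] at hw
    rcases hw with rfl | rfl | rfl
    · exact cU001
    · exact cV222
    · exact cU201
  have hn0 : nWordGL (F := K) chevG2 hD blocks.flatten ∈ twistedG2 K (3 ^ m) := bA
  obtain ⟨hN, hmap⟩ := w0_map (F := K) chevG2 hD wtG2 woG2 blocks.flatten w0c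
  have hm2 : (((-2 : ℤ)) : K) ≠ 0 := by
    have e : (((-2 : ℤ)) : K) = 1 := by
      push_cast
      linear_combination (-1 : K) * h3'
    rw [e]
    exact one_ne_zero
  apply twisted_core chevG2 hD (twistedG2 K (3 ^ m)) _ hn0 hN hmap
  intro k hk
  have hk' : k < 2 := hk
  interval_cases k
  · exact test_elem chevG2 hD _ 3 h3 wT 1 1 cT (by decide) 0 (by decide) ⟨0, by decide⟩ (-2) hm2 ent0
  · exact test_elem chevG2 hD _ 3 h3 wT 1 1 cT (by decide) 1 (by decide) ⟨1, by decide⟩ (-2) hm2 ent1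

end Cfsg.Agent.S1117
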