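import Cfsg.Statements.S0013
import Mathlib

set_option autoImplicit false
open Cfsg

namespace Cfsg.Agent.S0013

/-- In a finite p-group the Frattini subgroup is the smallest normal subgroup with elementary abelian quotient: it lies below any normal subgroup containing all commutators and all p-th powers. -/
theorem result {G : Type*} [Group G] [Finite G] (p : ℕ) [Fact p.Prime]
    (hG : IsPGroup p G) (N : Subgroup G) [N.Normal] (hcomm : commutator G ≤ N) (hpow : ∀ x : G, x ^ p ∈ N) :
    frattini G ≤ N := by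
  intro x hxF
  by_contra hxN
  obtain ⟨M, hNM, hMmax⟩ := (Set.toFinite {M : Subgroup G | N ≤ M ∧ x ∉ M}).exists_le_maximal
    (a := N) ⟨le_rfl, hxN⟩
  have hM1 : N ≤ M := hMmax.prop.1
  have hM2 : x ∉ M := hMmax.prop.2
  have hMn : M.Normal := Subgroup.Normal.of_commutator_le G (hcomm.trans hM1)
  have hmax : ∀ K : Subgroup G, M ≤ K → x ∉ K → K ≤ M := by
    intro K hMK hxK
    exact hMmax.le_of_ge (show K ∈ {M : Subgroup G | N ≤ M ∧ x ∉ M} from ⟨hM1.trans hMK, hxK⟩) hMK
  have hcoatom : IsCoatom M := by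
    refine ⟨fun h => hM2 (h ▸ Subgroup.mem_top x), ?_⟩
    intro K hK
    have hxK : x ∈ K := by
      by_contra hxK
      exact absurd (hmax K hK.le hxK) (not_le_of_gt hK)
    rw [eq_top_iff]
    intro y _
    by_cases hy : y ∈ M
    · exact hK.le hy
    · have hx' : x ∈ M ⊔ Subgroup.zpowers y := by
        by_contra hx'
        have := hmax _ le_sup_left hx'
        exact hy (this ((le_sup_right : Subgroup.zpowers y ≤ _) (Subgroup.mem_zpowers y)))
      have h2 : x ∈ ((M ⊔ Subgroup.zpowers y : Subgroup G) : Set G) := hx'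
      rw [Subgroup.normal_mul] at h2
      obtain ⟨m, hm, z, hz, hmz⟩ := Set.mem_mul.1 h2
      obtain ⟨k, rfl⟩ := Subgroup.mem_zpowers_iff.1 hz
      have hpk : ¬ (p : ℤ) ∣ k := by
        rintro ⟨j, rfl⟩
        apply hM2
        rw [← hmz]
        apply Subgroup.mul_mem _ hm
        rw [zpow_mul, zpow_natCast]
        exact Subgroup.zpow_mem _ (hM1 (hpow y)) _
      have hp : Prime (p : ℤ) := Nat.prime_iff_prime_int.1 (Fact.out : p.Prime)
      obtain ⟨u, v, huv⟩ := (hp.coprime_iff_not_dvd.2 hpk)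
      have hyk : y ^ k ∈ K := by
        have hyk0 : y ^ k = m⁻¹ * x := eq_inv_mul_of_mul_eq hmz
        rw [hyk0]
        exact K.mul_mem (K.inv_mem (hK.le hm)) hxK
      have hy1 : y = (y ^ p) ^ u * (y ^ k) ^ v := by
        conv_lhs => rw [← zpow_one y, ← huv]
        rw [zpow_add, mul_comm u, zpow_mul, mul_comm v, zpow_mul, zpow_natCast]
      rw [hy1]
      exact K.mul_mem (K.zpow_mem (hK.le (hM1 (hpow y))) _) (K.zpow_mem hyk _)
  exact hM2 (frattini_le_coatom hcoatom hxF)

end Cfsg.Agent.S0013
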