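import Cfsg.Statements.S0014
import Cfsg.Agent.S0012

set_option autoImplicit false
open Cfsg

namespace Cfsg.Agent.S0014

theorem step {G : Type*} [Group G] [Finite G] [DecidableEq G] (p : ℕ) [Fact p.Prime]
    (hG : IsPGroup p G) (S : Finset G) (a : G) :
    (a ∈ Subgroup.closure (S : Set G) ⊔ frattini G →
      (frattini G).relIndex (Subgroup.closure ((insert a S : Finset G) : Set G) ⊔ frattini G) =
      (frattini G).relIndex (Subgroup.closure (S : Set G) ⊔ frattini G)) ∧
    (a ∉ Subgroup.closure (S : Set G) ⊔ frattini G →
      (frattini G).relIndex (Subgroup.closure ((insert a S : Finset G) : Set G) ⊔ frattini G) =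
      (frattini G).relIndex (Subgroup.closure (S : Set G) ⊔ frattini G) * p) := by
  obtain ⟨hcomm, hpow⟩ := Cfsg.Agent.S0012.result p hG
  have hΦK : frattini G ≤ Subgroup.closure (S : Set G) ⊔ frattini G := le_sup_right
  have hKn : (Subgroup.closure (S : Set G) ⊔ frattini G).Normal :=
    Subgroup.Normal.of_commutator_le G (hcomm.trans hΦK)
  have h1 : Subgroup.closure ((insert a S : Finset G) : Set G) ⊔ frattini G
      = Subgroup.zpowers a ⊔ (Subgroup.closure (S : Set G) ⊔ frattini G) := by
    rw [Finset.coe_insert, Set.insert_eq, Subgroup.closure_union, Subgroup.zpowers_eq_closure,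
      sup_assoc]
  rw [h1, ← Subgroup.relIndex_mul_relIndex (frattini G) _ _ hΦK le_sup_right,
    Subgroup.relIndex_sup_right (K := Subgroup.closure (S : Set G) ⊔ frattini G)
      (H := Subgroup.zpowers a)]
  constructor
  · intro ha
    have : (Subgroup.closure (S : Set G) ⊔ frattini G).relIndex (Subgroup.zpowers a) = 1 := by
      rw [Subgroup.relIndex_eq_one]; rwa [Subgroup.zpowers_le]
    rw [this, mul_one]
  · intro ha
    have hd : (Subgroup.closure (S : Set G) ⊔ frattini G).relIndex (Subgroup.zpowers a) ∣ p := by
      have h2 := Subgroup.relIndex_ker (K := Subgroup.zpowers a)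
        (QuotientGroup.mk' (Subgroup.closure (S : Set G) ⊔ frattini G))
      rw [QuotientGroup.ker_mk'] at h2
      rw [h2, MonoidHom.map_zpowers, Nat.card_zpowers]
      apply orderOf_dvd_of_pow_eq_one
      rw [← map_pow]
      exact (QuotientGroup.eq_one_iff _).2 (hΦK (hpow a))
    rcases (Nat.dvd_prime (Fact.out : p.Prime)).1 hd with h | h
    · exfalso; apply ha
      rw [Subgroup.relIndex_eq_one, Subgroup.zpowers_le] at h; exact h
    · rw [h]

theorem upper {G : Type*} [Group G] [Finite G] (p : ℕ) [Fact p.Prime] (hG : IsPGroup p G)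
    (T : Finset G) :
    (frattini G).relIndex (Subgroup.closure (T : Set G) ⊔ frattini G) ∣ p ^ T.card := by
  classical
  induction T using Finset.induction_on with
  | empty =>
    simp
  | insert a S haS ih =>
    rw [Finset.card_insert_of_notMem haS, pow_succ]
    by_cases ha : a ∈ Subgroup.closure (S : Set G) ⊔ frattini G
    · rw [(step p hG S a).1 ha]
      exact Dvd.dvd.mul_right ih p
    · rw [(step p hG S a).2 ha]
      exact Nat.mul_dvd_mul ih dvd_rfl

theorem indep {G : Type*} [Group G] [Finite G] [DecidableEq G] (p : ℕ) [Fact p.Prime]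
    (hG : IsPGroup p G) (T : Finset G)
    (hT : ∀ t ∈ T, t ∉ Subgroup.closure ((T.erase t : Finset G) : Set G) ⊔ frattini G) :
    (frattini G).relIndex (Subgroup.closure (T : Set G) ⊔ frattini G) = p ^ T.card := by
  induction T using Finset.induction_on with
  | empty =>
    simp
  | insert a S haS ih =>
    rw [Finset.card_insert_of_notMem haS, pow_succ]
    have ha : a ∉ Subgroup.closure (S : Set G) ⊔ frattini G := by
      have := hT a (Finset.mem_insert_self a S)
      rwa [Finset.erase_insert haS] at this
    rw [(step p hG S a).2 ha, ih]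
    intro s hs hmem
    apply hT s (Finset.mem_insert_of_mem hs)
    have hsub : ((S.erase s : Finset G) : Set G) ⊆ (((insert a S).erase s : Finset G) : Set G) := by
      intro x hx
      simp only [Finset.coe_erase, Finset.coe_insert, Set.mem_sdiff, Set.mem_insert_iff,
        Set.mem_singleton_iff, Finset.mem_coe] at hx ⊢
      exact ⟨Or.inr hx.1, hx.2⟩
    exact (sup_le_sup_right (Subgroup.closure_mono hsub) _) hmem

/-- Burnside's basis Theorem: in a finite p-group whose Frattini quotient has order p ^ n, every generating set contains n elements that already generate, and no set with fewer than n elements generates. -/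
theorem result {G : Type*} [Group G] [Finite G] (p n : ℕ) [Fact p.Prime]
    (hG : IsPGroup p G) (hn : (frattini G).index = p ^ n) :
    (∀ S : Finset G, Subgroup.closure (S : Set G) = ⊤ → ∃ T : Finset G, T ⊆ S ∧ T.card = n ∧ Subgroup.closure (T : Set G) = ⊤) ∧
    (∀ T : Finset G, Subgroup.closure (T : Set G) = ⊤ → n ≤ T.card) := by
  classical
  have hp : p.Prime := Fact.out
  have key : ∀ T : Finset G, Subgroup.closure (T : Set G) = ⊤ →
      (frattini G).relIndex (Subgroup.closure (T : Set G) ⊔ frattini G) = p ^ n := by
    intro T hT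
    rw [hT, top_sup_eq, Subgroup.relIndex_top_right, hn]
  constructor
  · intro S hS
    -- minimal generating subset
    have hex : ∃ k : ℕ, ∃ T : Finset G, T ⊆ S ∧ T.card = k ∧ Subgroup.closure (T : Set G) = ⊤ :=
      ⟨S.card, S, Finset.Subset.refl S, rfl, hS⟩
    obtain ⟨T, hTS, hTk, hTgen⟩ := Nat.find_spec hex
    have hmin := fun m (hm : m < Nat.find hex) => Nat.find_min hex hm
    refine ⟨T, hTS, ?_, hTgen⟩
    have hind : ∀ t ∈ T, t ∉ Subgroup.closure ((T.erase t : Finset G) : Set G) ⊔ frattini G := by
      intro t ht hmem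
      apply hmin (T.erase t).card
      · rw [← hTk]; exact Finset.card_erase_lt_of_mem ht
      · refine ⟨T.erase t, (Finset.erase_subset t T).trans hTS, rfl, ?_⟩
        apply frattini_nongenerating
        rw [eq_top_iff, ← hTgen, Subgroup.closure_le]
        intro x hx
        by_cases hxt : x = t
        · rw [hxt]; exact hmem
        · exact (le_sup_left : Subgroup.closure ((T.erase t : Finset G) : Set G) ≤ _)
            (Subgroup.subset_closure (Finset.mem_coe.2 (Finset.mem_erase.2 ⟨hxt, hx⟩)))
    have h1 := indep p hG T hind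
    rw [key T hTgen] at h1
    exact (Nat.pow_right_injective hp.two_le h1).symm
  · intro T hT
    have h1 := upper p hG T
    rw [key T hT] at h1
    exact (Nat.pow_dvd_pow_iff_le_right hp.one_lt).1 h1

end Cfsg.Agent.S0014
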