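import Cfsg.Statements.S0034
import Mathlib

set_option autoImplicit false
open Pointwise
open Cfsg

namespace Cfsg.Agent.S0034

theorem mem_conj {G : Type*} [Group G] (H : Subgroup G) (g x : G) :
    x ∈ MulAut.conj g • H ↔ g⁻¹ * x * g ∈ H := by
  rw [Subgroup.mem_pointwise_smul_iff_inv_smul_mem]
  simp only [MulAut.smul_def, MulAut.conj_inv_apply]

theorem card_ne {α : Type*} [Finite α] (a : α) : Nat.card {x : α // x ≠ a} = Nat.card α - 1 := by
  classical
  have h := Nat.card_congr (Equiv.optionSubtypeNe a)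
  rw [Finite.card_option] at h
  omega

/-- the key property: an element of `H` conjugated into `H` by `g` is trivial unless `g ∈ H` -/
theorem key {G : Type*} [Group G] (H : Subgroup G) (hH : Cfsg.IsFrobeniusComplement H)
    (g h : G) (hh : h ∈ H) (hg : g * h * g⁻¹ ∈ H) (h1 : h ≠ 1) : g ∈ H := by
  by_contra hgH
  have hg' : g⁻¹ ∉ H := fun h' => hgH (by simpa using H.inv_mem h')
  have h2 := hH.2.2 g⁻¹ hg'
  have h3 : h ∈ H ⊓ MulAut.conj g⁻¹ • H := by
    refine Subgroup.mem_inf.2 ⟨hh, ?_⟩
    rw [mem_conj]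
    simpa using hg
  rw [h2] at h3
  exact h1 (Subgroup.mem_bot.1 h3)

noncomputable def phi {G : Type*} [Group G] (H : Subgroup G) :
    (G ⧸ H) × {h : H // h ≠ 1} → G := fun x => x.1.out * (x.2.1 : G) * (x.1.out)⁻¹

theorem phi_injective {G : Type*} [Group G] (H : Subgroup G) (hH : Cfsg.IsFrobeniusComplement H) :
    Function.Injective (phi H) := by
  rintro ⟨q, h, hh⟩ ⟨q', h', hh'⟩ heq
  simp only [phi] at heq
  have hne : (h : G) ≠ 1 := fun e => hh (Subtype.ext e)
  have hmem : (q'.out)⁻¹ * q.out ∈ H := by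
    apply key H hH _ (h : G) h.2 _ hne
    have e : (q'.out)⁻¹ * q.out * (h : G) * ((q'.out)⁻¹ * q.out)⁻¹ =
        (q'.out)⁻¹ * (q.out * (h : G) * (q.out)⁻¹) * q'.out := by group
    rw [e, heq]
    have e2 : (q'.out)⁻¹ * (q'.out * (h' : G) * (q'.out)⁻¹) * q'.out = (h' : G) := by group
    rw [e2]
    exact h'.2
  have hq : q = q' := by
    rw [← QuotientGroup.out_eq' q, ← QuotientGroup.out_eq' q']
    exact (QuotientGroup.eq.2 hmem).symm
  subst hq
  have hh2 : (h : G) = (h' : G) := by
    have := congrArg (fun x => (q.out)⁻¹ * x * q.out) heq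
    simpa [mul_assoc] using this
  have hh3 : h = h' := Subtype.ext hh2
  subst hh3
  rfl

theorem range_phi {G : Type*} [Group G] (H : Subgroup G) :
    Set.range (phi H) = (Cfsg.frobeniusKernel H)ᶜ := by
  ext x
  simp only [Set.mem_range, Set.mem_compl_iff, Cfsg.frobeniusKernel, Set.mem_ofPred_eq, not_or,
    not_forall, not_not]
  constructor
  · rintro ⟨⟨q, h, hh⟩, rfl⟩
    simp only [phi]
    refine ⟨?_, q.out, ?_⟩
    · intro e
      apply hh
      apply Subtype.ext
      have : (h : G) = (q.out)⁻¹ * (q.out * (h : G) * (q.out)⁻¹) * q.out := by group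
      rw [this, e]
      simp
    · rw [mem_conj]
      have : (q.out)⁻¹ * (q.out * (h : G) * (q.out)⁻¹) * q.out = (h : G) := by group
      rw [this]
      exact h.2
  · rintro ⟨hx1, g, hg⟩
    rw [mem_conj] at hg
    have hq : ((QuotientGroup.mk g : G ⧸ H).out)⁻¹ * g ∈ H := by
      have := QuotientGroup.out_eq' (QuotientGroup.mk g : G ⧸ H)
      exact QuotientGroup.eq.1 this
    obtain ⟨h₀, hh₀⟩ : ∃ h₀ : G, h₀ ∈ H ∧ g = (QuotientGroup.mk g : G ⧸ H).out * h₀ :=
      ⟨_, hq, by group⟩
    refine ⟨⟨QuotientGroup.mk g, ⟨⟨h₀ * (g⁻¹ * x * g) * h₀⁻¹,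
      H.mul_mem (H.mul_mem hh₀.1 hg) (H.inv_mem hh₀.1)⟩, ?_⟩⟩, ?_⟩
    · intro e
      have e' := congrArg Subtype.val e
      simp only [Subgroup.coe_one] at e'
      apply hx1
      have : x = g * h₀⁻¹ * (h₀ * (g⁻¹ * x * g) * h₀⁻¹) * h₀ * g⁻¹ := by group
      rw [this, e']
      group
    · simp only [phi]
      have e : (QuotientGroup.mk g : G ⧸ H).out = g * h₀⁻¹ := by
        rw [eq_mul_inv_iff_mul_eq]; exact hh₀.2.symm
      rw [e]
      group

noncomputable instance actX {G : Type*} [Group G] (H : Subgroup G) :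
    MulAction H {q : G ⧸ H // q ≠ ((1 : G) : G ⧸ H)} where
  smul h q := ⟨(h : G) • q.1, by
    intro e
    apply q.2
    have h1 : q.1 = (h : G)⁻¹ • ((h : G) • q.1) := by rw [inv_smul_smul]
    rw [h1, e, MulAction.Quotient.smul_mk, QuotientGroup.eq]
    simpa using h.2⟩
  one_smul q := Subtype.ext (one_smul G q.1)
  mul_smul a b q := Subtype.ext (mul_smul (a : G) (b : G) q.1)

theorem stab_bot {G : Type*} [Group G] (H : Subgroup G) (hH : Cfsg.IsFrobeniusComplement H)
    (q : {q : G ⧸ H // q ≠ ((1 : G) : G ⧸ H)}) : MulAction.stabilizer H q = ⊥ := by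
  rw [eq_bot_iff]
  intro h hh
  rw [Subgroup.mem_bot]
  rw [MulAction.mem_stabilizer_iff] at hh
  obtain ⟨q, hq⟩ := q
  obtain ⟨g, rfl⟩ := QuotientGroup.mk_surjective q
  have hg : g ∉ H := by
    intro hg
    apply hq
    rw [QuotientGroup.eq]
    simpa using H.inv_mem hg
  have h1 : ((h : G) • (QuotientGroup.mk g : G ⧸ H)) = QuotientGroup.mk g := congrArg Subtype.val hh
  rw [MulAction.Quotient.smul_mk, QuotientGroup.eq] at h1
  have h2 : g⁻¹ * (h : G)⁻¹ * g⁻¹⁻¹ ∈ H := by
    have e : g⁻¹ * (h : G)⁻¹ * g⁻¹⁻¹ = ((h : G) • g)⁻¹ * g := by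
      simp [smul_eq_mul, mul_assoc]
    rw [e]; exact h1
  by_contra hne
  have h3 : (h : G)⁻¹ ≠ 1 := by
    intro e
    apply hne
    apply Subtype.ext
    simpa using e
  have h4 := key H hH g⁻¹ (h : G)⁻¹ (H.inv_mem h.2) h2 h3
  exact hg (by simpa using H.inv_mem h4)

/-- For a Frobenius complement H, the set of elements lying in no conjugate of H, together with 1, has exactly as many elements as the index of H, and that index is congruent to 1 modulo the order of H. -/
theorem result {G : Type*} [Group G] [Finite G] (H : Subgroup G) (hH : Cfsg.IsFrobeniusComplement H) :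
    Nat.card (Cfsg.frobeniusKernel H) = H.index ∧ H.index % Nat.card H = 1 % Nat.card H := by
  classical
  constructor
  · have h1 : Nat.card (Cfsg.frobeniusKernel H) + Nat.card ((Cfsg.frobeniusKernel H)ᶜ : Set G) =
        Nat.card G := by
      rw [← Nat.card_sum]
      exact Nat.card_congr (Equiv.Set.sumCompl _)
    rw [← range_phi, Nat.card_range_of_injective (phi_injective H hH), Nat.card_prod, card_ne,
      ← Subgroup.index_eq_card, ← Subgroup.index_mul_card H] at h1
    have hpos : 0 < Nat.card H := Nat.card_pos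
    have h2 : H.index * Nat.card H = H.index + H.index * (Nat.card H - 1) := by
      have : Nat.card H = 1 + (Nat.card H - 1) := by omega
      conv_lhs => rw [this, mul_add, mul_one]
    rw [h2] at h1
    exact Nat.add_right_cancel h1
  · have e := MulAction.selfEquivOrbitsQuotientProd (stab_bot H hH)
    have h1 := Nat.card_congr e
    rw [Nat.card_prod, card_ne, ← Subgroup.index_eq_card] at h1
    have hpos : H.index ≠ 0 := Subgroup.index_ne_zero_of_finite
    have h2 : H.index = 1 + Nat.card (Quotient (MulAction.orbitRel H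
        {q : G ⧸ H // q ≠ ((1 : G) : G ⧸ H)})) * Nat.card H := by omega
    rw [h2, Nat.add_mul_mod_self_right]

end Cfsg.Agent.S0034
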