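import Mathlib
import Cfsg.Statements.S0041
import Cfsg.Agent.S0055
import Cfsg.Agent.Lib.Lead.NonCyclic
import Cfsg.Agent.Lib.Helper10.Coprime2

set_option autoImplicit false
set_option linter.style.haveILetI false
set_option linter.unusedSectionVars false
open Cfsg
open scoped IsMulCommutative
open scoped commutatorElement

namespace Cfsg.Agent.S0041

open Cfsg.Agent.S0055 (cj cj_mul)

section
variable {G : Type*} [Group G] [Finite G] (A V : Subgroup G) [IsMulCommutative V]
  (hAV : A ≤ Subgroup.normalizer (V : Set G))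

theorem cj_one (v : V) : cj A V hAV 1 v = v := by
  ext
  simp [cj]

/-- the norm of `v` over the powers of a fixed-point-free element `c` with `c ^ p = 1`. -/
theorem norm_pow (hfpf : ∀ a : A, a ≠ 1 → ∀ v : V, cj A V hAV a v = v → v = 1)
    (c : A) (hc1 : c ≠ 1) (p : ℕ) (hcp : c ^ p = 1) (v : V) :
    ∏ i ∈ Finset.range p, cj A V hAV (c ^ i) v = 1 := by
  apply hfpf c hc1
  rw [map_prod]
  have h1 : ∀ i, cj A V hAV c (cj A V hAV (c ^ i) v) = cj A V hAV (c ^ (i + 1)) v := by
    intro i
    rw [cj_mul, pow_succ']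
  simp only [h1]
  have h2 := Finset.prod_range_succ (fun i => cj A V hAV (c ^ i) v) p
  have h3 := Finset.prod_range_succ' (fun i => cj A V hAV (c ^ i) v) p
  rw [h2] at h3
  simp only [hcp, pow_zero] at h3
  exact (mul_right_cancel h3).symm

/-- the norm over a nontrivial subgroup `Q` of `A` is trivial. -/
theorem theta_Q (hfpf : ∀ a : A, a ≠ 1 → ∀ v : V, cj A V hAV a v = v → v = 1)
    (Q : Subgroup A) (hQ : Q ≠ ⊥) [Fintype Q] (w : V) :
    ∏ u : Q, cj A V hAV (u : A) w = 1 := by
  obtain ⟨b, hb⟩ := (Subgroup.ne_bot_iff_exists_ne_one).1 hQ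
  apply hfpf (b : A) (fun h => hb (Subtype.ext h))
  rw [map_prod]
  exact Fintype.prod_equiv (Equiv.mulLeft b) _ _ (fun u => by rw [cj_mul]; rfl)

theorem pow_card_eq_one (hfpf : ∀ a : A, a ≠ 1 → ∀ v : V, cj A V hAV a v = v → v = 1)
    (Q : Subgroup A) [Q.Normal] (hQ : Q ≠ ⊥) (p : ℕ) (hp : p.Prime) (y : A)
    (hy : ∀ u ∈ Q, (u * y) ^ p = 1 ∧ u * y ≠ 1) (v : V) : v ^ Nat.card Q = 1 := by
  haveI := Fintype.ofFinite Q
  have h1 : ∏ u : Q, ∏ i ∈ Finset.range p, cj A V hAV (((u : A) * y) ^ i) v = 1 :=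
    Finset.prod_eq_one (fun u _ => norm_pow A V hAV hfpf _ (hy u u.2).2 p (hy u u.2).1 v)
  rw [Finset.prod_comm] at h1
  obtain ⟨p', rfl⟩ : ∃ p', p = p' + 1 := ⟨p - 1, by have := hp.pos; omega⟩
  rw [Finset.prod_range_succ'] at h1
  have h2 : ∀ i ∈ Finset.range p', ∏ u : Q, cj A V hAV (((u : A) * y) ^ (i + 1)) v = 1 := by
    intro i hi
    have hi' : i + 1 < p' + 1 := by simpa using hi
    have hmem : ∀ u : Q, ((u : A) * y) ^ (i + 1) * (y ^ (i + 1))⁻¹ ∈ Q := by
      intro u
      rw [← QuotientGroup.eq_one_iff]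
      have hu : ((u : A) : A ⧸ Q) = 1 := (QuotientGroup.eq_one_iff _).2 u.2
      simp only [QuotientGroup.mk_mul, QuotientGroup.mk_pow, QuotientGroup.mk_inv, hu, one_mul,
        mul_inv_cancel]
    have hinj : Function.Injective (fun u : Q => (⟨_, hmem u⟩ : Q)) := by
      intro u u' h
      have h3 : ((u : A) * y) ^ (i + 1) = ((u' : A) * y) ^ (i + 1) := by
        have := congrArg (fun z : Q => (z : A)) h
        exact mul_right_cancel this
      have hcop : Nat.Coprime (i + 1) (p' + 1) :=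
        Nat.Coprime.symm ((Nat.Prime.coprime_iff_not_dvd hp).2
          (Nat.not_dvd_of_pos_of_lt (Nat.succ_pos i) hi'))
      obtain ⟨m, -, hm⟩ := Nat.exists_mul_mod_eq_one_of_coprime hcop hp.one_lt
      have h4 : ∀ c : A, c ^ (p' + 1) = 1 → c = (c ^ (i + 1)) ^ m := by
        intro c hc
        rw [← pow_mul, pow_eq_pow_mod _ hc, hm, pow_one]
      have h5 := h4 _ (hy u u.2).1
      have h6 := h4 _ (hy u' u'.2).1
      rw [h3, ← h6] at h5
      exact Subtype.ext (mul_right_cancel h5)
    have hbij : Function.Bijective (fun u : Q => (⟨_, hmem u⟩ : Q)) :=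
      Finite.injective_iff_bijective.1 hinj
    have h7 := hbij.prod_comp (fun u : Q => cj A V hAV ((u : A) * y ^ (i + 1)) v)
    have h8 : ∀ u : Q, ((⟨_, hmem u⟩ : Q) : A) * y ^ (i + 1) = ((u : A) * y) ^ (i + 1) := by
      intro u
      simp
    simp only [h8] at h7
    rw [h7]
    have h9 : ∀ u : Q, cj A V hAV ((u : A) * y ^ (i + 1)) v
        = cj A V hAV (u : A) (cj A V hAV (y ^ (i + 1)) v) := by
      intro u
      rw [cj_mul]
    simp only [h9]
    exact theta_Q A V hAV hfpf Q hQ _
  rw [Finset.prod_eq_one h2, one_mul] at h1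
  simpa [cj_one, Finset.prod_const, Finset.card_univ, Nat.card_eq_fintype_card] using h1

/-- an element of order `r` cannot act fixed-point-freely on a nontrivial abelian group of
exponent `r`. -/
theorem no_fpf (hfpf : ∀ a : A, a ≠ 1 → ∀ v : V, cj A V hAV a v = v → v = 1)
    (hV : V ≠ ⊥) (r : ℕ) [Fact r.Prime] (hpow : ∀ v : V, v ^ r = 1)
    (a : A) (ha1 : a ≠ 1) (har : a ^ r = 1) : False := by
  have hVp : IsPGroup r V := fun v => ⟨1, by rw [pow_one]; exact hpow v⟩
  have har' : (a : G) ^ r = 1 := by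
    have := congrArg (fun z : A => (z : G)) har
    simpa using this
  have hP : IsPGroup r (Subgroup.zpowers (a : G)) := by
    apply IsPGroup.of_card (n := 1)
    rw [Nat.card_zpowers, pow_one]
    exact orderOf_eq_prime har' (fun h => ha1 (Subtype.ext h))
  have hPV : Subgroup.zpowers (a : G) ≤ Subgroup.normalizer (V : Set G) := by
    rw [Subgroup.zpowers_le]
    exact hAV a.2
  apply Cfsg.Agent.Lib.Helper10.Coprime.not_le_commutator_of_pgroups V _ hVp hP hPV hV
  have hinj : Function.Injective (fun v : V => v * (cj A V hAV a v)⁻¹) := by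
    intro v w h
    have h' : v / cj A V hAV a v = w / cj A V hAV a w := by
      simpa [div_eq_mul_inv] using h
    have h'' := div_eq_div_iff_mul_eq_mul.1 h'
    have h1 : cj A V hAV a (v * w⁻¹) = v * w⁻¹ := by
      rw [map_mul, map_inv, ← div_eq_mul_inv, ← div_eq_mul_inv, div_eq_div_iff_mul_eq_mul,
        h'', mul_comm]
    have := hfpf a ha1 _ h1
    exact mul_inv_eq_one.1 this
  have hsurj := Finite.injective_iff_surjective.1 hinj
  intro w hw
  obtain ⟨v, hv⟩ := hsurj ⟨w, hw⟩
  have h2 : w = ⁅(v : G), (a : G)⁆ := by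
    have := congrArg (fun z : V => (z : G)) hv
    simp only [cj, Subgroup.coe_mul, Subgroup.coe_inv, MonoidHom.coe_mk, OneHom.coe_mk] at this
    rw [← this, commutatorElement_def]
    group
  rw [h2]
  exact Subgroup.commutator_mem_commutator v.2 (Subgroup.mem_zpowers _)

theorem pq_case (hfpf : ∀ a : A, a ≠ 1 → ∀ v : V, cj A V hAV a v = v → v = 1)
    (hV : V ≠ ⊥) (hcyc : ¬ IsCyclic A)
    (p q : ℕ) (hp : p.Prime) (hq : q.Prime) (hpq : p < q) (hcard : Nat.card A = p * q) :
    False := by
  haveI : Fact q.Prime := ⟨hq⟩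
  haveI : Fact p.Prime := ⟨hp⟩
  have hQcard : ∀ Q : Sylow q A, Nat.card Q = q := by
    intro Q
    rw [Sylow.card_eq_multiplicity, hcard, Nat.factorization_mul hp.ne_zero hq.ne_zero]
    simp [hp.factorization, hq.factorization, hpq.ne']
  have hsub : Subsingleton (Sylow q A) := by
    obtain ⟨Q⟩ : Nonempty (Sylow q A) := inferInstance
    have h1 := card_sylow_modEq_one q A
    have h2 := Q.card_dvd_index
    have hidx : (Q : Subgroup A).index = p := by
      have := (Q : Subgroup A).card_mul_index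
      rw [hQcard Q, hcard, mul_comm p q] at this
      exact Nat.eq_of_mul_eq_mul_left hq.pos this
    rw [hidx] at h2
    have h3 : Nat.card (Sylow q A) = 1 := by
      rcases (Nat.dvd_prime hp).1 h2 with h | h
      · exact h
      · rw [h] at h1
        exfalso
        have : p % q = 1 % q := h1
        rw [Nat.mod_eq_of_lt hpq, Nat.mod_eq_of_lt hq.one_lt] at this
        exact hp.one_lt.ne' this
    exact (Nat.card_eq_one_iff_unique.1 h3).1
  obtain ⟨Q⟩ : Nonempty (Sylow q A) := inferInstance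
  haveI : (Q : Subgroup A).Normal := Sylow.normal_of_subsingleton Q
  have hQc : Nat.card (Q : Subgroup A) = q := hQcard Q
  have hQbot : (Q : Subgroup A) ≠ ⊥ := by
    intro h
    rw [h, Subgroup.card_bot] at hQc
    exact hq.one_lt.ne hQc
  obtain ⟨y, hy⟩ : ∃ y : A, y ∉ (Q : Subgroup A) := by
    by_contra hcon
    push Not at hcon
    have h1 : (Q : Subgroup A) = ⊤ := eq_top_iff.2 (fun x _ => hcon x)
    rw [h1, Subgroup.card_top, hcard] at hQc
    have : p * q = 1 * q := by rw [one_mul]; exact hQc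
    exact hp.one_lt.ne' (Nat.eq_of_mul_eq_mul_right hq.pos this)
  have hy' : ∀ u ∈ (Q : Subgroup A), (u * y) ^ p = 1 ∧ u * y ≠ 1 := by
    intro u hu
    have hc : u * y ∉ (Q : Subgroup A) := by
      intro h
      apply hy
      have := (Q : Subgroup A).mul_mem ((Q : Subgroup A).inv_mem hu) h
      rwa [inv_mul_cancel_left] at this
    have hc1 : u * y ≠ 1 := fun h => hc (h ▸ (Q : Subgroup A).one_mem)
    refine ⟨?_, hc1⟩
    have hd : orderOf (u * y) ∣ p * q := hcard ▸ orderOf_dvd_natCard _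
    obtain ⟨d1, d2, hd1, hd2, hd12⟩ := (Nat.dvd_mul).1 hd
    rcases (Nat.dvd_prime hp).1 hd1 with e1 | e1 <;>
      rcases (Nat.dvd_prime hq).1 hd2 with e2 | e2 <;> rw [e1, e2] at hd12
    · exact absurd (orderOf_eq_one_iff.1 (by simpa using hd12.symm)) hc1
    · exfalso
      apply hc
      have hzp : IsPGroup q (Subgroup.zpowers (u * y)) :=
        IsPGroup.of_card (n := 1) (by rw [Nat.card_zpowers, ← hd12]; simp)
      obtain ⟨Q', hQ'⟩ := hzp.exists_le_sylow
      rw [Subsingleton.elim Q' Q] at hQ'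
      exact hQ' (Subgroup.mem_zpowers _)
    · rw [mul_one] at hd12
      rw [hd12]
      exact pow_orderOf_eq_one _
    · exact absurd (isCyclic_of_orderOf_eq_card (u * y) (by rw [← hd12, hcard])) hcyc
  have hpow : ∀ v : V, v ^ q = 1 := fun v =>
    hQc ▸ pow_card_eq_one A V hAV hfpf (Q : Subgroup A) hQbot p hp y hy' v
  obtain ⟨a, ha⟩ := (Subgroup.ne_bot_iff_exists_ne_one).1 hQbot
  have haq : (a : A) ^ q = 1 := by
    have h1 : a ^ Nat.card (Q : Subgroup A) = 1 := pow_card_eq_one'
    rw [hQc] at h1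
    have := congrArg (fun z : (Q : Subgroup A) => (z : A)) h1
    simpa using this
  exact no_fpf A V hAV hfpf hV q hpow a (fun h => ha (Subtype.ext h)) haq

end

/-- A group acting on a nontrivial abelian group so that no nonidentity element has a nonidentity fixed point is cyclic, provided it is abelian or its order is a product of two (possibly equal) primes. -/
theorem result {G : Type*} [Group G] [Finite G] (A V : Subgroup G) [IsMulCommutative V]
    (hV : V ≠ ⊥) (hAV : A ≤ Subgroup.normalizer (V : Set G)) (hfpf : ∀ a ∈ A, a ≠ 1 → V ⊓ Subgroup.centralizer {a} = ⊥)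
    (hA : IsMulCommutative A ∨ ∃ p q : ℕ, p.Prime ∧ q.Prime ∧ Nat.card A = p * q) : IsCyclic A := by
  by_contra hcyc
  have hfpf' : ∀ a : A, a ≠ 1 → ∀ v : V, cj A V hAV a v = v → v = 1 := by
    intro a ha v hv
    have h1 : (v : G) ∈ V ⊓ Subgroup.centralizer {(a : G)} := by
      refine Subgroup.mem_inf.2 ⟨v.2, ?_⟩
      rw [Subgroup.mem_centralizer_iff]
      intro h hh
      rw [Set.mem_singleton_iff] at hh
      subst hh
      have := congrArg (fun z : V => (z : G)) hv
      simp only [cj, MonoidHom.coe_mk, OneHom.coe_mk] at this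
      calc (a : G) * (v : G) = ((a : G) * (v : G) * (a : G)⁻¹) * (a : G) := by group
        _ = (v : G) * (a : G) := by rw [this]
    rw [hfpf a a.2 (fun h => ha (Subtype.ext h)), Subgroup.mem_bot] at h1
    exact Subtype.ext h1
  have hab : IsMulCommutative A → False := by
    intro hA'
    obtain ⟨r, hr, a, b, har, hbr, ha1, hab⟩ :=
      Cfsg.Agent.Lib.Lead.NonCyclic.exists_prime_pair_comm hcyc
    haveI : Fact r.Prime := ⟨hr⟩
    have hQ : Subgroup.zpowers a ≠ ⊥ := by
      rw [Ne, Subgroup.zpowers_eq_bot]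
      exact ha1
    have hcardQ : Nat.card (Subgroup.zpowers a) = r := by
      rw [Nat.card_zpowers]
      exact orderOf_eq_prime har ha1
    have hy : ∀ u ∈ Subgroup.zpowers a, (u * b) ^ r = 1 ∧ u * b ≠ 1 := by
      intro u hu
      obtain ⟨k, rfl⟩ := Subgroup.mem_zpowers_iff.1 hu
      constructor
      · rw [mul_pow, hbr, mul_one, ← zpow_natCast, ← zpow_mul, mul_comm, zpow_mul, zpow_natCast,
          har, one_zpow]
      · intro h
        apply hab
        have : b = (a ^ k)⁻¹ := eq_inv_of_mul_eq_one_right h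
        rw [this]
        exact Subgroup.inv_mem _ hu
    have hpow : ∀ v : V, v ^ r = 1 := fun v =>
      hcardQ ▸ pow_card_eq_one A V hAV hfpf' _ hQ r hr b hy v
    exact no_fpf A V hAV hfpf' hV r hpow a ha1 har
  rcases hA with hA | ⟨p, q, hp, hq, hcard⟩
  · exact hab hA
  · rcases lt_trichotomy p q with h | h | h
    · exact pq_case A V hAV hfpf' hV hcyc p q hp hq h hcard
    · subst h
      haveI : Fact p.Prime := ⟨hp⟩
      exact hab (IsPGroup.isMulCommutative_of_card_eq_prime_sq (by rw [hcard, sq]))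
    · exact pq_case A V hAV hfpf' hV hcyc q p hq hp h (by rw [hcard, mul_comm])

end Cfsg.Agent.S0041
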