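import Cfsg.Statements.S0066
import Cfsg.Agent.S0538
import Cfsg.Agent.Lib.Helper10.Coprime
import Mathlib

set_option autoImplicit false
open Cfsg

namespace Cfsg.Agent.S0066

open scoped Pointwise
open Cfsg.Agent.Lib.Helper10.SZ Cfsg.Agent.Lib.Helper10.Coprime

/-- Relative subnormality inside a fixed ambient group. -/
inductive RSub {G : Type*} [Group G] : Subgroup G → Subgroup G → Prop
  | refl (H : Subgroup G) : RSub H H
  | step (S K H : Subgroup G) : S ≤ K → K ≤ Subgroup.normalizer (S : Set G) → RSub K H → RSub S H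

section basic

variable {G : Type*} [Group G]

theorem RSub.le {S H : Subgroup G} (h : RSub S H) : S ≤ H := by
  induction h with
  | refl H => exact le_rfl
  | step S K H hSK _ _ ih => exact hSK.trans ih

theorem RSub.trans {S K H : Subgroup G} (h1 : RSub S K) (h2 : RSub K H) : RSub S H := by
  induction h1 with
  | refl H => exact h2
  | step S K' K hSK hKN _ ih => exact RSub.step S K' H hSK hKN (ih h2)

theorem RSub.inf {S H : Subgroup G} (h : RSub S H) (L : Subgroup G) : RSub (S ⊓ L) (H ⊓ L) := by
  induction h with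
  | refl H => exact RSub.refl _
  | step S K H hSK hKN _ ih =>
    refine RSub.step (S ⊓ L) (K ⊓ L) (H ⊓ L) (inf_le_inf_right L hSK) ?_ ih
    intro y hy
    rw [Subgroup.mem_normalizer_iff]
    intro z
    constructor
    · rintro ⟨hz1, hz2⟩
      exact ⟨(Subgroup.mem_normalizer_iff.mp (hKN hy.1) z).mp hz1,
        L.mul_mem (L.mul_mem hy.2 hz2) (L.inv_mem hy.2)⟩
    · rintro ⟨hz1, hz2⟩
      refine ⟨(Subgroup.mem_normalizer_iff.mp (hKN hy.1) z).mpr hz1, ?_⟩
      have : z = y⁻¹ * (y * z * y⁻¹) * y := by group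
      rw [this]
      exact L.mul_mem (L.mul_mem (L.inv_mem hy.2) hz2) hy.2

theorem RSub.restrict {S H L : Subgroup G} (h : RSub S H) (hSL : S ≤ L) (hLH : L ≤ H) :
    RSub S L := by
  have := h.inf L
  rwa [inf_of_le_left hSL, inf_of_le_right hLH] at this

theorem RSub.conj {S H : Subgroup G} (h : RSub S H) (x : G) :
    RSub (MulAut.conj x • S) (MulAut.conj x • H) := by
  induction h with
  | refl H => exact RSub.refl _
  | step S K H hSK hKN _ ih =>
    refine RSub.step _ (MulAut.conj x • K) _
      (Subgroup.pointwise_smul_le_pointwise_smul_iff.mpr hSK) ?_ ih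
    intro y hy
    rw [mem_conj_smul_iff] at hy
    have h1 := mem_normalizer_iff_conj_smul.mp (hKN hy)
    rw [mem_normalizer_iff_conj_smul, ← conj_mul_smul]
    have e : y * x = x * (x⁻¹ * y * x) := by group
    rw [e, conj_mul_smul, h1]

theorem RSub.isSubnormal {S H : Subgroup G} (h : RSub S H) : (S.subgroupOf H).IsSubnormal := by
  induction h with
  | refl H => rw [Subgroup.subgroupOf_self]; exact Subgroup.IsSubnormal.top
  | step S K H hSK hKN hKH ih =>
    have hle : S.subgroupOf H ≤ K.subgroupOf H := by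
      intro x hx
      exact hSK hx
    refine Subgroup.IsSubnormal.step (S.subgroupOf H) (K.subgroupOf H) hle ih ?_
    rw [Subgroup.normal_subgroupOf_iff_le_normalizer hle]
    intro x hx
    rw [Subgroup.mem_normalizer_iff]
    intro y
    have := Subgroup.mem_normalizer_iff.mp (hKN (Subgroup.mem_subgroupOf.mp hx)) (y : G)
    simpa [Subgroup.mem_subgroupOf] using this

theorem rsub_of_isSubnormal (H : Subgroup G) (T : Subgroup H) (hT : T.IsSubnormal) :
    RSub (T.map H.subtype) H := by
  induction hT with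
  | top =>
    have : (⊤ : Subgroup H).map H.subtype = H := by
      rw [← MonoidHom.range_eq_map, Subgroup.range_subtype]
    rw [this]
    exact RSub.refl H
  | step A B hAB _ hN ih =>
    refine RSub.step (A.map H.subtype) (B.map H.subtype) H (Subgroup.map_mono hAB) ?_ ih
    rw [Subgroup.normal_subgroupOf_iff_le_normalizer hAB] at hN
    exact (Subgroup.map_mono hN).trans (Subgroup.le_normalizer_map _)

theorem rsub_of {S H : Subgroup G} (hSH : S ≤ H) (h : (S.subgroupOf H).IsSubnormal) :
    RSub S H := by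
  have := rsub_of_isSubnormal H _ h
  rwa [map_subgroupOf_of_le hSH] at this

theorem RSub.sup [Finite G] {S T H : Subgroup G} (h1 : RSub S H) (h2 : RSub T H) :
    RSub (S ⊔ T) H := by
  have h3 := Cfsg.Agent.S0538.result (S.subgroupOf H) (T.subgroupOf H) h1.isSubnormal
    h2.isSubnormal
  have h4 := rsub_of_isSubnormal H _ h3
  rwa [Subgroup.map_sup, map_subgroupOf_of_le h1.le, map_subgroupOf_of_le h2.le] at h4

theorem exists_normal {S K : Subgroup G} (h : RSub S K) :
    S ≠ K → ∃ M : Subgroup G, S ≤ M ∧ M < K ∧ K ≤ Subgroup.normalizer (M : Set G) ∧ RSub S M := by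
  induction h with
  | refl H => intro hne; exact absurd rfl hne
  | step S K H hSK hKN hKH ih =>
    intro hne
    by_cases hKH' : K = H
    · subst hKH'
      exact ⟨S, le_rfl, lt_of_le_of_ne hSK hne, hKN, RSub.refl S⟩
    · obtain ⟨M, hKM, hMH, hHM, hKMr⟩ := ih hKH'
      exact ⟨M, hSK.trans hKM, hMH, hHM, RSub.step S K M hSK hKN hKMr⟩

end basic

section finite

variable {G : Type*} [Group G] [Finite G]

theorem card_lt_of_lt {H K : Subgroup G} (h : H < K) : Nat.card H < Nat.card K := by
  by_contra hcon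
  exact h.ne (Subgroup.eq_of_le_of_card_ge h.le (not_lt.mp hcon))

theorem conj_smul_eq_of_mem {L : Subgroup G} {x : G} (hx : x ∈ L) : MulAut.conj x • L = L :=
  mem_normalizer_iff_conj_smul.mp (Subgroup.le_normalizer hx)

/-- A subnormal but non-normal subgroup has a conjugate different from it which normalizes it. -/
theorem exists_conj_le_normalizer : ∀ (n : ℕ) (S K : Subgroup G), Nat.card K = n → RSub S K →
    ¬ K ≤ Subgroup.normalizer (S : Set G) →
    ∃ x ∈ K, MulAut.conj x • S ≠ S ∧ MulAut.conj x • S ≤ Subgroup.normalizer (S : Set G) := by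
  intro n
  induction n using Nat.strong_induction_on with
  | _ n ih =>
    intro S K hn hSK hnot
    have hne : S ≠ K := by
      rintro rfl
      exact hnot Subgroup.le_normalizer
    obtain ⟨M, hSM, hMK, hKM, hSMr⟩ := exists_normal hSK hne
    by_cases hMN : M ≤ Subgroup.normalizer (S : Set G)
    · obtain ⟨x, hxK, hxN⟩ := SetLike.not_le_iff_exists.mp hnot
      refine ⟨x, hxK, ?_, ?_⟩
      · intro h
        exact hxN (mem_normalizer_iff_conj_smul.mpr h)
      · calc MulAut.conj x • S ≤ MulAut.conj x • M :=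
              Subgroup.pointwise_smul_le_pointwise_smul_iff.mpr hSM
          _ = M := mem_normalizer_iff_conj_smul.mp (hKM hxK)
          _ ≤ Subgroup.normalizer (S : Set G) := hMN
    · have hlt : Nat.card M < n := by rw [← hn]; exact card_lt_of_lt hMK
      obtain ⟨x, hxM, h1, h2⟩ := ih (Nat.card M) hlt S M rfl hSMr hMN
      exact ⟨x, hMK.le hxM, h1, h2⟩

/-- The zipper lemma. -/
theorem zipper (L : Subgroup G) : ∀ (d : ℕ) (S : Subgroup G), S ≤ L →
    Nat.card L - Nat.card S = d → (∀ H : Subgroup G, S ≤ H → H < L → RSub S H) → ¬ RSub S L →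
    ∃ M : Subgroup G, S ≤ M ∧ M < L ∧ ∀ X : Subgroup G, S ≤ X → X < L → X ≤ M := by
  intro d
  induction d using Nat.strong_induction_on with
  | _ d ih =>
    intro S hSL hd hall hnot
    have hLN : ¬ L ≤ Subgroup.normalizer (S : Set G) :=
      fun h => hnot (RSub.step S L L hSL h (RSub.refl L))
    have hN0 : Subgroup.normalizer (S : Set G) ⊓ L < L :=
      lt_of_le_of_ne inf_le_right (fun h => hLN (by rw [← h]; exact inf_le_left))
    obtain ⟨M, ⟨hM1, hM2⟩, hMmax⟩ : ∃ M : Subgroup G,
        (Subgroup.normalizer (S : Set G) ⊓ L ≤ M ∧ M < L) ∧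
        ∀ M' : Subgroup G, Subgroup.normalizer (S : Set G) ⊓ L ≤ M' → M' < L →
          Nat.card M' ≤ Nat.card M := by
      haveI : Nonempty {M : Subgroup G // Subgroup.normalizer (S : Set G) ⊓ L ≤ M ∧ M < L} :=
        ⟨⟨_, le_rfl, hN0⟩⟩
      obtain ⟨M, hM⟩ := Finite.exists_max
        (fun M : {M : Subgroup G // Subgroup.normalizer (S : Set G) ⊓ L ≤ M ∧ M < L} =>
          Nat.card M.1)
      exact ⟨M.1, M.2, fun M' h1 h2 => hM ⟨M', h1, h2⟩⟩
    have hSM : S ≤ M := (le_inf Subgroup.le_normalizer hSL).trans hM1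
    refine ⟨M, hSM, hM2, ?_⟩
    intro X hSX hXL
    by_contra hXM
    have hSXr : RSub S X := hall X hSX hXL
    have hXN : ¬ X ≤ Subgroup.normalizer (S : Set G) :=
      fun h => hXM ((le_inf h hXL.le).trans hM1)
    obtain ⟨x, hxX, hx1, hx2⟩ := exists_conj_le_normalizer _ S X rfl hSXr hXN
    have hxL : x ∈ L := hXL.le hxX
    have hSxX : MulAut.conj x • S ≤ X := by
      have h1 : MulAut.conj x • S ≤ MulAut.conj x • X :=
        Subgroup.pointwise_smul_le_pointwise_smul_iff.mpr hSX
      rwa [conj_smul_eq_of_mem hxX] at h1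
    have hTX : S ⊔ MulAut.conj x • S ≤ X := sup_le hSX hSxX
    have hTN : S ⊔ MulAut.conj x • S ≤ Subgroup.normalizer (S : Set G) :=
      sup_le Subgroup.le_normalizer hx2
    have hTM : S ⊔ MulAut.conj x • S ≤ M := (le_inf hTN (hTX.trans hXL.le)).trans hM1
    have hST : S < S ⊔ MulAut.conj x • S := by
      refine lt_of_le_of_ne le_sup_left ?_
      intro h
      apply hx1
      have h1 : MulAut.conj x • S ≤ S := by
        have : MulAut.conj x • S ≤ S ⊔ MulAut.conj x • S := le_sup_right
        rwa [← h] at this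
      exact Subgroup.eq_of_le_of_card_ge h1 (by rw [card_conj_smul])
    have hTall : ∀ H : Subgroup G, S ⊔ MulAut.conj x • S ≤ H → H < L →
        RSub (S ⊔ MulAut.conj x • S) H := by
      intro H hTH hHL
      have h1 : RSub S H := hall H (le_sup_left.trans hTH) hHL
      have h2 : RSub (MulAut.conj x • S) H := by
        have hS' : S ≤ MulAut.conj x⁻¹ • H := by
          have h3 : MulAut.conj x⁻¹ • MulAut.conj x • S ≤ MulAut.conj x⁻¹ • H :=
            Subgroup.pointwise_smul_le_pointwise_smul_iff.mpr (le_sup_right.trans hTH)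
          rwa [← conj_mul_smul, inv_mul_cancel, map_one, one_smul] at h3
        have hH' : MulAut.conj x⁻¹ • H < L := by
          have h3 : MulAut.conj x⁻¹ • H ≤ MulAut.conj x⁻¹ • L :=
            Subgroup.pointwise_smul_le_pointwise_smul_iff.mpr hHL.le
          rw [conj_smul_eq_of_mem (L.inv_mem hxL)] at h3
          refine lt_of_le_of_ne h3 ?_
          intro h4
          have h5 : Nat.card (MulAut.conj x⁻¹ • H : Subgroup G) = Nat.card H := card_conj_smul _ _
          rw [h4] at h5
          exact (card_lt_of_lt hHL).ne h5.symm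
        have h6 := (hall _ hS' hH').conj x
        rwa [← conj_mul_smul, mul_inv_cancel, map_one, one_smul] at h6
      exact h1.sup h2
    have hTnot : ¬ RSub (S ⊔ MulAut.conj x • S) L :=
      fun h => hnot (RSub.step S _ L le_sup_left hTN h)
    have hTL : S ⊔ MulAut.conj x • S ≤ L := hTX.trans hXL.le
    have hdlt : Nat.card L - Nat.card (S ⊔ MulAut.conj x • S : Subgroup G) < d := by
      have h1 := card_lt_of_lt hST
      have h2 : Nat.card (S ⊔ MulAut.conj x • S : Subgroup G) ≤ Nat.card L :=
        Subgroup.card_le_of_le hTL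
      omega
    obtain ⟨M', hTM', hM'L, hM'univ⟩ := ih _ hdlt _ hTL rfl hTall hTnot
    have hMM' : M ≤ M' := hM'univ M hTM hM2
    have hM'M : M = M' :=
      Subgroup.eq_of_le_of_card_ge hMM' (hMmax M' (hM1.trans hMM') hM'L)
    exact hXM (hM'M ▸ hM'univ X hTX hXL)

/-- Wielandt's criterion, relative form. -/
theorem wielandt : ∀ (n : ℕ) (L S : Subgroup G), Nat.card L = n → S ≤ L →
    (∀ x ∈ L, RSub S (S ⊔ MulAut.conj x • S)) → RSub S L := by
  intro n
  induction n using Nat.strong_induction_on with
  | _ n ih =>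
    intro L S hn hSL hyp
    by_contra hnot
    have hall : ∀ H : Subgroup G, S ≤ H → H < L → RSub S H := by
      intro H hSH hHL
      exact ih (Nat.card H) (by rw [← hn]; exact card_lt_of_lt hHL) H S rfl hSH
        (fun x hx => hyp x (hHL.le hx))
    obtain ⟨M, hSM, hML, hMuniv⟩ := zipper L _ S hSL rfl hall hnot
    have hconj : ∀ x ∈ L, MulAut.conj x • S ≤ M := by
      intro x hx
      have h0 : MulAut.conj x • S ≤ L := by
        have h1 : MulAut.conj x • S ≤ MulAut.conj x • L :=
          Subgroup.pointwise_smul_le_pointwise_smul_iff.mpr hSL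
        rwa [conj_smul_eq_of_mem hx] at h1
      have h1 : S ⊔ MulAut.conj x • S ≤ L := sup_le hSL h0
      have h2 : S ⊔ MulAut.conj x • S < L :=
        lt_of_le_of_ne h1 (fun h => hnot (h ▸ hyp x hx))
      exact le_sup_right.trans (hMuniv _ le_sup_left h2)
    set Nc : Subgroup G := Subgroup.closure {g : G | ∃ x ∈ L, ∃ s ∈ S, g = x * s * x⁻¹} with hNc
    have hNcM : Nc ≤ M := by
      rw [hNc, Subgroup.closure_le]
      rintro g ⟨x, hx, s, hs, rfl⟩
      apply hconj x hx
      rw [mem_conj_smul_iff]
      have : x⁻¹ * (x * s * x⁻¹) * x = s := by group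
      rw [this]; exact hs
    have hSNc : S ≤ Nc := by
      intro s hs
      apply Subgroup.subset_closure
      exact ⟨1, L.one_mem, s, hs, by simp⟩
    have hLNc : L ≤ Subgroup.normalizer (Nc : Set G) := by
      intro y hy
      apply mem_normalizer_of_conj_mem
      intro s hs
      rw [hNc] at hs
      induction hs using Subgroup.closure_induction with
      | mem g hg =>
        obtain ⟨x, hx, t, ht, rfl⟩ := hg
        apply Subgroup.subset_closure
        exact ⟨y * x, L.mul_mem hy hx, t, ht, by group⟩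
      | one => simp
      | mul a b _ _ ha hb =>
        have : y * (a * b) * y⁻¹ = (y * a * y⁻¹) * (y * b * y⁻¹) := by group
        rw [this]; exact Subgroup.mul_mem _ ha hb
      | inv a _ ha =>
        have : y * a⁻¹ * y⁻¹ = (y * a * y⁻¹)⁻¹ := by group
        rw [this]; exact Subgroup.inv_mem _ ha
    have h1 : RSub S Nc := hall Nc hSNc (lt_of_le_of_lt hNcM hML)
    have h2 : RSub Nc L := RSub.step Nc L L (hNcM.trans hML.le) hLNc (RSub.refl L)
    exact hnot (h1.trans h2)

end finite

/-- Wielandt's subnormality criterion: a subgroup that is subnormal in its join with each of its conjugates is subnormal in the whole finite group. -/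
theorem result {G : Type*} [Group G] [Finite G] (A : Subgroup G)
    (h : ∀ g : G, (A.subgroupOf (A ⊔ MulAut.conj g • A)).IsSubnormal) : A.IsSubnormal := by
  have h1 : RSub A ⊤ := wielandt _ ⊤ A rfl le_top (fun x _ => rsub_of le_sup_left (h x))
  have h2 := h1.isSubnormal
  exact Subgroup.IsSubnormal.trans le_top h2 Subgroup.IsSubnormal.top

end Cfsg.Agent.S0066
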