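import Cfsg.Statements.S0100
import Cfsg.Agent.S0093
import Cfsg.Agent.Lib.Helper18.UniqueInvolution
import Cfsg.Agent.Lib.Helper10.Coprime

set_option autoImplicit false
open Cfsg

namespace Cfsg.Agent.S0100

open scoped commutatorElement

theorem relIndex_zpowers_eq {G : Type*} [Group G] [Finite G] {p : ℕ} [Fact p.Prime]
    (K : Subgroup G) [K.Normal] (x : G) (hxp : x ^ p ∈ K) (hx : x ∉ K) :
    K.relIndex (Subgroup.zpowers x) = p := by
  have hd : K.relIndex (Subgroup.zpowers x) ∣ p := by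
    have h2 := Subgroup.relIndex_ker (K := Subgroup.zpowers x) (QuotientGroup.mk' K)
    rw [QuotientGroup.ker_mk'] at h2
    rw [h2, MonoidHom.map_zpowers, Nat.card_zpowers]
    apply orderOf_dvd_of_pow_eq_one
    rw [← map_pow]
    exact (QuotientGroup.eq_one_iff _).2 hxp
  rcases (Nat.dvd_prime (Fact.out : p.Prime)).1 hd with h | h
  · exfalso; apply hx
    rw [Subgroup.relIndex_eq_one, Subgroup.zpowers_le] at h; exact h
  · exact h

theorem card_sup_zpowers {G : Type*} [Group G] [Finite G] {p : ℕ} [Fact p.Prime]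
    (K : Subgroup G) [K.Normal] (x : G) (hxp : x ^ p ∈ K) (hx : x ∉ K) :
    Nat.card (K ⊔ Subgroup.zpowers x : Subgroup G) = p * Nat.card K := by
  have h1 := Subgroup.relIndex_mul_relIndex (⊥ : Subgroup G) K (K ⊔ Subgroup.zpowers x)
    bot_le le_sup_left
  rw [Subgroup.relIndex_bot_left, Subgroup.relIndex_bot_left, Subgroup.relIndex_sup_left,
    relIndex_zpowers_eq K x hxp hx] at h1
  rw [← h1, mul_comm]

theorem normal_sup_zpowers {G : Type*} [Group G] (K : Subgroup G) [hK : K.Normal] (x : G)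
    (hx : ∀ g : G, ⁅x, g⁆ ∈ K) : (K ⊔ Subgroup.zpowers x).Normal := by
  constructor
  intro n hn g
  have h1 : (K ⊔ Subgroup.zpowers x).map (MulAut.conj g).toMonoidHom
      ≤ K ⊔ Subgroup.zpowers x := by
    rw [Subgroup.map_sup, MonoidHom.map_zpowers]
    apply sup_le
    · rintro _ ⟨k, hk, rfl⟩
      exact (le_sup_left : K ≤ _) (hK.conj_mem k hk g)
    · rw [Subgroup.zpowers_le]
      have e : (MulAut.conj g).toMonoidHom x = (⁅x, g⁆)⁻¹ * x := by
        simp only [MulEquiv.coe_toMonoidHom, MulAut.conj_apply, commutatorElement_def]; group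
      rw [e]
      exact Subgroup.mul_mem _ ((le_sup_left : K ≤ _) (K.inv_mem (hx g)))
        ((le_sup_right : Subgroup.zpowers x ≤ _) (Subgroup.mem_zpowers x))
  exact h1 ⟨n, hn, rfl⟩

theorem exists_normal_le_card {P : Type*} [Group P] [Finite P] {p : ℕ} [Fact p.Prime]
    (hP : IsPGroup p P) (N : Subgroup P) [N.Normal] (k : ℕ) (hk : p ^ k ≤ Nat.card N) :
    ∃ N' : Subgroup P, N'.Normal ∧ N' ≤ N ∧ Nat.card N' = p ^ k := by
  have hpp : p.Prime := Fact.out
  induction k with
  | zero => exact ⟨⊥, inferInstance, bot_le, by simp⟩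
  | succ k ih =>
    obtain ⟨N', hN'n, hN'le, hN'c⟩ :=
      ih (le_trans (Nat.pow_le_pow_right hpp.pos (Nat.le_succ k)) hk)
    have hne : ¬ N ≤ N' := by
      intro h
      have := Subgroup.card_le_of_le h
      rw [hN'c] at this
      have h2 : p ^ k < p ^ (k + 1) := Nat.pow_lt_pow_right hpp.one_lt (Nat.lt_succ_self k)
      omega
    obtain ⟨x, hxN, hxN', hxp, hxc⟩ := Cfsg.Agent.S0093.exists_central_mod hP N' N hne
    refine ⟨N' ⊔ Subgroup.zpowers x, normal_sup_zpowers N' x hxc,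
      sup_le hN'le (by rwa [Subgroup.zpowers_le]), ?_⟩
    rw [card_sup_zpowers N' x hxp hxN', hN'c, pow_succ, mul_comm]

/-- The stabilizer of the coset `y A` under conjugation. -/
def stab {P : Type*} [Group P] (A : Subgroup P) [hA : A.Normal] (y : P) : Subgroup P where
  carrier := {g | ⁅g, y⁆ ∈ A}
  one_mem' := by
    show ⁅(1 : P), y⁆ ∈ A
    rw [commutatorElement_one_left]; exact A.one_mem
  mul_mem' := by
    intro g h hg hh
    have e : ⁅g * h, y⁆ = g * ⁅h, y⁆ * g⁻¹ * ⁅g, y⁆ := by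
      simp only [commutatorElement_def]; group
    show ⁅g * h, y⁆ ∈ A
    rw [e]; exact A.mul_mem (hA.conj_mem _ hh g) hg
  inv_mem' := by
    intro g hg
    have e : ⁅g⁻¹, y⁆ = g⁻¹ * (⁅g, y⁆)⁻¹ * g⁻¹⁻¹ := by
      simp only [commutatorElement_def]; group
    show ⁅g⁻¹, y⁆ ∈ A
    rw [e]; exact hA.conj_mem _ (A.inv_mem hg) g⁻¹

theorem mem_stab {P : Type*} [Group P] (A : Subgroup P) [A.Normal] (y g : P) :
    g ∈ stab A y ↔ ⁅g, y⁆ ∈ A := Iff.rfl

theorem mul_pow_eq_one' {P : Type*} [Group P] {p : ℕ} [Fact p.Prime] (hp : p ≠ 2)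
    (g h : P) (hcg : Commute ⁅h⁻¹, g⁻¹⁆ g) (hch : Commute ⁅h⁻¹, g⁻¹⁆ h)
    (hg : g ^ p = 1) (hh : h ^ p = 1) : (g * h) ^ p = 1 := by
  have hpp : p.Prime := Fact.out
  set c := ⁅h⁻¹, g⁻¹⁆ with hcdef
  have hc : h * g = g * h * c := by rw [hcdef, commutatorElement_def]; group
  obtain ⟨e1, e2⟩ := Cfsg.Agent.Lib.Helper18.UniqueInvolution.pow_mul_comm_of_central g h c hc
    hcg hch p
  rw [hh, one_mul, mul_one] at e1
  have hcp : c ^ p = 1 := by
    have : g * c ^ p = g * 1 := by rw [mul_one]; exact e1.symm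
    exact mul_left_cancel this
  have hdvd : p ∣ p.choose 2 := by
    apply hpp.dvd_choose_self (by norm_num)
    have := hpp.two_le
    omega
  obtain ⟨m, hm⟩ := hdvd
  rw [e2, hg, hh, one_mul, one_mul, hm, pow_mul, hcp, one_pow]

theorem key {P : Type*} [Group P] [Finite P] {p : ℕ} [Fact p.Prime] (hp : p ≠ 2)
    (hP : IsPGroup p P) (A : Subgroup P) [hA : A.Normal]
    (x : P) (hxC : x ∈ Subgroup.centralizer (A : Set P)) (hxA : x ∉ A) (hxp : x ^ p = 1) :
    ∃ y : P, y ∈ Subgroup.centralizer (A : Set P) ∧ y ∉ A ∧ y ^ p = 1 ∧ ∀ g : P, ⁅g, y⁆ ∈ A := by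
  classical
  obtain ⟨y, ⟨hyC, hyA, hyp⟩, hymax⟩ := Set.exists_max_image
    {y : P | y ∈ Subgroup.centralizer (A : Set P) ∧ y ∉ A ∧ y ^ p = 1}
    (fun y => Nat.card (stab A y)) (Set.toFinite _) ⟨x, hxC, hxA, hxp⟩
  by_cases hS : stab A y = ⊤
  · refine ⟨y, hyC, hyA, hyp, fun g => ?_⟩
    have : g ∈ stab A y := by rw [hS]; exact Subgroup.mem_top g
    exact this
  exfalso
  have hnil : Group.IsNilpotent P := hP.isNilpotent
  have hlt : stab A y < Subgroup.normalizer (stab A y : Set P) :=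
    Group.normalizerCondition_of_isNilpotent (stab A y) (lt_top_iff_ne_top.2 hS)
  have hyS : y ∈ stab A y := by
    show ⁅y, y⁆ ∈ A
    rw [commutatorElement_self]; exact A.one_mem
  -- the conjugates of `y` under the normalizer
  have hU1 : ∀ n ∈ Subgroup.normalizer (stab A y : Set P),
      n * y * n⁻¹ ∈ Subgroup.centralizer (A : Set P) := fun n _ =>
    (inferInstance : (Subgroup.centralizer (A : Set P)).Normal).conj_mem y hyC n
  have hU3 : ∀ n : P, (n * y * n⁻¹) ^ p = 1 := by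
    intro n
    rw [conj_pow, hyp, mul_one, mul_inv_cancel]
  have hU4 : ∀ n ∈ Subgroup.normalizer (stab A y : Set P), stab A (n * y * n⁻¹) = stab A y := by
    intro n hn
    ext g
    have e : ⁅g, n * y * n⁻¹⁆ = n * ⁅n⁻¹ * g * n, y⁆ * n⁻¹ := by
      simp only [commutatorElement_def]; group
    have e2 : n * (n⁻¹ * g * n) * n⁻¹ = g := by group
    have hiff : n⁻¹ * g * n ∈ stab A y ↔ g ∈ stab A y := by
      have := Subgroup.mem_normalizer_iff.1 hn (n⁻¹ * g * n)
      rw [e2] at this; exact this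
    rw [← hiff, mem_stab, mem_stab, e]
    constructor
    · intro h
      have h3 := hA.conj_mem _ h n⁻¹
      have e3 : n⁻¹ * (n * ⁅n⁻¹ * g * n, y⁆ * n⁻¹) * n⁻¹⁻¹ = ⁅n⁻¹ * g * n, y⁆ := by group
      rwa [e3] at h3
    · intro h
      exact hA.conj_mem _ h n
  have hU5 : ∀ n ∈ Subgroup.normalizer (stab A y : Set P), n * y * n⁻¹ ∈ stab A y :=
    fun n hn => (Subgroup.mem_normalizer_iff.1 hn y).1 hyS
  set U : Set P := {u | ∃ n ∈ Subgroup.normalizer (stab A y : Set P), u = n * y * n⁻¹} with hUdef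
  have hyU : y ∈ U := ⟨1, Subgroup.one_mem _, by group⟩
  have hD1 : Subgroup.closure U ≤ Subgroup.centralizer (A : Set P) := by
    rw [Subgroup.closure_le]
    rintro _ ⟨n, hn, rfl⟩
    exact hU1 n hn
  have hDS : Subgroup.closure U ≤ stab A y := by
    rw [Subgroup.closure_le]
    rintro _ ⟨n, hn, rfl⟩
    exact hU5 n hn
  have hD2 : ∀ h ∈ Subgroup.closure U, ∀ v ∈ U, ⁅h, v⁆ ∈ A := by
    rintro h hh _ ⟨m, hm, rfl⟩
    have : h ∈ stab A (m * y * m⁻¹) := by rw [hU4 m hm]; exact hDS hh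
    exact this
  have hD3 : ∀ h ∈ Subgroup.closure U, ∀ h' ∈ Subgroup.closure U, ⁅h', h⁆ ∈ A := by
    intro h hh h' hh'
    have : Subgroup.closure U ≤ stab A h := by
      rw [Subgroup.closure_le]
      intro v hv
      show ⁅v, h⁆ ∈ A
      rw [← commutatorElement_inv]
      exact A.inv_mem (hD2 h hh v hv)
    exact this hh'
  have hD4 : ∀ h ∈ Subgroup.closure U, h ^ p = 1 := by
    intro h hh
    induction hh using Subgroup.closure_induction with
    | mem u hu =>
      obtain ⟨n, hn, rfl⟩ := hu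
      exact hU3 n
    | one => exact one_pow p
    | mul a b ha hb iha ihb =>
      have hc : ⁅b⁻¹, a⁻¹⁆ ∈ A :=
        hD3 _ (Subgroup.inv_mem _ ha) _ (Subgroup.inv_mem _ hb)
      exact mul_pow_eq_one' hp a b ((Subgroup.mem_centralizer_iff.1 (hD1 ha)) _ hc)
        ((Subgroup.mem_centralizer_iff.1 (hD1 hb)) _ hc) iha ihb
    | inv a _ iha => rw [inv_pow, iha, inv_one]
  have hDN : Subgroup.normalizer (stab A y : Set P) ≤
      Subgroup.normalizer (Subgroup.closure U : Set P) := by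
    intro n hn
    apply Cfsg.Agent.Lib.Helper10.Coprime.mem_normalizer_of_conj_mem
    intro s hs
    have h1 : (Subgroup.closure U).map (MulAut.conj n).toMonoidHom ≤ Subgroup.closure U := by
      rw [MonoidHom.map_closure, Subgroup.closure_le]
      rintro _ ⟨_, ⟨m, hm, rfl⟩, rfl⟩
      apply Subgroup.subset_closure
      refine ⟨n * m, Subgroup.mul_mem _ hn hm, ?_⟩
      simp only [MulEquiv.coe_toMonoidHom, MulAut.conj_apply]; group
    exact h1 ⟨s, hs, rfl⟩
  -- work inside the normalizer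
  have hPN : IsPGroup p ↥(Subgroup.normalizer (stab A y : Set P)) := hP.to_subgroup _
  have hDn : ((Subgroup.closure U).subgroupOf (Subgroup.normalizer (stab A y : Set P))).Normal :=
    Subgroup.normal_subgroupOf_of_le_normalizer hDN
  have hne : ¬ (Subgroup.closure U).subgroupOf (Subgroup.normalizer (stab A y : Set P)) ≤
      A.subgroupOf (Subgroup.normalizer (stab A y : Set P)) := by
    intro hle
    have h1 : (⟨y, hlt.le hyS⟩ : ↥(Subgroup.normalizer (stab A y : Set P))) ∈
        (Subgroup.closure U).subgroupOf (Subgroup.normalizer (stab A y : Set P)) :=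
      Subgroup.mem_subgroupOf.2 (Subgroup.subset_closure hyU)
    exact hyA (Subgroup.mem_subgroupOf.1 (hle h1))
  obtain ⟨w, hwD, hwA, -, hwc⟩ := Cfsg.Agent.S0093.exists_central_mod hPN
    (A.subgroupOf (Subgroup.normalizer (stab A y : Set P)))
    ((Subgroup.closure U).subgroupOf (Subgroup.normalizer (stab A y : Set P))) hne
  have hwD' : (w : P) ∈ Subgroup.closure U := Subgroup.mem_subgroupOf.1 hwD
  have hwA' : (w : P) ∉ A := fun h => hwA (Subgroup.mem_subgroupOf.2 h)
  have hle : Subgroup.normalizer (stab A y : Set P) ≤ stab A (w : P) := by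
    intro n hn
    have h1 := hwc ⟨n, hn⟩
    have h2 : ⁅(w : P), n⁆ ∈ A := Subgroup.mem_subgroupOf.1 h1
    show ⁅n, (w : P)⁆ ∈ A
    rw [← commutatorElement_inv]
    exact A.inv_mem h2
  have h1 := hymax (w : P) ⟨hD1 hwD', hwA', hD4 _ hwD'⟩
  have h2 : Nat.card (stab A y) < Nat.card (Subgroup.normalizer (stab A y : Set P)) := by
    by_contra hcon
    push Not at hcon
    exact hlt.ne (Subgroup.eq_of_le_of_card_ge hlt.le hcon)
  have h3 := Subgroup.card_le_of_le hle
  have h1' : Nat.card (stab A (w : P)) ≤ Nat.card (stab A y) := h1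
  omega

theorem omega_centralizer_le {P : Type*} [Group P] [Finite P] {p : ℕ} [Fact p.Prime] (hp : p ≠ 2)
    (hP : IsPGroup p P) (A : Subgroup P) [hA : A.Normal]
    (hAab : A ≤ Subgroup.centralizer (A : Set P)) (hAe : ∀ a ∈ A, a ^ p = 1)
    (hmax : ∀ B : Subgroup P, B.Normal → B ≤ Subgroup.centralizer (B : Set P) →
      (∀ b ∈ B, b ^ p = 1) → A ≤ B → B = A)
    (x : P) (hxC : x ∈ Subgroup.centralizer (A : Set P)) (hxp : x ^ p = 1) : x ∈ A := by
  by_contra hxA
  obtain ⟨y, hyC, hyA, hyp, hyc⟩ := key hp hP A x hxC hxA hxp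
  have hyy : Subgroup.zpowers y ≤ Subgroup.centralizer (Subgroup.zpowers y : Set P) := by
    rw [Subgroup.zpowers_le, Subgroup.mem_centralizer_iff]
    intro h hh
    obtain ⟨k, rfl⟩ := Subgroup.mem_zpowers_iff.1 hh
    exact ((Commute.refl y).zpow_left k).eq
  have hyA' : Subgroup.zpowers y ≤ Subgroup.centralizer (A : Set P) := by
    rwa [Subgroup.zpowers_le]
  have hB := hmax (A ⊔ Subgroup.zpowers y) (normal_sup_zpowers A y (fun g => by
      rw [← commutatorElement_inv]; exact A.inv_mem (hyc g))) ?_ ?_ le_sup_left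
  · exact hyA (hB ▸ (le_sup_right : Subgroup.zpowers y ≤ A ⊔ Subgroup.zpowers y)
      (Subgroup.mem_zpowers y))
  · apply sup_le
    · rw [Subgroup.le_centralizer_iff]
      exact sup_le hAab hyA'
    · rw [Subgroup.le_centralizer_iff]
      exact sup_le (Subgroup.le_centralizer_iff.1 hyA') hyy
  · intro b hb
    have hb' : b ∈ ((A ⊔ Subgroup.zpowers y : Subgroup P) : Set P) := hb
    rw [Subgroup.normal_mul] at hb'
    obtain ⟨a, ha, c, hc, rfl⟩ := Set.mem_mul.1 hb'
    have hcomm : Commute a c := ((Subgroup.mem_centralizer_iff.1 (hyA' hc)) a ha)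
    obtain ⟨k, rfl⟩ := Subgroup.mem_zpowers_iff.1 hc
    rw [hcomm.mul_pow, hAe a ha, one_mul, ← zpow_natCast, ← zpow_mul, mul_comm, zpow_mul,
      zpow_natCast, hyp, one_zpow]

/-- For odd p, a p-group without normal elementary abelian subgroups of order p^3 has p-rank at most 2. -/
theorem result {P : Type*} [Group P] [Finite P] {p : ℕ} [Fact p.Prime] (hp : p ≠ 2) (hP : IsPGroup p P) (h : ∀ A : Subgroup P, A.Normal → IsMulCommutative A → (∀ a ∈ A, a ^ p = 1) → Nat.card A ≠ p ^ 3) (E : Subgroup P) (hE : IsMulCommutative E) (hEe : ∀ e ∈ E, e ^ p = 1) : Nat.card E ≤ p ^ 2 := by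
  classical
  by_contra hEgt
  have hpp : p.Prime := Fact.out
  have hsmall : ∀ B : Subgroup P, B.Normal → B ≤ Subgroup.centralizer (B : Set P) →
      (∀ b ∈ B, b ^ p = 1) → Nat.card B ≤ p ^ 2 := by
    intro B hBn hBab hBe
    by_contra hcon
    push Not at hcon
    obtain ⟨n, hn⟩ := (hP.to_subgroup B).exists_card_eq
    have hn3 : 3 ≤ n := by
      by_contra h3
      have h2 : n ≤ 2 := by omega
      have := Nat.pow_le_pow_right hpp.pos h2
      omega
    obtain ⟨B', hB'n, hB'le, hB'c⟩ := exists_normal_le_card hP B 3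
      (by rw [hn]; exact Nat.pow_le_pow_right hpp.pos hn3)
    exact h B' hB'n (Subgroup.le_centralizer_iff_isMulCommutative.1
      (hB'le.trans (hBab.trans (Subgroup.centralizer_le hB'le))))
      (fun a ha => hBe a (hB'le ha)) hB'c
  obtain ⟨A, ⟨hAn, hAab, hAe⟩, hAmax⟩ := Set.exists_max_image
    {B : Subgroup P | B.Normal ∧ B ≤ Subgroup.centralizer (B : Set P) ∧ ∀ b ∈ B, b ^ p = 1}
    (fun B => Nat.card B) (Set.toFinite _)
    ⟨⊥, inferInstance, bot_le, fun b hb => by rw [Subgroup.mem_bot.1 hb, one_pow]⟩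
  have hAmax' : ∀ B : Subgroup P, B.Normal → B ≤ Subgroup.centralizer (B : Set P) →
      (∀ b ∈ B, b ^ p = 1) → A ≤ B → B = A :=
    fun B h1 h2 h3 h4 => (Subgroup.eq_of_le_of_card_ge h4 (hAmax B ⟨h1, h2, h3⟩)).symm
  have hAc : Nat.card A ≤ p ^ 2 := hsmall A hAn hAab hAe
  have hEC : ∀ e ∈ E, e ∈ Subgroup.centralizer (A : Set P) → e ∈ A := fun e he hc =>
    omega_centralizer_le hp hP A hAab hAe hAmax' e hc (hEe e he)
  by_cases hEcent : E ≤ Subgroup.centralizer (A : Set P)
  · exact hEgt ((Subgroup.card_le_of_le (fun e he => hEC e he (hEcent he))).trans hAc)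
  have hAne : ¬ A ≤ ⊥ := by
    intro hA
    apply hEcent
    intro e _
    rw [Subgroup.mem_centralizer_iff]
    intro a ha
    have : a = 1 := Subgroup.mem_bot.1 (hA ha)
    rw [this, one_mul, mul_one]
  obtain ⟨z, hzA, hz1, -, hzc⟩ := Cfsg.Agent.S0093.exists_central_mod hP ⊥ A hAne
  have hz1' : z ≠ 1 := fun h => hz1 (by rw [h]; exact Subgroup.one_mem _)
  have hzcen : ∀ g : P, Commute z g := by
    intro g
    have := Subgroup.mem_bot.1 (hzc g)
    exact commutatorElement_eq_one_iff_commute.1 this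
  have hzkcen : ∀ (k : ℤ) (g : P), Commute (z ^ k) g := fun k g => (hzcen g).zpow_left k
  have hzn : (Subgroup.zpowers z).Normal := by
    constructor
    intro n hn g
    obtain ⟨k, rfl⟩ := Subgroup.mem_zpowers_iff.1 hn
    have : g * z ^ k * g⁻¹ = z ^ k := by
      rw [← (hzkcen k g).eq, mul_assoc, mul_inv_cancel, mul_one]
    rw [this]; exact hn
  by_cases hAz : A ≤ Subgroup.zpowers z
  · apply hEcent
    intro e _
    rw [Subgroup.mem_centralizer_iff]
    intro a ha
    obtain ⟨k, rfl⟩ := Subgroup.mem_zpowers_iff.1 (hAz ha)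
    exact (hzkcen k e).eq
  obtain ⟨a, haA, haz, hap, hac⟩ :=
    Cfsg.Agent.S0093.exists_central_mod hP (Subgroup.zpowers z) A hAz
  have hzcard : Nat.card (Subgroup.zpowers z) = p := by
    rw [Nat.card_zpowers]; exact orderOf_eq_prime (hAe z hzA) hz1'
  have hcard : Nat.card (Subgroup.zpowers z ⊔ Subgroup.zpowers a : Subgroup P) = p * p := by
    rw [card_sup_zpowers (Subgroup.zpowers z) a hap haz, hzcard]
  have hAeq : Subgroup.zpowers z ⊔ Subgroup.zpowers a = A := by
    apply Subgroup.eq_of_le_of_card_ge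
      (sup_le (by rwa [Subgroup.zpowers_le]) (by rwa [Subgroup.zpowers_le]))
    rw [hcard, ← sq]; exact hAc
  have hAcard : Nat.card A = p * p := by rw [← hAeq, hcard]
  -- the homomorphism `g ↦ ⁅g, a⁆`
  have hca : ∀ g : P, ⁅g, a⁆ ∈ Subgroup.zpowers z := by
    intro g
    rw [← commutatorElement_inv]
    exact Subgroup.inv_mem _ (hac g)
  let f : P →* P := MonoidHom.mk' (fun g => ⁅g, a⁆) (by
    intro g k
    have e : ⁅g * k, a⁆ = g * ⁅k, a⁆ * g⁻¹ * ⁅g, a⁆ := by
      simp only [commutatorElement_def]; group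
    obtain ⟨i, hi⟩ := Subgroup.mem_zpowers_iff.1 (hca k)
    show ⁅g * k, a⁆ = ⁅g, a⁆ * ⁅k, a⁆
    rw [e, ← hi, ← (hzkcen i g).eq, mul_assoc (z ^ i), mul_inv_cancel, mul_one,
      (hzkcen i _).eq])
  have hfapp : ∀ g : P, f g = ⁅g, a⁆ := fun g => rfl
  have hker : ∀ g : P, g ∈ f.ker ↔ g * a = a * g := by
    intro g
    rw [MonoidHom.mem_ker, hfapp, commutatorElement_eq_one_iff_mul_comm]
  have hrange : f.range ≤ Subgroup.zpowers z := by
    rintro _ ⟨g, rfl⟩
    exact hca g
  have hidx : f.ker.index ≤ p := by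
    rw [Subgroup.index_ker, ← hzcard]
    exact Subgroup.card_le_of_le hrange
  have hrel : f.ker.relIndex E ≤ p := by
    have h1 : f.ker.relIndex E ∣ f.ker.index := Subgroup.relIndex_dvd_index_of_normal _ _
    have h2 : f.ker.index ≠ 0 := Subgroup.index_ne_zero_of_finite
    exact (Nat.le_of_dvd (Nat.pos_of_ne_zero h2) h1).trans hidx
  have hmul : Nat.card (f.ker ⊓ E : Subgroup P) * f.ker.relIndex E = Nat.card E := by
    have h1 := Subgroup.relIndex_mul_relIndex (⊥ : Subgroup P) (f.ker ⊓ E) E bot_le inf_le_right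
    rw [Subgroup.relIndex_bot_left, Subgroup.relIndex_bot_left, Subgroup.inf_relIndex_right] at h1
    exact h1
  have hE1A : f.ker ⊓ E ≤ A := by
    rintro e ⟨he1, he2⟩
    apply hEC e he2
    have he1' : e * a = a * e := (hker e).1 he1
    have : A ≤ Subgroup.centralizer ({e} : Set P) := by
      rw [← hAeq]
      apply sup_le
      · rw [Subgroup.zpowers_le, Subgroup.mem_centralizer_iff]
        intro h hh
        rw [Set.mem_singleton_iff.1 hh]
        exact (hzcen e).eq.symm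
      · rw [Subgroup.zpowers_le, Subgroup.mem_centralizer_iff]
        intro h hh
        rw [Set.mem_singleton_iff.1 hh]
        exact he1'
    rw [Subgroup.mem_centralizer_iff]
    intro b hb
    exact ((Subgroup.mem_centralizer_iff.1 (this hb)) e rfl).symm
  obtain ⟨j, hj⟩ := (hP.to_subgroup (f.ker ⊓ E)).exists_card_eq
  by_cases hj1 : j ≤ 1
  · have h1 : Nat.card (f.ker ⊓ E : Subgroup P) ≤ p := by
      rw [hj]
      calc p ^ j ≤ p ^ 1 := Nat.pow_le_pow_right hpp.pos hj1
        _ = p := pow_one p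
    apply hEgt
    rw [← hmul, sq]
    exact Nat.mul_le_mul h1 hrel
  · have h2 : p * p ≤ Nat.card (f.ker ⊓ E : Subgroup P) := by
      rw [hj, ← sq]
      exact Nat.pow_le_pow_right hpp.pos (by omega)
    have h3 : f.ker ⊓ E = A := Subgroup.eq_of_le_of_card_ge hE1A (by rw [hAcard]; exact h2)
    apply hEcent
    have hAE : A ≤ E := h3 ▸ inf_le_right
    exact (Subgroup.le_centralizer_iff_isMulCommutative.2 hE).trans (Subgroup.centralizer_le hAE)

end Cfsg.Agent.S0100
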