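import Cfsg.Statements.S0625
import Cfsg.Agent.Lib.Lead.QuadNS2
import Cfsg.Agent.Lib.Lead.Cores
import Cfsg.Agent.Lib.Helper16.PReduced2
import Cfsg.Agent.Lib.Helper22.Regular

set_option autoImplicit false
open Cfsg
open scoped commutatorElement

namespace Cfsg.Agent.S0625

open Cfsg.Agent.Lib.Lead.QuadBridge Cfsg.Agent.Lib.Lead.QuadNS2

theorem stable_normal {G : Type*} [Group G] [Finite G] (p : ℕ) [Fact p.Prime] (hp2 : p ≠ 2)
    (hp3 : p ≠ 3) (hsol : Cfsg.IsPSolvable p G) (V : Subgroup G) [hVn : V.Normal]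
    (hVc : IsMulCommutative V) (hVp : ∀ v ∈ V, v ^ p = 1) (a : G) (hq : Quad V a) :
    ∃ D : Subgroup G, D.Normal ∧ Subgroup.centralizer (V : Set G) ≤ D ∧ a ∈ D ∧
      ∀ d ∈ D, ∃ j : ℕ, d ^ p ^ j ∈ Subgroup.centralizer (V : Set G) := by
  have hN : (⊤ : Subgroup G) ≤ Subgroup.normalizer (V : Set G) := by
    rw [Subgroup.normalizer_eq_top]
  obtain ⟨D, -, hHD, hCD, haD, hDp⟩ := stable_bridge_psolv p hp2 hp3 hsol V hVc hVp ⊤ hN
    a (Subgroup.mem_top a) hq
  refine ⟨D, ?_, ?_, haD, hDp⟩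
  · exact Subgroup.normalizer_eq_top_iff.mp (top_le_iff.mp hHD)
  · intro x hx
    exact hCD ⟨Subgroup.mem_top x, hx⟩

theorem pstableOn {G : Type*} [Group G] [Finite G] (p : ℕ) [Fact p.Prime] (hp2 : p ≠ 2)
    (hp3 : p ≠ 3) (hsol : Cfsg.IsPSolvable p G) (V : Subgroup G) [V.Normal]
    (hVc : IsMulCommutative V) (hVp : ∀ v ∈ V, v ^ p = 1) : Cfsg.IsPStableOn p V := by
  intro a hqa
  obtain ⟨D, hDn, hCD, haD, hDp⟩ := stable_normal p hp2 hp3 hsol V hVc hVp a (quad_of_comm V a hqa)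
  have hn : (D.map (QuotientGroup.mk' (Subgroup.centralizer (V : Set G)))).Normal :=
    hDn.map _ (QuotientGroup.mk'_surjective _)
  have hpg : IsPGroup p (D.map (QuotientGroup.mk' (Subgroup.centralizer (V : Set G)))) := by
    rintro ⟨_, d, hd, rfl⟩
    obtain ⟨j, hj⟩ := hDp d hd
    refine ⟨j, Subtype.ext ?_⟩
    show (QuotientGroup.mk' _ d) ^ p ^ j = 1
    rw [← map_pow]
    exact (QuotientGroup.eq_one_iff _).mpr hj
  have hle : D.map (QuotientGroup.mk' (Subgroup.centralizer (V : Set G))) ≤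
      Cfsg.pCore p (G ⧸ Subgroup.centralizer (V : Set G)) := le_sSup ⟨hn, hpg⟩
  exact hle ⟨a, haD, rfl⟩

theorem mem_frattini_of {P : Type*} [Group P] (x : P)
    (h : ∀ M : Subgroup P, IsCoatom M → x ∈ M) : x ∈ frattini P := by
  unfold frattini Order.radical
  simp only [Subgroup.mem_iInf]
  intro M hM
  exact h M hM

/-- A p-separable group with p at least 5 is p-stable in the action sense. -/
theorem result {G : Type*} [Group G] [Finite G] {p : ℕ} [Fact p.Prime] (hp : 5 ≤ p) (hsep : Cfsg.IsPSolvable p G) : Cfsg.IsActionPStable p G := by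
  have hp2 : p ≠ 2 := by omega
  have hp3 : p ≠ 3 := by omega
  refine ⟨?_, ?_, ?_⟩
  · intro V _ hV
    exact pstableOn p hp2 hp3 hsep V hV.1 hV.2
  · intro a hqa
    have hKp : IsPGroup p (Cfsg.pCore p G) := Cfsg.Agent.Lib.Lead.Cores.pCore_isPGroup p
    have hfr1 : ∀ k ∈ Cfsg.pCore p G, k ^ p ∈ (frattini ↥(Cfsg.pCore p G)).map (Cfsg.pCore p G).subtype := by
      intro k hk
      refine ⟨⟨k, hk⟩ ^ p, mem_frattini_of _ (fun M hM => ?_), rfl⟩
      exact (Cfsg.Agent.Lib.Helper22.Regular.pgroup_coatom hKp M hM).1 _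
    have hfr2 : ∀ k ∈ Cfsg.pCore p G, ∀ l ∈ Cfsg.pCore p G,
        k * l * k⁻¹ * l⁻¹ ∈ (frattini ↥(Cfsg.pCore p G)).map (Cfsg.pCore p G).subtype := by
      intro k hk l hl
      refine ⟨⟨k, hk⟩ * ⟨l, hl⟩ * ⟨k, hk⟩⁻¹ * ⟨l, hl⟩⁻¹, mem_frattini_of _ (fun M hM => ?_), rfl⟩
      exact (Cfsg.Agent.Lib.Helper22.Regular.pgroup_coatom hKp M hM).2 _ _
    have hKn : (Cfsg.pCore p G).Normal := Cfsg.Agent.Lib.Lead.Cores.pCore_normal p
    have hVbn : ((Cfsg.pCore p G).map (QuotientGroup.mk'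
        ((frattini ↥(Cfsg.pCore p G)).map (Cfsg.pCore p G).subtype))).Normal :=
      hKn.map _ (QuotientGroup.mk'_surjective _)
    have habQ : Cfsg.IsPSolvable p (G ⧸ (frattini ↥(Cfsg.pCore p G)).map (Cfsg.pCore p G).subtype) :=
      Cfsg.Agent.Lib.Helper4.PSolv.isPSolvable_of_surjective (QuotientGroup.mk' _)
        (QuotientGroup.mk'_surjective _) hsep
    have hVc : IsMulCommutative ((Cfsg.pCore p G).map (QuotientGroup.mk'
        ((frattini ↥(Cfsg.pCore p G)).map (Cfsg.pCore p G).subtype))) := by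
      refine ⟨⟨fun x y => Subtype.ext ?_⟩⟩
      obtain ⟨k, hk, hkx⟩ := x.2
      obtain ⟨l, hl, hly⟩ := y.2
      show (x : G ⧸ (frattini ↥(Cfsg.pCore p G)).map (Cfsg.pCore p G).subtype) * y = y * x
      rw [← hkx, ← hly, ← map_mul, ← map_mul]
      apply QuotientGroup.eq.mpr
      have h1 := hfr2 l⁻¹ (Subgroup.inv_mem _ hl) k⁻¹ (Subgroup.inv_mem _ hk)
      have h2 : (k * l)⁻¹ * (l * k) = l⁻¹ * k⁻¹ * l⁻¹⁻¹ * k⁻¹⁻¹ := by group
      rw [h2]; exact h1
    have hVp : ∀ v ∈ (Cfsg.pCore p G).map (QuotientGroup.mk'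
        ((frattini ↥(Cfsg.pCore p G)).map (Cfsg.pCore p G).subtype)), v ^ p = 1 := by
      rintro _ ⟨k, hk, rfl⟩
      rw [← map_pow]
      exact (QuotientGroup.eq_one_iff _).mpr (hfr1 k hk)
    have hq : Quad ((Cfsg.pCore p G).map (QuotientGroup.mk'
        ((frattini ↥(Cfsg.pCore p G)).map (Cfsg.pCore p G).subtype)))
        (QuotientGroup.mk' ((frattini ↥(Cfsg.pCore p G)).map (Cfsg.pCore p G).subtype) a) := by
      rintro _ ⟨k, hk, rfl⟩
      have hc : a * k * a⁻¹ * k⁻¹ ∈ ⁅Cfsg.pCore p G, Subgroup.zpowers a⁆ := by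
        have h1 : ⁅k, a⁆ ∈ ⁅Cfsg.pCore p G, Subgroup.zpowers a⁆ :=
          Subgroup.commutator_mem_commutator hk (Subgroup.mem_zpowers a)
        have h2 : a * k * a⁻¹ * k⁻¹ = ⁅k, a⁆⁻¹ := by rw [commutatorElement_inv]; rfl
        rw [h2]; exact Subgroup.inv_mem _ h1
      have h3 : ⁅a * k * a⁻¹ * k⁻¹, a⁆ ∈ (frattini ↥(Cfsg.pCore p G)).map (Cfsg.pCore p G).subtype :=
        hqa (Subgroup.commutator_mem_commutator hc (Subgroup.mem_zpowers a))
      simp only [← map_mul, ← map_inv]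
      apply QuotientGroup.eq.mpr
      have h4 : (a * (a * k * a⁻¹ * k⁻¹) * a⁻¹)⁻¹ * (a * k * a⁻¹ * k⁻¹) =
          (a * k * a⁻¹ * k⁻¹)⁻¹ * ⁅a * k * a⁻¹ * k⁻¹, a⁆ * (a * k * a⁻¹ * k⁻¹)⁻¹⁻¹ := by
        rw [commutatorElement_def]; group
      rw [h4]
      exact (inferInstance : ((frattini ↥(Cfsg.pCore p G)).map
        (Cfsg.pCore p G).subtype).Normal).conj_mem _ h3 _
    have := hVbn
    obtain ⟨Db, hDn, hCD, haD, hDp⟩ := stable_normal p hp2 hp3 habQ _ hVc hVp _ hq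
    refine ⟨Db.comap (QuotientGroup.mk' ((frattini ↥(Cfsg.pCore p G)).map (Cfsg.pCore p G).subtype)),
      hDn.comap _, Subgroup.comap_mono hCD, ?_, haD⟩
    have hrel : (Cfsg.sectionKernel (Cfsg.pCore p G)
        ((frattini ↥(Cfsg.pCore p G)).map (Cfsg.pCore p G).subtype)).relIndex
        (Db.comap (QuotientGroup.mk' ((frattini ↥(Cfsg.pCore p G)).map (Cfsg.pCore p G).subtype))) =
        (Subgroup.centralizer (((Cfsg.pCore p G).map (QuotientGroup.mk'
          ((frattini ↥(Cfsg.pCore p G)).map (Cfsg.pCore p G).subtype)) : Subgroup _) : Set _)).relIndex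
          Db := by
      unfold Cfsg.sectionKernel
      rw [Subgroup.relIndex_comap,
        Subgroup.map_comap_eq_self_of_surjective (QuotientGroup.mk'_surjective _)]
    rw [hrel]
    have hpq : IsPGroup p (Db ⧸ (Subgroup.centralizer (((Cfsg.pCore p G).map (QuotientGroup.mk'
          ((frattini ↥(Cfsg.pCore p G)).map (Cfsg.pCore p G).subtype)) : Subgroup _) :
          Set _)).subgroupOf Db) := by
      intro x
      induction x using QuotientGroup.induction_on with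
      | H d =>
        obtain ⟨j, hj⟩ := hDp d.1 d.2
        refine ⟨j, ?_⟩
        rw [← QuotientGroup.mk_pow, QuotientGroup.eq_one_iff, Subgroup.mem_subgroupOf]
        exact hj
    obtain ⟨k, hk⟩ := IsPGroup.iff_card.mp hpq
    exact ⟨k, hk⟩
  · intro S V hVn hVle
    have hab' : Cfsg.IsPSolvable p ↥(Subgroup.normalizer (Cfsg.thompsonSubgroupOf p (S : Subgroup G) : Set G)) :=
      Cfsg.Agent.Lib.Helper12.PSolvable.isPSolvable_subgroup hsep _
    have hmem : ∀ x ∈ V, ∃ s ∈ Cfsg.omegaCenterThompson p ↥(S : Subgroup G),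
        ((s : (S : Subgroup G)) : G) = ((x : ↥(Subgroup.normalizer (Cfsg.thompsonSubgroupOf p (S : Subgroup G) : Set G))) : G) := by
      intro x hx
      have h1 : ((x : ↥(Subgroup.normalizer (Cfsg.thompsonSubgroupOf p (S : Subgroup G) : Set G))) : G) ∈
          V.map (Subgroup.normalizer (Cfsg.thompsonSubgroupOf p (S : Subgroup G) : Set G)).subtype :=
        ⟨x, hx, rfl⟩
      obtain ⟨s, hs, hsx⟩ := hVle h1
      exact ⟨s, hs, hsx⟩
    have hVc : IsMulCommutative V := by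
      refine ⟨⟨fun x y => Subtype.ext (Subtype.ext ?_)⟩⟩
      obtain ⟨s, hs, hsx⟩ := hmem x x.2
      obtain ⟨t, ht, hty⟩ := hmem y y.2
      have h1 := Cfsg.Agent.Lib.Helper16.PReduced2.omegaOne_center_comm (p := p)
        (Cfsg.thompsonSubgroup p ↥(S : Subgroup G)) s hs t ht
      show ((x : ↥(Subgroup.normalizer (Cfsg.thompsonSubgroupOf p (S : Subgroup G) : Set G))) : G) *
        ((y : ↥(Subgroup.normalizer (Cfsg.thompsonSubgroupOf p (S : Subgroup G) : Set G))) : G) = _ * _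
      rw [← hsx, ← hty]
      exact congrArg Subtype.val h1
    have hVp : ∀ v ∈ V, v ^ p = 1 := by
      intro v hv
      obtain ⟨s, hs, hsx⟩ := hmem v hv
      have h1 := Cfsg.Agent.Lib.Helper16.PReduced2.omegaOne_center_pow (p := p)
        (Cfsg.thompsonSubgroup p ↥(S : Subgroup G)) s hs
      apply Subtype.ext
      show ((v : ↥(Subgroup.normalizer (Cfsg.thompsonSubgroupOf p (S : Subgroup G) : Set G))) : G) ^ p = 1
      rw [← hsx]
      exact congrArg Subtype.val h1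
    exact pstableOn p hp2 hp3 hab' V hVc hVp

end Cfsg.Agent.S0625
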