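import Cfsg.Statements.S0109
import Cfsg.Agent.S0625
import Cfsg.Agent.S0626
import Cfsg.Agent.S0017
import Cfsg.Agent.S0601
import Cfsg.Agent.S0607
import Cfsg.Agent.S0608
import Cfsg.Agent.Lib.Lead.PSolvOfSolv

set_option autoImplicit false
open Cfsg

namespace Cfsg.Agent.S0109

/-- The Thompson factorization Theorem for solvable groups states that, with p odd (and abelian Sylow 2-subgroups when p = 3) and no nontrivial normal subgroup of order prime to p, every element of G is a product of an element normalizing J(P) and an element centralizing the elements of order dividing p in the centre of P. -/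
theorem result {G : Type*} [Group G] [Finite G] {p : ℕ} [Fact p.Prime] (hp : p ≠ 2) (hs : Group.IsSolvable G) (h3 : p = 3 → ∀ T : Sylow 2 G, IsMulCommutative T) (hF : ∀ N : Subgroup G, N.Normal → Nat.Coprime (Nat.card N) p → N = ⊥) (P : Sylow p G) (g : G) : ∃ a ∈ Subgroup.normalizer (Cfsg.thompsonSubgroupOf p (P : Subgroup G) : Set G), ∃ c ∈ Subgroup.centralizer {x : G | x ∈ (P : Subgroup G) ∧ (∀ y ∈ (P : Subgroup G), x * y = y * x) ∧ x ^ p = 1}, g = a * c := by
  have := hs
  have hO : Cfsg.pPrimeCore p G = ⊥ := by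
    rw [eq_bot_iff]
    apply sSup_le
    rintro N ⟨hNn, hNc⟩
    rw [hF N hNn hNc]
  have hc := Cfsg.Agent.S0017.result p hO
  obtain ⟨hVn, hVe, hVD⟩ := Cfsg.Agent.S0601.result hc
  obtain ⟨V, hVdef⟩ : ∃ V : Subgroup G, V = ⨆ S : Sylow p G, Cfsg.omegaOne p
      ((S : Subgroup G) ⊓ Subgroup.centralizer ((S : Subgroup G) : Set G)) := ⟨_, rfl⟩
  rw [← hVdef] at hVn hVe hVD
  have := hVn
  -- quadratic elements centralize V
  have hstab : ∀ a : G, Cfsg.Agent.Lib.Lead.QuadBridge.Quad V a →
      a ∈ Subgroup.centralizer (V : Set G) := by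
    intro a hq
    have hD : ∃ D : Subgroup G, D.Normal ∧ Subgroup.centralizer (V : Set G) ≤ D ∧ a ∈ D ∧
        ∀ d ∈ D, ∃ j : ℕ, d ^ p ^ j ∈ Subgroup.centralizer (V : Set G) := by
      by_cases h3' : p = 3
      · exact Cfsg.Agent.S0626.stable_normal p hp (h3 h3') V hVe.1 hVe.2 a hq
      · exact Cfsg.Agent.S0625.stable_normal p hp h3'
          (Cfsg.Agent.Lib.Lead.PSolvOfSolv.isPSolvable_of_isSolvable p) V hVe.1 hVe.2 a hq
    obtain ⟨D, hDn, hCD, haD, hDp⟩ := hD
    have hrel : ∃ k : ℕ, (Subgroup.centralizer (V : Set G)).relIndex D = p ^ k := by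
      have hpq : IsPGroup p (D ⧸ (Subgroup.centralizer (V : Set G)).subgroupOf D) := by
        intro x
        induction x using QuotientGroup.induction_on with
        | H d =>
          obtain ⟨j, hj⟩ := hDp d.1 d.2
          refine ⟨j, ?_⟩
          rw [← QuotientGroup.mk_pow, QuotientGroup.eq_one_iff, Subgroup.mem_subgroupOf]
          exact hj
      obtain ⟨k, hk⟩ := IsPGroup.iff_card.mp hpq
      exact ⟨k, hk⟩
    have hDC := hVD D hDn hCD hrel
    rw [hDC] at haD
    exact haD
  -- elementary abelian subgroups of largest order centralize V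
  have hmax : ∀ A ∈ Cfsg.maxElementaryAbelianSubgroups p G,
      A ≤ Subgroup.centralizer (V : Set G) := by
    intro A hA
    by_contra hnot
    have hne : ⁅V, A⁆ ≠ ⊥ := by
      intro h
      rw [Subgroup.commutator_comm, Subgroup.commutator_eq_bot_iff_le_centralizer] at h
      exact hnot h
    obtain ⟨-, hquad, hne'⟩ := Cfsg.Agent.S0607.result V hVe A hA
    apply hne' hne
    obtain ⟨A₀, hA₀⟩ : ∃ A₀ : Subgroup G,
        A₀ = ⁅V, A⁆ ⊔ (A ⊓ Subgroup.centralizer ((⁅V, A⁆ : Subgroup G) : Set G)) := ⟨_, rfl⟩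
    rw [← hA₀] at hquad ⊢
    rw [Subgroup.commutator_comm, Subgroup.commutator_eq_bot_iff_le_centralizer]
    intro a ha
    apply hstab
    apply Cfsg.Agent.Lib.Lead.QuadBridge.quad_of_comm
    rw [eq_bot_iff, ← hquad]
    exact Subgroup.commutator_mono
      (Subgroup.commutator_mono le_rfl ((Subgroup.zpowers_le).mpr ha))
      ((Subgroup.zpowers_le).mpr ha)
  have hJ : Cfsg.thompsonSubgroup p G ≤ Subgroup.centralizer (V : Set G) := by
    unfold Cfsg.thompsonSubgroup
    exact sSup_le hmax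
  rw [hVdef] at hJ
  have hTF := (Cfsg.Agent.S0608.result hO).mpr hJ
  obtain ⟨x, hx, c, hc', n, hn, hg⟩ := hTF P g⁻¹
  rw [hO, Subgroup.mem_bot] at hx
  subst hx
  rw [one_mul] at hg
  refine ⟨n⁻¹, Subgroup.inv_mem _ hn, c⁻¹, ?_, ?_⟩
  · apply Subgroup.inv_mem
    rw [Subgroup.mem_centralizer_iff]
    intro z hz
    have hzmem : z ∈ Cfsg.omegaOne p ((P : Subgroup G) ⊓
        Subgroup.centralizer ((P : Subgroup G) : Set G)) := by
      apply Subgroup.subset_closure
      have hzc : z ∈ Subgroup.centralizer ((P : Subgroup G) : Set G) :=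
        Subgroup.mem_centralizer_iff.mpr (fun y hy => (hz.2.1 y hy).symm)
      exact ⟨⟨hz.1, hzc⟩, hz.2.2⟩
    exact (Subgroup.mem_centralizer_iff.mp hc') z hzmem
  · rw [← inv_inv g, hg]
    group

end Cfsg.Agent.S0109
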