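import Cfsg.Statements.S0124
import Mathlib

set_option autoImplicit false
open Cfsg

namespace Cfsg.Agent.S0124

open scoped commutatorElement

section Collect

variable {R : Type*} [Group R]

/-- If `a * b = z * b * a` with `z` central then `a ^ k * b = z ^ k * b * a ^ k`. -/
theorem pow_swap_one (a b z : R) (h : a * b = z * b * a) (hz : ∀ g : R, z * g = g * z) (k : ℕ) :
    a ^ k * b = z ^ k * b * a ^ k := by
  induction k with
  | zero => simp
  | succ k ih =>
    calc a ^ (k + 1) * b = a ^ k * (a * b) := by rw [pow_succ, mul_assoc]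
      _ = a ^ k * (z * b * a) := by rw [h]
      _ = z * (a ^ k * b) * a := by
        rw [mul_assoc z b a, ← mul_assoc (a ^ k) z, ← hz (a ^ k)]; simp only [mul_assoc]
      _ = z * (z ^ k * b * a ^ k) * a := by rw [ih]
      _ = z ^ (k + 1) * b * a ^ (k + 1) := by
        rw [pow_succ' z, pow_succ a]; simp only [mul_assoc]

/-- moving a central element to the front -/
theorem mv (z : R) (hz : ∀ g : R, z * g = g * z) (g t : R) : g * (z * t) = z * (g * t) := by
  rw [← mul_assoc, ← hz g, mul_assoc]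

variable (x y c d e : R) (hyx : y * x = c * x * y) (hcx : c * x = d * x * c)
  (hyc : y * c = e * c * y) (hd : ∀ g : R, d * g = g * d) (he : ∀ g : R, e * g = g * e)

include hyx hyc he in
/-- `y ^ n * x = e ^ C(n,2) * c ^ n * x * y ^ n`. -/
theorem pow_left_collect (n : ℕ) : y ^ n * x = e ^ (n.choose 2) * c ^ n * x * y ^ n := by
  have hek : ∀ (j : ℕ) (g : R), e ^ j * g = g * e ^ j := fun j g =>
    ((Commute.pow_left (he g) j)).eq
  induction n with
  | zero => simp
  | succ n ih =>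
    have h1 : y ^ n * c = e ^ n * c * y ^ n := pow_swap_one y c e hyc he n
    have hch : (n + 1).choose 2 = n + n.choose 2 := by
      rw [Nat.choose_succ_succ' n 1, Nat.choose_one_right]
    calc y ^ (n + 1) * x = y ^ n * c * x * y := by
          rw [pow_succ, mul_assoc, hyx]; simp only [mul_assoc]
      _ = e ^ n * c * (y ^ n * x) * y := by rw [h1]; simp only [mul_assoc]
      _ = e ^ n * c * (e ^ (n.choose 2) * c ^ n * x * y ^ n) * y := by rw [ih]
      _ = e ^ ((n + 1).choose 2) * c ^ (n + 1) * x * y ^ (n + 1) := by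
        rw [hch, pow_add e, pow_succ' c, pow_succ y]
        simp only [mul_assoc, mv (e ^ _) (hek _) c]

include hyx hcx hyc hd he in
/-- The collection formula in class three. -/
theorem collect (n : ℕ) :
    (x * y) ^ n = x ^ n * c ^ (n.choose 2) * y ^ n * d ^ ((n + 1).choose 3) *
      e ^ (n.choose 3) := by
  have hek : ∀ (j : ℕ) (g : R), e ^ j * g = g * e ^ j := fun j g =>
    ((Commute.pow_left (he g) j)).eq
  have hdk : ∀ (j : ℕ) (g : R), d ^ j * g = g * d ^ j := fun j g =>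
    ((Commute.pow_left (hd g) j)).eq
  induction n with
  | zero => simp [Nat.choose]
  | succ n ih =>
    set A := n.choose 2 with hA
    set B := (n + 1).choose 3 with hB
    set C := n.choose 3 with hC
    have hch2 : (n + 1).choose 2 = A + n := by
      rw [Nat.choose_succ_succ' n 1, Nat.choose_one_right]; ring
    have hch3 : (n + 1 + 1).choose 3 = B + (A + n) := by
      rw [Nat.choose_succ_succ' (n + 1) 2, hch2]; ring
    have hch3' : (n + 1).choose 3 = C + A := by
      rw [Nat.choose_succ_succ' n 2]; ring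
    have s1 : c ^ (A + n) * x = d ^ (A + n) * x * c ^ (A + n) := pow_swap_one c x d hcx hd (A + n)
    have s3 : y ^ n * x = e ^ A * c ^ n * x * y ^ n := pow_left_collect x y c e hyx hyc he n
    calc (x * y) ^ (n + 1) = (x * y) ^ n * (x * y) := pow_succ _ _
      _ = x ^ n * c ^ A * y ^ n * d ^ B * e ^ C * (x * y) := by rw [ih]
      _ = d ^ B * (e ^ C * (x ^ n * (c ^ A * (y ^ n * x * y)))) := by
        simp only [mul_assoc, mv (d ^ _) (hdk _) (x ^ _), mv (d ^ _) (hdk _) (y ^ _),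
          mv (d ^ _) (hdk _) (c ^ _), mv (e ^ _) (hek _) (x ^ _), mv (e ^ _) (hek _) (y ^ _),
          mv (e ^ _) (hek _) (c ^ _), mv (d ^ _) (hdk _) (e ^ _)]
      _ = d ^ B * (e ^ C * (x ^ n * (c ^ A * (e ^ A * c ^ n * x * y ^ n * y)))) := by rw [s3]
      _ = d ^ B * (e ^ C * (e ^ A * (x ^ n * (c ^ (A + n) * x * y ^ (n + 1))))) := by
        rw [pow_add c, pow_succ y]
        simp only [mul_assoc, mv (e ^ _) (hek _) (x ^ _), mv (e ^ _) (hek _) (c ^ _)]
      _ = d ^ B * (e ^ C * (e ^ A * (x ^ n * (d ^ (A + n) * x * c ^ (A + n) * y ^ (n + 1))))) := by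
        rw [s1]
      _ = x ^ (n + 1) * c ^ (A + n) * y ^ (n + 1) * (d ^ B * d ^ (A + n)) * (e ^ C * e ^ A) := by
        rw [pow_succ x]
        simp only [mul_assoc, mv (d ^ _) (hdk _) (x ^ _), mv (d ^ _) (hdk _) (y ^ _),
          mv (d ^ _) (hdk _) (c ^ _), mv (e ^ _) (hek _) (x ^ _), mv (e ^ _) (hek _) (y ^ _),
          mv (e ^ _) (hek _) (c ^ _), mv (d ^ _) (hdk _) (e ^ _), mv (d ^ _) (hdk _) x,
          mv (e ^ _) (hek _) x, ← hdk _ (y ^ _), ← hek _ (y ^ _)]
      _ = x ^ (n + 1) * c ^ ((n + 1).choose 2) * y ^ (n + 1) * d ^ ((n + 1 + 1).choose 3) *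
          e ^ ((n + 1).choose 3) := by rw [hch2, hch3, hch3', ← pow_add, ← pow_add]

end Collect

section Main

variable {R : Type*} [Group R]

/-- If `a * b = z * b * a` with `z` central then `a * b ^ m = z ^ m * b ^ m * a`. -/
theorem pow_swap_one' (a b z : R) (h : a * b = z * b * a) (hz : ∀ g : R, z * g = g * z) (m : ℕ) :
    a * b ^ m = z ^ m * b ^ m * a := by
  have hzk : ∀ (j : ℕ) (g : R), z ^ j * g = g * z ^ j := fun j g =>
    ((Commute.pow_left (hz g) j)).eq
  induction m with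
  | zero => simp
  | succ m ih =>
    calc a * b ^ (m + 1) = a * b ^ m * b := by rw [pow_succ, mul_assoc]
      _ = z ^ m * b ^ m * (a * b) := by rw [ih]; simp only [mul_assoc]
      _ = z ^ m * b ^ m * (z * b * a) := by rw [h]
      _ = z ^ (m + 1) * b ^ (m + 1) * a := by
        rw [pow_succ z, pow_succ b]
        simp only [mul_assoc, mv z hz (b ^ _)]

/-- Elements of `γ₃` are central in class at most three. -/
theorem central_of_class_three
    (hcl : ⁅⁅commutator R, (⊤ : Subgroup R)⁆, (⊤ : Subgroup R)⁆ = ⊥) (u : R)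
    (hu : u ∈ ⁅commutator R, (⊤ : Subgroup R)⁆) (g : R) : u * g = g * u := by
  have : ⁅u, g⁆ ∈ ⁅⁅commutator R, (⊤ : Subgroup R)⁆, (⊤ : Subgroup R)⁆ :=
    Subgroup.commutator_mem_commutator hu (Subgroup.mem_top g)
  rw [hcl, Subgroup.mem_bot, commutatorElement_eq_one_iff_mul_comm] at this
  exact this

theorem comm_mem (x y : R) : ⁅y, x⁆ ∈ commutator R :=
  Subgroup.commutator_mem_commutator (Subgroup.mem_top _) (Subgroup.mem_top _)

theorem comm_mem_d (x y : R) : ⁅⁅y, x⁆, x⁆ ∈ ⁅commutator R, (⊤ : Subgroup R)⁆ :=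
  Subgroup.commutator_mem_commutator (comm_mem x y) (Subgroup.mem_top _)

theorem comm_mem_e (x y : R) : ⁅y, ⁅y, x⁆⁆ ∈ ⁅commutator R, (⊤ : Subgroup R)⁆ := by
  rw [← commutatorElement_inv]
  exact inv_mem (Subgroup.commutator_mem_commutator (comm_mem x y) (Subgroup.mem_top _))

theorem comm_rel (a b : R) : a * b = ⁅a, b⁆ * b * a := by
  rw [commutatorElement_def]; group

/-- The collection formula in class at most three, for commutators. -/
theorem collect_comm (hcl : ⁅⁅commutator R, (⊤ : Subgroup R)⁆, (⊤ : Subgroup R)⁆ = ⊥)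
    (x y : R) (n : ℕ) :
    (x * y) ^ n = x ^ n * ⁅y, x⁆ ^ (n.choose 2) * y ^ n * ⁅⁅y, x⁆, x⁆ ^ ((n + 1).choose 3) *
      ⁅y, ⁅y, x⁆⁆ ^ (n.choose 3) :=
  collect x y _ _ _ (comm_rel y x) (comm_rel _ x)
    (comm_rel y _) (central_of_class_three hcl _ (comm_mem_d x y))
    (central_of_class_three hcl _ (comm_mem_e x y)) n

theorem dvd_choose_two {p : ℕ} (hp : p.Prime) (h2 : p ≠ 2) : p ∣ p.choose 2 := by
  apply hp.dvd_choose_self (by norm_num)
  have := hp.two_le
  omega

theorem dvd_choose_three {p : ℕ} (hp : p.Prime) (h3 : 3 < p) : p ∣ p.choose 3 :=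
  hp.dvd_choose_self (by norm_num) h3

theorem dvd_choose_succ_three {p : ℕ} (hp : p.Prime) (h3 : 3 < p) : p ∣ (p + 1).choose 3 := by
  rw [Nat.choose_succ_succ' p 2]
  exact dvd_add (dvd_choose_two hp (by omega)) (dvd_choose_three hp h3)

theorem pow_eq_one_of_dvd {g : R} {p m : ℕ} (hg : g ^ p = 1) (h : p ∣ m) : g ^ m = 1 := by
  obtain ⟨k, rfl⟩ := h
  rw [pow_mul, hg, one_pow]

/-- In class at most three and for `p > 3`, the product of two elements of order dividing `p`
has order dividing `p`. -/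
theorem mul_pow_eq_one {p : ℕ} [Fact p.Prime] (hp : 3 < p)
    (hcl : ⁅⁅commutator R, (⊤ : Subgroup R)⁆, (⊤ : Subgroup R)⁆ = ⊥) (x y : R)
    (hx : x ^ p = 1) (hy : y ^ p = 1) : (x * y) ^ p = 1 := by
  have hpp : p.Prime := Fact.out
  have hdc := central_of_class_three hcl _ (comm_mem_d x y)
  have hec := central_of_class_three hcl _ (comm_mem_e x y)
  have hyx : y * x = ⁅y, x⁆ * x * y := comm_rel y x
  have hcx : ⁅y, x⁆ * x = ⁅⁅y, x⁆, x⁆ * x * ⁅y, x⁆ := comm_rel _ x
  have hyc : y * ⁅y, x⁆ = ⁅y, ⁅y, x⁆⁆ * ⁅y, x⁆ * y := comm_rel y _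
  have he : ⁅y, ⁅y, x⁆⁆ ^ p = 1 := by
    have h1 := pow_swap_one y ⁅y, x⁆ ⁅y, ⁅y, x⁆⁆ hyc hec p
    rw [hy, one_mul, mul_one] at h1
    exact (mul_eq_right.mp h1.symm)
  have hd : ⁅⁅y, x⁆, x⁆ ^ p = 1 := by
    have h1 := pow_swap_one' ⁅y, x⁆ x ⁅⁅y, x⁆, x⁆ hcx hdc p
    rw [hx, mul_one, mul_one] at h1
    exact (mul_eq_right.mp h1.symm)
  have hc : ⁅y, x⁆ ^ p = 1 := by
    have h1 := pow_left_collect x y ⁅y, x⁆ ⁅y, ⁅y, x⁆⁆ hyx hyc hec p
    rw [hy, one_mul, mul_one, pow_eq_one_of_dvd he (dvd_choose_two hpp (by omega)), one_mul] at h1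
    exact (mul_eq_right.mp h1.symm)
  rw [collect_comm hcl x y p, hx, hy, pow_eq_one_of_dvd hc (dvd_choose_two hpp (by omega)),
    pow_eq_one_of_dvd hd (dvd_choose_succ_three hpp hp),
    pow_eq_one_of_dvd he (dvd_choose_three hpp hp)]
  simp

end Main

/-- For p > 3, in a p-group of class at most three the elements of order dividing p generate a subgroup of exponent dividing p. -/
theorem result {R : Type*} [Group R] [Finite R] {p : ℕ} [Fact p.Prime] (hp : 3 < p) (hR : IsPGroup p R) (hcl : ⁅⁅commutator R, (⊤ : Subgroup R)⁆, (⊤ : Subgroup R)⁆ = ⊥) (g : R) (hg : g ∈ Subgroup.closure {x : R | x ^ p = 1}) : g ^ p = 1 := by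
  induction hg using Subgroup.closure_induction with
  | mem x hx => exact hx
  | one => exact one_pow p
  | mul x y _ _ hx hy => exact mul_pow_eq_one hp hcl x y hx hy
  | inv x _ hx => rw [inv_pow, hx, inv_one]

end Cfsg.Agent.S0124
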