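import Cfsg.Statements.S0126
import Cfsg.Agent.S0100
import Cfsg.Agent.Lib.Helper18.UniqueInvolution

set_option autoImplicit false
open Cfsg

namespace Cfsg.Agent.S0126

open scoped commutatorElement

/-- For odd p, every non-cyclic p-group contains a normal elementary abelian subgroup of order p^2. -/
theorem result {R : Type*} [Group R] [Finite R] {p : ℕ} [Fact p.Prime] (hp : p ≠ 2) (hR : IsPGroup p R) (hnc : ¬ IsCyclic R) : ∃ A : Subgroup R, A.Normal ∧ Cfsg.IsElementaryAbelian p A ∧ Nat.card A = p ^ 2 := by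
  classical
  have hpp : p.Prime := Fact.out
  obtain ⟨A, ⟨hAn, hAab, hAe⟩, hAmax⟩ := Set.exists_max_image
    {B : Subgroup R | B.Normal ∧ B ≤ Subgroup.centralizer (B : Set R) ∧ ∀ b ∈ B, b ^ p = 1}
    (fun B => Nat.card B) (Set.toFinite _)
    ⟨⊥, inferInstance, bot_le, fun b hb => by rw [Subgroup.mem_bot.1 hb, one_pow]⟩
  have hAmax' : ∀ B : Subgroup R, B.Normal → B ≤ Subgroup.centralizer (B : Set R) →
      (∀ b ∈ B, b ^ p = 1) → A ≤ B → B = A :=
    fun B h1 h2 h3 h4 => (Subgroup.eq_of_le_of_card_ge h4 (hAmax B ⟨h1, h2, h3⟩)).symm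
  have hL2 : ∀ x ∈ Subgroup.centralizer (A : Set R), x ^ p = 1 → x ∈ A := fun x hx hxp =>
    Cfsg.Agent.S0100.omega_centralizer_le hp hR A hAab hAe hAmax' x hx hxp
  by_cases hA2 : p ^ 2 ≤ Nat.card A
  · obtain ⟨N', hN'n, hN'le, hN'c⟩ := Cfsg.Agent.S0100.exists_normal_le_card hR A 2 hA2
    exact ⟨N', hN'n, ⟨Subgroup.le_centralizer_iff_isMulCommutative.1
      (hN'le.trans (hAab.trans (Subgroup.centralizer_le hN'le))),
      fun a ha => hAe a (hN'le ha)⟩, hN'c⟩
  · exfalso
    apply hnc
    push Not at hA2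
    obtain ⟨k, hk⟩ := (hR.to_subgroup A).exists_card_eq
    have hk1 : k ≤ 1 := by
      by_contra h
      have h2 : 2 ≤ k := by omega
      have h3 := Nat.pow_le_pow_right hpp.pos h2
      rw [← hk] at h3; omega
    have hAcard : Nat.card A ≤ p := by
      rw [hk]
      calc p ^ k ≤ p ^ 1 := Nat.pow_le_pow_right hpp.pos hk1
        _ = p := pow_one p
    have hAcen : Subgroup.centralizer (A : Set R) = ⊤ := by
      by_cases hAbot : A ≤ ⊥
      · rw [eq_top_iff]; intro x _; rw [Subgroup.mem_centralizer_iff]; intro a ha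
        rw [Subgroup.mem_bot.1 (hAbot ha)]; simp
      · obtain ⟨z, hzA, hz1, -, hzc⟩ := Cfsg.Agent.S0093.exists_central_mod hR ⊥ A hAbot
        have hz1' : z ≠ 1 := fun h => hz1 (by rw [h]; exact Subgroup.one_mem _)
        have hzcard : Nat.card (Subgroup.zpowers z) = p := by
          rw [Nat.card_zpowers]; exact orderOf_eq_prime (hAe z hzA) hz1'
        have hAz : Subgroup.zpowers z = A :=
          Subgroup.eq_of_le_of_card_ge (by rwa [Subgroup.zpowers_le]) (by rw [hzcard]; exact hAcard)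
        rw [eq_top_iff]; intro x _; rw [Subgroup.mem_centralizer_iff]; intro a ha
        rw [← hAz] at ha
        obtain ⟨i, rfl⟩ := Subgroup.mem_zpowers_iff.1 ha
        have hc : Commute z x :=
          commutatorElement_eq_one_iff_commute.1 (Subgroup.mem_bot.1 (hzc x))
        exact (hc.zpow_left i).eq
    have hsub : {g : R | g ^ p = 1} ⊆ (A : Set R) := fun g hg =>
      hL2 g (by rw [hAcen]; exact Subgroup.mem_top g) hg
    have hncard : Set.ncard {g : R | g ^ p = 1} ≤ p := by
      calc Set.ncard {g : R | g ^ p = 1} ≤ Set.ncard (A : Set R) :=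
            Set.ncard_le_ncard hsub (Set.toFinite _)
        _ = Nat.card A := rfl
        _ ≤ p := hAcard
    exact Cfsg.Agent.Lib.Helper18.UniqueInvolution.isCyclic_of_odd p hp _ R rfl hR hncard

end Cfsg.Agent.S0126
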