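import Cfsg.Statements.S0129
import Cfsg.Agent.S0093
import Cfsg.Agent.S0100

set_option autoImplicit false
open Cfsg

namespace Cfsg.Agent.S0129

open scoped commutatorElement

/-- In a `p`-group, a normal subgroup `B` contains, for each `p ^ i ≤ |B|`, a normal subgroup `M` of
order `p ^ i` whose centralizer has index at most `p ^ (i (i - 1) / 2)`. -/
theorem index_centralizer_le {G : Type*} [Group G] [Finite G] {p : ℕ} [hp : Fact p.Prime]
    (hG : IsPGroup p G) (B : Subgroup G) [hB : B.Normal] :
    ∀ i : ℕ, p ^ i ≤ Nat.card B → ∃ M : Subgroup G, M.Normal ∧ M ≤ B ∧ Nat.card M = p ^ i ∧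
      (Subgroup.centralizer (M : Set G)).index ≤ p ^ (i * (i - 1) / 2) := by
  intro i
  induction i with
  | zero =>
    intro _
    refine ⟨⊥, inferInstance, bot_le, by simp, ?_⟩
    have h1 : Subgroup.centralizer ((⊥ : Subgroup G) : Set G) = ⊤ := by
      rw [eq_top_iff]
      intro g _
      rw [Subgroup.mem_centralizer_iff]
      intro h hh
      rw [Subgroup.mem_bot.1 hh, one_mul, mul_one]
    rw [h1, Subgroup.index_top]
    simp
  | succ i ih =>
    intro hle
    obtain ⟨M, hMn, hMB, hMc, hMi⟩ :=
      ih (le_trans (Nat.pow_le_pow_right hp.out.pos (Nat.le_succ i)) hle)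
    haveI := hMn
    have hne : ¬ B ≤ M := by
      intro h
      have h1 := Subgroup.card_le_of_le h
      rw [hMc] at h1
      have h2 : p ^ i < p ^ (i + 1) := Nat.pow_lt_pow_right hp.out.one_lt (Nat.lt_succ_self i)
      omega
    obtain ⟨x, hxB, hxM, hxp, hxc⟩ := S0093.exists_central_mod hG M B hne
    haveI hM'n : (M ⊔ Subgroup.zpowers x).Normal := S0100.normal_sup_zpowers M x hxc
    refine ⟨M ⊔ Subgroup.zpowers x, hM'n, sup_le hMB (by rw [Subgroup.zpowers_le]; exact hxB),
      ?_, ?_⟩
    · rw [S0100.card_sup_zpowers M x hxp hxM, hMc, pow_succ']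
    · have hC'C : Subgroup.centralizer ((M ⊔ Subgroup.zpowers x : Subgroup G) : Set G)
          ≤ Subgroup.centralizer (M : Set G) :=
        Subgroup.centralizer_le (SetLike.coe_subset_coe.2 le_sup_left)
      have hrel : (Subgroup.centralizer ((M ⊔ Subgroup.zpowers x : Subgroup G) : Set G)).relIndex
          (Subgroup.centralizer (M : Set G)) ≤ p ^ i := by
        have hmem : ∀ g : G, ⁅g, x⁆ ∈ M := by
          intro g
          rw [← commutatorElement_inv]
          exact M.inv_mem (hxc g)
        let Θ : (↥(Subgroup.centralizer (M : Set G)) ⧸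
            (Subgroup.centralizer ((M ⊔ Subgroup.zpowers x : Subgroup G) : Set G)).subgroupOf
              (Subgroup.centralizer (M : Set G))) → ↥M :=
          fun q => ⟨⁅((Quotient.out q : ↥(Subgroup.centralizer (M : Set G))) : G), x⁆, hmem _⟩
        have hinj : Function.Injective Θ := by
          intro q q' hqq
          have h1 : ⁅((Quotient.out q : ↥(Subgroup.centralizer (M : Set G))) : G), x⁆
              = ⁅((Quotient.out q' : ↥(Subgroup.centralizer (M : Set G))) : G), x⁆ :=
            congrArg Subtype.val hqq
          rw [← QuotientGroup.out_eq' q, ← QuotientGroup.out_eq' q', QuotientGroup.eq,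
            Subgroup.mem_subgroupOf]
          generalize (Quotient.out q : ↥(Subgroup.centralizer (M : Set G))) = g at h1 ⊢
          generalize (Quotient.out q' : ↥(Subgroup.centralizer (M : Set G))) = g' at h1 ⊢
          have h2 : (g : G) * x * (g : G)⁻¹ = (g' : G) * x * (g' : G)⁻¹ := by
            rw [commutatorElement_def, commutatorElement_def] at h1
            exact mul_right_cancel h1
          have h3 : ((g : G)⁻¹ * (g' : G)) * x = x * ((g : G)⁻¹ * (g' : G)) := by
            calc (g : G)⁻¹ * g' * x = (g : G)⁻¹ * (g' * x * (g' : G)⁻¹) * g' := by group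
              _ = (g : G)⁻¹ * (g * x * (g : G)⁻¹) * g' := by rw [h2]
              _ = x * ((g : G)⁻¹ * g') := by group
          have hgC : (g : G)⁻¹ * (g' : G) ∈ Subgroup.centralizer (M : Set G) :=
            Subgroup.mul_mem _ (Subgroup.inv_mem _ g.2) g'.2
          have hw : M ⊔ Subgroup.zpowers x
              ≤ Subgroup.centralizer ({(g : G)⁻¹ * (g' : G)} : Set G) := by
            apply sup_le
            · intro m hm
              rw [Subgroup.mem_centralizer_iff]
              intro y hy
              rw [Set.mem_singleton_iff.1 hy]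
              exact ((Subgroup.mem_centralizer_iff.1 hgC) m hm).symm
            · rw [Subgroup.zpowers_le, Subgroup.mem_centralizer_iff]
              intro y hy
              rw [Set.mem_singleton_iff.1 hy]
              exact h3
          show ((g⁻¹ * g' : ↥(Subgroup.centralizer (M : Set G))) : G) ∈ _
          rw [Subgroup.coe_mul, Subgroup.coe_inv, Subgroup.mem_centralizer_iff]
          intro h hh
          exact (Subgroup.mem_centralizer_iff.1 (hw hh) _ (Set.mem_singleton _)).symm
        have h4 := Nat.card_le_card_of_injective Θ hinj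
        rw [hMc] at h4
        exact h4
      have hmul := Subgroup.relIndex_mul_index hC'C
      rw [← hmul]
      calc (Subgroup.centralizer ((M ⊔ Subgroup.zpowers x : Subgroup G) : Set G)).relIndex
            (Subgroup.centralizer (M : Set G)) * (Subgroup.centralizer (M : Set G)).index
          ≤ p ^ i * p ^ (i * (i - 1) / 2) := Nat.mul_le_mul hrel hMi
        _ = p ^ ((i + 1) * (i + 1 - 1) / 2) := by
          rw [← pow_add]
          congr 1
          have h : (i + 1) * (i + 1 - 1) = 2 * i + i * (i - 1) := by
            cases i with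
            | zero => rfl
            | succ j => simp; ring
          rw [h, Nat.mul_add_div (by norm_num : 0 < 2)]

/-- The order of a p-group is bounded by p^(a(a+1)/2) when it has a maximal normal abelian subgroup of order p^a. -/
theorem result {G : Type*} [Group G] [Finite G] {p : ℕ} [Fact p.Prime] (hG : IsPGroup p G) (A : Subgroup G) [A.Normal] (hA : IsMulCommutative A) (hmax : ∀ B : Subgroup G, B.Normal → IsMulCommutative B → A ≤ B → B = A) (a : ℕ) (ha : Nat.card A = p ^ a) : Nat.card G ≤ p ^ (a * (a + 1) / 2) := by
  have hpp : p.Prime := Fact.out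
  have hAab : ∀ u ∈ A, ∀ v ∈ A, u * v = v * u := fun u hu v hv =>
    congrArg Subtype.val (hA.is_comm.comm ⟨u, hu⟩ ⟨v, hv⟩)
  have hcent : Subgroup.centralizer (A : Set G) ≤ A := by
    by_contra hne
    obtain ⟨x, hxC, hxA, hxp, hxc⟩ :=
      S0093.exists_central_mod hG A (Subgroup.centralizer (A : Set G)) hne
    have hBn := S0100.normal_sup_zpowers A x hxc
    have hBeq : A ⊔ Subgroup.zpowers x = Subgroup.closure ((A : Set G) ∪ {x}) := by
      rw [Subgroup.closure_union, Subgroup.closure_eq, Subgroup.zpowers_eq_closure]
    have hBab : IsMulCommutative (A ⊔ Subgroup.zpowers x : Subgroup G) := by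
      rw [hBeq]
      apply Subgroup.isMulCommutative_closure
      have hx : ∀ u ∈ A, u * x = x * u := Subgroup.mem_centralizer_iff.1 hxC
      rintro u (hu | hu) v (hv | hv)
      · exact hAab u hu v hv
      · rw [Set.mem_singleton_iff.1 hv]; exact hx u hu
      · rw [Set.mem_singleton_iff.1 hu]; exact (hx v hv).symm
      · rw [Set.mem_singleton_iff.1 hu, Set.mem_singleton_iff.1 hv]
    have h1 := hmax _ hBn hBab le_sup_left
    apply hxA
    rw [← h1]
    exact Subgroup.mem_sup_right (Subgroup.mem_zpowers x)
  obtain ⟨M, -, hMA, hMc, hMi⟩ := index_centralizer_le hG A a (le_of_eq ha.symm)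
  have hMeq : M = A := Subgroup.eq_of_le_of_card_ge hMA (by rw [hMc, ha])
  rw [hMeq] at hMi
  have h2 : A.index ≤ (Subgroup.centralizer (A : Set G)).index :=
    Subgroup.index_antitone hcent
  have h3 := Subgroup.card_mul_index A
  rw [← h3, ha]
  calc p ^ a * A.index ≤ p ^ a * p ^ (a * (a - 1) / 2) :=
        Nat.mul_le_mul_left _ (le_trans h2 hMi)
    _ = p ^ (a * (a + 1) / 2) := by
      rw [← pow_add]
      congr 1
      have h : a * (a + 1) = 2 * a + a * (a - 1) := by
        cases a with
        | zero => rfl
        | succ j => simp; ring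
      rw [h, Nat.mul_add_div (by norm_num : 0 < 2)]

end Cfsg.Agent.S0129
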