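import Mathlib
import Cfsg.Statements.S0208
import Cfsg.Agent.Lib.Helper2.Dih

set_option autoImplicit false
open Cfsg

namespace Cfsg.Agent.S0208

open Cfsg.Agent.Lib.Helper2.Dih

/-- If x, y are involutions and xy has odd order, then some element of the subgroup generated by x and y conjugates x to y. -/
theorem result {G : Type*} [Group G] [Finite G] (x y : G) (hx : orderOf x = 2) (hy : orderOf y = 2) (hodd : Odd (orderOf (x * y))) : ∃ d ∈ Subgroup.closure ({x, y} : Set G), d * x * d⁻¹ = y := by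
  have hx2 := mul_self_of_orderOf hx
  have hy2 := mul_self_of_orderOf hy
  obtain ⟨k, hk⟩ := hodd
  refine ⟨(x * y) ^ (k : ℤ), (mem_closure_pair_iff hx2 hy2 _).mpr ⟨k, Or.inl rfl⟩, ?_⟩
  rw [zpow_conj_x hx2 hy2]
  have h1 : (x * y) ^ (-(2 * (k : ℤ))) = (x * y) ^ (1 - ((orderOf (x * y) : ℕ) : ℤ)) := by
    rw [hk]
    congr 1
    push_cast
    ring
  rw [h1, zpow_sub, zpow_one, zpow_natCast, pow_orderOf_eq_one, inv_one, mul_one, ← mul_assoc, hx2, one_mul]

end Cfsg.Agent.S0208
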