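import Mathlib
import Cfsg.Statements.S0209
import Cfsg.Agent.Lib.Helper2.Dih

set_option autoImplicit false
open Cfsg

namespace Cfsg.Agent.S0209

open Cfsg.Agent.Lib.Helper2.Dih

theorem aux {G : Type*} [Group G] [Finite G] (x y : G) (hx : orderOf x = 2) (hy : orderOf y = 2) (heven : Even (orderOf (x * y))) : (x * y) ^ (orderOf (x * y) / 2) * (x * y) ^ (orderOf (x * y) / 2) = 1 ∧ (x * y) ^ (orderOf (x * y) / 2) ≠ 1 ∧ Commute ((x * y) ^ (orderOf (x * y) / 2)) x := by
  have hx2 := mul_self_of_orderOf hx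
  have hy2 := mul_self_of_orderOf hy
  have hpos : 0 < orderOf (x * y) := orderOf_pos (x * y)
  obtain ⟨m, hm⟩ := heven
  have hm' : orderOf (x * y) / 2 = m := by omega
  rw [hm']
  have hzz : (x * y) ^ m * (x * y) ^ m = 1 := by
    rw [← pow_add, ← hm, pow_orderOf_eq_one]
  have hz1 : (x * y) ^ m ≠ 1 := by
    apply pow_ne_one_of_lt_orderOf
    · omega
    · omega
  refine ⟨hzz, hz1, ?_⟩
  have h := conj_zpow' hx2 hy2 (m : ℤ)
  rw [zpow_neg, zpow_natCast, inv_eq_self hzz] at h
  show (x * y) ^ m * x = x * (x * y) ^ m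
  calc (x * y) ^ m * x = (x * (x * y) ^ m * x) * x := by rw [h]
    _ = x * (x * y) ^ m := by rw [mul_assoc, hx2, mul_one]

/-- If x, y are involutions whose product has even order n, the element (xy)^(n/2) is an involution that commutes with x and with y. -/
theorem result {G : Type*} [Group G] [Finite G] (x y : G) (hx : orderOf x = 2) (hy : orderOf y = 2) (heven : Even (orderOf (x * y))) : orderOf ((x * y) ^ (orderOf (x * y) / 2)) = 2 ∧ Commute ((x * y) ^ (orderOf (x * y) / 2)) x ∧ Commute ((x * y) ^ (orderOf (x * y) / 2)) y := by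
  obtain ⟨h1, h2, h3⟩ := aux x y hx hy heven
  have hx2 := mul_self_of_orderOf hx
  refine ⟨orderOf_eq_two h1 h2, h3, ?_⟩
  have hy' : y = x * (x * y) := by rw [← mul_assoc, hx2, one_mul]
  have h4 : Commute ((x * y) ^ (orderOf (x * y) / 2)) (x * y) := (Commute.refl (x * y)).pow_left _
  have h5 := h3.mul_right h4
  rw [← hy'] at h5
  exact h5

end Cfsg.Agent.S0209
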