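import Mathlib
import Cfsg.Statements.S0220
import Cfsg.Agent.S0219

set_option autoImplicit false
open Cfsg

namespace Cfsg.Agent.S0220

/-- In a finite cyclic group two elements of order two coincide. -/
theorem eq_of_orderOf_two_of_isCyclic {K : Type*} [Group K] [Finite K] [IsCyclic K] (a b : K)
    (ha : orderOf a = 2) (hb : orderOf b = 2) : a = b := by
  classical
  have : Fintype K := Fintype.ofFinite K
  by_contra hab
  have h1 := IsCyclic.card_pow_eq_one_le (α := K) (n := 2) (by norm_num)
  have ha2 : a ^ 2 = 1 := by rw [← ha]; exact pow_orderOf_eq_one a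
  have hb2 : b ^ 2 = 1 := by rw [← hb]; exact pow_orderOf_eq_one b
  have ha1 : a ≠ 1 := by rintro rfl; simp at ha
  have hb1 : b ≠ 1 := by rintro rfl; simp at hb
  have hsub : ({1, a, b} : Finset K) ⊆ Finset.univ.filter (fun y : K => y ^ 2 = 1) := by
    intro y hy
    simp only [Finset.mem_insert, Finset.mem_singleton] at hy
    simp only [Finset.mem_filter, Finset.mem_univ, true_and]
    rcases hy with rfl | rfl | rfl
    · simp
    · exact ha2
    · exact hb2
  have h3 : ({1, a, b} : Finset K).card = 3 := by
    rw [Finset.card_insert_of_notMem, Finset.card_insert_of_notMem, Finset.card_singleton]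
    · simpa using hab
    · simp only [Finset.mem_insert, Finset.mem_singleton, not_or]
      exact ⟨fun h => ha1 h.symm, fun h => hb1 h.symm⟩
  have := Finset.card_le_card hsub
  omega

theorem aux {G : Type*} [Group G] [Finite G] [Fact (Nat.Prime 2)] (x : G) (hx : orderOf x = 2)
    (C : Subgroup G) (hC : C = Subgroup.centralizer ({x} : Set G)) (S : Sylow 2 ↥C)
    (hS : IsCyclic (S : Subgroup C)) : ∃ H : Subgroup G, H.index = 2 := by
  classical
  have hmem : ∀ y : G, y ∈ C ↔ ∀ h ∈ ({x} : Set G), h * y = y * h := by
    intro y; rw [hC, Subgroup.mem_centralizer_iff]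
  have hxC : x ∈ C := by
    rw [hmem]
    intro h hh
    rw [Set.mem_singleton_iff] at hh
    rw [hh]
  set x' : C := ⟨x, hxC⟩ with hx'
  have hx'ord : orderOf x' = 2 := by
    rw [← hx]
    exact (Subgroup.orderOf_mk x hxC)
  -- x' is central in C
  have hcomm : ∀ c : C, c * x' = x' * c := by
    intro c
    apply Subtype.ext
    exact (((hmem _).mp c.2) x rfl).symm
  -- x' ∈ S
  have hxS : x' ∈ (S : Subgroup C) := by
    haveI : (Subgroup.zpowers x').Normal := by
      constructor
      intro n hn g
      obtain ⟨k, rfl⟩ := Subgroup.mem_zpowers_iff.mp hn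
      have : g * x' ^ k * g⁻¹ = x' ^ k := by
        have h1 : Commute g x' := hcomm g
        rw [(h1.zpow_right k).eq, mul_inv_cancel_right]
      rw [this]
      exact hn
    have hz : IsPGroup 2 (Subgroup.zpowers x') := by
      apply IsPGroup.of_card (n := 1)
      rw [Nat.card_zpowers, hx'ord, pow_one]
    have hsup : IsPGroup 2 ((S : Subgroup C) ⊔ Subgroup.zpowers x' : Subgroup C) :=
      IsPGroup.to_sup_of_normal_right S.2 hz
    have := S.is_maximal' hsup le_sup_left
    rw [← this]
    exact (le_sup_right : Subgroup.zpowers x' ≤ _) (Subgroup.mem_zpowers x')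
  -- Sylow 2-subgroup P of G containing the image of S
  set S' : Subgroup G := (S : Subgroup C).map C.subtype with hS'
  have hS'p : IsPGroup 2 S' := S.2.map C.subtype
  obtain ⟨P, hP⟩ := hS'p.exists_le_sylow
  have hxS' : x ∈ S' := ⟨x', hxS, rfl⟩
  have hPS : (P : Subgroup G) = S' := by
    by_contra hne
    have hlt : S'.subgroupOf (P : Subgroup G) ≠ ⊤ := by
      intro htop
      rw [Subgroup.subgroupOf_eq_top] at htop
      exact hne (le_antisymm htop hP)
    haveI : Group.IsNilpotent (P : Subgroup G) := P.2.isNilpotent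
    have hnc := Group.normalizerCondition_of_isNilpotent (G := (P : Subgroup G))
    have hlt2 := hnc (S'.subgroupOf (P : Subgroup G)) (lt_top_iff_ne_top.mpr hlt)
    obtain ⟨g, hgN, hgH⟩ := SetLike.exists_of_lt hlt2
    rw [Subgroup.mem_normalizer_iff] at hgN
    have hgS' : (g : G) ∉ S' := fun h => hgH (Subgroup.mem_subgroupOf.mpr h)
    have hxP : x ∈ (P : Subgroup G) := hP hxS'
    have h1 := (hgN ⟨x, hxP⟩).mp (Subgroup.mem_subgroupOf.mpr hxS')
    rw [Subgroup.mem_subgroupOf] at h1
    have h1' : (g : G) * x * (g : G)⁻¹ ∈ S' := h1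
    obtain ⟨s, hsS, hs⟩ := h1'
    have hsord : orderOf s = 2 := by
      have h2 : orderOf (C.subtype s) = orderOf s := orderOf_injective C.subtype
        (Subgroup.subtype_injective C) s
      rw [← h2, hs]
      have h3 : orderOf ((g : G) * x * (g : G)⁻¹) = orderOf x := by
        have := orderOf_injective (MulAut.conj (g : G)).toMonoidHom
          (MulAut.conj (g : G)).injective x
        simpa using this
      rw [h3, hx]
    haveI : IsCyclic (S : Subgroup C) := hS
    have heq := eq_of_orderOf_two_of_isCyclic (K := (S : Subgroup C)) ⟨s, hsS⟩ ⟨x', hxS⟩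
      (by rw [Subgroup.orderOf_mk]; exact hsord) (by rw [Subgroup.orderOf_mk]; exact hx'ord)
    have hsx : s = x' := congrArg Subtype.val heq
    have hgx : (g : G) * x * (g : G)⁻¹ = x := by
      rw [← hs, hsx]
      rfl
    have hgC : (g : G) ∈ C := by
      rw [hmem]
      intro h hh
      rw [Set.mem_singleton_iff] at hh
      rw [hh]
      have := congrArg (fun y => y * (g : G)) hgx
      simp only [inv_mul_cancel_right] at this
      exact this.symm
    -- the 2-subgroup P ∩ C of C contains S, hence equals S
    have hT : IsPGroup 2 ((P : Subgroup G).subgroupOf C) := P.2.comap_subtype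
    have hST : (S : Subgroup C) ≤ (P : Subgroup G).subgroupOf C := by
      intro s hs
      rw [Subgroup.mem_subgroupOf]
      exact hP ⟨s, hs, rfl⟩
    have hTS := S.is_maximal' hT hST
    have hgT : (⟨(g : G), hgC⟩ : C) ∈ (P : Subgroup G).subgroupOf C := by
      rw [Subgroup.mem_subgroupOf]
      exact g.2
    rw [hTS] at hgT
    exact hgS' ⟨⟨(g : G), hgC⟩, hgT, rfl⟩
  have hcyc : IsCyclic (P : Subgroup G) := by
    rw [hPS]
    haveI : IsCyclic (S : Subgroup C) := hS
    exact isCyclic_of_surjective ((S : Subgroup C).equivMapOfInjective C.subtype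
      (Subgroup.subtype_injective C)).toMonoidHom
      ((S : Subgroup C).equivMapOfInjective C.subtype (Subgroup.subtype_injective C)).surjective
  have heven : Even (Nat.card G) := by
    rw [even_iff_two_dvd, ← hx]
    exact orderOf_dvd_natCard x
  exact Cfsg.Agent.S0219.result heven P hcyc

/-- If x is an involution of a finite group G and a Sylow 2-subgroup of the centralizer of x is cyclic, then G has a subgroup of index 2; in particular G is not simple unless it has order 2. -/
theorem result {G : Type*} [Group G] [Finite G] (x : G) (hx : orderOf x = 2) (S : Sylow 2 ↥(Subgroup.centralizer ({x} : Set G))) (hS : IsCyclic (S : Subgroup ↥(Subgroup.centralizer ({x} : Set G)))) : ∃ H : Subgroup G, H.index = 2 := by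
  haveI : Fact (Nat.Prime 2) := ⟨Nat.prime_two⟩
  exact aux x hx _ rfl S hS

end Cfsg.Agent.S0220
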