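import Mathlib
import Cfsg.Statements.S0213
import Cfsg.Agent.S0208
import Cfsg.Agent.S0209
import Cfsg.Agent.S0220
import Cfsg.Agent.Lib.Helper14.ClassSize

set_option autoImplicit false
open Cfsg

namespace Cfsg.Agent.S0213

theorem isConj_conj {G : Type*} [Group G] (x u g : G) : IsConj x (g * u * g⁻¹) ↔ IsConj x u := by
  constructor
  · intro h
    exact h.trans (isConj_iff.mpr ⟨g⁻¹, by group⟩)
  · intro h
    exact h.trans (isConj_iff.mpr ⟨g, rfl⟩)

theorem orderOf_of_isConj {G : Type*} [Group G] {x u : G} (h : IsConj x u) :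
    orderOf u = orderOf x := by
  obtain ⟨g, hg⟩ := isConj_iff.mp h
  rw [← hg]
  have := orderOf_injective (MulAut.conj g).toMonoidHom (MulAut.conj g).injective x
  simpa using this

theorem conj_mem_zpowers_iff {G : Type*} [Group G] (g a w : G) :
    g * w * g⁻¹ ∈ Subgroup.zpowers (g * a * g⁻¹) ↔ w ∈ Subgroup.zpowers a := by
  constructor
  · rintro ⟨k, hk⟩
    refine ⟨k, ?_⟩
    have h1 : (g * a * g⁻¹) ^ k = g * a ^ k * g⁻¹ := conj_zpow
    simp only at hk
    rw [h1] at hk
    have h2 := congrArg (fun y => g⁻¹ * y * g) hk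
    simpa [mul_assoc] using h2
  · rintro ⟨k, hk⟩
    refine ⟨k, ?_⟩
    have h1 : (g * a * g⁻¹) ^ k = g * a ^ k * g⁻¹ := conj_zpow
    simp only at hk
    simp only
    rw [h1, hk]

/-- Thompson Order Formula, two-class case: if every involution of the finite group G is conjugate to exactly one of the non-conjugate involutions x₁, x₂, and nᵢ is the number of pairs (u, v) with u conjugate to x₁, v conjugate to x₂ and xᵢ in the cyclic group generated by uv, then |G| = |C(x₂)| n₁ + |C(x₁)| n₂. -/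
theorem result {G : Type*} [Group G] [Finite G] (x₁ x₂ : G) (h₁ : orderOf x₁ = 2) (h₂ : orderOf x₂ = 2) (hnc : ¬ IsConj x₁ x₂) (hall : ∀ t : G, orderOf t = 2 → IsConj x₁ t ∨ IsConj x₂ t) : Nat.card G = Nat.card (Subgroup.centralizer ({x₂} : Set G)) * Nat.card {p : G × G // IsConj x₁ p.1 ∧ IsConj x₂ p.2 ∧ x₁ ∈ Subgroup.zpowers (p.1 * p.2)} + Nat.card (Subgroup.centralizer ({x₁} : Set G)) * Nat.card {p : G × G // IsConj x₁ p.1 ∧ IsConj x₂ p.2 ∧ x₂ ∈ Subgroup.zpowers (p.1 * p.2)} := by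
  classical
  have : Fintype G := Fintype.ofFinite G
  set K₁ : Finset G := Finset.univ.filter (fun u => IsConj x₁ u) with hK₁def
  set K₂ : Finset G := Finset.univ.filter (fun v => IsConj x₂ v) with hK₂def
  set S : G → Finset (G × G) := fun w => Finset.univ.filter (fun p : G × G =>
    IsConj x₁ p.1 ∧ IsConj x₂ p.2 ∧ w ∈ Subgroup.zpowers (p.1 * p.2)) with hSdef
  set P₀ : Finset (G × G) := Finset.univ.filter (fun p : G × G =>
    IsConj x₁ p.1 ∧ IsConj x₂ p.2) with hP₀def
  set z : G × G → G := fun p => (p.1 * p.2) ^ (orderOf (p.1 * p.2) / 2) with hzdef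
  have hmemP : ∀ p : G × G, p ∈ P₀ ↔ IsConj x₁ p.1 ∧ IsConj x₂ p.2 := by
    intro p; simp [hP₀def]
  have hz : ∀ p ∈ P₀, orderOf (z p) = 2 ∧ z p ∈ Subgroup.zpowers (p.1 * p.2) := by
    intro p hp
    obtain ⟨h1, h2⟩ := (hmemP p).mp hp
    have ho1 : orderOf p.1 = 2 := (orderOf_of_isConj h1).trans h₁
    have ho2 : orderOf p.2 = 2 := (orderOf_of_isConj h2).trans h₂
    have heven : Even (orderOf (p.1 * p.2)) := by
      by_contra hne
      have hodd : Odd (orderOf (p.1 * p.2)) := Nat.not_even_iff_odd.mp hne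
      obtain ⟨d, -, hd⟩ := Cfsg.Agent.S0208.result p.1 p.2 ho1 ho2 hodd
      exact hnc ((h1.trans (isConj_iff.mpr ⟨d, hd⟩)).trans h2.symm)
    exact ⟨(Cfsg.Agent.S0209.result p.1 p.2 ho1 ho2 heven).1,
      Subgroup.pow_mem _ (Subgroup.mem_zpowers _) _⟩
  have huniq : ∀ p ∈ P₀, ∀ w : G, orderOf w = 2 → w ∈ Subgroup.zpowers (p.1 * p.2) → w = z p := by
    intro p hp w hw2 hw
    obtain ⟨hz2, hzmem⟩ := hz p hp
    have := Cfsg.Agent.S0220.eq_of_orderOf_two_of_isCyclic
      (K := Subgroup.zpowers (p.1 * p.2)) ⟨w, hw⟩ ⟨z p, hzmem⟩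
      (by rw [Subgroup.orderOf_mk]; exact hw2) (by rw [Subgroup.orderOf_mk]; exact hz2)
    exact congrArg Subtype.val this
  have hfib : ∀ w : G, orderOf w = 2 → P₀.filter (fun p => z p = w) = S w := by
    intro w hw
    ext p
    simp only [Finset.mem_filter, hSdef, Finset.mem_univ, true_and]
    constructor
    · rintro ⟨hp, rfl⟩
      obtain ⟨h1, h2⟩ := (hmemP p).mp hp
      exact ⟨h1, h2, (hz p hp).2⟩
    · rintro ⟨h1, h2, h3⟩
      have hp : p ∈ P₀ := (hmemP p).mpr ⟨h1, h2⟩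
      exact ⟨hp, (huniq p hp w hw h3).symm⟩
  have hfib0 : ∀ w : G, orderOf w ≠ 2 → P₀.filter (fun p => z p = w) = ∅ := by
    intro w hw
    rw [Finset.filter_eq_empty_iff]
    intro p hp h
    exact hw (h ▸ (hz p hp).1)
  have hsum : P₀.card = ∑ w ∈ Finset.univ.filter (fun w : G => orderOf w = 2), (S w).card := by
    rw [Finset.card_eq_sum_card_fiberwise (f := z) (s := P₀) (t := Finset.univ)
      (fun _ _ => Finset.mem_coe.mpr (Finset.mem_univ _)), Finset.sum_filter]
    refine Finset.sum_congr rfl (fun w _ => ?_)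
    split_ifs with hw
    · rw [hfib w hw]
    · rw [hfib0 w hw, Finset.card_empty]
  have hI : Finset.univ.filter (fun w : G => orderOf w = 2) = K₁ ∪ K₂ := by
    ext w
    simp only [Finset.mem_filter, Finset.mem_univ, true_and, Finset.mem_union, hK₁def, hK₂def]
    constructor
    · exact hall w
    · rintro (h | h)
      · exact (orderOf_of_isConj h).trans h₁
      · exact (orderOf_of_isConj h).trans h₂
  have hdisj : Disjoint K₁ K₂ := by
    rw [Finset.disjoint_left]
    intro w h1 h2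
    simp only [Finset.mem_filter, Finset.mem_univ, true_and, hK₁def, hK₂def] at h1 h2
    exact hnc (h1.trans h2.symm)
  have hS : ∀ g w : G, (S (g * w * g⁻¹)).card = (S w).card := by
    intro g w
    symm
    let e : G × G ≃ G × G :=
      { toFun := fun p => (g * p.1 * g⁻¹, g * p.2 * g⁻¹)
        invFun := fun p => (g⁻¹ * p.1 * g, g⁻¹ * p.2 * g)
        left_inv := by intro p; ext <;> simp [mul_assoc]
        right_inv := by intro p; ext <;> simp [mul_assoc] }
    apply Finset.card_equiv e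
    intro p
    simp only [hSdef, Finset.mem_filter, Finset.mem_univ, true_and]
    have he : e p = (g * p.1 * g⁻¹, g * p.2 * g⁻¹) := rfl
    rw [he]
    simp only
    rw [isConj_conj, isConj_conj]
    have e2 : g * p.1 * g⁻¹ * (g * p.2 * g⁻¹) = g * (p.1 * p.2) * g⁻¹ := by group
    rw [e2, conj_mem_zpowers_iff]
  have hS₁ : ∀ w ∈ K₁, (S w).card = (S x₁).card := by
    intro w hw
    simp only [Finset.mem_filter, Finset.mem_univ, true_and, hK₁def] at hw
    obtain ⟨g, rfl⟩ := isConj_iff.mp hw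
    exact hS g x₁
  have hS₂ : ∀ w ∈ K₂, (S w).card = (S x₂).card := by
    intro w hw
    simp only [Finset.mem_filter, Finset.mem_univ, true_and, hK₂def] at hw
    obtain ⟨g, rfl⟩ := isConj_iff.mp hw
    exact hS g x₂
  rw [hI, Finset.sum_union hdisj, Finset.sum_congr rfl hS₁, Finset.sum_congr rfl hS₂,
    Finset.sum_const, Finset.sum_const, smul_eq_mul, smul_eq_mul] at hsum
  have hP₀ : P₀.card = K₁.card * K₂.card := by
    rw [hP₀def, hK₁def, hK₂def, ← Finset.univ_product_univ,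
      Finset.filter_product (fun u : G => IsConj x₁ u) (fun v : G => IsConj x₂ v),
      Finset.card_product]
  have hk₁ : Nat.card (Subgroup.centralizer ({x₁} : Set G)) * K₁.card = Nat.card G := by
    have h := Cfsg.Agent.Lib.Helper14.ClassSize.index_centralizer_eq_ncard x₁
    have h' := Subgroup.card_mul_index (Subgroup.centralizer ({x₁} : Set G))
    rw [h] at h'
    have : {h : G | IsConj x₁ h} = (K₁ : Set G) := by ext; simp [hK₁def]
    rw [this, Set.ncard_coe_finset] at h'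
    exact h'
  have hk₂ : Nat.card (Subgroup.centralizer ({x₂} : Set G)) * K₂.card = Nat.card G := by
    have h := Cfsg.Agent.Lib.Helper14.ClassSize.index_centralizer_eq_ncard x₂
    have h' := Subgroup.card_mul_index (Subgroup.centralizer ({x₂} : Set G))
    rw [h] at h'
    have : {h : G | IsConj x₂ h} = (K₂ : Set G) := by ext; simp [hK₂def]
    rw [this, Set.ncard_coe_finset] at h'
    exact h'
  have hn₁ : Nat.card {p : G × G // IsConj x₁ p.1 ∧ IsConj x₂ p.2 ∧
      x₁ ∈ Subgroup.zpowers (p.1 * p.2)} = (S x₁).card := by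
    rw [Nat.card_eq_fintype_card, Fintype.card_subtype]
  have hn₂ : Nat.card {p : G × G // IsConj x₁ p.1 ∧ IsConj x₂ p.2 ∧
      x₂ ∈ Subgroup.zpowers (p.1 * p.2)} = (S x₂).card := by
    rw [Nat.card_eq_fintype_card, Fintype.card_subtype]
  rw [hn₁, hn₂]
  rw [hP₀] at hsum
  have hNpos : 0 < Nat.card G := Nat.card_pos
  generalize Nat.card G = N at hk₁ hk₂ hNpos ⊢
  generalize Nat.card (Subgroup.centralizer ({x₁} : Set G)) = c₁ at hk₁ ⊢
  generalize Nat.card (Subgroup.centralizer ({x₂} : Set G)) = c₂ at hk₂ ⊢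
  generalize (S x₁).card = n₁ at hsum ⊢
  generalize (S x₂).card = n₂ at hsum ⊢
  generalize K₁.card = k₁ at hsum hk₁
  generalize K₂.card = k₂ at hsum hk₂
  have key : N * N = N * (c₂ * n₁ + c₁ * n₂) := by
    calc N * N = (c₁ * k₁) * (c₂ * k₂) := by rw [hk₁, hk₂]
      _ = c₁ * c₂ * (k₁ * k₂) := by ring
      _ = c₁ * c₂ * (k₁ * n₁ + k₂ * n₂) := by rw [hsum]
      _ = (c₁ * k₁) * (c₂ * n₁) + (c₂ * k₂) * (c₁ * n₂) := by ring
      _ = N * (c₂ * n₁ + c₁ * n₂) := by rw [hk₁, hk₂]; ring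
  exact Nat.eq_of_mul_eq_mul_left hNpos key

end Cfsg.Agent.S0213
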