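import Mathlib
import Cfsg.Statements.S0214
import Cfsg.Agent.Lib.Helper2.StrEmb
import Cfsg.Agent.Lib.Helper2.Dih
import Cfsg.Agent.Lib.Helper21.BaerSuzuki
import Cfsg.Agent.S0213

set_option autoImplicit false
open Cfsg

namespace Cfsg.Agent.S0214

theorem mem_normalizer_zpowers {G : Type*} [Group G] {c y : G} (h : c * y = y * c) :
    c ∈ Subgroup.normalizer ((Subgroup.zpowers y : Subgroup G) : Set G) := by
  rw [Subgroup.mem_normalizer_iff]
  have hc : ∀ w ∈ Subgroup.zpowers y, c * w * c⁻¹ = w := by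
    intro w hw
    obtain ⟨k, rfl⟩ := Subgroup.mem_zpowers_iff.mp hw
    have : Commute c (y ^ k) := (show Commute c y from h).zpow_right k
    rw [this.eq, mul_inv_cancel_right]
  have hc' : ∀ w ∈ Subgroup.zpowers y, c⁻¹ * w * c = w := by
    intro w hw
    obtain ⟨k, rfl⟩ := Subgroup.mem_zpowers_iff.mp hw
    have : Commute c (y ^ k) := (show Commute c y from h).zpow_right k
    rw [mul_assoc, ← this.eq, inv_mul_cancel_left]
  intro w
  constructor
  · intro hw; rw [hc w hw]; exact hw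
  · intro hw
    have := hc' _ hw
    have e : c⁻¹ * (c * w * c⁻¹) * c = w := by group
    rw [e] at this
    rw [this]; exact hw

open Cfsg.Agent.Lib.Helper21.BaerSuzuki in
theorem centralizer_le {G : Type*} [Group G] [Finite G] (H : Subgroup G) (P : Sylow 2 ↥H)
    (hyp : ∀ X : Subgroup ↥H, X ≤ (P : Subgroup ↥H) → X ≠ ⊥ →
      Subgroup.normalizer ((X.map H.subtype : Subgroup G) : Set G) ≤ H)
    (t : G) (htH : t ∈ H) (ht : orderOf t = 2) (c : G) (hc : c * t = t * c) : c ∈ H := by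
  have ht' : orderOf (⟨t, htH⟩ : ↥H) = 2 := by rw [← Subgroup.orderOf_coe]; exact ht
  have hp : IsPGroup 2 (Subgroup.zpowers (⟨t, htH⟩ : ↥H)) := by
    apply IsPGroup.of_card (n := 1); rw [Nat.card_zpowers, ht']; rfl
  obtain ⟨R, hR⟩ := hp.exists_le_sylow
  obtain ⟨h, hh⟩ := MulAction.exists_smul_eq ↥H P R
  have hmem : h⁻¹ * ⟨t, htH⟩ * h ∈ P := by
    rw [← mem_smul_sylow, hh]; exact hR (Subgroup.mem_zpowers _)
  have hX := hyp (Subgroup.zpowers (h⁻¹ * ⟨t, htH⟩ * h)) (by rw [Subgroup.zpowers_le]; exact hmem) (by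
    intro hbot
    have h1 : h⁻¹ * ⟨t, htH⟩ * h ∈ (⊥ : Subgroup ↥H) := hbot ▸ Subgroup.mem_zpowers _
    rw [Subgroup.mem_bot] at h1
    have h2 : (⟨t, htH⟩ : ↥H) = 1 := by
      calc (⟨t, htH⟩ : ↥H) = h * (h⁻¹ * ⟨t, htH⟩ * h) * h⁻¹ := by group
        _ = 1 := by rw [h1]; group
    rw [h2, orderOf_one] at ht'
    omega)
  rw [MonoidHom.map_zpowers] at hX
  have h3 : (h : G)⁻¹ * c * h ∈ H := hX (mem_normalizer_zpowers (by
    simp only [Subgroup.coe_subtype, Subgroup.coe_mul, InvMemClass.coe_inv]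
    calc (h : G)⁻¹ * c * h * ((h : G)⁻¹ * t * h) = (h : G)⁻¹ * (c * t) * h := by group
      _ = (h : G)⁻¹ * (t * c) * h := by rw [hc]
      _ = (h : G)⁻¹ * t * h * ((h : G)⁻¹ * c * h) := by group))
  have h4 := H.mul_mem (H.mul_mem h.2 h3) (H.inv_mem h.2)
  have e : (h : G) * ((h : G)⁻¹ * c * h) * (h : G)⁻¹ = c := by group
  rw [e] at h4
  exact h4
open Cfsg.Agent.Lib.Helper21.BaerSuzuki Cfsg.Agent.Lib.Helper2 in
theorem key {G : Type*} [Group G] [Finite G] (H : Subgroup G) (P : Sylow 2 ↥H)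
    (hyp : ∀ X : Subgroup ↥H, X ≤ (P : Subgroup ↥H) → X ≠ ⊥ →
      Subgroup.normalizer ((X.map H.subtype : Subgroup G) : Set G) ≤ H)
    (g : G) (u : ↥H) (huP : u ∈ P) (hu : orderOf u = 2) (hg : g⁻¹ * (u : G) * g ∈ H) : g ∈ H := by
  have hSH : (P : Subgroup ↥H).map H.subtype ≤ H := Subgroup.map_subtype_le _
  have hS2 : IsPGroup 2 ((P : Subgroup ↥H).map H.subtype) := P.isPGroup'.map _
  have huS : (u : G) ∈ (P : Subgroup ↥H).map H.subtype := Subgroup.mem_map_of_mem _ huP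
  have huG : orderOf (u : G) = 2 := by rw [Subgroup.orderOf_coe]; exact hu
  have hu1 : (u : G) ≠ 1 := Dih.ne_one_of_orderOf huG
  have hP : (P : Subgroup ↥H) ≠ ⊥ := by
    intro hbot
    have : u ∈ (⊥ : Subgroup ↥H) := hbot ▸ huP
    rw [Subgroup.mem_bot] at this
    rw [this, orderOf_one] at hu
    omega
  -- a central involution of S
  obtain ⟨zG, hzS, hz2, hzc⟩ : ∃ zG : G, zG ∈ (P : Subgroup ↥H).map H.subtype ∧ orderOf zG = 2 ∧
      ∀ y ∈ (P : Subgroup ↥H).map H.subtype, y * zG = zG * y := by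
    have : Nontrivial ↥((P : Subgroup ↥H).map H.subtype) :=
      ⟨⟨⟨(u : G), huS⟩, 1, fun h => hu1 (congrArg Subtype.val h)⟩⟩
    have := hS2.center_nontrivial
    have hc2 : IsPGroup 2 (Subgroup.center ↥((P : Subgroup ↥H).map H.subtype)) := hS2.to_subgroup _
    obtain ⟨n, hn, hcard⟩ := hc2.nontrivial_iff_card.mp inferInstance
    have : Fact (Nat.Prime 2) := ⟨Nat.prime_two⟩
    obtain ⟨z, hz⟩ := exists_prime_orderOf_dvd_card' (G := Subgroup.center ↥((P : Subgroup ↥H).map H.subtype)) 2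
      (by rw [hcard]; exact dvd_pow_self 2 hn.ne')
    refine ⟨((z : ↥((P : Subgroup ↥H).map H.subtype)) : G), (z : ↥((P : Subgroup ↥H).map H.subtype)).2, ?_, ?_⟩
    · rw [Subgroup.orderOf_coe, Subgroup.orderOf_coe]; exact hz
    · intro y hy
      have := Subgroup.mem_center_iff.mp z.2 ⟨y, hy⟩
      exact congrArg Subtype.val this
  have hs2 : orderOf (g⁻¹ * (u : G) * g) = 2 := by
    have : IsConj (u : G) (g⁻¹ * (u : G) * g) := isConj_iff.mpr ⟨g⁻¹, by group⟩
    exact (Cfsg.Agent.S0213.orderOf_of_isConj this).trans huG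
  have hw2 : orderOf (g⁻¹ * zG * g) = 2 := by
    have : IsConj zG (g⁻¹ * zG * g) := isConj_iff.mpr ⟨g⁻¹, by group⟩
    exact (Cfsg.Agent.S0213.orderOf_of_isConj this).trans hz2
  have hwH : g⁻¹ * zG * g ∈ H := by
    apply centralizer_le H P hyp _ hg hs2
    calc g⁻¹ * zG * g * (g⁻¹ * (u : G) * g) = g⁻¹ * (zG * u) * g := by group
      _ = g⁻¹ * (u * zG) * g := by rw [hzc u huS]
      _ = g⁻¹ * (u : G) * g * (g⁻¹ * zG * g) := by group
  have hconj : ∀ y ∈ (P : Subgroup ↥H).map H.subtype, g⁻¹ * y * g ∈ H := by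
    intro y hy
    apply centralizer_le H P hyp _ hwH hw2
    calc g⁻¹ * y * g * (g⁻¹ * zG * g) = g⁻¹ * (y * zG) * g := by group
      _ = g⁻¹ * (zG * y) * g := by rw [hzc y hy]
      _ = g⁻¹ * zG * g * (g⁻¹ * y * g) := by group
  -- the conjugate Sylow subgroup
  have hS2' : IsPGroup 2 (((P : Subgroup ↥H).map H.subtype).map (MulAut.conj g⁻¹).toMonoidHom) := hS2.map _
  have hle : ((P : Subgroup ↥H).map H.subtype).map (MulAut.conj g⁻¹).toMonoidHom ≤ H := by
    intro w hw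
    rw [StrEmb.mem_map_conj_iff] at hw
    have := hconj _ hw
    have e : g⁻¹ * (g⁻¹⁻¹ * w * g⁻¹) * g = w := by group
    rw [e] at this
    exact this
  have hQ2 : IsPGroup 2 ((((P : Subgroup ↥H).map H.subtype).map (MulAut.conj g⁻¹).toMonoidHom).subgroupOf H) := by
    rw [← Subgroup.comap_subtype]
    exact hS2'.comap_subtype
  have hQcard : Nat.card ((((P : Subgroup ↥H).map H.subtype).map (MulAut.conj g⁻¹).toMonoidHom).subgroupOf H)
      = Nat.card (P : Subgroup ↥H) := by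
    rw [Nat.card_congr (Subgroup.subgroupOfEquivOfLe hle).toEquiv,
      Subgroup.card_map_of_injective (MulAut.conj g⁻¹).injective,
      Subgroup.card_map_of_injective H.subtype_injective]
  obtain ⟨R, hR⟩ := hQ2.exists_le_sylow
  have hQR : (((P : Subgroup ↥H).map H.subtype).map (MulAut.conj g⁻¹).toMonoidHom).subgroupOf H = R := by
    apply Subgroup.eq_of_le_of_card_ge hR
    rw [hQcard]
    change Nat.card R ≤ Nat.card P
    rw [Sylow.card_eq_multiplicity, Sylow.card_eq_multiplicity]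
  obtain ⟨k, hk⟩ := MulAction.exists_smul_eq ↥H P R
  have hmemQ : ∀ w : ↥H, g * (w : G) * g⁻¹ ∈ (P : Subgroup ↥H).map H.subtype ↔ k⁻¹ * w * k ∈ P := by
    intro w
    rw [← mem_smul_sylow, hk]
    change _ ↔ w ∈ (R : Subgroup ↥H)
    rw [← hQR, Subgroup.mem_subgroupOf, StrEmb.mem_map_conj_iff, inv_inv]
  have hn : g * (k : G) ∈ Subgroup.normalizer (((P : Subgroup ↥H).map H.subtype : Subgroup G) : Set G) := by
    rw [Subgroup.mem_normalizer_iff'']
    intro y
    constructor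
    · intro hy
      have h1 := (hmemQ ⟨g⁻¹ * y * g, hconj y hy⟩).mp (by
        have e : g * (g⁻¹ * y * g) * g⁻¹ = y := by group
        simp only
        rw [e]; exact hy)
      have h2 := Subgroup.mem_map_of_mem H.subtype h1
      have e : (g * (k : G))⁻¹ * y * (g * (k : G)) = H.subtype (k⁻¹ * ⟨g⁻¹ * y * g, hconj y hy⟩ * k) := by
        simp only [Subgroup.coe_subtype, Subgroup.coe_mul, InvMemClass.coe_inv]
        group
      rw [e]; exact h2
    · intro hy
      obtain ⟨p, hp, hpe⟩ := hy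
      have h1 := (hmemQ (k * p * k⁻¹)).mpr (by
        have e : k⁻¹ * (k * p * k⁻¹) * k = p := by group
        rw [e]; exact hp)
      have e : g * ((k * p * k⁻¹ : ↥H) : G) * g⁻¹ = y := by
        simp only [Subgroup.coe_mul, InvMemClass.coe_inv]
        have : (p : G) = (g * (k : G))⁻¹ * y * (g * (k : G)) := hpe
        rw [this]; group
      rw [e] at h1
      exact h1
  have h5 := hyp P le_rfl hP hn
  have h6 := H.mul_mem h5 (H.inv_mem k.2)
  have e : g * (k : G) * (k : G)⁻¹ = g := by group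
  rw [e] at h6
  exact h6

/-- Let H be a proper subgroup of the finite group G and P a nontrivial Sylow 2-subgroup of H. Then H is strongly embedded in G if and only if N_G(X) ≤ H for every nontrivial subgroup X of P. -/
theorem result {G : Type*} [Group G] [Finite G] (H : Subgroup G) (hH : H ≠ ⊤) (P : Sylow 2 ↥H) (hP : (P : Subgroup ↥H) ≠ ⊥) : Cfsg.IsStronglyEmbedded H ↔ (∀ X : Subgroup ↥H, X ≤ (P : Subgroup ↥H) → X ≠ ⊥ → Subgroup.normalizer ((X.map H.subtype : Subgroup G) : Set G) ≤ H) := by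
  have heven : Even (Nat.card H) := by
    have hp2 : IsPGroup 2 (P : Subgroup ↥H) := P.isPGroup'
    have : Nontrivial ↥(P : Subgroup ↥H) := (Subgroup.nontrivial_iff_ne_bot _).mpr hP
    obtain ⟨n, hn, hcard⟩ := hp2.nontrivial_iff_card.mp this
    have h1 : 2 ∣ Nat.card (P : Subgroup ↥H) := by rw [hcard]; exact dvd_pow_self 2 hn.ne'
    exact even_iff_two_dvd.mpr (h1.trans (Subgroup.card_subgroup_dvd_card _))
  rw [Cfsg.Agent.Lib.Helper2.StrEmb.se_iff H hH heven]
  constructor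
  · intro h X hXP hX n hn
    have hX2 : IsPGroup 2 X := P.isPGroup'.to_le hXP
    have : Nontrivial ↥X := (Subgroup.nontrivial_iff_ne_bot _).mpr hX
    obtain ⟨m, hm, hcard⟩ := hX2.nontrivial_iff_card.mp this
    have : Fact (Nat.Prime 2) := ⟨Nat.prime_two⟩
    obtain ⟨x, hx⟩ := exists_prime_orderOf_dvd_card' (G := ↥X) 2 (by rw [hcard]; exact dvd_pow_self 2 hm.ne')
    have ht : orderOf (((x : ↥H) : G)) = 2 := by rw [Subgroup.orderOf_coe, Subgroup.orderOf_coe]; exact hx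
    have htX : ((x : ↥H) : G) ∈ X.map H.subtype := Subgroup.mem_map_of_mem _ x.2
    have h1 := (Subgroup.mem_normalizer_iff.mp hn _).mp htX
    have h2 : n * ((x : ↥H) : G) * n⁻¹ ∈ H := Subgroup.map_subtype_le _ h1
    have h3 := h n⁻¹ _ ht (x : ↥H).2 (by rw [inv_inv]; exact h2)
    exact (H.inv_mem_iff).mp h3
  · intro hyp g t ht htH hg
    have ht' : orderOf (⟨t, htH⟩ : ↥H) = 2 := by rw [← Subgroup.orderOf_coe]; exact ht
    have hp : IsPGroup 2 (Subgroup.zpowers (⟨t, htH⟩ : ↥H)) := by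
      apply IsPGroup.of_card (n := 1); rw [Nat.card_zpowers, ht']; rfl
    obtain ⟨R, hR⟩ := hp.exists_le_sylow
    obtain ⟨h, hh⟩ := MulAction.exists_smul_eq ↥H P R
    have hmem : h⁻¹ * ⟨t, htH⟩ * h ∈ P := by
      rw [← Cfsg.Agent.Lib.Helper21.BaerSuzuki.mem_smul_sylow, hh]; exact hR (Subgroup.mem_zpowers _)
    have hord : orderOf (h⁻¹ * ⟨t, htH⟩ * h) = 2 := by
      have : IsConj (⟨t, htH⟩ : ↥H) (h⁻¹ * ⟨t, htH⟩ * h) := isConj_iff.mpr ⟨h⁻¹, by group⟩
      exact (Cfsg.Agent.S0213.orderOf_of_isConj this).trans ht'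
    have h7 := key H P hyp ((h : G)⁻¹ * g) (h⁻¹ * ⟨t, htH⟩ * h) hmem hord (by
      simp only [Subgroup.coe_mul, InvMemClass.coe_inv]
      have e : ((h : G)⁻¹ * g)⁻¹ * ((h : G)⁻¹ * t * h) * ((h : G)⁻¹ * g) = g⁻¹ * t * g := by group
      rw [e]; exact hg)
    have h8 := H.mul_mem h.2 h7
    rwa [mul_inv_cancel_left] at h8

end Cfsg.Agent.S0214
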