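import Mathlib
import Cfsg.Statements.S0223
import Cfsg.Agent.Lib.Helper2.StrEmb
import Cfsg.Agent.S0213

set_option autoImplicit false
open Cfsg

namespace Cfsg.Agent.S0223

/-- Let H be a proper subgroup of even order of the finite group G. Then H is strongly embedded if and only if (i) C_G(t) ≤ H for every involution t of H and (ii) H controls fusion of its involutions: involutions of H conjugate in G are conjugate in H. -/
theorem result {G : Type*} [Group G] [Finite G] (H : Subgroup G) (hH : H ≠ ⊤) (heven : Even (Nat.card H)) : Cfsg.IsStronglyEmbedded H ↔ ((∀ t ∈ H, orderOf t = 2 → Subgroup.centralizer ({t} : Set G) ≤ H) ∧ (∀ t ∈ H, ∀ s ∈ H, orderOf t = 2 → orderOf s = 2 → IsConj t s → ∃ h ∈ H, h * t * h⁻¹ = s)) := by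
  rw [Cfsg.Agent.Lib.Helper2.StrEmb.se_iff H hH heven]
  constructor
  · intro h
    constructor
    · intro t htH ht g hg
      rw [Subgroup.mem_centralizer_iff] at hg
      have hg' := hg t rfl
      apply h g t ht htH
      have : g⁻¹ * t * g = t := by
        calc g⁻¹ * t * g = g⁻¹ * (t * g) := by group
          _ = g⁻¹ * (g * t) := by rw [hg']
          _ = t := by group
      rw [this]; exact htH
    · intro t htH s hsH ht hs hconj
      obtain ⟨g, hg⟩ := isConj_iff.mp hconj
      refine ⟨g, ?_, hg⟩
      apply h g s hs hsH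
      have e2 : g⁻¹ * s * g = t := by rw [← hg]; group
      rw [e2]; exact htH
  · rintro ⟨h1, h2⟩ g t ht htH hg
    have hs : orderOf (g⁻¹ * t * g) = 2 := by
      have : IsConj t (g⁻¹ * t * g) := isConj_iff.mpr ⟨g⁻¹, by group⟩
      exact (Cfsg.Agent.S0213.orderOf_of_isConj this).trans ht
    obtain ⟨h, hhH, hh⟩ := h2 (g⁻¹ * t * g) hg t htH hs ht (isConj_iff.mpr ⟨g, by group⟩)
    have hcen : g * h⁻¹ ∈ Subgroup.centralizer ({t} : Set G) := by
      rw [Subgroup.mem_centralizer_iff]
      intro x hx
      rw [Set.mem_singleton_iff] at hx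
      subst hx
      have e : g⁻¹ * x * g = h⁻¹ * x * h := by
        calc g⁻¹ * x * g = h⁻¹ * (h * (g⁻¹ * x * g) * h⁻¹) * h := by group
          _ = h⁻¹ * x * h := by rw [hh]
      calc x * (g * h⁻¹) = g * (g⁻¹ * x * g) * h⁻¹ := by group
        _ = g * (h⁻¹ * x * h) * h⁻¹ := by rw [e]
        _ = g * h⁻¹ * x := by group
    have := h1 t htH ht hcen
    have := H.mul_mem this hhH
    simpa using this

end Cfsg.Agent.S0223
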