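import Mathlib
import Cfsg.Statements.S0224
import Cfsg.Agent.Lib.Helper2.StrEmb

set_option autoImplicit false
open Cfsg

namespace Cfsg.Agent.S0224

theorem fix_iff {G : Type*} [Group G] (H : Subgroup G) (t g : G) :
    t • (QuotientGroup.mk g : G ⧸ H) = QuotientGroup.mk g ↔ g⁻¹ * t * g ∈ H := by
  rw [MulAction.Quotient.smul_mk, QuotientGroup.eq]
  have e : (t • g)⁻¹ * g = (g⁻¹ * t * g)⁻¹ := by simp [smul_eq_mul]; group
  rw [e, inv_mem_iff]

/-- Let H be a proper subgroup of even order of the finite group G. Then H is strongly embedded if and only if each involution of H fixes exactly one point (namely the coset H) in the action of G on the cosets of H. -/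
theorem result {G : Type*} [Group G] [Finite G] (H : Subgroup G) (hH : H ≠ ⊤) (heven : Even (Nat.card H)) : Cfsg.IsStronglyEmbedded H ↔ ∀ t ∈ H, orderOf t = 2 → Nat.card {c : G ⧸ H // t • c = c} = 1 := by
  rw [Cfsg.Agent.Lib.Helper2.StrEmb.se_iff H hH heven]
  constructor
  · intro h t htH ht
    rw [Nat.card_eq_one_iff_unique]
    constructor
    · constructor
      rintro ⟨c1, h1⟩ ⟨c2, h2⟩
      apply Subtype.ext
      simp only
      induction c1 using QuotientGroup.induction_on with
      | H g1 =>
        induction c2 using QuotientGroup.induction_on with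
        | H g2 =>
          have m1 := h g1 t ht htH ((fix_iff H t g1).mp h1)
          have m2 := h g2 t ht htH ((fix_iff H t g2).mp h2)
          rw [QuotientGroup.eq]
          exact H.mul_mem (H.inv_mem m1) m2
    · refine ⟨⟨QuotientGroup.mk 1, ?_⟩⟩
      rw [fix_iff]
      simpa using htH
  · intro h g t ht htH hg
    have hc := h t htH ht
    rw [Nat.card_eq_one_iff_unique] at hc
    obtain ⟨hsub, -⟩ := hc
    have h1 : t • (QuotientGroup.mk 1 : G ⧸ H) = QuotientGroup.mk 1 := by
      rw [fix_iff]; simpa using htH
    have h2 : t • (QuotientGroup.mk g : G ⧸ H) = QuotientGroup.mk g := (fix_iff H t g).mpr hg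
    have := hsub.elim ⟨_, h1⟩ ⟨_, h2⟩
    have := congrArg Subtype.val this
    simp only at this
    rw [QuotientGroup.eq] at this
    simpa using this

end Cfsg.Agent.S0224
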