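import Mathlib
import Cfsg.Statements.S0228
import Cfsg.Agent.Lib.Helper2.PermEmb
import Cfsg.Agent.Lib.Helper2.SimpleIndex
import Cfsg.Agent.Lib.Helper21.BaerSuzuki

set_option autoImplicit false
open Cfsg

namespace Cfsg.Agent.S0228

theorem comm_of_conj {G : Type*} [Group G] {g a : G} (h : g * a * g⁻¹ = a) : g * a = a * g := by
  calc g * a = (g * a * g⁻¹) * g := by group
    _ = a * g := by rw [h]

theorem exists_invol_of_comm {G : Type*} [Group G] [Finite G] (T : Subgroup G) (hT : Nat.card T = 4)
    (a t : G) (htT : t ∈ T) (ht1 : t ≠ 1) (hc : t * a = a * t) :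
    ∃ z ∈ T, orderOf z = 2 ∧ z * a = a * z := by
  have hdvd : orderOf t ∣ 4 := hT ▸ Subgroup.orderOf_dvd_natCard T htT
  have hne1 : orderOf t ≠ 1 := fun h => ht1 (orderOf_eq_one_iff.mp h)
  have hle : orderOf t ≤ 4 := Nat.le_of_dvd (by norm_num) hdvd
  have hpos := orderOf_pos t
  have h24 : orderOf t = 2 ∨ orderOf t = 4 := by
    interval_cases h : orderOf t
    · exact absurd rfl hne1
    · exact Or.inl rfl
    · norm_num at hdvd
    · exact Or.inr rfl
  rcases h24 with h2 | h4
  · exact ⟨t, htT, h2, hc⟩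
  · refine ⟨t ^ 2, T.pow_mem htT 2, ?_, ?_⟩
    · rw [orderOf_pow_of_dvd (by norm_num) (by rw [h4]; norm_num), h4]
    · exact ((show Commute t a from hc).pow_left 2).eq

theorem exists_central_invol {G : Type*} [Group G] [Finite G] (hG : Nat.card G = 12)
    (T : Subgroup G) (hT : Nat.card T = 4) (a : G) (ha : orderOf a = 3)
    (hconj : ∀ g : G, g * a * g⁻¹ = a ∨ g * a * g⁻¹ = a⁻¹) :
    ∃ z : G, orderOf z = 2 ∧ z ∈ Subgroup.center G := by
  have hcomm : ∀ x y : ↥T, x * y = y * x :=
    IsPGroup.commutative_of_card_eq_prime_sq (p := 2) (by rw [hT]; norm_num)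
  have key : ∃ z ∈ T, orderOf z = 2 ∧ z * a = a * z := by
    have hnt : Nontrivial ↥T := by
      rw [← Finite.one_lt_card_iff_nontrivial, hT]; norm_num
    obtain ⟨t', ht'⟩ := exists_ne (1 : ↥T)
    have ht1 : (t' : G) ≠ 1 := fun h => ht' (Subtype.ext h)
    rcases hconj t' with h | h
    · exact exists_invol_of_comm T hT a t' t'.2 ht1 (comm_of_conj h)
    · have hsq : (t' : G) ^ 2 * a = a * (t' : G) ^ 2 := by
        have e1 : (t' : G) ^ 2 * a * ((t' : G) ^ 2)⁻¹ = (t' : G) * ((t' : G) * a * (t' : G)⁻¹) * (t' : G)⁻¹ := by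
          rw [pow_two]; group
        have e2 : (t' : G) * a⁻¹ * (t' : G)⁻¹ = ((t' : G) * a * (t' : G)⁻¹)⁻¹ := by group
        have e3 : (t' : G) ^ 2 * a * ((t' : G) ^ 2)⁻¹ = a := by
          rw [e1, h, e2, h, inv_inv]
        exact comm_of_conj e3
      by_cases hsq1 : (t' : G) ^ 2 = 1
      · -- pick another element
        have hex : ∃ s ∈ T, s ∉ Subgroup.zpowers (t' : G) := by
          by_contra hall
          push Not at hall
          have hle : T ≤ Subgroup.zpowers (t' : G) := hall
          have h1 := Subgroup.card_le_of_le hle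
          have h2 : orderOf (t' : G) ≤ 2 := orderOf_le_of_pow_eq_one (by norm_num) hsq1
          rw [Nat.card_zpowers, hT] at h1
          omega
        obtain ⟨s, hsT, hs⟩ := hex
        have hs1 : s ≠ 1 := fun h => hs (h ▸ Subgroup.one_mem _)
        have hst : s ≠ (t' : G) := fun h => hs (h ▸ Subgroup.mem_zpowers _)
        rcases hconj s with h' | h'
        · exact exists_invol_of_comm T hT a s hsT hs1 (comm_of_conj h')
        · apply exists_invol_of_comm T hT a ((t' : G) * s) (T.mul_mem t'.2 hsT)
          · intro h1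
            apply hst
            have : s = (t' : G)⁻¹ := eq_inv_of_mul_eq_one_right h1
            rw [this]
            exact inv_eq_of_mul_eq_one_left (by rw [← pow_two]; exact hsq1)
          · have e1 : (t' : G) * s * a * ((t' : G) * s)⁻¹ = (t' : G) * (s * a * s⁻¹) * (t' : G)⁻¹ := by group
            have e2 : (t' : G) * a⁻¹ * (t' : G)⁻¹ = ((t' : G) * a * (t' : G)⁻¹)⁻¹ := by group
            have e3 : (t' : G) * s * a * ((t' : G) * s)⁻¹ = a := by
              rw [e1, h', e2, h, inv_inv]
            exact comm_of_conj e3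
      · exact exists_invol_of_comm T hT a _ (T.pow_mem t'.2 2) hsq1 hsq
  obtain ⟨z, hzT, hz2, hza⟩ := key
  refine ⟨z, hz2, ?_⟩
  have haC : a ∈ Subgroup.centralizer ({z} : Set G) := by
    rw [Subgroup.mem_centralizer_iff]
    intro h hh
    rw [Set.mem_singleton_iff] at hh
    rw [hh]; exact hza
  have hTC : T ≤ Subgroup.centralizer ({z} : Set G) := by
    intro t htT
    rw [Subgroup.mem_centralizer_iff]
    intro h hh
    rw [Set.mem_singleton_iff] at hh
    rw [hh]
    have := hcomm ⟨z, hzT⟩ ⟨t, htT⟩
    exact congrArg Subtype.val this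
  have h3 : 3 ∣ Nat.card (Subgroup.centralizer ({z} : Set G)) := ha ▸ Subgroup.orderOf_dvd_natCard _ haC
  have h4 : 4 ∣ Nat.card (Subgroup.centralizer ({z} : Set G)) := hT ▸ Subgroup.card_dvd_of_le hTC
  have h12 : 12 ∣ Nat.card (Subgroup.centralizer ({z} : Set G)) :=
    Nat.Coprime.mul_dvd_of_dvd_of_dvd (by norm_num : Nat.Coprime 3 4) h3 h4
  have hle : Nat.card (Subgroup.centralizer ({z} : Set G)) ≤ 12 := hG ▸ Subgroup.card_le_card_group _
  have hpos : 0 < Nat.card (Subgroup.centralizer ({z} : Set G)) := Nat.card_pos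
  have hcard : Nat.card (Subgroup.centralizer ({z} : Set G)) = Nat.card G := by
    rw [hG]
    obtain ⟨k, hk⟩ := h12
    omega
  have htop := (Subgroup.card_eq_iff_eq_top _).mp hcard
  rw [Subgroup.mem_center_iff]
  intro g
  have hg : g ∈ Subgroup.centralizer ({z} : Set G) := htop ▸ Subgroup.mem_top g
  rw [Subgroup.mem_centralizer_iff] at hg
  exact (hg z rfl).symm

/-- A group of order 12 in which no involution is central is isomorphic to the alternating group on four letters. -/
theorem result {G : Type*} [Group G] [Finite G] (hG : Nat.card G = 12) (hz : ∀ z : G, orderOf z = 2 → z ∉ Subgroup.center G) : Nonempty (G ≃* alternatingGroup (Fin 4)) := by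
  classical
  have : Fact (Nat.Prime 3) := ⟨by norm_num⟩
  have : Fact (Nat.Prime 2) := ⟨Nat.prime_two⟩
  have h3card : ∀ P : Sylow 3 G, Nat.card P = 3 := fun P => by
    have := Cfsg.Agent.Lib.Helper2.SimpleIndex.sylow_card_of (p := 3) 1 4 (by rw [hG]; norm_num) (by norm_num) P
    simpa using this
  have h2card : ∀ T : Sylow 2 G, Nat.card T = 4 := fun T => by
    have := Cfsg.Agent.Lib.Helper2.SimpleIndex.sylow_card_of (p := 2) 2 3 (by rw [hG]; norm_num) (by norm_num) T
    simpa using this
  obtain ⟨P⟩ : Nonempty (Sylow 3 G) := inferInstance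
  obtain ⟨T⟩ : Nonempty (Sylow 2 G) := inferInstance
  have hn3dvd : Nat.card (Sylow 3 G) ∣ 4 := by
    have h1 := Sylow.card_dvd_index P
    have h2 : (P : Subgroup G).index = 4 := by
      have h3 := (P : Subgroup G).card_mul_index
      have h4 : Nat.card (P : Subgroup G) = 3 := h3card P
      rw [hG, h4] at h3
      omega
    rwa [h2] at h1
  have hn3mod : Nat.card (Sylow 3 G) ≡ 1 [MOD 3] := card_sylow_modEq_one 3 G
  have hn3 : Nat.card (Sylow 3 G) = 1 ∨ Nat.card (Sylow 3 G) = 4 := by
    have hle : Nat.card (Sylow 3 G) ≤ 4 := Nat.le_of_dvd (by norm_num) hn3dvd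
    have hm := hn3mod
    unfold Nat.ModEq at hm
    omega
  rcases hn3 with h1 | h4
  · exfalso
    have hsub : Subsingleton (Sylow 3 G) := Finite.card_le_one_iff_subsingleton.mp h1.le
    have hnt : Nontrivial ↥(P : Subgroup G) := by
      rw [← Finite.one_lt_card_iff_nontrivial]
      have : Nat.card (P : Subgroup G) = 3 := h3card P
      omega
    obtain ⟨⟨a, haP⟩, ha'⟩ := exists_ne (1 : ↥(P : Subgroup G))
    have ha1 : a ≠ 1 := fun h => ha' (Subtype.ext h)
    have hao : orderOf a = 3 := by
      have hdvd : orderOf a ∣ 3 := by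
        have := Subgroup.orderOf_dvd_natCard (P : Subgroup G) haP
        rwa [show Nat.card (P : Subgroup G) = 3 from h3card P] at this
      rcases (Nat.dvd_prime (by norm_num : Nat.Prime 3)).mp hdvd with h | h
      · exact absurd (orderOf_eq_one_iff.mp h) ha1
      · exact h
    have hPz : (P : Subgroup G) = Subgroup.zpowers a := by
      symm
      apply Subgroup.eq_of_le_of_card_ge
      · rw [Subgroup.zpowers_le]; exact haP
      · rw [Nat.card_zpowers, hao]; exact (h3card P).le
    have hconj : ∀ g : G, g * a * g⁻¹ = a ∨ g * a * g⁻¹ = a⁻¹ := by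
      intro g
      have hmem : g * a * g⁻¹ ∈ (P : Subgroup G) := by
        have hgP : g • P = P := Subsingleton.elim _ _
        have := (Cfsg.Agent.Lib.Helper21.BaerSuzuki.mem_smul_sylow g (g * a * g⁻¹) P).mpr (by
          have e : g⁻¹ * (g * a * g⁻¹) * g = a := by group
          rw [e]; exact haP)
        rw [hgP] at this
        exact this
      rw [hPz] at hmem
      obtain ⟨k, hk⟩ := Subgroup.mem_zpowers_iff.mp hmem
      have hk3 : a ^ k = a ^ (k % 3) := by
        have := zpow_mod_orderOf a k
        rw [hao] at this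
        exact this.symm
      have hlt : k % 3 < 3 := Int.emod_lt_of_pos k (by norm_num)
      have hge : 0 ≤ k % 3 := Int.emod_nonneg k (by norm_num)
      have hcases : k % 3 = 0 ∨ k % 3 = 1 ∨ k % 3 = 2 := by omega
      rcases hcases with h0 | h1 | h2
      · exfalso
        rw [hk3, h0, zpow_zero] at hk
        apply ha1
        calc a = g⁻¹ * (g * a * g⁻¹) * g := by group
          _ = 1 := by rw [← hk]; group
      · left
        rw [← hk, hk3, h1, zpow_one]
      · right
        rw [← hk, hk3, h2]
        have h3 : a ^ (3 : ℤ) = 1 := by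
          have := pow_orderOf_eq_one a
          rw [hao] at this
          exact_mod_cast this
        have : a ^ (2 : ℤ) * a = 1 := by
          rw [← zpow_add_one]; exact h3
        exact eq_inv_of_mul_eq_one_left this
    obtain ⟨z, hz2, hzc⟩ := exists_central_invol hG (T : Subgroup G) (h2card T) a hao hconj
    exact hz z hz2 hzc
  · apply Cfsg.Agent.Lib.Helper2.PermEmb.nonempty_mulEquiv_alternatingGroup 4 h4
      (MulAction.toPermHom G (Sylow 3 G)) ?_ (by rw [hG]; rfl)
    rw [injective_iff_map_eq_one]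
    intro g hg
    by_contra hg1
    have hfix : ∀ Q : Sylow 3 G, g • Q = Q := fun Q => by
      have := congrArg (fun σ => σ Q) hg
      simpa using this
    have hmem : ∀ Q : Sylow 3 G, g ∈ (Q : Subgroup G) := by
      intro Q
      have h1 : g ∈ Subgroup.normalizer ((Q : Subgroup G) : Set G) :=
        Sylow.smul_eq_iff_mem_normalizer.mp (hfix Q)
      have hN : Nat.card (Subgroup.normalizer ((Q : Subgroup G) : Set G)) = 3 := by
        have hidx := Sylow.card_eq_index_normalizer Q
        have h5 := (Subgroup.normalizer ((Q : Subgroup G) : Set G)).card_mul_index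
        change Nat.card (Sylow 3 G) = (Subgroup.normalizer ((Q : Subgroup G) : Set G)).index at hidx
        rw [← hidx, h4, hG] at h5
        omega
      have : (Q : Subgroup G) = Subgroup.normalizer ((Q : Subgroup G) : Set G) :=
        Subgroup.eq_of_le_of_card_ge Subgroup.le_normalizer (by rw [hN]; exact (h3card Q).ge)
      rw [this]; exact h1
    have hall : ∀ Q Q' : Sylow 3 G, Q = Q' := by
      intro Q Q'
      by_contra hne
      have := Cfsg.Agent.Lib.Helper2.SimpleIndex.sylow_prime_ti h3card Q Q' hne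
      have hg' : g ∈ (Q : Subgroup G) ⊓ (Q' : Subgroup G) := ⟨hmem Q, hmem Q'⟩
      rw [this, Subgroup.mem_bot] at hg'
      exact hg1 hg'
    have : Nat.card (Sylow 3 G) ≤ 1 := Finite.card_le_one_iff_subsingleton.mpr ⟨hall⟩
    omega

end Cfsg.Agent.S0228
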