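import Mathlib
import Cfsg.Statements.S0521
import Cfsg.Agent.S0624
import Cfsg.Agent.S0626
import Cfsg.Agent.Lib.Lead.PSolvOfSolv
import Cfsg.Agent.Lib.Helper12.PSolvable
import Cfsg.Agent.Lib.Helper9.Cores
import Cfsg.Agent.Lib.Helper20.ESpecial
import Cfsg.Agent.Lib.Helper4.Card

set_option autoImplicit false
open Cfsg

open scoped commutatorElement

namespace Cfsg.Agent.S0521

universe u

/-- a `p`-element normalizing the cyclic `p`-group `⟨r⟩` acts trivially on it modulo `p`-th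
powers -/
theorem cyc_comm {Y : Type*} [Group Y] (p : ℕ) [Fact p.Prime] (r t : Y)
    (hr : ∃ n : ℕ, r ^ p ^ n = 1) (ht : ∃ n : ℕ, t ^ p ^ n = 1)
    (hk : t * r * t⁻¹ ∈ Subgroup.zpowers r) (j : ℤ) :
    ∃ m : ℤ, (r ^ j) * t * (r ^ j)⁻¹ * t⁻¹ = ((r ^ j) ^ p) ^ m := by
  by_cases hr1 : r = 1
  · subst hr1
    exact ⟨0, by simp⟩
  obtain ⟨k, hk⟩ := Subgroup.mem_zpowers_iff.mp hk
  have hconj : ∀ i : ℤ, t * r ^ i * t⁻¹ = r ^ (k * i) := by
    intro i
    rw [← conj_zpow, ← hk, ← zpow_mul]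
  have hiter : ∀ m : ℕ, t ^ m * r * (t ^ m)⁻¹ = r ^ (k ^ m) := by
    intro m
    induction m with
    | zero => simp
    | succ m ih =>
      have h1 : t ^ (m + 1) * r * (t ^ (m + 1))⁻¹ = t * (t ^ m * r * (t ^ m)⁻¹) * t⁻¹ := by
        rw [pow_succ']
        generalize t ^ m = s
        group
      rw [h1, ih, hconj, pow_succ']
  obtain ⟨n, hn⟩ := ht
  have h2 := hiter (p ^ n)
  rw [hn, one_mul, inv_one, mul_one] at h2
  have h3 : r ^ (k ^ p ^ n - 1) = 1 := by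
    rw [zpow_sub, zpow_one, ← h2, mul_inv_cancel]
  have h4 : (orderOf r : ℤ) ∣ k ^ p ^ n - 1 := orderOf_dvd_iff_zpow_eq_one.mpr h3
  have hpp := (Fact.out : p.Prime)
  have h5 : p ∣ orderOf r := by
    obtain ⟨n', hn'⟩ := hr
    have h6 : orderOf r ∣ p ^ n' := orderOf_dvd_of_pow_eq_one hn'
    obtain ⟨e, -, he⟩ := (Nat.dvd_prime_pow hpp).mp h6
    rcases Nat.eq_zero_or_pos e with h0 | h0
    · exfalso
      rw [h0, pow_zero] at he
      exact hr1 (orderOf_eq_one_iff.mp he)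
    · rw [he]; exact dvd_pow_self p h0.ne'
  have h7 : (p : ℤ) ∣ k ^ p ^ n - 1 := dvd_trans (Int.natCast_dvd_natCast.mpr h5) h4
  have h8 : ((k : ℤ) : ZMod p) = 1 := by
    have h9 : ((k ^ p ^ n - 1 : ℤ) : ZMod p) = 0 :=
      (ZMod.intCast_zmod_eq_zero_iff_dvd _ p).mpr h7
    push_cast at h9
    rw [ZMod.pow_card_pow] at h9
    exact sub_eq_zero.mp h9
  have h10 : (p : ℤ) ∣ 1 - k := by
    rw [← ZMod.intCast_zmod_eq_zero_iff_dvd]
    push_cast
    rw [h8, sub_self]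
  obtain ⟨m, hm⟩ := h10
  refine ⟨m, ?_⟩
  have h11 : r ^ j * t * (r ^ j)⁻¹ * t⁻¹ = r ^ j * (t * r ^ (-j) * t⁻¹) := by
    rw [zpow_neg]
    simp only [mul_assoc]
  rw [h11, hconj, ← zpow_add, ← zpow_natCast, ← zpow_mul, ← zpow_mul]
  congr 1
  linear_combination j * hm

theorem core521 {Y : Type u} [Group Y] [Finite Y] [Group.IsSolvable Y] (hY : Odd (Nat.card Y))
    (p : ℕ) [Fact p.Prime] (hp : p ≠ 2) (hbot : pPrimeCore p Y = ⊥) (T : Sylow p Y)
    (r₀ : Y) (hr₀T : r₀ ∈ (T : Subgroup Y))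
    (hr₀ : r₀ ∈ ⁅(T : Subgroup Y), (T : Subgroup Y)⁆)
    (hcyc : ∀ c ∈ ⁅(T : Subgroup Y), (T : Subgroup Y)⁆, c ∈ Subgroup.zpowers r₀) :
    (T : Subgroup Y) = pCore p Y := by
  have hPT : pCore p Y ≤ (T : Subgroup Y) := Cfsg.Agent.S0624.pCore_le_sylow T
  have hsolv : IsPSolvable p Y := Cfsg.Agent.Lib.Lead.PSolvOfSolv.isPSolvable_of_isSolvable p
  have hc := Cfsg.Agent.Lib.Helper12.PSolvable.hall_higman hsolv hbot
  have hab : ∀ T₂ : Sylow 2 Y, IsMulCommutative T₂ := by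
    intro T₂
    have hT1 : Nat.card T₂ = 1 := by
      obtain ⟨k, hk⟩ := (IsPGroup.iff_card.mp T₂.2)
      have hdvd : Nat.card T₂ ∣ Nat.card Y := Subgroup.card_subgroup_dvd_card _
      rcases Nat.eq_zero_or_pos k with h0 | h0
      · rw [hk, h0, pow_zero]
      · exfalso
        have h2 : 2 ∣ Nat.card Y := dvd_trans (by rw [hk]; exact dvd_pow_self 2 h0.ne') hdvd
        exact (Nat.not_even_iff_odd.mpr hY) (even_iff_two_dvd.mpr h2)
    have hsub : Subsingleton T₂ := (Nat.card_eq_one_iff_unique.mp hT1).1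
    exact ⟨⟨fun x y => Subsingleton.elim _ _⟩⟩
  have hst : IsActionPStable p Y := Cfsg.Agent.S0626.result hp hab
  have hPp : IsPGroup p ↥(pCore p Y) := Cfsg.Agent.Lib.Helper9.pCore_isPGroup p Y
  have hPn : (pCore p Y).Normal := inferInstance
  apply le_antisymm _ hPT
  intro a ha
  have hquad : ⁅⁅pCore p Y, Subgroup.zpowers a⁆, Subgroup.zpowers a⁆ ≤
      (frattini ↥(pCore p Y)).map (pCore p Y).subtype := by
    rw [Subgroup.commutator_le]
    intro c hc' t ht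
    have hcP : c ∈ pCore p Y :=
      (Subgroup.commutator_le_left (pCore p Y) (Subgroup.zpowers a)) hc'
    have hza : Subgroup.zpowers a ≤ (T : Subgroup Y) := (Subgroup.zpowers_le).mpr ha
    have hcT : c ∈ ⁅(T : Subgroup Y), (T : Subgroup Y)⁆ := Subgroup.commutator_mono hPT hza hc'
    obtain ⟨j, rfl⟩ := Subgroup.mem_zpowers_iff.mp (hcyc c hcT)
    have htT : t ∈ (T : Subgroup Y) := hza ht
    have hnorm : t * r₀ * t⁻¹ ∈ Subgroup.zpowers r₀ := by
      apply hcyc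
      have h1 : t * r₀ * t⁻¹ = ⁅t, r₀⁆ * r₀ := by
        rw [commutatorElement_def]; group
      rw [h1]
      exact Subgroup.mul_mem _ (Subgroup.commutator_mem_commutator htT hr₀T) hr₀
    have hrp : ∃ n : ℕ, r₀ ^ p ^ n = 1 := by
      obtain ⟨n, hn⟩ := T.isPGroup' ⟨r₀, hr₀T⟩
      exact ⟨n, congrArg Subtype.val hn⟩
    have htp : ∃ n : ℕ, t ^ p ^ n = 1 := by
      obtain ⟨n, hn⟩ := T.isPGroup' ⟨t, htT⟩
      exact ⟨n, congrArg Subtype.val hn⟩
    obtain ⟨m, hm⟩ := cyc_comm p r₀ t hrp htp hnorm j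
    rw [commutatorElement_def, hm]
    apply Subgroup.zpow_mem
    exact ⟨⟨r₀ ^ j, hcP⟩ ^ p, Cfsg.Agent.Lib.Helper20.ESpecial.pow_mem_frattini hPp _, rfl⟩
  obtain ⟨D, hDn, hCD, ⟨k, hk⟩, haD⟩ := hst.2.1 a hquad
  have hCp : IsPGroup p ↥(sectionKernel (pCore p Y)
      ((frattini ↥(pCore p Y)).map (pCore p Y).subtype)) :=
    Cfsg.Agent.S0624.sectionKernel_isPGroup hc _ rfl
  obtain ⟨i, hi⟩ := hCp.exists_card_eq
  have hcard := Cfsg.Agent.Lib.Helper4.Card.card_eq_relIndex_mul_card_inf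
    (sectionKernel (pCore p Y) ((frattini ↥(pCore p Y)).map (pCore p Y).subtype)) D
  rw [inf_eq_left.mpr hCD, hk, hi, ← pow_add] at hcard
  have hDp : IsPGroup p D := IsPGroup.of_card hcard
  exact Cfsg.Agent.Lib.Helper9.le_pCore hDn hDp haD

/-- Let X be a finite solvable group of odd order, p a prime and S a Sylow p-subgroup of X whose commutator subgroup is
cyclic. Then the product of the largest normal subgroup of X of order prime to p with S is a normal subgroup of X. -/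
theorem result {X : Type*} [Group X] [Finite X] [Group.IsSolvable X]
    (hX : Odd (Nat.card X)) (p : ℕ) [Fact p.Prime] (S : Sylow p X) (hS : IsCyclic (commutator (S : Subgroup X))) :
    (Cfsg.pPrimeCore p X ⊔ (S : Subgroup X)).Normal := by
  by_cases hp : p = 2
  · subst hp
    have hS1 : (S : Subgroup X) = ⊥ := by
      obtain ⟨k, hk⟩ := (IsPGroup.iff_card.mp S.2)
      have hdvd : Nat.card (S : Subgroup X) ∣ Nat.card X := Subgroup.card_subgroup_dvd_card _
      rcases Nat.eq_zero_or_pos k with h0 | h0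
      · rw [h0, pow_zero] at hk
        exact Subgroup.eq_bot_of_card_eq _ hk
      · exfalso
        have h2 : 2 ∣ Nat.card X := dvd_trans (by rw [hk]; exact dvd_pow_self 2 h0.ne') hdvd
        exact (Nat.not_even_iff_odd.mpr hX) (even_iff_two_dvd.mpr h2)
    rw [hS1, sup_bot_eq]
    infer_instance
  · have hsurj := QuotientGroup.mk'_surjective (Cfsg.pPrimeCore p X)
    have hbot : Cfsg.pPrimeCore p (X ⧸ Cfsg.pPrimeCore p X) = ⊥ :=
      Cfsg.Agent.Lib.Helper9.pPrimeCore_quotient_eq_bot p X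
    have hodd : Odd (Nat.card (X ⧸ Cfsg.pPrimeCore p X)) := by
      have hdvd : Nat.card (X ⧸ Cfsg.pPrimeCore p X) ∣ Nat.card X := by
        rw [← Subgroup.index_eq_card]; exact Subgroup.index_dvd_card _
      exact Odd.of_dvd_nat hX hdvd
    haveI := hS
    obtain ⟨g, hg⟩ := IsCyclic.exists_generator (α := ↥(commutator ↥(S : Subgroup X)))
    have hcomm : ⁅(S : Subgroup X), (S : Subgroup X)⁆ =
        (commutator ↥(S : Subgroup X)).map (S : Subgroup X).subtype := by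
      rw [commutator_def, Subgroup.map_commutator, ← MonoidHom.range_eq_map, Subgroup.range_subtype]
    obtain ⟨r, hr⟩ : ∃ r : X, r = ((g : ↥(S : Subgroup X)) : X) := ⟨_, rfl⟩
    have hrS : r ∈ (S : Subgroup X) := by rw [hr]; exact (g : ↥(S : Subgroup X)).2
    have hrC : r ∈ ⁅(S : Subgroup X), (S : Subgroup X)⁆ := by
      rw [hcomm, hr]; exact ⟨g, g.2, rfl⟩
    have hcycS : ∀ c ∈ ⁅(S : Subgroup X), (S : Subgroup X)⁆, c ∈ Subgroup.zpowers r := by
      intro c hc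
      rw [hcomm] at hc
      obtain ⟨c', hc', rfl⟩ := hc
      obtain ⟨i, hi⟩ := Subgroup.mem_zpowers_iff.mp (hg ⟨c', hc'⟩)
      rw [Subgroup.mem_zpowers_iff]
      refine ⟨i, ?_⟩
      have h1 := congrArg (fun z : ↥(commutator ↥(S : Subgroup X)) =>
        ((z : ↥(S : Subgroup X)) : X)) hi
      rw [hr]
      exact h1
    obtain ⟨π, hπ⟩ : ∃ π : X →* X ⧸ Cfsg.pPrimeCore p X,
        π = QuotientGroup.mk' (Cfsg.pPrimeCore p X) := ⟨_, rfl⟩
    have hTc : ((S.mapSurjective hsurj : Sylow p (X ⧸ Cfsg.pPrimeCore p X)) :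
        Subgroup (X ⧸ Cfsg.pPrimeCore p X)) = (S : Subgroup X).map π := by
      rw [Sylow.coe_mapSurjective, hπ]
    have hTT : ⁅(S : Subgroup X).map π, (S : Subgroup X).map π⁆ =
        (⁅(S : Subgroup X), (S : Subgroup X)⁆).map π := (Subgroup.map_commutator _ _ π).symm
    have h1 : π r ∈ ((S.mapSurjective hsurj : Sylow p (X ⧸ Cfsg.pPrimeCore p X)) :
        Subgroup (X ⧸ Cfsg.pPrimeCore p X)) := by
      rw [hTc]; exact Subgroup.mem_map_of_mem π hrS
    have h2 : π r ∈ ⁅((S.mapSurjective hsurj : Sylow p (X ⧸ Cfsg.pPrimeCore p X)) :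
        Subgroup (X ⧸ Cfsg.pPrimeCore p X)), ((S.mapSurjective hsurj :
        Sylow p (X ⧸ Cfsg.pPrimeCore p X)) : Subgroup (X ⧸ Cfsg.pPrimeCore p X))⁆ := by
      rw [hTc, hTT]; exact Subgroup.mem_map_of_mem π hrC
    have h3 : ∀ c ∈ ⁅((S.mapSurjective hsurj : Sylow p (X ⧸ Cfsg.pPrimeCore p X)) :
        Subgroup (X ⧸ Cfsg.pPrimeCore p X)), ((S.mapSurjective hsurj :
        Sylow p (X ⧸ Cfsg.pPrimeCore p X)) : Subgroup (X ⧸ Cfsg.pPrimeCore p X))⁆,
        c ∈ Subgroup.zpowers (π r) := by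
      intro c hc
      rw [hTc, hTT] at hc
      obtain ⟨c₀, hc₀, rfl⟩ := hc
      obtain ⟨i, rfl⟩ := Subgroup.mem_zpowers_iff.mp (hcycS c₀ hc₀)
      rw [map_zpow]
      exact Subgroup.zpow_mem _ (Subgroup.mem_zpowers _) i
    have hTn := core521 hodd p hp hbot (S.mapSurjective hsurj) (π r) h1 h2 h3
    have hnormal : ((S : Subgroup X).map π).Normal := by
      rw [← hTc, hTn]; infer_instance
    have h4 : (((S : Subgroup X).map π).comap π).Normal := hnormal.comap π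
    rw [Subgroup.comap_map_eq, hπ, QuotientGroup.ker_mk'] at h4
    rw [sup_comm]
    exact h4

end Cfsg.Agent.S0521
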