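import Cfsg.Statements.S0522
import Cfsg.Agent.S1480
import Cfsg.Agent.S0629
import Cfsg.Agent.S0125
import Cfsg.Agent.Lib.Lead.PSolvOfSolv

set_option autoImplicit false
open Cfsg

namespace Cfsg.Agent.S0522

/-- Transitivity Theorem (odd-order setting). Let X be a finite group of odd order in which the normalizer of every
nontrivial p-subgroup is solvable, P a Sylow p-subgroup, and B an abelian subgroup of P, normalized by P, with
C_P(B) = B and containing an elementary abelian subgroup of order p^3. Then for every prime q ≠ p, any two q-subgroups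
that are maximal among the q-subgroups normalized by B are conjugate by an element of the centralizer of B. -/
theorem result {X : Type*} [Group X] [Finite X] (hX : Odd (Nat.card X)) (p : ℕ)
    [Fact p.Prime] (hloc : ∀ T : Subgroup X, IsPGroup p T → T ≠ ⊥ → Group.IsSolvable (Subgroup.normalizer (T : Set X)))
    (P : Sylow p X) (B : Subgroup X) (hBP : B ≤ (P : Subgroup X))
    (hBn : ∀ x ∈ (P : Subgroup X), ∀ b ∈ B, x * b * x⁻¹ ∈ B) (hBa : IsMulCommutative B)
    (hBc : (P : Subgroup X) ⊓ Subgroup.centralizer (B : Set X) = B)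
    (hB3 : ∃ E : Subgroup X, E ≤ B ∧ (∀ e ∈ E, e ^ p = 1) ∧ p ^ 3 ≤ Nat.card E)
    (q : ℕ) [Fact q.Prime] (hqp : q ≠ p) (Q₁ Q₂ : Subgroup X)
    (h₁ : IsPGroup q Q₁ ∧ B ≤ Subgroup.normalizer (Q₁ : Set X) ∧
      ∀ R : Subgroup X, IsPGroup q R → B ≤ Subgroup.normalizer (R : Set X) → Q₁ ≤ R → R = Q₁)
    (h₂ : IsPGroup q Q₂ ∧ B ≤ Subgroup.normalizer (Q₂ : Set X) ∧
      ∀ R : Subgroup X, IsPGroup q R → B ≤ Subgroup.normalizer (R : Set X) → Q₂ ≤ R → R = Q₂) :
    ∃ c ∈ Subgroup.centralizer (B : Set X), Q₂ = Q₁.map (MulAut.conj c).toMonoidHom := by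
  classical
  have hpP : p.Prime := Fact.out
  obtain ⟨E, hEB, hEexp, hE3⟩ := hB3
  have hBp : IsPGroup p B := P.isPGroup'.to_le hBP
  -- the prime is odd
  have hp2 : p ≠ 2 := by
    intro h2
    have hcard : 1 < Nat.card E := lt_of_lt_of_le (Nat.one_lt_pow (by norm_num) hpP.one_lt) hE3
    obtain ⟨e, he, he1⟩ : ∃ e ∈ E, e ≠ 1 := by
      by_contra hcon
      push_neg at hcon
      have hbot : E = ⊥ := (Subgroup.eq_bot_iff_forall E).mpr hcon
      rw [hbot, Subgroup.card_bot] at hcard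
      exact lt_irrefl _ hcard
    have ho : orderOf e ∣ p := orderOf_dvd_of_pow_eq_one (hEexp e he)
    have ho' : orderOf e = p := by
      rcases (Nat.dvd_prime hpP).mp ho with h | h
      · exact absurd (orderOf_eq_one_iff.mp h) he1
      · exact h
    have hdvd : p ∣ Nat.card X := ho' ▸ orderOf_dvd_natCard e
    rw [h2] at hdvd
    exact (Nat.not_even_iff_odd.mpr hX) (even_iff_two_dvd.mpr hdvd)
  -- solvable normalizers are p-constrained
  have hloc' : ∀ T : Subgroup X, IsPGroup p T → T ≠ ⊥ →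
      Cfsg.IsPConstrained p ↥(Subgroup.normalizer (T : Set X)) := by
    intro T hT hT1
    have hsolv := hloc T hT hT1
    obtain ⟨P₀⟩ : Nonempty (Sylow p ↥(Cfsg.pPrimePCore p ↥(Subgroup.normalizer (T : Set X)))) :=
      inferInstance
    exact Cfsg.Agent.S0629.result P₀
      (Cfsg.Agent.Lib.Lead.PSolvOfSolv.isPSolvable_of_isSolvable p)
  have hBn' : (P : Subgroup X) ≤ Subgroup.normalizer (B : Set X) := by
    intro x hx
    rw [Subgroup.mem_normalizer_iff]
    intro b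
    constructor
    · exact hBn x hx b
    · intro h
      have h3 := hBn x⁻¹ (inv_mem hx) _ h
      have h4 : x⁻¹ * (x * b * x⁻¹) * x⁻¹⁻¹ = b := by group
      rwa [h4] at h3
  have hE3' : ¬ Cfsg.PRankLE p 2 ↥B := by
    intro h
    have h1 := h (E.subgroupOf B) ⟨⟨fun a b => Subtype.ext (hBa.is_comm.comm a.1 b.1)⟩⟩
      (fun a ha => Subtype.ext (by
        have h5 := hEexp (a : X) (Subgroup.mem_subgroupOf.mp ha)
        simpa using h5))
    rw [Nat.card_congr (Subgroup.subgroupOfEquivOfLe hEB).toEquiv] at h1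
    have h6 : p ^ 2 < p ^ 3 := Nat.pow_lt_pow_right hpP.one_lt (by norm_num)
    exact absurd (le_trans hE3 h1) (not_le.mpr h6)
  have hEfull : ∀ x ∈ Subgroup.centralizer (B : Set X), IsPGroup p (Subgroup.zpowers x) → x ∈ B := by
    intro x hx hxp
    obtain ⟨H, hHC, hHcop, hCH, hHB, hHBsup⟩ := Cfsg.Agent.S0125.result P B hBP hBn' hBc
    have hBC : B ≤ Subgroup.centralizer (B : Set X) := by
      intro b hb
      rw [Subgroup.mem_centralizer_iff]
      intro c hc
      exact congrArg Subtype.val (hBa.is_comm.comm ⟨c, hc⟩ ⟨b, hb⟩)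
    have hBN : B ≤ Subgroup.normalizer (H : Set X) := hBC.trans hCH
    have hxs : x ∈ ((H ⊔ B : Subgroup X) : Set X) := by rw [hHBsup]; exact hx
    rw [Subgroup.coe_mul_of_right_le_normalizer_left H B hBN] at hxs
    obtain ⟨h, hh, b, hb, rfl⟩ := hxs
    obtain ⟨k, hk⟩ := hxp ⟨h * b, Subgroup.mem_zpowers _⟩
    obtain ⟨m, hm⟩ := hBp ⟨b, hb⟩
    have hk' : (h * b) ^ p ^ k = 1 := by simpa using congrArg Subtype.val hk
    have hm' : b ^ p ^ m = 1 := by simpa using congrArg Subtype.val hm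
    have hcb : Commute b (h * b) := (Subgroup.mem_centralizer_iff.mp hx) b hb
    have hcomm : Commute (h * b) b⁻¹ := hcb.symm.inv_right
    have e1 : (h * b) ^ p ^ (k + m) = 1 := by rw [pow_add, pow_mul, hk', one_pow]
    have e2 : b ^ p ^ (k + m) = 1 := by rw [pow_add, pow_mul', hm', one_pow]
    have hpow : h ^ p ^ (k + m) = 1 := by
      have h7 : h = (h * b) * b⁻¹ := by group
      calc h ^ p ^ (k + m) = ((h * b) * b⁻¹) ^ p ^ (k + m) := by rw [← h7]
        _ = (h * b) ^ p ^ (k + m) * (b⁻¹) ^ p ^ (k + m) := hcomm.mul_pow _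
        _ = 1 := by rw [e1, inv_pow, e2, inv_one, one_mul]
    have ho1 : orderOf h ∣ p ^ (k + m) := orderOf_dvd_of_pow_eq_one hpow
    have ho2 : orderOf h ∣ Nat.card H := Subgroup.orderOf_dvd_natCard H hh
    have hc : Nat.Coprime (Nat.card H) (p ^ (k + m)) := Nat.Coprime.pow_right _ hHcop
    have ho3 : orderOf h = 1 := (Nat.Coprime.coprime_dvd_left ho2 hc).eq_one_of_dvd ho1
    have h1 : h = 1 := orderOf_eq_one_iff.mp ho3
    show h * b ∈ B
    rw [h1, one_mul]
    exact hb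
  have hQ1 : Q₁ ∈ Cfsg.maxInvSubgroups ⊤ B {q} :=
    ⟨Cfsg.Agent.Lib.Helper10.Trans.mem_inv_of_isPGroup h₁.1 h₁.2.1, fun R hR hle =>
      h₁.2.2 R (Cfsg.Agent.Lib.Helper10.Trans.isPGroup_of_mem_inv hR) hR.2.2 hle⟩
  have hQ2 : Q₂ ∈ Cfsg.maxInvSubgroups ⊤ B {q} :=
    ⟨Cfsg.Agent.Lib.Helper10.Trans.mem_inv_of_isPGroup h₂.1 h₂.2.1, fun R hR hle =>
      h₂.2.2 R (Cfsg.Agent.Lib.Helper10.Trans.isPGroup_of_mem_inv hR) hR.2.2 hle⟩
  obtain ⟨c, hc, hceq⟩ := Cfsg.Agent.S1480.result p hloc' (fun h => absurd h hp2) B hBp hBa hE3'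
    hEfull q hqp Q₁ hQ1 Q₂ hQ2
  refine ⟨c, ?_, hceq⟩
  obtain ⟨y, _, hy⟩ := Subgroup.mem_map.mp hc
  rw [← hy]
  exact y.2

end Cfsg.Agent.S0522
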