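import Cfsg.Statements.S0647
import Mathlib

set_option autoImplicit false
open Cfsg

namespace Cfsg.Agent.S0647

theorem mem_of_centralizes {S : Type*} [Group S] (A : Subgroup S) (hA : IsMulCommutative A)
    (hmax : ∀ B : Subgroup S, IsMulCommutative B → A ≤ B → B = A) (x : S)
    (hx : x ∈ Subgroup.centralizer (A : Set S)) : x ∈ A := by
  have hcomm : ∀ y ∈ ((A : Set S) ∪ {x}), ∀ z ∈ ((A : Set S) ∪ {x}), y * z = z * y := by
    rintro y (hy | hy) z (hz | hz)
    · exact setLike_mul_comm hy hz
    · rw [Set.mem_singleton_iff] at hz; subst hz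
      exact hx y hy
    · rw [Set.mem_singleton_iff] at hy; subst hy
      exact (hx z hz).symm
    · rw [Set.mem_singleton_iff] at hy hz; subst hy; subst hz; rfl
  have hB : IsMulCommutative (Subgroup.closure ((A : Set S) ∪ {x})) :=
    Subgroup.isMulCommutative_closure hcomm
  have hAB : A ≤ Subgroup.closure ((A : Set S) ∪ {x}) := fun y hy =>
    Subgroup.subset_closure (Or.inl hy)
  have h := hmax _ hB hAB
  rw [← h]
  exact Subgroup.subset_closure (Or.inr rfl)

/-- For a nonempty family of maximal abelian subgroups of a finite group, the intersection of the family is the centre of the subgroup it generates, which is also the full centralizer of that subgroup. -/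
theorem result {S : Type*} [Group S] [Finite S] (𝒜 : Set (Subgroup S)) (hne : 𝒜.Nonempty) (hab : ∀ A ∈ 𝒜, IsMulCommutative A) (hmax : ∀ A ∈ 𝒜, ∀ B : Subgroup S, IsMulCommutative B → A ≤ B → B = A) : sInf 𝒜 = sSup 𝒜 ⊓ Subgroup.centralizer ((sSup 𝒜 : Subgroup S) : Set S) ∧ sInf 𝒜 = Subgroup.centralizer ((sSup 𝒜 : Subgroup S) : Set S) := by
  have h1 : Subgroup.centralizer ((sSup 𝒜 : Subgroup S) : Set S) ≤ sInf 𝒜 := by
    intro x hx
    rw [Subgroup.mem_sInf]
    intro A hA
    apply mem_of_centralizes A (hab A hA) (hmax A hA)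
    exact Subgroup.centralizer_le (show (A : Set S) ⊆ ((sSup 𝒜 : Subgroup S) : Set S) from
      fun y hy => (le_sSup hA : A ≤ sSup 𝒜) hy) hx
  have h2 : sInf 𝒜 ≤ Subgroup.centralizer ((sSup 𝒜 : Subgroup S) : Set S) := by
    intro x hx
    rw [Subgroup.mem_sInf] at hx
    have h3 : sSup 𝒜 ≤ Subgroup.centralizer ({x} : Set S) := by
      apply sSup_le
      intro A hA y hy
      rw [Subgroup.mem_centralizer_iff]
      intro z hz
      rw [Set.mem_singleton_iff] at hz
      subst hz
      have := hab A hA
      exact setLike_mul_comm (hx A hA) hy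
    rw [Subgroup.mem_centralizer_iff]
    intro y hy
    have := h3 hy
    rw [Subgroup.mem_centralizer_iff] at this
    exact (this x rfl).symm
  have h3 : sInf 𝒜 ≤ sSup 𝒜 := by
    obtain ⟨A, hA⟩ := hne
    exact (sInf_le hA).trans (le_sSup hA)
  exact ⟨le_antisymm (le_inf h3 h2) (inf_le_right.trans h1), le_antisymm h2 h1⟩

end Cfsg.Agent.S0647
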