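import Cfsg.Statements.S0648
import Mathlib

set_option autoImplicit false

open Cfsg
open scoped commutatorElement

namespace Cfsg.Agent.S0648

variable {G : Type*} [Group G]

/-- the key identity -/
theorem star (A B : Subgroup G)
    (hXB : ⁅B, A⁆ ≤ B)
    (hBA : ∀ y ∈ ⁅B, B⁆, ∀ t ∈ A, t * y = y * t)
    (hXB' : ∀ h ∈ ⁅B, A⁆, ∀ y ∈ ⁅B, B⁆, y * h = h * y)
    (hX'B : ∀ y ∈ ⁅⁅B, A⁆, ⁅B, A⁆⁆, ∀ x ∈ B, x * y = y * x)
    (x : G) (hx : x ∈ B) (h : G) (hh : h ∈ ⁅B, A⁆) (t : G) (ht : t ∈ A) :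
    ⁅x⁻¹ * t * x * t⁻¹, h⁆ * ⁅x⁻¹ * t * x * t⁻¹, h⁻¹ * t * h * t⁻¹⁆ *
      ⁅x, h⁻¹ * t * h * t⁻¹⁆ = 1 := by
  have hhB : h ∈ B := hXB hh
  have hD : x⁻¹ * t * x * t⁻¹ ∈ ⁅B, A⁆ := by
    have := Subgroup.commutator_mem_commutator (inv_mem hx) ht
    simpa [commutatorElement_def] using this
  have hE : h⁻¹ * t * h * t⁻¹ ∈ ⁅B, A⁆ := by
    have := Subgroup.commutator_mem_commutator (inv_mem hhB) ht
    simpa [commutatorElement_def] using this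
  set D := x⁻¹ * t * x * t⁻¹ with hDdef
  set E := h⁻¹ * t * h * t⁻¹ with hEdef
  have hEB : E ∈ B := hXB hE
  have hxh : ⁅x, h⁆ ∈ ⁅B, B⁆ := Subgroup.commutator_mem_commutator hx hhB
  have hxE : ⁅x, E⁆ ∈ ⁅B, B⁆ := Subgroup.commutator_mem_commutator hx hEB
  have hDh : ⁅D, h⁆ ∈ ⁅⁅B, A⁆, ⁅B, A⁆⁆ := Subgroup.commutator_mem_commutator hD hh
  have hDE : ⁅D, E⁆ ∈ ⁅⁅B, A⁆, ⁅B, A⁆⁆ := Subgroup.commutator_mem_commutator hD hE
  have hDhE : ⁅D, h * E⁆ ∈ ⁅⁅B, A⁆, ⁅B, A⁆⁆ :=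
    Subgroup.commutator_mem_commutator hD (mul_mem hh hE)
  have e1 : t * ⁅x, h⁆ * t⁻¹ = ⁅x * D, h * E⁆ := by
    simp only [hDdef, hEdef, commutatorElement_def]; group
  have e2 : t * ⁅x, h⁆ * t⁻¹ = ⁅x, h⁆ := by
    rw [hBA _ hxh t ht]; group
  have e3 : ⁅x * D, h * E⁆ = x * ⁅D, h * E⁆ * x⁻¹ * ⁅x, h * E⁆ := by
    simp only [commutatorElement_def]; group
  have e4 : x * ⁅D, h * E⁆ * x⁻¹ = ⁅D, h * E⁆ := by
    rw [hX'B _ hDhE x hx]; group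
  have e5 : ⁅x, h * E⁆ = ⁅x, h⁆ * (h * ⁅x, E⁆ * h⁻¹) := by
    simp only [commutatorElement_def]; group
  have e6 : h * ⁅x, E⁆ * h⁻¹ = ⁅x, E⁆ := by
    rw [← hXB' h hh _ hxE]; group
  have e7 : ⁅D, h * E⁆ = ⁅D, h⁆ * (h * ⁅D, E⁆ * h⁻¹) := by
    simp only [commutatorElement_def]; group
  have e8 : h * ⁅D, E⁆ * h⁻¹ = ⁅D, E⁆ := by
    rw [hX'B _ hDE h hhB]; group
  have hxhB : ⁅x, h⁆ ∈ B := by
    rw [commutatorElement_def]
    exact mul_mem (mul_mem (mul_mem hx hhB) (inv_mem hx)) (inv_mem hhB)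
  have e9 : ⁅x, h⁆ = ⁅x, h⁆ * (⁅D, h⁆ * ⁅D, E⁆ * ⁅x, E⁆) := by
    have h1 : ⁅x, h⁆ = ⁅D, h⁆ * ⁅D, E⁆ * (⁅x, h⁆ * ⁅x, E⁆) := by
      calc ⁅x, h⁆ = t * ⁅x, h⁆ * t⁻¹ := e2.symm
        _ = ⁅x * D, h * E⁆ := e1
        _ = ⁅D, h * E⁆ * ⁅x, h * E⁆ := by rw [e3, e4]
        _ = ⁅D, h⁆ * ⁅D, E⁆ * (⁅x, h⁆ * ⁅x, E⁆) := by rw [e7, e8, e5, e6]
    have h2 : ⁅x, h⁆ * (⁅D, h⁆ * ⁅D, E⁆) = (⁅D, h⁆ * ⁅D, E⁆) * ⁅x, h⁆ :=
      hX'B _ (mul_mem hDh hDE) _ hxhB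
    calc ⁅x, h⁆ = ⁅D, h⁆ * ⁅D, E⁆ * (⁅x, h⁆ * ⁅x, E⁆) := h1
      _ = (⁅D, h⁆ * ⁅D, E⁆ * ⁅x, h⁆) * ⁅x, E⁆ := by rw [mul_assoc (⁅D, h⁆ * ⁅D, E⁆)]
      _ = (⁅x, h⁆ * (⁅D, h⁆ * ⁅D, E⁆)) * ⁅x, E⁆ := by rw [h2]
      _ = ⁅x, h⁆ * (⁅D, h⁆ * ⁅D, E⁆ * ⁅x, E⁆) := by simp only [mul_assoc]
  have := mul_left_cancel (a := ⁅x, h⁆) (b := 1) (c := ⁅D, h⁆ * ⁅D, E⁆ * ⁅x, E⁆)
    (by rw [mul_one]; exact e9)
  exact this.symm

/-- If A acts on B centralizing [B, B], then [B, A] has derived subgroup central in B, and for abelian A and b ∈ B with [[b, A], A, A] = 1 the derived subgroup of the subgroup [b, A] generated by the commutators of b with A has exponent dividing 2. -/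
theorem result {G : Type*} [Group G] [Finite G] (A B : Subgroup G) (hAB : A ≤ Subgroup.normalizer (B : Set G)) (hc : ⁅⁅B, B⁆, A⁆ = ⊥) : ⁅⁅B, A⁆, ⁅B, A⁆⁆ ≤ B ⊓ Subgroup.centralizer (B : Set G) ∧ (IsMulCommutative A → ∀ b ∈ B, ⁅⁅(Subgroup.closure {g : G | ∃ a ∈ A, g = b⁻¹ * a * b * a⁻¹}), A⁆, A⁆ = ⊥ → ∀ w ∈ ⁅(Subgroup.closure {g : G | ∃ a ∈ A, g = b⁻¹ * a * b * a⁻¹}), (Subgroup.closure {g : G | ∃ a ∈ A, g = b⁻¹ * a * b * a⁻¹})⁆, w ^ 2 = 1) := by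
  have hXB : ⁅B, A⁆ ≤ B := by
    rw [Subgroup.commutator_le]
    intro g₁ h₁ g₂ h₂
    have hn := hAB h₂
    rw [Subgroup.mem_normalizer_iff] at hn
    have h3 : g₂ * g₁⁻¹ * g₂⁻¹ ∈ B := (hn g₁⁻¹).mp (inv_mem h₁)
    have h4 : ⁅g₁, g₂⁆ = g₁ * (g₂ * g₁⁻¹ * g₂⁻¹) := by
      rw [commutatorElement_def]; group
    rw [h4]; exact mul_mem h₁ h3
  have hB'B : ⁅B, B⁆ ≤ B := by
    rw [Subgroup.commutator_le]
    intro g₁ h₁ g₂ h₂
    rw [commutatorElement_def]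
    exact mul_mem (mul_mem (mul_mem h₁ h₂) (inv_mem h₁)) (inv_mem h₂)
  -- F2
  have F2 : ⁅⁅B, A⁆, ⁅B, B⁆⁆ = ⊥ := by
    apply Subgroup.commutator_commutator_eq_bot_of_rotate
    · rw [Subgroup.commutator_comm A, hc]
      rw [eq_bot_iff, Subgroup.commutator_le]
      intro g₁ h₁ g₂ h₂
      rw [Subgroup.mem_bot] at h₁
      subst h₁
      simp
    · rw [eq_bot_iff, ← hc]
      exact Subgroup.commutator_mono (Subgroup.commutator_mono hB'B le_rfl) le_rfl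
  have F3 : ⁅⁅⁅B, A⁆, ⁅B, A⁆⁆, B⁆ = ⊥ := by
    apply Subgroup.commutator_commutator_eq_bot_of_rotate
    · rw [eq_bot_iff, ← F2, Subgroup.commutator_comm _ ⁅B, B⁆]
      exact Subgroup.commutator_mono (Subgroup.commutator_mono hXB le_rfl) le_rfl
    · rw [eq_bot_iff, ← F2, Subgroup.commutator_comm _ ⁅B, B⁆]
      exact Subgroup.commutator_mono (Subgroup.commutator_mono le_rfl hXB) le_rfl
  have hX'X : ⁅⁅B, A⁆, ⁅B, A⁆⁆ ≤ ⁅B, A⁆ := by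
    rw [Subgroup.commutator_le]
    intro g₁ h₁ g₂ h₂
    rw [commutatorElement_def]
    exact mul_mem (mul_mem (mul_mem h₁ h₂) (inv_mem h₁)) (inv_mem h₂)
  have hcent : ⁅⁅B, A⁆, ⁅B, A⁆⁆ ≤ Subgroup.centralizer (B : Set G) :=
    Subgroup.commutator_eq_bot_iff_le_centralizer.mp F3
  refine ⟨le_inf (hX'X.trans hXB) hcent, ?_⟩
  intro hAcomm b hb hH
  -- element-level facts
  have hBA : ∀ y ∈ ⁅B, B⁆, ∀ t ∈ A, t * y = y * t := by
    intro y hy t ht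
    have := Subgroup.commutator_eq_bot_iff_le_centralizer.mp hc hy
    rw [Subgroup.mem_centralizer_iff] at this
    exact this t ht
  have hXB' : ∀ h ∈ ⁅B, A⁆, ∀ y ∈ ⁅B, B⁆, y * h = h * y := by
    intro h hh y hy
    have := Subgroup.commutator_eq_bot_iff_le_centralizer.mp F2 hh
    rw [Subgroup.mem_centralizer_iff] at this
    exact this y hy
  have hX'B : ∀ y ∈ ⁅⁅B, A⁆, ⁅B, A⁆⁆, ∀ x ∈ B, x * y = y * x := by
    intro y hy x hx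
    have := hcent hy
    rw [Subgroup.mem_centralizer_iff] at this
    exact this x hx
  have hstar := star A B hXB hBA hXB' hX'B
  set H := Subgroup.closure {g : G | ∃ a ∈ A, g = b⁻¹ * a * b * a⁻¹} with hHdef
  have hgenX : ∀ a ∈ A, b⁻¹ * a * b * a⁻¹ ∈ ⁅B, A⁆ := by
    intro a ha
    have := Subgroup.commutator_mem_commutator (inv_mem hb) ha
    simpa [commutatorElement_def] using this
  have hgenH : ∀ a ∈ A, b⁻¹ * a * b * a⁻¹ ∈ H := by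
    intro a ha
    exact Subgroup.subset_closure ⟨a, ha, rfl⟩
  have hHX : H ≤ ⁅B, A⁆ := by
    rw [hHdef, Subgroup.closure_le]
    rintro g ⟨a, ha, rfl⟩
    exact hgenX a ha
  -- elements of [H, A] are fixed by A
  have hfix : ∀ h ∈ H, ∀ t ∈ A, ∀ s ∈ A, s * (h⁻¹ * t * h * t⁻¹) = (h⁻¹ * t * h * t⁻¹) * s := by
    intro h hh t ht s hs
    have h1 : h⁻¹ * t * h * t⁻¹ ∈ ⁅H, A⁆ := by
      have := Subgroup.commutator_mem_commutator (inv_mem hh) ht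
      simpa [commutatorElement_def] using this
    have := Subgroup.commutator_eq_bot_iff_le_centralizer.mp hH h1
    rw [Subgroup.mem_centralizer_iff] at this
    exact this s hs
  -- main computation on generators
  have main : ∀ a ∈ A, ∀ c ∈ A,
      ⁅b⁻¹ * a * b * a⁻¹, b⁻¹ * c * b * c⁻¹⁆ * ⁅b⁻¹ * a * b * a⁻¹, b⁻¹ * c * b * c⁻¹⁆ = 1 := by
    intro a ha c hc'
    have hac : a * c = c * a := by
      have := hAcomm.is_comm.comm (⟨a, ha⟩ : A) ⟨c, hc'⟩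
      exact congrArg Subtype.val this
    set u := b⁻¹ * a * b * a⁻¹ with hu
    set v := b⁻¹ * c * b * c⁻¹ with hv
    have huX : u ∈ ⁅B, A⁆ := hgenX a ha
    have hvX : v ∈ ⁅B, A⁆ := hgenX c hc'
    have huH : u ∈ H := hgenH a ha
    have hvH : v ∈ H := hgenH c hc'
    set w := v⁻¹ * a * v * a⁻¹ with hw
    set w' := u⁻¹ * c * u * c⁻¹ with hw'
    have hwX : w ∈ ⁅B, A⁆ := by
      have := Subgroup.commutator_mem_commutator (inv_mem (hXB hvX)) ha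
      simpa [commutatorElement_def] using this
    have hw'X : w' ∈ ⁅B, A⁆ := by
      have := Subgroup.commutator_mem_commutator (inv_mem (hXB huX)) hc'
      simpa [commutatorElement_def] using this
    have hα : ⁅u, v⁆ * ⁅u, w⁆ * ⁅b, w⁆ = 1 := hstar b hb v hvX a ha
    have hβ : ⁅v, u⁆ * ⁅v, w'⁆ * ⁅b, w'⁆ = 1 := hstar b hb u huX c hc'
    have hγ1 : ⁅u, w⁆ = 1 := by
      have h1 := hstar b hb w hwX a ha
      have h2 : w⁻¹ * a * w * a⁻¹ = 1 := by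
        have := hfix v hvH a ha a ha
        rw [← hw] at this
        rw [mul_assoc w⁻¹, this]; group
      rw [h2] at h1
      simpa using h1
    have hγ2 : ⁅v, w'⁆ = 1 := by
      have h1 := hstar b hb w' hw'X c hc'
      have h2 : w'⁻¹ * c * w' * c⁻¹ = 1 := by
        have := hfix u huH c hc' c hc'
        rw [← hw'] at this
        rw [mul_assoc w'⁻¹, this]; group
      rw [h2] at h1
      simpa using h1
    -- w' = z' * w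
    set z' := u⁻¹ * v⁻¹ * u * v with hz'
    have hz'X : z' ∈ ⁅⁅B, A⁆, ⁅B, A⁆⁆ := by
      have := Subgroup.commutator_mem_commutator (inv_mem huX) (inv_mem hvX)
      simpa [commutatorElement_def] using this
    have hrel : w' = z' * w := by
      have h1 : v * c * u * c⁻¹ = u * a * v * a⁻¹ := by
        have e1 : v * c * u * c⁻¹ = b⁻¹ * (c * a) * b * (c * a)⁻¹ := by
          simp only [hu, hv]; group
        have e2 : u * a * v * a⁻¹ = b⁻¹ * (a * c) * b * (a * c)⁻¹ := by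
          simp only [hu, hv]; group
        rw [e1, e2, hac]
      have h2 : c * u * c⁻¹ = v⁻¹ * (u * a * v * a⁻¹) := by
        rw [← h1]; group
      calc w' = u⁻¹ * (c * u * c⁻¹) := by rw [hw']; group
        _ = u⁻¹ * (v⁻¹ * (u * a * v * a⁻¹)) := by rw [h2]
        _ = z' * w := by rw [hz', hw]; group
    have hwB : w ∈ B := hXB hwX
    have hbw : ⁅b, w'⁆ = ⁅b, w⁆ := by
      have hbz : b * z' = z' * b := hX'B z' hz'X b hb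
      have hbwB : ⁅b, w⁆ ∈ B := by
        rw [commutatorElement_def]
        exact mul_mem (mul_mem (mul_mem hb hwB) (inv_mem hb)) (inv_mem hwB)
      have hcz : ⁅b, w⁆ * z' = z' * ⁅b, w⁆ := hX'B z' hz'X _ hbwB
      calc ⁅b, w'⁆ = b * (z' * w) * b⁻¹ * (z' * w)⁻¹ := by rw [hrel, commutatorElement_def]
        _ = (b * z') * w * b⁻¹ * (w⁻¹ * z'⁻¹) := by rw [mul_inv_rev, mul_assoc b z' w]
        _ = (z' * b) * w * b⁻¹ * (w⁻¹ * z'⁻¹) := by rw [hbz]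
        _ = z' * ⁅b, w⁆ * z'⁻¹ := by rw [commutatorElement_def]; group
        _ = ⁅b, w⁆ * z' * z'⁻¹ := by rw [hcz]
        _ = ⁅b, w⁆ := by group
    rw [hγ1, mul_one] at hα
    rw [hγ2, mul_one, hbw] at hβ
    have h3 : ⁅u, v⁆ = ⁅v, u⁆ := by
      have := hα.trans hβ.symm
      exact mul_right_cancel this
    have h4 : ⁅v, u⁆ = (⁅u, v⁆)⁻¹ := (commutatorElement_inv u v).symm
    calc ⁅u, v⁆ * ⁅u, v⁆ = ⁅u, v⁆ * ⁅v, u⁆ := by rw [← h3]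
      _ = 1 := by rw [h4, mul_inv_cancel]
  -- the subgroup S of central elements of square one
  let S : Subgroup G :=
    { carrier := {w | w ∈ ⁅⁅B, A⁆, ⁅B, A⁆⁆ ∧ w * w = 1}
      one_mem' := ⟨one_mem _, by simp⟩
      mul_mem' := by
        rintro x y ⟨hx, hx2⟩ ⟨hy, hy2⟩
        refine ⟨mul_mem hx hy, ?_⟩
        have hyB : y ∈ B := hXB (hX'X hy)
        have hcomm : y * x = x * y := hX'B x hx y hyB
        calc x * y * (x * y) = x * (y * x) * y := by group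
          _ = x * (x * y) * y := by rw [hcomm]
          _ = (x * x) * (y * y) := by group
          _ = 1 := by rw [hx2, hy2, one_mul]
      inv_mem' := by
        rintro x ⟨hx, hx2⟩
        refine ⟨inv_mem hx, ?_⟩
        calc x⁻¹ * x⁻¹ = (x * x)⁻¹ := by group
          _ = 1 := by rw [hx2, inv_one] }
  have hS : ∀ w, w ∈ S ↔ (w ∈ ⁅⁅B, A⁆, ⁅B, A⁆⁆ ∧ w * w = 1) := fun w => Iff.rfl
  -- central-ness helper: commutators of X are central in B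
  have hcc : ∀ g₁ ∈ ⁅B, A⁆, ∀ g₂ ∈ ⁅B, A⁆, ∀ x ∈ B, x * ⁅g₁, g₂⁆ * x⁻¹ = ⁅g₁, g₂⁆ := by
    intro g₁ h₁ g₂ h₂ x hx
    rw [hX'B _ (Subgroup.commutator_mem_commutator h₁ h₂) x hx]; group
  have step1 : ∀ a ∈ A, ∀ g₂ ∈ H, ⁅b⁻¹ * a * b * a⁻¹, g₂⁆ ∈ S := by
    intro a ha g₂ hg₂
    have huX := hgenX a ha
    refine Subgroup.closure_induction
      (p := fun g _ => ⁅b⁻¹ * a * b * a⁻¹, g⁆ ∈ S) ?_ ?_ ?_ ?_ hg₂
    · rintro x ⟨c, hc', rfl⟩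
      rw [hS]
      exact ⟨Subgroup.commutator_mem_commutator huX (hgenX c hc'), main a ha c hc'⟩
    · simp
    · intro x y hx hy ihx ihy
      have hxX : x ∈ ⁅B, A⁆ := hHX hx
      have hyX : y ∈ ⁅B, A⁆ := hHX hy
      have e : ⁅b⁻¹ * a * b * a⁻¹, x * y⁆ =
          ⁅b⁻¹ * a * b * a⁻¹, x⁆ * (x * ⁅b⁻¹ * a * b * a⁻¹, y⁆ * x⁻¹) := by
        simp only [commutatorElement_def]; group
      rw [e, hcc _ huX _ hyX x (hXB hxX)]
      exact mul_mem ihx ihy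
    · intro x hx ihx
      have hxX : x ∈ ⁅B, A⁆ := hHX hx
      have e : ⁅b⁻¹ * a * b * a⁻¹, x⁻¹⁆ =
          x⁻¹ * (⁅b⁻¹ * a * b * a⁻¹, x⁆)⁻¹ * x⁻¹⁻¹ := by
        simp only [commutatorElement_def]; group
      have hinv : (⁅b⁻¹ * a * b * a⁻¹, x⁆)⁻¹ = ⁅x, b⁻¹ * a * b * a⁻¹⁆ := commutatorElement_inv _ _
      rw [e, hinv, hcc _ hxX _ huX x⁻¹ (inv_mem (hXB hxX)), ← hinv]
      exact inv_mem ihx
  have step2 : ∀ g₁ ∈ H, ∀ g₂ ∈ H, ⁅g₁, g₂⁆ ∈ S := by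
    intro g₁ hg₁ g₂ hg₂
    have hg₂X : g₂ ∈ ⁅B, A⁆ := hHX hg₂
    refine Subgroup.closure_induction
      (p := fun g _ => ⁅g, g₂⁆ ∈ S) ?_ ?_ ?_ ?_ hg₁
    · rintro x ⟨a, ha, rfl⟩
      exact step1 a ha g₂ hg₂
    · simp
    · intro x y hx hy ihx ihy
      have hxX : x ∈ ⁅B, A⁆ := hHX hx
      have hyX : y ∈ ⁅B, A⁆ := hHX hy
      have e : ⁅x * y, g₂⁆ = x * ⁅y, g₂⁆ * x⁻¹ * ⁅x, g₂⁆ := by
        simp only [commutatorElement_def]; group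
      rw [e, hcc _ hyX _ hg₂X x (hXB hxX)]
      exact mul_mem ihy ihx
    · intro x hx ihx
      have hxX : x ∈ ⁅B, A⁆ := hHX hx
      have e : ⁅x⁻¹, g₂⁆ = x⁻¹ * (⁅x, g₂⁆)⁻¹ * x⁻¹⁻¹ := by
        simp only [commutatorElement_def]; group
      have hinv : (⁅x, g₂⁆)⁻¹ = ⁅g₂, x⁆ := commutatorElement_inv _ _
      rw [e, hinv, hcc _ hg₂X _ hxX x⁻¹ (inv_mem (hXB hxX)), ← hinv]
      exact inv_mem ihx
  have hle : ⁅H, H⁆ ≤ S := by
    rw [Subgroup.commutator_le]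
    exact step2
  intro w hw
  have := (hS w).mp (hle hw)
  rw [pow_two]; exact this.2

end Cfsg.Agent.S0648
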