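import Cfsg.Statements.S0655
import Mathlib

set_option autoImplicit false
open Cfsg

namespace Cfsg.Agent.S0655

theorem mem_of_centralizes {S : Type*} [Group S] [Finite S] (p : ℕ) (A : Subgroup S)
    (hA : A ∈ Cfsg.maxElementaryAbelianSubgroups p S) (x : S)
    (hx : x ∈ Subgroup.centralizer (A : Set S)) (hxp : x ^ p = 1) : x ∈ A := by
  obtain ⟨⟨hAc, hAp⟩, hAmax⟩ := hA
  have hcomm : ∀ y ∈ ((A : Set S) ∪ {x}), ∀ z ∈ ((A : Set S) ∪ {x}), y * z = z * y := by
    rintro y (hy | hy) z (hz | hz)
    · exact setLike_mul_comm hy hz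
    · rw [Set.mem_singleton_iff] at hz; subst hz
      exact hx y hy
    · rw [Set.mem_singleton_iff] at hy; subst hy
      exact (hx z hz).symm
    · rw [Set.mem_singleton_iff] at hy hz; subst hy; subst hz; rfl
  have hB : IsMulCommutative (Subgroup.closure ((A : Set S) ∪ {x})) :=
    Subgroup.isMulCommutative_closure hcomm
  have hAB : A ≤ Subgroup.closure ((A : Set S) ∪ {x}) := fun y hy =>
    Subgroup.subset_closure (Or.inl hy)
  have hBp : ∀ y ∈ Subgroup.closure ((A : Set S) ∪ {x}), y ^ p = 1 := by
    intro y hy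
    induction hy using Subgroup.closure_induction with
    | mem y hy =>
      rcases hy with hy | hy
      · exact hAp y hy
      · rw [Set.mem_singleton_iff] at hy; subst hy; exact hxp
    | one => simp
    | mul y z hy hz hy' hz' =>
      have hc : Commute y z := setLike_mul_comm hy hz
      rw [hc.mul_pow, hy', hz', one_mul]
    | inv y hy hy' => rw [inv_pow, hy', inv_one]
  have hcard := hAmax _ ⟨hB, hBp⟩
  have h := Subgroup.eq_of_le_of_card_ge hAB hcard
  rw [h]
  exact Subgroup.subset_closure (Or.inr rfl)

theorem nonempty_max {S : Type*} [Group S] [Finite S] (p : ℕ) :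
    (Cfsg.maxElementaryAbelianSubgroups p S).Nonempty := by
  have hne : Nonempty {B : Subgroup S // Cfsg.IsElementaryAbelian p B} := by
    refine ⟨⟨⊥, ?_, ?_⟩⟩
    · infer_instance
    · intro a ha
      rw [Subgroup.mem_bot] at ha
      subst ha
      simp
  obtain ⟨A, hA⟩ := Finite.exists_max (fun B : {B : Subgroup S // Cfsg.IsElementaryAbelian p B} =>
    Nat.card (B : Subgroup S))
  exact ⟨A.1, A.2, fun B hB => hA ⟨B, hB⟩⟩

/-- In a p-group the intersection of all elementary abelian subgroups of largest order is the subgroup generated by the elements of order dividing p in the centre (equivalently the centralizer) of the elementary-version Thompson subgroup. -/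
theorem result {S : Type*} [Group S] [Finite S] {p : ℕ} [Fact p.Prime] (hS : IsPGroup p S) : sInf (Cfsg.maxElementaryAbelianSubgroups p S) = Cfsg.omegaCenterThompson p S ∧ Cfsg.omegaCenterThompson p S = Cfsg.omegaOne p (Subgroup.centralizer (Cfsg.thompsonSubgroup p S : Set S)) := by
  obtain ⟨A₀, hA₀⟩ := nonempty_max (S := S) p
  have hb : sInf (Cfsg.maxElementaryAbelianSubgroups p S) ≤ Cfsg.omegaCenterThompson p S := by
    intro x hx
    rw [Subgroup.mem_sInf] at hx
    apply Subgroup.subset_closure
    refine ⟨⟨?_, ?_⟩, ?_⟩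
    · exact (le_sSup hA₀ : A₀ ≤ sSup (Cfsg.maxElementaryAbelianSubgroups p S)) (hx A₀ hA₀)
    · have h3 : sSup (Cfsg.maxElementaryAbelianSubgroups p S) ≤
          Subgroup.centralizer ({x} : Set S) := by
        apply sSup_le
        intro A hA y hy
        rw [Subgroup.mem_centralizer_iff]
        intro z hz
        rw [Set.mem_singleton_iff] at hz
        subst hz
        have := hA.1.1
        exact setLike_mul_comm (hx A hA) hy
      show x ∈ Subgroup.centralizer _
      rw [Subgroup.mem_centralizer_iff]
      intro y hy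
      have := h3 hy
      rw [Subgroup.mem_centralizer_iff] at this
      exact (this x rfl).symm
    · exact hA₀.1.2 x (hx A₀ hA₀)
  have hc : Cfsg.omegaCenterThompson p S ≤
      Cfsg.omegaOne p (Subgroup.centralizer (Cfsg.thompsonSubgroup p S : Set S)) := by
    apply Subgroup.closure_mono
    rintro x ⟨hx1, hx2⟩
    exact ⟨hx1.2, hx2⟩
  have hd : Cfsg.omegaOne p (Subgroup.centralizer (Cfsg.thompsonSubgroup p S : Set S)) ≤
      sInf (Cfsg.maxElementaryAbelianSubgroups p S) := by
    unfold Cfsg.omegaOne
    rw [Subgroup.closure_le]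
    rintro x ⟨hx1, hx2⟩
    rw [SetLike.mem_coe, Subgroup.mem_sInf]
    intro A hA
    apply mem_of_centralizes p A hA x _ hx2
    exact Subgroup.centralizer_le (show (A : Set S) ⊆ ((Cfsg.thompsonSubgroup p S : Subgroup S) : Set S) from
      fun y hy => (le_sSup hA : A ≤ sSup (Cfsg.maxElementaryAbelianSubgroups p S)) hy) hx1
  exact ⟨le_antisymm hb (hc.trans hd), le_antisymm hc (hd.trans hb)⟩

end Cfsg.Agent.S0655
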