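import Cfsg.Statements.S0661
import Mathlib
import Cfsg.Agent.S0631

set_option autoImplicit false
open Cfsg

namespace Cfsg.Agent.S0661

/-- If, modulo the largest normal subgroup of order prime to p, the largest normal p-subgroup contains its centralizer, then for every p-subgroup P the p'-core of N_G(P) is just O_p'(G) ∩ N_G(P). -/
theorem result {G : Type*} [Group G] [Finite G] {p : ℕ} [Fact p.Prime] (hc : Subgroup.centralizer (Cfsg.pCore p (G ⧸ Cfsg.pPrimeCore p G) : Set (G ⧸ Cfsg.pPrimeCore p G)) ≤ Cfsg.pCore p (G ⧸ Cfsg.pPrimeCore p G)) (P : Subgroup G) (hP : IsPGroup p P) : (Cfsg.pPrimeCore p ↥(Subgroup.normalizer (P : Set G))).map (Subgroup.normalizer (P : Set G)).subtype = Cfsg.pPrimeCore p G ⊓ Subgroup.normalizer (P : Set G) := by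
  classical
  have hO := Cfsg.Agent.Lib.Helper9.pPrimeCore_coprime p G
  have hPb : IsPGroup p (P.map (QuotientGroup.mk' (pPrimeCore p G))) := hP.map _
  have h3N : ∀ D : Subgroup (G ⧸ pPrimeCore p G),
      D ≤ Subgroup.normalizer ((P.map (QuotientGroup.mk' (pPrimeCore p G)) : Subgroup (G ⧸ pPrimeCore p G)) : Set (G ⧸ pPrimeCore p G)) →
      (∀ m ∈ Subgroup.normalizer ((P.map (QuotientGroup.mk' (pPrimeCore p G)) : Subgroup (G ⧸ pPrimeCore p G)) : Set (G ⧸ pPrimeCore p G)),
        ∀ d ∈ D, m * d * m⁻¹ ∈ D) →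
      (Nat.card D).Coprime p →
      D ≤ Subgroup.centralizer ((P.map (QuotientGroup.mk' (pPrimeCore p G)) : Subgroup (G ⧸ pPrimeCore p G)) : Set (G ⧸ pPrimeCore p G)) := by
    intro D hDM hDn hDc d hd
    rw [Subgroup.mem_centralizer_iff]
    intro x hx
    have hdN := hDM hd
    have h1 : d * x * d⁻¹ * x⁻¹ ∈ P.map (QuotientGroup.mk' (pPrimeCore p G)) :=
      Subgroup.mul_mem _ ((Subgroup.mem_normalizer_iff.mp hdN x).mp hx) (Subgroup.inv_mem _ hx)
    have h2 : d * x * d⁻¹ * x⁻¹ ∈ D := by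
      have h3 : x * d⁻¹ * x⁻¹ ∈ D := hDn x (Subgroup.le_normalizer hx) d⁻¹ (D.inv_mem hd)
      have h4 : d * x * d⁻¹ * x⁻¹ = d * (x * d⁻¹ * x⁻¹) := by group
      rw [h4]; exact D.mul_mem hd h3
    have h5 := Cfsg.Agent.Lib.Helper4.PPrimeQuot.eq_one_of_mem hDc hPb h1 h2
    have h6 : x * d = (d * x * d⁻¹ * x⁻¹)⁻¹ * (d * x) := by group
    rw [h6, h5, inv_one, one_mul]
  have h4N : ∀ c ∈ Subgroup.normalizer ((P.map (QuotientGroup.mk' (pPrimeCore p G)) : Subgroup (G ⧸ pPrimeCore p G)) : Set (G ⧸ pPrimeCore p G)),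
      (∀ r ∈ (pCore p (Subgroup.normalizer
        ((P.map (QuotientGroup.mk' (pPrimeCore p G)) : Subgroup (G ⧸ pPrimeCore p G)) : Set (G ⧸ pPrimeCore p G)))).map
          (Subgroup.normalizer ((P.map (QuotientGroup.mk' (pPrimeCore p G)) : Subgroup (G ⧸ pPrimeCore p G)) : Set (G ⧸ pPrimeCore p G))).subtype,
        r * c = c * r) →
      c ∈ Subgroup.centralizer ((P.map (QuotientGroup.mk' (pPrimeCore p G)) : Subgroup (G ⧸ pPrimeCore p G)) : Set (G ⧸ pPrimeCore p G)) := by
    intro c _ hcr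
    rw [Subgroup.mem_centralizer_iff]
    intro x hx
    apply hcr
    have hle := Cfsg.Agent.Lib.Helper9.le_pCore
      (inferInstance : ((P.map (QuotientGroup.mk' (pPrimeCore p G))).subgroupOf
        (Subgroup.normalizer ((P.map (QuotientGroup.mk' (pPrimeCore p G)) : Subgroup (G ⧸ pPrimeCore p G)) : Set (G ⧸ pPrimeCore p G)))).Normal)
      hPb.comap_subtype
    exact ⟨⟨x, Subgroup.le_normalizer hx⟩, hle (Subgroup.mem_subgroupOf.mpr hx), rfl⟩
  have hK := Cfsg.Agent.S0631.lemmaK hc (P.map (QuotientGroup.mk' (pPrimeCore p G)))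
    (Subgroup.normalizer ((P.map (QuotientGroup.mk' (pPrimeCore p G)) : Subgroup (G ⧸ pPrimeCore p G)) : Set (G ⧸ pPrimeCore p G))) hPb
    (Subgroup.centralizer_le_normalizer _) le_rfl h3N h4N
  let f : ↥(Subgroup.normalizer (P : Set G)) →*
      ↥(Subgroup.normalizer ((P.map (QuotientGroup.mk' (pPrimeCore p G)) : Subgroup (G ⧸ pPrimeCore p G)) : Set (G ⧸ pPrimeCore p G))) :=
    ((QuotientGroup.mk' (pPrimeCore p G)).comp (Subgroup.normalizer (P : Set G)).subtype).codRestrict _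
      (fun n => Cfsg.Agent.Lib.Helper4.PPrimeQuot.norm_map _ P n.2)
  have hf : Function.Surjective f := by
    rintro ⟨y, hy⟩
    obtain ⟨g, rfl⟩ := QuotientGroup.mk'_surjective _ y
    obtain ⟨u, hu, hn⟩ := Cfsg.Agent.Lib.Helper4.PPrimeQuot.norm_lift hO hP g hy
    refine ⟨⟨u * g, hn⟩, Subtype.ext ?_⟩
    show QuotientGroup.mk' (pPrimeCore p G) (u * g) = QuotientGroup.mk' (pPrimeCore p G) g
    have hu1 : QuotientGroup.mk' (pPrimeCore p G) u = 1 := (QuotientGroup.eq_one_iff u).mpr hu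
    rw [map_mul, hu1, one_mul]
  apply le_antisymm
  · rintro _ ⟨x, hx, rfl⟩
    refine Subgroup.mem_inf.mpr ⟨?_, x.2⟩
    have hn : ((pPrimeCore p ↥(Subgroup.normalizer (P : Set G))).map f).Normal :=
      (Cfsg.pPrimeCore_normal p _).map f hf
    have hcop : (Nat.card ((pPrimeCore p ↥(Subgroup.normalizer (P : Set G))).map f)).Coprime p :=
      Nat.Coprime.coprime_dvd_left (Subgroup.card_map_dvd _ f)
        (Cfsg.Agent.Lib.Helper9.pPrimeCore_coprime p _)
    have hle := Cfsg.Agent.Lib.Helper9.le_pPrimeCore hn hcop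
    rw [hK.1] at hle
    have h3 := hle (Subgroup.mem_map_of_mem f hx)
    rw [Subgroup.mem_bot] at h3
    have h2 : QuotientGroup.mk' (pPrimeCore p G) (x : G) = 1 :=
      congrArg (Subtype.val : ↥(Subgroup.normalizer
        ((P.map (QuotientGroup.mk' (pPrimeCore p G)) : Subgroup (G ⧸ pPrimeCore p G)) : Set (G ⧸ pPrimeCore p G))) → _) h3
    exact (QuotientGroup.eq_one_iff _).mp h2
  · intro y hy
    obtain ⟨hyK, hyN⟩ := Subgroup.mem_inf.mp hy
    have hn : ((pPrimeCore p G).subgroupOf (Subgroup.normalizer (P : Set G))).Normal :=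
      inferInstance
    have hcop : (Nat.card ((pPrimeCore p G).subgroupOf (Subgroup.normalizer (P : Set G)))).Coprime p := by
      have h1 : Nat.card ((pPrimeCore p G).subgroupOf (Subgroup.normalizer (P : Set G))) ∣
          Nat.card (pPrimeCore p G) := by
        rw [Nat.card_congr (((pPrimeCore p G).subgroupOf (Subgroup.normalizer (P : Set G))).equivMapOfInjective
          (Subgroup.normalizer (P : Set G)).subtype (Subgroup.subtype_injective _)).toEquiv,
          Subgroup.subgroupOf_map_subtype]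
        exact Subgroup.card_dvd_of_le inf_le_left
      exact Nat.Coprime.coprime_dvd_left h1 hO
    have hle := Cfsg.Agent.Lib.Helper9.le_pPrimeCore hn hcop
    exact ⟨⟨y, hyN⟩, hle (Subgroup.mem_subgroupOf.mpr hyK), rfl⟩

end Cfsg.Agent.S0661
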