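import Cfsg.Statements.S0692
import Mathlib
import Cfsg.Agent.Lib.Helper5.Reg2

set_option autoImplicit false
open Cfsg

namespace Cfsg.Agent.S0692

open Cfsg.Agent.Lib.Helper5.Reg2

def predT : ℕ := 0x1bc019001640171003500dd00b40088005c01c5000401b901940168013c011001650055008c01a500690008005d013101d901400114000900b10185004900f1000c00e5018d007d0125011800910139002900d1003c001001cc003101740148011c011901c100850159001d00c5001100b90161005100f900f40065009c01e10044014d0099014100050150018100f800ed01950059012d001c012101c9008d0135002500fc00d0003900e101b5007901a9006d018401bd00ad010000d400a8007c002d0024004d01b40188015c010901dd00a100ac00800054000001b8017d004100e901910081012901d10095002c0000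

def phiT : ℕ := 0x77000c002c0052003900440058001a00250064000a00500066005e00710038004300050018002300150031004f0065005c00700019003d0024002f00450007001200080042005b00510063000f003000170022003b007600690074003c004e004a005d0002002a0011001c002e00680073005a00090027003a003600480010001b005600490062006d0054007500160033002900370003000e0004003f005500600047006b00140028001f00350072006f0061006c00060041004c00130026001e003400530020005f006a00210040004b0032004d0078000d0001000b0046002d002b0067001d00590057003e006e0000

theorem cert1 : allBelow (fun n => Nat.beq n 0 || reach 11 ⟨0, 10, 1, 0⟩ ⟨2, 4, 1, 8⟩ ⟨2, 4, 1, 8⟩ predT 12 n) (11 * 11) = true := by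
  decide +kernel

theorem cert2 : allBelow (fun n => Nat.beq n 0 || (eqv 11 ⟨0, 10, 1, 0⟩ phiT n && eqv 11 ⟨2, 4, 1, 8⟩ phiT n && eqv 11 ⟨2, 4, 1, 8⟩ phiT n)) (11 * 11) = true := by
  decide +kernel

theorem cert3 : look phiT 16 11 = 1 := by
  decide +kernel

/-- An exceptional sharply doubly transitive group of degree 11^2: the listed matrices generate a subgroup of GL(2,11) of order 120 acting regularly on the non-zero vectors. -/
theorem result (A : Matrix.GeneralLinearGroup (Fin 2) (ZMod 11)) (B : Matrix.GeneralLinearGroup (Fin 2) (ZMod 11)) (hA : (A : Matrix (Fin 2) (Fin 2) (ZMod 11)) = !![0, -1; 1, 0]) (hB : (B : Matrix (Fin 2) (Fin 2) (ZMod 11)) = !![2, 4; 1, -3]) : Nat.card (Subgroup.closure ({A, B} : Set (Matrix.GeneralLinearGroup (Fin 2) (ZMod 11)))) = 120 ∧ ∀ v w : Fin 2 → ZMod 11, v ≠ 0 → w ≠ 0 → ∃! h : Subgroup.closure ({A, B} : Set (Matrix.GeneralLinearGroup (Fin 2) (ZMod 11))), Matrix.mulVec ((h : Matrix.GeneralLinearGroup (Fin 2) (ZMod 11)) : Matrix (Fin 2) (Fin 2) (ZMod 11)) v = w := by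
  have hA' : (A : Matrix (Fin 2) (Fin 2) (ZMod 11)) = mat 11 ⟨0, 10, 1, 0⟩ := by
    rw [hA]
    ext i j
    fin_cases i <;> fin_cases j <;> rfl
  have hB' : (B : Matrix (Fin 2) (Fin 2) (ZMod 11)) = mat 11 ⟨2, 4, 1, 8⟩ := by
    rw [hB]
    ext i j
    fin_cases i <;> fin_cases j <;> rfl
  have hset : ({A, B, B} : Set (Matrix.GeneralLinearGroup (Fin 2) (ZMod 11))) = {A, B} := by simp
  have key := regular_of_cert (p := 11) (by norm_num) A B B ⟨0, 10, 1, 0⟩ ⟨2, 4, 1, 8⟩ ⟨2, 4, 1, 8⟩ hA' hB' hB' predT phiT 12 cert1 cert2 cert3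
  rw [hset] at key
  exact key

end Cfsg.Agent.S0692
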