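import Cfsg.Statements.S0721
import Mathlib
import Cfsg.Agent.Lib.Helper5.CharSimple

set_option autoImplicit false
open Cfsg

namespace Cfsg.Agent.S0721

open Cfsg.Agent.Lib.Helper5.CharSimple

/-- A minimal normal subgroup of a finite group is isomorphic to a direct power `T ^ m` of a simple group `T` (possibly of prime order). -/
theorem result {H : Type*} [Group H] [Finite H] (N : Subgroup H) [N.Normal] (hN : N ≠ ⊥) (hmin : ∀ M : Subgroup H, M.Normal → M ≤ N → M = ⊥ ∨ M = N) : ∃ (T : Type) (_ : Group T) (m : ℕ), IsSimpleGroup T ∧ 0 < m ∧ Nonempty (N ≃* (Fin m → T)) := by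
  classical
  have hnt : Nontrivial N := (Subgroup.nontrivial_iff_ne_bot N).mpr hN
  have hmin' : ∀ M' : Subgroup N, M'.Normal →
      (∀ h : H, M'.map (MulAut.conjNormal (H := N) h).toMonoidHom ≤ M') → M' = ⊥ ∨ M' = ⊤ := by
    intro M' _ hinv
    have hMn : (M'.map N.subtype).Normal := by
      constructor
      rintro _ ⟨y, hy, rfl⟩ h
      have h1 : h * N.subtype y * h⁻¹ = N.subtype (MulAut.conjNormal (H := N) h y) := by
        simp
      rw [h1]
      exact ⟨_, hinv h ⟨y, hy, rfl⟩, rfl⟩
    have hMle : M'.map N.subtype ≤ N := by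
      rintro _ ⟨y, _, rfl⟩
      exact y.2
    rcases hmin _ hMn hMle with h1 | h1
    · left
      exact (Subgroup.map_eq_bot_iff_of_injective M' N.subtype_injective).mp h1
    · right
      rw [Subgroup.eq_top_iff']
      intro y
      have hy : (y : H) ∈ M'.map N.subtype := by
        rw [h1]
        exact y.2
      obtain ⟨a, ha, hay⟩ := hy
      have : a = y := Subtype.ext hay
      rw [← this]
      exact ha
  obtain ⟨T₀, m, hsimple, hm, ⟨e⟩⟩ := exists_simple_power (MulAut.conjNormal (H := N)) hmin'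
  have hT₀nt : Nontrivial T₀ := hsimple.toNontrivial
  let f : {i : ℕ // i < Nat.card T₀} ≃ T₀ := Fin.equivSubtype.symm.trans (Finite.equivFin T₀).symm
  let _ : Group {i : ℕ // i < Nat.card T₀} := f.group
  let μ : {i : ℕ // i < Nat.card T₀} ≃* T₀ := f.mulEquiv
  have hnt' : Nontrivial {i : ℕ // i < Nat.card T₀} := μ.symm.injective.nontrivial
  refine ⟨{i : ℕ // i < Nat.card T₀}, inferInstance, m, ?_, hm, ⟨?_⟩⟩
  · exact IsSimpleGroup.isSimpleGroup_of_surjective (μ.symm : T₀ →* {i : ℕ // i < Nat.card T₀}) μ.symm.surjective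
  · exact e.trans (MulEquiv.piCongrRight (fun _ => μ.symm))

end Cfsg.Agent.S0721
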