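import Cfsg.Statements.S4195

set_option autoImplicit false
open Cfsg

namespace Cfsg.Agent.S4195

def CStar {G : Type*} [Group G] (x : G) : Subgroup G where
  carrier := {h | h * x * h⁻¹ = x ∨ h * x * h⁻¹ = x⁻¹}
  one_mem' := by left; group
  mul_mem' := by
    intro a b ha hb
    have e : a * b * x * (a * b)⁻¹ = a * (b * x * b⁻¹) * a⁻¹ := by group
    have e2 : a * x⁻¹ * a⁻¹ = (a * x * a⁻¹)⁻¹ := by group
    rcases ha with ha | ha <;> rcases hb with hb | hb
    · left; rw [e, hb, ha]
    · right; rw [e, hb, e2, ha]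
    · right; rw [e, hb, ha]
    · left; rw [e, hb, e2, ha, inv_inv]
  inv_mem' := by
    intro a ha
    rcases ha with ha | ha
    · left
      calc a⁻¹ * x * a⁻¹⁻¹ = a⁻¹ * (a * x * a⁻¹) * a := by rw [ha]; group
        _ = x := by group
    · right
      have : a * x⁻¹ * a⁻¹ = x := by
        calc a * x⁻¹ * a⁻¹ = (a * x * a⁻¹)⁻¹ := by group
          _ = x := by rw [ha, inv_inv]
      calc a⁻¹ * x * a⁻¹⁻¹ = a⁻¹ * (a * x⁻¹ * a⁻¹) * a := by rw [this]; group
        _ = x⁻¹ := by group

theorem mem_centralizer_iff' {G : Type*} [Group G] (x h : G) :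
    h ∈ Subgroup.centralizer ({x} : Set G) ↔ h * x * h⁻¹ = x := by
  rw [Subgroup.mem_centralizer_iff]
  constructor
  · intro H
    have := H x rfl
    rw [← this]; group
  · intro H y hy
    rw [Set.mem_singleton_iff] at hy
    subst hy
    calc y * h = (h * y * h⁻¹) * h := by rw [H]
      _ = h * y := by group

theorem result {G : Type*} [Group G] [Finite G] (x : G) (hx : x ≠ 1) (P : Sylow 2 G) (hP : (P : Subgroup G) ≤ Subgroup.centralizer ({x} : Set G)) (hreal : IsConj x x⁻¹) : orderOf x = 2 := by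
  rw [isConj_iff] at hreal
  obtain ⟨g, hg⟩ := hreal
  have key : x = x⁻¹ := by
    by_contra hne
    have hCle : Subgroup.centralizer ({x} : Set G) ≤ CStar x := by
      intro c hc
      left
      exact (mem_centralizer_iff' x c).mp hc
    have hgS : g ∈ CStar x := Or.inr hg
    have hidx : ((Subgroup.centralizer ({x} : Set G)).subgroupOf (CStar x)).index = 2 := by
      rw [Subgroup.index_eq_two_iff']
      refine ⟨⟨g, hgS⟩, ?_⟩
      rintro ⟨b, hb⟩
      rw [Subgroup.mem_subgroupOf, Subgroup.mem_subgroupOf]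
      simp only [Subgroup.coe_mul]
      rw [mem_centralizer_iff', mem_centralizer_iff']
      have e : g * b * x * (g * b)⁻¹ = g * (b * x * b⁻¹) * g⁻¹ := by group
      have e2 : g * x⁻¹ * g⁻¹ = (g * x * g⁻¹)⁻¹ := by group
      rcases hb with hb | hb
      · right
        refine ⟨hb, ?_⟩
        rw [e, hb, hg]
        exact fun h => hne h.symm
      · left
        refine ⟨?_, ?_⟩
        · rw [e, hb, e2, hg, inv_inv]
        · rw [hb]; exact fun h => hne h.symm
    have h1 : (Subgroup.centralizer ({x} : Set G)).relIndex (CStar x) = 2 := hidx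
    have h2 := Subgroup.relIndex_mul_index hCle
    rw [h1] at h2
    have h3 : 2 ∣ (Subgroup.centralizer ({x} : Set G)).index := ⟨_, h2.symm⟩
    have h4 : 2 ∣ (P : Subgroup G).index := h3.trans (Subgroup.index_dvd_of_le hP)
    exact P.not_dvd_index h4
  have hx2 : x ^ 2 = 1 := by
    rw [pow_two]
    nth_rewrite 2 [key]
    exact mul_inv_cancel x
  exact orderOf_eq_prime hx2 hx

end Cfsg.Agent.S4195
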