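import Cfsg.Statements.S4196
import Cfsg.Agent.S4195

set_option autoImplicit false
open Cfsg

namespace Cfsg.Agent.S4196

theorem sylow_conj {G : Type*} [Group G] [Finite G] {p : ℕ} [Fact p.Prime] (P Q : Sylow p G) :
    ∃ g : G, ∀ y ∈ (Q : Subgroup G), ∃ z ∈ (P : Subgroup G), y = g * z * g⁻¹ := by
  obtain ⟨g, hg⟩ := MulAction.exists_smul_eq G P Q
  refine ⟨g, fun y hy => ?_⟩
  rw [← hg, Sylow.coe_subgroup_smul, Subgroup.mem_smul_pointwise_iff_exists] at hy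
  obtain ⟨z, hz, hzy⟩ := hy
  refine ⟨z, hz, ?_⟩
  rw [← hzy]
  rfl

theorem result {G : Type*} [Group G] [Finite G] (P : Sylow 2 G) :
    (IsMulCommutative (P : Subgroup G) ∧ ∀ x ∈ (P : Subgroup G), x ^ 2 = 1) ↔
      ∀ x : G, (∃ k : ℕ, orderOf x = 2 ^ k) → (∃ Q : Sylow 2 G, (Q : Subgroup G) ≤ Subgroup.centralizer ({x} : Set G)) ∧ IsConj x x⁻¹ := by
  constructor
  · rintro ⟨hcomm, hexp⟩ x ⟨k, hk⟩
    have hpg : IsPGroup 2 (Subgroup.zpowers x) := by
      rw [IsPGroup.iff_orderOf]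
      rintro ⟨y, hy⟩
      obtain ⟨n, rfl⟩ := Subgroup.mem_zpowers_iff.mp hy
      have h1 : orderOf (x ^ n) ∣ 2 ^ k := by
        rw [← hk]; exact orderOf_dvd_of_pow_eq_one (by rw [← zpow_natCast, ← zpow_mul, mul_comm, zpow_mul, zpow_natCast, pow_orderOf_eq_one, one_zpow])
      obtain ⟨j, -, hj⟩ := (Nat.dvd_prime_pow Nat.prime_two).mp h1
      refine ⟨j, ?_⟩
      rw [← hj, ← Subgroup.orderOf_coe]
    obtain ⟨Q, hQ⟩ := hpg.exists_le_sylow
    have hxQ : x ∈ (Q : Subgroup G) := hQ (Subgroup.mem_zpowers x)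
    obtain ⟨g, hg⟩ := sylow_conj P Q
    rw [isMulCommutative_iff] at hcomm
    have hx2 : x ^ 2 = 1 := by
      obtain ⟨z, hz, rfl⟩ := hg x hxQ
      rw [conj_pow, hexp z hz]; group
    refine ⟨⟨Q, ?_⟩, ?_⟩
    · intro y hy
      rw [Subgroup.mem_centralizer_iff]
      intro w hw
      rw [Set.mem_singleton_iff] at hw
      subst hw
      obtain ⟨z, hz, rfl⟩ := hg y hy
      obtain ⟨u, hu, rfl⟩ := hg w hxQ
      have := congrArg Subtype.val (hcomm ⟨u, hu⟩ ⟨z, hz⟩)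
      simp only [Subgroup.coe_mul] at this
      calc g * u * g⁻¹ * (g * z * g⁻¹) = g * (u * z) * g⁻¹ := by group
        _ = g * (z * u) * g⁻¹ := by rw [this]
        _ = g * z * g⁻¹ * (g * u * g⁻¹) := by group
    · have : x⁻¹ = x := by
        rw [inv_eq_iff_mul_eq_one, ← pow_two, hx2]
      rw [this]
  · intro h
    have hexp : ∀ x ∈ (P : Subgroup G), x ^ 2 = 1 := by
      intro x hx
      by_cases hx1 : x = 1
      · rw [hx1, one_pow]
      · have hpg : IsPGroup 2 (P : Subgroup G) := P.2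
        rw [IsPGroup.iff_orderOf] at hpg
        obtain ⟨k, hk⟩ := hpg ⟨x, hx⟩
        rw [← Subgroup.orderOf_coe] at hk
        obtain ⟨⟨Q, hQ⟩, hreal⟩ := h x ⟨k, hk⟩
        have := Cfsg.Agent.S4195.result x hx1 Q hQ hreal
        rw [← this]
        exact pow_orderOf_eq_one x
    refine ⟨?_, hexp⟩
    rw [isMulCommutative_iff]
    rintro ⟨a, ha⟩ ⟨b, hb⟩
    apply Subtype.ext
    simp only [Subgroup.coe_mul]
    have h1 := hexp a ha
    have h2 := hexp b hb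
    have h3 := hexp (a * b) ((P : Subgroup G).mul_mem ha hb)
    rw [pow_two] at h1 h2 h3
    have e1 : a⁻¹ = a := inv_eq_of_mul_eq_one_left h1
    have e2 : b⁻¹ = b := inv_eq_of_mul_eq_one_left h2
    have e3 : (a * b)⁻¹ = a * b := inv_eq_of_mul_eq_one_left h3
    calc a * b = (a * b)⁻¹ := e3.symm
      _ = b⁻¹ * a⁻¹ := mul_inv_rev a b
      _ = b * a := by rw [e1, e2]

end Cfsg.Agent.S4196
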