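import Mathlib
import Cfsg.Statements.S4117
import Cfsg.Agent.S4196
import Cfsg.Agent.S4211

set_option autoImplicit false
open Cfsg

namespace Cfsg.Agent.S4117

theorem cocycle_principal {A M : Type*} [Group A] [Finite A] [CommGroup M] [Finite M]
    [MulDistribMulAction A M] (hcop : (Nat.card A).Coprime (Nat.card M)) (c : A → M)
    (hc : ∀ a b : A, c (a * b) = c a * a • c b) : ∃ m : M, ∀ a : A, c a = m * (a • m)⁻¹ := by
  classical
  letI : Fintype A := Fintype.ofFinite A
  obtain ⟨k, hk⟩ : ∃ k : M, k = ∏ b : A, c b := ⟨_, rfl⟩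
  have h1 : ∀ a : A, c a ^ Nat.card A = k * (a • k)⁻¹ := by
    intro a
    have h2 : a • k = ∏ b : A, (c a)⁻¹ * c (a * b) := by
      rw [hk, Finset.smul_prod']
      apply Finset.prod_congr rfl
      intro b _
      rw [hc a b, inv_mul_cancel_left]
    rw [Finset.prod_mul_distrib, Finset.prod_const, Finset.card_univ,
      ← Nat.card_eq_fintype_card] at h2
    have h3 : ∏ b : A, c (a * b) = k := by
      rw [hk]
      exact Fintype.prod_equiv (Equiv.mulLeft a) (fun b => c (a * b)) c (fun b => rfl)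
    rw [h3] at h2
    rw [h2, mul_inv_rev, mul_inv_cancel_left, inv_pow, inv_inv]
  obtain ⟨u, v, huv⟩ := Nat.isCoprime_iff_coprime.mpr hcop
  refine ⟨k ^ u, fun a => ?_⟩
  have h4 : (c a) ^ ((Nat.card A : ℤ) * u) = c a := by
    have h5 : (Nat.card A : ℤ) * u = 1 - v * (Nat.card M : ℤ) := by
      rw [← huv]; ring
    rw [h5, zpow_sub, zpow_one, zpow_mul, zpow_natCast, pow_card_eq_one', inv_one, mul_one]
  rw [smul_zpow', ← inv_zpow, ← mul_zpow, ← h1 a, ← zpow_natCast, ← zpow_mul, h4]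

theorem fixed_trivial {A M : Type*} [Group A] [Finite A] [CommGroup M] [Finite M]
    [MulDistribMulAction A M] (hcop : (Nat.card A).Coprime (Nat.card M))
    (hgen : Subgroup.closure {y : M | ∃ (a : A) (k : M), y = k⁻¹ * a • k} = ⊤)
    (z : M) (hz : ∀ a : A, a • z = z) : z = 1 := by
  classical
  letI : Fintype A := Fintype.ofFinite A
  let τ : M →* M :=
    { toFun := fun m => ∏ b : A, b • m
      map_one' := by simp
      map_mul' := fun x y => by simp [smul_mul', Finset.prod_mul_distrib] }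
  have hτ : ∀ m, τ m = ∏ b : A, b • m := fun m => rfl
  have h1 : ∀ (a : A) (k : M), τ (a • k) = τ k := by
    intro a k
    rw [hτ, hτ]
    exact Fintype.prod_equiv (Equiv.mulRight a) (fun b => b • a • k) (fun b => b • k)
      (fun b => (mul_smul b a k).symm)
  have h2 : ∀ m : M, τ m = 1 := by
    intro m
    have hm : m ∈ Subgroup.closure {y : M | ∃ (a : A) (k : M), y = k⁻¹ * a • k} := by
      rw [hgen]; trivial
    have hle : Subgroup.closure {y : M | ∃ (a : A) (k : M), y = k⁻¹ * a • k} ≤ τ.ker := by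
      rw [Subgroup.closure_le]
      rintro _ ⟨a, k, rfl⟩
      rw [SetLike.mem_coe, MonoidHom.mem_ker, map_mul, map_inv, h1, inv_mul_cancel]
    exact MonoidHom.mem_ker.mp (hle hm)
  have h3 : τ z = z ^ Nat.card A := by
    rw [hτ]
    have h0 : ∏ b : A, b • z = ∏ _b : A, z := Finset.prod_congr rfl (fun b _ => hz b)
    rw [h0, Finset.prod_const, Finset.card_univ, Nat.card_eq_fintype_card]
  have h4 : z ^ Nat.card A = 1 := by rw [← h3, h2]
  have h5 : orderOf z ∣ Nat.gcd (Nat.card A) (Nat.card M) :=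
    Nat.dvd_gcd (orderOf_dvd_of_pow_eq_one h4) (orderOf_dvd_natCard z)
  have h6 : Nat.gcd (Nat.card A) (Nat.card M) = 1 := hcop
  rw [h6] at h5
  exact orderOf_eq_one_iff.mp (Nat.dvd_one.mp h5)

theorem gen_centralizes {G A : Type*} [Group G] [Finite G] [Group A] [MulDistribMulAction A G]
    [IsZGroup G] (a : A) (g d : G) (hd : d ∈ commutator G) :
    (g⁻¹ * a • g) * d = d * (g⁻¹ * a • g) := by
  haveI : IsCyclic ↥(commutator G) := IsZGroup.isCyclic_commutator G
  obtain ⟨w, hw⟩ := IsCyclic.exists_generator (α := ↥(commutator G))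
  have hwG : ∀ d ∈ commutator G, ∃ j : ℤ, (w : G) ^ j = d := by
    intro d hd
    obtain ⟨j, hj⟩ := Subgroup.mem_zpowers_iff.mp (hw ⟨d, hd⟩)
    exact ⟨j, by rw [← Subgroup.coe_zpow, hj]⟩
  have hnorm : (commutator G).Normal := inferInstance
  obtain ⟨i, hi⟩ := hwG _ (hnorm.conj_mem _ w.2 g)
  have hpow : ∀ d ∈ commutator G, g * d * g⁻¹ = d ^ i := by
    intro d hd
    obtain ⟨j, hj⟩ := hwG d hd
    rw [← hj, ← conj_zpow, ← hi, ← zpow_mul, ← zpow_mul, mul_comm]
  have hinv : ∀ (b : A), ∀ d ∈ commutator G, b • d ∈ commutator G := by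
    intro b d hd
    have h1 := Subgroup.Characteristic.fixed (inferInstance : (commutator G).Characteristic)
      (MulDistribMulAction.toMulEquiv G b)
    have h2 : d ∈ (commutator G).comap (MulDistribMulAction.toMulEquiv G b).toMonoidHom := by
      rw [h1]; exact hd
    exact h2
  have hpow' : ∀ d ∈ commutator G, (a • g) * d * (a • g)⁻¹ = d ^ i := by
    intro d hd
    have h1 := hpow (a⁻¹ • d) (hinv a⁻¹ d hd)
    have h2 := congrArg (fun x => a • x) h1
    simp only [smul_mul', smul_inv', smul_zpow', smul_inv_smul] at h2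
    exact h2
  have h3 : g⁻¹ * d * g ∈ commutator G := by
    have h0 := hnorm.conj_mem d hd g⁻¹
    rwa [inv_inv] at h0
  have h4 : g * (g⁻¹ * d * g) * g⁻¹ = (g⁻¹ * d * g) ^ i := hpow _ h3
  have h5 : (g⁻¹ * d * g) ^ i = d := by rw [← h4]; group
  have h6 : (g⁻¹ * a • g) * d * (g⁻¹ * a • g)⁻¹ = d := by
    calc (g⁻¹ * a • g) * d * (g⁻¹ * a • g)⁻¹
        = g⁻¹ * ((a • g) * d * (a • g)⁻¹) * g := by group
      _ = g⁻¹ * d ^ i * g := by rw [hpow' d hd]
      _ = (g⁻¹ * d * g) ^ i := by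
          have h0 := conj_zpow (i := i) (a := g⁻¹) (b := d)
          rw [inv_inv] at h0
          exact h0.symm
      _ = d := h5
  calc (g⁻¹ * a • g) * d = ((g⁻¹ * a • g) * d * (g⁻¹ * a • g)⁻¹) * (g⁻¹ * a • g) := by group
    _ = d * (g⁻¹ * a • g) := by rw [h6]

theorem result {G A : Type*} [Group G] [Finite G] [Group A] [Finite A]
    [MulDistribMulAction A G] (hcop : (Nat.card A).Coprime (Nat.card G))
    (hcyc : ∀ (p : ℕ) [Fact p.Prime] (P : Sylow p G), IsCyclic (P : Subgroup G)) :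
    (Nat.card (MulAction.fixedPoints A G : Set G)).Coprime (Nat.card G / Nat.card (MulAction.fixedPoints A G : Set G)) ∧
    IsCyclic (Subgroup.closure {y : G | ∃ (a : A) (g : G), y = g⁻¹ * a • g}) ∧
    (Subgroup.closure {y : G | ∃ (a : A) (g : G), y = g⁻¹ * a • g}).Normal ∧
    (Subgroup.closure {y : G | ∃ (a : A) (g : G), y = g⁻¹ * a • g} : Set G) ∩ MulAction.fixedPoints A G = {1} ∧
    Subgroup.closure {y : G | ∃ (a : A) (g : G), y = g⁻¹ * a • g} ⊔ Subgroup.closure (MulAction.fixedPoints A G) = ⊤ := by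
  classical
  haveI hZ : IsZGroup G := ⟨fun p hp P => by haveI := Fact.mk hp; exact hcyc p P⟩
  obtain ⟨K, hK⟩ : ∃ K : Subgroup G,
      K = Subgroup.closure {y : G | ∃ (a : A) (g : G), y = g⁻¹ * a • g} := ⟨_, rfl⟩
  rw [← hK]
  have hgenK : ∀ (a : A) (g : G), g⁻¹ * a • g ∈ K := by
    intro a g
    rw [hK]
    exact Subgroup.subset_closure ⟨a, g, rfl⟩
  have hKcent : ∀ k ∈ K, ∀ d ∈ commutator G, k * d = d * k := by
    intro k hk d hd
    have hle : K ≤ Subgroup.centralizer ((commutator G : Subgroup G) : Set G) := by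
      conv_lhs => rw [hK]
      rw [Subgroup.closure_le]
      rintro _ ⟨a, g, rfl⟩
      rw [SetLike.mem_coe, Subgroup.mem_centralizer_iff]
      intro d hd
      exact (gen_centralizes a g d hd).symm
    exact ((Subgroup.mem_centralizer_iff.mp (hle hk)) d hd).symm
  have hKn : K.Normal := by
    constructor
    intro n hn h
    have hle : K ≤ K.comap (MulAut.conj h).toMonoidHom := by
      conv_lhs => rw [hK]
      rw [Subgroup.closure_le]
      rintro _ ⟨a, g, rfl⟩
      rw [SetLike.mem_coe, Subgroup.mem_comap]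
      show h * (g⁻¹ * a • g) * h⁻¹ ∈ K
      have h1 : h * (g⁻¹ * a • g) * h⁻¹
          = ((g * h⁻¹)⁻¹ * a • (g * h⁻¹)) * ((h⁻¹)⁻¹ * a • h⁻¹)⁻¹ := by
        rw [smul_mul', smul_inv']; group
      rw [h1]
      exact mul_mem (hgenK _ _) (inv_mem (hgenK _ _))
    exact hle hn
  have hKinv : ∀ (a : A), ∀ k ∈ K, a • k ∈ K := by
    intro a k hk
    have hle : K ≤ K.comap (MulDistribMulAction.toMonoidHom G a) := by
      conv_lhs => rw [hK]
      rw [Subgroup.closure_le]
      rintro _ ⟨b, g, rfl⟩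
      rw [SetLike.mem_coe, Subgroup.mem_comap, MulDistribMulAction.toMonoidHom_apply]
      have h1 : a • (g⁻¹ * b • g) = (a • g)⁻¹ * (a * b * a⁻¹) • (a • g) := by
        rw [smul_mul', smul_inv', ← mul_smul, ← mul_smul, inv_mul_cancel_right]
      rw [h1]
      exact hgenK _ _
    exact hle hk
  haveI hKnil : Group.IsNilpotent ↥K := by
    apply Subgroup.isNilpotent_of_ker_le_center (Abelianization.of (G := ↥K))
    rw [Abelianization.ker_of, commutator_eq_closure, Subgroup.closure_le]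
    rintro _ ⟨k₁, k₂, rfl⟩
    rw [SetLike.mem_coe, Subgroup.mem_center_iff]
    intro k
    apply Subtype.ext
    have hd : ((k₁ * k₂ * k₁⁻¹ * k₂⁻¹ : ↥K) : G) ∈ commutator G := by
      rw [commutator_eq_closure]
      exact Subgroup.subset_closure ⟨(k₁ : G), (k₂ : G), rfl⟩
    exact hKcent k.1 k.2 _ hd
  have hKcyc : IsCyclic ↥K := inferInstance
  have hKcomm : ∀ x y : ↥K, x * y = y * x := by
    letI := IsCyclic.commGroup (α := ↥K)
    exact fun x y => mul_comm x y
  have hcopK : (Nat.card A).Coprime (Nat.card ↥K) :=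
    Nat.Coprime.coprime_dvd_right (Subgroup.card_subgroup_dvd_card K) hcop
  letI instC : CommGroup ↥K := { (inferInstance : Group ↥K) with mul_comm := hKcomm }
  letI instA : MulDistribMulAction A ↥K :=
    { smul := fun a k => ⟨a • (k : G), hKinv a k.1 k.2⟩
      one_smul := fun k => Subtype.ext (one_smul A (k : G))
      mul_smul := fun a b k => Subtype.ext (mul_smul a b (k : G))
      smul_mul := fun a k₁ k₂ => Subtype.ext (smul_mul' a (k₁ : G) (k₂ : G))
      smul_one := fun a => Subtype.ext (smul_one a) }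
  have hKC : ∀ g : G, ∃ m ∈ K, ∀ a : A, a • (g * m) = g * m := by
    intro g
    obtain ⟨c, hcdef⟩ : ∃ c : A → ↥K, ∀ a, (c a : G) = g⁻¹ * a • g :=
      ⟨fun a => ⟨g⁻¹ * a • g, hgenK a g⟩, fun a => rfl⟩
    have hc : ∀ a b : A, c (a * b) = c a * a • c b := by
      intro a b
      apply Subtype.ext
      show (c (a * b) : G) = (c a : G) * a • (c b : G)
      rw [hcdef, hcdef, hcdef, smul_mul', smul_inv', mul_smul]; group
    obtain ⟨m, hm⟩ := cocycle_principal hcopK c hc
    refine ⟨(m : G), m.2, fun a => ?_⟩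
    have h1 : g⁻¹ * a • g = (m : G) * (a • (m : G))⁻¹ := by
      rw [← hcdef a]
      exact congrArg Subtype.val (hm a)
    calc a • (g * (m : G)) = a • g * a • (m : G) := smul_mul' a g m
      _ = g * (g⁻¹ * a • g) * a • (m : G) := by group
      _ = g * ((m : G) * (a • (m : G))⁻¹) * a • (m : G) := by rw [h1]
      _ = g * (m : G) := by group
  have hgen' : Subgroup.closure {y : ↥K | ∃ (a : A) (k : ↥K), y = k⁻¹ * a • k} = ⊤ := by
    rw [eq_top_iff]
    intro k _
    have hle : K ≤ (Subgroup.closure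
        {y : ↥K | ∃ (a : A) (k : ↥K), y = k⁻¹ * a • k}).map K.subtype := by
      conv_lhs => rw [hK]
      rw [Subgroup.closure_le]
      rintro _ ⟨a, g, rfl⟩
      obtain ⟨m, hmK, hm⟩ := hKC g
      rw [SetLike.mem_coe, Subgroup.mem_map]
      refine ⟨(⟨m, hmK⟩ : ↥K) * (a • (⟨m, hmK⟩ : ↥K))⁻¹,
        Subgroup.subset_closure ⟨a, (⟨m, hmK⟩ : ↥K)⁻¹, ?_⟩, ?_⟩
      · rw [inv_inv, smul_inv']
      · show m * (a • m)⁻¹ = g⁻¹ * a • g
        have h1 := hm a
        rw [smul_mul'] at h1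
        calc m * (a • m)⁻¹ = g⁻¹ * (g * m) * (a • m)⁻¹ := by group
          _ = g⁻¹ * (a • g * a • m) * (a • m)⁻¹ := by rw [h1]
          _ = g⁻¹ * a • g := by group
    obtain ⟨t, ht, htk⟩ := hle k.2
    have h0 : t = k := Subtype.ext htk
    rw [← h0]; exact ht
  have hKC_triv : ∀ z ∈ K, (∀ a : A, a • z = z) → z = 1 := by
    intro z hzK hz
    have h1 := fixed_trivial hcopK hgen' (⟨z, hzK⟩ : ↥K) (fun a => Subtype.ext (hz a))
    exact congrArg Subtype.val h1
  have hcompl : Subgroup.IsComplement' K (FixedPoints.subgroup A G) := by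
    apply Subgroup.isComplement'_of_disjoint_and_mul_eq_univ
    · rw [Subgroup.disjoint_def]
      intro z hzK hzC
      exact hKC_triv z hzK hzC
    · rw [Set.eq_univ_iff_forall]
      intro g
      obtain ⟨m, hmK, hm⟩ := hKC g⁻¹
      have hm' : g⁻¹ * m ∈ FixedPoints.subgroup A G := hm
      exact Set.mem_mul.mpr ⟨m, hmK, (g⁻¹ * m)⁻¹, inv_mem hm', by group⟩
  have hcard : Nat.card ↥K * Nat.card ↥(FixedPoints.subgroup A G) = Nat.card G :=
    hcompl.card_mul_card
  have hHall : (Nat.card ↥(FixedPoints.subgroup A G)).Coprime (Nat.card ↥K) := by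
    by_contra hnc
    obtain ⟨p, hp, hpC, hpK⟩ := Nat.Prime.not_coprime_iff_dvd.mp hnc
    haveI : Fact p.Prime := ⟨hp⟩
    obtain ⟨c, hc⟩ := exists_prime_orderOf_dvd_card' (G := ↥(FixedPoints.subgroup A G)) p hpC
    obtain ⟨k, hk⟩ := exists_prime_orderOf_dvd_card' (G := ↥K) p hpK
    have hcG : orderOf (c : G) = p := by rw [Subgroup.orderOf_coe]; exact hc
    have hkG : orderOf (k : G) = p := by rw [Subgroup.orderOf_coe]; exact hk
    have hpgc : IsPGroup p ↥(Subgroup.zpowers (c : G)) :=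
      IsPGroup.of_card (n := 1) (by rw [Nat.card_zpowers, hcG, pow_one])
    have hpgk : IsPGroup p ↥(Subgroup.zpowers (k : G)) :=
      IsPGroup.of_card (n := 1) (by rw [Nat.card_zpowers, hkG, pow_one])
    obtain ⟨P, hP⟩ := hpgc.exists_le_sylow
    obtain ⟨Q, hQ⟩ := hpgk.exists_le_sylow
    obtain ⟨g, hg⟩ := Cfsg.Agent.S4196.sylow_conj P Q
    obtain ⟨z, hzP, hkz⟩ := hg (k : G) (hQ (Subgroup.mem_zpowers _))
    have hzk : z = g⁻¹ * (k : G) * g⁻¹⁻¹ := by rw [hkz]; group
    have hzK : z ∈ K := by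
      rw [hzk]; exact hKn.conj_mem _ k.2 g⁻¹
    have hz_ord : orderOf z = p := by
      have h2 : z ^ p = 1 := by
        rw [hzk, conj_pow, ← hkG, pow_orderOf_eq_one]; group
      have h3 : z ≠ 1 := by
        intro h
        rw [h] at hkz
        have h0 : (k : G) = 1 := by rw [hkz]; group
        rw [h0, orderOf_one] at hkG
        exact hp.one_lt.ne hkG
      exact orderOf_eq_prime h2 h3
    haveI : IsCyclic ↥(P : Subgroup G) := hcyc p P
    obtain ⟨w, hw⟩ := IsCyclic.exists_generator (α := ↥(P : Subgroup G))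
    have hwG : ∀ y ∈ (P : Subgroup G), y ∈ Subgroup.zpowers (w : G) := by
      intro y hy
      obtain ⟨j, hj⟩ := Subgroup.mem_zpowers_iff.mp (hw ⟨y, hy⟩)
      exact Subgroup.mem_zpowers_iff.mpr ⟨j, by rw [← Subgroup.coe_zpow, hj]⟩
    obtain ⟨n, hn⟩ := P.2.exists_card_eq
    have hword : orderOf (w : G) = p ^ n := by
      rw [Subgroup.orderOf_coe, orderOf_eq_card_of_forall_mem_zpowers hw]; exact hn
    have hcP : (c : G) ∈ Subgroup.zpowers (w : G) := hwG _ (hP (Subgroup.mem_zpowers _))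
    have hzP' : z ∈ Subgroup.zpowers (w : G) := hwG _ hzP
    have hn1 : 1 ≤ n := by
      by_contra h0
      have hn0 : n = 0 := by omega
      have h1 := orderOf_dvd_of_mem_zpowers hcP
      rw [hword, hcG, hn0, pow_zero] at h1
      exact hp.one_lt.ne' (Nat.dvd_one.mp h1)
    have e1 := Cfsg.Agent.S4211.zpowers_eq_of_prime (w : G) (c : G) p n hp hn1 hword hcG hcP
    have e2 := Cfsg.Agent.S4211.zpowers_eq_of_prime (w : G) z p n hp hn1 hword hz_ord hzP'
    have hcz : (c : G) ∈ Subgroup.zpowers z := by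
      rw [e2, ← e1]; exact Subgroup.mem_zpowers _
    have hcK : (c : G) ∈ K := (Subgroup.zpowers_le.mpr hzK) hcz
    have hc1 : (c : G) = 1 := hKC_triv _ hcK c.2
    rw [hc1, orderOf_one] at hcG
    exact hp.one_lt.ne hcG
  have hcardC : Nat.card (MulAction.fixedPoints A G : Set G)
      = Nat.card ↥(FixedPoints.subgroup A G) := rfl
  have hdiv : Nat.card G / Nat.card ↥(FixedPoints.subgroup A G) = Nat.card ↥K :=
    Nat.div_eq_of_eq_mul_left Nat.card_pos hcard.symm
  have hcl : Subgroup.closure (MulAction.fixedPoints A G) = FixedPoints.subgroup A G :=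
    Subgroup.closure_eq (FixedPoints.subgroup A G)
  refine ⟨?_, hKcyc, hKn, ?_, ?_⟩
  · rw [hcardC, hdiv]; exact hHall
  · ext z
    constructor
    · rintro ⟨hzK, hzC⟩
      exact hKC_triv z hzK hzC
    · intro hz
      rw [Set.mem_singleton_iff] at hz
      rw [hz]
      exact ⟨K.one_mem, fun a => smul_one a⟩
  · rw [hcl, eq_top_iff]
    intro g _
    obtain ⟨m, hmK, hm⟩ := hKC g⁻¹
    have hm' : g⁻¹ * m ∈ FixedPoints.subgroup A G := hm
    have hg : g = m * (g⁻¹ * m)⁻¹ := by group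
    rw [hg]
    exact mul_mem (Subgroup.mem_sup_left hmK) (Subgroup.mem_sup_right (inv_mem hm'))

end Cfsg.Agent.S4117
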