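import Mathlib
import Cfsg.Statements.S4151
import Cfsg.Agent.S4117
import Cfsg.Agent.Lib.Helper1.FpfUnique
import Cfsg.Agent.Lib.Helper18.UniqueInvolution

set_option autoImplicit false
open Cfsg
open Pointwise

namespace Cfsg.Agent.S4151

theorem relIndex_dvd {G : Type*} [Group G] [Finite G] (T C : Subgroup G) [T.Normal] :
    C.relIndex T ∣ C.index := by
  have h1 : (T ⊓ C).relIndex T * T.index = (T ⊓ C).index := Subgroup.relIndex_mul_index inf_le_left
  have h2 : (T ⊓ C).relIndex C * C.index = (T ⊓ C).index := Subgroup.relIndex_mul_index inf_le_right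
  rw [Subgroup.inf_relIndex_left] at h1
  rw [Subgroup.inf_relIndex_right] at h2
  obtain ⟨j, hj⟩ := Subgroup.relIndex_dvd_index_of_normal T C
  have hpos : 0 < T.relIndex C := by
    apply Nat.pos_of_ne_zero
    intro h0
    rw [h0, zero_mul] at hj
    exact Subgroup.index_ne_zero_of_finite hj
  have h3 : T.relIndex C * (C.relIndex T * j) = T.relIndex C * C.index := by
    calc T.relIndex C * (C.relIndex T * j) = C.relIndex T * (T.relIndex C * j) := by ring
      _ = C.relIndex T * T.index := by rw [hj]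
      _ = (T ⊓ C).index := h1
      _ = T.relIndex C * C.index := h2.symm
  exact ⟨j, (Nat.eq_of_mul_eq_mul_left hpos h3).symm⟩

theorem eq_one_of_pow_pow {G : Type*} [Group G] {p r : ℕ} (hp : p.Prime) (hr : r.Prime)
    (hpr : p ≠ r) (x : G) (i j : ℕ) (h1 : x ^ p ^ i = 1) (h2 : x ^ r ^ j = 1) : x = 1 := by
  have hc : Nat.Coprime (p ^ i) (r ^ j) := Nat.Coprime.pow i j ((Nat.coprime_primes hp hr).mpr hpr)
  have d1 : orderOf x ∣ p ^ i := orderOf_dvd_of_pow_eq_one h1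
  have d2 : orderOf x ∣ r ^ j := orderOf_dvd_of_pow_eq_one h2
  have h3 : orderOf x = 1 := Nat.Coprime.eq_one_of_dvd (Nat.Coprime.coprime_dvd_left d1 hc) d2
  exact orderOf_eq_one_iff.mp h3

theorem pg_pow {G : Type*} [Group G] {p : ℕ} {S : Subgroup G} (hS : IsPGroup p S) {x : G}
    (hx : x ∈ S) : ∃ i : ℕ, x ^ p ^ i = 1 := by
  obtain ⟨i, hi⟩ := hS ⟨x, hx⟩
  refine ⟨i, ?_⟩
  have h := congrArg Subtype.val hi
  simpa using h

theorem le_norm {G : Type*} [Group G] (X A : Subgroup G)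
    (hA : ∀ a ∈ A, ∀ x ∈ X, a * x * a⁻¹ ∈ X) : A ≤ Subgroup.normalizer (X : Set G) := by
  intro a ha
  rw [Subgroup.mem_normalizer_iff]
  intro x
  constructor
  · exact hA a ha x
  · intro hx
    have h1 := hA a⁻¹ (A.inv_mem ha) _ hx
    have h2 : a⁻¹ * (a * x * a⁻¹) * a⁻¹⁻¹ = x := by group
    rw [h2] at h1
    exact h1

theorem conj_sup {G : Type*} [Group G] (Y Z X : Subgroup G) (a : G)
    (hY : ∀ x ∈ Y, a * x * a⁻¹ ∈ X) (hZ : ∀ x ∈ Z, a * x * a⁻¹ ∈ X) :
    ∀ x ∈ Y ⊔ Z, a * x * a⁻¹ ∈ X := by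
  have h : Y ⊔ Z ≤ X.comap (MulAut.conj a).toMonoidHom :=
    sup_le (fun y hy => Subgroup.mem_comap.mpr (hY y hy))
      (fun z hz => Subgroup.mem_comap.mpr (hZ z hz))
  intro x hx
  exact Subgroup.mem_comap.mp (h hx)

theorem exists_inv_sylow {G : Type*} [Group G] [Finite G] (O : Subgroup G) [hON : O.Normal]
    (p : ℕ) [hp : Fact p.Prime] (S : Subgroup G) (hS : IsPGroup p S) (hpO : ¬ p ∣ Nat.card O)
    (r : ℕ) [hr : Fact r.Prime] :
    ∃ R : Subgroup G, R ≤ O ∧ IsPGroup r R ∧ (∀ s ∈ S, ∀ x ∈ R, s * x * s⁻¹ ∈ R) ∧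
      ¬ r ∣ R.relIndex O := by
  letI : MulDistribMulAction ↥S ↥O :=
    MulDistribMulAction.compHom ↥O ((MulAut.conjNormal (H := O)).comp S.subtype)
  have hsm : ∀ (s : S) (x : O), ((s • x : O) : G) = (s : G) * x * (s : G)⁻¹ := fun s x => rfl
  have hcard : ¬ p ∣ Nat.card (Sylow r ↥O) := by
    intro h
    obtain ⟨P0⟩ : Nonempty (Sylow r ↥O) := inferInstance
    exact hpO (dvd_trans h (dvd_trans (Sylow.card_dvd_index P0) (Subgroup.index_dvd_card _)))
  obtain ⟨P, hP⟩ := hS.nonempty_fixed_point_of_prime_not_dvd_card (Sylow r ↥O) hcard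
  refine ⟨(P : Subgroup O).map O.subtype, Subgroup.map_subtype_le _, P.isPGroup'.map _, ?_, ?_⟩
  · rintro s hs x ⟨y, hy, rfl⟩
    have h1 : (⟨s, hs⟩ : S) • P = P := hP ⟨s, hs⟩
    have h2 : (⟨s, hs⟩ : S) • y ∈ (⟨s, hs⟩ : S) • (P : Subgroup O) :=
      Subgroup.smul_mem_pointwise_smul y _ _ hy
    rw [← Sylow.pointwise_smul_def, h1] at h2
    exact ⟨(⟨s, hs⟩ : S) • y, h2, hsm ⟨s, hs⟩ y⟩
  · have h3 : ((P : Subgroup O).map O.subtype).subgroupOf O = (P : Subgroup O) :=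
      Subgroup.comap_map_eq_self_of_injective O.subtype_injective _
    show ¬ r ∣ (((P : Subgroup O).map O.subtype).subgroupOf O).index
    rw [h3]
    exact P.not_dvd_index

theorem uniq_core {G : Type*} [Group G] [Finite G] (p r : ℕ) [hp : Fact p.Prime]
    [hr : Fact r.Prime] (hpr : p ≠ r) (S R R0 : Subgroup G) (hS : IsPGroup p S)
    (hR : IsPGroup r R) (hR0R : R0 ≤ R) (hlt : ¬ R ≤ R0)
    (hinv : ∀ s ∈ S, ∀ x ∈ R, s * x * s⁻¹ ∈ R)
    (hcent : ∀ s ∈ S, ∀ t ∈ R0, s * t = t * s)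
    (hfix : ∀ s ∈ S, s ≠ 1 → ∀ x ∈ R, s * x = x * s → x ∈ R0) :
    ∀ a ∈ S, ∀ b ∈ S, orderOf a = p → orderOf b = p → b ∈ Subgroup.zpowers a := by
  intro a ha b hb hoa hob
  obtain ⟨N0, hN0⟩ : ∃ N0 : Subgroup G, N0 = Subgroup.normalizer (R0 : Set G) := ⟨_, rfl⟩
  have hSN0 : S ≤ N0 := by
    intro s hs
    rw [hN0, Subgroup.mem_normalizer_iff]
    intro t
    constructor
    · intro ht
      have h1 : s * t * s⁻¹ = t := by rw [hcent s hs t ht]; group
      rw [h1]; exact ht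
    · intro ht
      have h1 := hcent s⁻¹ (S.inv_mem hs) _ ht
      have h2 : t = s * t * s⁻¹ := by
        calc t = s⁻¹ * (s * t * s⁻¹) * s := by group
          _ = (s * t * s⁻¹) * s⁻¹ * s := by rw [h1]
          _ = s * t * s⁻¹ := by group
      rw [h2]; exact ht
  haveI hnrm : (R0.subgroupOf N0).Normal := by rw [hN0]; exact Subgroup.normal_in_normalizer
  have hSR0 : ∀ x ∈ S, x ∈ R0 → x = 1 := by
    intro x hxS hxR
    obtain ⟨i, hi⟩ := pg_pow hS hxS
    obtain ⟨j, hj⟩ := pg_pow hR (hR0R hxR)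
    exact eq_one_of_pow_pow hp.out hr.out hpr x i j hi hj
  obtain ⟨π, hπdef⟩ : ∃ π : ↥N0 →* (↥N0 ⧸ R0.subgroupOf N0),
      π = QuotientGroup.mk' (R0.subgroupOf N0) := ⟨_, rfl⟩
  have hπ1 : ∀ y : ↥N0, π y = 1 ↔ (y : G) ∈ R0 := by
    intro y
    rw [hπdef, ← MonoidHom.mem_ker, QuotientGroup.ker_mk']
    exact Subgroup.mem_subgroupOf
  obtain ⟨S', hS'def⟩ : ∃ S' : Subgroup (↥N0 ⧸ R0.subgroupOf N0),
      S' = (S.subgroupOf N0).map π := ⟨_, rfl⟩
  obtain ⟨Rb, hRbdef⟩ : ∃ Rb : Subgroup (↥N0 ⧸ R0.subgroupOf N0),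
      Rb = (R.subgroupOf N0).map π := ⟨_, rfl⟩
  have hS' : IsPGroup p S' := by rw [hS'def]; exact (hS.comap_subtype).map π
  have hRb : IsPGroup r Rb := by rw [hRbdef]; exact (hR.comap_subtype).map π
  obtain ⟨y, hyR, hyN0, hyR0⟩ : ∃ y ∈ R, y ∈ N0 ∧ y ∉ R0 := by
    haveI : Group.IsNilpotent ↥R := hR.isNilpotent
    have hlt' : R0.subgroupOf R < ⊤ := by
      rw [lt_top_iff_ne_top]
      intro h
      apply hlt
      intro x hx
      have h1 : (⟨x, hx⟩ : R) ∈ R0.subgroupOf R := by rw [h]; exact Subgroup.mem_top _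
      exact Subgroup.mem_subgroupOf.mp h1
    have h2 := Group.normalizerCondition_of_isNilpotent (G := ↥R) (R0.subgroupOf R) hlt'
    obtain ⟨y, hyn, hyn'⟩ := SetLike.exists_of_lt h2
    have h3 := Subgroup.mem_normalizer_iff.mp hyn
    refine ⟨(y : G), y.2, ?_, fun h => hyn' (Subgroup.mem_subgroupOf.mpr h)⟩
    rw [hN0, Subgroup.mem_normalizer_iff]
    intro t
    constructor
    · intro ht
      have h4 := (h3 ⟨t, hR0R ht⟩).mp (Subgroup.mem_subgroupOf.mpr ht)
      exact Subgroup.mem_subgroupOf.mp h4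
    · intro ht
      have htR : t ∈ R := by
        have h5 : t = (y : G)⁻¹ * ((y : G) * t * (y : G)⁻¹) * (y : G) := by group
        rw [h5]
        exact R.mul_mem (R.mul_mem (R.inv_mem y.2) (hR0R ht)) y.2
      have h4 := (h3 ⟨t, htR⟩).mpr (Subgroup.mem_subgroupOf.mpr ht)
      exact Subgroup.mem_subgroupOf.mp h4
  obtain ⟨V, hVdef⟩ : ∃ V : Subgroup (↥N0 ⧸ R0.subgroupOf N0),
      V = Rb ⊓ Subgroup.centralizer (Rb : Set (↥N0 ⧸ R0.subgroupOf N0)) := ⟨_, rfl⟩
  have hVmem : ∀ v, v ∈ V ↔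
      v ∈ Rb ∧ v ∈ Subgroup.centralizer (Rb : Set (↥N0 ⧸ R0.subgroupOf N0)) := by
    intro v; rw [hVdef]; exact Subgroup.mem_inf
  have hV1 : V ≠ ⊥ := by
    haveI : Nontrivial ↥Rb := by
      refine ⟨⟨⟨π ⟨y, hyN0⟩, ?_⟩, 1, ?_⟩⟩
      · rw [hRbdef]; exact ⟨⟨y, hyN0⟩, Subgroup.mem_subgroupOf.mpr hyR, rfl⟩
      · intro h
        have h1 : π ⟨y, hyN0⟩ = 1 := congrArg Subtype.val h
        exact hyR0 ((hπ1 _).mp h1)
    haveI : Nontrivial (Subgroup.center ↥Rb) := hRb.center_nontrivial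
    obtain ⟨z, hz⟩ := exists_ne (1 : Subgroup.center ↥Rb)
    intro hbot
    apply hz
    have hzV : ((z : ↥Rb) : ↥N0 ⧸ R0.subgroupOf N0) ∈ V := by
      rw [hVmem]
      refine ⟨(z : ↥Rb).2, ?_⟩
      rw [Subgroup.mem_centralizer_iff]
      intro w hw
      have h1 := Subgroup.mem_center_iff.mp z.2 ⟨w, hw⟩
      exact congrArg Subtype.val h1
    rw [hbot, Subgroup.mem_bot] at hzV
    exact Subtype.ext (Subtype.ext hzV)
  have hRbn : ∀ s ∈ S', ∀ w ∈ Rb, s * w * s⁻¹ ∈ Rb := by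
    intro s hs w hw
    rw [hS'def] at hs
    rw [hRbdef] at hw ⊢
    obtain ⟨s0, hs0, rfl⟩ := hs
    obtain ⟨w0, hw0, rfl⟩ := hw
    refine ⟨s0 * w0 * s0⁻¹, Subgroup.mem_subgroupOf.mpr ?_, by rw [map_mul, map_mul, map_inv]⟩
    exact hinv _ (Subgroup.mem_subgroupOf.mp hs0) _ (Subgroup.mem_subgroupOf.mp hw0)
  have hVc : ∀ a ∈ V, ∀ b ∈ V, a * b = b * a := by
    intro a ha b hb
    exact Subgroup.mem_centralizer_iff.mp ((hVmem b).mp hb).2 a ((hVmem a).mp ha).1
  have hVp : ∀ v ∈ V, v ^ p = 1 → v = 1 := by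
    intro v hv hvp
    obtain ⟨j, hj⟩ := pg_pow hRb ((hVmem v).mp hv).1
    exact eq_one_of_pow_pow hp.out hr.out hpr v 1 j (by rw [pow_one]; exact hvp) hj
  have hnorm : ∀ s ∈ S', ∀ v ∈ V, s * v * s⁻¹ ∈ V := by
    intro s hs v hv
    rw [hVmem] at hv ⊢
    refine ⟨hRbn s hs v hv.1, ?_⟩
    rw [Subgroup.mem_centralizer_iff]
    intro w hw
    have h1 : s⁻¹ * w * s ∈ Rb := by
      have h0 := hRbn s⁻¹ (S'.inv_mem hs) w hw
      rwa [inv_inv] at h0
    have h2 := Subgroup.mem_centralizer_iff.mp hv.2 _ h1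
    calc w * (s * v * s⁻¹) = s * ((s⁻¹ * w * s) * v) * s⁻¹ := by group
      _ = s * (v * (s⁻¹ * w * s)) * s⁻¹ := by rw [h2]
      _ = s * v * s⁻¹ * w := by group
  have hfpf : ∀ s ∈ S', orderOf s = p → ∀ v ∈ V, s * v = v * s → v = 1 := by
    intro s hs hos v hv hcomm
    rw [hS'def] at hs
    have hvR := ((hVmem v).mp hv).1
    rw [hRbdef] at hvR
    obtain ⟨s0, hs0, rfl⟩ := hs
    obtain ⟨x0, hx0, rfl⟩ := hvR
    have hs0 : (s0 : G) ∈ S := Subgroup.mem_subgroupOf.mp hs0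
    have hx0 : (x0 : G) ∈ R := Subgroup.mem_subgroupOf.mp hx0
    have hs01 : (s0 : G) ≠ 1 := by
      intro h
      have h1 : s0 = 1 := Subtype.ext h
      rw [h1, map_one, orderOf_one] at hos
      exact hp.out.one_lt.ne hos
    obtain ⟨t, htdef⟩ : ∃ t : G, t = ((s0 : G))⁻¹ * ((x0 : G))⁻¹ * (s0 : G) * (x0 : G) :=
      ⟨_, rfl⟩
    have ht : t ∈ R0 := by
      have h1 : π (s0⁻¹ * x0⁻¹ * s0 * x0) = 1 := by
        rw [map_mul, map_mul, map_mul, map_inv, map_inv]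
        calc (π s0)⁻¹ * (π x0)⁻¹ * π s0 * π x0
            = (π s0)⁻¹ * (π x0)⁻¹ * (π s0 * π x0) := by group
          _ = (π s0)⁻¹ * (π x0)⁻¹ * (π x0 * π s0) := by rw [hcomm]
          _ = 1 := by group
      rw [htdef]
      exact (hπ1 _).mp h1
    have hst : (s0 : G) * t = t * (s0 : G) := hcent _ hs0 t ht
    have hconj : (s0 : G) * x0 * (s0 : G)⁻¹ = x0 * t := by
      calc (s0 : G) * x0 * (s0 : G)⁻¹ = x0 * ((s0 : G) * t) * (s0 : G)⁻¹ := by
            rw [htdef]; group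
        _ = x0 * (t * (s0 : G)) * (s0 : G)⁻¹ := by rw [hst]
        _ = x0 * t := by group
    have hpow : ∀ k : ℕ, (s0 : G) ^ k * x0 * ((s0 : G) ^ k)⁻¹ = x0 * t ^ k := by
      intro k
      induction k with
      | zero => simp
      | succ k ih =>
        have hstk : (s0 : G) * t ^ k = t ^ k * (s0 : G) :=
          ((show Commute (s0 : G) t from hst).pow_right k).eq
        calc (s0 : G) ^ (k + 1) * x0 * ((s0 : G) ^ (k + 1))⁻¹
            = (s0 : G) * ((s0 : G) ^ k * x0 * ((s0 : G) ^ k)⁻¹) * (s0 : G)⁻¹ := by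
              rw [pow_succ']; group
          _ = (s0 : G) * (x0 * t ^ k) * (s0 : G)⁻¹ := by rw [ih]
          _ = ((s0 : G) * x0 * (s0 : G)⁻¹) * ((s0 : G) * t ^ k) * (s0 : G)⁻¹ := by group
          _ = (x0 * t) * (t ^ k * (s0 : G)) * (s0 : G)⁻¹ := by rw [hconj, hstk]
          _ = x0 * t ^ (k + 1) := by rw [pow_succ']; group
    obtain ⟨i, hi⟩ := pg_pow hS hs0
    obtain ⟨j, hj⟩ := pg_pow hR (hR0R ht)
    have h3 := hpow (p ^ i)
    rw [hi] at h3
    have h4 : t ^ p ^ i = 1 := by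
      have h6 : (x0 : G)⁻¹ * (1 * x0 * 1⁻¹) = (x0 : G)⁻¹ * (x0 * t ^ p ^ i) := by rw [h3]
      simpa using h6.symm
    have ht1 : t = 1 := eq_one_of_pow_pow hp.out hr.out hpr t i j h4 hj
    have hcomm0 : (s0 : G) * x0 = x0 * (s0 : G) := by
      have h7 : (s0 : G) * x0 * (s0 : G)⁻¹ = x0 := by rw [hconj, ht1, mul_one]
      calc (s0 : G) * x0 = ((s0 : G) * x0 * (s0 : G)⁻¹) * (s0 : G) := by group
        _ = x0 * (s0 : G) := by rw [h7]
    have hx0R0 : (x0 : G) ∈ R0 := hfix _ hs0 hs01 _ hx0 hcomm0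
    exact (hπ1 x0).mpr hx0R0
  have key := Cfsg.Agent.Lib.Helper1.unique_order_p_of_fpf p S' V hS' hV1 hVc hVp hnorm hfpf
  have hmemS' : ∀ c (hc : c ∈ S), π ⟨c, hSN0 hc⟩ ∈ S' := by
    intro c hc
    rw [hS'def]
    exact ⟨⟨c, hSN0 hc⟩, Subgroup.mem_subgroupOf.mpr hc, rfl⟩
  have hord : ∀ c (hc : c ∈ S), orderOf c = p → orderOf (π ⟨c, hSN0 hc⟩) = p := by
    intro c hc hoc
    apply orderOf_eq_prime
    · rw [← map_pow]
      have h1 : (⟨c, hSN0 hc⟩ : ↥N0) ^ p = 1 := by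
        apply Subtype.ext
        have h2 : c ^ p = 1 := by
          have h3 := pow_orderOf_eq_one c
          rw [hoc] at h3
          exact h3
        simpa using h2
      rw [h1, map_one]
    · intro h
      have h1 := hSR0 c hc ((hπ1 _).mp h)
      rw [h1, orderOf_one] at hoc
      exact hp.out.one_lt.ne hoc
  obtain ⟨k, hk⟩ := Subgroup.mem_zpowers_iff.mp
    (key _ (hmemS' a ha) _ (hmemS' b hb) (hord a ha hoa) (hord b hb hob))
  have h1 : π (((⟨a, hSN0 ha⟩ : ↥N0) ^ k)⁻¹ * ⟨b, hSN0 hb⟩) = 1 := by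
    rw [map_mul, map_inv, map_zpow, hk, inv_mul_cancel]
  have h2' := (hπ1 _).mp h1
  have h2 : (a ^ k)⁻¹ * b ∈ R0 := h2'
  have h3 : (a ^ k)⁻¹ * b = 1 := hSR0 _ (S.mul_mem (S.inv_mem (S.zpow_mem ha k)) hb) h2
  exact Subgroup.mem_zpowers_iff.mpr ⟨k, inv_mul_eq_one.mp h3⟩

theorem uniq {G : Type*} [Group G] [Finite G] (H O : Subgroup G) [hON : O.Normal]
    (hcop : (Nat.card O).Coprime (Nat.card H))
    (hF1 : ∀ h ∈ H, h ≠ 1 → ∀ x ∈ O, x * h = h * x → x ∈ Subgroup.centralizer (H : Set G))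
    (hF2 : ¬ O ≤ Subgroup.centralizer (H : Set G))
    (p : ℕ) [hp : Fact p.Prime] (S : Subgroup G) (hSH : S ≤ H) (hS : IsPGroup p S) :
    ∀ a ∈ S, ∀ b ∈ S, orderOf a = p → orderOf b = p → b ∈ Subgroup.zpowers a := by
  intro a ha b hb hoa hob
  have hpH : p ∣ Nat.card H := by
    have h1 := Subgroup.orderOf_dvd_natCard H (hSH ha)
    rw [hoa] at h1
    exact h1
  have hpO : ¬ p ∣ Nat.card O := by
    intro h
    exact (Nat.Prime.coprime_iff_not_dvd hp.out).mp (Nat.Coprime.coprime_dvd_left h hcop) hpH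
  obtain ⟨r, hr, hrdvd⟩ := Nat.exists_prime_and_dvd
    (n := (Subgroup.centralizer (H : Set G)).relIndex O)
    (fun h => hF2 (Subgroup.relIndex_eq_one.mp h))
  haveI : Fact r.Prime := ⟨hr⟩
  have hpr : p ≠ r := by
    intro h
    apply hpO
    rw [h]
    exact dvd_trans hrdvd (Subgroup.relIndex_dvd_card _ _)
  obtain ⟨R, hRO, hRr, hRinv, hRsyl⟩ := exists_inv_sylow O p S hS hpO r
  have hRZ : ¬ R ≤ Subgroup.centralizer (H : Set G) := by
    intro hRZ
    apply hRsyl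
    have h1 : R ≤ O ⊓ Subgroup.centralizer (H : Set G) := le_inf hRO hRZ
    have h2 := Subgroup.relIndex_mul_relIndex R (O ⊓ Subgroup.centralizer (H : Set G)) O h1
      inf_le_left
    rw [← h2, Subgroup.inf_relIndex_left]
    exact dvd_mul_of_dvd_right hrdvd _
  exact uniq_core p r hpr S R (R ⊓ Subgroup.centralizer (H : Set G)) hS hRr inf_le_left
    (fun h => hRZ (le_trans h inf_le_right)) hRinv
    (fun s hs t ht => Subgroup.mem_centralizer_iff.mp (Subgroup.mem_inf.mp ht).2 s (hSH hs))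
    (fun s hs hs1 x hx hsx =>
      Subgroup.mem_inf.mpr ⟨hx, hF1 s (hSH hs) hs1 x (hRO hx) hsx.symm⟩) a ha b hb hoa hob

theorem sylow_cyclic {G : Type*} [Group G] [Finite G] (H O : Subgroup G) [hON : O.Normal]
    (hcop : (Nat.card O).Coprime (Nat.card H))
    (hF1 : ∀ h ∈ H, h ≠ 1 → ∀ x ∈ O, x * h = h * x → x ∈ Subgroup.centralizer (H : Set G))
    (hF2 : ¬ O ≤ Subgroup.centralizer (H : Set G))
    (h2 : ∀ P : Sylow 2 H, IsMulCommutative (P : Subgroup H))
    (p : ℕ) [hp : Fact p.Prime] (P : Sylow p H) : IsCyclic (P : Subgroup H) := by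
  have hU := uniq H O hcop hF1 hF2 p ((P : Subgroup H).map H.subtype)
    (Subgroup.map_subtype_le _) (P.isPGroup'.map _)
  have hE : Set.ncard {g : ↥(P : Subgroup H) | g ^ p = 1} ≤ p := by
    by_cases hex : ∃ a : ↥(P : Subgroup H), a ≠ 1 ∧ a ^ p = 1
    · obtain ⟨a, ha1, hap⟩ := hex
      have hoa : orderOf a = p := orderOf_eq_prime hap ha1
      have hsub : {g : ↥(P : Subgroup H) | g ^ p = 1} ⊆
          (Subgroup.zpowers a : Set ↥(P : Subgroup H)) := by
        intro g hg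
        by_cases hg1 : g = 1
        · rw [hg1]; exact Subgroup.one_mem _
        · have hog : orderOf g = p := orderOf_eq_prime hg hg1
          have h1 := hU ((a : H) : G) ⟨(a : H), a.2, rfl⟩ ((g : H) : G) ⟨(g : H), g.2, rfl⟩
            (by rw [Subgroup.orderOf_coe, Subgroup.orderOf_coe]; exact hoa)
            (by rw [Subgroup.orderOf_coe, Subgroup.orderOf_coe]; exact hog)
          obtain ⟨k, hk⟩ := Subgroup.mem_zpowers_iff.mp h1
          refine Subgroup.mem_zpowers_iff.mpr ⟨k, ?_⟩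
          apply Subtype.ext
          apply Subtype.ext
          rw [Subgroup.coe_zpow, Subgroup.coe_zpow]
          exact hk
      calc Set.ncard {g : ↥(P : Subgroup H) | g ^ p = 1}
          ≤ Set.ncard (Subgroup.zpowers a : Set ↥(P : Subgroup H)) :=
            Set.ncard_le_ncard hsub (Set.toFinite _)
        _ = Nat.card (Subgroup.zpowers a) := (Nat.card_coe_set_eq _).symm
        _ = p := by rw [Nat.card_zpowers, hoa]
    · push_neg at hex
      have hsub : {g : ↥(P : Subgroup H) | g ^ p = 1} ⊆ {1} := by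
        intro g hg
        by_contra hg1
        exact hex g hg1 hg
      calc Set.ncard {g : ↥(P : Subgroup H) | g ^ p = 1}
          ≤ Set.ncard ({1} : Set ↥(P : Subgroup H)) :=
            Set.ncard_le_ncard hsub (Set.finite_singleton _)
        _ = 1 := Set.ncard_singleton _
        _ ≤ p := hp.out.one_lt.le
  by_cases hp2 : p = 2
  · subst hp2
    exact Cfsg.Agent.Lib.Helper18.UniqueInvolution.isCyclic_of_comm 2 P.isPGroup'
      (fun x y => (h2 P).is_comm.comm x y) hE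
  · exact Cfsg.Agent.Lib.Helper18.UniqueInvolution.isCyclic_of_odd p hp2 _ _ rfl P.isPGroup' hE

theorem hall {G : Type*} [Group G] [Finite G] (H : Subgroup G)
    (hTI : Cfsg.IsTISubset (H : Set G))
    (hHall : (Nat.card H).Coprime (H.subgroupOf (Subgroup.normalizer (H : Set G))).index)
    (p : ℕ) [hp : Fact p.Prime] (hpH : p ∣ Nat.card H) (P : Sylow p H) :
    ¬ p ∣ ((P : Subgroup H).map H.subtype).index := by
  obtain ⟨S, hSdef⟩ : ∃ S : Subgroup G, S = (P : Subgroup H).map H.subtype := ⟨_, rfl⟩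
  rw [← hSdef]
  have hSH : S ≤ H := by rw [hSdef]; exact Subgroup.map_subtype_le _
  have hSP : S.subgroupOf H = (P : Subgroup H) := by
    rw [hSdef]; exact Subgroup.comap_map_eq_self_of_injective H.subtype_injective _
  obtain ⟨n, hn⟩ := IsPGroup.iff_card.mp P.isPGroup'
  have hcS : Nat.card S = p ^ n := by
    rw [hSdef, Subgroup.card_map_of_injective H.subtype_injective]; exact hn
  have hS1 : ∃ s ∈ S, s ≠ 1 := by
    have hPne : (P : Subgroup H) ≠ ⊥ := P.ne_bot_of_dvd_card hpH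
    obtain ⟨x, hx1⟩ := Subgroup.ne_bot_iff_exists_ne_one.mp hPne
    refine ⟨((x : H) : G), ?_, ?_⟩
    · rw [hSdef]; exact ⟨(x : H), x.2, rfl⟩
    · intro h
      apply hx1
      apply Subtype.ext
      apply Subtype.ext
      exact h
  have hNS : Subgroup.normalizer (S : Set G) ≤ Subgroup.normalizer (H : Set G) := by
    intro g hg
    obtain ⟨s, hs, hs1⟩ := hS1
    by_contra hgn
    exact hs1 (hTI g hgn s (hSH hs) (hSH ((Subgroup.mem_normalizer_iff.mp hg s).mp hs)))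
  have hmod := Sylow.card_quotient_normalizer_modEq_card_quotient (G := G) (p := p) (n := n)
    (H := S) hcS
  intro hdvd
  have h1 : p ∣ Nat.card (G ⧸ S) := by rw [← Subgroup.index_eq_card]; exact hdvd
  have h2 := (Nat.ModEq.dvd_iff hmod (dvd_refl p)).mpr h1
  have h3 : p ∣ S.relIndex (Subgroup.normalizer (S : Set G)) := by
    show p ∣ (S.subgroupOf (Subgroup.normalizer (S : Set G))).index
    rw [Subgroup.index_eq_card]; exact h2
  have h4 : S.relIndex (Subgroup.normalizer (S : Set G)) ∣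
      S.relIndex (Subgroup.normalizer (H : Set G)) :=
    Dvd.intro _ (Subgroup.relIndex_mul_relIndex S _ _ Subgroup.le_normalizer hNS)
  have h5 : S.relIndex (Subgroup.normalizer (H : Set G)) =
      S.relIndex H * H.relIndex (Subgroup.normalizer (H : Set G)) :=
    (Subgroup.relIndex_mul_relIndex S H _ hSH Subgroup.le_normalizer).symm
  have h6 : ¬ p ∣ S.relIndex H := by
    show ¬ p ∣ (S.subgroupOf H).index
    rw [hSP]; exact P.not_dvd_index
  have h7 : ¬ p ∣ H.relIndex (Subgroup.normalizer (H : Set G)) := by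
    intro h
    exact (Nat.Prime.coprime_iff_not_dvd hp.out).mp (Nat.Coprime.coprime_dvd_left hpH hHall) h
  have h8 : p ∣ S.relIndex (Subgroup.normalizer (H : Set G)) := dvd_trans h3 h4
  rw [h5] at h8
  rcases (Nat.Prime.dvd_mul hp.out).mp h8 with h | h
  · exact h6 h
  · exact h7 h

theorem hallH {G : Type*} [Group G] [Finite G] (H : Subgroup G)
    (hTI : Cfsg.IsTISubset (H : Set G))
    (hHall : (Nat.card H).Coprime (H.subgroupOf (Subgroup.normalizer (H : Set G))).index)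
    (q : ℕ) (hq : q.Prime) (hqH : q ∣ Nat.card H) : ¬ q ∣ H.index := by
  haveI : Fact q.Prime := ⟨hq⟩
  obtain ⟨P⟩ : Nonempty (Sylow q H) := inferInstance
  intro hqi
  apply hall H hTI hHall q hqH P
  rw [← Subgroup.relIndex_mul_index (Subgroup.map_subtype_le (P : Subgroup H))]
  exact dvd_mul_of_dvd_right hqi _

theorem exists_O {G : Type*} [Group G] [Finite G] (H : Subgroup G) :
    ∃ O : Subgroup G, O.Normal ∧ (Nat.card O).Coprime (Nat.card H) ∧
      ∀ K : Subgroup G, K.Normal → (Nat.card K).Coprime (Nat.card H) → K ≤ O := by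
  haveI : Nonempty {K : Subgroup G // K.Normal ∧ (Nat.card K).Coprime (Nat.card H)} :=
    ⟨⟨⊥, inferInstance, by rw [Subgroup.card_bot]; exact Nat.coprime_one_left _⟩⟩
  obtain ⟨⟨O, hOn, hOc⟩, hmax⟩ := Finite.exists_max
    (fun K : {K : Subgroup G // K.Normal ∧ (Nat.card K).Coprime (Nat.card H)} => Nat.card K.1)
  refine ⟨O, hOn, hOc, ?_⟩
  intro K hKn hKc
  haveI := hOn
  haveI := hKn
  have hsupn : (O ⊔ K).Normal := inferInstance
  have hcard : Nat.card ↥(O ⊔ K) = Nat.card O * O.relIndex K := by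
    have h1 := Subgroup.relIndex_mul_relIndex ⊥ O (O ⊔ K) bot_le le_sup_left
    rw [Subgroup.relIndex_bot_left, Subgroup.relIndex_bot_left, Subgroup.relIndex_sup_left] at h1
    exact h1.symm
  have hsupc : (Nat.card ↥(O ⊔ K)).Coprime (Nat.card H) := by
    rw [hcard]
    exact Nat.Coprime.mul_left hOc
      (Nat.Coprime.coprime_dvd_left (Subgroup.relIndex_dvd_card O K) hKc)
  have h2 : Nat.card ↥(O ⊔ K) ≤ Nat.card O := hmax ⟨O ⊔ K, hsupn, hsupc⟩
  have h3 : O = O ⊔ K := Subgroup.eq_of_le_of_card_ge le_sup_left h2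
  rw [h3]; exact le_sup_right

theorem sup_top {G : Type*} [Group G] [Finite G] (H : Subgroup G)
    (hTI : Cfsg.IsTISubset (H : Set G)) (hnn : ¬ H.Normal)
    (hHall : (Nat.card H).Coprime (H.subgroupOf (Subgroup.normalizer (H : Set G))).index)
    (hsep : ∃ (n : ℕ) (M : Fin (n + 1) → Subgroup G), M 0 = ⊥ ∧ M (Fin.last n) = ⊤ ∧
      Monotone M ∧ (∀ i, (M i).Normal) ∧
      ∀ i : Fin n, (∀ q : ℕ, q.Prime → q ∣ (M i.castSucc).relIndex (M i.succ) → q ∣ Nat.card H) ∨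
        ((M i.castSucc).relIndex (M i.succ)).Coprime (Nat.card H))
    (O : Subgroup G) [O.Normal] (hOc : (Nat.card O).Coprime (Nat.card H))
    (hOmax : ∀ K : Subgroup G, K.Normal → (Nat.card K).Coprime (Nat.card H) → K ≤ O) :
    O ⊔ Subgroup.normalizer (H : Set G) = ⊤ := by
  obtain ⟨n, M, hM0, hMn, hmono, hMnorm, hfac⟩ := hsep
  have hH1 : Nat.card H ≠ 1 := by
    intro h
    apply hnn
    have h1 : H = ⊥ := Subgroup.card_eq_one.mp h
    rw [h1]; infer_instance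
  have hlast : ¬ M (Fin.last n) ≤ O := by
    rw [hMn]
    intro h
    have hO : O = ⊤ := top_le_iff.mp h
    have h1 : Nat.card H ∣ Nat.card O := by
      rw [hO, Subgroup.card_top]; exact Subgroup.card_subgroup_dvd_card H
    exact hH1 (Nat.Coprime.eq_one_of_dvd hOc.symm h1)
  obtain ⟨i, hi1, hi2⟩ : ∃ i : Fin n, M i.castSucc ≤ O ∧ ¬ M i.succ ≤ O := by
    by_contra hcon
    push_neg at hcon
    exact hlast (Fin.induction (motive := fun j => M j ≤ O)
      (show M 0 ≤ O by rw [hM0]; exact bot_le) (fun i hi => hcon i hi) (Fin.last n))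
  obtain ⟨L, hLdef⟩ : ∃ L : Subgroup G, L = M i.castSucc := ⟨_, rfl⟩
  obtain ⟨K, hKdef⟩ : ∃ K : Subgroup G, K = M i.succ := ⟨_, rfl⟩
  rw [← hLdef] at hi1
  rw [← hKdef] at hi2
  have hLK : L ≤ K := by
    rw [hLdef, hKdef]; exact hmono (Fin.castSucc_lt_succ (i := i)).le
  haveI hKn : K.Normal := by rw [hKdef]; exact hMnorm _
  have hcardK : Nat.card L * L.relIndex K = Nat.card K := by
    have h1 := Subgroup.relIndex_mul_relIndex ⊥ L K bot_le hLK
    rwa [Subgroup.relIndex_bot_left, Subgroup.relIndex_bot_left] at h1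
  have hLc : (Nat.card L).Coprime (Nat.card H) :=
    Nat.Coprime.coprime_dvd_left (Subgroup.card_dvd_of_le hi1) hOc
  have hfac' := hfac i
  rw [← hLdef, ← hKdef] at hfac'
  have hfacπ : ∀ q : ℕ, q.Prime → q ∣ L.relIndex K → q ∣ Nat.card H := by
    rcases hfac' with h | h
    · exact h
    · exfalso
      apply hi2
      apply hOmax K hKn
      rw [← hcardK]
      exact Nat.Coprime.mul_left hLc h
  have hKOH : K ≤ O ⊔ H := by
    obtain ⟨J, hJdef⟩ : ∃ J : Subgroup G, J = L ⊔ (H ⊓ K) := ⟨_, rfl⟩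
    have hLJ : L ≤ J := by rw [hJdef]; exact le_sup_left
    have hHKJ : H ⊓ K ≤ J := by rw [hJdef]; exact le_sup_right
    have hJK : J ≤ K := by rw [hJdef]; exact sup_le hLK inf_le_right
    have hJ1 : J.relIndex K = 1 := by
      by_contra hne
      obtain ⟨q, hq, hqd⟩ := Nat.exists_prime_and_dvd hne
      have h1 : q ∣ L.relIndex K := by
        rw [← Subgroup.relIndex_mul_relIndex L J K hLJ hJK]; exact dvd_mul_of_dvd_right hqd _
      have h2 : q ∣ H.relIndex K := by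
        rw [← Subgroup.inf_relIndex_right H K,
          ← Subgroup.relIndex_mul_relIndex (H ⊓ K) J K hHKJ hJK]
        exact dvd_mul_of_dvd_right hqd _
      exact hallH H hTI hHall q hq (hfacπ q hq h1) (dvd_trans h2 (relIndex_dvd K H))
    have hKJ : K ≤ J := Subgroup.relIndex_eq_one.mp hJ1
    refine le_trans hKJ ?_
    rw [hJdef]
    exact sup_le (le_trans hi1 le_sup_left) (le_trans inf_le_left le_sup_right)
  have hKc : ¬ (Nat.card K).Coprime (Nat.card H) := fun h => hi2 (hOmax K hKn h)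
  obtain ⟨p, hp, hpK, hpH⟩ := Nat.Prime.not_coprime_iff_dvd.mp hKc
  haveI : Fact p.Prime := ⟨hp⟩
  obtain ⟨P⟩ : Nonempty (Sylow p H) := inferInstance
  obtain ⟨S, hSdef⟩ : ∃ S : Subgroup G, S = (P : Subgroup H).map H.subtype := ⟨_, rfl⟩
  have hSH : S ≤ H := by rw [hSdef]; exact Subgroup.map_subtype_le _
  have hSidx : ¬ p ∣ S.index := by rw [hSdef]; exact hall H hTI hHall p hpH P
  have hSp : IsPGroup p S := by rw [hSdef]; exact P.isPGroup'.map _
  have hTidx : ¬ p ∣ (S ⊓ K).relIndex K := by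
    rw [Subgroup.inf_relIndex_right]
    exact fun h => hSidx (dvd_trans h (relIndex_dvd K S))
  have hTp : IsPGroup p ((S ⊓ K).subgroupOf K) := (hSp.to_le inf_le_left).comap_subtype
  obtain ⟨PK, hPKdef⟩ : ∃ PK : Sylow p K, (PK : Subgroup K) = (S ⊓ K).subgroupOf K :=
    ⟨hTp.toSylow hTidx, rfl⟩
  have hFr := Sylow.normalizer_sup_eq_top PK
  have hPKmap : (PK : Subgroup K).map K.subtype = S ⊓ K := by
    rw [hPKdef]; exact Subgroup.map_subgroupOf_eq_of_le inf_le_right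
  rw [hPKmap] at hFr
  have hT1 : ∃ s ∈ S ⊓ K, s ≠ 1 := by
    by_contra hcon
    push_neg at hcon
    have hbot : S ⊓ K = ⊥ := (Subgroup.eq_bot_iff_forall _).mpr hcon
    rw [hbot, Subgroup.relIndex_bot_left] at hTidx
    exact hTidx hpK
  obtain ⟨s, hs, hs1⟩ := hT1
  have hNle : Subgroup.normalizer ((S ⊓ K : Subgroup G) : Set G) ≤
      Subgroup.normalizer (H : Set G) := by
    intro g hg
    by_contra hgn
    exact hs1 (hTI g hgn s (hSH (Subgroup.mem_inf.mp hs).1)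
      (hSH (Subgroup.mem_inf.mp ((Subgroup.mem_normalizer_iff.mp hg s).mp hs)).1))
  rw [eq_top_iff, ← hFr]
  exact sup_le (le_trans hNle le_sup_right)
    (le_trans hKOH (sup_le le_sup_left (le_trans Subgroup.le_normalizer le_sup_right)))

theorem result {G : Type*} [Group G] [Finite G] (H : Subgroup G)
    (hTI : Cfsg.IsTISubset (H : Set G)) (hnn : ¬ H.Normal)
    (hHall : (Nat.card H).Coprime (H.subgroupOf (Subgroup.normalizer (H : Set G))).index)
    (hsep : ∃ (n : ℕ) (M : Fin (n + 1) → Subgroup G), M 0 = ⊥ ∧ M (Fin.last n) = ⊤ ∧ Monotone M ∧ (∀ i, (M i).Normal) ∧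
      ∀ i : Fin n, (∀ q : ℕ, q.Prime → q ∣ (M i.castSucc).relIndex (M i.succ) → q ∣ Nat.card H) ∨
        ((M i.castSucc).relIndex (M i.succ)).Coprime (Nat.card H))
    (h2 : ∀ P : Sylow 2 H, IsMulCommutative (P : Subgroup H))
    (Q : Subgroup G) (hQ : Q ≤ Subgroup.normalizer (H : Set G)) (hQH : Q ⊓ H = ⊥) (hQH' : Q ⊔ H = Subgroup.normalizer (H : Set G)) :
    (Nat.card ↥(H ⊓ Subgroup.centralizer (Q : Set G))).Coprime (H ⊓ Subgroup.centralizer (Q : Set G)).index ∧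
    ∃ N : Subgroup G, N.Normal ∧ N.IsComplement' (H ⊓ Subgroup.centralizer (Q : Set G)) := by
  classical
  obtain ⟨O, hOn, hOc, hOmax⟩ := exists_O H
  haveI := hOn
  have htop := sup_top H hTI hnn hHall hsep O hOc hOmax
  have hOH : O ⊓ H = ⊥ := disjoint_iff.mp (Subgroup.disjoint_of_coprime_natCard hOc)
  have hF1 : ∀ h ∈ H, h ≠ 1 → ∀ x ∈ O, x * h = h * x →
      x ∈ Subgroup.centralizer (H : Set G) := by
    intro h hh h1 x hx hxh
    have hxN : x ∈ Subgroup.normalizer (H : Set G) := by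
      by_contra hxn
      apply h1
      apply hTI x hxn h hh
      have h0 : x * h * x⁻¹ = h := by rw [hxh]; group
      rw [h0]; exact hh
    rw [Subgroup.mem_centralizer_iff]
    intro h' hh'
    have h3 : x * h' * x⁻¹ * h'⁻¹ ∈ O ⊓ H := by
      refine Subgroup.mem_inf.mpr ⟨?_, H.mul_mem ((Subgroup.mem_normalizer_iff.mp hxN h').mp hh')
        (H.inv_mem hh')⟩
      have h0 : x * h' * x⁻¹ * h'⁻¹ = x * (h' * x⁻¹ * h'⁻¹) := by group
      rw [h0]
      exact O.mul_mem hx (hOn.conj_mem _ (O.inv_mem hx) h')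
    rw [hOH, Subgroup.mem_bot] at h3
    calc h' * x = (x * h' * x⁻¹ * h'⁻¹)⁻¹ * (x * h') := by group
      _ = x * h' := by rw [h3]; group
  have hF2 : ¬ O ≤ Subgroup.centralizer (H : Set G) := by
    intro h
    apply hnn
    rw [← Subgroup.normalizer_eq_top_iff, eq_top_iff, ← htop]
    exact sup_le (le_trans h (Subgroup.centralizer_le_normalizer _)) le_rfl
  have hcyc : ∀ (p : ℕ) [Fact p.Prime] (P : Sylow p H), IsCyclic (P : Subgroup H) :=
    fun p _ P => sylow_cyclic H O hOc hF1 hF2 h2 p P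
  have hHallG : (Nat.card H).Coprime H.index :=
    Nat.coprime_of_dvd (fun q hq hqH => hallH H hTI hHall q hq hqH)
  letI act : MulDistribMulAction ↥Q ↥H := MulDistribMulAction.compHom ↥H (Subgroup.inclusion hQ)
  have hsm : ∀ (q : Q) (h : H), ((q • h : H) : G) = (q : G) * (h : G) * (q : G)⁻¹ :=
    fun q h => rfl
  have hQc : (Nat.card Q).Coprime (Nat.card H) := by
    have hinj : Function.Injective ((QuotientGroup.mk'
        (H.subgroupOf (Subgroup.normalizer (H : Set G)))).comp (Subgroup.inclusion hQ)) := by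
      rw [injective_iff_map_eq_one]
      intro q hq
      have h1 : Subgroup.inclusion hQ q ∈ H.subgroupOf (Subgroup.normalizer (H : Set G)) := by
        rw [← QuotientGroup.ker_mk' (H.subgroupOf (Subgroup.normalizer (H : Set G))),
          MonoidHom.mem_ker]
        exact hq
      have h2 : (q : G) ∈ Q ⊓ H := Subgroup.mem_inf.mpr ⟨q.2, Subgroup.mem_subgroupOf.mp h1⟩
      rw [hQH, Subgroup.mem_bot] at h2
      exact Subtype.ext h2
    have hdvd := Subgroup.card_dvd_of_injective _ hinj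
    rw [← Subgroup.index_eq_card] at hdvd
    exact (Nat.Coprime.coprime_dvd_right hdvd hHall).symm
  obtain ⟨hc1, -, hKn, hKD, hKsup⟩ := Cfsg.Agent.S4117.result (G := ↥H) (A := ↥Q) hQc hcyc
  obtain ⟨K', hK'def⟩ : ∃ K' : Subgroup H,
      K' = Subgroup.closure {y : H | ∃ (a : Q) (g : H), y = g⁻¹ * a • g} := ⟨_, rfl⟩
  rw [← hK'def] at hKn hKD hKsup
  haveI := hKn
  obtain ⟨D, hDdef⟩ : ∃ D : Subgroup G, D = H ⊓ Subgroup.centralizer (Q : Set G) := ⟨_, rfl⟩
  rw [← hDdef]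
  have hDH : D ≤ H := by rw [hDdef]; exact inf_le_left
  have hfix : ∀ h : H, h ∈ MulAction.fixedPoints Q H ↔
      (h : G) ∈ Subgroup.centralizer (Q : Set G) := by
    intro h
    constructor
    · intro hf
      rw [Subgroup.mem_centralizer_iff]
      intro q hq
      have h1 := congrArg Subtype.val (hf ⟨q, hq⟩)
      rw [hsm] at h1
      exact mul_inv_eq_iff_eq_mul.mp h1
    · intro hc q
      apply Subtype.ext
      rw [hsm]
      exact mul_inv_eq_iff_eq_mul.mpr (Subgroup.mem_centralizer_iff.mp hc q q.2)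
  have hFD : MulAction.fixedPoints Q H = ((D.subgroupOf H : Subgroup H) : Set H) := by
    ext h
    rw [hfix, SetLike.mem_coe, Subgroup.mem_subgroupOf, hDdef, Subgroup.mem_inf]
    exact ⟨fun hc => ⟨h.2, hc⟩, fun hc => hc.2⟩
  rw [hFD] at hKD hc1 hKsup
  rw [Subgroup.closure_eq] at hKsup
  have hcardD' : Nat.card (D.subgroupOf H) = Nat.card D :=
    Nat.card_congr (Subgroup.subgroupOfEquivOfLe hDH).toEquiv
  have hc2 : (Nat.card D).Coprime (D.relIndex H) := by
    have h1 : Nat.card H / Nat.card (D.subgroupOf H) = (D.subgroupOf H).index :=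
      Nat.div_eq_of_eq_mul_right Nat.card_pos (Subgroup.card_mul_index (D.subgroupOf H)).symm
    have h2' : (Nat.card (D.subgroupOf H)).Coprime (Nat.card H / Nat.card (D.subgroupOf H)) := hc1
    rw [h1, hcardD'] at h2'
    exact h2'
  have hinf' : K' ⊓ D.subgroupOf H = ⊥ := by
    rw [Subgroup.eq_bot_iff_forall]
    intro x hx
    have h1 : x ∈ ((K' : Set H) ∩ ((D.subgroupOf H : Subgroup H) : Set H)) :=
      ⟨(Subgroup.mem_inf.mp hx).1, (Subgroup.mem_inf.mp hx).2⟩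
    rw [hKD] at h1
    exact h1
  obtain ⟨K0, hK0def⟩ : ∃ K0 : Subgroup G, K0 = K'.map H.subtype := ⟨_, rfl⟩
  have hK0mem : ∀ k : H, k ∈ K' → (k : G) ∈ K0 := by
    intro k hk; rw [hK0def]; exact ⟨k, hk, rfl⟩
  have hcardK0 : Nat.card K0 = Nat.card K' := by
    rw [hK0def]; exact Subgroup.card_map_of_injective H.subtype_injective
  have hK'idx : Nat.card K' ∣ (D.subgroupOf H).index := by
    have h1 : (D.subgroupOf H).relIndex K' = Nat.card K' := by
      rw [← Subgroup.inf_relIndex_right, inf_comm, hinf', Subgroup.relIndex_bot_left]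
    rw [← h1]
    exact relIndex_dvd K' (D.subgroupOf H)
  have hK0D : (Nat.card K0).Coprime (Nat.card D) := by
    rw [hcardK0]
    exact (Nat.Coprime.coprime_dvd_right hK'idx hc2).symm
  have hKQ : ∀ (q : Q) (k : H), k ∈ K' → q • k ∈ K' := by
    intro q k hk
    rw [hK'def] at hk ⊢
    refine Subgroup.closure_induction
      (p := fun k _ => q • k ∈ Subgroup.closure {y : H | ∃ (a : Q) (g : H), y = g⁻¹ * a • g})
      ?_ ?_ ?_ ?_ hk
    · rintro y ⟨a, g, rfl⟩
      have h0 : q * a * q⁻¹ * q = q * a := by group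
      have h1 : q • (g⁻¹ * a • g) = (q • g)⁻¹ * (q * a * q⁻¹) • (q • g) := by
        rw [smul_mul', smul_inv', ← mul_smul, ← mul_smul, h0]
      show q • (g⁻¹ * a • g) ∈ _
      rw [h1]
      exact Subgroup.subset_closure ⟨_, _, rfl⟩
    · show q • (1 : H) ∈ _
      rw [smul_one]; exact Subgroup.one_mem _
    · intro x y _ _ hx hy
      show q • (x * y) ∈ _
      rw [smul_mul']; exact Subgroup.mul_mem _ hx hy
    · intro x _ hx
      show q • x⁻¹ ∈ _
      rw [smul_inv']; exact Subgroup.inv_mem _ hx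
  have hK0H' : ∀ h ∈ H, ∀ x ∈ K0, h * x * h⁻¹ ∈ K0 := by
    intro h hh x hx
    rw [hK0def] at hx
    obtain ⟨k, hk, rfl⟩ := hx
    exact hK0mem (⟨h, hh⟩ * k * ⟨h, hh⟩⁻¹) (hKn.conj_mem k hk ⟨h, hh⟩)
  have hK0Q : ∀ q ∈ Q, ∀ x ∈ K0, q * x * q⁻¹ ∈ K0 := by
    intro q hq x hx
    rw [hK0def] at hx
    obtain ⟨k, hk, rfl⟩ := hx
    exact hK0mem ((⟨q, hq⟩ : Q) • k) (hKQ ⟨q, hq⟩ k hk)
  obtain ⟨M1, hM1def⟩ : ∃ M1 : Subgroup G, M1 = O ⊔ K0 := ⟨_, rfl⟩
  have hOM1 : O ≤ M1 := by rw [hM1def]; exact le_sup_left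
  have hK0M1 : K0 ≤ M1 := by rw [hM1def]; exact le_sup_right
  have hM1H : ∀ h ∈ H, ∀ x ∈ M1, h * x * h⁻¹ ∈ M1 := by
    intro h hh x hx
    rw [hM1def] at hx
    exact conj_sup O K0 M1 h (fun x hx => hOM1 (hOn.conj_mem x hx h))
      (fun x hx => hK0M1 (hK0H' h hh x hx)) x hx
  have hM1Q : ∀ q ∈ Q, ∀ x ∈ M1, q * x * q⁻¹ ∈ M1 := by
    intro q hq x hx
    rw [hM1def] at hx
    exact conj_sup O K0 M1 q (fun x hx => hOM1 (hOn.conj_mem x hx q))
      (fun x hx => hK0M1 (hK0Q q hq x hx)) x hx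
  have htop' : O ⊔ (Q ⊔ H) = ⊤ := by rw [hQH']; exact htop
  haveI hM1n : M1.Normal := by
    rw [← Subgroup.normalizer_eq_top_iff, eq_top_iff, ← htop']
    exact sup_le (le_trans hOM1 Subgroup.le_normalizer)
      (sup_le (le_norm M1 Q hM1Q) (le_norm M1 H hM1H))
  obtain ⟨Nf, hNfdef⟩ : ∃ Nf : Subgroup G, Nf = M1 ⊔ Q := ⟨_, rfl⟩
  have hM1Nf : M1 ≤ Nf := by rw [hNfdef]; exact le_sup_left
  have hQNf : Q ≤ Nf := by rw [hNfdef]; exact le_sup_right
  have hNfH : ∀ h ∈ H, ∀ x ∈ Nf, h * x * h⁻¹ ∈ Nf := by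
    intro h hh x hx
    rw [hNfdef] at hx
    refine conj_sup M1 Q Nf h (fun x hx => hM1Nf (hM1n.conj_mem x hx h)) ?_ x hx
    intro q hq
    have hk : ((⟨h, hh⟩ : H)⁻¹⁻¹ * (⟨q, hq⟩ : Q)⁻¹ • (⟨h, hh⟩ : H)⁻¹)⁻¹ ∈ K' := by
      rw [hK'def]
      exact Subgroup.inv_mem _ (Subgroup.subset_closure ⟨(⟨q, hq⟩ : Q)⁻¹, (⟨h, hh⟩ : H)⁻¹, rfl⟩)
    have hk2 : q⁻¹ * h * q * h⁻¹ ∈ K0 := by
      have h1 := hK0mem _ hk
      have h2 : q⁻¹ * h * q * h⁻¹ = (h⁻¹⁻¹ * (q⁻¹ * h⁻¹ * q⁻¹⁻¹))⁻¹ := by group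
      rw [h2]
      exact h1
    have h3 : h * q * h⁻¹ = q * (q⁻¹ * h * q * h⁻¹) := by group
    rw [h3]
    exact Nf.mul_mem (hQNf hq) (hM1Nf (hK0M1 hk2))
  haveI hNfn : Nf.Normal := by
    rw [← Subgroup.normalizer_eq_top_iff, eq_top_iff, ← htop']
    exact sup_le (le_trans (le_trans hOM1 hM1Nf) Subgroup.le_normalizer)
      (sup_le (le_trans hQNf Subgroup.le_normalizer) (le_norm Nf H hNfH))
  have hOD : (Nat.card O).Coprime (Nat.card D) :=
    Nat.Coprime.coprime_dvd_right (Subgroup.card_dvd_of_le hDH) hOc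
  have hQD : (Nat.card Q).Coprime (Nat.card D) :=
    Nat.Coprime.coprime_dvd_right (Subgroup.card_dvd_of_le hDH) hQc
  have hcardM1 : Nat.card M1 = Nat.card O * O.relIndex K0 := by
    have h1 := Subgroup.relIndex_mul_relIndex ⊥ O (O ⊔ K0) bot_le le_sup_left
    rw [Subgroup.relIndex_bot_left, Subgroup.relIndex_bot_left, Subgroup.relIndex_sup_left] at h1
    rw [hM1def]; exact h1.symm
  have hM1D : (Nat.card M1).Coprime (Nat.card D) := by
    rw [hcardM1]
    exact Nat.Coprime.mul_left hOD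
      (Nat.Coprime.coprime_dvd_left (Subgroup.relIndex_dvd_card O K0) hK0D)
  have hcardNf : Nat.card Nf = Nat.card M1 * M1.relIndex Q := by
    have h1 := Subgroup.relIndex_mul_relIndex ⊥ M1 (M1 ⊔ Q) bot_le le_sup_left
    rw [Subgroup.relIndex_bot_left, Subgroup.relIndex_bot_left, Subgroup.relIndex_sup_left] at h1
    rw [hNfdef]; exact h1.symm
  have hNfD : (Nat.card Nf).Coprime (Nat.card D) := by
    rw [hcardNf]
    exact Nat.Coprime.mul_left hM1D
      (Nat.Coprime.coprime_dvd_left (Subgroup.relIndex_dvd_card M1 Q) hQD)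
  have hK0D' : K0 ⊔ D = H := by
    have h1 : (K' ⊔ D.subgroupOf H).map H.subtype = (⊤ : Subgroup H).map H.subtype := by
      rw [hKsup]
    rw [Subgroup.map_sup, ← hK0def, Subgroup.map_subgroupOf_eq_of_le hDH,
      ← MonoidHom.range_eq_map, Subgroup.range_subtype] at h1
    exact h1
  have hsup : Nf ⊔ D = ⊤ := by
    rw [eq_top_iff, ← htop']
    refine sup_le (le_trans (le_trans hOM1 hM1Nf) le_sup_left)
      (sup_le (le_trans hQNf le_sup_left) ?_)
    rw [← hK0D']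
    exact sup_le (le_trans (le_trans hK0M1 hM1Nf) le_sup_left) le_sup_right
  have hdisj : Disjoint Nf D := Subgroup.disjoint_of_coprime_natCard hNfD
  have hcompl : Nf.IsComplement' D := by
    apply Subgroup.isComplement'_of_disjoint_and_mul_eq_univ hdisj
    rw [← Subgroup.normal_mul, hsup]
    rfl
  refine ⟨?_, Nf, hNfn, hcompl⟩
  rw [← Subgroup.relIndex_mul_index hDH]
  exact Nat.Coprime.mul_right hc2
    (Nat.Coprime.coprime_dvd_left (Subgroup.card_dvd_of_le hDH) hHallG)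

end Cfsg.Agent.S4151
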