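import Cfsg.Statements.S0739
import Mathlib
import Cfsg.Agent.S0034
import Cfsg.Agent.S0035
import Cfsg.Agent.S4296
import Cfsg.Agent.S4151
import Cfsg.Agent.S0740

set_option autoImplicit false
open Cfsg

namespace Cfsg.Agent.S0739

open MulAction

section basics

variable {G Ω : Type*} [Group G] [MulAction G Ω]

/-- the two point stabiliser -/
abbrev HH (G : Type*) {Ω : Type*} [Group G] [MulAction G Ω] (a b : Ω) : Subgroup G :=
  stabilizer G a ⊓ stabilizer G b

theorem mem_HH {a b : Ω} {g : G} : g ∈ HH G a b ↔ g • a = a ∧ g • b = b := by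
  rw [Subgroup.mem_inf, mem_stabilizer_iff, mem_stabilizer_iff]

/-- only the identity fixes three points -/
def Three (G Ω : Type*) [Group G] [MulAction G Ω] : Prop :=
  ∀ g : G, ∀ x y z : Ω, x ≠ y → y ≠ z → x ≠ z → g • x = x → g • y = y → g • z = z → g = 1

theorem fix_only {a b : Ω} (hab : a ≠ b) (h3 : Three G Ω) {h : G} (hh : h ∈ HH G a b)
    (h1 : h ≠ 1) {c : Ω} (hc : h • c = c) : c = a ∨ c = b := by
  by_contra hcon
  push Not at hcon
  rw [mem_HH] at hh
  exact h1 (h3 h a b c hab (Ne.symm hcon.2) (Ne.symm hcon.1) hh.1 hh.2 hc)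

theorem perm_of_conj {a b : Ω} (hab : a ≠ b) (h3 : Three G Ω) {h g : G} (hh : h ∈ HH G a b)
    (h1 : h ≠ 1) (hg : g * h * g⁻¹ ∈ HH G a b) :
    (g • a = a ∧ g • b = b) ∨ (g • a = b ∧ g • b = a) := by
  have hne : g * h * g⁻¹ ≠ 1 := by
    intro e
    apply h1
    have : h = g⁻¹ * (g * h * g⁻¹) * g := by group
    rw [this, e]; group
  have hh' := mem_HH.1 hh
  have e1 : (g * h * g⁻¹) • (g • a) = g • a := by
    rw [mul_smul, mul_smul, inv_smul_smul, hh'.1]
  have e2 : (g * h * g⁻¹) • (g • b) = g • b := by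
    rw [mul_smul, mul_smul, inv_smul_smul, hh'.2]
  have hinj : g • a ≠ g • b := fun e => hab (MulAction.injective g e)
  rcases fix_only hab h3 hg hne e1 with ha | ha <;> rcases fix_only hab h3 hg hne e2 with hb | hb
  · exact absurd (ha.trans hb.symm) hinj
  · exact Or.inl ⟨ha, hb⟩
  · exact Or.inr ⟨ha, hb⟩
  · exact absurd (ha.trans hb.symm) hinj

theorem swap_conj_mem {a b : Ω} {s h : G} (sa : s • a = b) (sb : s • b = a)
    (hh : h ∈ HH G a b) : s * h * s⁻¹ ∈ HH G a b := by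
  have hh' := mem_HH.1 hh
  have ia : s⁻¹ • a = b := by rw [inv_smul_eq_iff, sb]
  have ib : s⁻¹ • b = a := by rw [inv_smul_eq_iff, sa]
  rw [mem_HH]
  constructor
  · rw [mul_smul, mul_smul, ia, hh'.2, sb]
  · rw [mul_smul, mul_smul, ib, hh'.1, sa]

theorem swap_pow {a b : Ω} {s : G} (sa : s • a = b) (sb : s • b = a) (n : ℕ) :
    (s ^ (2 * n)) • a = a ∧ (s ^ (2 * n)) • b = b ∧ (s ^ (2 * n + 1)) • a = b ∧
      (s ^ (2 * n + 1)) • b = a := by
  induction n with
  | zero => simp [sa, sb]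
  | succ n ih =>
    obtain ⟨i1, i2, i3, i4⟩ := ih
    have e1 : s ^ (2 * (n + 1)) = s * s ^ (2 * n + 1) := by
      rw [← pow_succ']; rfl
    have e2 : s ^ (2 * (n + 1) + 1) = s * s * s ^ (2 * n + 1) := by
      rw [mul_assoc, ← pow_succ', ← pow_succ']; rfl
    refine ⟨?_, ?_, ?_, ?_⟩
    · rw [e1, mul_smul, i3, sb]
    · rw [e1, mul_smul, i4, sa]
    · rw [e2, mul_smul, mul_smul, i3, sb, sa]
    · rw [e2, mul_smul, mul_smul, i4, sa, sb]

theorem fix_of_odd {a b : Ω} (hab : a ≠ b) {g : G} (hodd : Odd (orderOf g))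
    (hg : (g • a = a ∧ g • b = b) ∨ (g • a = b ∧ g • b = a)) : g ∈ HH G a b := by
  rcases hg with hg | hg
  · exact mem_HH.2 hg
  · exfalso
    obtain ⟨k, hk⟩ := hodd
    have := (swap_pow hg.1 hg.2 k).2.2.1
    rw [← hk, pow_orderOf_eq_one, one_smul] at this
    exact hab this

theorem mem_of_odd_conj {a b : Ω} (hab : a ≠ b) (h3 : Three G Ω) {h g : G}
    (hh : h ∈ HH G a b) (h1 : h ≠ 1) (hg : g * h * g⁻¹ ∈ HH G a b) (hodd : Odd (orderOf g)) :
    g ∈ HH G a b :=
  fix_of_odd hab hodd (perm_of_conj hab h3 hh h1 hg)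

theorem odd_order_of_pgroup {r : ℕ} (hr : r.Prime) (hr2 : r ≠ 2) {Q : Subgroup G}
    (hQ : IsPGroup r Q) {x : G} (hx : x ∈ Q) : Odd (orderOf x) := by
  obtain ⟨k, hk⟩ := hQ ⟨x, hx⟩
  have h1 : x ^ r ^ k = 1 := by simpa using congrArg Subtype.val hk
  exact Odd.of_dvd_nat ((hr.odd_of_ne_two hr2).pow) (orderOf_dvd_of_pow_eq_one h1)

theorem cyc_of_le {a b : Ω} [IsZGroup (HH G a b)] {r : ℕ} [Fact r.Prime] {Q : Subgroup G}
    (hQ : Q ≤ HH G a b) (hQr : IsPGroup r Q) : IsCyclic Q := by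
  have h1 : IsPGroup r (Q.subgroupOf (HH G a b)) := hQr.comap_subtype
  haveI := h1.isCyclic_of_isZGroup
  exact isCyclic_of_injective (Subgroup.subgroupOfEquivOfLe hQ).symm.toMonoidHom
    (MulEquiv.injective _)

theorem zgroup [Finite G] {a b : Ω} (hab : a ≠ b) (h3 : Three G Ω)
    (hne : HH G a b ≠ ⊥) (hmove : ∃ x : G, x • a = a ∧ x • b ≠ b)
    (hodd : Odd (Nat.card (HH G a b))) : IsZGroup (HH G a b) := by
  classical
  let X := stabilizer G a
  let H' : Subgroup X := (HH G a b).subgroupOf X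
  have hmemH' : ∀ x : X, x ∈ H' ↔ (x : G) • b = b := by
    intro x
    rw [Subgroup.mem_subgroupOf, mem_HH]
    constructor
    · exact fun h => h.2
    · exact fun h => ⟨x.2, h⟩
  have hF : Cfsg.IsFrobeniusComplement H' := by
    refine ⟨?_, ?_, ?_⟩
    · intro hbot
      apply hne
      rw [eq_bot_iff]
      intro g hg
      have hgX : g ∈ X := (mem_HH.1 hg).1
      have : (⟨g, hgX⟩ : X) ∈ H' := (hmemH' _).2 (mem_HH.1 hg).2
      rw [hbot, Subgroup.mem_bot] at this
      rw [Subgroup.mem_bot]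
      exact congrArg Subtype.val this
    · intro htop
      obtain ⟨x, xa, xb⟩ := hmove
      have : (⟨x, xa⟩ : X) ∈ H' := by rw [htop]; trivial
      exact xb ((hmemH' _).1 this)
    · intro g hg
      rw [eq_bot_iff]
      intro x hx
      rw [Subgroup.mem_bot]
      obtain ⟨hx1, hx2⟩ := Subgroup.mem_inf.1 hx
      rw [Cfsg.Agent.S0034.mem_conj] at hx2
      have hgb : (g : G) • b ≠ b := fun e => hg ((hmemH' g).2 e)
      have hga : (g : G) • a = a := g.2
      have e1 : (x : G) • b = b := (hmemH' x).1 hx1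
      have e2 : ((g⁻¹ * x * g : X) : G) • b = b := (hmemH' _).1 hx2
      have e3 : (x : G) • ((g : G) • b) = (g : G) • b := by
        have : ((g⁻¹ * x * g : X) : G) = (g : G)⁻¹ * (x : G) * (g : G) := by simp
        rw [this, mul_smul, mul_smul, inv_smul_eq_iff] at e2
        exact e2
      have hgba : (g : G) • b ≠ a := by
        intro e
        rw [← hga] at e
        exact hab (MulAction.injective (g : G) e).symm
      have := h3 (x : G) a b ((g : G) • b) hab (Ne.symm hgb) (Ne.symm hgba) x.2 e1 e3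
      exact Subtype.ext this
  obtain ⟨N, hNset, hNn, hNc⟩ := Cfsg.Agent.S0035.result H' hF
  have hcard := Cfsg.Agent.S0034.result H' hF
  rw [← hNset] at hcard
  have hNcard : Nat.card N = H'.index := hcard.1
  have hdisj : N ⊓ H' = ⊥ := disjoint_iff.1 hNc.disjoint
  have hH'card : Nat.card H' = Nat.card (HH G a b) :=
    Nat.card_congr (Subgroup.subgroupOfEquivOfLe inf_le_left).toEquiv
  have hcop : (Nat.card N).Coprime (Nat.card H') := by
    rw [hNcard]
    have h1 : H'.index ≡ 1 [MOD Nat.card H'] := hcard.2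
    have h2 := h1.gcd_eq
    rw [Nat.Coprime, h2]
    exact Nat.gcd_one_left _
  have hF1 : ∀ h ∈ H', h ≠ 1 → ∀ x ∈ N, x * h = h * x →
      x ∈ Subgroup.centralizer (H' : Set X) := by
    intro h hh hh1 x hx hxh
    have h1 := Cfsg.Agent.S4296.fpf H' N hF hdisj h hh hh1
    have h2 : x ∈ N ⊓ Subgroup.centralizer {h} :=
      ⟨hx, Subgroup.mem_centralizer_singleton_iff.2 hxh⟩
    rw [h1, Subgroup.mem_bot] at h2
    rw [h2]
    exact Subgroup.one_mem _
  have hF2 : ¬ N ≤ Subgroup.centralizer (H' : Set X) := by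
    intro hle
    obtain ⟨⟨h, hh⟩, hh1⟩ := (Subgroup.ne_bot_iff_exists_ne_one.1 hF.1)
    have hh1' : h ≠ 1 := fun e => hh1 (Subtype.ext e)
    have h1 := Cfsg.Agent.S4296.fpf H' N hF hdisj h hh hh1'
    have hNbot : N = ⊥ := by
      rw [eq_bot_iff]
      intro x hx
      have h2 : x ∈ N ⊓ Subgroup.centralizer {h} :=
        ⟨hx, Subgroup.mem_centralizer_singleton_iff.2
          ((Subgroup.mem_centralizer_iff.1 (hle hx) h hh).symm)⟩
      rw [h1] at h2
      exact h2
    have h3' := hNc.sup_eq_top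
    rw [hNbot, bot_sup_eq] at h3'
    exact hF.2.1 h3'
  have h2 : ∀ P : Sylow 2 H', IsMulCommutative (P : Subgroup H') := by
    intro P
    have hc1 : Nat.card (P : Subgroup H') = 1 := by
      obtain ⟨k, hk⟩ := P.isPGroup'.exists_card_eq
      have hdvd : Nat.card (P : Subgroup H') ∣ Nat.card H' := Subgroup.card_subgroup_dvd_card _
      rcases k with _ | k
      · simpa using hk
      · exfalso
        rw [hk, hH'card] at hdvd
        have h2' : 2 ∣ Nat.card (HH G a b) := (dvd_pow_self 2 (Nat.succ_ne_zero k)).trans hdvd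
        exact (Nat.not_even_iff_odd.2 hodd) (even_iff_two_dvd.2 h2')
    haveI := (Nat.card_eq_one_iff_unique.1 hc1).1
    exact ⟨⟨fun x y => Subsingleton.elim _ _⟩⟩
  haveI : IsZGroup H' := ⟨fun p hp P => by
    haveI : Fact p.Prime := ⟨hp⟩
    exact Cfsg.Agent.S4151.sylow_cyclic H' N hcop hF1 hF2 h2 p P⟩
  exact IsZGroup.of_injective (f := (Subgroup.subgroupOfEquivOfLe
    (inf_le_left : HH G a b ≤ X)).symm.toMonoidHom) (MulEquiv.injective _)

end basics

section core

open scoped Pointwise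

variable {G Ω : Type*} [Group G] [MulAction G Ω] [Finite G]

omit [MulAction G Ω] in
theorem cent_of_fix_cyclic {r : ℕ} [Fact r.Prime] (hr2 : r ≠ 2) (P : Subgroup G)
    (hPr : IsPGroup r P) [IsCyclic P] {t c : G} (ht2 : t * t = 1)
    (hnorm : ∀ x ∈ P, t * x * t⁻¹ ∈ P) (hcP : c ∈ P) (hcr : orderOf c = r)
    (htc : t * c = c * t) : ∀ x ∈ P, t * x = x * t := by
  have hr : r.Prime := Fact.out
  let σ : P →* P :=
    { toFun := fun x => ⟨t * x * t⁻¹, hnorm x x.2⟩
      map_one' := by apply Subtype.ext; simp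
      map_mul' := fun x y => by apply Subtype.ext; simp }
  obtain ⟨m, hm⟩ := MonoidHom.map_cyclic σ
  have hσ : ∀ x : P, ((σ x : P) : G) = t * x * t⁻¹ := fun x => rfl
  have htinv : t⁻¹ = t := inv_eq_of_mul_eq_one_right ht2
  have h1 : ∀ g : P, g ^ (m * m) = g := by
    intro g
    have e1 : σ (σ g) = g := by
      apply Subtype.ext
      rw [hσ, hσ, htinv]
      have : t * (t * (g : G) * t) * t = (t * t) * (g : G) * (t * t) := by group
      rw [this, ht2, one_mul, mul_one]
    rw [hm g, hm (g ^ m), ← zpow_mul] at e1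
    exact e1
  have h2 : (r : ℤ) ∣ m - 1 := by
    have e1 : σ ⟨c, hcP⟩ = ⟨c, hcP⟩ := by
      apply Subtype.ext
      rw [hσ]
      show t * c * t⁻¹ = c
      rw [htc, mul_inv_cancel_right]
    rw [hm] at e1
    have e2 : c ^ m = c := by simpa using congrArg Subtype.val e1
    have e3 : c ^ (m - 1) = 1 := by rw [zpow_sub_one, e2, mul_inv_cancel]
    rw [← hcr]
    exact orderOf_dvd_iff_zpow_eq_one.2 e3
  have h3 : ¬ (r : ℤ) ∣ m + 1 := by
    intro h
    have h4 : (r : ℤ) ∣ 2 := by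
      have := dvd_sub h h2
      have e : m + 1 - (m - 1) = 2 := by ring
      rwa [e] at this
    have h5 : r ∣ 2 := by exact_mod_cast h4
    exact hr2 ((Nat.prime_dvd_prime_iff_eq hr Nat.prime_two).1 h5)
  intro x hx
  have hx1 : (⟨x, hx⟩ : P) ^ (m - 1) = 1 := by
    obtain ⟨k, hk⟩ := (IsPGroup.iff_orderOf.1 hPr) ⟨x, hx⟩
    rw [← orderOf_dvd_iff_zpow_eq_one, hk]
    have hcop : IsCoprime ((r : ℤ) ^ k) (m + 1) :=
      IsCoprime.pow_left ((Prime.coprime_iff_not_dvd (Nat.prime_iff_prime_int.1 hr)).2 h3)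
    have hdvd : ((r : ℤ) ^ k) ∣ (m - 1) * (m + 1) := by
      have e := h1 ⟨x, hx⟩
      have e' : (⟨x, hx⟩ : P) ^ (m * m - 1) = 1 := by rw [zpow_sub_one, e, mul_inv_cancel]
      have := orderOf_dvd_iff_zpow_eq_one.2 e'
      rw [hk] at this
      have e2 : (m - 1) * (m + 1) = m * m - 1 := by ring
      rw [e2]
      exact_mod_cast this
    push_cast
    exact hcop.dvd_of_dvd_mul_right hdvd
  have hx2 : σ ⟨x, hx⟩ = ⟨x, hx⟩ := by
    rw [hm]
    have := zpow_add_one (⟨x, hx⟩ : P) (m - 1)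
    rw [sub_add_cancel] at this
    rw [this, hx1, one_mul]
  have hx3 : t * x * t⁻¹ = x := congrArg Subtype.val hx2
  exact mul_inv_eq_iff_eq_mul.1 hx3

theorem core {a b : Ω} (hab : a ≠ b) (h3 : Three G Ω) [IsZGroup (HH G a b)]
    (hodd : Odd (Nat.card (HH G a b)))
    (hnil : ∀ q : ℕ, q.Prime → q ∣ Nat.card (HH G a b) →
      ¬ ∃ N : Subgroup G, N.Normal ∧ N.index = q ^ (Nat.card G).factorization q) :
    ∀ r : ℕ, r.Prime → ∀ t c : G, t * t = 1 → t • a = b → t • b = a → c ∈ HH G a b →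
      orderOf c = r → t * c = c * t → False := by
  intro r
  induction r using Nat.strong_induction_on with
  | _ r ih =>
  intro hr t0 c ht02 t0a t0b hc hcr ht0c
  haveI : Fact r.Prime := ⟨hr⟩
  have hc1 : c ≠ 1 := by
    rintro rfl
    rw [orderOf_one] at hcr
    exact hr.ne_one hcr.symm
  have hrH : r ∣ Nat.card (HH G a b) := by
    rw [← hcr]; exact Subgroup.orderOf_dvd_natCard _ hc
  have hr2 : r ≠ 2 := by
    rintro rfl
    exact (Nat.not_even_iff_odd.2 hodd) (even_iff_two_dvd.2 hrH)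
  have hoddH : ∀ x ∈ HH G a b, Odd (orderOf x) := fun x hx =>
    Odd.of_dvd_nat hodd (Subgroup.orderOf_dvd_natCard _ hx)
  have hzc : IsPGroup r (Subgroup.zpowers c) := by
    apply IsPGroup.of_card (n := 1)
    rw [Nat.card_zpowers, hcr, pow_one]
  obtain ⟨P, hP⟩ := hzc.exists_le_sylow
  have hcP : c ∈ (P : Subgroup G) := hP (Subgroup.mem_zpowers c)
  have hPodd : ∀ x ∈ (P : Subgroup G), Odd (orderOf x) := fun x hx =>
    odd_order_of_pgroup hr hr2 P.isPGroup' hx
  have hPH : (P : Subgroup G) ≤ HH G a b := by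
    haveI : Nontrivial (P : Subgroup G) :=
      ⟨⟨⟨c, hcP⟩, 1, fun e => hc1 (congrArg Subtype.val e)⟩⟩
    haveI := P.isPGroup'.center_nontrivial
    obtain ⟨z, hz⟩ := exists_ne (1 : Subgroup.center (P : Subgroup G))
    have hz1 : ((z : (P : Subgroup G)) : G) ≠ 1 := fun e => hz (Subtype.ext (Subtype.ext e))
    have hzP : ((z : (P : Subgroup G)) : G) ∈ (P : Subgroup G) := (z : (P : Subgroup G)).2
    have hzcomm : ∀ x ∈ (P : Subgroup G),
        x * ((z : (P : Subgroup G)) : G) = ((z : (P : Subgroup G)) : G) * x := by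
      intro x hx
      have := Subgroup.mem_center_iff.1 z.2 ⟨x, hx⟩
      exact congrArg Subtype.val this
    have hzH : ((z : (P : Subgroup G)) : G) ∈ HH G a b := by
      apply mem_of_odd_conj hab h3 hc hc1 _ (hPodd _ hzP)
      have := hzcomm c hcP
      rw [← this, mul_inv_cancel_right]
      exact hc
    intro x hx
    apply mem_of_odd_conj hab h3 hzH hz1 _ (hPodd x hx)
    rw [hzcomm x hx, mul_inv_cancel_right]
    exact hzH
  haveI hPcyc : IsCyclic (P : Subgroup G) := cyc_of_le hPH P.isPGroup'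
  have hPcomm : ∀ x ∈ (P : Subgroup G), ∀ y ∈ (P : Subgroup G), x * y = y * x := by
    intro x hx y hy
    have := (IsCyclic.commGroup (α := (P : Subgroup G))).mul_comm ⟨x, hx⟩ ⟨y, hy⟩
    exact congrArg Subtype.val this
  set M : Subgroup G := HH G a b ⊓ Subgroup.centralizer {c} with hM
  have hPM : (P : Subgroup G) ≤ M := fun x hx =>
    ⟨hPH hx, Subgroup.mem_centralizer_singleton_iff.2 (hPcomm x hx c hcP)⟩
  have hP1M : ((t0 • P : Sylow r G) : Subgroup G) ≤ M := by
    intro x hx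
    have hcoe : ((t0 • P : Sylow r G) : Subgroup G) = MulAut.conj t0 • (P : Subgroup G) := rfl
    rw [hcoe, Cfsg.Agent.S0034.mem_conj] at hx
    have hy := hPM hx
    have hxe : x = t0 * (t0⁻¹ * x * t0) * t0⁻¹ := by group
    rw [hxe]
    have cy : Commute (t0⁻¹ * x * t0) c := Subgroup.mem_centralizer_singleton_iff.1 hy.2
    have ct : Commute t0 c := ht0c
    have hcen : t0 * (t0⁻¹ * x * t0) * t0⁻¹ ∈ Subgroup.centralizer {c} :=
      Subgroup.mem_centralizer_singleton_iff.2 ((ct.mul_left cy).mul_left ct.inv_left).eq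
    exact ⟨swap_conj_mem t0a t0b hy.1, hcen⟩
  obtain ⟨m, hm⟩ := MulAction.exists_smul_eq ↥M ((t0 • P).subtype hP1M) (P.subtype hPM)
  rw [Sylow.smul_subtype] at hm
  have hm' : (m : G) • (t0 • P) = P := Sylow.subtype_injective hm
  have hmM : (m : G) ∈ M := m.2
  have hmH := mem_HH.1 hmM.1
  obtain ⟨s, hs⟩ : ∃ s : G, s = (m : G) * t0 := ⟨_, rfl⟩
  have sa : s • a = b := by rw [hs, mul_smul, t0a, hmH.2]
  have sb : s • b = a := by rw [hs, mul_smul, t0b, hmH.1]
  have sP : s • P = P := by rw [hs, mul_smul]; exact hm'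
  have sc : Commute s c := by
    have cm : Commute (m : G) c := Subgroup.mem_centralizer_singleton_iff.1 hmM.2
    rw [hs]
    exact cm.mul_left ht0c
  have hs2H : s ^ 2 ∈ HH G a b := by
    have := swap_pow sa sb 1
    exact mem_HH.2 ⟨this.1, this.2.1⟩
  obtain ⟨k, hk⟩ := hoddH _ hs2H
  obtain ⟨t, ht⟩ : ∃ t : G, t = s ^ (2 * k + 1) := ⟨_, rfl⟩
  have ht2 : t * t = 1 := by
    rw [ht, ← pow_add, ← two_mul, ← hk, pow_mul, pow_orderOf_eq_one]
  have ta : t • a = b := by rw [ht]; exact (swap_pow sa sb k).2.2.1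
  have tb : t • b = a := by rw [ht]; exact (swap_pow sa sb k).2.2.2
  have tP : t • P = P := by
    have h1 : s ∈ MulAction.stabilizer G P := sP
    rw [ht]
    exact Subgroup.pow_mem _ h1 _
  have tc : t * c = c * t := by rw [ht]; exact (sc.pow_left _).eq
  have tnorm : ∀ x ∈ (P : Subgroup G), t * x * t⁻¹ ∈ (P : Subgroup G) := by
    intro x hx
    exact (Subgroup.mem_normalizer_iff.1 (Sylow.smul_eq_iff_mem_normalizer.1 tP) x).1 hx
  have tcent : ∀ x ∈ (P : Subgroup G), t * x = x * t :=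
    cent_of_fix_cyclic hr2 (P : Subgroup G) P.isPGroup' ht2 tnorm hcP hcr tc
  have tinv : t⁻¹ = t := inv_eq_of_mul_eq_one_right ht2
  have hNC : ¬ Subgroup.normalizer ((P : Subgroup G) : Set G) ≤
      Subgroup.centralizer ((P : Subgroup G) : Set G) := by
    intro hle
    have hcomp := MonoidHom.ker_transferSylow_isComplement' P hle
    apply hnil r hr hrH
    refine ⟨(MonoidHom.transferSylow P hle).ker, inferInstance, ?_⟩
    have h1 := hcomp.card_mul_card
    have h2 := Subgroup.card_mul_index (MonoidHom.transferSylow P hle).ker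
    have h4 : Nat.card (P : Subgroup G) = r ^ (Nat.card G).factorization r :=
      Sylow.card_eq_multiplicity P
    have hpos : 0 < Nat.card (MonoidHom.transferSylow P hle).ker := Nat.card_pos
    rw [← h4]
    exact Nat.eq_of_mul_eq_mul_left hpos (h2.trans h1.symm)
  obtain ⟨g, hgN, hgC⟩ := SetLike.not_le_iff_exists.1 hNC
  have tN : t ∈ Subgroup.normalizer ((P : Subgroup G) : Set G) :=
    Sylow.smul_eq_iff_mem_normalizer.1 tP
  have tC : t ∈ Subgroup.centralizer ((P : Subgroup G) : Set G) := by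
    rw [Subgroup.mem_centralizer_iff]
    intro x hx
    exact (tcent x hx).symm
  obtain ⟨h, hhH, hhN, hhC⟩ : ∃ h, h ∈ HH G a b ∧
      h ∈ Subgroup.normalizer ((P : Subgroup G) : Set G) ∧
      h ∉ Subgroup.centralizer ((P : Subgroup G) : Set G) := by
    have hgc : g * c * g⁻¹ ∈ HH G a b := hPH ((Subgroup.mem_normalizer_iff.1 hgN c).1 hcP)
    rcases perm_of_conj hab h3 hc hc1 hgc with hg | hg
    · exact ⟨g, mem_HH.2 hg, hgN, hgC⟩
    · refine ⟨t * g, mem_HH.2 ⟨?_, ?_⟩, Subgroup.mul_mem _ tN hgN, ?_⟩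
      · rw [mul_smul, hg.1, tb]
      · rw [mul_smul, hg.2, ta]
      · intro hcon
        apply hgC
        have : g = t⁻¹ * (t * g) := by group
        rw [this]
        exact Subgroup.mul_mem _ (Subgroup.inv_mem _ tC) hcon
  obtain ⟨u, hu⟩ : ∃ u : G, u = h⁻¹ * (t * h * t⁻¹) := ⟨_, rfl⟩
  have huH : u ∈ HH G a b := by
    rw [hu]
    exact Subgroup.mul_mem _ (Subgroup.inv_mem _ hhH) (swap_conj_mem ta tb hhH)
  have huC : u ∈ Subgroup.centralizer ((P : Subgroup G) : Set G) := by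
    have h1 : h⁻¹ * t * h ∈ Subgroup.centralizer ((P : Subgroup G) : Set G) := by
      rw [Subgroup.mem_centralizer_iff]
      intro x hx
      have hx' : h * x * h⁻¹ ∈ (P : Subgroup G) := (Subgroup.mem_normalizer_iff.1 hhN x).1 hx
      have e := tcent _ hx'
      calc x * (h⁻¹ * t * h) = h⁻¹ * ((h * x * h⁻¹) * t) * h := by group
        _ = h⁻¹ * (t * (h * x * h⁻¹)) * h := by rw [e]
        _ = h⁻¹ * t * h * x := by group
    have h2 : u = (h⁻¹ * t * h) * t⁻¹ := by rw [hu]; group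
    rw [h2]
    exact Subgroup.mul_mem _ h1 (Subgroup.inv_mem _ tC)
  have hinvu : t * u * t⁻¹ = u⁻¹ := by
    rw [hu, tinv]
    have e1 : t * (h⁻¹ * (t * h * t)) * t = t * h⁻¹ * t * h * (t * t) := by group
    have e2 : (h⁻¹ * (t * h * t))⁻¹ = t⁻¹ * h⁻¹ * t⁻¹ * h := by group
    rw [e1, e2, ht2, mul_one, tinv]
  obtain ⟨k2, hk2⟩ := hoddH u huH
  obtain ⟨w, hw⟩ : ∃ w : G, w = u ^ (k2 + 1) := ⟨_, rfl⟩
  have hww : w * w = u := by
    rw [hw, ← pow_add]
    have : k2 + 1 + (k2 + 1) = orderOf u + 1 := by omega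
    rw [this, pow_succ, pow_orderOf_eq_one, one_mul]
  have hwH : w ∈ HH G a b := by rw [hw]; exact Subgroup.pow_mem _ huH _
  have hwC : w ∈ Subgroup.centralizer ((P : Subgroup G) : Set G) := by
    rw [hw]; exact Subgroup.pow_mem _ huC _
  have hinvw : t * w * t⁻¹ = w⁻¹ := by
    rw [hw, ← conj_pow, hinvu, inv_pow]
  obtain ⟨c', hc'⟩ : ∃ c' : G, c' = h * w := ⟨_, rfl⟩
  have hc'H : c' ∈ HH G a b := by rw [hc']; exact Subgroup.mul_mem _ hhH hwH
  have hc't : t * c' = c' * t := by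
    have e1 : t * h * t⁻¹ = h * u := by rw [hu]; group
    rw [hc']
    calc t * (h * w) = (t * h * t⁻¹) * (t * w * t⁻¹) * t := by group
      _ = h * u * w⁻¹ * t := by rw [e1, hinvw]
      _ = h * (w * w) * w⁻¹ * t := by rw [hww]
      _ = h * w * t := by group
  have hc'N : c' ∈ Subgroup.normalizer ((P : Subgroup G) : Set G) := by
    rw [hc']
    exact Subgroup.mul_mem _ hhN (Subgroup.centralizer_le_normalizer _ hwC)
  have hc'C : c' ∉ Subgroup.centralizer ((P : Subgroup G) : Set G) := by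
    intro hcon
    apply hhC
    have : h = c' * w⁻¹ := by rw [hc']; group
    rw [this]
    exact Subgroup.mul_mem _ hcon (Subgroup.inv_mem _ hwC)
  set C1 : Subgroup G := HH G a b ⊓ Subgroup.centralizer {t} with hC1
  have hPC1 : (P : Subgroup G) ≤ C1 := fun x hx =>
    ⟨hPH hx, Subgroup.mem_centralizer_singleton_iff.2 (tcent x hx).symm⟩
  have hc'C1 : c' ∈ C1 := ⟨hc'H, Subgroup.mem_centralizer_singleton_iff.2 hc't.symm⟩
  have hcC1 : c ∈ C1 := hPC1 hcP
  have hrC1 : r ∣ Nat.card C1 := by rw [← hcr]; exact Subgroup.orderOf_dvd_natCard _ hcC1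
  have hC1ne : Nat.card C1 ≠ 1 := by
    intro e
    rw [e] at hrC1
    exact hr.ne_one (Nat.dvd_one.1 hrC1)
  have hmin : (Nat.card C1).minFac = r := by
    apply le_antisymm (Nat.minFac_le_of_dvd hr.two_le hrC1)
    by_contra hlt
    push Not at hlt
    have hq : (Nat.card C1).minFac.Prime := Nat.minFac_prime hC1ne
    haveI : Fact (Nat.card C1).minFac.Prime := ⟨hq⟩
    obtain ⟨x, hx⟩ := exists_prime_orderOf_dvd_card' (G := C1) (Nat.card C1).minFac
      (Nat.minFac_dvd _)
    have hx' : orderOf (x : G) = (Nat.card C1).minFac := by rw [Subgroup.orderOf_coe, hx]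
    exact ih _ hlt hq t (x : G) ht2 ta tb x.2.1 hx'
      (Subgroup.mem_centralizer_singleton_iff.1 x.2.2).symm
  have hcycP' : IsCyclic ((P.subtype hPC1 : Sylow r C1) : Subgroup C1) := by
    rw [Sylow.coe_subtype]
    exact isCyclic_of_injective (Subgroup.subgroupOfEquivOfLe hPC1).toMonoidHom
      (MulEquiv.injective _)
  have hle := IsCyclic.normalizer_le_centralizer hmin hcycP'
  have hmemN : (⟨c', hc'C1⟩ : C1) ∈
      Subgroup.normalizer (((P.subtype hPC1 : Sylow r C1) : Subgroup C1) : Set C1) := by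
    rw [Subgroup.mem_normalizer_iff]
    intro y
    rw [Sylow.coe_subtype, Subgroup.mem_subgroupOf, Subgroup.mem_subgroupOf]
    exact Subgroup.mem_normalizer_iff.1 hc'N (y : G)
  have hmemC := hle hmemN
  apply hc'C
  rw [Subgroup.mem_centralizer_iff]
  intro x hx
  have := Subgroup.mem_centralizer_iff.1 hmemC ⟨x, hPC1 hx⟩
    (show (⟨x, hPC1 hx⟩ : C1) ∈ (P : Subgroup G).subgroupOf C1 from
      Subgroup.mem_subgroupOf.2 hx)
  exact congrArg Subtype.val this

end core

/-- In a finite Zassenhaus group whose two-point stabiliser `H = G_{a,b}` has odd order `d`, and which has no normal `q`-complement for any prime `q ∣ d`, `H` is cyclic, `C_G(H) = H`, and every element swapping `a` and `b` inverts each element of `H`. -/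
theorem result {G Ω : Type*} [Group G] [Finite G] [MulAction G Ω] [Fintype Ω] (hZ : Cfsg.IsZassenhausGroup G Ω) {a b : Ω} (hab : a ≠ b) (hodd : Odd (Nat.card ↥(MulAction.stabilizer G a ⊓ MulAction.stabilizer G b))) (hnil : ∀ q : ℕ, q.Prime → q ∣ Nat.card ↥(MulAction.stabilizer G a ⊓ MulAction.stabilizer G b) → ¬ ∃ N : Subgroup G, N.Normal ∧ N.index = q ^ (Nat.card G).factorization q) : IsCyclic ↥(MulAction.stabilizer G a ⊓ MulAction.stabilizer G b) ∧ Subgroup.centralizer ((MulAction.stabilizer G a ⊓ MulAction.stabilizer G b : Subgroup G) : Set G) = MulAction.stabilizer G a ⊓ MulAction.stabilizer G b ∧ ∀ s : G, s • a = b → s • b = a → ∀ h ∈ MulAction.stabilizer G a ⊓ MulAction.stabilizer G b, s * h * s⁻¹ = h⁻¹ := by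
  classical
  have hZ0 := hZ
  obtain ⟨hfaith, h2t, h3, hex, -⟩ := hZ
  rw [MulAction.is_two_pretransitive_iff] at h2t
  have h3' : Three G Ω := h3
  have hne : HH G a b ≠ ⊥ := by
    obtain ⟨g, hg1, a', b', ha'b', hga', hgb'⟩ := hex
    obtain ⟨x, hxa, hxb⟩ := h2t ha'b' hab
    intro hbot
    have hmem : x * g * x⁻¹ ∈ HH G a b := by
      rw [mem_HH]
      have ia : x⁻¹ • a = a' := by rw [inv_smul_eq_iff, hxa]
      have ib : x⁻¹ • b = b' := by rw [inv_smul_eq_iff, hxb]
      constructor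
      · rw [mul_smul, mul_smul, ia, hga', hxa]
      · rw [mul_smul, mul_smul, ib, hgb', hxb]
    rw [hbot, Subgroup.mem_bot] at hmem
    apply hg1
    have : g = x⁻¹ * (x * g * x⁻¹) * x := by group
    rw [this, hmem]; group
  obtain ⟨⟨z, hzH⟩, hz1'⟩ := Subgroup.ne_bot_iff_exists_ne_one.1 hne
  have hz1 : z ≠ 1 := fun e => hz1' (Subtype.ext e)
  have hzab := mem_HH.1 hzH
  obtain ⟨c, hca, hcb⟩ : ∃ c : Ω, c ≠ a ∧ c ≠ b := by
    by_contra hcon
    push Not at hcon
    apply hz1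
    apply hfaith.eq_of_smul_eq_smul
    intro x
    rw [one_smul]
    by_cases hxa : x = a
    · rw [hxa, hzab.1]
    · rw [hcon x hxa, hzab.2]
  have hmove : ∃ x : G, x • a = a ∧ x • b ≠ b := by
    obtain ⟨x, hxa, hxb⟩ := h2t hab (Ne.symm hca)
    exact ⟨x, hxa, by rw [hxb]; exact hcb⟩
  haveI : IsZGroup (HH G a b) := zgroup hab h3' hne hmove hodd
  have hoddH : ∀ x ∈ HH G a b, Odd (orderOf x) := fun x hx =>
    Odd.of_dvd_nat hodd (Subgroup.orderOf_dvd_natCard _ hx)
  obtain ⟨t, hto, ta, tb⟩ := (Cfsg.Agent.S0740.result hZ0 hab).1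
  have ht2 : t * t = 1 := by rw [← pow_two, ← hto, pow_orderOf_eq_one]
  have tinv : t⁻¹ = t := inv_eq_of_mul_eq_one_right ht2
  have hcore : ∀ t : G, t * t = 1 → t • a = b → t • b = a → ∀ c ∈ HH G a b,
      t * c = c * t → c = 1 := by
    intro t ht2 ta tb c hc htc
    by_contra hc1
    have ho : orderOf c ≠ 1 := fun e => hc1 (orderOf_eq_one_iff.1 e)
    obtain ⟨r, hr, hrd⟩ := Nat.exists_prime_and_dvd ho
    have ho0 : orderOf c ≠ 0 := (hoddH c hc).pos.ne'
    have h1 := orderOf_pow_orderOf_div ho0 hrd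
    exact core hab h3' hodd hnil r hr t (c ^ (orderOf c / r)) ht2 ta tb
      (Subgroup.pow_mem _ hc _) h1 ((Commute.pow_right (show Commute t c from htc) _).eq)
  have hinv : ∀ h ∈ HH G a b, t * h * t⁻¹ = h⁻¹ := by
    let φ : HH G a b → HH G a b := fun h =>
      ⟨(h : G)⁻¹ * (t * h * t⁻¹),
        Subgroup.mul_mem _ (Subgroup.inv_mem _ h.2) (swap_conj_mem ta tb h.2)⟩
    have hφinj : Function.Injective φ := by
      intro h k hhk
      have heq : (h : G)⁻¹ * (t * h * t⁻¹) = (k : G)⁻¹ * (t * k * t⁻¹) :=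
        congrArg Subtype.val hhk
      have e1 : ((k : G) * (h : G)⁻¹) * t =
          k * ((h : G)⁻¹ * (t * h * t⁻¹)) * t * (h : G)⁻¹ := by group
      rw [heq] at e1
      have e2 : (k : G) * ((k : G)⁻¹ * (t * k * t⁻¹)) * t * (h : G)⁻¹ =
          t * ((k : G) * (h : G)⁻¹) := by group
      rw [e2] at e1
      have := hcore t ht2 ta tb _ (Subgroup.mul_mem _ k.2 (Subgroup.inv_mem _ h.2)) e1.symm
      apply Subtype.ext
      exact (mul_inv_eq_one.1 this).symm
    have hφsurj : Function.Surjective φ := Finite.injective_iff_surjective.1 hφinj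
    intro h hh
    obtain ⟨k, hk⟩ := hφsurj ⟨h, hh⟩
    have hk' : (k : G)⁻¹ * (t * k * t⁻¹) = h := congrArg Subtype.val hk
    rw [← hk', tinv]
    have e1 : t * ((k : G)⁻¹ * (t * k * t)) * t = t * (k : G)⁻¹ * t * k * (t * t) := by group
    have e2 : ((k : G)⁻¹ * (t * k * t))⁻¹ = t⁻¹ * (k : G)⁻¹ * t⁻¹ * k := by group
    rw [e1, e2, ht2, mul_one, tinv]
  have hcomm : ∀ x ∈ HH G a b, ∀ y ∈ HH G a b, x * y = y * x := by
    intro x hx y hy
    have e1 := hinv (x * y) (Subgroup.mul_mem _ hx hy)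
    have e2 : t * (x * y) * t⁻¹ = (t * x * t⁻¹) * (t * y * t⁻¹) := by group
    rw [e2, hinv x hx, hinv y hy, mul_inv_rev] at e1
    have e3 := congrArg (fun z => z⁻¹) e1
    simp only [mul_inv_rev, inv_inv] at e3
    exact e3.symm
  have hclaim3 : ∀ s : G, s • a = b → s • b = a → ∀ h ∈ HH G a b, s * h * s⁻¹ = h⁻¹ := by
    intro s sa sb h hh
    have h0 : t⁻¹ * s ∈ HH G a b := by
      rw [mem_HH, mul_smul, mul_smul, sa, sb]
      exact ⟨by rw [inv_smul_eq_iff, ta], by rw [inv_smul_eq_iff, tb]⟩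
    have e1 : s * h * s⁻¹ = t * ((t⁻¹ * s) * h * (t⁻¹ * s)⁻¹) * t⁻¹ := by group
    have e2 : (t⁻¹ * s) * h * (t⁻¹ * s)⁻¹ = h := by
      rw [hcomm _ h0 h hh, mul_inv_cancel_right]
    rw [e1, e2, hinv h hh]
  have hclaim2 : Subgroup.centralizer ((HH G a b : Subgroup G) : Set G) = HH G a b := by
    apply le_antisymm
    · intro g hg
      have hgz : g * z * g⁻¹ = z := by
        have := Subgroup.mem_centralizer_iff.1 hg z hzH
        rw [← this, mul_inv_cancel_right]
      have hgz' : g * z * g⁻¹ ∈ HH G a b := by rw [hgz]; exact hzH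
      rcases perm_of_conj hab h3' hzH hz1 hgz' with hg' | hg'
      · exact mem_HH.2 hg'
      · exfalso
        have e := hclaim3 g hg'.1 hg'.2 z hzH
        rw [hgz] at e
        have hzz : z ^ 2 = 1 := by
          rw [pow_two]
          nth_rewrite 1 [e]
          exact inv_mul_cancel z
        have h2 : orderOf z ∣ 2 := orderOf_dvd_of_pow_eq_one hzz
        have hodd' := hoddH z hzH
        have : orderOf z = 1 := by
          rcases (Nat.dvd_prime Nat.prime_two).1 h2 with h | h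
          · exact h
          · rw [h] at hodd'; exact absurd hodd' (by decide)
        exact hz1 (orderOf_eq_one_iff.1 this)
    · intro g hg
      rw [Subgroup.mem_centralizer_iff]
      intro x hx
      exact hcomm x hx g hg
  have hcyc : IsCyclic (HH G a b) := by
    letI : CommGroup (HH G a b) :=
      { (inferInstance : Group (HH G a b)) with
        mul_comm := fun x y => Subtype.ext (hcomm x.1 x.2 y.1 y.2) }
    haveI : Group.IsNilpotent (HH G a b) := CommGroup.isNilpotent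
    infer_instance
  exact ⟨hcyc, hclaim2, hclaim3⟩

end Cfsg.Agent.S0739
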