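import Mathlib
import Cfsg.Statements.S0876
import Cfsg.Agent.Lib.Helper25.BrauerInt
import Cfsg.Agent.Lib.Helper24.PSection

set_option autoImplicit false
open Cfsg

namespace Cfsg.Agent.S0876

open Cfsg.Agent.Lib.Helper1 Cfsg.Agent.Lib.Helper6

/-- Let G be a finite group, p a prime and M a maximal ideal of the ring of algebraic integers containing p. Let x, y be elements with p-parts a and b (so a⁻¹ * x and b⁻¹ * y are their p-regular parts). Then a⁻¹ * x and b⁻¹ * y are conjugate in G if and only if, for every irreducible character χ, the difference χ x - χ y lies in the local ideal at M. -/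
theorem result {G : Type*} [Group G] [Finite G] (p : ℕ) (M : Ideal Cfsg.AlgInt) (hM : Cfsg.IsPModular p M) (x y a b : G) (ha : Cfsg.IsPPart p x a) (hb : Cfsg.IsPPart p y b) : IsConj (a⁻¹ * x) (b⁻¹ * y) ↔ ∀ χ : Cfsg.IrrCharacter G, Cfsg.MemLocalIdeal M ((χ : G → ℂ) x - (χ : G → ℂ) y) := by
  classical
  haveI : Fintype G := Fintype.ofFinite G
  haveI : Fintype (IrrCharacter G) := irrFintype
  have hp : p.Prime := hM.1
  have hmax := hM.2.1
  obtain ⟨y₁, hx, hc1, ⟨k, hk⟩, hy₁⟩ := ha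
  obtain ⟨y₂, hy, hc2, ⟨l, hl⟩, hy₂⟩ := hb
  have e1 : a⁻¹ * x = y₁ := by rw [← hx]; group
  have e2 : b⁻¹ * y = y₂ := by rw [← hy]; group
  rw [e1, e2, ← hx, ← hy]
  have hak : a ^ (p ^ k) = 1 := by rw [← hk]; exact pow_orderOf_eq_one a
  have hbl : b ^ (p ^ l) = 1 := by rw [← hl]; exact pow_orderOf_eq_one b
  constructor
  · intro hconj χ
    have hχ := IsIrrCharacter.isCharacter χ.2
    have h1 := Cfsg.Agent.Lib.Helper24.PSection.char_mul_pElement_congr hM hχ a y₁ hc1 hak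
    have h2 := Cfsg.Agent.Lib.Helper24.PSection.char_mul_pElement_congr hM hχ b y₂ hc2 hbl
    have h3 : (χ : G → ℂ) y₁ = (χ : G → ℂ) y₂ :=
      IsClassFunction.eq_of_isConj (IsCharacter.isClassFunction hχ) hconj
    have e3 : (χ : G → ℂ) (a * y₁) - (χ : G → ℂ) (b * y₂)
        = ((χ : G → ℂ) (a * y₁) - (χ : G → ℂ) y₁) - ((χ : G → ℂ) (b * y₂) - (χ : G → ℂ) y₂) := by
      rw [h3]; ring
    rw [e3]
    exact MemLocalIdeal.sub hmax h1 h2
  · intro hall
    by_contra hnc
    have hN0 : Nat.card G ≠ 0 := Nat.card_pos.ne'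
    obtain ⟨m, hm⟩ : ∃ m : ℕ, m = p ^ (Nat.card G).factorization p := ⟨_, rfl⟩
    obtain ⟨n, hn⟩ : ∃ n : ℕ, n = Nat.card G / p ^ (Nat.card G).factorization p := ⟨_, rfl⟩
    have hmn : Nat.card G = m * n := by
      rw [hm, hn]; exact (Nat.ordProj_mul_ordCompl_eq_self (Nat.card G) p).symm
    have hpn : ¬ p ∣ n := by rw [hn]; exact Nat.not_dvd_ordCompl hp hN0
    have hcop : Nat.Coprime m n := by
      rw [hm]
      exact Nat.Coprime.pow_left _ ((Nat.Prime.coprime_iff_not_dvd hp).mpr hpn)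
    obtain ⟨b₀, hb0, hb1⟩ := Nat.chineseRemainder hcop 0 1
    have hmb : m ∣ b₀ := (Nat.modEq_zero_iff_dvd).mp hb0
    -- powers
    have hppow : ∀ (z : G) (j : ℕ), orderOf z = p ^ j → z ^ b₀ = 1 := by
      intro z j hj
      have h1 : p ^ j ∣ Nat.card G := by rw [← hj]; exact orderOf_dvd_natCard z
      have h2 : j ≤ (Nat.card G).factorization p :=
        (Nat.Prime.pow_dvd_iff_le_factorization hp hN0).mp h1
      have h3 : orderOf z ∣ m := by rw [hj, hm]; exact pow_dvd_pow p h2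
      exact orderOf_dvd_iff_pow_eq_one.mp (dvd_trans h3 hmb)
    have hreg : ∀ z : G, ¬ p ∣ orderOf z → z ^ b₀ = z := by
      intro z hz
      have h1 : orderOf z ∣ m * n := by rw [← hmn]; exact orderOf_dvd_natCard z
      have h2 : (orderOf z).Coprime m := by
        rw [hm]
        exact Nat.Coprime.pow_right _ (((Nat.Prime.coprime_iff_not_dvd hp).mpr hz).symm)
      have h3 : orderOf z ∣ n := Nat.Coprime.dvd_of_dvd_mul_left h2 h1
      have h4 : b₀ ≡ 1 [MOD orderOf z] := Nat.ModEq.of_dvd h3 hb1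
      have h5 := pow_eq_pow_iff_modEq.mpr h4
      rw [h5, pow_one]
    have hxb : (a * y₁) ^ b₀ = y₁ := by
      rw [hc1.mul_pow, hppow a k hk, hreg y₁ hy₁, one_mul]
    have hyb : (b * y₂) ^ b₀ = y₂ := by
      rw [hc2.mul_pow, hppow b l hl, hreg y₂ hy₂, one_mul]
    obtain ⟨ϑ, hϑ⟩ : ∃ ϑ : G → ℂ, ϑ = fun z => if IsConj (z ^ b₀) y₁ then (n : ℂ) else 0 :=
      ⟨_, rfl⟩
    have h1 : ∀ z, IsConj (z ^ b₀) y₁ → ϑ z = (n : ℂ) := by
      intro z hz; rw [hϑ]; simp only [if_pos hz]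
    have h0 : ∀ z, ¬ IsConj (z ^ b₀) y₁ → ϑ z = 0 := by
      intro z hz; rw [hϑ]; simp only [if_neg hz]
    have hcl : IsClassFunction G ϑ := by
      intro z g
      rw [hϑ]
      simp only
      rw [conj_pow]
      have h2 : IsConj (g * z ^ b₀ * g⁻¹) y₁ ↔ IsConj (z ^ b₀) y₁ := by
        have h3 : IsConj (z ^ b₀) (g * z ^ b₀ * g⁻¹) := isConj_iff.mpr ⟨_, rfl⟩
        exact ⟨fun h => h3.trans h, fun h => h3.symm.trans h⟩
      simp only [h2]
    have hexp := classFunction_expansion hcl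
    have hval : ϑ (a * y₁) - ϑ (b * y₂) = (n : ℂ) := by
      rw [h1 (a * y₁) (by rw [hxb]), h0 (b * y₂) (by rw [hyb]; exact fun h => hnc h.symm), sub_zero]
    have hsum : ϑ (a * y₁) - ϑ (b * y₂) = ∑ χ : IrrCharacter G,
        classInner ϑ (χ : G → ℂ) * ((χ : G → ℂ) (a * y₁) - (χ : G → ℂ) (b * y₂)) := by
      have h2 := congrFun hexp (a * y₁)
      have h3 := congrFun hexp (b * y₂)
      simp only [Finset.sum_apply, Pi.smul_apply, smul_eq_mul] at h2 h3
      rw [h2, h3, ← Finset.sum_sub_distrib]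
      refine Finset.sum_congr rfl (fun χ _ => ?_)
      ring
    have hmem : MemLocalIdeal M (ϑ (a * y₁) - ϑ (b * y₂)) := by
      rw [hsum]
      apply memLocalIdeal_sum hmax
      intro χ _
      refine MemLocalIdeal.mul_left hmax (memLocalRing_of_isIntegral hmax ?_) (hall χ)
      exact Cfsg.Agent.Lib.Helper25.BS.section_integral m n hmn hcop y₁ b₀ hb0 hb1 ϑ h1 h0
        (IsIrrCharacter.isCharacter χ.2)
    rw [hval] at hmem
    exact hpn ((memLocalIdeal_natCast_iff hM n).mp hmem)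

end Cfsg.Agent.S0876
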