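import Mathlib
import Cfsg.Statements.S0948
import Cfsg.Agent.Lib.Helper6.Klein4
import Cfsg.Agent.Lib.Helper24.SecondMain

set_option autoImplicit false
open Cfsg

namespace Cfsg.Agent.S0948

/-- Let the finite group G have a Sylow 2-subgroup P that is a Klein four-group, suppose all involutions of G are conjugate, and fix a maximal ideal M of the algebraic integers containing 2. Then the principal block consists of exactly four irreducible characters, the principal character and ζ₂, ζ₃, ζ₄, and there is a sign ε such that for every involution z: ζ₂ z = 1, ζ₃ z = ε, ζ₄ z = -1; moreover ζ₂ 1 ≡ 1, ζ₃ 1 ≡ ε, ζ₄ 1 ≡ -1 (mod 4), and 1 + ζ₂ y + ε ζ₃ y - ζ₄ y = 0 for every y of odd order. -/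
theorem result {G : Type*} [Group G] [Finite G] (M : Ideal Cfsg.AlgInt) (hM : Cfsg.IsPModular 2 M) (P : Sylow 2 G) (hP : IsKleinFour (P : Subgroup G)) (hone : ∀ s t : G, orderOf s = 2 → orderOf t = 2 → IsConj s t) : ∃ ζ₂ ζ₃ ζ₄ : Cfsg.IrrCharacter G, ∃ ε : ℤ, (ε = 1 ∨ ε = -1) ∧ (ζ₂ : G → ℂ) ≠ (fun _ => 1) ∧ (ζ₃ : G → ℂ) ≠ (fun _ => 1) ∧ ζ₂ ≠ ζ₃ ∧ ζ₂ ≠ ζ₄ ∧ ζ₃ ≠ ζ₄ ∧ Cfsg.principalBlock M G = {χ : Cfsg.IrrCharacter G | (χ : G → ℂ) = (fun _ => 1) ∨ χ = ζ₂ ∨ χ = ζ₃ ∨ χ = ζ₄} ∧ (∀ z : G, orderOf z = 2 → (ζ₂ : G → ℂ) z = 1 ∧ (ζ₃ : G → ℂ) z = (ε : ℂ) ∧ (ζ₄ : G → ℂ) z = -1) ∧ (4 : ℤ) ∣ (Cfsg.charDegree (ζ₂ : G → ℂ) : ℤ) - 1 ∧ (4 : ℤ) ∣ (Cfsg.charDegree (ζ₃ : G → ℂ) : ℤ) - ε ∧ (4 : ℤ) ∣ (Cfsg.charDegree (ζ₄ : G → ℂ) : ℤ) + 1 ∧ ∀ y : G, Odd (orderOf y) → 1 + (ζ₂ : G → ℂ) y + (ε : ℂ) * (ζ₃ : G → ℂ) y - (ζ₄ : G → ℂ) y = 0 := by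
  classical
  obtain ⟨_⟩ := nonempty_fintype G
  haveI : Fact (Nat.Prime 2) := ⟨Nat.prime_two⟩
  haveI hfinIrr : Fintype (Cfsg.IrrCharacter G) := Cfsg.Agent.Lib.Helper1.irrFintype
  have hmax := hM.2.1
  have hcard : Nat.card (P : Subgroup G) = 4 := hP.card_four
  have hexp : ∀ x : (P : Subgroup G), x * x = 1 := by
    intro x
    have h := Monoid.pow_exponent_eq_one x
    rw [hP.exponent_two, pow_two] at h
    exact h
  obtain ⟨hk, hvals⟩ := Cfsg.Agent.Lib.Helper6.klein_values hM P hcard hexp hone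
  have hB := Cfsg.Agent.Lib.Helper24.DefectGroup.isPBlock_principal (M := M) (G := G)
  obtain ⟨u, huP, hu1⟩ : ∃ u : G, u ∈ (P : Subgroup G) ∧ u ≠ 1 := by
    by_contra hcon
    push_neg at hcon
    have h1 : Nat.card (P : Subgroup G) ≤ 1 := by
      rw [Finite.card_le_one_iff_subsingleton]
      constructor
      intro a b
      apply Subtype.ext
      rw [hcon a a.2, hcon b b.2]
    omega
  have huu : u * u = 1 := congrArg Subtype.val (hexp ⟨u, huP⟩)
  have huo : orderOf u = 2 := orderOf_eq_prime (by rw [pow_two]; exact huu) hu1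
  have hconjval : ∀ (χ : Cfsg.IrrCharacter G) (t : G), orderOf t = 2 →
      (χ : G → ℂ) t = (χ : G → ℂ) u := by
    intro χ t ht
    obtain ⟨c, hc⟩ := isConj_iff.mp (hone t u ht huo)
    rw [← hc]
    exact (Cfsg.Agent.Lib.Helper6.irr_isClassFunction χ t c).symm
  obtain ⟨χ1, hχ1⟩ : ∃ χ1 : Cfsg.IrrCharacter G,
      χ1 = ⟨fun _ => 1, Cfsg.Agent.Lib.Helper24.CharBasic.irr_trivial⟩ := ⟨_, rfl⟩
  have hχ1B : χ1 ∈ Cfsg.principalBlock M G := by
    rw [hχ1]
    exact Cfsg.Agent.Lib.Helper24.DefectGroup.trivial_mem_principal hmax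
  have hχ1val : ∀ g : G, (χ1 : G → ℂ) g = 1 := by
    intro g
    rw [hχ1]
  have hχ1eq : ∀ χ : Cfsg.IrrCharacter G, (χ : G → ℂ) = (fun _ => 1) ↔ χ = χ1 := by
    intro χ
    constructor
    · intro h
      rw [hχ1]
      exact Subtype.ext h
    · intro h
      rw [h, hχ1]
  obtain ⟨F, hF⟩ : ∃ F : Finset (Cfsg.IrrCharacter G),
      F = Finset.univ.filter (fun χ : Cfsg.IrrCharacter G => χ ∈ Cfsg.principalBlock M G) :=
    ⟨_, rfl⟩
  have hmemF : ∀ χ : Cfsg.IrrCharacter G, χ ∈ F ↔ χ ∈ Cfsg.principalBlock M G := by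
    intro χ
    rw [hF, Finset.mem_filter]
    exact ⟨fun h => h.2, fun h => ⟨Finset.mem_univ _, h⟩⟩
  have hFcard : F.card = 4 := by
    have h2 : Nat.card (Cfsg.principalBlock M G) = F.card := by
      rw [hF, Nat.card_eq_fintype_card]
      exact Fintype.card_subtype _
    omega
  have hχ1F : χ1 ∈ F := (hmemF χ1).mpr hχ1B
  have hF'card : (F.erase χ1).card = 3 := by
    rw [Finset.card_erase_of_mem hχ1F, hFcard]
  have horth : ∀ y : G, Odd (orderOf y) →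
      ∑ χ ∈ F, (χ : G → ℂ) u * (χ : G → ℂ) y = 0 := by
    intro y hy
    have h := Cfsg.Agent.Lib.Helper24.SecondMain.block_orth hM u y⁻¹ u 1
      ⟨1, mul_one u, Commute.one_right u, ⟨1, by rw [huo, pow_one]⟩,
        by rw [orderOf_one]; norm_num⟩
      ⟨y⁻¹, one_mul _, Commute.one_left _, ⟨0, by rw [orderOf_one, pow_zero]⟩,
        by
          rw [orderOf_inv]
          exact fun h => (Nat.not_even_iff_odd.mpr hy) (even_iff_two_dvd.mpr h)⟩
      (fun h => hu1 (isConj_one_left.mp h)) (Cfsg.principalBlock M G) hB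
    rw [inv_inv, Cfsg.Agent.Lib.Helper24.Defect.finsum_block_eq_sum] at h
    rw [hF]
    exact h
  have hsign : ∀ χ ∈ F, ((χ : G → ℂ) u = 1 ∨ (χ : G → ℂ) u = -1) :=
    fun χ hχ => hvals χ ((hmemF χ).mp hχ) u huo
  have hdegC : ∀ χ : Cfsg.IrrCharacter G, (χ : G → ℂ) 1 = (Cfsg.charDegree (χ : G → ℂ) : ℂ) :=
    fun χ => Cfsg.Agent.Lib.Helper24.CharBasic.char_one_nat
      (Cfsg.Agent.Lib.Helper1.IsIrrCharacter.isCharacter χ.2)
  have hdegpos : ∀ χ : Cfsg.IrrCharacter G, 1 ≤ Cfsg.charDegree (χ : G → ℂ) :=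
    fun χ => Cfsg.Agent.Lib.Helper24.CharBasic.irr_degree_pos χ.2
  have hrel1 : 1 + ∑ χ ∈ F.erase χ1, (χ : G → ℂ) u * (Cfsg.charDegree (χ : G → ℂ) : ℂ) = 0 := by
    have h := horth 1 (by rw [orderOf_one]; exact odd_one)
    rw [← Finset.add_sum_erase F _ hχ1F, hχ1val, hχ1val, mul_one] at h
    rw [← h]
    congr 1
    apply Finset.sum_congr rfl
    intro χ _
    rw [hdegC]
  obtain ⟨x, hxF', hxu⟩ : ∃ x ∈ F.erase χ1, (x : G → ℂ) u = 1 := by
    by_contra hcon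
    push_neg at hcon
    have h1 : ∑ χ ∈ F.erase χ1, (χ : G → ℂ) u * (Cfsg.charDegree (χ : G → ℂ) : ℂ)
        = -((∑ χ ∈ F.erase χ1, Cfsg.charDegree (χ : G → ℂ) : ℕ) : ℂ) := by
      rw [Nat.cast_sum, ← Finset.sum_neg_distrib]
      apply Finset.sum_congr rfl
      intro χ hχ
      rcases hsign χ (Finset.mem_of_mem_erase hχ) with h | h
      · exact absurd h (hcon χ hχ)
      · rw [h]
        ring
    rw [h1] at hrel1
    have h2 : ((∑ χ ∈ F.erase χ1, Cfsg.charDegree (χ : G → ℂ) : ℕ) : ℂ) = ((1 : ℕ) : ℂ) := by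
      rw [Nat.cast_one]
      linear_combination -hrel1
    have h3 : ∑ χ ∈ F.erase χ1, Cfsg.charDegree (χ : G → ℂ) = 1 := Nat.cast_injective h2
    have h4 : (F.erase χ1).card ≤ ∑ χ ∈ F.erase χ1, Cfsg.charDegree (χ : G → ℂ) := by
      have := Finset.card_nsmul_le_sum (F.erase χ1) (fun χ => Cfsg.charDegree (χ : G → ℂ)) 1
        (fun χ _ => hdegpos χ)
      simpa using this
    omega
  obtain ⟨z, hzF', hzu⟩ : ∃ z ∈ F.erase χ1, (z : G → ℂ) u = -1 := by
    by_contra hcon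
    push_neg at hcon
    have h1 : ∑ χ ∈ F.erase χ1, (χ : G → ℂ) u * (Cfsg.charDegree (χ : G → ℂ) : ℂ)
        = ((∑ χ ∈ F.erase χ1, Cfsg.charDegree (χ : G → ℂ) : ℕ) : ℂ) := by
      rw [Nat.cast_sum]
      apply Finset.sum_congr rfl
      intro χ hχ
      rcases hsign χ (Finset.mem_of_mem_erase hχ) with h | h
      · rw [h, one_mul]
      · exact absurd h (hcon χ hχ)
    rw [h1] at hrel1
    have h2 : ((1 + ∑ χ ∈ F.erase χ1, Cfsg.charDegree (χ : G → ℂ) : ℕ) : ℂ) = ((0 : ℕ) : ℂ) := by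
      rw [Nat.cast_add, Nat.cast_one, Nat.cast_zero]
      exact hrel1
    have h3 := Nat.cast_injective h2
    omega
  have hxz : x ≠ z := by
    intro h
    rw [h, hzu] at hxu
    norm_num at hxu
  have hzmem : z ∈ (F.erase χ1).erase x := Finset.mem_erase.mpr ⟨fun h => hxz h.symm, hzF'⟩
  have hc1 : (((F.erase χ1).erase x).erase z).card = 1 := by
    rw [Finset.card_erase_of_mem hzmem, Finset.card_erase_of_mem hxF', hF'card]
  obtain ⟨y, hy⟩ := Finset.card_eq_one.mp hc1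
  have hymem : y ∈ ((F.erase χ1).erase x).erase z := by
    rw [hy]
    exact Finset.mem_singleton_self y
  have hyz : y ≠ z := (Finset.mem_erase.mp hymem).1
  have hyx : y ≠ x := (Finset.mem_erase.mp (Finset.mem_erase.mp hymem).2).1
  have hyF' : y ∈ F.erase χ1 := (Finset.mem_erase.mp (Finset.mem_erase.mp hymem).2).2
  have hx1 : x ≠ χ1 := (Finset.mem_erase.mp hxF').1
  have hy1 : y ≠ χ1 := (Finset.mem_erase.mp hyF').1
  have hz1 : z ≠ χ1 := (Finset.mem_erase.mp hzF').1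
  have hFmem : ∀ χ : Cfsg.IrrCharacter G, χ ∈ F ↔ (χ = χ1 ∨ χ = x ∨ χ = y ∨ χ = z) := by
    intro χ
    constructor
    · intro hχ
      by_cases h1 : χ = χ1
      · exact Or.inl h1
      by_cases h2 : χ = x
      · exact Or.inr (Or.inl h2)
      by_cases h3 : χ = z
      · exact Or.inr (Or.inr (Or.inr h3))
      have h4 : χ ∈ ((F.erase χ1).erase x).erase z :=
        Finset.mem_erase.mpr ⟨h3, Finset.mem_erase.mpr ⟨h2, Finset.mem_erase.mpr ⟨h1, hχ⟩⟩⟩
      rw [hy, Finset.mem_singleton] at h4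
      exact Or.inr (Or.inr (Or.inl h4))
    · rintro (h | h | h | h)
      · rw [h]; exact hχ1F
      · rw [h]; exact Finset.mem_of_mem_erase hxF'
      · rw [h]; exact Finset.mem_of_mem_erase hyF'
      · rw [h]; exact Finset.mem_of_mem_erase hzF'
  have hFeq : F = {χ1, x, y, z} := by
    ext χ
    rw [hFmem χ]
    simp
  obtain ⟨ε, hε, hyu⟩ : ∃ ε : ℤ, (ε = 1 ∨ ε = -1) ∧ (y : G → ℂ) u = (ε : ℂ) := by
    rcases hsign y (Finset.mem_of_mem_erase hyF') with h | h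
    · exact ⟨1, Or.inl rfl, by rw [h]; norm_num⟩
    · exact ⟨-1, Or.inr rfl, by rw [h]; norm_num⟩
  -- degrees modulo four
  have hdeg4 : ∀ (χ : Cfsg.IrrCharacter G) (δ : ℤ), (χ : G → ℂ) u = (δ : ℂ) →
      (4 : ℤ) ∣ (Cfsg.charDegree (χ : G → ℂ) : ℤ) - δ := by
    intro χ δ hδ
    obtain ⟨n, hn⟩ := Cfsg.Agent.Lib.Helper1.IsCharacter.classInner_nat
      (Cfsg.Agent.Lib.Helper1.IsCharacter.restrict
        (Cfsg.Agent.Lib.Helper1.IsIrrCharacter.isCharacter χ.2) (P : Subgroup G))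
      (Cfsg.Agent.Lib.Helper1.isCharacter_one (G := (P : Subgroup G)))
    unfold Cfsg.classInner at hn
    have hvalP : ∀ a : (P : Subgroup G), (χ : G → ℂ) (a : G) * (starRingEnd ℂ) (1 : ℂ) =
        if a = 1 then (Cfsg.charDegree (χ : G → ℂ) : ℂ) else (δ : ℂ) := by
      intro a
      rw [map_one, mul_one]
      by_cases ha : a = 1
      · rw [if_pos ha, ha, Subgroup.coe_one, hdegC]
      · rw [if_neg ha]
        have haa : (a : G) * (a : G) = 1 := congrArg Subtype.val (hexp a)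
        have ha1 : (a : G) ≠ 1 := fun h => ha (Subtype.ext h)
        have hao : orderOf (a : G) = 2 := orderOf_eq_prime (by rw [pow_two]; exact haa) ha1
        rw [hconjval χ (a : G) hao, hδ]
    rw [Finset.sum_congr rfl (fun a _ => hvalP a),
      ← Finset.add_sum_erase Finset.univ _ (Finset.mem_univ (1 : (P : Subgroup G))), if_pos rfl,
      Finset.sum_congr rfl (fun a ha => if_neg (Finset.ne_of_mem_erase ha)),
      Finset.sum_const, Finset.card_erase_of_mem (Finset.mem_univ _), Finset.card_univ,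
      ← Nat.card_eq_fintype_card, hcard] at hn
    have h4 : ((Cfsg.charDegree (χ : G → ℂ) : ℤ) : ℂ) + 3 * (δ : ℂ) = 4 * ((n : ℤ) : ℂ) := by
      have h5 : ((4 : ℕ) : ℂ) ≠ 0 := by norm_num
      field_simp at hn
      push_cast
      have : ((4 - 1 : ℕ) : ℂ) = 3 := by norm_num
      simp only [nsmul_eq_mul] at hn
      rw [this] at hn
      linear_combination hn
    have h6 : (Cfsg.charDegree (χ : G → ℂ) : ℤ) + 3 * δ = 4 * (n : ℤ) := by
      exact_mod_cast h4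
    exact ⟨(n : ℤ) - δ, by linarith⟩
  refine ⟨x, y, z, ε, hε, ?_, ?_, fun h => hyx h.symm, hxz, hyz, ?_, ?_, ?_, ?_, ?_, ?_⟩
  · exact fun h => hx1 ((hχ1eq x).mp h)
  · exact fun h => hy1 ((hχ1eq y).mp h)
  · ext χ
    rw [← hmemF χ, hFmem χ, Set.mem_setOf_eq, hχ1eq χ]
  · intro t ht
    rw [hconjval x t ht, hconjval y t ht, hconjval z t ht]
    exact ⟨hxu, hyu, hzu⟩
  · have := hdeg4 x 1 (by rw [hxu]; norm_num)
    exact this
  · exact hdeg4 y ε hyu
  · have := hdeg4 z (-1) (by rw [hzu]; norm_num)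
    rw [sub_neg_eq_add] at this
    exact this
  · intro t ht
    have h := horth t ht
    have hn1 : χ1 ∉ ({x, y, z} : Finset (Cfsg.IrrCharacter G)) := by
      simp only [Finset.mem_insert, Finset.mem_singleton, not_or]
      exact ⟨fun h => hx1 h.symm, fun h => hy1 h.symm, fun h => hz1 h.symm⟩
    have hn2 : x ∉ ({y, z} : Finset (Cfsg.IrrCharacter G)) := by
      simp only [Finset.mem_insert, Finset.mem_singleton, not_or]
      exact ⟨fun h => hyx h.symm, hxz⟩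
    have hn3 : y ∉ ({z} : Finset (Cfsg.IrrCharacter G)) := by
      simp only [Finset.mem_singleton]
      exact hyz
    rw [hFeq, Finset.sum_insert hn1, Finset.sum_insert hn2, Finset.sum_insert hn3,
      Finset.sum_singleton, hχ1val, hχ1val, hxu, hyu, hzu] at h
    linear_combination h

end Cfsg.Agent.S0948
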