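import Mathlib
import Cfsg.Statements.S0974
import Cfsg.Agent.Lib.Helper6.TIPrime4

set_option autoImplicit false
open Cfsg

namespace Cfsg.Agent.S0974

/-- No finite simple group has order 3648 = 2^6 * 3 * 19. -/
theorem result {G : Type*} [Group G] [Finite G] [IsSimpleGroup G] : Nat.card G ≠ 3648 := by
  intro hcard
  classical
  obtain ⟨_⟩ := nonempty_fintype G
  haveI hfinIrr : Fintype (Cfsg.IrrCharacter G) := Cfsg.Agent.Lib.Helper1.irrFintype
  obtain ⟨⟨P, hP⟩, hna⟩ := Cfsg.Agent.Lib.Helper6.TIPrime.exists_tiHyp (G := G) 19 2 96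
    (by norm_num) (by norm_num) (by norm_num) (by rw [hcard]) (by norm_num) (by
      intro n hn h
      have h2 : n ∈ Nat.divisors 192 := Nat.mem_divisors.mpr ⟨hn, by norm_num⟩
      have h3 : Nat.divisors 192 = {1,2,3,4,6,8,12,16,24,32,48,64,96,192} := by decide
      rw [h3] at h2
      simp only [Finset.mem_insert, Finset.mem_singleton] at h2
      rcases h2 with rfl|rfl|rfl|rfl|rfl|rfl|rfl|rfl|rfl|rfl|rfl|rfl|rfl|rfl <;> simp_all)
  obtain ⟨d, a, ε, δ, ψ', hε, hδ, hψ', ha, hd0, hdvd, hadvd, hbound, hdmod, hamod, hrel⟩ :=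
    hP.endgame2 (by norm_num)
  rw [hcard] at hdvd hadvd hbound
  norm_num at hbound
  have hd20 : d ≤ 20 := by nlinarith
  have ha1 : a = 1 := by
    unfold Int.ModEq at hdmod hamod
    push_cast at hdmod hamod
    rcases hε with rfl | rfl
    · have hd2 : d = 2 := by omega
      subst hd2
      rcases hδ with rfl | rfl <;> omega
    · have hd17 : d = 17 := by omega
      subst hd17
      norm_num at hdvd
  exact hψ' (Cfsg.Agent.Lib.Helper6.TIPrime.linear_trivial hna ψ' (ha.trans ha1))

end Cfsg.Agent.S0974
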