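import Mathlib
import Cfsg.Statements.S0975
import Cfsg.Agent.Lib.Helper6.TIPrime4

set_option autoImplicit false
open Cfsg

namespace Cfsg.Agent.S0975

/-- No finite simple group has order 3744 = 2^5 * 3^2 * 13. -/
theorem result {G : Type*} [Group G] [Finite G] [IsSimpleGroup G] : Nat.card G ≠ 3744 := by
  intro hcard
  classical
  obtain ⟨_⟩ := nonempty_fintype G
  haveI hfinIrr : Fintype (Cfsg.IrrCharacter G) := Cfsg.Agent.Lib.Helper1.irrFintype
  obtain ⟨⟨P, hP⟩, hna⟩ := Cfsg.Agent.Lib.Helper6.TIPrime.exists_tiHyp (G := G) 13 2 144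
    (by norm_num) (by norm_num) (by norm_num) (by rw [hcard]) (by norm_num) (by
      intro n hn h
      have h2 : n ∈ Nat.divisors 288 := Nat.mem_divisors.mpr ⟨hn, by norm_num⟩
      have h3 : Nat.divisors 288 = {1,2,3,4,6,8,9,12,16,18,24,32,36,48,72,96,144,288} := by
        decide
      rw [h3] at h2
      simp only [Finset.mem_insert, Finset.mem_singleton] at h2
      rcases h2 with rfl|rfl|rfl|rfl|rfl|rfl|rfl|rfl|rfl|rfl|rfl|rfl|rfl|rfl|rfl|rfl|rfl|rfl <;>
        simp_all)
  obtain ⟨d, a, ε, δ, ψ', hε, hδ, hψ', ha, hd0, hdvd, hadvd, hbound, hdmod, hamod, hrel⟩ :=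
    hP.endgame2 (by norm_num)
  rw [hcard] at hdvd hadvd hbound
  norm_num at hbound
  have hd24 : d ≤ 24 := by nlinarith
  have ha1 : a = 1 := by
    unfold Int.ModEq at hdmod hamod
    push_cast at hdmod hamod
    rcases hε with rfl | rfl
    · have hd2 : d = 2 ∨ d = 15 := by omega
      rcases hd2 with rfl | rfl
      · rcases hδ with rfl | rfl <;> omega
      · norm_num at hdvd
    · have hd11 : d = 11 ∨ d = 24 := by omega
      rcases hd11 with rfl | rfl
      · norm_num at hdvd
      · rcases hδ with rfl | rfl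
        · omega
        · have ha25 : a = 25 := by omega
          subst ha25
          norm_num at hbound
  exact hψ' (Cfsg.Agent.Lib.Helper6.TIPrime.linear_trivial hna ψ' (ha.trans ha1))

end Cfsg.Agent.S0975
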