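import Mathlib
import Cfsg.Statements.S0979
import Cfsg.Agent.Lib.Helper6.TIPrime4

set_option autoImplicit false
open Cfsg

namespace Cfsg.Agent.S0979

/-- No finite simple group has order 5472 = 2^5 * 3^2 * 19. -/
theorem result {G : Type*} [Group G] [Finite G] [IsSimpleGroup G] : Nat.card G ≠ 5472 := by
  intro hcard
  classical
  obtain ⟨_⟩ := nonempty_fintype G
  haveI hfinIrr : Fintype (Cfsg.IrrCharacter G) := Cfsg.Agent.Lib.Helper1.irrFintype
  obtain ⟨⟨P, hP⟩, hna⟩ := Cfsg.Agent.Lib.Helper6.TIPrime.exists_tiHyp (G := G) 19 3 96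
    (by norm_num) (by norm_num) (by norm_num) (by rw [hcard]) (by norm_num) (by
      intro n hn h
      have h2 : n ∈ Nat.divisors 288 := Nat.mem_divisors.mpr ⟨hn, by norm_num⟩
      have h3 : Nat.divisors 288 = {1,2,3,4,6,8,9,12,16,18,24,32,36,48,72,96,144,288} := by
        decide
      rw [h3] at h2
      simp only [Finset.mem_insert, Finset.mem_singleton] at h2
      rcases h2 with rfl|rfl|rfl|rfl|rfl|rfl|rfl|rfl|rfl|rfl|rfl|rfl|rfl|rfl|rfl|rfl|rfl|rfl <;>
        simp_all)
  obtain ⟨d, a, b, ε, δ₁, δ₂, ψ₁, ψ₂, hε, hδ₁, hδ₂, hψ₁, hψ₂, ha, hb, hd0, hdvd, hadvd, hbdvd,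
    hbounda, hboundb, hdmod, hamod, hbmod, hrel⟩ := hP.endgame3 (by norm_num)
  rw [hcard] at hdvd hadvd hbdvd hbounda hboundb
  norm_num at hbounda hboundb
  have hd30 : d ≤ 30 := by nlinarith
  have hab : a = 1 ∨ b = 1 := by
    unfold Int.ModEq at hdmod hamod hbmod
    push_cast at hdmod hamod hbmod
    rcases hε with rfl | rfl
    · have hd3 : d = 3 ∨ d = 22 := by omega
      rcases hd3 with rfl | rfl
      · have ha73 : a ≤ 73 := by nlinarith
        have hb73 : b ≤ 73 := by nlinarith
        rcases hδ₁ with rfl | rfl <;> rcases hδ₂ with rfl | rfl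
        · left; omega
        · have h1 : a = 20 ∨ a = 39 ∨ a = 58 := by omega
          rcases h1 with rfl | rfl | rfl <;> norm_num at hadvd
        · have h1 : b = 20 ∨ b = 39 ∨ b = 58 := by omega
          rcases h1 with rfl | rfl | rfl <;> norm_num at hbdvd
        · omega
      · norm_num at hdvd
    · have hd16 : d = 16 := by omega
      subst hd16
      have ha62 : a ≤ 62 := by nlinarith
      have hb62 : b ≤ 62 := by nlinarith
      rcases hδ₁ with rfl | rfl <;> rcases hδ₂ with rfl | rfl
      · omega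
      · have h1 : a = 1 ∨ a = 20 ∨ a = 39 := by omega
        rcases h1 with rfl | rfl | rfl
        · left; rfl
        · norm_num at hadvd
        · norm_num at hadvd
      · have h1 : b = 1 ∨ b = 20 ∨ b = 39 := by omega
        rcases h1 with rfl | rfl | rfl
        · right; rfl
        · norm_num at hbdvd
        · norm_num at hbdvd
      · omega
  rcases hab with h1 | h1
  · exact hψ₁ (Cfsg.Agent.Lib.Helper6.TIPrime.linear_trivial hna ψ₁ (ha.trans h1))
  · exact hψ₂ (Cfsg.Agent.Lib.Helper6.TIPrime.linear_trivial hna ψ₂ (hb.trans h1))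

end Cfsg.Agent.S0979
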