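import Cfsg.Statements.S0994
import Mathlib
import Cfsg.Agent.Lib.Helper13.SmallSimple

set_option autoImplicit false
open Cfsg

namespace Cfsg.Agent.S0994

open Cfsg.Agent.Lib.Helper13.SmallSimple Cfsg.Agent.Lib.Helper2.SimpleIndex

/-- No finite simple group has order 1188 = 2^2 * 3^3 * 11. -/
theorem result {G : Type*} [Group G] [Finite G] [IsSimpleGroup G] : Nat.card G ≠ 1188 := by
  intro hN
  have : Fact (Nat.Prime 11) := ⟨by norm_num⟩
  obtain ⟨P⟩ : Nonempty (Sylow 11 G) := inferInstance
  have hP : Nat.card (P : Subgroup G) = 11 := by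
    have := sylow_card_of 1 108 (by rw [hN]; norm_num) (by norm_num) P
    simpa using this
  have hidx : (P : Subgroup G).index = 108 := sylow_index_of 1 108 (by rw [hN]; norm_num) (by norm_num) P
  have hdvd := P.card_dvd_index
  rw [hidx] at hdvd
  have hmod : Nat.card (Sylow 11 G) % 11 = 1 := card_sylow_modEq_one 11 G
  have hne := card_sylow_ne_one P (by rw [hP]; norm_num) (by rw [hP, hN]; norm_num)
  have hNP := card_normalizer_mul P
  have h12 : Nat.card (Sylow 11 G) = 12 := by
    obtain ⟨n, hn⟩ : ∃ n, n = Nat.card (Sylow 11 G) := ⟨_, rfl⟩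
    rw [← hn] at hdvd hmod hne ⊢
    have hle : n ≤ 108 := Nat.le_of_dvd (by norm_num) hdvd
    have h0 : 108 % n = 0 := Nat.mod_eq_zero_of_dvd hdvd
    interval_cases n <;> omega
  rw [h12, hN] at hNP
  have hNP' : Nat.card (Subgroup.normalizer ((P : Subgroup G) : Set G)) = 99 := by omega
  exact false_of_normalizer_le_centralizer P (by rw [hP]; norm_num) (by rw [hP, hN]; norm_num)
    (normalizer_le_centralizer_of_coprime P hP (by rw [hNP']; decide))

end Cfsg.Agent.S0994
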