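import Cfsg.Statements.S1155
import Cfsg.Agent.Lib.Helper7.ReeSyl

set_option autoImplicit false
open Cfsg

namespace Cfsg.Agent.S1155

open Cfsg.Lie Cfsg.Agent.Lib.Helper7.ReeSyl

/-- In the small Ree group ²G₂(q), q = 3^(2m+1) with m ≥ 1, realised as G¹ inside the Chevalley group G₂ over the field with q elements (θ the 3^m-th power map): distinct Sylow 3-subgroups of `G¹` meet trivially. -/
theorem result {K : Type*} [Field K] [Fintype K] {m : ℕ} (hm : 1 ≤ m) (hK : Fintype.card K = 3 ^ (2 * m + 1))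
    (P Q : Sylow 3 ↥(Cfsg.Lie.twistedG2 K (3 ^ m))) (hPQ : P ≠ Q) : (P : Subgroup ↥(Cfsg.Lie.twistedG2 K (3 ^ m))) ⊓ (Q : Subgroup ↥(Cfsg.Lie.twistedG2 K (3 ^ m))) = ⊥ := by
  exact syl_ree hK P Q hPQ

end Cfsg.Agent.S1155
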