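import Mathlib
import Cfsg.Statements.S1187
import Cfsg.Agent.Lib.Helper29.IsoSyl
-- import your own Cfsg.Agent.* helpers here

set_option autoImplicit false
open Cfsg

namespace Cfsg.Agent.S1187

open Cfsg.Agent.Lib.Helper8.IsoInv Cfsg.Agent.Lib.Helper29

/-- A `z`-invariant `p`-subgroup (`p` odd) that is not a Sylow subgroup lies properly in a
larger `z`-invariant `p`-subgroup, for `z` an isolated involution. -/
theorem exists_larger {G : Type*} [Group G] [Finite G] (z : G) (hz : Cfsg.IsIsolatedInvolution z)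
    {p : ℕ} [Fact p.Prime] (hp2 : p ≠ 2) (Q : Subgroup G) (n : ℕ) (hQcard : Nat.card Q = p ^ n)
    (hzQ : z ∈ Subgroup.normalizer (Q : Set G)) (hdvd : p ^ (n + 1) ∣ Nat.card G) :
    ∃ R : Subgroup G, IsPGroup p R ∧ z ∈ Subgroup.normalizer (R : Set G) ∧ Q ≤ R ∧ R ≠ Q := by
  have hp := (Fact.out : p.Prime)
  have hz2 := hz.1
  have hzz : z * z = 1 := mul_self_of_orderOf_two hz2
  have hzi : z⁻¹ = z := inv_eq_self_of_mul_self hzz
  obtain ⟨N, hN⟩ : ∃ N : Subgroup G, N = Subgroup.normalizer (Q : Set G) := ⟨_, rfl⟩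
  have hQN : Q ≤ N := by rw [hN]; exact Subgroup.le_normalizer
  have hzN : z ∈ N := by rw [hN]; exact hzQ
  haveI hQn : (Q.subgroupOf N).Normal := by
    rw [hN]
    exact Subgroup.normal_in_normalizer
  have hpdvd : p ∣ Nat.card (N ⧸ Q.subgroupOf N) := by
    have h := Sylow.prime_dvd_card_quotient_normalizer hdvd hQcard
    rw [hN]
    exact h
  have hzQ' : (⟨z, hzN⟩ : N) ∉ Q.subgroupOf N := by
    intro h
    have hzQmem : z ∈ Q := Subgroup.mem_subgroupOf.mp h
    have h1 : orderOf z ∣ Nat.card Q := Subgroup.orderOf_dvd_natCard _ hzQmem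
    rw [hz2, hQcard] at h1
    have h2 : 2 ∣ p := Nat.Prime.dvd_of_dvd_pow Nat.prime_two h1
    exact hp2 ((Nat.prime_dvd_prime_iff_eq Nat.prime_two hp).mp h2).symm
  have hisoN := IsoSyl.isolated_subgroup hz N hzN
  have hquot := (Cfsg.Agent.S1181.result (⟨z, hzN⟩ : N) hisoN (Q.subgroupOf N) hzQ').2
  obtain ⟨xb, hxb, hxb'⟩ := IsoSyl.claim _ (N ⧸ Q.subgroupOf N) rfl
    (QuotientGroup.mk (⟨z, hzN⟩ : N)) hquot p hp2 hpdvd
  obtain ⟨zb, hzb⟩ : ∃ zb : N ⧸ Q.subgroupOf N, zb = QuotientGroup.mk (⟨z, hzN⟩ : N) := ⟨_, rfl⟩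
  rw [← hzb] at hxb'
  -- the preimage of the subgroup generated by `xb`
  obtain ⟨R', hR'⟩ : ∃ R' : Subgroup N,
      R' = (Subgroup.zpowers xb).comap (QuotientGroup.mk' (Q.subgroupOf N)) := ⟨_, rfl⟩
  have hmemR' : ∀ r : N, r ∈ R' ↔ (QuotientGroup.mk r : N ⧸ Q.subgroupOf N) ∈ Subgroup.zpowers xb := by
    intro r
    rw [hR', Subgroup.mem_comap]
    rfl
  have hzbconj : ∀ y : N ⧸ Q.subgroupOf N, y ∈ Subgroup.zpowers xb →
      zb * y * zb⁻¹ ∈ Subgroup.zpowers xb := by
    intro y hy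
    obtain ⟨j, rfl⟩ := Subgroup.mem_zpowers_iff.mp hy
    have h1 : zb * xb ^ j * zb⁻¹ = (zb * xb * zb⁻¹) ^ j := (conj_zpow (a := zb) (b := xb) (i := j)).symm
    rw [h1]
    rcases hxb' with h | h
    · rw [h]
      exact Subgroup.zpow_mem _ (Subgroup.mem_zpowers xb) j
    · rw [h]
      exact Subgroup.zpow_mem _ (Subgroup.inv_mem _ (Subgroup.mem_zpowers xb)) j
  refine ⟨R'.map N.subtype, ?_, ?_, ?_, ?_⟩
  · -- a p-group
    rintro ⟨g, hg⟩
    obtain ⟨r, hr, rfl⟩ := hg
    refine ⟨n + 1, ?_⟩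
    apply Subtype.ext
    show ((r : N) : G) ^ p ^ (n + 1) = 1
    have hrp : r ^ p ∈ Q.subgroupOf N := by
      rw [← QuotientGroup.eq_one_iff, QuotientGroup.mk_pow]
      obtain ⟨j, hj⟩ := Subgroup.mem_zpowers_iff.mp ((hmemR' r).mp hr)
      rw [← hj, ← zpow_natCast, ← zpow_mul, mul_comm, zpow_mul, zpow_natCast, ← hxb,
        pow_orderOf_eq_one, one_zpow]
    have hrpQ : ((r : N) : G) ^ p ∈ Q := by
      have := Subgroup.mem_subgroupOf.mp hrp
      exact this
    have h1 : (⟨((r : N) : G) ^ p, hrpQ⟩ : Q) ^ Nat.card Q = 1 := pow_card_eq_one'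
    have h2 := congrArg Subtype.val h1
    rw [hQcard] at h2
    rw [pow_succ', pow_mul]
    exact h2
  · -- normalized by z
    have hconjR : ∀ h : G, h ∈ R'.map N.subtype → z * h * z⁻¹ ∈ R'.map N.subtype := by
      rintro _ ⟨r, hr, rfl⟩
      refine ⟨(⟨z, hzN⟩ : N) * r * (⟨z, hzN⟩ : N)⁻¹, ?_, rfl⟩
      apply (hmemR' _).mpr
      have h1 : (QuotientGroup.mk ((⟨z, hzN⟩ : N) * r * (⟨z, hzN⟩ : N)⁻¹) : N ⧸ Q.subgroupOf N)
          = zb * QuotientGroup.mk r * zb⁻¹ := by
        rw [hzb]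
        rfl
      rw [h1]
      exact hzbconj _ ((hmemR' r).mp hr)
    rw [Subgroup.mem_normalizer_iff]
    intro h
    constructor
    · exact hconjR h
    · intro hh
      have h1 := hconjR _ hh
      have h2 : z * (z * h * z⁻¹) * z⁻¹ = h := by
        rw [hzi]
        calc z * (z * h * z) * z = (z * z) * h * (z * z) := by group
          _ = h := by rw [hzz, one_mul, mul_one]
      rw [h2] at h1
      exact h1
  · -- contains Q
    intro q hq
    refine ⟨⟨q, hQN hq⟩, ?_, rfl⟩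
    apply (hmemR' _).mpr
    have h1 : (QuotientGroup.mk (⟨q, hQN hq⟩ : N) : N ⧸ Q.subgroupOf N) = 1 := by
      rw [QuotientGroup.eq_one_iff]
      exact Subgroup.mem_subgroupOf.mpr hq
    rw [h1]
    exact Subgroup.one_mem _
  · -- strictly larger
    intro heq
    obtain ⟨x₁, rfl⟩ := QuotientGroup.mk_surjective xb
    have h1 : ((x₁ : N) : G) ∈ R'.map N.subtype :=
      ⟨x₁, (hmemR' x₁).mpr (Subgroup.mem_zpowers _), rfl⟩
    rw [heq] at h1
    have h2 : (QuotientGroup.mk x₁ : N ⧸ Q.subgroupOf N) = 1 := by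
      rw [QuotientGroup.eq_one_iff]
      exact Subgroup.mem_subgroupOf.mpr h1
    rw [h2, orderOf_one] at hxb
    exact hp.one_lt.ne hxb

/-- Let z be an isolated involution of the finite group G and p a prime. If Q is a p-subgroup normalized by z that is maximal among p-subgroups normalized by z, then Q is a Sylow p-subgroup of G. -/
theorem result {G : Type*} [Group G] [Finite G] (z : G) (hz : Cfsg.IsIsolatedInvolution z) {p : ℕ} [Fact p.Prime] (Q : Subgroup G) (hQ : IsPGroup p Q) (hzQ : z ∈ Subgroup.normalizer (Q : Set G)) (hmax : ∀ R : Subgroup G, IsPGroup p R → z ∈ Subgroup.normalizer (R : Set G) → Q ≤ R → R = Q) : ∃ P : Sylow p G, (P : Subgroup G) = Q := by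
  have hp := (Fact.out : p.Prime)
  obtain ⟨n, hQcard⟩ := hQ.exists_card_eq
  have hGne : Nat.card G ≠ 0 := Nat.card_pos.ne'
  by_cases hdvd : p ^ (n + 1) ∣ Nat.card G
  · exfalso
    by_cases hp2 : p = 2
    · -- z lies in Q
      have hpz : IsPGroup p (Subgroup.zpowers z) :=
        IsPGroup.of_card (n := 1) (by rw [Nat.card_zpowers, hz.1, hp2]; norm_num)
      have hzle : Subgroup.zpowers z ≤ Subgroup.normalizer (Q : Set G) :=
        Subgroup.zpowers_le.mpr hzQ
      have hR : IsPGroup p (Q ⊔ Subgroup.zpowers z : Subgroup G) :=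
        IsPGroup.to_sup_of_normal_left' hQ hpz hzle
      have hzR : z ∈ (Q ⊔ Subgroup.zpowers z : Subgroup G) :=
        Subgroup.mem_sup_right (Subgroup.mem_zpowers z)
      have h1 := hmax _ hR (Subgroup.le_normalizer hzR) le_sup_left
      have hzQmem : z ∈ Q := by
        rw [← h1]
        exact hzR
      obtain ⟨K, hKcard, hQK⟩ := Sylow.exists_subgroup_card_pow_succ hdvd hQcard
      have h2 := hmax K (IsPGroup.of_card hKcard) (Subgroup.le_normalizer (hQK hzQmem)) hQK
      rw [h2, hQcard] at hKcard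
      have h3 := Nat.pow_right_injective hp.two_le hKcard
      omega
    · obtain ⟨R, hR1, hR2, hR3, hR4⟩ := exists_larger z hz hp2 Q n hQcard hzQ hdvd
      exact hR4 (hmax R hR1 hR2 hR3)
  · have hle : n ≤ (Nat.card G).factorization p := by
      rw [← Nat.Prime.pow_dvd_iff_le_factorization hp hGne, ← hQcard]
      exact Subgroup.card_subgroup_dvd_card Q
    have hnle : ¬ n + 1 ≤ (Nat.card G).factorization p := by
      rw [← Nat.Prime.pow_dvd_iff_le_factorization hp hGne]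
      exact hdvd
    have heq : n = (Nat.card G).factorization p := by omega
    rw [heq] at hQcard
    exact ⟨Sylow.ofCard Q hQcard, Sylow.coe_ofCard Q hQcard⟩

end Cfsg.Agent.S1187
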