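import Cfsg.Statements.S1247
import Cfsg.Agent.Lib.Helper9.Layer
import Cfsg.Agent.Lib.Helper9.Local
import Cfsg.Agent.Lib.Helper9.Coprime
import Cfsg.Agent.Lib.Helper10.Coprime
import Cfsg.Agent.Lib.Helper10.CN
import Cfsg.Agent.Lib.Helper16.FStar2
import Cfsg.Agent.S3754

set_option autoImplicit false
open Cfsg

namespace Cfsg.Agent.S1247

universe u

open scoped commutatorElement
open Cfsg.Agent.Lib.Helper9

section general

variable {X : Type u} [Group X] [Finite X]

/-- a `p`-subgroup normalized by the layer is centralized by it -/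
theorem layer_commute_pgroup {p : ℕ} [Fact p.Prime] {D : Subgroup X} (hD : IsPGroup p D)
    (hED : layer X ≤ Subgroup.normalizer (D : Set X)) : ⁅layer X, D⁆ = ⊥ := by
  have hEn : (layer X).Normal := layer_normal X
  have hT1 : ⁅layer X, D⁆ ≤ layer X ⊓ D := by
    apply le_inf
    · exact Subgroup.commutator_le_left _ _
    · rw [Subgroup.commutator_comm]
      exact Cfsg.Agent.Lib.Helper16.Basic.commutator_le_left_of_le_normalizer hED
  have hTsn : (layer X ⊓ D).IsSubnormal := by
    refine Subgroup.IsSubnormal.step _ (layer X) inf_le_left hEn.isSubnormal ?_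
    apply Subgroup.normal_subgroupOf_of_le_normalizer
    intro e he
    apply Cfsg.Agent.Lib.Helper10.Coprime.mem_normalizer_of_conj_mem
    intro t ht
    exact Subgroup.mem_inf.mpr
      ⟨(layer X).mul_mem ((layer X).mul_mem he (Subgroup.mem_inf.mp ht).1) ((layer X).inv_mem he),
        (Subgroup.mem_normalizer_iff.mp (hED he) t).mp (Subgroup.mem_inf.mp ht).2⟩
  have hTs : Group.IsSolvable ↥(layer X ⊓ D) := isSolvable_of_isPGroup (hD.to_le inf_le_right)
  have hcen := layer_le_centralizer_of_solvable hTsn hTs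
  have h1 : ⁅⁅layer X, D⁆, layer X⁆ = ⊥ := by
    rw [eq_bot_iff]
    calc ⁅⁅layer X, D⁆, layer X⁆ ≤ ⁅layer X ⊓ D, layer X⁆ := Subgroup.commutator_mono hT1 le_rfl
      _ = ⊥ := by
        rw [Subgroup.commutator_comm]
        exact Subgroup.commutator_eq_bot_iff_le_centralizer.mpr hcen
  have h2 : ⁅⁅D, layer X⁆, layer X⁆ = ⊥ := by
    rw [Subgroup.commutator_comm D]
    exact h1
  have h3 := Subgroup.commutator_commutator_eq_bot_of_rotate h1 h2
  rw [layer_perfect] at h3
  exact h3

/-- a `p`-group `D` acting on a nilpotent `p'`-group `H` and centralizing a subgroup `J₀` of `H`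
that contains its own centralizer in `H` centralizes `H` -/
theorem centralize_of_self_centralizing {p : ℕ} [Fact p.Prime] {H D J₀ : Subgroup X}
    (hHnil : Group.IsNilpotent ↥H) (hHc : (Nat.card H).Coprime p) (hD : IsPGroup p D)
    (hDH : D ≤ Subgroup.normalizer (H : Set X)) (hJH : J₀ ≤ H)
    (hJD : J₀ ≤ Subgroup.centralizer (D : Set X))
    (hself : ∀ c ∈ H, (∀ j ∈ J₀, j * c = c * j) → c ∈ J₀) :
    H ≤ Subgroup.centralizer (D : Set X) := by
  by_contra hne
  obtain ⟨J, hJ⟩ : ∃ J : Subgroup X, J = H ⊓ Subgroup.centralizer (D : Set X) := ⟨_, rfl⟩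
  have hJle : J ≤ H := by rw [hJ]; exact inf_le_left
  have hJcen : J ≤ Subgroup.centralizer (D : Set X) := by rw [hJ]; exact inf_le_right
  have hJ0 : J₀ ≤ J := by rw [hJ]; exact le_inf hJH hJD
  have hlt : J.subgroupOf H < ⊤ := by
    rw [lt_top_iff_ne_top]
    intro h
    rw [Subgroup.subgroupOf_eq_top] at h
    exact hne (h.trans hJcen)
  have hnc := Group.normalizerCondition_of_isNilpotent (G := ↥H) (J.subgroupOf H) hlt
  obtain ⟨x, hxN, hxJ⟩ := SetLike.exists_of_lt hnc
  apply hxJ
  rw [Subgroup.mem_subgroupOf, hJ]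
  refine Subgroup.mem_inf.mpr ⟨x.2, ?_⟩
  rw [Subgroup.mem_centralizer_iff]
  intro d hd
  have hxinv : ∀ j ∈ J, (x : X)⁻¹ * j * (x : X) ∈ J := by
    intro j hj
    have h1 := (Subgroup.mem_normalizer_iff.mp (Subgroup.inv_mem _ hxN) ⟨j, hJle hj⟩).mp
      (by rw [Subgroup.mem_subgroupOf]; exact hj)
    rw [Subgroup.mem_subgroupOf] at h1
    simpa using h1
  obtain ⟨c, hc⟩ : ∃ c, c = ⁅(x : X), d⁆ := ⟨_, rfl⟩
  have hcH : c ∈ H := by
    rw [hc, commutatorElement_def]
    have h1 : (x : X) * d * (x : X)⁻¹ * d⁻¹ = (x : X) * (d * (x : X)⁻¹ * d⁻¹) := by group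
    rw [h1]
    exact H.mul_mem x.2 ((Subgroup.mem_normalizer_iff.mp (hDH hd) _).mp (H.inv_mem x.2))
  have hcJ : ∀ j ∈ J, j * c = c * j := by
    intro j hj
    have e1 : d * ((x : X)⁻¹ * j * (x : X)) = (x : X)⁻¹ * j * (x : X) * d :=
      Subgroup.mem_centralizer_iff.mp (hJcen (hxinv j hj)) d hd
    have e2 : d * j = j * d := Subgroup.mem_centralizer_iff.mp (hJcen hj) d hd
    have e3 : j * d⁻¹ = d⁻¹ * j := by
      rw [eq_inv_mul_iff_mul_eq, ← mul_assoc, e2, mul_assoc, mul_inv_cancel, mul_one]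
    rw [hc, commutatorElement_def]
    calc j * ((x : X) * d * (x : X)⁻¹ * d⁻¹)
        = (x : X) * ((x : X)⁻¹ * j * (x : X) * d) * (x : X)⁻¹ * d⁻¹ := by group
      _ = (x : X) * (d * ((x : X)⁻¹ * j * (x : X))) * (x : X)⁻¹ * d⁻¹ := by rw [e1]
      _ = (x : X) * d * (x : X)⁻¹ * (j * d⁻¹) := by group
      _ = (x : X) * d * (x : X)⁻¹ * (d⁻¹ * j) := by rw [e3]
      _ = (x : X) * d * (x : X)⁻¹ * d⁻¹ * j := by group
  have hcJ0 : c ∈ J₀ := hself c hcH (fun j hj => hcJ j (hJ0 hj))
  have hcd : Commute c d := (Subgroup.mem_centralizer_iff.mp (hJD hcJ0) d hd).symm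
  obtain ⟨k, hk⟩ := hD ⟨d, hd⟩
  have hk' : d ^ p ^ k = 1 := congrArg Subtype.val hk
  have h1 := Cfsg.Agent.Lib.Helper16.Basic.conj_pow_eq (x : X) d (by rw [← hc]; exact hcd) (p ^ k)
  rw [hk', ← hc, mul_one, mul_one, mul_inv_cancel] at h1
  have hcard : c ^ Nat.card ↥H = 1 := by
    have h2 : (⟨c, hcH⟩ : ↥H) ^ Nat.card ↥H = 1 := pow_card_eq_one'
    exact congrArg Subtype.val h2
  have hc1 : c = 1 := Cfsg.Agent.Lib.Helper16.Basic.eq_one_of_pow_eq_one_of_coprime hcard h1.symm
    (Nat.Coprime.pow_right k hHc)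
  rw [hc, commutatorElement_eq_one_iff_mul_comm] at hc1
  exact hc1.symm

end general

section struc

variable {X : Type u} [Group X] [Finite X]

theorem layer_le_S {S : Subgroup X} (hSsn : S.IsSubnormal)
    (hSC : generalizedFittingSubgroup X ⊓ Subgroup.centralizer (S : Set X) ≤ S) :
    layer X ≤ S := by
  refine (layer_le_compIn_sup_compOut hSsn).trans (sup_le (compIn_le S) ?_)
  refine le_trans (le_inf ?_ (compOut_le_centralizer S)) hSC
  exact (compOut_le_layer S).trans (layer_le_gfitting X)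

theorem S_le_layer_sup {S : Subgroup X} (hSF : S ≤ generalizedFittingSubgroup X)
    (hSsn : S.IsSubnormal) : S ≤ layer X ⊔ (fittingSubgroup X ⊓ S) :=
  (subnormal_le_gfitting_decomp hSsn hSF).trans (sup_le_sup_right (compIn_le_layer S) _)

/-- an element of `F(X)` centralizing `F(X) ∩ S` lies in `S` -/
theorem mem_S_of_centralizes {S : Subgroup X} (hSF : S ≤ generalizedFittingSubgroup X)
    (hSsn : S.IsSubnormal)
    (hSC : generalizedFittingSubgroup X ⊓ Subgroup.centralizer (S : Set X) ≤ S)
    {c : X} (hc : c ∈ fittingSubgroup X)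
    (hcj : ∀ j ∈ fittingSubgroup X ⊓ S, j * c = c * j) : c ∈ S := by
  apply hSC
  refine Subgroup.mem_inf.mpr ⟨fitting_le_gfitting X hc, ?_⟩
  have h1 : S ≤ Subgroup.centralizer ({c} : Set X) := by
    refine (S_le_layer_sup hSF hSsn).trans (sup_le ?_ ?_)
    · intro e he
      rw [Subgroup.mem_centralizer_singleton_iff]
      exact commute_of_commutator_eq_bot (layer_commutator_fitting X) he hc
    · intro j hj
      rw [Subgroup.mem_centralizer_singleton_iff]
      exact hcj j hj
  rw [Subgroup.mem_centralizer_iff]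
  intro s hs
  have h2 := h1 hs
  rw [Subgroup.mem_centralizer_singleton_iff] at h2
  exact h2

/-- Part (a), inside the maximal subgroup. -/
theorem partA {q : ℕ} [Fact q.Prime] (hq : ¬ q ∣ Nat.card (fittingSubgroup X))
    {S : Subgroup X} (hSF : S ≤ generalizedFittingSubgroup X) (hSsn : S.IsSubnormal)
    (hSC : generalizedFittingSubgroup X ⊓ Subgroup.centralizer (S : Set X) ≤ S)
    {D : Subgroup X} (hD : IsPGroup q D) (hSD : S ≤ Subgroup.normalizer (D : Set X)) :
    D = ⊥ := by
  have hqp : q.Prime := Fact.out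
  have hFc : (Nat.card (fittingSubgroup X)).Coprime q :=
    ((Nat.Prime.coprime_iff_not_dvd hqp).mpr hq).symm
  have hFn : (fittingSubgroup X).Normal := fitting_normal X
  have hDF : D ⊓ fittingSubgroup X = ⊥ := by
    rw [eq_bot_iff]
    intro x hx
    rw [Subgroup.mem_bot]
    obtain ⟨k, hk⟩ := hD ⟨x, (Subgroup.mem_inf.mp hx).1⟩
    have hk' : x ^ q ^ k = 1 := congrArg Subtype.val hk
    exact Cfsg.Agent.Lib.Helper12.PSolvable.eq_one_of_coprime_of_pow k hk'
      (Nat.Coprime.coprime_dvd_left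
        (Subgroup.orderOf_dvd_natCard _ (Subgroup.mem_inf.mp hx).2) hFc)
  have hE := layer_le_S hSsn hSC
  have hED : ⁅layer X, D⁆ = ⊥ := layer_commute_pgroup hD (hE.trans hSD)
  have hSFD : fittingSubgroup X ⊓ S ≤ Subgroup.centralizer (D : Set X) := by
    rw [← Subgroup.commutator_eq_bot_iff_le_centralizer, eq_bot_iff, ← hDF]
    apply le_inf
    · rw [Subgroup.commutator_comm]
      exact Cfsg.Agent.Lib.Helper16.Basic.commutator_le_left_of_le_normalizer
        (inf_le_right.trans hSD)
    · exact (Subgroup.commutator_mono inf_le_left le_rfl).trans (Subgroup.commutator_le_left _ _)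
  have hFD : fittingSubgroup X ≤ Subgroup.centralizer (D : Set X) := by
    refine centralize_of_self_centralizing (p := q) (J₀ := fittingSubgroup X ⊓ S)
      (fitting_isNilpotent X) hFc hD ?_ inf_le_left hSFD ?_
    · rw [Subgroup.normalizer_eq_top]; exact le_top
    · intro c hc hcj
      exact Subgroup.mem_inf.mpr ⟨hc, mem_S_of_centralizes hSF hSsn hSC hc hcj⟩
  have hD' : D ≤ Subgroup.centralizer (generalizedFittingSubgroup X : Set X) := by
    rw [Subgroup.le_centralizer_iff]
    exact sup_le (Subgroup.commutator_eq_bot_iff_le_centralizer.mp hED) hFD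
  have hGn : (generalizedFittingSubgroup X).Normal := gfitting_normal X
  have hCn : (Subgroup.centralizer (generalizedFittingSubgroup X : Set X)).Normal :=
    Subgroup.normal_centralizer
  have hCle := centralizer_gfitting_le X
  have hCcomm : IsMulCommutative ↥(Subgroup.centralizer (generalizedFittingSubgroup X : Set X)) := by
    refine ⟨⟨fun a b => ?_⟩⟩
    apply Subtype.ext
    exact (Subgroup.mem_centralizer_iff.mp a.2 (b : X) (hCle b.2)).symm
  have hCnil : Group.IsNilpotent ↥(Subgroup.centralizer (generalizedFittingSubgroup X : Set X)) :=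
    isNilpotent_of_isMulCommutative _
  have hCF := le_fitting hCn hCnil
  rw [eq_bot_iff, ← hDF]
  exact le_inf le_rfl (hD'.trans hCF)

/-- Part (b), inside the maximal subgroup: a `p`-subgroup normalized by `S` centralizes
`E(X) O_{p'}(F(X))`. -/
theorem partB_core {p : ℕ} [Fact p.Prime]
    {S : Subgroup X} (hSF : S ≤ generalizedFittingSubgroup X) (hSsn : S.IsSubnormal)
    (hSC : generalizedFittingSubgroup X ⊓ Subgroup.centralizer (S : Set X) ≤ S)
    {D : Subgroup X} (hD : IsPGroup p D) (hSD : S ≤ Subgroup.normalizer (D : Set X)) :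
    layer X ⊔ (pPrimeCore p X ⊓ fittingSubgroup X) ≤ Subgroup.centralizer (D : Set X) := by
  have hE := layer_le_S hSsn hSC
  have hED : ⁅layer X, D⁆ = ⊥ := layer_commute_pgroup hD (hE.trans hSD)
  have hFn : (fittingSubgroup X).Normal := fitting_normal X
  have hKc : (Nat.card (pPrimeCore p X)).Coprime p := pPrimeCore_coprime p X
  have hHc : (Nat.card ↥(pPrimeCore p X ⊓ fittingSubgroup X)).Coprime p :=
    Nat.Coprime.coprime_dvd_left (Subgroup.card_dvd_of_le inf_le_left) hKc
  have hDK : D ⊓ pPrimeCore p X = ⊥ := by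
    rw [eq_bot_iff]
    intro x hx
    rw [Subgroup.mem_bot]
    obtain ⟨k, hk⟩ := hD ⟨x, (Subgroup.mem_inf.mp hx).1⟩
    have hk' : x ^ p ^ k = 1 := congrArg Subtype.val hk
    exact Cfsg.Agent.Lib.Helper12.PSolvable.eq_one_of_coprime_of_pow k hk'
      (Nat.Coprime.coprime_dvd_left
        (Subgroup.orderOf_dvd_natCard _ (Subgroup.mem_inf.mp hx).2) hKc)
  -- `D` centralizes `S ∩ O_{p'}(X)`
  have hSKD : pPrimeCore p X ⊓ S ≤ Subgroup.centralizer (D : Set X) := by
    rw [← Subgroup.commutator_eq_bot_iff_le_centralizer, eq_bot_iff, ← hDK]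
    apply le_inf
    · rw [Subgroup.commutator_comm]
      exact Cfsg.Agent.Lib.Helper16.Basic.commutator_le_left_of_le_normalizer
        (inf_le_right.trans hSD)
    · exact (Subgroup.commutator_mono inf_le_left le_rfl).trans (Subgroup.commutator_le_left _ _)
  -- `F(X) ≤ O_p(X) (O_{p'}(X) ∩ F(X))`
  have hdec : fittingSubgroup X ≤ pCore p X ⊔ (pPrimeCore p X ⊓ fittingSubgroup X) := by
    apply fitting_le_of_forall_pCore_le
    intro r hr
    by_cases hrp : r = p
    · subst hrp
      exact le_sup_left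
    · have : Fact r.Prime := ⟨hr⟩
      refine le_trans (le_inf ?_ (pCore_le_fitting r X)) le_sup_right
      apply le_pPrimeCore (pCore_normal r X)
      obtain ⟨n, hn⟩ := IsPGroup.iff_card.mp (pCore_isPGroup r X)
      rw [hn]
      exact Nat.Coprime.pow_left n ((Nat.coprime_primes hr Fact.out).mpr hrp)
  have hcomm : ⁅pCore p X, pPrimeCore p X ⊓ fittingSubgroup X⁆ = ⊥ := by
    rw [eq_bot_iff, ← pCore_commute_pPrimeCore p X]
    exact Subgroup.commutator_mono le_rfl inf_le_left
  refine sup_le (Subgroup.commutator_eq_bot_iff_le_centralizer.mp hED) ?_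
  refine centralize_of_self_centralizing (p := p)
    (J₀ := (pPrimeCore p X ⊓ fittingSubgroup X) ⊓ S)
    (isNilpotent_of_le inf_le_right (fitting_isNilpotent X)) hHc hD ?_ inf_le_left
    ((inf_le_inf_right S inf_le_left).trans hSKD) ?_
  · rw [Subgroup.normalizer_eq_top]; exact le_top
  · intro c hc hcj
    refine Subgroup.mem_inf.mpr ⟨hc, ?_⟩
    apply mem_S_of_centralizes hSF hSsn hSC (Subgroup.mem_inf.mp hc).2
    intro y hy
    have hyF := (Subgroup.mem_inf.mp hy).1
    have hyS := (Subgroup.mem_inf.mp hy).2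
    obtain ⟨a, ha, h, hh, rfl⟩ := (mem_sup_of_commute hcomm).mp (hdec hyF)
    have hah : Commute a h := commute_of_commutator_eq_bot hcomm ha hh
    -- `a` is a power of `a * h`
    have hhn : h ^ Nat.card ↥(pPrimeCore p X ⊓ fittingSubgroup X) = 1 := by
      have h2 : (⟨h, hh⟩ : ↥(pPrimeCore p X ⊓ fittingSubgroup X)) ^
          Nat.card ↥(pPrimeCore p X ⊓ fittingSubgroup X) = 1 := pow_card_eq_one'
      exact congrArg Subtype.val h2
    have hpow : (a * h) ^ Nat.card ↥(pPrimeCore p X ⊓ fittingSubgroup X) =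
        a ^ Nat.card ↥(pPrimeCore p X ⊓ fittingSubgroup X) := by
      rw [hah.mul_pow, hhn, mul_one]
    obtain ⟨k, hk⟩ := (pCore_isPGroup p X) ⟨a, ha⟩
    have hk' : a ^ p ^ k = 1 := congrArg Subtype.val hk
    have hcop : (Nat.card ↥(pPrimeCore p X ⊓ fittingSubgroup X)).Coprime (orderOf a) :=
      Nat.Coprime.coprime_dvd_right (orderOf_dvd_of_pow_eq_one hk') (Nat.Coprime.pow_right k hHc)
    obtain ⟨m, hm⟩ := exists_pow_eq_self_of_coprime hcop
    have haS : a ∈ S := by
      rw [← hm, ← hpow]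
      exact S.pow_mem (S.pow_mem hyS _) _
    have hhS : h ∈ S := by
      have h3 : h = a⁻¹ * (a * h) := by group
      rw [h3]
      exact S.mul_mem (S.inv_mem haS) hyS
    have hca : a * c = c * a :=
      commute_of_commutator_eq_bot (pCore_commute_pPrimeCore p X) ha (Subgroup.mem_inf.mp hc).1
    have hch : h * c = c * h := hcj h (Subgroup.mem_inf.mpr ⟨hh, hhS⟩)
    calc a * h * c = a * (h * c) := by group
      _ = a * (c * h) := by rw [hch]
      _ = (a * c) * h := by group
      _ = c * a * h := by rw [hca]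
      _ = c * (a * h) := by group

end struc

section struc2

variable {X : Type u} [Group X] [Finite X]

theorem fitting_le_pCore_sup (p : ℕ) [Fact p.Prime] :
    fittingSubgroup X ≤ pCore p X ⊔ (pPrimeCore p X ⊓ fittingSubgroup X) := by
  apply fitting_le_of_forall_pCore_le
  intro r hr
  by_cases hrp : r = p
  · subst hrp
    exact le_sup_left
  · have : Fact r.Prime := ⟨hr⟩
    refine le_trans (le_inf ?_ (pCore_le_fitting r X)) le_sup_right
    apply le_pPrimeCore (pCore_normal r X)
    obtain ⟨n, hn⟩ := IsPGroup.iff_card.mp (pCore_isPGroup r X)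
    rw [hn]
    exact Nat.Coprime.pow_left n ((Nat.coprime_primes hr Fact.out).mpr hrp)

/-- a nontrivial normal subgroup inside `F(X)` meets `Z(F*(X))` nontrivially -/
theorem exists_central (N : Subgroup X) [N.Normal] (hNF : N ≤ fittingSubgroup X) (hN : N ≠ ⊥) :
    N ⊓ (generalizedFittingSubgroup X ⊓
      Subgroup.centralizer (generalizedFittingSubgroup X : Set X)) ≠ ⊥ := by
  have hFn : (fittingSubgroup X).Normal := fitting_normal X
  have hnil : Group.IsNilpotent ↥(fittingSubgroup X) := fitting_isNilpotent X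
  have hN' : N.subgroupOf (fittingSubgroup X) ≠ ⊥ := by
    intro h
    apply hN
    rw [eq_bot_iff]
    intro n hn
    have h1 : (⟨n, hNF hn⟩ : ↥(fittingSubgroup X)) ∈ N.subgroupOf (fittingSubgroup X) := by
      rw [Subgroup.mem_subgroupOf]; exact hn
    rw [h, Subgroup.mem_bot] at h1
    rw [Subgroup.mem_bot]
    exact congrArg Subtype.val h1
  obtain ⟨z, hzN, hz1, hzc⟩ :=
    Cfsg.Agent.Lib.Helper10.CN.inf_center_ne_bot (N.subgroupOf (fittingSubgroup X)) hN'
  intro hbot
  apply hz1
  have hmem : (z : X) ∈ N ⊓ (generalizedFittingSubgroup X ⊓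
      Subgroup.centralizer (generalizedFittingSubgroup X : Set X)) := by
    refine Subgroup.mem_inf.mpr ⟨hzN, Subgroup.mem_inf.mpr ⟨fitting_le_gfitting X z.2, ?_⟩⟩
    rw [Subgroup.mem_centralizer_iff]
    intro g hg
    have hle : generalizedFittingSubgroup X ≤ Subgroup.centralizer ({(z : X)} : Set X) := by
      refine sup_le ?_ ?_
      · intro e he
        rw [Subgroup.mem_centralizer_singleton_iff]
        exact commute_of_commutator_eq_bot (layer_commutator_fitting X) he z.2
      · intro f hf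
        rw [Subgroup.mem_centralizer_singleton_iff]
        exact congrArg Subtype.val (hzc ⟨f, hf⟩)
    have h2 := hle hg
    rw [Subgroup.mem_centralizer_singleton_iff] at h2
    exact h2
  rw [hbot, Subgroup.mem_bot] at hmem
  exact Subtype.ext hmem

end struc2

section ambient

variable {G : Type*} [Group G] [Finite G]

/-- In a simple group, a nontrivial normal subgroup of a maximal subgroup `A` has normalizer `A`. -/
theorem normalizer_eq_of_normal [IsSimpleGroup G] (A : Subgroup G) (hA : IsCoatom A)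
    (N : Subgroup ↥A) [hNn : N.Normal] (hN : N ≠ ⊥) :
    Subgroup.normalizer ((N.map A.subtype : Subgroup G) : Set G) = A := by
  have hle : A ≤ Subgroup.normalizer ((N.map A.subtype : Subgroup G) : Set G) := by
    intro a ha
    apply Cfsg.Agent.Lib.Helper10.Coprime.mem_normalizer_of_conj_mem
    rintro _ ⟨n, hn, rfl⟩
    exact ⟨⟨a, ha⟩ * n * ⟨a, ha⟩⁻¹, hNn.conj_mem n hn ⟨a, ha⟩, rfl⟩
  have hne : Subgroup.normalizer ((N.map A.subtype : Subgroup G) : Set G) ≠ ⊤ := by
    intro h
    have hnorm : (N.map A.subtype).Normal := Subgroup.normalizer_eq_top_iff.mp h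
    rcases hnorm.eq_bot_or_eq_top with h1 | h1
    · apply hN
      exact (Subgroup.map_eq_bot_iff_of_injective N A.subtype_injective).mp h1
    · apply hA.1
      rw [eq_top_iff, ← h1]
      exact Subgroup.map_subtype_le N
  exact ((lt_or_eq_of_le hle).resolve_left (fun h => hne (hA.2 _ h))).symm

omit [Finite G] in
theorem subgroupOf_le_gfitting {A S : Subgroup G}
    (hSF : S ≤ (generalizedFittingSubgroup ↥A).map A.subtype) :
    S.subgroupOf A ≤ generalizedFittingSubgroup ↥A := by
  intro s hs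
  have hs' : (s : G) ∈ S := hs
  obtain ⟨y, hy, hye⟩ := hSF hs'
  have h1 : y = s := Subtype.ext hye
  rw [← h1]
  exact hy

theorem subgroupOf_isSubnormal {A S : Subgroup G}
    (hSF : S ≤ (generalizedFittingSubgroup ↥A).map A.subtype)
    (hSsn : (S.subgroupOf ((generalizedFittingSubgroup ↥A).map A.subtype)).IsSubnormal) :
    (S.subgroupOf A).IsSubnormal := by
  have h1 : ((S.subgroupOf ((generalizedFittingSubgroup ↥A).map A.subtype)).comap
      ((generalizedFittingSubgroup ↥A).equivMapOfInjective A.subtype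
        A.subtype_injective).toMonoidHom).IsSubnormal := hSsn.comap _
  have h2 : (S.subgroupOf ((generalizedFittingSubgroup ↥A).map A.subtype)).comap
      ((generalizedFittingSubgroup ↥A).equivMapOfInjective A.subtype
        A.subtype_injective).toMonoidHom =
      (S.subgroupOf A).subgroupOf (generalizedFittingSubgroup ↥A) := by
    ext x
    simp [Subgroup.mem_subgroupOf]
  rw [h2] at h1
  exact Subgroup.IsSubnormal.trans (subgroupOf_le_gfitting hSF) h1
    (gfitting_normal ↥A).isSubnormal

omit [Finite G] in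
theorem subgroupOf_self_centralizing {A S : Subgroup G}
    (hSF : S ≤ (generalizedFittingSubgroup ↥A).map A.subtype)
    (hSC : (generalizedFittingSubgroup ↥A).map A.subtype ⊓ Subgroup.centralizer (S : Set G) ≤ S) :
    generalizedFittingSubgroup ↥A ⊓ Subgroup.centralizer ((S.subgroupOf A : Subgroup ↥A) : Set ↥A) ≤
      S.subgroupOf A := by
  intro y hy
  obtain ⟨hyF, hyC⟩ := Subgroup.mem_inf.mp hy
  show (y : G) ∈ S
  apply hSC
  refine Subgroup.mem_inf.mpr ⟨⟨y, hyF, rfl⟩, ?_⟩
  rw [Subgroup.mem_centralizer_iff]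
  intro s hs
  obtain ⟨s', hs', rfl⟩ := hSF hs
  have h1 : s' ∈ S.subgroupOf A := hs
  have h2 := Subgroup.mem_centralizer_iff.mp hyC s' h1
  exact congrArg Subtype.val h2

theorem normalizer_subgroupOf {A S R : Subgroup G} (hSR : S ≤ Subgroup.normalizer (R : Set G)) :
    S.subgroupOf A ≤ Subgroup.normalizer (((R ⊓ A).subgroupOf A : Subgroup ↥A) : Set ↥A) := by
  intro s hs
  have hs' : (s : G) ∈ S := hs
  apply Cfsg.Agent.Lib.Helper10.Coprime.mem_normalizer_of_conj_mem
  intro d hd
  rw [Subgroup.mem_subgroupOf] at hd ⊢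
  refine Subgroup.mem_inf.mpr ⟨?_, (s * d * s⁻¹).2⟩
  simp only [Subgroup.coe_mul, Subgroup.coe_inv]
  exact (Subgroup.mem_normalizer_iff.mp (hSR hs') (d : G)).mp (Subgroup.mem_inf.mp hd).1

end ambient

/-- Let G be a non-abelian finite simple group, A a maximal subgroup, F = F*(A) its generalized Fitting subgroup (viewed in G), and S ≤ F a subgroup subnormal in F with C_F(S) ≤ S. Let B be any subgroup of G containing S. Then (a) for every prime q not dividing |F(A)|, O_q(B) ∩ A = 1; and (b) for every prime p dividing |F(A)|, O_p(B) commutes elementwise with the subgroup of F generated by its elements of order prime to p. -/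
theorem result {G : Type*} [Group G] [Finite G] [IsSimpleGroup G] (hna : ¬ IsMulCommutative G) (A : Subgroup G) (hA : IsCoatom A) (S : Subgroup G) (hSF : S ≤ (Cfsg.generalizedFittingSubgroup ↥A).map A.subtype) (hSsn : (S.subgroupOf ((Cfsg.generalizedFittingSubgroup ↥A).map A.subtype)).IsSubnormal) (hSC : (Cfsg.generalizedFittingSubgroup ↥A).map A.subtype ⊓ Subgroup.centralizer (S : Set G) ≤ S) (B : Subgroup G) (hSB : S ≤ B) : (∀ q : ℕ, q.Prime → ¬ q ∣ Nat.card (Cfsg.fittingSubgroup ↥A) → (Cfsg.pCore q ↥B).map B.subtype ⊓ A = ⊥) ∧ (∀ p : ℕ, p.Prime → p ∣ Nat.card (Cfsg.fittingSubgroup ↥A) → ∀ x ∈ (Cfsg.pCore p ↥B).map B.subtype, ∀ y ∈ (Cfsg.pResidual p ↥(Cfsg.generalizedFittingSubgroup ↥A)).map ((Cfsg.generalizedFittingSubgroup ↥A).subtype) , x * (A.subtype y) = (A.subtype y) * x) := by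
  have hS'F := subgroupOf_le_gfitting hSF
  have hS'sn := subgroupOf_isSubnormal hSF hSsn
  have hS'C := subgroupOf_self_centralizing hSF hSC
  constructor
  · intro q hq hqF
    haveI : Fact q.Prime := ⟨hq⟩
    obtain ⟨R, hR⟩ : ∃ R : Subgroup G, R = (Cfsg.pCore q ↥B).map B.subtype := ⟨_, rfl⟩
    rw [← hR]
    have hRp : IsPGroup q R := by
      rw [hR]; exact Cfsg.Agent.Lib.Helper16.Basic.pCoreOf_isPGroup
    have hBR : B ≤ Subgroup.normalizer (R : Set G) := by
      rw [hR]; exact Cfsg.Agent.Lib.Helper16.Basic.le_normalizer_pCoreOf B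
    have hD := partA (X := ↥A) hqF hS'F hS'sn hS'C (D := (R ⊓ A).subgroupOf A)
      ((hRp.to_le inf_le_left).comap_subtype) (normalizer_subgroupOf (hSB.trans hBR))
    rw [eq_bot_iff]
    intro x hx
    rw [Subgroup.mem_bot]
    have h1 : (⟨x, (Subgroup.mem_inf.mp hx).2⟩ : ↥A) ∈ (R ⊓ A).subgroupOf A := by
      rw [Subgroup.mem_subgroupOf]; exact hx
    rw [hD, Subgroup.mem_bot] at h1
    exact congrArg Subtype.val h1
  · intro p hp hpF x hx y hy
    haveI : Fact p.Prime := ⟨hp⟩
    obtain ⟨R, hR⟩ : ∃ R : Subgroup G, R = (Cfsg.pCore p ↥B).map B.subtype := ⟨_, rfl⟩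
    rw [← hR] at hx
    have hRp : IsPGroup p R := by
      rw [hR]; exact Cfsg.Agent.Lib.Helper16.Basic.pCoreOf_isPGroup
    have hBR : B ≤ Subgroup.normalizer (R : Set G) := by
      rw [hR]; exact Cfsg.Agent.Lib.Helper16.Basic.le_normalizer_pCoreOf B
    have hSR : S ≤ Subgroup.normalizer (R : Set G) := hSB.trans hBR
    have hDp : IsPGroup p ((R ⊓ A).subgroupOf A) := (hRp.to_le inf_le_left).comap_subtype
    have hcore := partB_core (X := ↥A) (p := p) hS'F hS'sn hS'C hDp (normalizer_subgroupOf hSR)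
    have hE' : layer ↥A ≤ S.subgroupOf A := layer_le_S hS'sn hS'C
    have hOp : pCore p ↥A ≠ ⊥ := by
      intro h
      have h1 := Cfsg.Agent.Lib.Helper16.FStar.fitting_coprime (p := p) h
      exact (Nat.Prime.coprime_iff_not_dvd hp).mp h1.symm hpF
    have hFsn : (generalizedFittingSubgroup ↥A).Normal := gfitting_normal ↥A
    have hCn : (Subgroup.centralizer (generalizedFittingSubgroup ↥A : Set ↥A)).Normal :=
      Subgroup.normal_centralizer
    have hFin : (fittingSubgroup ↥A).Normal := fitting_normal ↥A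
    have hLn : (layer ↥A).Normal := layer_normal ↥A
    have hS'Z : generalizedFittingSubgroup ↥A ⊓
        Subgroup.centralizer (generalizedFittingSubgroup ↥A : Set ↥A) ≤ S.subgroupOf A :=
      (inf_le_inf_left _ (Subgroup.centralizer_le hS'F)).trans hS'C
    have hU := exists_central (pCore p ↥A) (pCore_le_fitting p ↥A) hOp
    obtain ⟨U, hUdef⟩ : ∃ U : Subgroup ↥A, U = pCore p ↥A ⊓ (generalizedFittingSubgroup ↥A ⊓
        Subgroup.centralizer (generalizedFittingSubgroup ↥A : Set ↥A)) := ⟨_, rfl⟩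
    rw [← hUdef] at hU
    have hUn : U.Normal := by rw [hUdef]; infer_instance
    have hNU := normalizer_eq_of_normal A hA U hU
    have hUS : U ≤ S.subgroupOf A := by
      rw [hUdef]; exact inf_le_right.trans hS'Z
    have hUZ : U ≤ Subgroup.centralizer (generalizedFittingSubgroup ↥A : Set ↥A) := by
      rw [hUdef]; exact inf_le_right.trans inf_le_right
    have hUp : IsPGroup p (U.map A.subtype) := by
      rw [hUdef]
      exact ((pCore_isPGroup p ↥A).to_le inf_le_left).map _
    have key : ∀ a : ↥A, a ∈ S.subgroupOf A →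
        a ∈ layer ↥A ⊔ (pPrimeCore p ↥A ⊓ fittingSubgroup ↥A) → (orderOf a).Coprime p →
        ∀ x ∈ R, (a : G) * x = x * (a : G) := by
      intro a haS haM hac
      have ha' : (orderOf (a : G)).Coprime p := by
        rw [Subgroup.orderOf_coe]; exact hac
      refine thompson_AxB ha' hUp hRp ?_ (hSR haS) ?_ ?_
      · rintro _ ⟨b, hb, rfl⟩
        have h1 := Subgroup.mem_centralizer_iff.mp (hUZ hb) a (hS'F haS)
        exact congrArg Subtype.val h1
      · rintro _ ⟨b, hb, rfl⟩
        exact hSR (hUS hb)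
      · intro x hxR hxU
        have hxN : x ∈ Subgroup.normalizer ((U.map A.subtype : Subgroup G) : Set G) :=
          Subgroup.centralizer_le_normalizer _ (Subgroup.mem_centralizer_iff.mpr hxU)
        rw [hNU] at hxN
        have hxD : (⟨x, hxN⟩ : ↥A) ∈ (R ⊓ A).subgroupOf A := by
          rw [Subgroup.mem_subgroupOf]; exact Subgroup.mem_inf.mpr ⟨hxR, hxN⟩
        have h1 := Subgroup.mem_centralizer_iff.mp (hcore haM) ⟨x, hxN⟩ hxD
        exact (congrArg Subtype.val h1).symm
    have gen : ∀ y : ↥A, y ∈ generalizedFittingSubgroup ↥A → (orderOf y).Coprime p →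
        ∀ x ∈ R, x * (y : G) = (y : G) * x := by
      intro y hyF hyc x hxR
      have hMn : (layer ↥A ⊔ (pPrimeCore p ↥A ⊓ fittingSubgroup ↥A)).Normal := inferInstance
      have hyM : y ∈ layer ↥A ⊔ (pPrimeCore p ↥A ⊓ fittingSubgroup ↥A) := by
        refine Cfsg.Agent.S3754.mem_of_coprime_of_mem_sup (pCore_isPGroup p ↥A)
          (by rw [Subgroup.normalizer_eq_top]; exact le_top) ?_ hyc
        have hle : generalizedFittingSubgroup ↥A ≤
            (layer ↥A ⊔ (pPrimeCore p ↥A ⊓ fittingSubgroup ↥A)) ⊔ pCore p ↥A := by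
          refine sup_le (le_sup_left.trans le_sup_left) ?_
          refine (fitting_le_pCore_sup p).trans (sup_le le_sup_right ?_)
          exact le_sup_right.trans le_sup_left
        exact hle hyF
      by_cases hH : pPrimeCore p ↥A ⊓ fittingSubgroup ↥A = ⊥
      · have hyE : y ∈ layer ↥A := by
          have h1 := hyM
          rw [hH, sup_bot_eq] at h1
          exact h1
        exact (key y (hE' hyE) hyM hyc x hxR).symm
      · have hHn : (pPrimeCore p ↥A ⊓ fittingSubgroup ↥A).Normal := inferInstance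
        have hV := exists_central (pPrimeCore p ↥A ⊓ fittingSubgroup ↥A) inf_le_right hH
        obtain ⟨V, hVdef⟩ : ∃ V : Subgroup ↥A, V = (pPrimeCore p ↥A ⊓ fittingSubgroup ↥A) ⊓
            (generalizedFittingSubgroup ↥A ⊓
              Subgroup.centralizer (generalizedFittingSubgroup ↥A : Set ↥A)) := ⟨_, rfl⟩
        rw [← hVdef] at hV
        have hVn : V.Normal := by rw [hVdef]; infer_instance
        have hNV := normalizer_eq_of_normal A hA V hV
        have hxA : x ∈ A := by
          rw [← hNV]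
          apply Subgroup.centralizer_le_normalizer
          rw [Subgroup.mem_centralizer_iff]
          rintro _ ⟨v, hv, rfl⟩
          rw [hVdef] at hv
          have hvH := (Subgroup.mem_inf.mp hv).1
          have hvZ := (Subgroup.mem_inf.mp hv).2
          have hvc : (orderOf v).Coprime p :=
            Nat.Coprime.coprime_dvd_left
              (Subgroup.orderOf_dvd_natCard _ (Subgroup.mem_inf.mp hvH).1)
              (pPrimeCore_coprime p ↥A)
          exact key v (hS'Z hvZ) (Subgroup.mem_sup_right hvH) hvc x hxR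
        have hxD : (⟨x, hxA⟩ : ↥A) ∈ (R ⊓ A).subgroupOf A := by
          rw [Subgroup.mem_subgroupOf]; exact Subgroup.mem_inf.mpr ⟨hxR, hxA⟩
        have h1 := Subgroup.mem_centralizer_iff.mp (hcore hyM) ⟨x, hxA⟩ hxD
        exact congrArg Subtype.val h1
    rw [Cfsg.Agent.Lib.Helper16.Residual.pResidualOf_eq_closure] at hy
    refine Subgroup.closure_induction (p := fun y _ => x * A.subtype y = A.subtype y * x)
      ?_ ?_ ?_ ?_ hy
    · rintro y ⟨hyF, hyc⟩
      exact gen y hyF hyc x hx
    · simp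
    · intro a b _ _ ha hb
      simp only [map_mul]
      rw [← mul_assoc, ha, mul_assoc, hb, mul_assoc]
    · intro a _ ha
      simp only [map_inv]
      rw [eq_inv_mul_iff_mul_eq, ← mul_assoc, ← ha, mul_assoc, mul_inv_cancel, mul_one]

end Cfsg.Agent.S1247
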