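import Cfsg.Statements.S1249
import Cfsg.Agent.Lib.Helper8.Conj

set_option autoImplicit false
open Cfsg

namespace Cfsg.Agent.S1249

open Cfsg.Agent.Lib.Helper8.Conj
open scoped Pointwise

/-- Let P and Q be Sylow p-subgroups of the finite group G both containing the subgroup A. If A is strongly closed in P, then A is strongly closed in Q. -/
theorem result {G : Type*} [Group G] [Finite G] {p : ℕ} [Fact p.Prime] (P Q : Sylow p G) (A : Subgroup G) (hAQ : A ≤ Q) (hA : Cfsg.IsStronglyClosed A (P : Subgroup G)) : Cfsg.IsStronglyClosed A (Q : Subgroup G) := by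
  obtain ⟨y, hy⟩ := MulAction.exists_smul_eq G P Q
  have hQ : (Q : Subgroup G) = (P : Subgroup G).map (MulAut.conj y).toMonoidHom := by
    rw [← hy]; rfl
  have hQmem : ∀ q : G, q ∈ (Q : Subgroup G) ↔ y⁻¹ * q * y ∈ (P : Subgroup G) := by
    intro q; rw [hQ, mem_map_conj]
  have h1 : ∀ a ∈ A, y⁻¹ * a * y⁻¹⁻¹ ∈ A := by
    intro a ha
    apply hA.2 a ha
    rw [inv_inv]
    exact (hQmem a).mp (hAQ ha)
  have h2 : A.map (MulAut.conj y⁻¹).toMonoidHom = A := map_conj_eq_self_of_forall h1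
  have h3 : A.map (MulAut.conj y).toMonoidHom = A := by
    have := map_conj_inv_eq_of_map_conj_eq h2
    rwa [inv_inv] at this
  refine ⟨hAQ, ?_⟩
  intro x hx g hg
  have h4 : (y⁻¹ * g) * x * (y⁻¹ * g)⁻¹ ∈ A := by
    apply hA.2 x hx
    have := (hQmem _).mp hg
    have e : (y⁻¹ * g) * x * (y⁻¹ * g)⁻¹ = y⁻¹ * (g * x * g⁻¹) * y := by group
    rw [e]; exact this
  have h5 := conj_mem_of_map_conj_eq h3 h4
  have e : y * ((y⁻¹ * g) * x * (y⁻¹ * g)⁻¹) * y⁻¹ = g * x * g⁻¹ := by group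
  rwa [e] at h5

end Cfsg.Agent.S1249
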