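import Cfsg.Statements.S1250
import Cfsg.Agent.Lib.Helper8.Conj

set_option autoImplicit false
open Cfsg

namespace Cfsg.Agent.S1250

open Cfsg.Agent.Lib.Helper8.Conj
open scoped Pointwise

theorem isPGroup_zpowers {G : Type*} [Group G] {p : ℕ} (u : G) (hu : ∃ k : ℕ, u ^ p ^ k = 1) :
    IsPGroup p (Subgroup.zpowers u) := by
  obtain ⟨k, hk⟩ := hu
  rintro ⟨x, hx⟩
  obtain ⟨j, rfl⟩ := Subgroup.mem_zpowers_iff.mp hx
  refine ⟨k, ?_⟩
  apply Subtype.ext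
  show (u ^ j) ^ p ^ k = 1
  rw [← zpow_natCast, ← zpow_mul, mul_comm, zpow_mul, zpow_natCast, hk, one_zpow]

/-- Let S be a Sylow p-subgroup of the finite group G, A ≤ S strongly closed in S, and N a normal subgroup. Then the image of A in G ⧸ N is strongly closed in the image of S (which is a Sylow p-subgroup of G ⧸ N). -/
theorem result {G : Type*} [Group G] [Finite G] {p : ℕ} [Fact p.Prime] (S : Sylow p G) (A : Subgroup G) (hA : Cfsg.IsStronglyClosed A (S : Subgroup G)) (N : Subgroup G) [N.Normal] : Cfsg.IsStronglyClosed (A.map (QuotientGroup.mk' N)) ((S : Subgroup G).map (QuotientGroup.mk' N)) := by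
  refine ⟨Subgroup.map_mono hA.1, ?_⟩
  rintro xb ⟨a, ha, rfl⟩ gb hgb
  obtain ⟨g, rfl⟩ := QuotientGroup.mk_surjective gb
  obtain ⟨s, hs, hsg⟩ := hgb
  have hsg' : (QuotientGroup.mk s : G ⧸ N) = QuotientGroup.mk (g * a * g⁻¹) := by
    rw [QuotientGroup.mk_mul, QuotientGroup.mk_mul, QuotientGroup.mk_inv]
    exact hsg
  have hn : s⁻¹ * (g * a * g⁻¹) ∈ N := QuotientGroup.eq.mp hsg'
  have huM : g * a * g⁻¹ ∈ (S : Subgroup G) ⊔ N := by
    have : g * a * g⁻¹ = s * (s⁻¹ * (g * a * g⁻¹)) := by group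
    rw [this]
    exact Subgroup.mul_mem _ (Subgroup.mem_sup_left hs) (Subgroup.mem_sup_right hn)
  have hup : ∃ k : ℕ, (g * a * g⁻¹) ^ p ^ k = 1 := by
    obtain ⟨k, hk⟩ := S.2 ⟨a, hA.1 ha⟩
    refine ⟨k, ?_⟩
    have hk' : a ^ p ^ k = 1 := by
      have := congrArg Subtype.val hk
      simpa using this
    rw [conj_pow, hk']; group
  have hR : IsPGroup p (Subgroup.zpowers (g * a * g⁻¹)) := isPGroup_zpowers _ hup
  have hRM : Subgroup.zpowers (g * a * g⁻¹) ≤ (S : Subgroup G) ⊔ N := by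
    rw [Subgroup.zpowers_le]; exact huM
  obtain ⟨x, hxM, hx⟩ := sylow_exists_conj_le_of_le ((S : Subgroup G) ⊔ N) (S := (S : Subgroup G))
    le_sup_left S.2 (fun R _ hR hSR => S.is_maximal' hR hSR) hRM hR
  have hxu : x * (g * a * g⁻¹) * x⁻¹ ∈ (S : Subgroup G) :=
    map_conj_le_iff.mp hx _ (Subgroup.mem_zpowers _)
  have hv : (x * g) * a * (x * g)⁻¹ ∈ A := by
    apply hA.2 a ha
    have e : (x * g) * a * (x * g)⁻¹ = x * (g * a * g⁻¹) * x⁻¹ := by group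
    rw [e]; exact hxu
  obtain ⟨s₁, hs₁, n₁, hn₁, rfl⟩ := (Subgroup.mem_sup_of_normal_right).mp hxM
  have hw : s₁⁻¹ * ((s₁ * n₁ * g) * a * (s₁ * n₁ * g)⁻¹) * s₁⁻¹⁻¹ ∈ A := by
    apply hA.2 _ hv
    apply Subgroup.mul_mem _ (Subgroup.mul_mem _ (Subgroup.inv_mem _ hs₁) (hA.1 hv))
    rw [inv_inv]; exact hs₁
  refine ⟨_, hw, ?_⟩
  have hn1 : (QuotientGroup.mk n₁ : G ⧸ N) = 1 := (QuotientGroup.eq_one_iff n₁).mpr hn₁
  show (QuotientGroup.mk (s₁⁻¹ * ((s₁ * n₁ * g) * a * (s₁ * n₁ * g)⁻¹) * s₁⁻¹⁻¹) : G ⧸ N) = _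
  simp only [QuotientGroup.mk_mul, QuotientGroup.mk_inv, hn1, QuotientGroup.mk'_apply]
  group

end Cfsg.Agent.S1250
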