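import Mathlib
import Cfsg.Statements.S1253
import Cfsg.Agent.S1187
import Cfsg.Agent.Lib.Helper29.InvCount
-- import your own Cfsg.Agent.* helpers here

set_option autoImplicit false
open Cfsg

namespace Cfsg.Agent.S1253

open Cfsg.Agent.Lib.Helper8.IsoInv Cfsg.Agent.Lib.Helper29 Cfsg.Agent.Lib.Helper25.QuatSyl

/-- Some `z`-invariant Sylow `p`-subgroup meets the centralizer of `z` in a Sylow `p`-subgroup of
the centralizer. -/
theorem exists_good {G : Type*} [Group G] [Finite G] (z : G) (hz : Cfsg.IsIsolatedInvolution z)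
    {p : ℕ} [Fact p.Prime] :
    ∃ Q : Sylow p G, z ∈ Subgroup.normalizer ((Q : Subgroup G) : Set G) ∧
      ¬ p ∣ ((Q : Subgroup G) ⊓ Subgroup.centralizer ({z} : Set G)).relIndex
        (Subgroup.centralizer ({z} : Set G)) := by
  obtain ⟨C, hC⟩ : ∃ C : Subgroup G, C = Subgroup.centralizer ({z} : Set G) := ⟨_, rfl⟩
  rw [← hC]
  obtain ⟨T₀⟩ : Nonempty (Sylow p C) := inferInstance
  obtain ⟨T, hT⟩ : ∃ T : Subgroup G, T = (T₀ : Subgroup C).map C.subtype := ⟨_, rfl⟩
  have hTC : T ≤ C := by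
    rw [hT]
    rintro _ ⟨x, -, rfl⟩
    exact x.2
  have hTp : IsPGroup p T := by
    rw [hT]
    exact IsPGroup.map T₀.2 _
  have hcentC : ∀ x ∈ C, z * x * z⁻¹ = x := by
    intro x hx
    rw [hC, Subgroup.mem_centralizer_singleton_iff] at hx
    rw [← hx, mul_inv_cancel_right]
  have hzT : z ∈ Subgroup.normalizer (T : Set G) := by
    rw [Subgroup.mem_normalizer_iff]
    intro h
    constructor
    · intro hh
      rw [hcentC h (hTC hh)]
      exact hh
    · intro hh
      have h1 := hcentC _ (hTC hh)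
      have h2 : z * h * z⁻¹ = h := by
        have h3 : z * (z * h * z⁻¹) * z⁻¹ = z * h * z⁻¹ := h1
        have h4 : z * (z * h * z⁻¹) = z * h := mul_right_cancel h3
        exact mul_left_cancel h4
      rw [h2] at hh
      exact hh
  obtain ⟨Q, hQmax⟩ := (Set.toFinite {R : Subgroup G | IsPGroup p R ∧
      z ∈ Subgroup.normalizer (R : Set G) ∧ T ≤ R}).exists_maximal ⟨T, hTp, hzT, le_refl T⟩
  obtain ⟨⟨hQp, hzQ, hTQ⟩, hQm⟩ := hQmax
  have hmax : ∀ R : Subgroup G, IsPGroup p R → z ∈ Subgroup.normalizer (R : Set G) → Q ≤ R →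
      R = Q := by
    intro R hR1 hR2 hR3
    exact le_antisymm (hQm ⟨hR1, hR2, hTQ.trans hR3⟩ hR3) hR3
  obtain ⟨Q', hQ'⟩ := Cfsg.Agent.S1187.result z hz Q hQp hzQ hmax
  refine ⟨Q', by rw [hQ']; exact hzQ, ?_⟩
  rw [hQ']
  have hsub : (Q ⊓ C).subgroupOf C = (T₀ : Subgroup C) := by
    apply T₀.is_maximal'
    · have h1 : IsPGroup p (Q ⊓ C : Subgroup G) := hQp.to_le inf_le_left
      exact h1.comap_subtype
    · intro x hx
      rw [Subgroup.mem_subgroupOf, Subgroup.mem_inf]
      refine ⟨hTQ ?_, x.2⟩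
      rw [hT]
      exact ⟨x, hx, rfl⟩
  have h2 : (Q ⊓ C).relIndex C = (T₀ : Subgroup C).index := by
    rw [← hsub]
    rfl
  rw [h2]
  exact T₀.not_dvd_index

/-- Let z be an isolated involution of the finite group G with centralizer C, p an odd prime and P a Sylow p-subgroup of G normalized by z. Then P ∩ C has p-power-free index in C (it is a Sylow p-subgroup of C), and |P : C_P(z)| equals the number of elements x ∈ P with z x z⁻¹ = x⁻¹. -/
theorem result {G : Type*} [Group G] [Finite G] (z : G) (hz : Cfsg.IsIsolatedInvolution z) {p : ℕ} [Fact p.Prime] (hp : p ≠ 2) (P : Sylow p G) (hzP : z ∈ Subgroup.normalizer ((P : Subgroup G) : Set G)) : ¬ p ∣ ((P : Subgroup G) ⊓ Subgroup.centralizer ({z} : Set G)).relIndex (Subgroup.centralizer ({z} : Set G)) ∧ ((P : Subgroup G) ⊓ Subgroup.centralizer ({z} : Set G)).relIndex (P : Subgroup G) = Nat.card {x : G // x ∈ P ∧ z * x * z⁻¹ = x⁻¹} := by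
  have hpp := (Fact.out : p.Prime)
  have hz2 := hz.1
  have hzz : z * z = 1 := mul_self_of_orderOf_two hz2
  have hzi : z⁻¹ = z := inv_eq_self_of_mul_self hzz
  constructor
  · obtain ⟨Q, hzQ, hQgood⟩ := exists_good (p := p) z hz
    obtain ⟨g, hg⟩ := MulAction.exists_smul_eq G P Q
    have hQP : ∀ x : G, x ∈ (Q : Subgroup G) ↔ g⁻¹ * x * g ∈ (P : Subgroup G) := by
      intro x
      rw [← hg, Sylow.coe_subgroup_smul, mem_conj_smul]
    obtain ⟨m, hm⟩ := exists_pow_conj hz g
    obtain ⟨k, hk⟩ : ∃ k : G, k = (z * (g * z * g⁻¹)) ^ m := ⟨_, rfl⟩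
    rw [← hk] at hm
    have hgzQ : g * z * g⁻¹ ∈ Subgroup.normalizer ((Q : Subgroup G) : Set G) := by
      rw [Subgroup.mem_normalizer_iff]
      intro x
      rw [hQP, hQP, Subgroup.mem_normalizer_iff.mp hzP (g⁻¹ * x * g)]
      have h1 : z * (g⁻¹ * x * g) * z⁻¹ = g⁻¹ * (g * z * g⁻¹ * x * (g * z * g⁻¹)⁻¹) * g := by
        group
      rw [h1]
    have hkQ : k ∈ Subgroup.normalizer ((Q : Subgroup G) : Set G) := by
      rw [hk]
      exact Subgroup.pow_mem _ (Subgroup.mul_mem _ hzQ hgzQ) m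
    obtain ⟨c, hc⟩ : ∃ c : G, c = k⁻¹ * g := ⟨_, rfl⟩
    have hcC : c ∈ Subgroup.centralizer ({z} : Set G) := by
      rw [Subgroup.mem_centralizer_singleton_iff, hc]
      calc k⁻¹ * g * z = k⁻¹ * (g * z * g⁻¹) * g := by group
        _ = k⁻¹ * (k * z * k⁻¹) * g := by rw [hm]
        _ = z * (k⁻¹ * g) := by group
    have hcP : ∀ x : G, x ∈ (P : Subgroup G) ↔ c * x * c⁻¹ ∈ (Q : Subgroup G) := by
      intro x
      have h1 : x ∈ (P : Subgroup G) ↔ g * x * g⁻¹ ∈ (Q : Subgroup G) := by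
        rw [hQP]
        have h2 : g⁻¹ * (g * x * g⁻¹) * g = x := by group
        rw [h2]
      rw [h1, Subgroup.mem_normalizer_iff.mp (Subgroup.inv_mem _ hkQ) (g * x * g⁻¹)]
      have h3 : k⁻¹ * (g * x * g⁻¹) * k⁻¹⁻¹ = c * x * c⁻¹ := by
        rw [hc]
        group
      rw [h3]
    have hmap : ((P : Subgroup G) ⊓ Subgroup.centralizer ({z} : Set G)).map
        (MulAut.conj c).toMonoidHom
        = (Q : Subgroup G) ⊓ Subgroup.centralizer ({z} : Set G) := by
      ext y
      constructor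
      · rintro ⟨x, hx, rfl⟩
        rw [SetLike.mem_coe, Subgroup.mem_inf] at hx
        refine Subgroup.mem_inf.mpr ⟨(hcP x).mp hx.1, ?_⟩
        exact Subgroup.mul_mem _ (Subgroup.mul_mem _ hcC hx.2) (Subgroup.inv_mem _ hcC)
      · intro hy
        rw [Subgroup.mem_inf] at hy
        refine ⟨c⁻¹ * y * c, ?_, ?_⟩
        · rw [SetLike.mem_coe, Subgroup.mem_inf]
          refine ⟨(hcP _).mpr ?_, ?_⟩
          · have h1 : c * (c⁻¹ * y * c) * c⁻¹ = y := by group
            rw [h1]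
            exact hy.1
          · exact Subgroup.mul_mem _ (Subgroup.mul_mem _ (Subgroup.inv_mem _ hcC) hy.2) hcC
        · show c * (c⁻¹ * y * c) * c⁻¹ = y
          group
    have hcard : Nat.card ((P : Subgroup G) ⊓ Subgroup.centralizer ({z} : Set G) : Subgroup G)
        = Nat.card ((Q : Subgroup G) ⊓ Subgroup.centralizer ({z} : Set G) : Subgroup G) := by
      rw [← hmap, Subgroup.card_map_of_injective (MulAut.conj c).injective]
    have e1 := Cfsg.Agent.Lib.Lead.Cores.card_mul_relIndex_of_le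
      (inf_le_right : (P : Subgroup G) ⊓ Subgroup.centralizer ({z} : Set G)
        ≤ Subgroup.centralizer ({z} : Set G))
    have e2 := Cfsg.Agent.Lib.Lead.Cores.card_mul_relIndex_of_le
      (inf_le_right : (Q : Subgroup G) ⊓ Subgroup.centralizer ({z} : Set G)
        ≤ Subgroup.centralizer ({z} : Set G))
    rw [hcard, ← e2] at e1
    have hpos : 0 < Nat.card ((Q : Subgroup G) ⊓ Subgroup.centralizer ({z} : Set G) : Subgroup G) :=
      Nat.card_pos
    have e3 := Nat.eq_of_mul_eq_mul_left hpos e1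
    rw [e3]
    exact hQgood
  · have hodd : Odd (Nat.card (P : Subgroup G)) := by
      obtain ⟨n, hn⟩ := P.2.exists_card_eq
      rw [hn]
      apply Odd.pow
      rcases hpp.eq_two_or_odd' with h | h
      · exact absurd h hp
      · exact h
    exact InvCount.card_inverted z hz2 (P : Subgroup G) hodd hzP

end Cfsg.Agent.S1253
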