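import Cfsg.Statements.S1279
import Cfsg.Agent.Lib.Helper9.Balance

set_option autoImplicit false
open Cfsg

namespace Cfsg.Agent.S1279

open Cfsg.Agent.Lib.Helper9

/-- Let A be a noncyclic elementary abelian p-subgroup of the finite group G such that C_G(a) is solvable for every non-identity a ∈ A. Then a ↦ O_{p'}(C_G(a)) is a solvable A-signalizer functor on G. -/
theorem result {G : Type*} [Group G] [Finite G] (p : ℕ) [Fact p.Prime] (A : Subgroup G) (hA : Cfsg.IsElementaryAbelian p A) (hA2 : p ^ 2 ≤ Nat.card ↥A) (hsolv : ∀ a ∈ A, a ≠ 1 → Group.IsSolvable ↥(Subgroup.centralizer ({a} : Set G))) : Cfsg.IsSolvableSignalizerFunctor p A (fun a => Cfsg.centralizerPPrimeCore p a) := by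
  have hAc := hA.1
  have hcomm : ∀ x ∈ A, ∀ y ∈ A, x * y = y * x := fun x hx y hy => setLike_mul_comm hx hy
  refine ⟨⟨?_, ?_, ?_, ?_⟩, ?_⟩
  · intro a _ _
    exact coreOf_le p _
  · intro a _ _ h
    have h3 : Nat.card ↥(centralizerPPrimeCore p a) =
        Nat.card ↥(pPrimeCore p ↥(Subgroup.centralizer ({a} : Set G))) :=
      (Nat.card_congr ((pPrimeCore p ↥(Subgroup.centralizer ({a} : Set G))).equivMapOfInjective
        (Subgroup.centralizer ({a} : Set G)).subtype (Subgroup.subtype_injective _)).toEquiv).symm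
    have h4 := pPrimeCore_coprime p ↥(Subgroup.centralizer ({a} : Set G))
    rw [← h3] at h4
    exact (Nat.Prime.coprime_iff_not_dvd Fact.out).mp h4.symm h
  · intro a ha ha1 b hb x hx
    obtain ⟨x', hx', rfl⟩ := hx
    have hbC : b ∈ Subgroup.centralizer ({a} : Set G) :=
      Subgroup.mem_centralizer_singleton_iff.mpr (hcomm b hb a ha)
    have hn := pPrimeCore_normal p ↥(Subgroup.centralizer ({a} : Set G))
    exact ⟨⟨b, hbC⟩ * x' * ⟨b, hbC⟩⁻¹, hn.conj_mem x' hx' ⟨b, hbC⟩, rfl⟩
  · intro a ha ha1 b hb hb1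
    have := hsolv b hb hb1
    exact centralizerPPrimeCore_inf_centralizer_le p (hcomm a ha b hb) (hA.2 a ha)
      (pLayer_eq_bot_of_isSolvable p _)
  · intro a ha ha1
    have := hsolv a ha ha1
    exact Group.isSolvable_of_isSolvable_injective
      (f := ((pPrimeCore p ↥(Subgroup.centralizer ({a} : Set G))).equivMapOfInjective
        (Subgroup.centralizer ({a} : Set G)).subtype
        (Subgroup.subtype_injective _)).symm.toMonoidHom)
      ((pPrimeCore p ↥(Subgroup.centralizer ({a} : Set G))).equivMapOfInjective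
        (Subgroup.centralizer ({a} : Set G)).subtype
        (Subgroup.subtype_injective _)).symm.injective

end Cfsg.Agent.S1279
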