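import Cfsg.Statements.S1284
import Cfsg.Agent.Lib.Helper9.Transitivity2

set_option autoImplicit false
open Cfsg

namespace Cfsg.Agent.S1284

open Cfsg.Agent.Lib.Helper9

theorem map_conj_eq_self_of_mem {G : Type*} [Group G] {H : Subgroup G} {c : G} (hc : c ∈ H) :
    H.map (MulAut.conj c).toMonoidHom = H := by
  ext x
  rw [mem_map_conj]
  constructor
  · intro h
    have h1 : x = c * (c⁻¹ * x * c) * c⁻¹ := by group
    rw [h1]
    exact H.mul_mem (H.mul_mem hc h) (H.inv_mem hc)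
  · intro h
    exact H.mul_mem (H.mul_mem (H.inv_mem hc) h) hc

theorem part1 {G : Type*} [Group G] [Finite G] (p : ℕ) [Fact p.Prime] (A : Subgroup G)
    (hA : Cfsg.IsElementaryAbelian p A) (hA3 : p ^ 3 ≤ Nat.card ↥A) (θ : G → Subgroup G)
    (hθ : Cfsg.IsSolvableSignalizerFunctor p A θ) (q : ℕ) [Fact q.Prime] (Q : Subgroup G)
    (hQ : IsMaxQ p A θ q Q) (H : Subgroup G) (hH : H ∈ Cfsg.signalizerFamily p A θ) :
    ∃ c ∈ Cfsg.signalizerInf A θ, ∃ S : Sylow q ↥H,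
      (S : Subgroup ↥H).map H.subtype = Q.map (MulAut.conj c).toMonoidHom ⊓ H := by
  obtain ⟨P, hAP⟩ := Cfsg.Agent.S0023.result A H (le_normalizer_of_forall_conj_mem hH.2.2.1)
    (family_coprime hA hH) (Or.inl (isSolvable_of_isElementaryAbelian hA)) q
  have hPF := sylow_map_mem_family hH P hAP
  obtain ⟨T, hT, hPT⟩ := exists_isMaxQ_ge hPF (P.isPGroup'.map _)
  obtain ⟨c, hc, hcQ⟩ := transitivity hA hA3 hθ q hQ hT
  refine ⟨c, hc, P, ?_⟩
  rw [hcQ]
  have h1 : IsPGroup q ((T ⊓ H).subgroupOf H) :=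
    (hT.2.1.to_le inf_le_left).of_equiv (Subgroup.subgroupOfEquivOfLe inf_le_right).symm
  have h2 : (P : Subgroup ↥H) ≤ (T ⊓ H).subgroupOf H := by
    intro x hx
    rw [Subgroup.mem_subgroupOf]
    exact ⟨hPT ⟨x, hx, rfl⟩, x.2⟩
  have h3 := P.is_maximal' h1 h2
  rw [← h3, Subgroup.subgroupOf_map_subtype, inf_assoc, inf_idem]

theorem part2 {G : Type*} [Group G] [Finite G] (p : ℕ) [Fact p.Prime] (A : Subgroup G)
    (hA : Cfsg.IsElementaryAbelian p A) (hA3 : p ^ 3 ≤ Nat.card ↥A) (θ : G → Subgroup G)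
    (hθ : Cfsg.IsSolvableSignalizerFunctor p A θ) (q : ℕ) [Fact q.Prime] (Q : Subgroup G)
    (hQ : IsMaxQ p A θ q Q) (B : Subgroup G) (hB : B ≤ A) (hB1 : B ≠ ⊥) :
    ∃ S : Sylow q ↥(Cfsg.signalizerInf B θ),
      (S : Subgroup ↥(Cfsg.signalizerInf B θ)).map (Cfsg.signalizerInf B θ).subtype =
        Q ⊓ Subgroup.centralizer (B : Set G) := by
  rcases Subgroup.bot_or_exists_ne_one B with h | ⟨b₀, hb₀, hb₀1⟩
  · exact absurd h hB1
  have hmem : ∀ {x : G}, x ∈ Cfsg.signalizerInf B θ ↔ ∀ b ∈ B, b ≠ 1 → x ∈ θ b := by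
    intro x
    unfold Cfsg.signalizerInf
    rw [Subgroup.mem_iInf]
    exact ⟨fun h b hb hb1 => h ⟨b, hb, hb1⟩, fun h b => h b.1 b.2.1 b.2.2⟩
  have hHF : Cfsg.signalizerInf B θ ∈ Cfsg.signalizerFamily p A θ := by
    apply family_of_le (theta_mem_family hθ (hB hb₀) hb₀1) (fun x hx => hmem.mp hx b₀ hb₀ hb₀1)
    intro b hb v hv
    rw [hmem] at hv ⊢
    intro b' hb' hb'1
    exact hθ.1.2.2.1 b' (hB hb') hb'1 b hb v (hv b' hb' hb'1)
  obtain ⟨c, hc, S, hS⟩ := part1 p A hA hA3 θ hθ q Q hQ _ hHF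
  have hcH : c ∈ Cfsg.signalizerInf B θ :=
    hmem.mpr (fun b hb hb1 => mem_theta_of_mem_signalizerInf hc (hB hb) hb1)
  have hQH : Q ⊓ Subgroup.centralizer (B : Set G) = Q ⊓ Cfsg.signalizerInf B θ := by
    apply le_antisymm
    · intro x hx
      refine Subgroup.mem_inf.mpr ⟨hx.1, hmem.mpr (fun b hb hb1 => ?_)⟩
      exact hQ.1.2.2.2 b (hB hb) hb1
        ⟨hx.1, Subgroup.mem_centralizer_singleton_iff.mpr (hx.2 b hb).symm⟩
    · intro x hx
      refine Subgroup.mem_inf.mpr ⟨hx.1, ?_⟩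
      intro b hb
      by_cases hb1 : b = 1
      · subst hb1; simp
      · have h1 := hθ.1.1 b (hB hb) hb1 (hmem.mp hx.2 b hb hb1)
        exact (Subgroup.mem_centralizer_singleton_iff.mp h1).symm
  rw [hQH]
  apply Cfsg.Agent.Lib.Helper10.Coprime.exists_sylow_map_eq _ S _ inf_le_right
  have e1 := Nat.card_congr ((Q ⊓ Cfsg.signalizerInf B θ).equivMapOfInjective
    (MulAut.conj c).toMonoidHom (MulAut.conj c).injective).toEquiv
  have e2 : (Q ⊓ Cfsg.signalizerInf B θ).map (MulAut.conj c).toMonoidHom =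
      Q.map (MulAut.conj c).toMonoidHom ⊓ Cfsg.signalizerInf B θ := by
    rw [Subgroup.map_inf _ _ _ (MulAut.conj c).injective, map_conj_eq_self_of_mem hcH]
  have e3 := Nat.card_congr ((S : Subgroup ↥(Cfsg.signalizerInf B θ)).equivMapOfInjective
    (Cfsg.signalizerInf B θ).subtype (Subgroup.subtype_injective _)).toEquiv
  rw [e1, e2, ← hS, ← e3]

/-- Let θ be a solvable A-signalizer functor on the finite group G, A elementary abelian of rank at least 3, q a prime dividing some |θ a|, and Q maximal among the q-subgroups in the family of θ. Then (a) for every member H of the family, some c in the intersection of the θ a (a ∈ A non-identity) makes c Q c⁻¹ ∩ H a Sylow q-subgroup of H; and (b) for every nontrivial subgroup B ≤ A, C_Q(B) is a Sylow q-subgroup of the intersection of the θ b over the non-identity b ∈ B. -/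
theorem result {G : Type*} [Group G] [Finite G] (p : ℕ) [Fact p.Prime] (A : Subgroup G) (hA : Cfsg.IsElementaryAbelian p A) (hA3 : p ^ 3 ≤ Nat.card ↥A) (θ : G → Subgroup G) (hθ : Cfsg.IsSolvableSignalizerFunctor p A θ) (q : ℕ) [Fact q.Prime] (hq : ∃ a ∈ A, a ≠ 1 ∧ q ∣ Nat.card ↥(θ a)) (Q : Subgroup G) (hQW : Q ∈ Cfsg.signalizerFamily p A θ) (hQq : IsPGroup q ↥Q) (hQmax : ∀ R ∈ Cfsg.signalizerFamily p A θ, IsPGroup q ↥R → Q ≤ R → R = Q) : (∀ H : Subgroup G, H ∈ Cfsg.signalizerFamily p A θ → ∃ c ∈ Cfsg.signalizerInf A θ, ∃ S : Sylow q ↥H, (S : Subgroup ↥H).map H.subtype = Q.map (MulAut.conj c).toMonoidHom ⊓ H) ∧ (∀ B : Subgroup G, B ≤ A → B ≠ ⊥ → ∃ S : Sylow q ↥(Cfsg.signalizerInf B θ), (S : Subgroup ↥(Cfsg.signalizerInf B θ)).map (Cfsg.signalizerInf B θ).subtype = Q ⊓ Subgroup.centralizer (B : Set G)) :=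
  ⟨fun H hH => part1 p A hA hA3 θ hθ q Q ⟨hQW, hQq, hQmax⟩ H hH,
    fun B hB hB1 => part2 p A hA hA3 θ hθ q Q ⟨hQW, hQq, hQmax⟩ B hB hB1⟩

end Cfsg.Agent.S1284
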