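import Cfsg.Statements.S1285
import Cfsg.Agent.Lib.Helper9.Transitivity2

set_option autoImplicit false
open Cfsg

namespace Cfsg.Agent.S1285

open Cfsg.Agent.Lib.Helper9

theorem map_conj_eq_self_of_mem {G : Type*} [Group G] {H : Subgroup G} {c : G} (hc : c ∈ H) :
    H.map (MulAut.conj c).toMonoidHom = H := by
  ext x
  rw [mem_map_conj]
  constructor
  · intro h
    have h1 : x = c * (c⁻¹ * x * c) * c⁻¹ := by group
    rw [h1]
    exact H.mul_mem (H.mul_mem hc h) (H.inv_mem hc)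
  · intro h
    exact H.mul_mem (H.mul_mem (H.inv_mem hc) h) hc

theorem bot_mem_family {G : Type*} [Group G] (p : ℕ) [Fact p.Prime] (A : Subgroup G)
    (θ : G → Subgroup G) : (⊥ : Subgroup G) ∈ signalizerFamily p A θ := by
  refine ⟨inferInstance, ?_, ?_, ?_⟩
  · rw [Subgroup.card_bot]
    exact (Fact.out : p.Prime).one_lt.not_ge ∘ Nat.le_of_dvd Nat.one_pos
  · intro b _ u hu
    rw [Subgroup.mem_bot] at hu ⊢
    rw [hu]; group
  · intro a _ _
    exact inf_le_left.trans bot_le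

/-- Let θ be a solvable A-signalizer functor on the finite group G with A elementary abelian of rank at least 3, and suppose that for some prime q every θ a (a ∈ A non-identity) is a q-group. Then θ is complete. -/
theorem result {G : Type*} [Group G] [Finite G] (p : ℕ) [Fact p.Prime] (A : Subgroup G) (hA : Cfsg.IsElementaryAbelian p A) (hA3 : p ^ 3 ≤ Nat.card ↥A) (θ : G → Subgroup G) (hθ : Cfsg.IsSolvableSignalizerFunctor p A θ) (q : ℕ) [Fact q.Prime] (hq : ∀ a ∈ A, a ≠ 1 → IsPGroup q ↥(θ a)) : Cfsg.IsCompleteSignalizerFunctor p A θ := by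
  obtain ⟨S, hS, -⟩ := exists_isMaxQ_ge (q := q) (bot_mem_family p A θ) IsPGroup.of_bot
  refine ⟨hθ.1, S, hS.1.2.2.1, hS.1.2.1, ?_⟩
  intro a ha ha1
  apply le_antisymm (hS.1.2.2.2 a ha ha1)
  obtain ⟨T, hT, hθT⟩ := exists_isMaxQ_ge (theta_mem_family hθ ha ha1) (hq a ha ha1)
  obtain ⟨c, hc, hcS⟩ := transitivity hA hA3 hθ q hS hT
  have hcT : c ∈ T := hθT (mem_theta_of_mem_signalizerInf hc ha ha1)
  have hST : S = T := by
    have h1 : T.map (MulAut.conj c⁻¹).toMonoidHom = S := by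
      rw [← hcS]; exact map_conj_inv_map_conj c S
    rw [← h1]
    exact map_conj_eq_self_of_mem (T.inv_mem hcT)
  exact le_inf (hST ▸ hθT) (hθ.1.1 a ha ha1)

end Cfsg.Agent.S1285
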