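import Mathlib
import Cfsg.Statements.S1287
import Cfsg.Agent.S0022
import Cfsg.Agent.S0023
import Cfsg.Agent.S0024
import Cfsg.Agent.S0025
import Cfsg.Agent.S0058
import Cfsg.Agent.Lib.Helper4.Card
import Cfsg.Agent.Lib.Helper9.Transitivity2

set_option autoImplicit false
open Cfsg

namespace Cfsg.Agent.S1287

universe u

open Subgroup
open scoped Pointwise commutatorElement

section Basic

variable {G : Type u} [Group G]

theorem mem_normalizer_centralizer_of_commute {B : Set G} {b : G} (h : ∀ x ∈ B, x * b = b * x) :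
    b ∈ normalizer ((centralizer B : Subgroup G) : Set G) :=
  Subgroup.le_normalizer (Subgroup.mem_centralizer_iff.mpr h)

theorem mem_normalizer_inf {H K : Subgroup G} {g : G} (hH : g ∈ normalizer (H : Set G))
    (hK : g ∈ normalizer (K : Set G)) : g ∈ normalizer ((H ⊓ K : Subgroup G) : Set G) := by
  rw [Subgroup.mem_normalizer_iff] at hH hK ⊢
  intro x
  rw [Subgroup.mem_inf, Subgroup.mem_inf, hH x, hK x]

theorem mem_normalizer_sup {H K : Subgroup G} {g : G} (hH : g ∈ normalizer (H : Set G))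
    (hK : g ∈ normalizer (K : Set G)) : g ∈ normalizer ((H ⊔ K : Subgroup G) : Set G) := by
  rw [Subgroup.mem_normalizer_iff_map_conj_eq] at hH hK ⊢
  rw [Subgroup.map_sup, hH, hK]

/-- If `S = C N` as a set product (every element of `S` is in a coset of `N` meeting `C`), count. -/
theorem card_of_factor {S N C : Subgroup G} (hNS : N ≤ S) (hCS : C ≤ S)
    (h : ∀ s ∈ S, ∃ c ∈ C, s⁻¹ * c ∈ N) :
    Nat.card ↥C * Nat.card ↥N = Nat.card ↥(N ⊓ C) * Nat.card ↥S := by
  have h1 : ((C : Set G) * (N : Set G) : Set G) = (S : Set G) := by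
    ext s
    constructor
    · rintro ⟨c, hc, n, hn, rfl⟩
      exact S.mul_mem (hCS hc) (hNS hn)
    · intro hs
      obtain ⟨c, hc, hcn⟩ := h s hs
      refine ⟨c, hc, c⁻¹ * s, ?_, by group⟩
      have h2 : c⁻¹ * s = (s⁻¹ * c)⁻¹ := by group
      rw [h2]
      exact N.inv_mem hcn
  have h2 := Cfsg.Agent.Lib.Helper4.Card.card_mul_set C N
  rw [h1] at h2
  have h3 : C ⊓ N = N ⊓ C := inf_comm _ _
  rw [h3] at h2
  rw [← h2, mul_comm]
  rfl

/-- If `S ≤ N ⊔ Y` with `Y ≤ S` normalizing `N` and `a` centralizing `Y`, normalizing `N`, then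
`a` acts trivially on `S / N`. -/
theorem trivial_action_of_sup {S N Y : Subgroup G} {a : G} (haN : a ∈ normalizer (N : Set G))
    (hYN : Y ≤ normalizer (N : Set G)) (haY : ∀ y ∈ Y, a * y = y * a) (hS : S ≤ N ⊔ Y) :
    ∀ s ∈ S, a * s * a⁻¹ * s⁻¹ ∈ N := by
  intro s hs
  obtain ⟨x, hx, y, hy, rfl⟩ := Cfsg.Agent.Lib.Helper9.exists_mul_of_mem_sup_of_le_normalizer hYN (hS hs)
  have h1 : a * x * a⁻¹ ∈ N := Cfsg.Agent.Lib.Helper9.conj_mem_of_mem_normalizer haN hx
  have h2 : a * (x * y) * a⁻¹ * (x * y)⁻¹ = (a * x * a⁻¹) * ((a * y) * a⁻¹ * y⁻¹) * x⁻¹ := by group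
  rw [h2, haY y hy]
  have h3 : y * a * a⁻¹ * y⁻¹ = 1 := by group
  rw [h3, mul_one]
  exact N.mul_mem h1 (N.inv_mem hx)

end Basic

section Step

variable {G : Type u} [Group G] [Finite G] {p : ℕ} [Fact p.Prime]

theorem not_isCyclic_of_card {A : Subgroup G} (hA : IsElementaryAbelian p A)
    (hA2 : Nat.card A = p ^ 2) : ¬ IsCyclic ↥A := by
  have hp : p.Prime := Fact.out
  intro hcyc
  obtain ⟨g, hg⟩ := hcyc.exists_generator
  have h1 : orderOf g = Nat.card ↥A := orderOf_eq_card_of_forall_mem_zpowers hg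
  have h2 : g ^ p = 1 := by
    apply Subtype.ext
    simpa using hA.2 g.1 g.2
  have h3 := orderOf_dvd_of_pow_eq_one h2
  rw [h1, hA2] at h3
  have h4 := Nat.le_of_dvd hp.pos h3
  have h5 : p < p ^ 2 := by
    calc p = p ^ 1 := (pow_one p).symm
      _ < p ^ 2 := Nat.pow_lt_pow_right hp.one_lt (by norm_num)
  omega

theorem step_lemma {A S N : Subgroup G} (hA : IsElementaryAbelian p A) (hA2 : Nat.card A = p ^ 2)
    (hS : ¬ p ∣ Nat.card S) (hAS : A ≤ normalizer (S : Set G)) (hAN : A ≤ normalizer (N : Set G))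
    (hNS : N ≤ S) (hSN : ⁅S, S⁆ ≤ N) (hne : N ≠ S)
    (hmax : ∀ M : Subgroup G, N ≤ M → M ≤ S → A ≤ normalizer (M : Set G) → M = N ∨ M = S) :
    ∃ T : Subgroup G, T ≤ A ∧
      (∀ a ∈ A, a ∈ T → Nat.card ↥(S ⊓ centralizer {a}) * Nat.card N =
        Nat.card ↥(N ⊓ centralizer {a}) * Nat.card S) ∧
      (∀ a ∈ A, a ∉ T → S ⊓ centralizer {a} = N ⊓ centralizer {a}) ∧
      ((T = A ∧ Nat.card ↥(S ⊓ centralizer (A : Set G)) * Nat.card N =
          Nat.card ↥(N ⊓ centralizer (A : Set G)) * Nat.card S) ∨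
       (Nat.card T = p ∧ S ⊓ centralizer (A : Set G) = N ⊓ centralizer (A : Set G))) := by
  classical
  have hp : p.Prime := Fact.out
  haveI := hA.1
  have hAcomm : ∀ a ∈ A, ∀ b ∈ A, a * b = b * a := fun a ha b hb => setLike_mul_comm ha hb
  have hSnN : S ≤ normalizer (N : Set G) := by
    intro s hs
    rw [Subgroup.mem_normalizer_iff]
    intro n
    constructor
    · intro hn
      have h1 : s * n * s⁻¹ = ⁅s, n⁆ * n := by rw [commutatorElement_def]; group
      rw [h1]
      exact N.mul_mem (hSN (Subgroup.commutator_mem_commutator hs (hNS hn))) hn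
    · intro hn
      have h1 : n = ⁅s⁻¹, s * n * s⁻¹⁆ * (s * n * s⁻¹) := by rw [commutatorElement_def]; group
      rw [h1]
      exact N.mul_mem (hSN (Subgroup.commutator_mem_commutator (S.inv_mem hs) (hNS hn))) hn
  have hcopA : (Nat.card A).Coprime (Nat.card S) := by
    rw [hA2]
    exact Nat.Coprime.pow_left 2 ((Nat.Prime.coprime_iff_not_dvd hp).mpr hS)
  let T : Subgroup G :=
    { carrier := {a | a ∈ A ∧ ∀ s ∈ S, a * s * a⁻¹ * s⁻¹ ∈ N}
      one_mem' := ⟨A.one_mem, fun s _ => by simp⟩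
      mul_mem' := by
        rintro g h ⟨hg, hg'⟩ ⟨hh, hh'⟩
        refine ⟨A.mul_mem hg hh, fun k hk => ?_⟩
        have h1 : g * h * k * (g * h)⁻¹ * k⁻¹ =
            (g * (h * k * h⁻¹ * k⁻¹) * g⁻¹) * (g * k * g⁻¹ * k⁻¹) := by group
        rw [h1]
        exact N.mul_mem (Cfsg.Agent.Lib.Helper9.conj_mem_of_mem_normalizer (hAN hg) (hh' k hk))
          (hg' k hk)
      inv_mem' := by
        rintro g ⟨hg, hg'⟩
        refine ⟨A.inv_mem hg, fun k hk => ?_⟩
        have h1 : g⁻¹ * k * g⁻¹⁻¹ * k⁻¹ = g⁻¹ * (g * k * g⁻¹ * k⁻¹)⁻¹ * g⁻¹⁻¹ := by group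
        rw [h1]
        exact Cfsg.Agent.Lib.Helper9.conj_mem_of_mem_normalizer (Subgroup.inv_mem _ (hAN hg))
          (N.inv_mem (hg' k hk)) }
  have hTA : T ≤ A := fun a ha => ha.1
  have hTmem : ∀ a, a ∈ T ↔ a ∈ A ∧ ∀ s ∈ S, a * s * a⁻¹ * s⁻¹ ∈ N := fun a => Iff.rfl
  -- (a)
  have hpa : ∀ a ∈ A, a ∈ T → Nat.card ↥(S ⊓ centralizer {a}) * Nat.card N =
      Nat.card ↥(N ⊓ centralizer {a}) * Nat.card S := by
    intro a ha haT
    have h1 : N ⊓ (S ⊓ centralizer {a}) = N ⊓ centralizer {a} := by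
      rw [← inf_assoc, inf_eq_left.mpr hNS]
    rw [← h1]
    apply card_of_factor hNS inf_le_left
    intro s hs
    exact Cfsg.Agent.Lib.Helper9.exists_centralizer_singleton_of_conj_mem (hA.2 a ha) hS (hAS ha)
      hNS hSnN (hAN ha) hs (haT.2 s hs)
  -- (b)
  have hpb : ∀ a ∈ A, a ∉ T → S ⊓ centralizer {a} = N ⊓ centralizer {a} := by
    intro a ha haT
    have hM : A ≤ normalizer ((N ⊔ (S ⊓ centralizer {a}) : Subgroup G) : Set G) := by
      intro b hb
      refine mem_normalizer_sup (hAN hb) (mem_normalizer_inf (hAS hb) ?_)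
      apply mem_normalizer_centralizer_of_commute
      intro x hx
      rw [Set.mem_singleton_iff] at hx
      rw [hx]
      exact hAcomm a ha b hb
    rcases hmax _ le_sup_left (sup_le hNS inf_le_left) hM with h1 | h1
    · have h2 : S ⊓ centralizer {a} ≤ N := by rw [← h1]; exact le_sup_right
      exact le_antisymm (le_inf h2 inf_le_right) (inf_le_inf_right _ hNS)
    · exfalso
      apply haT
      refine ⟨ha, trivial_action_of_sup (hAN ha) (inf_le_left.trans hSnN) ?_ h1.ge⟩
      intro y hy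
      exact (Subgroup.mem_centralizer_singleton_iff.mp hy.2).symm
  refine ⟨T, hTA, hpa, hpb, ?_⟩
  by_cases hT : T = A
  · left
    refine ⟨hT, ?_⟩
    have h1 : N ⊓ (S ⊓ centralizer (A : Set G)) = N ⊓ centralizer (A : Set G) := by
      rw [← inf_assoc, inf_eq_left.mpr hNS]
    rw [← h1]
    apply card_of_factor hNS inf_le_left
    intro s hs
    have hfix : ∀ a ∈ A, a * s * a⁻¹ * s⁻¹ ∈ N := by
      intro a ha
      have : a ∈ T := by rw [hT]; exact ha
      exact this.2 s hs
    exact Cfsg.Agent.S0022.result A S hAS hcopA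
      (Or.inl (Cfsg.Agent.Lib.Helper9.isSolvable_of_isElementaryAbelian hA)) N hNS hSnN hAN s hs hfix
  · right
    have hCA : S ⊓ centralizer (A : Set G) ≤ N := by
      have hM : A ≤ normalizer ((N ⊔ (S ⊓ centralizer (A : Set G)) : Subgroup G) : Set G) := by
        intro b hb
        refine mem_normalizer_sup (hAN hb) (mem_normalizer_inf (hAS hb) ?_)
        apply mem_normalizer_centralizer_of_commute
        intro x hx
        exact hAcomm x hx b hb
      rcases hmax _ le_sup_left (sup_le hNS inf_le_left) hM with h1 | h1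
      · rw [← h1]; exact le_sup_right
      · exfalso
        apply hT
        apply le_antisymm hTA
        intro a ha
        refine ⟨ha, trivial_action_of_sup (hAN ha) (inf_le_left.trans hSnN) ?_ h1.ge⟩
        intro y hy
        exact (Subgroup.mem_centralizer_iff.mp hy.2 a ha)
    refine ⟨?_, le_antisymm (le_inf hCA inf_le_right) (inf_le_inf_right _ hNS)⟩
    have hdvd : Nat.card T ∣ p ^ 2 := by
      rw [← hA2]; exact Subgroup.card_dvd_of_le hTA
    obtain ⟨i, hi, hTi⟩ := (Nat.dvd_prime_pow hp).mp hdvd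
    interval_cases i
    · exfalso
      rw [pow_zero] at hTi
      have hTbot : T = ⊥ := Subgroup.card_eq_one.mp hTi
      have hgen := Cfsg.Agent.S0058.result A S (not_isCyclic_of_card hA hA2) hAS hcopA
      apply hne
      apply le_antisymm hNS
      rw [← hgen]
      apply iSup₂_le
      intro a ha
      have haT : a ∉ T := by
        rw [hTbot, Subgroup.mem_bot]; exact ha.2
      rw [hpb a ha.1 haT]
      exact inf_le_left
    · rw [hTi, pow_one]
    · exfalso
      apply hT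
      apply Subgroup.eq_of_le_of_card_ge hTA
      rw [hTi, hA2]

end Step


section Wielandt

variable {G : Type u} [Group G] [Finite G] {p : ℕ} [Fact p.Prime]

omit [Finite G] [Fact p.Prime] in
theorem commutator_lt_of_solvable {S : Subgroup G} (hS : Group.IsSolvable S) (hS1 : S ≠ ⊥) :
    ⁅S, S⁆ < S := by
  haveI : Nontrivial ↥S := (Subgroup.nontrivial_iff_ne_bot S).mpr hS1
  have h1 := Group.IsSolvable.commutator_lt_top_of_nontrivial ↥S
  have h2 : (commutator ↥S).map S.subtype = ⁅S, S⁆ := by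
    rw [_root_.commutator_def, Subgroup.map_commutator, ← MonoidHom.range_eq_map,
      Subgroup.range_subtype]
  have hle : ⁅S, S⁆ ≤ S := by rw [← h2]; exact Subgroup.map_subtype_le _
  refine lt_of_le_of_ne hle (fun heq => ?_)
  have h3 : (commutator ↥S).map S.subtype = (⊤ : Subgroup ↥S).map S.subtype := by
    rw [h2, heq, ← MonoidHom.range_eq_map, Subgroup.range_subtype]
  exact h1.ne (Subgroup.map_injective S.subtype_injective h3)

omit [Finite G] [Fact p.Prime] in
theorem prod_ite_mem {A T : Subgroup G} [Fintype ↥A] [Finite ↥T]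
    [DecidablePred fun g : G => g ∈ T] (hTA : T ≤ A) (m : ℕ) :
    ∏ a : ↥A, (if (a : G) ∈ T then m else 1) = m ^ Nat.card ↥T := by
  classical
  rw [Finset.prod_ite, Finset.prod_const, Finset.prod_const_one, mul_one]
  congr 1
  rw [← Fintype.card_subtype, ← Nat.card_eq_fintype_card]
  apply Nat.card_congr
  exact ⟨fun x => ⟨x.1.1, x.2⟩, fun t => ⟨⟨t.1, hTA t.2⟩, t.2⟩, fun _ => rfl, fun _ => rfl⟩

/-- Wielandt's order formula for an elementary abelian group of order `p²` acting on a solvable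
`p'`-group. -/
theorem wielandt_solvable {A : Subgroup G} [Fintype ↥A] (hA : IsElementaryAbelian p A)
    (hA2 : Nat.card A = p ^ 2) :
    ∀ n : ℕ, ∀ S : Subgroup G, Nat.card S = n → Group.IsSolvable S → ¬ p ∣ Nat.card S →
      A ≤ normalizer (S : Set G) →
      ∏ a : ↥A, Nat.card ↥(S ⊓ centralizer {(a : G)}) =
        Nat.card S ^ p * Nat.card ↥(S ⊓ centralizer (A : Set G)) ^ (p ^ 2 - p) := by
  classical
  have hp : p.Prime := Fact.out
  have hpp : p + (p ^ 2 - p) = p ^ 2 := by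
    have : p ≤ p ^ 2 := by
      calc p = p ^ 1 := (pow_one p).symm
        _ ≤ p ^ 2 := Nat.pow_le_pow_right hp.pos (by norm_num)
    omega
  intro n
  induction n using Nat.strong_induction_on with
  | _ n ih =>
  intro S hn hSsolv hSp hAS
  by_cases hS1 : S = ⊥
  · subst hS1
    have h1 : ∀ a : ↥A, Nat.card ↥((⊥ : Subgroup G) ⊓ centralizer {(a : G)}) = 1 := by
      intro a; rw [bot_inf_eq]; exact Subgroup.card_bot
    simp only [h1, Finset.prod_const_one, bot_inf_eq, Subgroup.card_bot, one_pow, mul_one]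
  · have hder := commutator_lt_of_solvable hSsolv hS1
    have hderA : A ≤ normalizer ((⁅S, S⁆ : Subgroup G) : Set G) := fun a ha =>
      Cfsg.Agent.Lib.Helper9.mem_normalizer_commutator (hAS ha) (hAS ha)
    obtain ⟨N, hderN, hNmax⟩ := (Set.toFinite {M : Subgroup G | ⁅S, S⁆ ≤ M ∧ M ≤ S ∧ M ≠ S ∧
      A ≤ normalizer (M : Set G)}).exists_le_maximal (a := ⁅S, S⁆)
        ⟨le_rfl, hder.le, hder.ne, hderA⟩
    obtain ⟨hSN, hNS, hne, hAN⟩ := hNmax.prop
    have hmax : ∀ M : Subgroup G, N ≤ M → M ≤ S → A ≤ normalizer (M : Set G) → M = N ∨ M = S := by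
      intro M hNM hMS hAM
      by_cases hMS' : M = S
      · right; exact hMS'
      · left
        exact le_antisymm (hNmax.le_of_ge ⟨hSN.trans hNM, hMS, hMS', hAM⟩ hNM) hNM
    obtain ⟨T, hTA, hpa, hpb, hcase⟩ := step_lemma hA hA2 hSp hAS hAN hNS hSN hne hmax
    have hNpos : 0 < Nat.card ↥N := Nat.card_pos
    have hidx := Cfsg.Agent.Lib.Helper9.card_mul_relIndex_of_le hNS
    set m := N.relIndex S with hm
    have hNlt : Nat.card ↥N < n := by
      rw [← hn]
      exact Cfsg.Agent.Lib.Helper9.card_lt_of_lt (lt_of_le_of_ne hNS hne)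
    have hNp : ¬ p ∣ Nat.card ↥N := fun h => hSp (h.trans (Subgroup.card_dvd_of_le hNS))
    have hIH := ih _ hNlt N rfl (Cfsg.Agent.Lib.Helper9.isSolvable_of_le hNS hSsolv) hNp hAN
    have hfa : ∀ a : ↥A, Nat.card ↥(S ⊓ centralizer {(a : G)}) =
        Nat.card ↥(N ⊓ centralizer {(a : G)}) * (if (a : G) ∈ T then m else 1) := by
      intro a
      by_cases haT : (a : G) ∈ T
      · rw [if_pos haT]
        have h1 := hpa a.1 a.2 haT
        rw [← hidx, ← mul_assoc] at h1
        have h2 : Nat.card ↥(S ⊓ centralizer {(a : G)}) * Nat.card ↥N =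
            Nat.card ↥(N ⊓ centralizer {(a : G)}) * m * Nat.card ↥N := by
          rw [h1]; ring
        exact Nat.eq_of_mul_eq_mul_right hNpos h2
      · rw [if_neg haT, mul_one, hpb a.1 a.2 haT]
    rw [Finset.prod_congr rfl (fun a _ => hfa a), Finset.prod_mul_distrib, prod_ite_mem hTA, hIH,
      ← hidx]
    rcases hcase with ⟨hT, hc⟩ | ⟨hT, hc⟩
    · have h2 : Nat.card ↥(S ⊓ centralizer (A : Set G)) =
          Nat.card ↥(N ⊓ centralizer (A : Set G)) * m := by
        rw [← hidx, ← mul_assoc] at hc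
        have h3 : Nat.card ↥(S ⊓ centralizer (A : Set G)) * Nat.card ↥N =
            Nat.card ↥(N ⊓ centralizer (A : Set G)) * m * Nat.card ↥N := by
          rw [hc]; ring
        exact Nat.eq_of_mul_eq_mul_right hNpos h3
      have hm2 : m ^ (p ^ 2) = m ^ p * m ^ (p ^ 2 - p) := by rw [← pow_add, hpp]
      rw [h2, hT, hA2, mul_pow, mul_pow, hm2]
      ring
    · rw [hc, hT, mul_pow]
      ring

end Wielandt


section SylowRed

variable {G : Type u} [Group G] [Finite G] {p : ℕ} [Fact p.Prime]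

/-- For an `A`-invariant Sylow `q`-subgroup `S` of `K`, `C_S(B)` is a Sylow `q`-subgroup of
`C_K(B)` for every subset `B` of `A`. -/
theorem card_sylow_inf_centralizer {A K : Subgroup G} (hA : IsElementaryAbelian p A)
    (hK : ¬ p ∣ Nat.card K) (hAK : A ≤ normalizer (K : Set G)) (q : ℕ) [Fact q.Prime]
    (P : Sylow q K) (hP : A ≤ normalizer (((P : Subgroup K).map K.subtype : Subgroup G) : Set G))
    (B : Set G) (hB : B ⊆ (A : Set G)) :
    Nat.card ↥((P : Subgroup K).map K.subtype ⊓ centralizer B) =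
      q ^ (Nat.card ↥(K ⊓ centralizer B)).factorization q := by
  classical
  have hp : p.Prime := Fact.out
  have hq : q.Prime := Fact.out
  haveI := hA.1
  have hAcomm : ∀ a ∈ A, ∀ b ∈ A, a * b = b * a := fun a ha b hb => setLike_mul_comm ha hb
  have hAsolv := Cfsg.Agent.Lib.Helper9.isSolvable_of_isElementaryAbelian hA
  have hAp := Cfsg.Agent.Lib.Helper9.isPGroup_of_isElementaryAbelian hA
  obtain ⟨k, hk⟩ := IsPGroup.iff_card.mp hAp
  have hcop : ∀ H : Subgroup G, H ≤ K → (Nat.card A).Coprime (Nat.card H) := by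
    intro H hH
    rw [hk]
    apply Nat.Coprime.pow_left
    exact (Nat.Prime.coprime_iff_not_dvd hp).mpr (fun h => hK (h.trans (Subgroup.card_dvd_of_le hH)))
  set S := (P : Subgroup K).map K.subtype with hS
  set C := K ⊓ centralizer B with hC
  have hSK : S ≤ K := Subgroup.map_subtype_le _
  have hAC : A ≤ normalizer (C : Set G) := by
    intro a ha
    refine mem_normalizer_inf (hAK ha) ?_
    apply mem_normalizer_centralizer_of_commute
    intro x hx
    exact hAcomm x (hB hx) a ha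
  obtain ⟨T, hT⟩ := Cfsg.Agent.S0023.result A C hAC (hcop C inf_le_left) (Or.inl hAsolv) q
  set T' := (T : Subgroup C).map C.subtype with hT'
  have hT'C : T' ≤ C := Subgroup.map_subtype_le _
  have hT'card : Nat.card ↥T' = q ^ (Nat.card ↥C).factorization q := by
    rw [hT', Subgroup.card_map_of_injective C.subtype_injective]
    exact Sylow.card_eq_multiplicity T
  have hT'q : IsPGroup q ↥T' := T.2.map _
  obtain ⟨P', hP'1, hP'2⟩ := Cfsg.Agent.S0025.result A K hAK (hcop K le_rfl) (Or.inl hAsolv) q T'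
    (hT'C.trans inf_le_left) hT'q hT
  obtain ⟨c, hcA, hc⟩ := Cfsg.Agent.S0024.result A K hAK (hcop K le_rfl) (Or.inl hAsolv) q P' P
    hP'2 hP
  have hconj := Cfsg.Agent.Lib.Helper9.sylow_smul_map_subtype c P' P hc
  have h1 : T'.map (MulAut.conj (c : G)).toMonoidHom ≤ S ⊓ centralizer B := by
    apply le_inf
    · rw [hS, ← hconj]
      exact Subgroup.map_mono hP'1
    · rintro _ ⟨x, hx, rfl⟩
      have hxB : x ∈ centralizer B := (hT'C hx).2
      rw [Subgroup.mem_centralizer_iff]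
      intro b hb
      have h2 := Subgroup.mem_centralizer_iff.mp hxB b hb
      have h3 := Subgroup.mem_centralizer_iff.mp hcA b (hB hb)
      show b * ((c : G) * x * (c : G)⁻¹) = (c : G) * x * (c : G)⁻¹ * b
      have h4 : b * (c : G)⁻¹ = (c : G)⁻¹ * b := by
        calc b * (c : G)⁻¹ = (c : G)⁻¹ * ((c : G) * b) * (c : G)⁻¹ := by group
          _ = (c : G)⁻¹ * (b * (c : G)) * (c : G)⁻¹ := by rw [h3]
          _ = (c : G)⁻¹ * b := by group
      calc b * ((c : G) * x * (c : G)⁻¹) = (b * (c : G)) * x * (c : G)⁻¹ := by group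
        _ = (c : G) * (b * x) * (c : G)⁻¹ := by rw [h3]; group
        _ = (c : G) * x * (b * (c : G)⁻¹) := by rw [h2]; group
        _ = (c : G) * x * (c : G)⁻¹ * b := by rw [h4]; group
  have h2 : Nat.card ↥T' ≤ Nat.card ↥(S ⊓ centralizer B) := by
    have h0 : Nat.card ↥(T'.map (MulAut.conj (c : G)).toMonoidHom) = Nat.card ↥T' :=
      Subgroup.card_map_of_injective (f := (MulAut.conj (c : G)).toMonoidHom)
        (MulAut.conj (c : G)).injective
    rw [← h0]
    exact Subgroup.card_le_of_le h1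
  have hSq : IsPGroup q ↥(S ⊓ centralizer B) := (P.2.map K.subtype).to_le inf_le_left
  obtain ⟨j, hj⟩ := IsPGroup.iff_card.mp hSq
  have h3 : S ⊓ centralizer B ≤ C := inf_le_inf_right _ hSK
  have h4 : q ^ j ∣ Nat.card ↥C := by rw [← hj]; exact Subgroup.card_dvd_of_le h3
  have h5 : j ≤ (Nat.card ↥C).factorization q :=
    (hq.pow_dvd_iff_le_factorization Nat.card_pos.ne').mp h4
  rw [hT'card, hj] at h2
  rw [hj]
  exact le_antisymm (Nat.pow_le_pow_right hq.pos h5) h2

/-- Wielandt's order formula for an elementary abelian group of order `p²` acting on a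
`p'`-group. -/
theorem wielandt {A : Subgroup G} [Fintype ↥A] (hA : IsElementaryAbelian p A)
    (hA2 : Nat.card A = p ^ 2) (K : Subgroup G) (hK : ¬ p ∣ Nat.card K)
    (hAK : A ≤ normalizer (K : Set G)) :
    ∏ a : ↥A, Nat.card ↥(K ⊓ centralizer {(a : G)}) =
      Nat.card K ^ p * Nat.card ↥(K ⊓ centralizer (A : Set G)) ^ (p ^ 2 - p) := by
  classical
  have hp : p.Prime := Fact.out
  have hAsolv := Cfsg.Agent.Lib.Helper9.isSolvable_of_isElementaryAbelian hA
  have hcop : (Nat.card A).Coprime (Nat.card K) := by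
    rw [hA2]
    exact Nat.Coprime.pow_left 2 ((Nat.Prime.coprime_iff_not_dvd hp).mpr hK)
  have hne : ∀ a ∈ (Finset.univ : Finset ↥A), Nat.card ↥(K ⊓ centralizer {(a : G)}) ≠ 0 :=
    fun a _ => Nat.card_pos.ne'
  apply Nat.eq_of_factorization_eq (Finset.prod_ne_zero_iff.mpr hne)
    (mul_ne_zero (pow_ne_zero _ Nat.card_pos.ne') (pow_ne_zero _ Nat.card_pos.ne'))
  intro q
  by_cases hq : q.Prime
  · haveI : Fact q.Prime := ⟨hq⟩
    obtain ⟨P, hP⟩ := Cfsg.Agent.S0023.result A K hAK hcop (Or.inl hAsolv) q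
    set S := (P : Subgroup K).map K.subtype with hS
    have hSK : S ≤ K := Subgroup.map_subtype_le _
    have hSq : IsPGroup q ↥S := P.2.map _
    have hSp : ¬ p ∣ Nat.card ↥S := fun h => hK (h.trans (Subgroup.card_dvd_of_le hSK))
    have hW := wielandt_solvable hA hA2 _ S rfl
      (Cfsg.Agent.Lib.Helper9.isSolvable_of_isPGroup hSq) hSp hP
    have h1 : ∀ a : ↥A, Nat.card ↥(S ⊓ centralizer {(a : G)}) =
        q ^ (Nat.card ↥(K ⊓ centralizer {(a : G)})).factorization q := by
      intro a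
      apply card_sylow_inf_centralizer hA hK hAK q P hP
      intro x hx
      rw [Set.mem_singleton_iff] at hx
      rw [hx]; exact a.2
    have h2 : Nat.card ↥(S ⊓ centralizer (A : Set G)) =
        q ^ (Nat.card ↥(K ⊓ centralizer (A : Set G))).factorization q :=
      card_sylow_inf_centralizer hA hK hAK q P hP _ (Set.Subset.refl _)
    have h3 : Nat.card ↥S = q ^ (Nat.card ↥K).factorization q := by
      rw [hS, Subgroup.card_map_of_injective K.subtype_injective]
      exact Sylow.card_eq_multiplicity P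
    rw [Finset.prod_congr rfl (fun a _ => h1 a), h2, h3, Finset.prod_pow_eq_pow_sum, ← pow_mul,
      ← pow_mul, ← pow_add] at hW
    have h4 := Nat.pow_right_injective hq.two_le hW
    rw [Nat.factorization_prod_apply hne, Nat.factorization_mul (pow_ne_zero _ Nat.card_pos.ne')
      (pow_ne_zero _ Nat.card_pos.ne'), Nat.factorization_pow, Nat.factorization_pow]
    simp only [Finsupp.coe_add, Finsupp.coe_smul, Pi.add_apply, Pi.smul_apply, smul_eq_mul]
    rw [h4]
    ring
  · rw [Nat.factorization_eq_zero_of_not_prime _ hq, Nat.factorization_eq_zero_of_not_prime _ hq]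

end SylowRed


section Main

variable {G : Type u} [Group G] [Finite G] {p : ℕ} [Fact p.Prime]

omit [Finite G] [Fact p.Prime] in
theorem card_singleton_inf {A₀ : Subgroup G} (X Y : Subgroup G) (a : G) :
    Nat.card (((X ⊓ centralizer {a} : Subgroup G) : Set G) * ((Y ⊓ centralizer {a} : Subgroup G) : Set G) : Set G) *
      Nat.card ↥((X ⊓ Y) ⊓ centralizer {a}) =
      Nat.card ↥(X ⊓ centralizer {a}) * Nat.card ↥(Y ⊓ centralizer {a}) := by
  have h := Cfsg.Agent.Lib.Helper4.Card.card_mul_set (X ⊓ centralizer {a}) (Y ⊓ centralizer {a})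
  rw [← inf_inf_distrib_right] at h
  exact h

theorem factor_of_card_two {A K X Y : Subgroup G} (hA : IsElementaryAbelian p A)
    (hA2 : Nat.card A = p ^ 2) (hK : ¬ p ∣ Nat.card ↥K) (hAK : A ≤ normalizer (K : Set G))
    (hX : X ≤ K) (hY : Y ≤ K) (hAX : A ≤ normalizer (X : Set G))
    (hAY : A ≤ normalizer (Y : Set G))
    (hfac : ∀ a ∈ A, a ≠ 1 → ((K ⊓ centralizer {a} : Subgroup G) : Set G) =
      ((X ⊓ centralizer {a} : Subgroup G) : Set G) * ((Y ⊓ centralizer {a} : Subgroup G) : Set G)) :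
    (K : Set G) = (X : Set G) * (Y : Set G) := by
  classical
  have hp : p.Prime := Fact.out
  letI : Fintype ↥A := Fintype.ofFinite _
  have hXp : ¬ p ∣ Nat.card ↥X := fun h => hK (h.trans (Subgroup.card_dvd_of_le hX))
  have hYp : ¬ p ∣ Nat.card ↥Y := fun h => hK (h.trans (Subgroup.card_dvd_of_le hY))
  have hXYp : ¬ p ∣ Nat.card ↥(X ⊓ Y) :=
    fun h => hK (h.trans (Subgroup.card_dvd_of_le (inf_le_left.trans hX)))
  have hAXY : A ≤ normalizer ((X ⊓ Y : Subgroup G) : Set G) :=
    fun a ha => mem_normalizer_inf (hAX ha) (hAY ha)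
  have WK := wielandt hA hA2 K hK hAK
  have WX := wielandt hA hA2 X hXp hAX
  have WY := wielandt hA hA2 Y hYp hAY
  have WXY := wielandt hA hA2 (X ⊓ Y) hXYp hAXY
  set e := p ^ 2 - p with he
  -- the set product is inside K
  have hsub : ((X : Set G) * (Y : Set G) : Set G) ⊆ (K : Set G) := by
    rintro _ ⟨x, hx, y, hy, rfl⟩
    exact K.mul_mem (hX hx) (hY hy)
  have hprod := Cfsg.Agent.Lib.Helper4.Card.card_mul_set X Y
  have hle1 : Nat.card ((X : Set G) * (Y : Set G) : Set G) ≤ Nat.card ↥K :=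
    Nat.card_mono (Set.toFinite _) hsub
  -- v ≤ u
  have hvu : Nat.card ↥X * Nat.card ↥Y ≤ Nat.card ↥K * Nat.card ↥(X ⊓ Y) := by
    rw [← hprod]
    exact Nat.mul_le_mul_right _ hle1
  -- d ≤ c
  have hdc : Nat.card ↥(X ⊓ centralizer (A : Set G)) * Nat.card ↥(Y ⊓ centralizer (A : Set G)) ≤
      Nat.card ↥(K ⊓ centralizer (A : Set G)) * Nat.card ↥((X ⊓ Y) ⊓ centralizer (A : Set G)) := by
    have h := Cfsg.Agent.Lib.Helper4.Card.card_mul_set (X ⊓ centralizer (A : Set G))
      (Y ⊓ centralizer (A : Set G))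
    rw [← inf_inf_distrib_right] at h
    rw [← h]
    apply Nat.mul_le_mul_right
    apply Nat.card_mono (Set.toFinite _)
    rintro _ ⟨x, hx, y, hy, rfl⟩
    exact Subgroup.mul_mem _ (inf_le_inf_right _ hX hx) (inf_le_inf_right _ hY hy)
  -- the local equalities
  have hloc : ∀ a : ↥A, a ≠ 1 →
      Nat.card ↥(K ⊓ centralizer {(a : G)}) * Nat.card ↥((X ⊓ Y) ⊓ centralizer {(a : G)}) =
        Nat.card ↥(X ⊓ centralizer {(a : G)}) * Nat.card ↥(Y ⊓ centralizer {(a : G)}) := by
    intro a ha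
    have ha' : (a : G) ≠ 1 := fun h => ha (Subtype.ext h)
    have h := card_singleton_inf (A₀ := A) X Y (a : G)
    rw [← hfac a.1 a.2 ha'] at h
    exact h
  have hone : ∀ H : Subgroup G, Nat.card ↥(H ⊓ centralizer {((1 : ↥A) : G)}) = Nat.card ↥H := by
    intro H
    have : centralizer {((1 : ↥A) : G)} = ⊤ := by
      rw [eq_top_iff]
      intro g _
      rw [Subgroup.mem_centralizer_singleton_iff]
      simp
    rw [this, inf_top_eq]
  -- split the products at `1`
  have hsplit : ∀ f : ↥A → ℕ, ∏ a : ↥A, f a = f 1 * ∏ a ∈ (Finset.univ : Finset ↥A).erase 1, f a :=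
    fun f => (Finset.mul_prod_erase _ f (Finset.mem_univ 1)).symm
  set R := ∏ a ∈ (Finset.univ : Finset ↥A).erase 1,
    (Nat.card ↥(K ⊓ centralizer {(a : G)}) * Nat.card ↥((X ⊓ Y) ⊓ centralizer {(a : G)})) with hR
  have hR' : R = ∏ a ∈ (Finset.univ : Finset ↥A).erase 1,
      (Nat.card ↥(X ⊓ centralizer {(a : G)}) * Nat.card ↥(Y ⊓ centralizer {(a : G)})) := by
    apply Finset.prod_congr rfl
    intro a ha
    exact hloc a (Finset.ne_of_mem_erase ha)
  have hRpos : 0 < R := by
    apply Finset.prod_pos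
    intro a _
    exact Nat.mul_pos Nat.card_pos Nat.card_pos
  set u := Nat.card ↥K * Nat.card ↥(X ⊓ Y) with hu
  set v := Nat.card ↥X * Nat.card ↥Y with hv
  set c := Nat.card ↥(K ⊓ centralizer (A : Set G)) *
    Nat.card ↥((X ⊓ Y) ⊓ centralizer (A : Set G)) with hc
  set d := Nat.card ↥(X ⊓ centralizer (A : Set G)) * Nat.card ↥(Y ⊓ centralizer (A : Set G)) with hd
  have hupos : 0 < u := Nat.mul_pos Nat.card_pos Nat.card_pos
  have hvpos : 0 < v := Nat.mul_pos Nat.card_pos Nat.card_pos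
  have hcpos : 0 < c := Nat.mul_pos Nat.card_pos Nat.card_pos
  have e1 : u * R = u ^ p * c ^ e := by
    have h1 : (∏ a : ↥A, Nat.card ↥(K ⊓ centralizer {(a : G)})) *
        (∏ a : ↥A, Nat.card ↥((X ⊓ Y) ⊓ centralizer {(a : G)})) = u * R := by
      rw [← Finset.prod_mul_distrib, hsplit, hone, hone]
    rw [← h1, WK, WXY, hu, hc, mul_pow, mul_pow]
    ring
  have e2 : v * R = v ^ p * d ^ e := by
    have h1 : (∏ a : ↥A, Nat.card ↥(X ⊓ centralizer {(a : G)})) *
        (∏ a : ↥A, Nat.card ↥(Y ⊓ centralizer {(a : G)})) = v * R := by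
      rw [← Finset.prod_mul_distrib, hsplit, hone, hone, hR']
    rw [← h1, WX, WY, hv, hd, mul_pow, mul_pow]
    ring
  have hpow : ∀ w : ℕ, w ^ p = w * w ^ (p - 1) := by
    intro w
    rw [← pow_succ', Nat.sub_add_cancel hp.one_le]
  have e1'' : u * R = u * (u ^ (p - 1) * c ^ e) := by rw [e1, hpow u, mul_assoc]
  have e2'' : v * R = v * (v ^ (p - 1) * d ^ e) := by rw [e2, hpow v, mul_assoc]
  have e1' : R = u ^ (p - 1) * c ^ e := Nat.eq_of_mul_eq_mul_left hupos e1''
  have e2' : R = v ^ (p - 1) * d ^ e := Nat.eq_of_mul_eq_mul_left hvpos e2''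
  have huv : u = v := by
    by_contra hne
    have hlt : v < u := lt_of_le_of_ne hvu (Ne.symm hne)
    have h1 : v ^ (p - 1) < u ^ (p - 1) :=
      Nat.pow_lt_pow_left hlt (by have := hp.two_le; omega)
    have h2 : d ^ e ≤ c ^ e := Nat.pow_le_pow_left hdc e
    have h3 : v ^ (p - 1) * d ^ e < u ^ (p - 1) * c ^ e := by
      calc v ^ (p - 1) * d ^ e ≤ v ^ (p - 1) * c ^ e := Nat.mul_le_mul_left _ h2
        _ < u ^ (p - 1) * c ^ e := Nat.mul_lt_mul_of_pos_right h1 (pow_pos hcpos e)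
    rw [← e1', ← e2'] at h3
    exact lt_irrefl _ h3
  -- conclude
  have h4 : Nat.card ((X : Set G) * (Y : Set G) : Set G) = Nat.card ↥K := by
    have h5 : Nat.card ((X : Set G) * (Y : Set G) : Set G) * Nat.card ↥(X ⊓ Y) =
        Nat.card ↥K * Nat.card ↥(X ⊓ Y) := by rw [hprod]; exact huv.symm
    exact Nat.eq_of_mul_eq_mul_right Nat.card_pos h5
  symm
  apply Set.eq_of_subset_of_ncard_le hsub _ (Set.toFinite _)
  rw [← Nat.card_coe_set_eq, ← Nat.card_coe_set_eq, h4]
  exact le_of_eq rfl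

end Main

/-- If a noncyclic elementary abelian p-group A normalizes a p'-group K and A-invariant subgroups X, Y of K satisfy C_K(a) = C_X(a)C_Y(a) for all nontrivial a in A, with X invariant under C_K(A), then K = XY. -/
theorem result {H : Type*} [Group H] [Finite H] (p : ℕ) [Fact p.Prime] (A K X Y : Subgroup H) (hA : Cfsg.IsElementaryAbelian p A) (hA2 : p ^ 2 ≤ Nat.card ↥A) (hK : ¬ p ∣ Nat.card ↥K) (hAK : A ≤ Subgroup.normalizer (K : Set H)) (hX : X ≤ K) (hY : Y ≤ K) (hAX : A ≤ Subgroup.normalizer (X : Set H)) (hAY : A ≤ Subgroup.normalizer (Y : Set H)) (hCX : K ⊓ Subgroup.centralizer (A : Set H) ≤ Subgroup.normalizer (X : Set H)) (hfac : ∀ a ∈ A, a ≠ 1 → ((K ⊓ Subgroup.centralizer {a} : Subgroup H) : Set H) = ((X ⊓ Subgroup.centralizer {a} : Subgroup H) : Set H) * ((Y ⊓ Subgroup.centralizer {a} : Subgroup H) : Set H)) : (K : Set H) = (X : Set H) * (Y : Set H) := by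
  classical
  have hp : p.Prime := Fact.out
  have hAp := Cfsg.Agent.Lib.Helper9.isPGroup_of_isElementaryAbelian hA
  obtain ⟨k, hk⟩ := IsPGroup.iff_card.mp hAp
  have hk2 : 2 ≤ k := by
    by_contra hlt
    push Not at hlt
    rw [hk] at hA2
    have := Nat.pow_lt_pow_right hp.one_lt hlt
    omega
  have hdvd : p ^ 2 ∣ Nat.card ↥A := by
    rw [hk]; exact pow_dvd_pow p hk2
  obtain ⟨A₀', hA₀'⟩ := Sylow.exists_subgroup_card_pow_prime p hdvd
  set A₀ := A₀'.map A.subtype with hA₀
  have hA₀A : A₀ ≤ A := Subgroup.map_subtype_le _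
  have hA₀card : Nat.card ↥A₀ = p ^ 2 := by
    rw [hA₀, Subgroup.card_map_of_injective A.subtype_injective]
    exact hA₀'
  haveI := hA.1
  have hA₀ea : IsElementaryAbelian p A₀ :=
    ⟨⟨⟨fun x y => Subtype.ext (setLike_mul_comm (hA₀A x.2) (hA₀A y.2))⟩⟩,
      fun a ha => hA.2 a (hA₀A ha)⟩
  exact factor_of_card_two hA₀ea hA₀card hK (hA₀A.trans hAK) hX hY (hA₀A.trans hAX)
    (hA₀A.trans hAY) (fun a ha ha1 => hfac a (hA₀A ha) ha1)

end Cfsg.Agent.S1287
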