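import Cfsg.Statements.S1288
import Cfsg.Agent.Lib.Helper9.QCore

set_option autoImplicit false
open Cfsg

namespace Cfsg.Agent.S1288

open Cfsg.Agent.Lib.Helper9
open scoped commutatorElement

/-- Let A be a noncyclic elementary abelian p-subgroup of a finite group H normalizing a solvable subgroup K of order prime to p, q a prime dividing |K|, and U ≤ K a subgroup of order prime to q such that ⁅U, C_K(B)⁆ has order prime to q for every subgroup B of index p in A. Then U ≤ O_{q'}(K). -/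
theorem result {H : Type*} [Group H] [Finite H] (p : ℕ) [Fact p.Prime] (A K : Subgroup H) (hA : Cfsg.IsElementaryAbelian p A) (hA2 : p ^ 2 ≤ Nat.card ↥A) (hK : ¬ p ∣ Nat.card ↥K) (hKs : Group.IsSolvable ↥K) (hAK : A ≤ Subgroup.normalizer (K : Set H)) (q : ℕ) [Fact q.Prime] (hqK : q ∣ Nat.card ↥K) (U : Subgroup H) (hU : U ≤ K) (hUq : ¬ q ∣ Nat.card ↥U) (hcomm : ∀ B : Subgroup H, B ≤ A → B.relIndex A = p → ¬ q ∣ Nat.card ↥⁅U, K ⊓ Subgroup.centralizer (B : Set H)⁆) : U ≤ (Cfsg.pPrimeCore q ↥K).map K.subtype := by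
  have hp : p.Prime := Fact.out
  have hAp : IsPGroup p A := isPGroup_of_isElementaryAbelian hA
  have hA1 : A ≠ ⊥ := by
    rintro rfl
    rw [Subgroup.card_bot] at hA2
    have h1 : 2 ^ 2 ≤ p ^ 2 := Nat.pow_le_pow_left hp.two_le 2
    omega
  have hQK : corePOf q K ≤ K := corePOf_le q K
  have hAQ : A ≤ Subgroup.normalizer ((corePOf q K : Subgroup H) : Set H) :=
    le_normalizer_corePOf q hAK
  have hQp : ¬ p ∣ Nat.card ↥(corePOf q K) :=
    fun h => hK (h.trans (Subgroup.card_dvd_of_le hQK))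
  have hgen := eq_iSup_centralizer_hyperplane hA hQp hAQ
  have hO : pPrimeCore q (↥K ⧸ pPrimeCore q ↥K) = ⊥ := pPrimeCore_quotient_eq_bot q ↥K
  have hCent := Cfsg.Agent.S0017.result (G := ↥K ⧸ pPrimeCore q ↥K) q hO
  have hQq : IsPGroup q (pCore q (↥K ⧸ pPrimeCore q ↥K)) := pCore_isPGroup q _
  have hQn : (pCore q (↥K ⧸ pPrimeCore q ↥K)).Normal := pCore_normal q _
  intro u hu
  -- the image of `u` centralizes `O_q(K / O_{q'}(K))`
  have key : ∀ x' : ↥K, x' ∈ pPrimePCore q ↥K →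
      QuotientGroup.mk' (pPrimeCore q ↥K) x' * QuotientGroup.mk' (pPrimeCore q ↥K) ⟨u, hU hu⟩ =
        QuotientGroup.mk' (pPrimeCore q ↥K) ⟨u, hU hu⟩ *
          QuotientGroup.mk' (pPrimeCore q ↥K) x' := by
    have hle : corePOf q K ≤ ((Subgroup.centralizer
        {QuotientGroup.mk' (pPrimeCore q ↥K) ⟨u, hU hu⟩}).comap
          (QuotientGroup.mk' (pPrimeCore q ↥K))).map K.subtype := by
      rw [hgen]
      apply iSup_le
      rintro ⟨B, hB, hBr⟩
      obtain ⟨B', hB'A, hB'r, hB'B⟩ : ∃ B' : Subgroup H, B' ≤ A ∧ B'.relIndex A = p ∧ B' ≤ B := by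
        rcases relIndex_eq_or_le_of_relIndex_le hAp hBr with h | h
        · exact ⟨B, hB, h, le_rfl⟩
        · obtain ⟨B', hB', hB'r⟩ := exists_hyperplane hAp hA1
          exact ⟨B', hB', hB'r, hB'.trans h⟩
      rintro x ⟨hxQ, hxB⟩
      obtain ⟨x', hx', rfl⟩ := hxQ
      refine ⟨x', ?_, rfl⟩
      show QuotientGroup.mk' (pPrimeCore q ↥K) x' ∈ Subgroup.centralizer
        {QuotientGroup.mk' (pPrimeCore q ↥K) ⟨u, hU hu⟩}
      rw [Subgroup.mem_centralizer_singleton_iff]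
      have hw : ⁅u, (x' : H)⁆ ∈ ⁅U, K ⊓ Subgroup.centralizer (B' : Set H)⁆ :=
        Subgroup.commutator_mem_commutator hu
          ⟨x'.2, Subgroup.centralizer_le hB'B hxB⟩
      have hord : orderOf ⁅u, (x' : H)⁆ ∣
          Nat.card ↥⁅U, K ⊓ Subgroup.centralizer (B' : Set H)⁆ :=
        Subgroup.orderOf_dvd_natCard _ hw
      have hord' : orderOf ⁅(⟨u, hU hu⟩ : ↥K), x'⁆ = orderOf ⁅u, (x' : H)⁆ := by
        rw [← Subgroup.orderOf_coe]
        rfl
      have hπx : QuotientGroup.mk' (pPrimeCore q ↥K) x' ∈ pCore q (↥K ⧸ pPrimeCore q ↥K) := hx'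
      have hmem : QuotientGroup.mk' (pPrimeCore q ↥K) ⁅(⟨u, hU hu⟩ : ↥K), x'⁆ ∈
          pCore q (↥K ⧸ pPrimeCore q ↥K) := by
        rw [map_commutatorElement, commutatorElement_def]
        exact Subgroup.mul_mem _ (hQn.conj_mem _ hπx _) (Subgroup.inv_mem _ hπx)
      have h1 := eq_one_of_isPGroup_of_orderOf_dvd hQq hmem (hcomm B' hB'A hB'r)
        ((orderOf_map_dvd _ _).trans (hord' ▸ hord))
      rw [map_commutatorElement, commutatorElement_eq_one_iff_commute] at h1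
      exact h1.eq.symm
    intro x' hx'
    obtain ⟨z', hz', hzx⟩ := hle ⟨x', hx', rfl⟩
    have h2 : z' = x' := Subtype.ext hzx
    have hz'' : QuotientGroup.mk' (pPrimeCore q ↥K) z' ∈ Subgroup.centralizer
        {QuotientGroup.mk' (pPrimeCore q ↥K) ⟨u, hU hu⟩} := hz'
    rw [h2, Subgroup.mem_centralizer_singleton_iff] at hz''
    exact hz''
  have hmemQ : QuotientGroup.mk' (pPrimeCore q ↥K) ⟨u, hU hu⟩ ∈
      pCore q (↥K ⧸ pPrimeCore q ↥K) := by
    apply hCent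
    rw [Subgroup.mem_centralizer_iff]
    intro y hy
    obtain ⟨x', rfl⟩ := QuotientGroup.mk'_surjective _ y
    exact key x' hy
  have hordu : orderOf (⟨u, hU hu⟩ : ↥K) ∣ Nat.card ↥U := by
    rw [← Subgroup.orderOf_coe]
    exact Subgroup.orderOf_dvd_natCard _ hu
  have h1 := eq_one_of_isPGroup_of_orderOf_dvd hQq hmemQ hUq
    ((orderOf_map_dvd _ _).trans hordu)
  exact ⟨⟨u, hU hu⟩, (QuotientGroup.eq_one_iff _).mp h1, rfl⟩

end Cfsg.Agent.S1288
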