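import Cfsg.Statements.S1292
import Cfsg.Agent.Lib.Helper9.CharP
import Cfsg.Agent.S1268

set_option autoImplicit false
open Cfsg

namespace Cfsg.Agent.S1292

open Cfsg.Agent.Lib.Helper9

/-- Let G be a finite group such that F*(C_G(t)) = O_2(C_G(t)) for every involution t. Then F*(N_G(T)) = O_2(N_G(T)) for every nontrivial 2-subgroup T of G. -/
theorem result {G : Type*} [Group G] [Finite G] (h : ∀ t : G, orderOf t = 2 → Cfsg.generalizedFittingSubgroup ↥(Subgroup.centralizer ({t} : Set G)) = Cfsg.pCore 2 ↥(Subgroup.centralizer ({t} : Set G))) (T : Subgroup G) (hT : IsPGroup 2 ↥T) (hT1 : T ≠ ⊥) : Cfsg.generalizedFittingSubgroup ↥(Subgroup.normalizer (T : Set G)) = Cfsg.pCore 2 ↥(Subgroup.normalizer (T : Set G)) := by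
  have hTnt : Nontrivial T := (Subgroup.nontrivial_iff_ne_bot T).mpr hT1
  have hZnt : Nontrivial (Subgroup.center T) := hT.center_nontrivial
  have hZ2 : IsPGroup 2 (Subgroup.center T) := hT.to_subgroup _
  obtain ⟨k, hk⟩ := IsPGroup.iff_card.mp hZ2
  have h2dvd : 2 ∣ Nat.card (Subgroup.center T) := by
    rw [hk]
    have hk0 : k ≠ 0 := by
      rintro rfl
      have h1 := Finite.one_lt_card (α := Subgroup.center T)
      omega
    exact dvd_pow_self 2 hk0
  obtain ⟨z0, hz0⟩ := exists_prime_orderOf_dvd_card' 2 h2dvd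
  have hz : orderOf (((z0 : T) : G)) = 2 := by
    rw [Subgroup.orderOf_coe, Subgroup.orderOf_coe]; exact hz0
  have hzT : ((z0 : T) : G) ∈ T := (z0 : T).2
  have hzc : ∀ t ∈ T, t * ((z0 : T) : G) = ((z0 : T) : G) * t := fun t ht => by
    have h1 := Subgroup.mem_center_iff.mp z0.2 ⟨t, ht⟩
    exact congrArg Subtype.val h1
  generalize ((z0 : T) : G) = z at hz hzT hzc
  have hTC : T ≤ Subgroup.centralizer ({z} : Set G) := by
    intro t ht
    rw [Subgroup.mem_centralizer_iff]
    intro y hy
    rw [Set.mem_singleton_iff] at hy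
    subst hy
    exact (hzc t ht).symm
  have hT' : IsPGroup 2 (T.subgroupOf (Subgroup.centralizer ({z} : Set G))) :=
    hT.of_equiv (Subgroup.subgroupOfEquivOfLe hTC).symm
  have h1 := Cfsg.Agent.S1268.result 2 (h z hz) _ hT'
  have h2 := gfitting_eq_pCore_of_equiv
    ((Subgroup.normalizer ((T.subgroupOf (Subgroup.centralizer ({z} : Set G)) :
      Subgroup (Subgroup.centralizer ({z} : Set G))) : Set (Subgroup.centralizer ({z} : Set G)))).equivMapOfInjective
      (Subgroup.centralizer ({z} : Set G)).subtype (Subgroup.subtype_injective _)) 2 h1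
  have hMeq : (Subgroup.normalizer ((T.subgroupOf (Subgroup.centralizer ({z} : Set G)) :
      Subgroup (Subgroup.centralizer ({z} : Set G))) : Set (Subgroup.centralizer ({z} : Set G)))).map
      (Subgroup.centralizer ({z} : Set G)).subtype =
      Subgroup.normalizer (T : Set G) ⊓ Subgroup.centralizer ({z} : Set G) := by
    rw [← Subgroup.subgroupOf_normalizer_eq hTC, Subgroup.subgroupOf_map_subtype]
  rw [hMeq] at h2
  refine gfitting_eq_pCore_of_centralizer 2 (M := Subgroup.normalizer (T : Set G) ⊓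
    Subgroup.centralizer ({z} : Set G)) inf_le_left ?_ h2
  intro A' hA'
  apply le_inf (Subgroup.map_subtype_le _)
  rintro x ⟨a, ha, rfl⟩
  rw [Subgroup.mem_centralizer_iff]
  intro y hy
  rw [Set.mem_singleton_iff] at hy
  subst hy
  have hT'n : (T.subgroupOf (Subgroup.normalizer (T : Set G))).Normal :=
    Subgroup.normal_in_normalizer
  have hT'p : IsPGroup 2 (T.subgroupOf (Subgroup.normalizer (T : Set G))) :=
    hT.of_equiv (Subgroup.subgroupOfEquivOfLe Subgroup.le_normalizer).symm
  have hzQ : (⟨y, Subgroup.le_normalizer hzT⟩ : Subgroup.normalizer (T : Set G)) ∈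
      pCore 2 (Subgroup.normalizer (T : Set G)) := le_pCore hT'n hT'p hzT
  have h3 := commute_of_commutator_eq_bot hA' ha hzQ
  exact (congrArg Subtype.val h3).symm

end Cfsg.Agent.S1292
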