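import Cfsg.Statements.S1298
import Cfsg.Agent.Lib.Helper9.KBalance

set_option autoImplicit false
open Cfsg

namespace Cfsg.Agent.S1298
open Cfsg.Agent.Lib.Helper9
open Subgroup

/-- Let G be finite and k ≥ 1. Suppose that for every x of order p, writing C = C_G(x), every component K of C / O_{p'}(C) has K / Z(K) locally k-balanced for p. Then G is k-balanced for p. -/
theorem result {G : Type*} [Group G] [Finite G] (p k : ℕ) [Fact p.Prime] (hk : 1 ≤ k) (h : ∀ x : G, orderOf x = p → ∀ K : Subgroup (↥(Subgroup.centralizer ({x} : Set G)) ⧸ Cfsg.pPrimeCore p ↥(Subgroup.centralizer ({x} : Set G))), Cfsg.IsComponent K → Cfsg.IsLocallyKBalanced p k (↥K ⧸ Subgroup.center ↥K)) : Cfsg.IsKBalanced p k G := by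
  intro A hA hAc b hb hAb
  have hAC : A ≤ centralizer ({b} : Set G) := by
    intro a ha
    rw [Subgroup.mem_centralizer_singleton_iff]
    exact hAb a ha
  have hcore : centralizerPPrimeCore p b = coreOf p (centralizer ({b} : Set G)) := rfl
  rw [hcore]
  apply le_coreOf_of_locally p k hk (centralizer ({b} : Set G)) (h b hb) A hA hAc hAC _ inf_le_right
  intro a ha ha1
  have hcore' : centralizerPPrimeCore p a = coreOf p (centralizer ({a} : Set G)) := rfl
  refine ⟨centralizerPPrimeCore p a ⊓ centralizer ({b} : Set G), ?_, ?_, ?_, ?_⟩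
  · exact inf_le_inf_right _ (signalizerDelta_le_cppc p A ha ha1)
  · refine le_inf inf_le_right (inf_le_left.trans ?_)
    rw [hcore']
    exact coreOf_le p _
  · refine Nat.Coprime.coprime_dvd_left (Subgroup.card_dvd_of_le inf_le_left) ?_
    rw [hcore']
    exact coreOf_coprime p _
  · intro c hc
    apply Cfsg.Agent.Lib.Helper10.Coprime.mem_normalizer_of_conj_mem
    intro s hs
    exact Subgroup.mem_inf.mpr
      ⟨(Subgroup.mem_normalizer_iff.mp (centralizer_le_normalizer_cppc p a hc.2) s).mp hs.1,
        Subgroup.mul_mem _ (Subgroup.mul_mem _ hc.1 hs.2) (Subgroup.inv_mem _ hc.1)⟩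

end Cfsg.Agent.S1298
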