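import Cfsg.Statements.S1297
import Cfsg.Agent.S1298
import Cfsg.Agent.S1300

set_option autoImplicit false
open Cfsg

namespace Cfsg.Agent.S1297
open Cfsg.Agent.Lib.Helper9
open Subgroup

/-- Let G be finite. Suppose that for every involution x, writing C = C_G(x), every component K of C / O(C) has K / Z(K) locally balanced. Then G is balanced. -/
theorem result {G : Type*} [Group G] [Finite G] (h : ∀ x : G, orderOf x = 2 → ∀ K : Subgroup (↥(Subgroup.centralizer ({x} : Set G)) ⧸ Cfsg.oddCore ↥(Subgroup.centralizer ({x} : Set G))), Cfsg.IsComponent K → Cfsg.IsLocallyBalanced (↥K ⧸ Subgroup.center ↥K)) : Cfsg.IsBalanced G := by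
  rw [Cfsg.Agent.S1300.result]
  have : Fact (Nat.Prime 2) := ⟨Nat.prime_two⟩
  apply Cfsg.Agent.S1298.result 2 1 le_rfl
  intro x hx K hK 𝓗 h𝓗 A hA hAc
  have hloc := h x hx K hK 𝓗 h𝓗
  obtain ⟨a, ha, ha1⟩ : ∃ a ∈ A, a ≠ 1 := by
    by_contra hcon
    push Not at hcon
    have hbot : A = ⊥ := by
      rw [eq_bot_iff]; intro e he; rw [Subgroup.mem_bot]; exact hcon e he
    rw [hbot, Subgroup.card_bot] at hAc
    omega
  have hord : orderOf a = 2 := orderOf_eq_prime (hA.2 a ha) ha1
  rw [eq_bot_iff, ← hloc a hord]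
  exact signalizerDelta_le_cppc 2 A ha ha1

end Cfsg.Agent.S1297
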