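import Cfsg.Statements.S1303
import Cfsg.Agent.Lib.Helper9.QCore

set_option autoImplicit false
open Cfsg

namespace Cfsg.Agent.S1303

open Cfsg.Agent.Lib.Helper9
open scoped Pointwise

/-- `SL(2, 3)`. -/
abbrev X23 : Type := Matrix.SpecialLinearGroup (Fin 2) (ZMod 3)

/-- The central involution `-1`. -/
def m1 : X23 := ⟨!![2, 0; 0, 2], by decide⟩

/-- An element of order 3. -/
def u3 : X23 := ⟨!![1, 1; 0, 1], by decide⟩

theorem d1 : ∀ t : X23, t * t = 1 → t = 1 ∨ t = m1 := by decide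

theorem d2 : ∀ g : X23, g * m1 = m1 * g := by decide

theorem d3 : ∀ x : X23, x ≠ 1 → x * x * x = 1 → ∃ g : X23,
    x * (g * x * g⁻¹) = m1 ∨ (x * (g * x * g⁻¹)) * (x * (g * x * g⁻¹)) = m1 ∨
      (x * (g * x * g⁻¹)) * (x * (g * x * g⁻¹)) * (x * (g * x * g⁻¹)) = m1 := by decide

theorem d4 : orderOf m1 = 2 := orderOf_eq_prime (by decide) (by decide)

theorem d5 : ∀ g : X23, (∀ h : X23, h * h * h * h = 1 → h * g = g * h) →
    g * g * g * g = 1 := by decide

theorem d6 : ∀ a b : X23, a * a * a * a = 1 → b * b * b * b = 1 →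
    (a * b) * (a * b) * (a * b) * (a * b) = 1 := by decide

theorem d7 : ∀ a : X23, a * a * a * a = 1 → a⁻¹ * a⁻¹ * a⁻¹ * a⁻¹ = 1 := by decide

theorem d8 : ∀ a g : X23, a * a * a * a = 1 →
    (g * a * g⁻¹) * (g * a * g⁻¹) * (g * a * g⁻¹) * (g * a * g⁻¹) = 1 := by decide

theorem card_X23 : Nat.card X23 = 24 := by
  rw [Nat.card_eq_fintype_card]; decide

/-- The quaternion subgroup. -/
def Q8 : Subgroup X23 where
  carrier := {g | g * g * g * g = 1}
  mul_mem' := fun {a b} ha hb => d6 a b ha hb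
  one_mem' := by show (1 : X23) * 1 * 1 * 1 = 1; simp
  inv_mem' := fun {a} ha => d7 a ha

theorem Q8_normal : Q8.Normal := ⟨fun a ha g => d8 a g ha⟩

theorem normal_le_sylow {Y : Type*} [Group Y] [Finite Y] {p : ℕ} [Fact p.Prime]
    {N : Subgroup Y} (hN : N.Normal) (hp : IsPGroup p N) (P : Sylow p Y) :
    N ≤ (P : Subgroup Y) := by
  obtain ⟨Q, hQ⟩ := hp.exists_le_sylow
  obtain ⟨g, rfl⟩ := MulAction.exists_smul_eq Y Q P
  intro n hn
  rw [Sylow.coe_subgroup_smul, Subgroup.mem_smul_pointwise_iff_exists]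
  refine ⟨g⁻¹ * n * g, hQ ?_, ?_⟩
  · have h := hN.conj_mem n hn g⁻¹
    rwa [inv_inv] at h
  · show g * (g⁻¹ * n * g) * g⁻¹ = n
    group

theorem pPrimeCore_eq_bot : Cfsg.pPrimeCore 2 X23 = ⊥ := by
  rw [eq_bot_iff]
  apply sSup_le
  rintro N ⟨hN, hNc⟩
  intro x hx
  rw [Subgroup.mem_bot]
  by_contra hx1
  have h24 : Nat.card N ∣ 24 := card_X23 ▸ Subgroup.card_subgroup_dvd_card N
  have h3 : Nat.card N ∣ 3 := by
    have h8 : (Nat.card N).Coprime 8 := by
      have : (8 : ℕ) = 2 ^ 3 := by norm_num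
      rw [this]; exact Nat.Coprime.pow_right 3 hNc
    have h24' : Nat.card N ∣ 3 * 8 := by norm_num; exact h24
    exact Nat.Coprime.dvd_of_dvd_mul_right h8 h24'
  have hx3 : x * x * x = 1 := by
    have h1 : orderOf x ∣ 3 := (Subgroup.orderOf_dvd_natCard N hx).trans h3
    have h2 := orderOf_dvd_iff_pow_eq_one.mp h1
    rw [pow_succ, pow_two] at h2
    exact h2
  obtain ⟨g, hg⟩ := d3 x hx1 hx3
  have hy : x * (g * x * g⁻¹) ∈ N := N.mul_mem hx (hN.conj_mem x hx g)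
  have hm : m1 ∈ N := by
    rcases hg with h | h | h
    · rw [← h]; exact hy
    · rw [← h]; exact N.mul_mem hy hy
    · rw [← h]; exact N.mul_mem (N.mul_mem hy hy) hy
  have h2 : 2 ∣ Nat.card N := by
    have h6 := Subgroup.orderOf_dvd_natCard N hm
    rwa [d4] at h6
  have h5 := Nat.dvd_gcd h2 (dvd_refl 2)
  rw [Nat.Coprime.gcd_eq_one hNc] at h5
  norm_num at h5

theorem Q8_le : Q8 ≤ Cfsg.pPrimePCore 2 X23 := by
  intro h hh
  unfold Cfsg.pPrimePCore
  rw [Subgroup.mem_comap]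
  have hn : (Q8.map (QuotientGroup.mk' (Cfsg.pPrimeCore 2 X23))).Normal :=
    Subgroup.Normal.map Q8_normal _ (QuotientGroup.mk'_surjective _)
  have hp : IsPGroup 2 (Q8.map (QuotientGroup.mk' (Cfsg.pPrimeCore 2 X23))) := by
    have hq : IsPGroup 2 Q8 := by
      rintro ⟨a, ha⟩
      refine ⟨2, Subtype.ext ?_⟩
      have ha' : a * a * a * a = 1 := ha
      show a ^ (2 ^ 2) = 1
      rw [show (2 : ℕ) ^ 2 = 4 by norm_num, pow_succ, pow_succ, pow_two]
      exact ha'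
    exact hq.map _
  exact le_pCore hn hp ⟨h, hh, rfl⟩

theorem constrained : Cfsg.IsPConstrained 2 X23 := by
  intro P c hc
  apply Q8_le
  apply d5
  intro h hh
  have hW : h ∈ Cfsg.pPrimePCore 2 X23 := Q8_le hh
  have hn : (Q8.subgroupOf (Cfsg.pPrimePCore 2 X23)).Normal := Q8_normal.subgroupOf _
  have hp : IsPGroup 2 (Q8.subgroupOf (Cfsg.pPrimePCore 2 X23)) := by
    rintro ⟨⟨a, haW⟩, ha⟩
    refine ⟨2, Subtype.ext (Subtype.ext ?_)⟩
    have ha' : a * a * a * a = 1 := ha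
    show a ^ (2 ^ 2) = 1
    rw [show (2 : ℕ) ^ 2 = 4 by norm_num, pow_succ, pow_succ, pow_two]
    exact ha'
  have hle := normal_le_sylow hn hp P
  have hmem : h ∈ (P : Subgroup ↥(Cfsg.pPrimePCore 2 X23)).map
      (Cfsg.pPrimePCore 2 X23).subtype := ⟨⟨h, hW⟩, hle hh, rfl⟩
  exact hc h hmem

/-- The group X = SL(2, 3): it is 2-constrained, O_{2'}(X) = 1, its centre A = Z(X) contains every involution of X = C_X(A), and X has a subgroup of order 3 (normalized by A) not contained in O_{2'}(X). -/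
theorem result : Cfsg.IsPConstrained 2 (Matrix.SpecialLinearGroup (Fin 2) (ZMod 3)) ∧ Cfsg.pPrimeCore 2 (Matrix.SpecialLinearGroup (Fin 2) (ZMod 3)) = ⊥ ∧ (∀ t : Matrix.SpecialLinearGroup (Fin 2) (ZMod 3), orderOf t = 2 → t ∈ Subgroup.center (Matrix.SpecialLinearGroup (Fin 2) (ZMod 3))) ∧ ∃ Q : Subgroup (Matrix.SpecialLinearGroup (Fin 2) (ZMod 3)), Nat.card ↥Q = 3 ∧ ¬ (Q ≤ Cfsg.pPrimeCore 2 (Matrix.SpecialLinearGroup (Fin 2) (ZMod 3))) := by
  refine ⟨constrained, pPrimeCore_eq_bot, ?_, ?_⟩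
  · intro t ht
    have h1 : t * t = 1 := by
      have h := pow_orderOf_eq_one t
      rw [ht, pow_two] at h
      exact h
    have h2 : t ≠ 1 := by
      rintro rfl
      rw [orderOf_one] at ht
      norm_num at ht
    rcases d1 t h1 with h | h
    · exact absurd h h2
    · rw [h, Subgroup.mem_center_iff]
      exact d2
  · refine ⟨Subgroup.zpowers u3, ?_, ?_⟩
    · rw [Nat.card_zpowers]
      exact orderOf_eq_prime (by decide) (by decide)
    · rw [pPrimeCore_eq_bot]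
      intro h
      have h1 := h (Subgroup.mem_zpowers u3)
      rw [Subgroup.mem_bot] at h1
      exact absurd h1 (by decide)

end Cfsg.Agent.S1303
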