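import Cfsg.Statements.S1306
import Cfsg.Agent.Lib.Helper9.KBalance

set_option autoImplicit false
open Cfsg

namespace Cfsg.Agent.S1306

open Subgroup Cfsg.Agent.Lib.Helper9

universe u

variable {G : Type u} [Group G]

theorem isComponent_subgroupOf_map_equiv (e : G ≃* G) {L C C' : Subgroup G}
    (hC : C.map e.toMonoidHom = C') (h : IsComponent (L.subgroupOf C)) :
    IsComponent ((L.map e.toMonoidHom).subgroupOf C') := by
  subst hC
  have h1 := isComponent_map_equiv (C.equivMapOfInjective e.toMonoidHom e.injective) h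
  have h2 : (L.subgroupOf C).map (C.equivMapOfInjective e.toMonoidHom e.injective).toMonoidHom =
      (L.map e.toMonoidHom).subgroupOf (C.map e.toMonoidHom) := by
    ext z
    rw [Subgroup.mem_subgroupOf]
    constructor
    · rintro ⟨c, hc, rfl⟩
      exact ⟨(c : G), Subgroup.mem_subgroupOf.mp hc, rfl⟩
    · rintro ⟨l, hl, hlz⟩
      obtain ⟨c, hc, hcz⟩ := z.2
      have hcl : c = l := e.injective (hcz.trans hlz.symm)
      have hcL : (⟨c, hc⟩ : ↥C) ∈ L.subgroupOf C := by
        rw [Subgroup.mem_subgroupOf]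
        show c ∈ L
        rw [hcl]; exact hl
      exact ⟨⟨c, hc⟩, hcL, Subtype.ext hcz⟩
  rwa [h2] at h1

theorem map_conj_centralizer_singleton (g y : G) :
    (centralizer ({y} : Set G)).map (MulAut.conj g).toMonoidHom =
      centralizer ({g * y * g⁻¹} : Set G) := by
  ext z
  constructor
  · intro hz
    obtain ⟨c, hc, rfl⟩ := Subgroup.mem_map.mp hz
    rw [Subgroup.mem_centralizer_singleton_iff] at hc ⊢
    show g * c * g⁻¹ * (g * y * g⁻¹) = g * y * g⁻¹ * (g * c * g⁻¹)
    calc g * c * g⁻¹ * (g * y * g⁻¹) = g * (c * y) * g⁻¹ := by group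
      _ = g * (y * c) * g⁻¹ := by rw [hc]
      _ = g * y * g⁻¹ * (g * c * g⁻¹) := by group
  · intro hz
    rw [Subgroup.mem_centralizer_singleton_iff] at hz
    refine Subgroup.mem_map.mpr ⟨g⁻¹ * z * g, ?_, ?_⟩
    · rw [Subgroup.mem_centralizer_singleton_iff]
      calc g⁻¹ * z * g * y = g⁻¹ * (z * (g * y * g⁻¹)) * g := by group
        _ = g⁻¹ * ((g * y * g⁻¹) * z) * g := by rw [hz]
        _ = y * (g⁻¹ * z * g) := by group
    · show g * (g⁻¹ * z * g) * g⁻¹ = z
      group

theorem conj_component {L : Subgroup G} {y : G} (g : G)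
    (h : IsComponent (L.subgroupOf (centralizer ({y} : Set G)))) :
    IsComponent ((L.map (MulAut.conj g).toMonoidHom).subgroupOf
      (centralizer ({g * y * g⁻¹} : Set G))) :=
  isComponent_subgroupOf_map_equiv (MulAut.conj g) (map_conj_centralizer_singleton g y) h

theorem conj_le_centralizer {L : Subgroup G} {y : G} (g : G)
    (h : L ≤ centralizer ({y} : Set G)) :
    L.map (MulAut.conj g).toMonoidHom ≤ centralizer ({g * y * g⁻¹} : Set G) := by
  rw [← map_conj_centralizer_singleton]
  exact Subgroup.map_mono h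

variable [Finite G]

/-- The key step: if an involution `y` centralizes both `L` and `L^g` then `L^g = L`. -/
theorem key {L : Subgroup G}
    (hne : ∀ y : G, orderOf y = 2 → y ∈ centralizer (L : Set G) →
      L ≤ centralizer ({y} : Set G) ∧ IsComponent (L.subgroupOf (centralizer ({y} : Set G))))
    (hnc : ∀ g : G, L.map (MulAut.conj g).toMonoidHom ≠ L →
      ⁅L, L.map (MulAut.conj g).toMonoidHom⁆ ≠ ⊥)
    {y g : G} (hy : orderOf y = 2) (hyL : y ∈ centralizer (L : Set G))
    (hyg : g⁻¹ * y * g ∈ centralizer (L : Set G)) : L.map (MulAut.conj g).toMonoidHom = L := by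
  have hy' : orderOf (g⁻¹ * y * g) = 2 := by
    have h := orderOf_injective (MulAut.conj g⁻¹).toMonoidHom (MulAut.conj g⁻¹).injective y
    have e : (MulAut.conj g⁻¹).toMonoidHom y = g⁻¹ * y * g := by
      show g⁻¹ * y * g⁻¹⁻¹ = _
      rw [inv_inv]
    rw [e] at h
    rw [h, hy]
  obtain ⟨h1, h2⟩ := hne y hy hyL
  obtain ⟨h3, h4⟩ := hne (g⁻¹ * y * g) hy' hyg
  have h5 := conj_le_centralizer g h3
  have h6 := conj_component g h4
  have e : g * (g⁻¹ * y * g) * g⁻¹ = y := by group
  rw [e] at h5 h6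
  by_contra hcon
  apply hnc g hcon
  have hne' : L.subgroupOf (centralizer ({y} : Set G)) ≠
      (L.map (MulAut.conj g).toMonoidHom).subgroupOf (centralizer ({y} : Set G)) := by
    intro heq
    apply hcon
    apply le_antisymm
    · exact le_of_subgroupOf_le h5 heq.symm.le
    · exact le_of_subgroupOf_le h1 heq.le
  exact commutator_subgroupOf_eq_bot h1 h5 (component_commute h2 h6 hne')

theorem conj_mem_centralizer_of_map_eq {L : Subgroup G} {g : G}
    (h : L.map (MulAut.conj g).toMonoidHom = L) {s : G} (hs : s ∈ centralizer (L : Set G)) :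
    g * s * g⁻¹ ∈ centralizer (L : Set G) := by
  rw [Subgroup.mem_centralizer_iff] at hs ⊢
  intro l hl
  rw [← h] at hl
  obtain ⟨l', hl', rfl⟩ := hl
  show g * l' * g⁻¹ * (g * s * g⁻¹) = g * s * g⁻¹ * (g * l' * g⁻¹)
  calc g * l' * g⁻¹ * (g * s * g⁻¹) = g * (l' * s) * g⁻¹ := by group
    _ = g * (s * l') * g⁻¹ := by rw [hs l' hl']
    _ = g * s * g⁻¹ * (g * l' * g⁻¹) := by group

theorem result {G : Type*} [Group G] [Finite G] (x : G) (hx : orderOf x = 2) (L : Subgroup G) (hLx : L ≤ Subgroup.centralizer ({x} : Set G)) (hL : Cfsg.IsComponent (L.subgroupOf (Subgroup.centralizer ({x} : Set G)))) (hne : ∀ y : G, orderOf y = 2 → y ∈ Subgroup.centralizer (L : Set G) → L ≤ Subgroup.centralizer ({y} : Set G) ∧ Cfsg.IsComponent (L.subgroupOf (Subgroup.centralizer ({y} : Set G)))) (hnc : ∀ g : G, L.map (MulAut.conj g).toMonoidHom ≠ L → ⁅L, L.map (MulAut.conj g).toMonoidHom⁆ ≠ ⊥) : Cfsg.IsStandardSubgroup L := by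
  have hxL : x ∈ centralizer (L : Set G) := by
    rw [Subgroup.mem_centralizer_iff]
    intro l hl
    exact Subgroup.mem_centralizer_singleton_iff.mp (hLx hl)
  have hNC : ∀ g : G, L.map (MulAut.conj g).toMonoidHom = L →
      g ∈ normalizer ((centralizer (L : Set G) : Subgroup G) : Set G) := by
    intro g hg
    apply Cfsg.Agent.Lib.Helper10.Coprime.mem_normalizer_of_conj_mem
    intro s hs
    exact conj_mem_centralizer_of_map_eq hg hs
  refine ⟨qs_of_equiv hL.2 (Subgroup.subgroupOfEquivOfLe hLx), ⟨?_, ?_⟩, hnc, ?_⟩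
  · rw [even_iff_two_dvd, ← hx]
    have := orderOf_dvd_natCard (⟨x, hxL⟩ : ↥(centralizer (L : Set G)))
    rwa [Subgroup.orderOf_mk] at this
  · intro g hg
    by_contra hodd
    rw [Nat.not_odd_iff_even, even_iff_two_dvd] at hodd
    have : Fact (Nat.Prime 2) := ⟨Nat.prime_two⟩
    obtain ⟨y, hy⟩ := exists_prime_orderOf_dvd_card' 2 hodd
    have hy2 : orderOf (y : G) = 2 := by rw [Subgroup.orderOf_coe]; exact hy
    have hy1 : (y : G) ∈ centralizer (L : Set G) := y.2.1
    obtain ⟨h, hh, hhy⟩ := Subgroup.mem_map.mp y.2.2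
    have hy3 : g⁻¹ * (y : G) * g ∈ centralizer (L : Set G) := by
      rw [← hhy]
      show g⁻¹ * (g * h * g⁻¹) * g ∈ _
      have e : g⁻¹ * (g * h * g⁻¹) * g = h := by group
      rw [e]; exact hh
    exact hg (hNC g (key hne hnc hy2 hy1 hy3))
  · apply le_antisymm
    · intro g hg
      exact hNC g (Subgroup.mem_normalizer_iff_map_conj_eq.mp hg)
    · intro g hg
      have h1 : g * x * g⁻¹ ∈ centralizer (L : Set G) :=
        (Subgroup.mem_normalizer_iff.mp hg x).mp hxL
      have h2 : orderOf (g * x * g⁻¹) = 2 := by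
        have h := orderOf_injective (MulAut.conj g).toMonoidHom (MulAut.conj g).injective x
        have e : (MulAut.conj g).toMonoidHom x = g * x * g⁻¹ := rfl
        rw [e] at h
        rw [h, hx]
      have h3 : g⁻¹ * (g * x * g⁻¹) * g ∈ centralizer (L : Set G) := by
        have e : g⁻¹ * (g * x * g⁻¹) * g = x := by group
        rw [e]; exact hxL
      exact Subgroup.mem_normalizer_iff_map_conj_eq.mpr (key hne hnc h2 h1 h3)

end Cfsg.Agent.S1306
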