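import Cfsg.Statements.S1312
import Cfsg.Agent.Lib.Helper9.KBalance

set_option autoImplicit false
open Cfsg

namespace Cfsg.Agent.S1312

open Subgroup Cfsg.Agent.Lib.Helper9

universe u

section general

variable {G : Type u} [Group G] [Finite G]

theorem component_descend {A B : Subgroup G} (hAB : A ≤ B) {L' : Subgroup ↥B}
    (hL' : IsComponent L') (hL'A : L'.map B.subtype ≤ A) :
    ∃ E : Subgroup ↥A, IsComponent E ∧ E.map A.subtype = L'.map B.subtype := by
  have hL'H : L' ≤ A.subgroupOf B := by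
    intro l hl
    rw [Subgroup.mem_subgroupOf]
    exact hL'A ⟨l, hl, rfl⟩
  have hc1 : IsComponent (L'.subgroupOf (A.subgroupOf B)) := isComponent_subgroupOf hL' hL'H
  have hc2 := isComponent_map_equiv (Subgroup.subgroupOfEquivOfLe hAB) hc1
  refine ⟨_, hc2, ?_⟩
  ext x
  constructor
  · rintro ⟨e, ⟨u, hu, rfl⟩, rfl⟩
    exact ⟨(u : ↥B), Subgroup.mem_subgroupOf.mp hu, rfl⟩
  · rintro ⟨l, hl, rfl⟩
    exact ⟨Subgroup.subgroupOfEquivOfLe hAB ⟨l, hL'H hl⟩,
      ⟨⟨l, hL'H hl⟩, Subgroup.mem_subgroupOf.mpr hl, rfl⟩, rfl⟩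

theorem eq_one_of_pow_eq_one_of_coprime {z : G} {m : ℕ} (h : z ^ m = 1)
    (hc : (orderOf z).Coprime m) : z = 1 :=
  orderOf_eq_one_iff.mp (Nat.Coprime.eq_one_of_dvd hc (orderOf_dvd_of_pow_eq_one h))

theorem pow_eq_one_of_conj {n v z : G} {m : ℕ} (hz : n * v * n⁻¹ = z * v) (hcomm : Commute z v)
    (hm : v ^ m = 1) : z ^ m = 1 := by
  have h1 : (z * v) ^ m = 1 := by
    rw [← hz, conj_pow, hm, mul_one, mul_inv_cancel]
  rwa [hcomm.mul_pow, hm, mul_one] at h1

/-- The subgroup of elements centralizing `O_r(X)` for all primes `r ≠ s`. -/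
def Yc (X : Type u) [Group X] (s : ℕ) : Subgroup X :=
  ⨅ (r : ℕ) (_ : r.Prime ∧ r ≠ s), centralizer (pCore r X : Set X)

theorem mem_Yc {X : Type u} [Group X] {s : ℕ} {x : X} :
    x ∈ Yc X s ↔ ∀ r : ℕ, r.Prime → r ≠ s → x ∈ centralizer (pCore r X : Set X) := by
  unfold Yc
  simp only [Subgroup.mem_iInf]
  constructor
  · intro h r hr hrs
    exact h r ⟨hr, hrs⟩
  · intro h r hr
    exact h r hr.1 hr.2

theorem Yc_normal (X : Type u) [Group X] (s : ℕ) : (Yc X s).Normal := by
  unfold Yc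
  apply Subgroup.normal_iInf_normal
  intro r
  apply Subgroup.normal_iInf_normal
  intro _
  have := pCore_normal r X
  exact Subgroup.normal_centralizer

theorem Yc_inf_le {X : Type u} [Group X] [Finite X] (hE : layer X = ⊥) {p q : ℕ} (hpq : p ≠ q) :
    Yc X p ⊓ Yc X q ≤ fittingSubgroup X := by
  have hgf : generalizedFittingSubgroup X = fittingSubgroup X := by
    unfold generalizedFittingSubgroup
    rw [hE, bot_sup_eq]
  intro x hx
  have hxp := mem_Yc.mp hx.1
  have hxq := mem_Yc.mp hx.2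
  have hall : ∀ r : ℕ, r.Prime → x ∈ centralizer (pCore r X : Set X) := by
    intro r hr
    by_cases h : r = p
    · exact hxq r hr (by rw [h]; exact hpq)
    · exact hxp r hr h
  have hle : fittingSubgroup X ≤ centralizer ({x} : Set X) := by
    apply fitting_le_of_forall_pCore_le
    intro r hr f hf
    rw [Subgroup.mem_centralizer_singleton_iff]
    exact Subgroup.mem_centralizer_iff.mp (hall r hr) f hf
  have hxc : x ∈ centralizer (generalizedFittingSubgroup X : Set X) := by
    rw [hgf, Subgroup.mem_centralizer_iff]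
    intro f hf
    exact Subgroup.mem_centralizer_singleton_iff.mp (hle hf)
  have := centralizer_gfitting_le X hxc
  rwa [hgf] at this

end general


section nint

variable {X : Type u} [Group X] [Finite X]

/-- Key commutator computation: `[Y_q, U] ≤ O_p(X)`. -/
theorem comm_mem_pCore (hE : layer X = ⊥) {p q : ℕ} [hp : Fact p.Prime] (hpq : p ≠ q)
    (U : Subgroup X) (hU : IsPGroup p U)
    (hUc : ∀ r : ℕ, r.Prime → r ≠ p → U ≤ centralizer (pCore r X : Set X))
    {y u : X} (hy : y ∈ Yc X q) (hu : u ∈ U) : y * u * y⁻¹ * u⁻¹ ∈ pCore p X := by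
  have hYqn := Yc_normal X q
  have hYpn := Yc_normal X p
  have hOn := pCore_normal p X
  have huYp : u ∈ Yc X p := mem_Yc.mpr (fun r hr hrp => hUc r hr hrp hu)
  have hcq : y * u * y⁻¹ * u⁻¹ ∈ Yc X q := by
    have h1 : u * y⁻¹ * u⁻¹ ∈ Yc X q := hYqn.conj_mem _ ((Yc X q).inv_mem hy) u
    have h2 : y * u * y⁻¹ * u⁻¹ = y * (u * y⁻¹ * u⁻¹) := by group
    rw [h2]
    exact (Yc X q).mul_mem hy h1
  have hcp : y * u * y⁻¹ * u⁻¹ ∈ Yc X p :=
    (Yc X p).mul_mem (hYpn.conj_mem _ huYp y) ((Yc X p).inv_mem huYp)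
  have hcF : y * u * y⁻¹ * u⁻¹ ∈ fittingSubgroup X := Yc_inf_le hE hpq ⟨hcp, hcq⟩
  -- decomposition of the Fitting subgroup
  have hFle : fittingSubgroup X ≤
      pCore p X ⊔ (pPrimeCore p X ⊓ centralizer (U : Set X)) := by
    apply fitting_le_of_forall_pCore_le
    intro r hr
    by_cases hrp : r = p
    · rw [hrp]; exact le_sup_left
    · refine le_trans (le_inf ?_ ?_) le_sup_right
      · apply le_pPrimeCore (pCore_normal r X)
        have : Fact r.Prime := ⟨hr⟩
        obtain ⟨k, hk⟩ := (IsPGroup.iff_card.mp (pCore_isPGroup r X))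
        rw [hk]
        exact Nat.Coprime.pow_left k ((Nat.coprime_primes hr hp.out).mpr hrp)
      · exact Subgroup.le_centralizer_iff.mp (hUc r hr hrp)
  have hnorm : (pPrimeCore p X ⊓ centralizer (U : Set X)) ≤ normalizer (pCore p X : Set X) := by
    rw [Subgroup.normalizer_eq_top_iff.mpr hOn]
    exact le_top
  obtain ⟨a, ha, b, hb, hab⟩ := exists_mul_of_mem_sup_of_le_normalizer hnorm (hFle hcF)
  have hbu : Commute b u := by
    have := Subgroup.mem_centralizer_iff.mp hb.2 u hu
    exact this.symm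
  have hab' : Commute a b := commute_of_commutator_eq_bot (pCore_commute_pPrimeCore p X) ha hb.1
  -- the order of u
  obtain ⟨k, hk⟩ := hU ⟨u, hu⟩
  have huk : u ^ (p ^ k) = 1 := congrArg Subtype.val hk
  have hconj : y * u * y⁻¹ = b * (a * u) := by
    have h1 : y * u * y⁻¹ = (y * u * y⁻¹ * u⁻¹) * u := by group
    rw [h1, hab, hab'.eq, mul_assoc]
  have hcomm2 : Commute b (a * u) := Commute.mul_right hab'.symm hbu
  have h1 : (b * (a * u)) ^ (p ^ k) = 1 := by
    rw [← hconj, conj_pow, huk, mul_one, mul_inv_cancel]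
  rw [hcomm2.mul_pow] at h1
  have hau : (a * u) ^ (p ^ k) ∈ pCore p X := by
    rw [← QuotientGroup.eq_one_iff, QuotientGroup.mk_pow, QuotientGroup.mk_mul,
      (QuotientGroup.eq_one_iff a).mpr ha, one_mul, ← QuotientGroup.mk_pow, huk]
    rfl
  have hbk : b ^ (p ^ k) ∈ pCore p X := by
    have h2 : b ^ (p ^ k) = ((a * u) ^ (p ^ k))⁻¹ := eq_inv_of_mul_eq_one_left h1
    rw [h2]
    exact (pCore p X).inv_mem hau
  have hbk' : b ^ (p ^ k) ∈ pPrimeCore p X := (pPrimeCore p X).pow_mem hb.1 _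
  have hbk1 : b ^ (p ^ k) = 1 := by
    have h3 : b ^ (p ^ k) ∈ pCore p X ⊓ pPrimeCore p X := ⟨hbk, hbk'⟩
    rw [pCore_inf_pPrimeCore p X] at h3
    exact h3
  have hb1 : b = 1 := by
    apply eq_one_of_pow_eq_one_of_coprime hbk1
    have h4 : orderOf b ∣ Nat.card (pPrimeCore p X) := by
      have := orderOf_dvd_natCard (⟨b, hb.1⟩ : pPrimeCore p X)
      rwa [Subgroup.orderOf_mk] at this
    exact Nat.Coprime.pow_right k
      (Nat.Coprime.coprime_dvd_left h4 (pPrimeCore_coprime p X))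
  rw [hab, hb1, mul_one]
  exact ha

theorem sub_pCore_of_centralizer_le_normalizer (hE : layer X = ⊥) {p q : ℕ}
    [hp : Fact p.Prime] [hq : Fact q.Prime] (hpq : p ≠ q)
    (U V : Subgroup X) (hU : IsPGroup p U) (hV : IsPGroup q V)
    (hUc : ∀ r : ℕ, r.Prime → r ≠ p → U ≤ centralizer (pCore r X : Set X))
    (hVc : ∀ r : ℕ, r.Prime → r ≠ q → V ≤ centralizer (pCore r X : Set X))
    (hCN : centralizer (V : Set X) ≤ normalizer (U : Set X)) :
    U ≤ pCore p X := by
  have hYqn := Yc_normal X q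
  have hOn := pCore_normal p X
  obtain ⟨π, hπ⟩ : ∃ π : X →* X ⧸ pCore p X, π = QuotientGroup.mk' (pCore p X) := ⟨_, rfl⟩
  have hπsurj : Function.Surjective π := by rw [hπ]; exact QuotientGroup.mk'_surjective _
  have hπ1 : ∀ x : X, π x = 1 ↔ x ∈ pCore p X := by
    intro x; rw [hπ]; exact QuotientGroup.eq_one_iff x
  have hmapn : ((Yc X q).map π).Normal := hYqn.map π hπsurj
  obtain ⟨B, hB⟩ : ∃ B : Subgroup X,
      B = (centralizer (((Yc X q).map π : Subgroup (X ⧸ pCore p X)) : Set (X ⧸ pCore p X))).comap π :=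
    ⟨_, rfl⟩
  have hBn : B.Normal := by
    rw [hB]
    exact Subgroup.Normal.comap Subgroup.normal_centralizer π
  have hmemB : ∀ n : X, n ∈ B ↔ ∀ y ∈ Yc X q, π y * π n = π n * π y := by
    intro n
    rw [hB, Subgroup.mem_comap, Subgroup.mem_centralizer_iff]
    constructor
    · intro h y hy
      exact h (π y) ⟨y, hy, rfl⟩
    · rintro h _ ⟨y, hy, rfl⟩
      exact h y hy
  have hUB : U ≤ B := by
    intro u hu
    rw [hmemB]
    intro y hy
    have h1 := (hπ1 _).mpr (comm_mem_pCore hE hpq U hU hUc hy hu)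
    rw [map_mul, map_mul, map_mul, map_inv, map_inv] at h1
    calc π y * π u = (π y * π u * (π y)⁻¹ * (π u)⁻¹) * (π u * π y) := by group
      _ = π u * π y := by rw [h1, one_mul]
  have hVY : V ≤ Yc X q := fun v hv => mem_Yc.mpr (fun r hr hrq => hVc r hr hrq hv)
  have hBV : B ≤ centralizer (V : Set X) := by
    intro n hn
    rw [Subgroup.mem_centralizer_iff]
    intro v hv
    have h1 := (hmemB n).mp hn v (hVY hv)
    have hz : n * v * n⁻¹ * v⁻¹ ∈ pCore p X := by
      rw [← hπ1, map_mul, map_mul, map_mul, map_inv, map_inv, ← h1]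
      group
    have hzv : Commute (n * v * n⁻¹ * v⁻¹) v := by
      have := Subgroup.mem_centralizer_iff.mp (hVc p hp.out hpq hv) _ hz
      exact this
    obtain ⟨k, hk⟩ := hV ⟨v, hv⟩
    have hvk : v ^ (q ^ k) = 1 := congrArg Subtype.val hk
    have hzk : (n * v * n⁻¹ * v⁻¹) ^ (q ^ k) = 1 :=
      pow_eq_one_of_conj (n := n) (v := v) (by group) hzv hvk
    have hz1 : n * v * n⁻¹ * v⁻¹ = 1 :=
      eq_one_of_isPGroup_of_orderOf_dvd (pCore_isPGroup p X) hz
        (fun hdvd => hpq ((Nat.prime_dvd_prime_iff_eq hp.out hq.out).mp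
          (hp.out.dvd_of_dvd_pow hdvd)))
        (orderOf_dvd_of_pow_eq_one hzk)
    calc v * n = (n * v * n⁻¹ * v⁻¹)⁻¹ * (n * v) := by group
      _ = n * v := by rw [hz1, inv_one, one_mul]
  have hUn : (U.subgroupOf B).Normal :=
    (Subgroup.normal_subgroupOf_iff_le_normalizer hUB).mpr (hBV.trans hCN)
  have hUp : IsPGroup p (U.subgroupOf B) := hU.comap_subtype
  have h1 : U.subgroupOf B ≤ pCore p ↥B := le_pCore hUn hUp
  have h2 : (pCore p ↥B).map B.subtype ≤ pCore p X := pCore_subtype_le p B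
  intro u hu
  exact h2 ⟨⟨u, hUB hu⟩, h1 (Subgroup.mem_subgroupOf.mpr hu), rfl⟩

end nint


section main

variable {G : Type u} [Group G] [Finite G]

theorem le_normalizer_map_subtype {M : Subgroup G} (A : Subgroup ↥M) (hA : A.Normal) :
    M ≤ normalizer ((A.map M.subtype : Subgroup G) : Set G) := by
  intro m hm
  apply Cfsg.Agent.Lib.Helper10.Coprime.mem_normalizer_of_conj_mem
  rintro s ⟨s', hs', rfl⟩
  exact ⟨⟨m, hm⟩ * s' * (⟨m, hm⟩ : ↥M)⁻¹, hA.conj_mem s' hs' ⟨m, hm⟩, rfl⟩

theorem normalizer_eq_of_coatom [IsSimpleGroup G] {M : Subgroup G} (hM : IsCoatom M)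
    {X : Subgroup G} (hX : X ≠ ⊥) (hMX : M ≤ normalizer (X : Set G)) (hXM : X ≤ M) :
    normalizer (X : Set G) = M := by
  rcases hM.le_iff.mp hMX with h | h
  · exfalso
    have hn : X.Normal := Subgroup.normalizer_eq_top_iff.mp h
    rcases hn.eq_bot_or_eq_top with h' | h'
    · exact hX h'
    · apply hM.1
      rw [eq_top_iff, ← h']
      exact hXM
  · exact h

theorem normalizer_map_subtype_eq [IsSimpleGroup G] {M : Subgroup G} (hM : IsCoatom M)
    (A : Subgroup ↥M) (hAn : A.Normal) (hA : A ≠ ⊥) :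
    normalizer ((A.map M.subtype : Subgroup G) : Set G) = M := by
  apply normalizer_eq_of_coatom hM _ (le_normalizer_map_subtype A hAn) (Subgroup.map_subtype_le A)
  intro h
  apply hA
  exact (Subgroup.map_eq_bot_iff_of_injective A M.subtype_injective).mp h

theorem layer_image_le {M N : Subgroup G}
    (h1 : (generalizedFittingSubgroup ↥M).map M.subtype ≤ N)
    (h2 : (generalizedFittingSubgroup ↥N).map N.subtype ≤ M) :
    (layer ↥N).map N.subtype ≤ (layer ↥M).map M.subtype := by
  unfold layer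
  rw [Subgroup.map_le_iff_le_comap]
  apply sSup_le
  intro K' hK'
  rw [← Subgroup.map_le_iff_le_comap]
  change IsComponent K' at hK'
  by_cases hex : ∃ J' : Subgroup ↥M, IsComponent J' ∧ J'.map M.subtype = K'.map N.subtype
  · obtain ⟨J', hJ', hJK⟩ := hex
    rw [← hJK]
    exact Subgroup.map_mono (le_sSup hJ')
  · exfalso
    push Not at hex
    have hKM : K'.map N.subtype ≤ M :=
      le_trans (Subgroup.map_mono ((component_le_layer hK').trans (layer_le_gfitting _))) h2
    have hKH : K'.map N.subtype ≤ M ⊓ N := le_inf hKM (Subgroup.map_subtype_le K')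
    obtain ⟨E, hE, hEK⟩ := component_descend (inf_le_right : M ⊓ N ≤ N) hK' hKH
    have hcompJ : ∀ J' : Subgroup ↥M, IsComponent J' → ∀ j ∈ J', ∀ k ∈ K'.map N.subtype,
        (j : G) * k = k * (j : G) := by
      intro J' hJ' j hj k hk
      have hJN : J'.map M.subtype ≤ N :=
        le_trans (Subgroup.map_mono ((component_le_layer hJ').trans (layer_le_gfitting _))) h1
      have hJH : J'.map M.subtype ≤ M ⊓ N := le_inf (Subgroup.map_subtype_le J') hJN
      obtain ⟨EJ, hEJ, hEJmap⟩ := component_descend (inf_le_left : M ⊓ N ≤ M) hJ' hJH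
      have hne : EJ ≠ E := by
        intro h
        apply hex J' hJ'
        rw [← hEJmap, h, hEK]
      have hcomm := component_commute hEJ hE hne
      have hj' : (j : G) ∈ EJ.map (M ⊓ N).subtype := by rw [hEJmap]; exact ⟨j, hj, rfl⟩
      have hk' : k ∈ E.map (M ⊓ N).subtype := by rw [hEK]; exact hk
      obtain ⟨ej, hej, hejj⟩ := hj'
      obtain ⟨ek, hek, hekk⟩ := hk'
      have := commute_of_commutator_eq_bot hcomm hej hek
      rw [← hejj, ← hekk]
      exact congrArg Subtype.val this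
    have hcompF : ∀ f ∈ fittingSubgroup ↥M, ∀ k ∈ K'.map N.subtype,
        (f : G) * k = k * (f : G) := by
      intro f hf k hk
      obtain ⟨C, hC⟩ : ∃ C : Subgroup ↥(M ⊓ N), C = (fittingSubgroup ↥M).comap
          (Subgroup.inclusion (inf_le_left : M ⊓ N ≤ M)) := ⟨_, rfl⟩
      have hCn : C.Normal := by rw [hC]; exact Subgroup.Normal.comap (fitting_normal _) _
      have hCs : Group.IsSolvable ↥C := by
        have : Group.IsNilpotent ↥(fittingSubgroup ↥M) := fitting_isNilpotent _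
        have hinj : Function.Injective ((Subgroup.inclusion (inf_le_left : M ⊓ N ≤ M)).subgroupComap
            (fittingSubgroup ↥M)) := by
          intro x y h
          have h' : (Subgroup.inclusion (inf_le_left : M ⊓ N ≤ M)) (x : ↥(M ⊓ N)) =
              (Subgroup.inclusion (inf_le_left : M ⊓ N ≤ M)) (y : ↥(M ⊓ N)) :=
            congrArg Subtype.val h
          exact Subtype.ext (Subgroup.inclusion_injective _ h')
        rw [hC]
        exact Group.isSolvable_of_isSolvable_injective hinj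
      have hcomm := component_commute_of_solvable hE hCn.isSubnormal hCs
      have hfN : (f : G) ∈ N := h1 ⟨f, fitting_le_gfitting _ hf, rfl⟩
      have hfC : (⟨(f : G), ⟨f.2, hfN⟩⟩ : ↥(M ⊓ N)) ∈ C := by
        rw [hC, Subgroup.mem_comap]
        exact hf
      have hk' : k ∈ E.map (M ⊓ N).subtype := by rw [hEK]; exact hk
      obtain ⟨ek, hek, hekk⟩ := hk'
      have := commute_of_commutator_eq_bot hcomm hek hfC
      rw [← hekk]
      exact (congrArg Subtype.val this).symm
    have hcent : ∀ a (ha : a ∈ K'.map N.subtype),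
        (⟨a, hKM ha⟩ : ↥M) ∈ centralizer (generalizedFittingSubgroup ↥M : Set ↥M) := by
      intro a ha
      have hle : generalizedFittingSubgroup ↥M ≤ centralizer ({(⟨a, hKM ha⟩ : ↥M)} : Set ↥M) := by
        apply sup_le
        · apply sSup_le
          intro J' hJ' j hj
          rw [Subgroup.mem_centralizer_singleton_iff]
          exact Subtype.ext (hcompJ J' hJ' j hj a ha)
        · intro f hf
          rw [Subgroup.mem_centralizer_singleton_iff]
          exact Subtype.ext (hcompF f hf a ha)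
      rw [Subgroup.mem_centralizer_iff]
      intro h hh
      exact Subgroup.mem_centralizer_singleton_iff.mp (hle hh)
    have hab : ∀ a ∈ K'.map N.subtype, ∀ b ∈ K'.map N.subtype, b * a = a * b := by
      intro a ha b hb
      have h3 := centralizer_gfitting_le ↥M (hcent b hb)
      have h4 := Subgroup.mem_centralizer_iff.mp (hcent a ha) _ h3
      exact congrArg Subtype.val h4
    have hperf : ⁅K', K'⁆ = K' := Subgroup.isPerfect_iff.mp hK'.2.1
    have hbot : ⁅K', K'⁆ = ⊥ := by
      apply commutator_eq_bot_of_commute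
      intro x hx y hy
      exact Subtype.ext (hab (y : G) ⟨y, hy, rfl⟩ (x : G) ⟨x, hx, rfl⟩)
    have hnt := qs_nontrivial hK'.2
    rw [hperf] at hbot
    exact (Subgroup.nontrivial_iff_ne_bot K').mp hnt hbot

theorem layer_eq_bot [IsSimpleGroup G] {M N : Subgroup G} (hM : IsCoatom M) (hN : IsCoatom N)
    (hMN : M ≠ N)
    (h1 : (generalizedFittingSubgroup ↥M).map M.subtype ≤ N)
    (h2 : (generalizedFittingSubgroup ↥N).map N.subtype ≤ M) : layer ↥M = ⊥ := by
  by_contra hne
  have heq : (layer ↥M).map M.subtype = (layer ↥N).map N.subtype :=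
    le_antisymm (layer_image_le h2 h1) (layer_image_le h1 h2)
  have hneN : layer ↥N ≠ ⊥ := by
    intro h
    apply hne
    rw [h, Subgroup.map_bot] at heq
    exact (Subgroup.map_eq_bot_iff_of_injective _ M.subtype_injective).mp heq
  have e1 := normalizer_map_subtype_eq hM (layer ↥M) (layer_normal _) hne
  have e2 := normalizer_map_subtype_eq hN (layer ↥N) (layer_normal _) hneN
  rw [heq] at e1
  exact hMN (e1.symm.trans e2)

end main


section final

variable {G : Type u} [Group G] [Finite G]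

theorem claimB {M N : Subgroup G}
    (h1 : (generalizedFittingSubgroup ↥M).map M.subtype ≤ N)
    (h2 : (generalizedFittingSubgroup ↥N).map N.subtype ≤ M)
    {p r : ℕ} [Fact p.Prime] [Fact r.Prime] (hpr : p ≠ r)
    {a b : G} (ha : a ∈ (pCore p ↥M).map M.subtype) (hb : b ∈ (pCore r ↥N).map N.subtype) :
    a * b = b * a := by
  have hMpN : (pCore p ↥M).map M.subtype ≤ N :=
    le_trans (Subgroup.map_mono ((pCore_le_fitting p ↥M).trans (fitting_le_gfitting _))) h1
  have hNrM : (pCore r ↥N).map N.subtype ≤ M :=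
    le_trans (Subgroup.map_mono ((pCore_le_fitting r ↥N).trans (fitting_le_gfitting _))) h2
  have hnM := le_normalizer_map_subtype (pCore p ↥M) (pCore_normal p ↥M)
  have hnN := le_normalizer_map_subtype (pCore r ↥N) (pCore_normal r ↥N)
  have hz1 : a * b * a⁻¹ * b⁻¹ ∈ (pCore p ↥M).map M.subtype := by
    have h3 : b * a⁻¹ * b⁻¹ ∈ (pCore p ↥M).map M.subtype :=
      (Subgroup.mem_normalizer_iff.mp (hnM (hNrM hb)) a⁻¹).mp (Subgroup.inv_mem _ ha)
    have h4 : a * b * a⁻¹ * b⁻¹ = a * (b * a⁻¹ * b⁻¹) := by group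
    rw [h4]
    exact Subgroup.mul_mem _ ha h3
  have hz2 : a * b * a⁻¹ * b⁻¹ ∈ (pCore r ↥N).map N.subtype := by
    have h3 : a * b * a⁻¹ ∈ (pCore r ↥N).map N.subtype :=
      (Subgroup.mem_normalizer_iff.mp (hnN (hMpN ha)) b).mp hb
    exact Subgroup.mul_mem _ h3 (Subgroup.inv_mem _ hb)
  have hdisj := IsPGroup.disjoint_of_ne p r hpr _ _
    ((pCore_isPGroup p ↥M).map M.subtype) ((pCore_isPGroup r ↥N).map N.subtype)
  have hz : a * b * a⁻¹ * b⁻¹ = 1 := by
    have := (Subgroup.disjoint_def.mp hdisj) hz1 hz2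
    exact this
  calc a * b = (a * b * a⁻¹ * b⁻¹) * (b * a) := by group
    _ = b * a := by rw [hz, one_mul]

theorem pCore_image_le [IsSimpleGroup G] {M N : Subgroup G} (hM : IsCoatom M)
    (h1 : (generalizedFittingSubgroup ↥M).map M.subtype ≤ N)
    (h2 : (generalizedFittingSubgroup ↥N).map N.subtype ≤ M)
    (hEN : layer ↥N = ⊥) {p q : ℕ} [hp : Fact p.Prime] [hq : Fact q.Prime] (hpq : p ≠ q)
    (hqM : pCore q ↥M ≠ ⊥) :
    (pCore p ↥M).map M.subtype ≤ (pCore p ↥N).map N.subtype := by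
  have hMpN : (pCore p ↥M).map M.subtype ≤ N :=
    le_trans (Subgroup.map_mono ((pCore_le_fitting p ↥M).trans (fitting_le_gfitting _))) h1
  have hMqN : (pCore q ↥M).map M.subtype ≤ N :=
    le_trans (Subgroup.map_mono ((pCore_le_fitting q ↥M).trans (fitting_le_gfitting _))) h1
  have key := sub_pCore_of_centralizer_le_normalizer (X := ↥N) hEN hpq
    (((pCore p ↥M).map M.subtype).subgroupOf N) (((pCore q ↥M).map M.subtype).subgroupOf N)
    ((pCore_isPGroup p ↥M).map M.subtype).comap_subtype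
    ((pCore_isPGroup q ↥M).map M.subtype).comap_subtype
    (by
      intro r hr hrp u hu
      have : Fact r.Prime := ⟨hr⟩
      rw [Subgroup.mem_centralizer_iff]
      intro f hf
      apply Subtype.ext
      exact (claimB h1 h2 (Ne.symm hrp) (Subgroup.mem_subgroupOf.mp hu) ⟨f, hf, rfl⟩).symm)
    (by
      intro r hr hrq u hu
      have : Fact r.Prime := ⟨hr⟩
      rw [Subgroup.mem_centralizer_iff]
      intro f hf
      apply Subtype.ext
      exact (claimB h1 h2 (Ne.symm hrq) (Subgroup.mem_subgroupOf.mp hu) ⟨f, hf, rfl⟩).symm)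
    (by
      intro n hn
      have hnc : (n : G) ∈ centralizer (((pCore q ↥M).map M.subtype : Subgroup G) : Set G) := by
        rw [Subgroup.mem_centralizer_iff]
        intro b hb
        have := Subgroup.mem_centralizer_iff.mp hn ⟨b, hMqN hb⟩ (Subgroup.mem_subgroupOf.mpr hb)
        exact congrArg Subtype.val this
      have hnM : (n : G) ∈ M := by
        rw [← normalizer_map_subtype_eq hM (pCore q ↥M) (pCore_normal q ↥M) hqM]
        exact Subgroup.centralizer_le_normalizer _ hnc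
      have hnn := le_normalizer_map_subtype (pCore p ↥M) (pCore_normal p ↥M) hnM
      rw [Subgroup.mem_normalizer_iff]
      intro h
      rw [Subgroup.mem_subgroupOf, Subgroup.mem_subgroupOf]
      exact Subgroup.mem_normalizer_iff.mp hnn (h : G))
  intro a ha
  exact ⟨⟨a, hMpN ha⟩, key (Subgroup.mem_subgroupOf.mpr ha), rfl⟩

theorem two_primes [IsSimpleGroup G] {M N : Subgroup G} (hM : IsCoatom M) (hN : IsCoatom N)
    (hMN : M ≠ N)
    (h1 : (generalizedFittingSubgroup ↥M).map M.subtype ≤ N)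
    (h2 : (generalizedFittingSubgroup ↥N).map N.subtype ≤ M)
    (hEM : layer ↥M = ⊥) (hEN : layer ↥N = ⊥)
    {p q : ℕ} [hp : Fact p.Prime] [hq : Fact q.Prime] (hpq : p ≠ q)
    (hpM : pCore p ↥M ≠ ⊥) (hqM : pCore q ↥M ≠ ⊥) : False := by
  have hpp := pCore_image_le hM h1 h2 hEN hpq hqM
  have hqq := pCore_image_le hM h1 h2 hEN hpq.symm hpM
  have hpN : pCore p ↥N ≠ ⊥ := by
    intro h
    apply hpM
    rw [h, Subgroup.map_bot, le_bot_iff] at hpp
    exact (Subgroup.map_eq_bot_iff_of_injective _ M.subtype_injective).mp hpp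
  have hqN : pCore q ↥N ≠ ⊥ := by
    intro h
    apply hqM
    rw [h, Subgroup.map_bot, le_bot_iff] at hqq
    exact (Subgroup.map_eq_bot_iff_of_injective _ M.subtype_injective).mp hqq
  have hpp' := pCore_image_le hN h2 h1 hEM hpq hqN
  have heq := le_antisymm hpp hpp'
  have e1 := normalizer_map_subtype_eq hM (pCore p ↥M) (pCore_normal p ↥M) hpM
  have e2 := normalizer_map_subtype_eq hN (pCore p ↥N) (pCore_normal p ↥N) hpN
  rw [heq] at e1
  exact hMN (e1.symm.trans e2)

theorem isPGroup_gfit {X : Type u} [Group X] [Finite X] (hE : layer X = ⊥) {p : ℕ}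
    [Fact p.Prime] (h : ∀ r : ℕ, r.Prime → r ≠ p → pCore r X = ⊥) :
    IsPGroup p ↥(generalizedFittingSubgroup X) := by
  have hgf : generalizedFittingSubgroup X = fittingSubgroup X := by
    unfold generalizedFittingSubgroup
    rw [hE, bot_sup_eq]
  have hle : generalizedFittingSubgroup X ≤ pCore p X := by
    rw [hgf]
    apply fitting_le_of_forall_pCore_le
    intro r hr
    by_cases hrp : r = p
    · rw [hrp]
    · rw [h r hr hrp]; exact bot_le
  exact (pCore_isPGroup p X).to_le hle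

theorem cross {M N : Subgroup G}
    (h1 : (generalizedFittingSubgroup ↥M).map M.subtype ≤ N)
    (h2 : (generalizedFittingSubgroup ↥N).map N.subtype ≤ M)
    (hEM : layer ↥M = ⊥) {p s : ℕ} [hp : Fact p.Prime] [hs : Fact s.Prime] (hps : p ≠ s)
    (hall : ∀ r : ℕ, r.Prime → r ≠ p → pCore r ↥M = ⊥) : pCore s ↥N = ⊥ := by
  have hgf : generalizedFittingSubgroup ↥M = fittingSubgroup ↥M := by
    unfold generalizedFittingSubgroup
    rw [hEM, bot_sup_eq]
  have hle : generalizedFittingSubgroup ↥M ≤ pCore p ↥M := by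
    rw [hgf]
    apply fitting_le_of_forall_pCore_le
    intro r hr
    by_cases hrp : r = p
    · rw [hrp]
    · rw [hall r hr hrp]; exact bot_le
  have hNsM : (pCore s ↥N).map N.subtype ≤ M :=
    le_trans (Subgroup.map_mono ((pCore_le_fitting s ↥N).trans (fitting_le_gfitting _))) h2
  rw [eq_bot_iff]
  intro b hb
  have hbG : (b : G) ∈ (pCore s ↥N).map N.subtype := ⟨b, hb, rfl⟩
  have hbc : (⟨(b : G), hNsM hbG⟩ : ↥M) ∈
      centralizer (generalizedFittingSubgroup ↥M : Set ↥M) := by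
    rw [Subgroup.mem_centralizer_iff]
    intro f hf
    apply Subtype.ext
    exact claimB h1 h2 hps ⟨f, hle hf, rfl⟩ hbG
  have hbp : (b : G) ∈ (pCore p ↥M).map M.subtype :=
    ⟨_, hle (centralizer_gfitting_le ↥M hbc), rfl⟩
  have hdisj := IsPGroup.disjoint_of_ne p s hps _ _
    ((pCore_isPGroup p ↥M).map M.subtype) ((pCore_isPGroup s ↥N).map N.subtype)
  have hb1 : (b : G) = 1 := (Subgroup.disjoint_def.mp hdisj) hbp hbG
  rw [Subgroup.mem_bot]
  exact Subtype.ext hb1

end final

theorem result {G : Type*} [Group G] [Finite G] [IsSimpleGroup G] (hna : ¬ IsMulCommutative G) (M N : Subgroup G) (hM : IsCoatom M) (hN : IsCoatom N) (hMN : M ≠ N) (h1 : (Cfsg.generalizedFittingSubgroup ↥M).map M.subtype ≤ N) (h2 : (Cfsg.generalizedFittingSubgroup ↥N).map N.subtype ≤ M) : ∃ p : ℕ, p.Prime ∧ IsPGroup p ↥(Cfsg.generalizedFittingSubgroup ↥M) ∧ IsPGroup p ↥(Cfsg.generalizedFittingSubgroup ↥N) := by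
  have hEM : layer ↥M = ⊥ := layer_eq_bot hM hN hMN h1 h2
  have hEN : layer ↥N = ⊥ := layer_eq_bot hN hM (Ne.symm hMN) h2 h1
  by_cases hP : ∃ p : ℕ, p.Prime ∧ pCore p ↥M ≠ ⊥
  · obtain ⟨p, hp, hpM⟩ := hP
    have : Fact p.Prime := ⟨hp⟩
    have hMall : ∀ r : ℕ, r.Prime → r ≠ p → pCore r ↥M = ⊥ := by
      intro r hr hrp
      by_contra h
      have : Fact r.Prime := ⟨hr⟩
      exact two_primes hM hN hMN h1 h2 hEM hEN (Ne.symm hrp) hpM h
    have hNall : ∀ r : ℕ, r.Prime → r ≠ p → pCore r ↥N = ⊥ := by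
      intro r hr hrp
      have : Fact r.Prime := ⟨hr⟩
      exact cross h1 h2 hEM (Ne.symm hrp) hMall
    exact ⟨p, hp, isPGroup_gfit hEM hMall, isPGroup_gfit hEN hNall⟩
  · push Not at hP
    by_cases hQ : ∃ s : ℕ, s.Prime ∧ pCore s ↥N ≠ ⊥
    · obtain ⟨s, hs, hsN⟩ := hQ
      have : Fact s.Prime := ⟨hs⟩
      have hNall : ∀ r : ℕ, r.Prime → r ≠ s → pCore r ↥N = ⊥ := by
        intro r hr hrs
        by_contra h
        have : Fact r.Prime := ⟨hr⟩
        exact two_primes hN hM (Ne.symm hMN) h2 h1 hEN hEM (Ne.symm hrs) hsN h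
      exact ⟨s, hs, isPGroup_gfit hEM (fun r hr _ => hP r hr), isPGroup_gfit hEN hNall⟩
    · push Not at hQ
      have : Fact (Nat.Prime 2) := ⟨Nat.prime_two⟩
      exact ⟨2, Nat.prime_two, isPGroup_gfit hEM (fun r hr _ => hP r hr),
        isPGroup_gfit hEN (fun r hr _ => hQ r hr)⟩

end Cfsg.Agent.S1312
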