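import Cfsg.Statements.S1314
import Cfsg.Agent.Lib.Helper9.QCore

set_option autoImplicit false
open Cfsg

namespace Cfsg.Agent.S1314

open Cfsg.Agent.Lib.Helper9
open scoped commutatorElement

/-- Let x be an involution of a group G and L a perfect subgroup with ⁅L, x L x⁻¹⁆ = 1. Then l ↦ l (x l x⁻¹) is a group homomorphism π from L to G whose kernel is central in L and whose image lies in C_G(x); and the commutator subgroup of C_{L ⊔ xLx⁻¹}(x) equals the image of π. -/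
theorem result {G : Type*} [Group G] [Finite G] (x : G) (hx : orderOf x = 2) (L : Subgroup G) (hperf : ⁅L, L⁆ = L) (hcomm : ⁅L, L.map (MulAut.conj x).toMonoidHom⁆ = ⊥) : ∃ π : ↥L →* G, (∀ l : ↥L, π l = (l : G) * (x * (l : G) * x⁻¹)) ∧ π.ker ≤ Subgroup.center ↥L ∧ π.range ≤ Subgroup.centralizer ({x} : Set G) ∧ ⁅(L ⊔ L.map (MulAut.conj x).toMonoidHom) ⊓ Subgroup.centralizer ({x} : Set G), (L ⊔ L.map (MulAut.conj x).toMonoidHom) ⊓ Subgroup.centralizer ({x} : Set G)⁆ = π.range := by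
  have hxx : x * x = 1 := by
    have h := pow_orderOf_eq_one x
    rw [hx, pow_two] at h
    exact h
  have hxi : x⁻¹ = x := inv_eq_of_mul_eq_one_left hxx
  have hc : ∀ a ∈ L, ∀ b ∈ L.map (MulAut.conj x).toMonoidHom, a * b = b * a :=
    fun a ha b hb => commute_of_commutator_eq_bot hcomm ha hb
  have hmemx : ∀ l ∈ L, x * l * x⁻¹ ∈ L.map (MulAut.conj x).toMonoidHom :=
    fun l hl => ⟨l, hl, rfl⟩
  have hmul : ∀ l m : ↥L, ((l * m : ↥L) : G) * (x * ((l * m : ↥L) : G) * x⁻¹) =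
      ((l : G) * (x * (l : G) * x⁻¹)) * ((m : G) * (x * (m : G) * x⁻¹)) := by
    intro l m
    have h1 := hc (m : G) m.2 (x * (l : G) * x⁻¹) (hmemx l l.2)
    show (l : G) * (m : G) * (x * ((l : G) * (m : G)) * x⁻¹) = _
    calc (l : G) * (m : G) * (x * ((l : G) * (m : G)) * x⁻¹)
        = (l : G) * ((m : G) * (x * (l : G) * x⁻¹)) * (x * (m : G) * x⁻¹) := by group
      _ = (l : G) * ((x * (l : G) * x⁻¹) * (m : G)) * (x * (m : G) * x⁻¹) := by rw [h1]
      _ = _ := by group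
  refine ⟨MonoidHom.mk' (fun l : ↥L => (l : G) * (x * (l : G) * x⁻¹)) hmul, fun l => rfl, ?_, ?_, ?_⟩
  · intro l hl
    have h1 : (l : G) * (x * (l : G) * x⁻¹) = 1 := hl
    have h2 : (l : G) ∈ L.map (MulAut.conj x).toMonoidHom := by
      have h4 : x * (l : G) * x⁻¹ = (l : G)⁻¹ := eq_inv_of_mul_eq_one_right h1
      have h3 : (l : G) = x * (l : G)⁻¹ * x⁻¹ := by
        calc (l : G) = (x * x) * (l : G) * (x * x)⁻¹ := by rw [hxx]; group
          _ = x * (x * (l : G) * x⁻¹) * x⁻¹ := by group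
          _ = x * (l : G)⁻¹ * x⁻¹ := by rw [h4]
      rw [h3]
      exact hmemx _ (L.inv_mem l.2)
    rw [Subgroup.mem_center_iff]
    intro m
    apply Subtype.ext
    exact hc (m : G) m.2 (l : G) h2
  · rintro _ ⟨l, rfl⟩
    rw [Subgroup.mem_centralizer_singleton_iff]
    show (l : G) * (x * (l : G) * x⁻¹) * x = x * ((l : G) * (x * (l : G) * x⁻¹))
    have h1 := hc (l : G) l.2 (x * (l : G) * x⁻¹) (hmemx l l.2)
    calc (l : G) * (x * (l : G) * x⁻¹) * x = (x * (l : G) * x⁻¹) * (l : G) * x := by rw [h1]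
      _ = x * (l : G) * x⁻¹ * (l : G) * x := by group
      _ = x * (l : G) * x * (l : G) * x⁻¹ := by rw [hxi]
      _ = x * ((l : G) * (x * (l : G) * x⁻¹)) := by group
  · have hrange : ∀ l : ↥L, (l : G) * (x * (l : G) * x⁻¹) ∈
        (L ⊔ L.map (MulAut.conj x).toMonoidHom) ⊓ Subgroup.centralizer ({x} : Set G) := by
      intro l
      refine Subgroup.mem_inf.mpr ⟨Subgroup.mul_mem _ (Subgroup.mem_sup_left l.2)
        (Subgroup.mem_sup_right (hmemx l l.2)), ?_⟩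
      rw [Subgroup.mem_centralizer_singleton_iff]
      have h1 := hc (l : G) l.2 (x * (l : G) * x⁻¹) (hmemx l l.2)
      calc (l : G) * (x * (l : G) * x⁻¹) * x = (x * (l : G) * x⁻¹) * (l : G) * x := by rw [h1]
        _ = x * (l : G) * x⁻¹ * (l : G) * x := by group
        _ = x * (l : G) * x * (l : G) * x⁻¹ := by rw [hxi]
        _ = x * ((l : G) * (x * (l : G) * x⁻¹)) := by group
    apply le_antisymm
    · rw [Subgroup.commutator_le]
      -- every element of the centralizer is `π l * z` with `z` central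
      have hdecomp : ∀ c ∈ (L ⊔ L.map (MulAut.conj x).toMonoidHom) ⊓
          Subgroup.centralizer ({x} : Set G), ∃ l : ↥L, ∃ z : G, z ∈ L ∧
            z ∈ L.map (MulAut.conj x).toMonoidHom ∧ c = ((l : G) * (x * (l : G) * x⁻¹)) * z := by
        rintro c ⟨hc1, hc2⟩
        obtain ⟨l₁, hl₁, b, ⟨l₂, hl₂, rfl⟩, rfl⟩ := (mem_sup_of_commute hcomm).mp hc1
        have hcx : l₁ * (x * l₂ * x⁻¹) * x = x * (l₁ * (x * l₂ * x⁻¹)) :=
          Subgroup.mem_centralizer_singleton_iff.mp hc2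
        have h5 : l₁ * (x * l₂ * x⁻¹) = (x * l₁ * x⁻¹) * l₂ := by
          have h6 : l₁ * (x * l₂ * x⁻¹) = x * (l₁ * (x * l₂ * x⁻¹)) * x⁻¹ := by
            rw [← hcx]; group
          rw [h6]
          calc x * (l₁ * (x * l₂ * x⁻¹)) * x⁻¹ = x * l₁ * x * l₂ * x⁻¹ * x⁻¹ := by group
            _ = x * l₁ * x⁻¹ * l₂ * x * x⁻¹ := by rw [hxi]
            _ = (x * l₁ * x⁻¹) * l₂ := by group
        have h7 := hc l₂ hl₂ (x * l₁ * x⁻¹) (hmemx l₁ hl₁)
        have hz : l₂⁻¹ * l₁ = x * (l₁ * l₂⁻¹) * x⁻¹ := by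
          have h8 : l₁ * (x * l₂ * x⁻¹) = l₂ * (x * l₁ * x⁻¹) := by rw [h5, h7]
          calc l₂⁻¹ * l₁ = l₂⁻¹ * (l₁ * (x * l₂ * x⁻¹)) * (x * l₂ * x⁻¹)⁻¹ := by group
            _ = l₂⁻¹ * (l₂ * (x * l₁ * x⁻¹)) * (x * l₂ * x⁻¹)⁻¹ := by rw [h8]
            _ = x * (l₁ * l₂⁻¹) * x⁻¹ := by group
        have hzL : l₂⁻¹ * l₁ ∈ L := L.mul_mem (L.inv_mem hl₂) hl₁
        have hzLx : l₂⁻¹ * l₁ ∈ L.map (MulAut.conj x).toMonoidHom := by
          rw [hz]; exact hmemx _ (L.mul_mem hl₁ (L.inv_mem hl₂))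
        refine ⟨⟨l₂, hl₂⟩, l₂⁻¹ * l₁, hzL, hzLx, ?_⟩
        have h9 := hc (l₂⁻¹ * l₁) hzL (x * l₂ * x⁻¹) (hmemx l₂ hl₂)
        show l₁ * (x * l₂ * x⁻¹) = l₂ * (x * l₂ * x⁻¹) * (l₂⁻¹ * l₁)
        calc l₁ * (x * l₂ * x⁻¹) = l₂ * ((l₂⁻¹ * l₁) * (x * l₂ * x⁻¹)) := by group
          _ = l₂ * ((x * l₂ * x⁻¹) * (l₂⁻¹ * l₁)) := by rw [h9]
          _ = l₂ * (x * l₂ * x⁻¹) * (l₂⁻¹ * l₁) := by group
      -- central elements commute with the image of `π`
      have hzc : ∀ z : G, z ∈ L → z ∈ L.map (MulAut.conj x).toMonoidHom → ∀ m : ↥L,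
          z * ((m : G) * (x * (m : G) * x⁻¹)) = ((m : G) * (x * (m : G) * x⁻¹)) * z := by
        intro z hzL hzLx m
        have h1 := hc (m : G) m.2 z hzLx
        have h2 := hc z hzL (x * (m : G) * x⁻¹) (hmemx m m.2)
        calc z * ((m : G) * (x * (m : G) * x⁻¹)) = (z * (m : G)) * (x * (m : G) * x⁻¹) := by group
          _ = ((m : G) * z) * (x * (m : G) * x⁻¹) := by rw [h1]
          _ = (m : G) * (z * (x * (m : G) * x⁻¹)) := by group
          _ = (m : G) * ((x * (m : G) * x⁻¹) * z) := by rw [h2]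
          _ = _ := by group
      intro c₁ hc₁ c₂ hc₂
      obtain ⟨l, z, hzL, hzLx, rfl⟩ := hdecomp c₁ hc₁
      obtain ⟨m, w, hwL, hwLx, rfl⟩ := hdecomp c₂ hc₂
      refine ⟨⁅l, m⁆, ?_⟩
      have hzw : z * w = w * z := hc z hzL w hwLx
      have e1 := hzc z hzL hzLx m
      have e2 := hzc w hwL hwLx l
      have e3 := hzc z hzL hzLx l
      have e4 := hzc w hwL hwLx m
      rw [map_commutatorElement]
      show ⁅(l : G) * (x * (l : G) * x⁻¹), (m : G) * (x * (m : G) * x⁻¹)⁆ =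
        ⁅(l : G) * (x * (l : G) * x⁻¹) * z, (m : G) * (x * (m : G) * x⁻¹) * w⁆
      have hwz' : w * z⁻¹ = z⁻¹ * w := by
        calc w * z⁻¹ = z⁻¹ * (z * w) * z⁻¹ := by group
          _ = z⁻¹ * (w * z) * z⁻¹ := by rw [hzw]
          _ = z⁻¹ * w := by group
      have hPw' : ((l : G) * (x * (l : G) * x⁻¹))⁻¹ * w⁻¹ =
          w⁻¹ * ((l : G) * (x * (l : G) * x⁻¹))⁻¹ := by
        rw [← mul_inv_rev, ← mul_inv_rev, e2]
      rw [commutatorElement_def, commutatorElement_def]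
      symm
      calc (l : G) * (x * (l : G) * x⁻¹) * z * ((m : G) * (x * (m : G) * x⁻¹) * w) *
            ((l : G) * (x * (l : G) * x⁻¹) * z)⁻¹ * ((m : G) * (x * (m : G) * x⁻¹) * w)⁻¹
          = (l : G) * (x * (l : G) * x⁻¹) * (z * ((m : G) * (x * (m : G) * x⁻¹))) * (w * z⁻¹) *
            (((l : G) * (x * (l : G) * x⁻¹))⁻¹ * w⁻¹) * ((m : G) * (x * (m : G) * x⁻¹))⁻¹ := by
            group
        _ = (l : G) * (x * (l : G) * x⁻¹) * (((m : G) * (x * (m : G) * x⁻¹)) * z) * (z⁻¹ * w) *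
            (w⁻¹ * ((l : G) * (x * (l : G) * x⁻¹))⁻¹) * ((m : G) * (x * (m : G) * x⁻¹))⁻¹ := by
            rw [e1, hwz', hPw']
        _ = _ := by group
    · rintro _ ⟨l, rfl⟩
      have hL : L ≤ ((⁅(L ⊔ L.map (MulAut.conj x).toMonoidHom) ⊓
          Subgroup.centralizer ({x} : Set G), (L ⊔ L.map (MulAut.conj x).toMonoidHom) ⊓
          Subgroup.centralizer ({x} : Set G)⁆).comap
            (MonoidHom.mk' (fun l : ↥L => (l : G) * (x * (l : G) * x⁻¹)) hmul)).map L.subtype := by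
        conv_lhs => rw [← hperf]
        rw [Subgroup.commutator_le]
        intro a ha b hb
        refine ⟨⁅(⟨a, ha⟩ : ↥L), ⟨b, hb⟩⁆, ?_, rfl⟩
        show (MonoidHom.mk' (fun l : ↥L => (l : G) * (x * (l : G) * x⁻¹)) hmul)
          ⁅(⟨a, ha⟩ : ↥L), ⟨b, hb⟩⁆ ∈ ⁅(L ⊔ L.map (MulAut.conj x).toMonoidHom) ⊓
          Subgroup.centralizer ({x} : Set G), (L ⊔ L.map (MulAut.conj x).toMonoidHom) ⊓
          Subgroup.centralizer ({x} : Set G)⁆
        rw [map_commutatorElement]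
        exact Subgroup.commutator_mem_commutator (hrange ⟨a, ha⟩) (hrange ⟨b, hb⟩)
      obtain ⟨l', hl', hll⟩ := hL l.2
      have h2 : l' = l := Subtype.ext hll
      rw [h2] at hl'
      exact hl'

end Cfsg.Agent.S1314
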