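import Cfsg.Statements.S1323
import Mathlib
import Cfsg.Agent.Lib.Helper9.Components

set_option autoImplicit false
open Cfsg
open scoped commutatorElement

namespace Cfsg.Agent.S1323

open Subgroup Equiv Equiv.Perm Cfsg.Agent.Lib.Helper9

section abstract

theorem qs_of_simple {H : Type*} [Group H] [IsSimpleGroup H] (hna : ¬ IsMulCommutative H) :
    IsQuasisimple H := by
  obtain ⟨a, b, hab⟩ : ∃ a b : H, a * b ≠ b * a := by
    by_contra hcon
    push Not at hcon
    exact hna ⟨⟨hcon⟩⟩
  constructor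
  · rw [Group.isPerfect_def]
    rcases (inferInstance : (commutator H).Normal).eq_bot_or_eq_top with h | h
    · exfalso
      have h1 : ⁅a, b⁆ ∈ commutator H := by
        rw [_root_.commutator_def]; exact Subgroup.commutator_mem_commutator (mem_top a) (mem_top b)
      rw [h, Subgroup.mem_bot, commutatorElement_eq_one_iff_mul_comm] at h1
      exact hab h1
    · exact h
  · have hc : center H = ⊥ := by
      rcases (inferInstance : (center H).Normal).eq_bot_or_eq_top with h | h
      · exact h
      · exfalso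
        have h1 : a ∈ center H := by rw [h]; exact mem_top a
        exact hab ((Subgroup.mem_center_iff.mp h1 b).symm)
    exact ((QuotientGroup.quotientMulEquivOfEq hc).trans QuotientGroup.quotientBot).isSimpleGroup

theorem normalizer_le_normalizer_centralizer {G : Type*} [Group G] (H : Subgroup G) :
    normalizer (H : Set G) ≤ normalizer (centralizer (H : Set G) : Set G) := by
  intro g hg
  rw [Subgroup.mem_normalizer_iff] at hg ⊢
  intro c
  constructor
  · intro hc
    rw [Subgroup.mem_centralizer_iff] at hc ⊢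
    intro h hh
    have h1 : g⁻¹ * h * g ∈ H := by
      refine (hg (g⁻¹ * h * g)).mpr ?_
      have e : g * (g⁻¹ * h * g) * g⁻¹ = h := by group
      rw [e]; exact hh
    have h2 := hc _ h1
    calc h * (g * c * g⁻¹) = g * ((g⁻¹ * h * g) * c) * g⁻¹ := by group
      _ = g * (c * (g⁻¹ * h * g)) * g⁻¹ := by rw [h2]
      _ = g * c * g⁻¹ * h := by group
  · intro hc
    rw [Subgroup.mem_centralizer_iff] at hc ⊢
    intro h hh
    have h1 : g * h * g⁻¹ ∈ H := (hg h).mp hh
    have h2 := hc _ h1
    have h3 : g * (h * c) * g⁻¹ = g * (c * h) * g⁻¹ := by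
      calc g * (h * c) * g⁻¹ = (g * h * g⁻¹) * (g * c * g⁻¹) := by group
        _ = (g * c * g⁻¹) * (g * h * g⁻¹) := h2
        _ = g * (c * h) * g⁻¹ := by group
    exact mul_left_cancel (mul_right_cancel h3)

end abstract

section general

variable {α : Type*} [Fintype α] [DecidableEq α]

/-- The three-cycle `a → c → b → a`. -/
def tc (a b c : α) : Perm α := swap a b * swap a c

theorem tc_mem {a b c : α} (hab : a ≠ b) (hac : a ≠ c) (hbc : b ≠ c) :
    tc a b c ∈ alternatingGroup α :=
  (isThreeCycle_swap_mul_swap_same hab hac hbc).mem_alternatingGroup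

theorem tc_apply_first {a b c : α} (hac : a ≠ c) (hbc : b ≠ c) : tc a b c a = c := by
  show swap a b (swap a c a) = c
  rw [swap_apply_left, swap_apply_of_ne_of_ne hac.symm hbc.symm]

theorem tc_apply_second {a b c : α} (hab : a ≠ b) (hbc : b ≠ c) : tc a b c b = a := by
  show swap a b (swap a c b) = a
  rw [swap_apply_of_ne_of_ne hab.symm hbc, swap_apply_right]

theorem tc_apply_of_ne {a b c x : α} (h1 : x ≠ a) (h2 : x ≠ b) (h3 : x ≠ c) :
    tc a b c x = x := by
  show swap a b (swap a c x) = x
  rw [swap_apply_of_ne_of_ne h1 h3, swap_apply_of_ne_of_ne h1 h2]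

/-- The three-cycle as an element of the alternating group. -/
def tcG (a b c : α) (hab : a ≠ b) (hac : a ≠ c) (hbc : b ≠ c) : ↥(alternatingGroup α) :=
  ⟨tc a b c, tc_mem hab hac hbc⟩

/-- The even permutations supported in `S`. -/
def FS (S : Finset α) : Subgroup ↥(alternatingGroup α) := (alternatingGroup.ofSubtype S).range

theorem mem_FS {S : Finset α} {h : ↥(alternatingGroup α)} :
    h ∈ FS S ↔ ∀ x, x ∉ S → (h : Perm α) x = x := by
  unfold FS
  rw [alternatingGroup.mem_range_ofSubtype_iff]
  constructor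
  · intro hs x hx
    by_contra hne
    exact hx (hs (Perm.mem_support.mpr hne))
  · intro hs x hx
    by_contra hxS
    exact (Perm.mem_support.mp hx) (hs x hxS)

theorem tcG_mem_FS {S : Finset α} {a b c : α} (hab : a ≠ b) (hac : a ≠ c) (hbc : b ≠ c)
    (ha : a ∈ S) (hb : b ∈ S) (hc : c ∈ S) : tcG a b c hab hac hbc ∈ FS S := by
  rw [mem_FS]
  intro x hx
  exact tc_apply_of_ne (fun h => hx (h ▸ ha)) (fun h => hx (h ▸ hb)) (fun h => hx (h ▸ hc))

theorem exists_ne_ne (S : Finset α) (hS : 3 ≤ S.card) (x y : α) :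
    ∃ u ∈ S, u ≠ x ∧ u ≠ y := by
  have h1 : 0 < ((S.erase x).erase y).card := by
    have h2 := Finset.pred_card_le_card_erase (s := S) (a := x)
    have h3 := Finset.pred_card_le_card_erase (s := S.erase x) (a := y)
    omega
  obtain ⟨u, hu⟩ := Finset.card_pos.mp h1
  rw [Finset.mem_erase, Finset.mem_erase] at hu
  exact ⟨u, hu.2.2, hu.2.1, hu.1⟩

theorem exists_two (S : Finset α) (hS : 4 ≤ S.card) (x y : α) :
    ∃ u ∈ S, ∃ v ∈ S, u ≠ v ∧ u ≠ x ∧ u ≠ y ∧ v ≠ x ∧ v ≠ y := by
  have h1 : 1 < ((S.erase x).erase y).card := by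
    have h2 := Finset.pred_card_le_card_erase (s := S) (a := x)
    have h3 := Finset.pred_card_le_card_erase (s := S.erase x) (a := y)
    omega
  obtain ⟨u, hu, v, hv, huv⟩ := Finset.one_lt_card.mp h1
  rw [Finset.mem_erase, Finset.mem_erase] at hu hv
  exact ⟨u, hu.2.2, v, hv.2.2, huv, hu.2.1, hu.1, hv.2.1, hv.1⟩

theorem fix_of_commute (S : Finset α) (hS : 4 ≤ S.card) (g : ↥(alternatingGroup α))
    (hg : g ∈ centralizer (FS S : Set ↥(alternatingGroup α))) : g ∈ FS Sᶜ := by
  rw [mem_FS]
  intro x hx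
  have hxS : x ∈ S := by
    rw [Finset.mem_compl, not_not] at hx; exact hx
  by_contra hne
  obtain ⟨u, hu, v, hv, huv, hux, huy, hvx, hvy⟩ := exists_two S hS x ((g : Perm α) x)
  have hc := (Subgroup.mem_centralizer_iff.mp hg) (tcG x u v hux.symm hvx.symm huv)
    (tcG_mem_FS _ _ _ hxS hu hv)
  have h1 := congrArg (fun k : ↥(alternatingGroup α) => (k : Perm α) x) hc
  have h2 : tc x u v ((g : Perm α) x) = (g : Perm α) (tc x u v x) := h1
  rw [tc_apply_of_ne hne huy.symm hvy.symm, tc_apply_first hvx.symm huv] at h2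
  exact hvx ((g : Perm α).injective h2).symm

theorem FS_compl_le_centralizer (S : Finset α) :
    FS Sᶜ ≤ centralizer (FS S : Set ↥(alternatingGroup α)) := by
  intro g hg
  rw [mem_FS] at hg
  rw [Subgroup.mem_centralizer_iff]
  intro h hh
  rw [SetLike.mem_coe, mem_FS] at hh
  apply Subtype.ext
  show (h : Perm α) * (g : Perm α) = (g : Perm α) * (h : Perm α)
  have hd : Perm.Disjoint (h : Perm α) (g : Perm α) := by
    intro x
    by_cases hx : x ∈ S
    · right; exact hg x (by rw [Finset.mem_compl, not_not]; exact hx)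
    · left; exact hh x hx
  exact hd.commute.eq

theorem centralizer_FS (S : Finset α) (hS : 4 ≤ S.card) :
    centralizer (FS S : Set ↥(alternatingGroup α)) = FS Sᶜ :=
  le_antisymm (fun g hg => fix_of_commute S hS g hg) (FS_compl_le_centralizer S)

theorem map_conj_FS (S : Finset α) (g : ↥(alternatingGroup α)) :
    (FS S).map (MulAut.conj g).toMonoidHom = FS (S.image (g : Perm α)) := by
  ext k
  constructor
  · rintro ⟨h, hh, rfl⟩
    rw [SetLike.mem_coe, mem_FS] at hh
    rw [mem_FS]
    intro y hy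
    show (g : Perm α) ((h : Perm α) ((g : Perm α)⁻¹ y)) = y
    have h1 : (g : Perm α)⁻¹ y ∉ S := by
      intro hmem
      apply hy
      rw [Finset.mem_image]
      exact ⟨_, hmem, by simp⟩
    rw [hh _ h1]; simp
  · intro hk
    rw [mem_FS] at hk
    refine ⟨g⁻¹ * k * g, ?_, ?_⟩
    · rw [SetLike.mem_coe, mem_FS]
      intro x hx
      show (g : Perm α)⁻¹ ((k : Perm α) ((g : Perm α) x)) = x
      have h1 : (g : Perm α) x ∉ S.image (g : Perm α) := by
        intro hmem
        rw [Finset.mem_image] at hmem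
        obtain ⟨x', hx', he⟩ := hmem
        have : x' = x := (g : Perm α).injective he
        exact hx (this ▸ hx')
      rw [hk _ h1]; simp
    · show g * (g⁻¹ * k * g) * g⁻¹ = k
      group

theorem subset_of_FS_le {S T : Finset α} (hS : 3 ≤ S.card) (h : FS S ≤ FS T) : S ⊆ T := by
  intro x hx
  by_contra hxT
  obtain ⟨u, hu, hux, -⟩ := exists_ne_ne S hS x x
  obtain ⟨v, hv, hvx, hvu⟩ := exists_ne_ne S hS x u
  have h1 := mem_FS.mp (h (tcG_mem_FS hux.symm hvx.symm hvu.symm hx hu hv)) x hxT
  have h2 : tc x u v x = x := h1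
  rw [tc_apply_first hvx.symm hvu.symm] at h2
  exact hvx h2

theorem four_le_card_support (t : Perm α) (ht : t ∈ alternatingGroup α) (h2 : orderOf t = 2) :
    4 ≤ t.support.card := by
  by_contra hcon
  have h3 : t.support.card ≤ 3 := by omega
  have hsign : Perm.sign t = 1 := mem_alternatingGroup.mp ht
  interval_cases hc : t.support.card
  · rw [card_support_eq_zero] at hc
    rw [hc, orderOf_one] at h2
    omega
  · exact card_support_ne_one t hc
  · have := (card_support_eq_two.mp hc).sign_eq
    rw [hsign] at this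
    exact absurd this (by decide)
  · have := (card_support_eq_three_iff.mp hc).orderOf
    omega

theorem qs_FS (S : Finset α) (hS : 5 ≤ S.card) : IsQuasisimple ↥(FS S) := by
  have hcard : 5 ≤ Nat.card {x // x ∈ S} := by
    rw [Nat.card_eq_fintype_card, Fintype.card_coe]; exact hS
  have hsimp : IsSimpleGroup ↥(alternatingGroup {x // x ∈ S}) :=
    alternatingGroup.isSimpleGroup hcard
  have hna : ¬ IsMulCommutative ↥(alternatingGroup {x // x ∈ S}) := by
    rw [alternatingGroup.isMulCommutative_iff_card_le_three]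
    omega
  exact qs_of_equiv (qs_of_simple hna)
    (MonoidHom.ofInjective (alternatingGroup.ofSubtype_injective (s := S)))

theorem exists_four (S : Finset α) (hS : 4 ≤ S.card) :
    ∃ a ∈ S, ∃ b ∈ S, ∃ c ∈ S, ∃ d ∈ S, a ≠ b ∧ a ≠ c ∧ a ≠ d ∧ b ≠ c ∧ b ≠ d ∧ c ≠ d := by
  obtain ⟨a, ha⟩ : ∃ a, a ∈ S := Finset.card_pos.mp (by omega)
  obtain ⟨b, hb, c, hc, hbc, hba, -, hca, -⟩ := exists_two S hS a a
  obtain ⟨d, hd, hdn⟩ : ∃ d, d ∈ S ∧ d ∉ ({a, b, c} : Finset α) := by
    apply Finset.exists_mem_notMem_of_card_lt_card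
    have := Finset.card_le_three (a := a) (b := b) (c := c)
    omega
  simp only [Finset.mem_insert, Finset.mem_singleton, not_or] at hdn
  exact ⟨a, ha, b, hb, c, hc, d, hd, hba.symm, hca.symm, fun h => hdn.1 h.symm,
    hbc, fun h => hdn.2.1 h.symm, fun h => hdn.2.2 h.symm⟩

end general


section main

variable {α : Type*} [Fintype α] [DecidableEq α]

theorem even_card_FS (Δ : Finset α) (hΔ : 4 ≤ Δ.card) : Even (Nat.card ↥(FS Δ)) := by
  obtain ⟨a, ha, b, hb, c, hc, d, hd, hab, hac, had, hbc, hbd, hcd⟩ := exists_four Δ hΔ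
  have hmem : swap a b * swap c d ∈ alternatingGroup α := by
    rw [mem_alternatingGroup, Perm.sign_mul, Perm.sign_swap hab, Perm.sign_swap hcd]
    rfl
  have hFS : (⟨swap a b * swap c d, hmem⟩ : ↥(alternatingGroup α)) ∈ FS Δ := by
    rw [mem_FS]
    intro x hx
    have hxa : x ≠ a := fun h => hx (h ▸ ha)
    have hxb : x ≠ b := fun h => hx (h ▸ hb)
    have hxc : x ≠ c := fun h => hx (h ▸ hc)
    have hxd : x ≠ d := fun h => hx (h ▸ hd)
    show swap a b (swap c d x) = x
    rw [swap_apply_of_ne_of_ne hxc hxd, swap_apply_of_ne_of_ne hxa hxb]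
  have hdisj : Perm.Disjoint (swap a b) (swap c d) := by
    intro x
    by_cases hx : x = c ∨ x = d
    · left
      rcases hx with rfl | rfl
      · exact swap_apply_of_ne_of_ne hac.symm hbc.symm
      · exact swap_apply_of_ne_of_ne had.symm hbd.symm
    · right
      push Not at hx
      exact swap_apply_of_ne_of_ne hx.1 hx.2
  have hsq : (swap a b * swap c d) ^ 2 = 1 := by
    rw [hdisj.commute.mul_pow, pow_two, pow_two, swap_mul_self, swap_mul_self, one_mul]
  have hne : swap a b * swap c d ≠ 1 := by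
    intro h
    have h1 : (swap a b * swap c d) a = a := by rw [h]; rfl
    have h2 : swap a b (swap c d a) = a := h1
    rw [swap_apply_of_ne_of_ne hac had, swap_apply_left] at h2
    exact hab h2.symm
  have hord : orderOf (⟨⟨swap a b * swap c d, hmem⟩, hFS⟩ : ↥(FS Δ)) = 2 := by
    apply orderOf_eq_prime
    · apply Subtype.ext
      apply Subtype.ext
      exact hsq
    · intro h
      apply hne
      exact congrArg (fun k : ↥(FS Δ) => ((k : ↥(alternatingGroup α)) : Perm α)) h
  rw [even_iff_two_dvd, ← hord]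
  exact orderOf_dvd_natCard _

theorem standard_FS (Δ : Finset α) (hΔ : Δ.card = 4) (hn : 9 ≤ Fintype.card α) :
    IsStandardSubgroup (FS Δᶜ) := by
  have hS : Δᶜ.card = Fintype.card α - 4 := by rw [Finset.card_compl, hΔ]
  have hS5 : 5 ≤ Δᶜ.card := by omega
  have hC : centralizer (FS Δᶜ : Set ↥(alternatingGroup α)) = FS Δ := by
    rw [centralizer_FS _ (by omega), compl_compl]
  have hCC : centralizer (FS Δ : Set ↥(alternatingGroup α)) = FS Δᶜ :=
    centralizer_FS _ (by omega)
  refine ⟨qs_FS _ hS5, ?_, ?_, ?_⟩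
  · rw [hC]
    refine ⟨even_card_FS Δ (by omega), ?_⟩
    intro g hg
    rw [map_conj_FS]
    by_contra hodd
    have heven : 2 ∣ Nat.card ↥(FS Δ ⊓ FS (Δ.image (g : Perm α))) := by
      rcases Nat.even_or_odd (Nat.card ↥(FS Δ ⊓ FS (Δ.image (g : Perm α)))) with h | h
      · exact even_iff_two_dvd.mp h
      · exact absurd h hodd
    obtain ⟨x, hx⟩ := exists_prime_orderOf_dvd_card' 2 heven
    have hx' : orderOf ((x : ↥(alternatingGroup α)) : Perm α) = 2 := by
      rw [Subgroup.orderOf_coe, Subgroup.orderOf_coe]; exact hx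
    have h4 := four_le_card_support _ (x : ↥(alternatingGroup α)).2 hx'
    have hx1 := mem_FS.mp (Subgroup.mem_inf.mp x.2).1
    have hx2 := mem_FS.mp (Subgroup.mem_inf.mp x.2).2
    have hs1 : ((x : ↥(alternatingGroup α)) : Perm α).support ⊆ Δ := by
      intro y hy
      rw [Perm.mem_support] at hy
      by_contra hyΔ
      exact hy (hx1 y hyΔ)
    have hs2 : ((x : ↥(alternatingGroup α)) : Perm α).support ⊆ Δ.image (g : Perm α) := by
      intro y hy
      rw [Perm.mem_support] at hy
      by_contra hyΔ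
      exact hy (hx2 y hyΔ)
    have hcard2 : (Δ.image (g : Perm α)).card = 4 := by
      rw [Finset.card_image_of_injective _ (g : Perm α).injective, hΔ]
    have e1 := Finset.eq_of_subset_of_card_le hs1 (by omega)
    have e2 := Finset.eq_of_subset_of_card_le hs2 (by omega)
    apply hg
    have h5 : (FS Δ).map (MulAut.conj g).toMonoidHom = FS Δ := by
      rw [map_conj_FS, ← e2, e1]
    exact Subgroup.mem_normalizer_iff_map_conj_eq.mpr h5
  · intro g hg
    rw [map_conj_FS] at hg ⊢
    have hcard' : (Δᶜ.image (g : Perm α)).card = Δᶜ.card :=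
      Finset.card_image_of_injective _ (g : Perm α).injective
    have hne : Δᶜ.image (g : Perm α) ≠ Δᶜ := fun h => hg (by rw [h])
    obtain ⟨e, heS, heS'⟩ : ∃ e ∈ Δᶜ, e ∉ Δᶜ.image (g : Perm α) := by
      by_contra hcon
      push Not at hcon
      exact hne (Finset.eq_of_subset_of_card_le hcon (by omega)).symm
    obtain ⟨w, hw⟩ : ∃ w, w ∈ Δᶜ ∩ Δᶜ.image (g : Perm α) := by
      apply Finset.card_pos.mp
      have h1 := Finset.card_union_add_card_inter Δᶜ (Δᶜ.image (g : Perm α))
      have h2 := Finset.card_le_univ (Δᶜ ∪ Δᶜ.image (g : Perm α))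
      omega
    rw [Finset.mem_inter] at hw
    obtain ⟨u, hu, huw, hue⟩ := exists_ne_ne Δᶜ (by omega) w e
    obtain ⟨d, hd, v, hv, hdv, hdw, -, hvw, -⟩ := exists_two (Δᶜ.image (g : Perm α)) (by omega) w w
    have hwe : w ≠ e := fun h => heS' (h ▸ hw.2)
    intro hbot
    have hmem : ⁅tcG w e u hwe huw.symm hue.symm, tcG w d v hdw.symm hvw.symm hdv⁆ ∈
        ⁅FS Δᶜ, FS (Δᶜ.image (g : Perm α))⁆ :=
      Subgroup.commutator_mem_commutator (tcG_mem_FS _ _ _ hw.1 heS hu)
        (tcG_mem_FS _ _ _ hw.2 hd hv)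
    rw [hbot, Subgroup.mem_bot, commutatorElement_eq_one_iff_mul_comm] at hmem
    have h1 := congrArg (fun k : ↥(alternatingGroup α) => (k : Perm α) e) hmem
    have h2 : tc w e u (tc w d v e) = tc w d v (tc w e u e) := h1
    have hed : e ≠ d := fun h => heS' (h ▸ hd)
    have hev : e ≠ v := fun h => heS' (h ▸ hv)
    rw [tc_apply_of_ne hwe.symm hed hev, tc_apply_second hwe hue.symm,
      tc_apply_first hvw.symm hdv] at h2
    exact hvw h2.symm
  · rw [hC]
    apply le_antisymm
    · have := normalizer_le_normalizer_centralizer (FS Δᶜ)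
      rwa [hC] at this
    · have := normalizer_le_normalizer_centralizer (FS Δ)
      rwa [hCC] at this

end main

/-- For n ≥ 9, the subgroup of the alternating group on Fin n fixing each of the points 0, 1, 2, 3 is a standard subgroup. -/
theorem result (n : ℕ) (h4 : 4 ≤ n) (hn : 9 ≤ n) : Cfsg.IsStandardSubgroup (⨅ i : Fin 4, MulAction.stabilizer ↥(alternatingGroup (Fin n)) (Fin.castLE h4 i : Fin n)) := by
  have hΔ : ((Finset.univ : Finset (Fin 4)).image (Fin.castLE h4)).card = 4 := by
    rw [Finset.card_image_of_injective _ (Fin.castLE_injective h4), Finset.card_univ,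
      Fintype.card_fin]
  have hL : (⨅ i : Fin 4, MulAction.stabilizer ↥(alternatingGroup (Fin n)) (Fin.castLE h4 i : Fin n))
      = FS ((Finset.univ : Finset (Fin 4)).image (Fin.castLE h4))ᶜ := by
    ext h
    rw [Subgroup.mem_iInf, mem_FS]
    constructor
    · intro hh x hx
      rw [Finset.mem_compl, not_not, Finset.mem_image] at hx
      obtain ⟨i, -, rfl⟩ := hx
      exact MulAction.mem_stabilizer_iff.mp (hh i)
    · intro hh i
      rw [MulAction.mem_stabilizer_iff]
      exact hh _ (by simp)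
  rw [hL]
  exact standard_FS _ hΔ (by rw [Fintype.card_fin]; exact hn)

end Cfsg.Agent.S1323
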