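import Cfsg.Statements.S1336
import Cfsg.Agent.Lib.Helper9.QCore

set_option autoImplicit false
open Cfsg

namespace Cfsg.Agent.S1336

open Cfsg.Agent.Lib.Helper9
open scoped Pointwise

variable {G : Type*} [Group G]

/-- Vertices of the graph. -/
def Vtx (p : ℕ) (D : Subgroup G) : Prop := Cfsg.IsElementaryAbelian p D ∧ p ^ 1 ≤ Nat.card ↥D

/-- Edges of the graph. -/
def Rel (p : ℕ) (A B : Subgroup G) : Prop :=
  Cfsg.IsElementaryAbelian p A ∧ p ^ 1 ≤ Nat.card ↥A ∧ Cfsg.IsElementaryAbelian p B ∧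
    p ^ 1 ≤ Nat.card ↥B ∧ ∀ a ∈ A, ∀ b ∈ B, a * b = b * a

theorem rel_symm {p : ℕ} {A B : Subgroup G} (h : Rel p A B) : Rel p B A :=
  ⟨h.2.2.1, h.2.2.2.1, h.1, h.2.1, fun b hb a ha => (h.2.2.2.2 a ha b hb).symm⟩

theorem conn_symm {p : ℕ} {A B : Subgroup G} (h : Relation.ReflTransGen (Rel p) A B) :
    Relation.ReflTransGen (Rel p) B A := by
  induction h with
  | refl => exact Relation.ReflTransGen.refl
  | tail _ hbc ih => exact Relation.ReflTransGen.head (rel_symm hbc) ih

theorem vtx_map_conj {p : ℕ} {D : Subgroup G} (h : Vtx p D) (g : G) :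
    Vtx p (D.map (MulAut.conj g).toMonoidHom) := by
  obtain ⟨⟨hc, hp⟩, hcard⟩ := h
  refine ⟨⟨⟨⟨?_⟩⟩, ?_⟩, ?_⟩
  · rintro ⟨_, a, ha, rfl⟩ ⟨_, b, hb, rfl⟩
    apply Subtype.ext
    show (MulAut.conj g).toMonoidHom a * (MulAut.conj g).toMonoidHom b =
      (MulAut.conj g).toMonoidHom b * (MulAut.conj g).toMonoidHom a
    rw [← map_mul, ← map_mul, setLike_mul_comm ha hb]
  · rintro _ ⟨a, ha, rfl⟩
    rw [← map_pow, hp a ha, map_one]
  · rw [← Nat.card_congr (D.equivMapOfInjective (MulAut.conj g).toMonoidHom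
      (MulAut.conj g).injective).toEquiv]
    exact hcard

theorem rel_map_conj {p : ℕ} {A B : Subgroup G} (h : Rel p A B) (g : G) :
    Rel p (A.map (MulAut.conj g).toMonoidHom) (B.map (MulAut.conj g).toMonoidHom) := by
  have hA := vtx_map_conj (⟨h.1, h.2.1⟩ : Vtx p A) g
  have hB := vtx_map_conj (⟨h.2.2.1, h.2.2.2.1⟩ : Vtx p B) g
  refine ⟨hA.1, hA.2, hB.1, hB.2, ?_⟩
  rintro _ ⟨a, ha, rfl⟩ _ ⟨b, hb, rfl⟩
  rw [← map_mul, ← map_mul, h.2.2.2.2 a ha b hb]

theorem conn_map_conj {p : ℕ} {A B : Subgroup G} (h : Relation.ReflTransGen (Rel p) A B)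
    (g : G) : Relation.ReflTransGen (Rel p) (A.map (MulAut.conj g).toMonoidHom)
      (B.map (MulAut.conj g).toMonoidHom) := by
  induction h with
  | refl => exact Relation.ReflTransGen.refl
  | tail _ hbc ih => exact Relation.ReflTransGen.tail ih (rel_map_conj hbc g)

theorem map_conj_mul (g h : G) (D : Subgroup G) :
    (D.map (MulAut.conj h).toMonoidHom).map (MulAut.conj g).toMonoidHom =
      D.map (MulAut.conj (g * h)).toMonoidHom := by
  ext x
  rw [mem_map_conj, mem_map_conj, mem_map_conj]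
  have h1 : (g * h)⁻¹ * x * (g * h) = h⁻¹ * (g⁻¹ * x * g) * h := by group
  rw [h1]

theorem map_conj_one (D : Subgroup G) : D.map (MulAut.conj (1 : G)).toMonoidHom = D := by
  ext x
  rw [mem_map_conj]
  simp

theorem vtx_zpowers {p : ℕ} [Fact p.Prime] {z : G} (hz : orderOf z = p) :
    Vtx p (Subgroup.zpowers z) := by
  refine ⟨⟨inferInstance, ?_⟩, ?_⟩
  · rintro _ ⟨k, rfl⟩
    show (z ^ k) ^ p = 1
    rw [← zpow_natCast, ← zpow_mul, mul_comm, zpow_mul, zpow_natCast, ← hz, pow_orderOf_eq_one,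
      one_zpow]
  · rw [Nat.card_zpowers, hz, pow_one]

theorem vtx_dvd_card [Finite G] {p : ℕ} [Fact p.Prime] {D : Subgroup G} (h : Vtx p D) :
    p ∣ Nat.card ↥D := by
  obtain ⟨k, hk⟩ := IsPGroup.iff_card.mp (isPGroup_of_isElementaryAbelian h.1)
  have hp : p.Prime := Fact.out
  have hk0 : k ≠ 0 := by
    rintro rfl
    have h1 := h.2
    rw [hk, pow_zero, pow_one] at h1
    have := hp.two_le
    omega
  rw [hk]
  exact dvd_pow_self p hk0

/-- Two vertices inside a common `p`-subgroup are connected. -/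
theorem conn_of_le_pGroup [Finite G] {p : ℕ} [Fact p.Prime] {S D D' : Subgroup G}
    (hS : IsPGroup p S) (hD : Vtx p D) (hD' : Vtx p D') (hDS : D ≤ S) (hD'S : D' ≤ S) :
    Relation.ReflTransGen (Rel p) D D' := by
  have hp : p.Prime := Fact.out
  have hnt : Nontrivial ↥S := by
    have h1 : p ∣ Nat.card ↥S := (vtx_dvd_card hD).trans (Subgroup.card_dvd_of_le hDS)
    have h2 : 1 < Nat.card ↥S := lt_of_lt_of_le hp.one_lt (Nat.le_of_dvd Nat.card_pos h1)
    exact Finite.one_lt_card_iff_nontrivial.mp h2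
  have hcn : Nontrivial ↥(Subgroup.center ↥S) := hS.center_nontrivial
  have hcp : IsPGroup p ↥(Subgroup.center ↥S) := hS.to_subgroup _
  have hdvd : p ∣ Nat.card ↥(Subgroup.center ↥S) := by
    obtain ⟨k, hk⟩ := IsPGroup.iff_card.mp hcp
    have hk0 : k ≠ 0 := by
      rintro rfl
      rw [pow_zero] at hk
      have := Finite.one_lt_card_iff_nontrivial.mpr hcn
      omega
    rw [hk]
    exact dvd_pow_self p hk0
  obtain ⟨z, hz⟩ := exists_prime_orderOf_dvd_card' p hdvd
  have hz' : orderOf (((z : ↥S) : G)) = p := by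
    rw [Subgroup.orderOf_coe, Subgroup.orderOf_coe]; exact hz
  have hZ := vtx_zpowers hz'
  have hcomm : ∀ a ∈ S, ∀ b ∈ Subgroup.zpowers (((z : ↥S) : G)), a * b = b * a := by
    rintro a ha _ ⟨k, rfl⟩
    have h1 : (⟨a, ha⟩ : ↥S) * (z : ↥S) = (z : ↥S) * ⟨a, ha⟩ :=
      Subgroup.mem_center_iff.mp z.2 ⟨a, ha⟩
    have h2 : a * ((z : ↥S) : G) = ((z : ↥S) : G) * a := congrArg Subtype.val h1
    have h3 : Commute a (((z : ↥S) : G)) := h2
    exact (h3.zpow_right k).eq
  have r1 : Rel p D (Subgroup.zpowers (((z : ↥S) : G))) :=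
    ⟨hD.1, hD.2, hZ.1, hZ.2, fun a ha b hb => hcomm a (hDS ha) b hb⟩
  have r2 : Rel p (Subgroup.zpowers (((z : ↥S) : G))) D' :=
    ⟨hZ.1, hZ.2, hD'.1, hD'.2, fun b hb a ha => (hcomm a (hD'S ha) b hb).symm⟩
  exact Relation.ReflTransGen.tail (Relation.ReflTransGen.single r1) r2

/-- The stabilizer of the connected component of `E`. -/
def stab (p : ℕ) (E : Subgroup G) : Subgroup G where
  carrier := {g | Relation.ReflTransGen (Rel p) E (E.map (MulAut.conj g).toMonoidHom)}
  mul_mem' := by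
    intro g h hg hh
    have h1 := conn_map_conj hh g
    rw [map_conj_mul] at h1
    exact Relation.ReflTransGen.trans hg h1
  one_mem' := by
    show Relation.ReflTransGen (Rel p) E (E.map (MulAut.conj (1 : G)).toMonoidHom)
    rw [map_conj_one]
  inv_mem' := by
    intro g hg
    have h1 := conn_map_conj hg g⁻¹
    rw [map_conj_mul, inv_mul_cancel, map_conj_one] at h1
    exact conn_symm h1

theorem mem_stab {p : ℕ} {E : Subgroup G} {g : G} :
    g ∈ stab p E ↔ Relation.ReflTransGen (Rel p) E (E.map (MulAut.conj g).toMonoidHom) :=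
  Iff.rfl

/-- Every vertex inside the stabilizer is connected to `E`. -/
theorem conn_of_le_stab [Finite G] {p : ℕ} [Fact p.Prime] {E D : Subgroup G} (hE : Vtx p E)
    (hEH : E ≤ stab p E) (hD : Vtx p D) (hDH : D ≤ stab p E) :
    Relation.ReflTransGen (Rel p) E D := by
  have hEp : IsPGroup p (E.subgroupOf (stab p E)) :=
    (isPGroup_of_isElementaryAbelian hE.1).of_equiv (Subgroup.subgroupOfEquivOfLe hEH).symm
  have hDp : IsPGroup p (D.subgroupOf (stab p E)) :=
    (isPGroup_of_isElementaryAbelian hD.1).of_equiv (Subgroup.subgroupOfEquivOfLe hDH).symm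
  obtain ⟨Q₀, hQ₀⟩ := hEp.exists_le_sylow
  obtain ⟨Q, hQ⟩ := hDp.exists_le_sylow
  obtain ⟨h, rfl⟩ := MulAction.exists_smul_eq ↥(stab p E) Q₀ Q
  have hS : IsPGroup p (((h • Q₀ : Sylow p ↥(stab p E)) : Subgroup ↥(stab p E)).map
      (stab p E).subtype) := (h • Q₀).isPGroup'.map _
  have h1 : E.map (MulAut.conj (h : G)).toMonoidHom ≤
      ((h • Q₀ : Sylow p ↥(stab p E)) : Subgroup ↥(stab p E)).map (stab p E).subtype := by
    rintro _ ⟨e, he, rfl⟩
    have h4 : h * ⟨e, hEH he⟩ * h⁻¹ ∈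
        ((h • Q₀ : Sylow p ↥(stab p E)) : Subgroup ↥(stab p E)) := by
      rw [Sylow.coe_subgroup_smul, Subgroup.mem_smul_pointwise_iff_exists]
      exact ⟨⟨e, hEH he⟩, hQ₀ (Subgroup.mem_subgroupOf.mpr he), rfl⟩
    exact ⟨h * ⟨e, hEH he⟩ * h⁻¹, h4, rfl⟩
  have h2 : D ≤ ((h • Q₀ : Sylow p ↥(stab p E)) : Subgroup ↥(stab p E)).map
      (stab p E).subtype := by
    intro d hd
    exact ⟨⟨d, hDH hd⟩, hQ (Subgroup.mem_subgroupOf.mpr hd), rfl⟩
  have h3 := conn_of_le_pGroup hS (vtx_map_conj hE (h : G)) hD h1 h2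
  exact Relation.ReflTransGen.trans (mem_stab.mp h.2) h3

/-- Let G be finite and p prime. Then G has a proper subgroup H with p ∣ |H| and p ∤ |H ∩ gHg⁻¹| for every g ∉ H (a strongly p-embedded subgroup) if and only if G is not 1-connected for p. -/
theorem result {G : Type*} [Group G] [Finite G] (p : ℕ) [Fact p.Prime] : (∃ H : Subgroup G, H ≠ ⊤ ∧ p ∣ Nat.card ↥H ∧ ∀ g : G, g ∉ H → ¬ p ∣ Nat.card ↥(H ⊓ H.map (MulAut.conj g).toMonoidHom)) ↔ ¬ Cfsg.IsKConnected p 1 G := by
  have hp : p.Prime := Fact.out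
  have hdef : Cfsg.IsKConnected p 1 G ↔ ∀ E E' : Subgroup G, Vtx p E → Vtx p E' →
      Relation.ReflTransGen (Rel p) E E' :=
    ⟨fun h E E' hE hE' => h E E' hE.1 hE.2 hE'.1 hE'.2,
      fun h E E' h1 h2 h3 h4 => h E E' ⟨h1, h2⟩ ⟨h3, h4⟩⟩
  rw [hdef]
  constructor
  · rintro ⟨H, hHtop, hHp, hH⟩ hconn
    obtain ⟨x, hx⟩ := exists_prime_orderOf_dvd_card' p hHp
    have hx' : orderOf (x : G) = p := by rw [Subgroup.orderOf_coe]; exact hx
    have hE := vtx_zpowers hx'
    have key : ∀ D : Subgroup G, Relation.ReflTransGen (Rel p) (Subgroup.zpowers (x : G)) D →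
        D ≤ H := by
      intro D hD
      induction hD with
      | refl => exact Subgroup.zpowers_le.mpr x.2
      | @tail B C _ hbc ih =>
        intro d' hd'
        by_contra hd'H
        apply hH d' hd'H
        have h1 : B ≤ H ⊓ H.map (MulAut.conj d').toMonoidHom := by
          intro d hd
          refine Subgroup.mem_inf.mpr ⟨ih hd, d, ih hd, ?_⟩
          show d' * d * d'⁻¹ = d
          rw [← hbc.2.2.2.2 d hd d' hd']
          group
        exact (vtx_dvd_card (⟨hbc.1, hbc.2.1⟩ : Vtx p B)).trans (Subgroup.card_dvd_of_le h1)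
    obtain ⟨g, hg⟩ : ∃ g : G, g ∉ H := by
      by_contra hcon
      push Not at hcon
      exact hHtop (eq_top_iff.mpr fun g _ => hcon g)
    have hg' : g⁻¹ ∉ H := fun h => hg (by simpa using H.inv_mem h)
    apply hH g⁻¹ hg'
    have hxg : orderOf (g * (x : G) * g⁻¹) = p := by
      rw [← hx']
      exact orderOf_injective (MulAut.conj g).toMonoidHom (MulAut.conj g).injective (x : G)
    have h2 := key _ (hconn _ _ hE (vtx_zpowers hxg)) (Subgroup.mem_zpowers _)
    have h3 : Subgroup.zpowers (x : G) ≤ H ⊓ H.map (MulAut.conj g⁻¹).toMonoidHom := by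
      rw [Subgroup.zpowers_le]
      refine Subgroup.mem_inf.mpr ⟨x.2, ?_⟩
      rw [mem_map_conj, inv_inv]
      exact h2
    have h4 := Subgroup.card_dvd_of_le h3
    rw [Nat.card_zpowers, hx'] at h4
    exact h4
  · intro hnot
    push Not at hnot
    obtain ⟨E, E', hE, hE', hnc⟩ := hnot
    have hEH : E ≤ stab p E := by
      intro e he
      rw [mem_stab]
      have h1 : E.map (MulAut.conj e).toMonoidHom = E := by
        ext y
        rw [mem_map_conj]
        constructor
        · intro h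
          have h2 : y = e * (e⁻¹ * y * e) * e⁻¹ := by group
          rw [h2]
          exact E.mul_mem (E.mul_mem he h) (E.inv_mem he)
        · intro h
          exact E.mul_mem (E.mul_mem (E.inv_mem he) h) he
      rw [h1]
    refine ⟨stab p E, ?_, (vtx_dvd_card hE).trans (Subgroup.card_dvd_of_le hEH), ?_⟩
    · intro htop
      obtain ⟨P, hP⟩ := (isPGroup_of_isElementaryAbelian hE.1).exists_le_sylow
      obtain ⟨P', hP'⟩ := (isPGroup_of_isElementaryAbelian hE'.1).exists_le_sylow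
      obtain ⟨g, rfl⟩ := MulAction.exists_smul_eq G P P'
      have hg : g ∈ stab p E := htop ▸ Subgroup.mem_top g
      have h1 : E.map (MulAut.conj g).toMonoidHom ≤ ((g • P : Sylow p G) : Subgroup G) := by
        rintro _ ⟨e, he, rfl⟩
        rw [Sylow.coe_subgroup_smul, Subgroup.mem_smul_pointwise_iff_exists]
        exact ⟨e, hP he, rfl⟩
      have h2 := conn_of_le_pGroup (g • P).isPGroup' (vtx_map_conj hE g) hE' h1 hP'
      exact hnc (Relation.ReflTransGen.trans (mem_stab.mp hg) h2)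
    · intro g hg hdvd
      apply hg
      obtain ⟨x, hx⟩ := exists_prime_orderOf_dvd_card' p hdvd
      have hx' : orderOf (x : G) = p := by rw [Subgroup.orderOf_coe]; exact hx
      have hX := vtx_zpowers hx'
      have hx1 : (x : G) ∈ stab p E := x.2.1
      have hx2 : g⁻¹ * (x : G) * g ∈ stab p E := mem_map_conj.mp x.2.2
      have c1 := conn_of_le_stab hE hEH hX (Subgroup.zpowers_le.mpr hx1)
      have hxg : orderOf (g⁻¹ * (x : G) * g) = p := by
        have h5 : orderOf ((MulAut.conj g⁻¹).toMonoidHom (x : G)) = orderOf (x : G) :=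
          orderOf_injective (MulAut.conj g⁻¹).toMonoidHom (MulAut.conj g⁻¹).injective (x : G)
        have h6 : (MulAut.conj g⁻¹).toMonoidHom (x : G) = g⁻¹ * (x : G) * g := by
          show g⁻¹ * (x : G) * g⁻¹⁻¹ = g⁻¹ * (x : G) * g
          rw [inv_inv]
        rw [← h6, h5]
        exact hx'
      have c2 := conn_of_le_stab hE hEH (vtx_zpowers hxg) (Subgroup.zpowers_le.mpr hx2)
      have c3 := conn_map_conj c2 g
      have h6 : (Subgroup.zpowers (g⁻¹ * (x : G) * g)).map (MulAut.conj g).toMonoidHom =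
          Subgroup.zpowers (x : G) := by
        rw [MonoidHom.map_zpowers]
        congr 1
        show g * (g⁻¹ * (x : G) * g) * g⁻¹ = x
        group
      rw [h6] at c3
      rw [mem_stab]
      exact Relation.ReflTransGen.trans c1 (conn_symm c3)

end Cfsg.Agent.S1336
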