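import Cfsg.Statements.S1452
import Mathlib
import Cfsg.Agent.S0100
import Cfsg.Agent.S0093
import Cfsg.Agent.S0129

set_option autoImplicit false
open Cfsg
open scoped commutatorElement

namespace Cfsg.Agent.S1452

/-- In an odd `p`-group of rank at least 3, a normal elementary abelian subgroup of order `p^2`
lies in a normal elementary abelian subgroup of larger order. -/
theorem exists_big {R : Type*} [Group R] [Finite R] (p : ℕ) [Fact p.Prime] (hp : p ≠ 2)
    (hR : IsPGroup p R) (hr : ¬ Cfsg.PRankLE p 2 R)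
    (E : Subgroup R) [E.Normal] (hE : Cfsg.IsElementaryAbelian p E) (hE2 : Nat.card E = p ^ 2) :
    ∃ B : Subgroup R, B.Normal ∧ IsMulCommutative B ∧ (∀ b ∈ B, b ^ p = 1) ∧ E ≤ B ∧
      p ^ 2 < Nat.card B := by
  classical
  have hpp : p.Prime := Fact.out
  obtain ⟨A₀, hA₀n, hA₀c, hA₀e, hA₀card⟩ : ∃ A₀ : Subgroup R, A₀.Normal ∧ IsMulCommutative A₀ ∧
      (∀ a ∈ A₀, a ^ p = 1) ∧ Nat.card A₀ = p ^ 3 := by
    by_contra hno
    apply hr
    intro X hXc hXe
    exact Cfsg.Agent.S0100.result hp hR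
      (fun A hAn hAc hAe hcard => hno ⟨A, hAn, hAc, hAe, hcard⟩) X hXc hXe
  by_cases hEA : E ≤ A₀
  · exact ⟨A₀, hA₀n, hA₀c, hA₀e, hEA, by
      rw [hA₀card]; exact Nat.pow_lt_pow_right hpp.one_lt (by norm_num)⟩
  · haveI := hA₀n
    have hCn : (Subgroup.centralizer (E : Set R)).Normal := inferInstance
    obtain ⟨M, hMn, hME, hMc, hMi⟩ :=
      Cfsg.Agent.S0129.index_centralizer_le hR E 2 (le_of_eq hE2.symm)
    have hMeq : M = E := Subgroup.eq_of_le_of_card_ge hME (by rw [hMc, hE2])
    rw [hMeq] at hMi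
    have hidx : (Subgroup.centralizer (E : Set R)).index ≤ p := by simpa using hMi
    obtain ⟨D, hD⟩ : ∃ D : Subgroup R, D = A₀ ⊓ Subgroup.centralizer (E : Set R) := ⟨_, rfl⟩
    have hDA : D ≤ A₀ := hD ▸ inf_le_left
    have hDC : D ≤ Subgroup.centralizer (E : Set R) := hD ▸ inf_le_right
    have hDn : D.Normal := by rw [hD]; infer_instance
    have hDcard : p ^ 2 ≤ Nat.card D := by
      have h1 := Subgroup.relIndex_mul_relIndex (⊥ : Subgroup R) D A₀ bot_le hDA
      rw [Subgroup.relIndex_bot_left, Subgroup.relIndex_bot_left, hA₀card] at h1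
      have h2 : D.relIndex A₀ ≤ p := by
        have h3 : D.relIndex A₀ = (Subgroup.centralizer (E : Set R)).relIndex A₀ := by
          rw [hD, inf_comm, Subgroup.inf_relIndex_right]
        rw [h3]
        have h4 := Subgroup.relIndex_dvd_index_of_normal (Subgroup.centralizer (E : Set R)) A₀
        have hpos : 0 < (Subgroup.centralizer (E : Set R)).index :=
          Nat.pos_of_ne_zero Subgroup.index_ne_zero_of_finite
        exact le_trans (Nat.le_of_dvd hpos h4) hidx
      by_contra hlt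
      rw [not_le] at hlt
      have h5 : Nat.card D * D.relIndex A₀ < p ^ 2 * p := by
        calc Nat.card D * D.relIndex A₀ ≤ Nat.card D * p := Nat.mul_le_mul_left _ h2
          _ < p ^ 2 * p := Nat.mul_lt_mul_of_pos_right hlt hpp.pos
      rw [h1] at h5
      have h6 : p ^ 2 * p = p ^ 3 := by ring
      rw [h6] at h5
      exact lt_irrefl _ h5
    have hDE : ¬ D ≤ E := by
      intro hDE
      have h1 : D ≤ A₀ ⊓ E := le_inf hDA hDE
      have h2 : A₀ ⊓ E = E := Subgroup.eq_of_le_of_card_ge inf_le_right (by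
        rw [hE2]; exact le_trans hDcard (Subgroup.card_le_of_le h1))
      exact hEA (h2 ▸ inf_le_left)
    have hEab : ∀ u ∈ E, ∀ v ∈ E, u * v = v * u := fun u hu v hv =>
      congrArg Subtype.val (hE.1.is_comm.comm ⟨u, hu⟩ ⟨v, hv⟩)
    have hAab : ∀ u ∈ A₀, ∀ v ∈ A₀, u * v = v * u := fun u hu v hv =>
      congrArg Subtype.val (hA₀c.is_comm.comm ⟨u, hu⟩ ⟨v, hv⟩)
    have hBeq : E ⊔ D = Subgroup.closure ((E : Set R) ∪ (D : Set R)) := by
      rw [Subgroup.closure_union, Subgroup.closure_eq, Subgroup.closure_eq]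
    have hgen : ∀ u ∈ ((E : Set R) ∪ (D : Set R)), ∀ v ∈ ((E : Set R) ∪ (D : Set R)),
        u * v = v * u := by
      rintro u (hu | hu) v (hv | hv)
      · exact hEab u hu v hv
      · exact (Subgroup.mem_centralizer_iff.1 (hDC hv) u hu)
      · exact (Subgroup.mem_centralizer_iff.1 (hDC hu) v hv).symm
      · exact hAab u (hDA hu) v (hDA hv)
    have hBab : IsMulCommutative (E ⊔ D : Subgroup R) := by
      rw [hBeq]; exact Subgroup.isMulCommutative_closure hgen
    have hBexp : ∀ b ∈ E ⊔ D, b ^ p = 1 := by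
      intro b hb
      rw [hBeq] at hb
      have key : ∀ x ∈ Subgroup.closure ((E : Set R) ∪ (D : Set R)), x ^ p = 1 := by
        intro x hx
        induction hx using Subgroup.closure_induction with
        | mem a ha =>
          rcases ha with ha | ha
          · exact hE.2 a ha
          · exact hA₀e a (hDA ha)
        | one => exact one_pow p
        | mul a b ha hb iha ihb =>
          have hc : a * b = b * a :=
            congrArg Subtype.val
              ((Subgroup.isMulCommutative_closure hgen).is_comm.comm ⟨a, ha⟩ ⟨b, hb⟩)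
          rw [Commute.mul_pow hc, iha, ihb, one_mul]
        | inv a ha iha => rw [inv_pow, iha, inv_one]
      exact key b hb
    refine ⟨E ⊔ D, inferInstance, hBab, hBexp, le_sup_left, ?_⟩
    by_contra hle
    rw [not_lt] at hle
    have h1 : E = E ⊔ D := Subgroup.eq_of_le_of_card_ge le_sup_left (by rw [hE2]; exact hle)
    exact hDE (le_trans le_sup_right h1.ge)

/-- A maximal normal abelian subgroup of a `p`-group is self-centralizing. -/
theorem centralizer_le_of_max {R : Type*} [Group R] [Finite R] {p : ℕ} [Fact p.Prime]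
    (hR : IsPGroup p R) (A : Subgroup R) [A.Normal] (hA : IsMulCommutative A)
    (hmax : ∀ B : Subgroup R, B.Normal → IsMulCommutative B → A ≤ B → B = A) :
    Subgroup.centralizer (A : Set R) ≤ A := by
  have hAab : ∀ u ∈ A, ∀ v ∈ A, u * v = v * u := fun u hu v hv =>
    congrArg Subtype.val (hA.is_comm.comm ⟨u, hu⟩ ⟨v, hv⟩)
  by_contra hne
  obtain ⟨x, hxC, hxA, hxp, hxc⟩ :=
    Cfsg.Agent.S0093.exists_central_mod hR A (Subgroup.centralizer (A : Set R)) hne
  have hBn := Cfsg.Agent.S0100.normal_sup_zpowers A x hxc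
  have hBeq : A ⊔ Subgroup.zpowers x = Subgroup.closure ((A : Set R) ∪ {x}) := by
    rw [Subgroup.closure_union, Subgroup.closure_eq, Subgroup.zpowers_eq_closure]
  have hBab : IsMulCommutative (A ⊔ Subgroup.zpowers x : Subgroup R) := by
    rw [hBeq]
    apply Subgroup.isMulCommutative_closure
    have hx : ∀ u ∈ A, u * x = x * u := Subgroup.mem_centralizer_iff.1 hxC
    rintro u (hu | hu) v (hv | hv)
    · exact hAab u hu v hv
    · rw [Set.mem_singleton_iff.1 hv]; exact hx u hu
    · rw [Set.mem_singleton_iff.1 hu]; exact (hx v hv).symm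
    · rw [Set.mem_singleton_iff.1 hu, Set.mem_singleton_iff.1 hv]
  have h1 := hmax _ hBn hBab le_sup_left
  apply hxA
  rw [← h1]
  exact Subgroup.mem_sup_right (Subgroup.mem_zpowers x)

theorem result {R : Type*} [Group R] [Finite R] (p : ℕ) [Fact p.Prime] (hp : p ≠ 2) (hR : IsPGroup p R) (hr : ¬ Cfsg.PRankLE p 2 R)
    (E : Subgroup R) [E.Normal] (hE : Cfsg.IsElementaryAbelian p E) (hE2 : Nat.card E = p ^ 2) :
    ∃ A : Subgroup R, E ≤ A ∧ A.Normal ∧ Subgroup.centralizer (A : Set R) = A ∧ ¬ Cfsg.PRankLE p 2 A := by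
  classical
  obtain ⟨B, hBn, hBc, hBe, hEB, hBcard⟩ := exists_big p hp hR hr E hE hE2
  obtain ⟨A, ⟨hAn, hAab, hBA⟩, hAmax⟩ := Set.exists_max_image
    {A : Subgroup R | A.Normal ∧ IsMulCommutative A ∧ B ≤ A}
    (fun A => Nat.card A) (Set.toFinite _) ⟨B, hBn, hBc, le_refl _⟩
  have hmax : ∀ A' : Subgroup R, A'.Normal → IsMulCommutative A' → A ≤ A' → A' = A :=
    fun A' h1 h2 h3 =>
      (Subgroup.eq_of_le_of_card_ge h3 (hAmax A' ⟨h1, h2, hBA.trans h3⟩)).symm
  haveI := hAn
  have hAab' : ∀ u ∈ A, ∀ v ∈ A, u * v = v * u := fun u hu v hv =>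
    congrArg Subtype.val (hAab.is_comm.comm ⟨u, hu⟩ ⟨v, hv⟩)
  have hcent : Subgroup.centralizer (A : Set R) ≤ A := centralizer_le_of_max hR A hAab hmax
  refine ⟨A, hEB.trans hBA, hAn, le_antisymm hcent ?_, ?_⟩
  · intro a ha
    rw [Subgroup.mem_centralizer_iff]
    intro h hh
    exact hAab' h hh a ha
  · intro hrank
    have h1 := hrank (B.subgroupOf A)
      ⟨⟨fun a b => hAab.is_comm.comm a.1 b.1 |> fun h => Subtype.ext h⟩⟩ (by
      intro a ha
      rw [Subgroup.mem_subgroupOf] at ha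
      exact Subtype.ext (by simpa using hBe _ ha))
    have h2 : Nat.card (B.subgroupOf A) = Nat.card B :=
      Nat.card_congr (Subgroup.subgroupOfEquivOfLe hBA).toEquiv
    rw [h2] at h1
    exact absurd h1 (not_le.2 hBcard)

end Cfsg.Agent.S1452
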