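import Cfsg.Statements.S1337
import Mathlib
import Cfsg.Agent.Lib.Lead.CyclicMax
import Cfsg.Agent.Lib.Lead.NonCyclic
import Cfsg.Agent.S0100
import Cfsg.Agent.S0126
import Cfsg.Agent.S0129
import Cfsg.Agent.S1452

set_option autoImplicit false
open Cfsg
open scoped commutatorElement

namespace Cfsg.Agent.S1337

/-- An element whose square centralizes `a` and which normalizes `⟨a⟩` (`a` of order `2^(e+1)`)
acts on `a` in one of four ways. -/
theorem conj_cases {P : Type*} [Group P] [Finite P] (a g : P) (e : ℕ) (he : 1 ≤ e)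
    (ha : orderOf a = 2 ^ (e + 1)) (hg : g * a * g⁻¹ ∈ Subgroup.zpowers a)
    (hg2 : g * (g * a * g⁻¹) * g⁻¹ = a) :
    g * a * g⁻¹ = a ∨ g * a * g⁻¹ = a⁻¹ ∨ g * a * g⁻¹ = a * a ^ (2 ^ e) ∨
      g * a * g⁻¹ = a⁻¹ * a ^ (2 ^ e) := by
  obtain ⟨m, hm⟩ := Cfsg.Agent.Lib.Lead.CyclicMax.exists_nat_pow hg
  have h1 : a ^ (m * m) = a ^ 1 := by
    rw [pow_one, pow_mul]
    calc (a ^ m) ^ m = (g * a * g⁻¹) ^ m := by rw [hm]
      _ = g * a ^ m * g⁻¹ := conj_pow
      _ = g * (g * a * g⁻¹) * g⁻¹ := by rw [hm]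
      _ = a := hg2
  have h2 : m * m ≡ 1 [MOD 2 ^ (e + 1)] := by
    rw [← ha]; exact pow_eq_pow_iff_modEq.1 h1
  rcases Cfsg.Agent.Lib.Lead.CyclicMax.sq_mod_cases e m he h2 with h | h | h | h
  · left
    rw [hm]
    have h3 : a ^ m = a ^ 1 := pow_eq_pow_iff_modEq.2 (by rw [ha]; exact h)
    rw [h3, pow_one]
  · right; left
    rw [hm]
    have h3 : a ^ m = a ^ (2 ^ (e + 1) - 1) := pow_eq_pow_iff_modEq.2 (by rw [ha]; exact h)
    rw [h3]
    apply eq_inv_of_mul_eq_one_left
    rw [← pow_succ, Nat.sub_add_cancel (Nat.one_le_two_pow), ← ha, pow_orderOf_eq_one]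
  · right; right; left
    rw [hm]
    have h3 : a ^ m = a ^ (1 + 2 ^ e) := pow_eq_pow_iff_modEq.2 (by rw [ha]; exact h)
    rw [h3, pow_add, pow_one]
  · right; right; right
    rw [hm]
    have h3 : a ^ m = a ^ (2 ^ e - 1) := pow_eq_pow_iff_modEq.2 (by rw [ha]; exact h)
    rw [h3, eq_inv_mul_iff_mul_eq, ← pow_succ', Nat.sub_add_cancel (Nat.one_le_two_pow)]

/-- The join of two elementwise commuting elementary abelian subgroups is elementary abelian. -/
theorem sup_elem {P : Type*} [Group P] {p : ℕ} (X Y : Subgroup P)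
    (hX : Cfsg.IsElementaryAbelian p X) (hY : Cfsg.IsElementaryAbelian p Y)
    (hXY : ∀ a ∈ X, ∀ b ∈ Y, a * b = b * a) :
    (∀ u ∈ X ⊔ Y, ∀ v ∈ X ⊔ Y, u * v = v * u) ∧ ∀ u ∈ X ⊔ Y, u ^ p = 1 := by
  have hXab : ∀ u ∈ X, ∀ v ∈ X, u * v = v * u := fun u hu v hv =>
    congrArg Subtype.val (hX.1.is_comm.comm ⟨u, hu⟩ ⟨v, hv⟩)
  have hYab : ∀ u ∈ Y, ∀ v ∈ Y, u * v = v * u := fun u hu v hv =>
    congrArg Subtype.val (hY.1.is_comm.comm ⟨u, hu⟩ ⟨v, hv⟩)
  have hBeq : X ⊔ Y = Subgroup.closure ((X : Set P) ∪ (Y : Set P)) := by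
    rw [Subgroup.closure_union, Subgroup.closure_eq, Subgroup.closure_eq]
  have hgen : ∀ u ∈ ((X : Set P) ∪ (Y : Set P)), ∀ v ∈ ((X : Set P) ∪ (Y : Set P)),
      u * v = v * u := by
    rintro u (hu | hu) v (hv | hv)
    · exact hXab u hu v hv
    · exact hXY u hu v hv
    · exact (hXY v hv u hu).symm
    · exact hYab u hu v hv
  have hBab := Subgroup.isMulCommutative_closure hgen
  rw [hBeq]
  refine ⟨fun u hu v hv => congrArg Subtype.val (hBab.is_comm.comm ⟨u, hu⟩ ⟨v, hv⟩), ?_⟩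
  intro x hx
  induction hx using Subgroup.closure_induction with
  | mem a ha =>
    rcases ha with ha | ha
    · exact hX.2 a ha
    · exact hY.2 a ha
  | one => exact one_pow p
  | mul a b ha hb iha ihb =>
    have hc : a * b = b * a := congrArg Subtype.val (hBab.is_comm.comm ⟨a, ha⟩ ⟨b, hb⟩)
    rw [Commute.mul_pow hc, iha, ihb, one_mul]
  | inv a ha iha => rw [inv_pow, iha, inv_one]

/-- A `2`-group of `2`-rank at least three has a normal four-subgroup. -/
theorem exists_normal_four {P : Type*} [Group P] [Finite P] (hP : IsPGroup 2 P)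
    (hrk : ¬ Cfsg.PRankLE 2 2 P) :
    ∃ U : Subgroup P, U.Normal ∧ Cfsg.IsElementaryAbelian 2 U ∧ Nat.card ↥U = 2 ^ 2 := by
  classical
  haveI : Fact (Nat.Prime 2) := ⟨Nat.prime_two⟩
  obtain ⟨E, hEc, hEe, hEcard⟩ : ∃ E : Subgroup P, IsMulCommutative E ∧ (∀ x ∈ E, x ^ 2 = 1) ∧
      2 ^ 2 < Nat.card E := by
    by_contra hno
    apply hrk
    intro X hXc hXe
    by_contra hlt
    exact hno ⟨X, hXc, hXe, not_le.1 hlt⟩
  suffices hsuff : ∃ Ω : Subgroup P, Ω.Normal ∧ (∀ u ∈ Ω, ∀ v ∈ Ω, u * v = v * u) ∧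
      (∀ x ∈ Ω, x ^ 2 = 1) ∧ 2 ^ 2 ≤ Nat.card Ω by
    obtain ⟨Ω, hΩn, hΩc, hΩe, hΩcard⟩ := hsuff
    haveI := hΩn
    obtain ⟨U, hUn, hUΩ, hUcard⟩ := Cfsg.Agent.S0100.exists_normal_le_card hP Ω 2 hΩcard
    exact ⟨U, hUn, ⟨⟨⟨fun u v => Subtype.ext (hΩc u.1 (hUΩ u.2) v.1 (hUΩ v.2))⟩⟩,
      fun x hx => hΩe x (hUΩ hx)⟩, hUcard⟩
  by_cases hcyc : ∃ A : Subgroup P, A.Normal ∧ IsMulCommutative A ∧ ¬ IsCyclic A
  · obtain ⟨A, hAn, hAc, hAnc⟩ := hcyc
    haveI := hAn
    haveI := hAc
    have hAab : ∀ u ∈ A, ∀ v ∈ A, u * v = v * u := fun u hu v hv =>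
      congrArg Subtype.val (hAc.is_comm.comm ⟨u, hu⟩ ⟨v, hv⟩)
    obtain ⟨r, hr, a, haA, b, hbA, har, hbr, ha1, hba⟩ :=
      Cfsg.Agent.Lib.Lead.NonCyclic.exists_prime_pair A hAnc
    have hr2 : r = 2 := by
      haveI : Fact r.Prime := ⟨hr⟩
      have ho : orderOf a = r := orderOf_eq_prime har ha1
      obtain ⟨k, hk⟩ := hP a
      have h1 : r ∣ 2 ^ k := by rw [← ho]; exact orderOf_dvd_of_pow_eq_one hk
      exact (Nat.prime_dvd_prime_iff_eq hr Nat.prime_two).1 (hr.dvd_of_dvd_pow h1)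
    subst hr2
    let Ω : Subgroup P :=
      { carrier := {x | x ∈ A ∧ x ^ 2 = 1}
        one_mem' := ⟨one_mem _, one_pow _⟩
        mul_mem' := by
          rintro u v ⟨hu, hu2⟩ ⟨hv, hv2⟩
          exact ⟨mul_mem hu hv, by rw [Commute.mul_pow (hAab u hu v hv), hu2, hv2, one_mul]⟩
        inv_mem' := by
          rintro u ⟨hu, hu2⟩
          exact ⟨inv_mem hu, by rw [inv_pow, hu2, inv_one]⟩ }
    refine ⟨Ω, ⟨fun x hx g => ?_⟩, fun u hu v hv => hAab u hu.1 v hv.1, fun x hx => hx.2, ?_⟩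
    · exact ⟨hAn.conj_mem x hx.1 g, by rw [conj_pow, hx.2, mul_one, mul_inv_cancel]⟩
    · have haΩ : a ∈ Ω := ⟨haA, har⟩
      have hbΩ : b ∈ Ω := ⟨hbA, hbr⟩
      have hza : Subgroup.zpowers a ≤ Ω := by rw [Subgroup.zpowers_le]; exact haΩ
      have hzacard : Nat.card (Subgroup.zpowers a) = 2 := by
        rw [Nat.card_zpowers]; exact orderOf_eq_prime har ha1
      obtain ⟨k, hk⟩ := IsPGroup.iff_card.1 (hP.to_subgroup Ω)
      rw [hk]
      have hlt : 2 < 2 ^ k := by
        rw [← hk]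
        by_contra h
        rw [not_lt] at h
        have h' : Nat.card Ω ≤ Nat.card (Subgroup.zpowers a) := by rw [hzacard]; exact h
        have h2 := Subgroup.eq_of_le_of_card_ge hza h'
        exact hba (by rw [h2]; exact hbΩ)
      have h1 : 1 < k := by
        by_contra hk1
        rw [not_lt] at hk1
        have h2 := Nat.pow_le_pow_right (by norm_num : 0 < 2) hk1
        omega
      exact Nat.pow_le_pow_right (by norm_num) h1
  · push Not at hcyc
    obtain ⟨A, ⟨hAn, hAab⟩, hAmax⟩ := Set.exists_max_image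
      {A : Subgroup P | A.Normal ∧ IsMulCommutative A}
      (fun A => Nat.card A) (Set.toFinite _) ⟨⊥, inferInstance, inferInstance⟩
    have hmax : ∀ A' : Subgroup P, A'.Normal → IsMulCommutative A' → A ≤ A' → A' = A :=
      fun A' h1 h2 h3 => (Subgroup.eq_of_le_of_card_ge h3 (hAmax A' ⟨h1, h2⟩)).symm
    haveI := hAn
    have hcent : Subgroup.centralizer (A : Set P) ≤ A :=
      Cfsg.Agent.S1452.centralizer_le_of_max hP A hAab hmax
    have hAcyc : IsCyclic A := hcyc A hAn hAab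
    obtain ⟨g0, hg0⟩ := hAcyc.exists_generator
    obtain ⟨a, haA, hAz⟩ : ∃ a ∈ A, A = Subgroup.zpowers a := by
      refine ⟨g0.1, g0.2, le_antisymm ?_ ?_⟩
      · intro y hy
        obtain ⟨k, hk⟩ := Subgroup.mem_zpowers_iff.1 (hg0 ⟨y, hy⟩)
        rw [Subgroup.mem_zpowers_iff]
        exact ⟨k, by have h := congrArg Subtype.val hk; simpa using h⟩
      · rw [Subgroup.zpowers_le]; exact g0.2
    have hCa : ∀ g : P, g * a * g⁻¹ = a → g ∈ A := by
      intro g hg
      apply hcent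
      rw [Subgroup.mem_centralizer_iff]
      intro y hy
      rw [hAz] at hy
      obtain ⟨k, rfl⟩ := Subgroup.mem_zpowers_iff.1 hy
      have hc : Commute g a := by
        show g * a = a * g
        calc g * a = g * a * g⁻¹ * g := by group
          _ = a * g := by rw [hg]
      exact (hc.zpow_right k).eq.symm
    obtain ⟨k, hk⟩ := IsPGroup.iff_card.1 (hP.to_subgroup A)
    have hoa : orderOf a = 2 ^ k := by
      rw [← hk, ← Nat.card_zpowers, hAz]
    have hEcard8 : 8 ≤ Nat.card E := by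
      obtain ⟨j, hj⟩ := IsPGroup.iff_card.1 (hP.to_subgroup E)
      rw [hj] at hEcard ⊢
      have h1 : 2 < j := by
        by_contra h
        rw [not_lt] at h
        have h2 := Nat.pow_le_pow_right (by norm_num : 0 < 2) h
        omega
      calc 8 = 2 ^ 3 := by norm_num
        _ ≤ 2 ^ j := Nat.pow_le_pow_right (by norm_num) h1
    have hk3 : 3 ≤ k := by
      by_contra hk2
      rw [not_le] at hk2
      obtain ⟨M, hMn, hMA, hMc, hMi⟩ :=
        Cfsg.Agent.S0129.index_centralizer_le hP A k (le_of_eq hk.symm)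
      have hMeq : M = A := Subgroup.eq_of_le_of_card_ge hMA (by rw [hMc, hk])
      rw [hMeq] at hMi
      have hidx : (Subgroup.centralizer (A : Set P)).index ≤ 2 := by
        refine le_trans hMi ?_
        interval_cases k <;> simp
      have hAidx : A.index ≤ 2 := le_trans (Subgroup.index_antitone hcent) hidx
      have hPcard : Nat.card P ≤ 8 := by
        rw [← Subgroup.card_mul_index A, hk]
        calc 2 ^ k * A.index ≤ 2 ^ 2 * 2 :=
              Nat.mul_le_mul (Nat.pow_le_pow_right (by norm_num) (by omega)) hAidx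
          _ = 8 := by norm_num
      have hEtop : E = ⊤ := by
        apply Subgroup.eq_top_of_card_eq
        exact le_antisymm (Subgroup.card_le_card_group E) (le_trans hPcard hEcard8)
      have hAtop : A = ⊤ := by
        rw [eq_top_iff]
        intro g _
        apply hcent
        rw [Subgroup.mem_centralizer_iff]
        intro y hy
        have hg : g ∈ E := by rw [hEtop]; trivial
        have hyE : y ∈ E := by rw [hEtop]; trivial
        exact congrArg Subtype.val (hEc.is_comm.comm ⟨y, hyE⟩ ⟨g, hg⟩)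
      have h1 : Nat.card A = Nat.card P := by rw [hAtop]; exact Subgroup.card_top
      rw [hk] at h1
      have h8 : 8 ≤ Nat.card P := le_trans hEcard8 (Subgroup.card_le_card_group E)
      have h2 : 2 ^ k ≤ 4 := by
        calc 2 ^ k ≤ 2 ^ 2 := Nat.pow_le_pow_right (by norm_num) (by omega)
          _ = 4 := by norm_num
      omega
    obtain ⟨e, rfl⟩ : ∃ e, k = e + 1 := ⟨k - 1, by omega⟩
    have he2 : 2 ≤ e := by omega
    obtain ⟨z, hz⟩ : ∃ z : P, z = a ^ (2 ^ e) := ⟨_, rfl⟩
    have hz2 : z ^ 2 = 1 := by rw [hz, ← pow_mul, ← pow_succ, ← hoa, pow_orderOf_eq_one]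
    have hz1 : z ≠ 1 := by
      rw [hz]
      intro h
      have h1 := orderOf_dvd_of_pow_eq_one h
      rw [hoa] at h1
      have h2 := Nat.le_of_dvd (by positivity) h1
      have h3 : 2 ^ e < 2 ^ (e + 1) := Nat.pow_lt_pow_right (by norm_num) (by omega)
      omega
    have hzA : z ∈ A := by rw [hz]; exact pow_mem haA _
    have hza : z * a = a * z := by
      rw [hz]; exact ((Commute.refl a).pow_left (2 ^ e)).eq
    have hzz : z * z = 1 := by rw [← pow_two]; exact hz2
    have hzinv : z⁻¹ = z := inv_eq_of_mul_eq_one_left hzz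
    have hA2 : ∀ y ∈ A, y ^ 2 = 1 → y = 1 ∨ y = z := by
      intro y hy hy2
      rw [hAz] at hy
      obtain ⟨j, rfl⟩ := Cfsg.Agent.Lib.Lead.CyclicMax.exists_nat_pow hy
      have h1 : 2 ^ (e + 1) ∣ j * 2 := by
        rw [← hoa]; apply orderOf_dvd_of_pow_eq_one; rw [pow_mul]; exact hy2
      have h2 : 2 ^ e ∣ j := by
        rw [pow_succ] at h1
        exact Nat.dvd_of_mul_dvd_mul_right (by norm_num) h1
      obtain ⟨t, rfl⟩ := h2
      rw [pow_mul, ← hz]
      rcases Nat.even_or_odd t with ⟨s, hs⟩ | ⟨s, hs⟩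
      · left; rw [hs, ← two_mul, pow_mul, hz2, one_pow]
      · right; rw [hs, pow_succ, pow_mul, hz2, one_pow, one_mul]
    have hzc : ∀ g : P, g * z * g⁻¹ = z := by
      intro g
      rcases hA2 _ (hAn.conj_mem z hzA g) (by rw [conj_pow, hz2, mul_one, mul_inv_cancel])
        with h | h
      · exfalso
        apply hz1
        have h1 : z = g⁻¹ * (g * z * g⁻¹) * g := by group
        rw [h1, h]; group
      · exact h
    have hcases : ∀ g : P, g ^ 2 = 1 → g * a * g⁻¹ = a ∨ g * a * g⁻¹ = a⁻¹ ∨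
        g * a * g⁻¹ = a * z ∨ g * a * g⁻¹ = a⁻¹ * z := by
      intro g hg
      have h1 : g * a * g⁻¹ ∈ Subgroup.zpowers a := by
        have h := hAn.conj_mem a haA g
        rwa [hAz] at h
      have h2 : g * (g * a * g⁻¹) * g⁻¹ = a := by
        have hgg : g * g = 1 := by rw [← pow_two]; exact hg
        calc g * (g * a * g⁻¹) * g⁻¹ = (g * g) * a * (g * g)⁻¹ := by group
          _ = a := by rw [hgg]; group
      rw [hz]
      exact conj_cases a g e (by omega) hoa h1 h2
    have hEab : ∀ u ∈ E, ∀ v ∈ E, u * v = v * u := fun u hu v hv =>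
      congrArg Subtype.val (hEc.is_comm.comm ⟨u, hu⟩ ⟨v, hv⟩)
    have hEA : ∀ y ∈ E, y ∈ A → y = 1 ∨ y = z := fun y hyE hyA => hA2 y hyA (hEe y hyE)
    obtain ⟨x, hx2, hxA, hxa⟩ : ∃ x : P, x ^ 2 = 1 ∧ x ∉ A ∧ x * a * x⁻¹ = a * z := by
      obtain ⟨e₁, he₁E, he₁A⟩ : ∃ e₁ ∈ E, e₁ ∉ A := by
        by_contra hno
        push Not at hno
        have hle : E ≤ Subgroup.zpowers z := by
          intro y hy
          rcases hEA y hy (hno y hy) with h | h
          · rw [h]; exact one_mem _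
          · rw [h]; exact Subgroup.mem_zpowers z
        have h1 := Subgroup.card_le_of_le hle
        rw [Nat.card_zpowers, orderOf_eq_prime hz2 hz1] at h1
        omega
      by_cases h₁ : e₁ * a * e₁⁻¹ = a * z
      · exact ⟨e₁, hEe e₁ he₁E, he₁A, h₁⟩
      have he₁sq : e₁ * e₁ = 1 := by rw [← pow_two]; exact hEe e₁ he₁E
      obtain ⟨e₂, he₂E, he₂A, he₁₂A⟩ : ∃ e₂ ∈ E, e₂ ∉ A ∧ e₁ * e₂ ∉ A := by
        by_contra hno
        push Not at hno
        have hsub : (E : Set P) ⊆ (({1, z, e₁, e₁ * z} : Finset P) : Set P) := by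
          intro y hy
          simp only [Finset.coe_insert, Finset.coe_singleton, Set.mem_insert_iff,
            Set.mem_singleton_iff]
          by_cases hyA : y ∈ A
          · rcases hEA y hy hyA with h | h
            · left; exact h
            · right; left; exact h
          · rcases hEA (e₁ * y) (E.mul_mem he₁E hy) (hno y hy hyA) with h | h
            · right; right; left
              calc y = e₁ * e₁ * y := by rw [he₁sq, one_mul]
                _ = e₁ * (e₁ * y) := by group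
                _ = e₁ := by rw [h, mul_one]
            · right; right; right
              calc y = e₁ * e₁ * y := by rw [he₁sq, one_mul]
                _ = e₁ * (e₁ * y) := by group
                _ = e₁ * z := by rw [h]
        have hcard : Nat.card E ≤ 4 := by
          have h1 : Nat.card E = (E : Set P).ncard := rfl
          rw [h1]
          calc (E : Set P).ncard ≤ ((({1, z, e₁, e₁ * z} : Finset P)) : Set P).ncard :=
                Set.ncard_le_ncard hsub (Finset.finite_toSet _)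
            _ = ({1, z, e₁, e₁ * z} : Finset P).card := Set.ncard_coe_finset _
            _ ≤ 4 := Finset.card_le_four
        omega
      have hc1 := hcases e₁ (hEe e₁ he₁E)
      have hc2 := hcases e₂ (hEe e₂ he₂E)
      by_cases h₂ : e₂ * a * e₂⁻¹ = a * z
      · exact ⟨e₂, hEe e₂ he₂E, he₂A, h₂⟩
      have hc1' : e₁ * a * e₁⁻¹ = a⁻¹ ∨ e₁ * a * e₁⁻¹ = a⁻¹ * z := by
        rcases hc1 with h | h | h | h
        · exact absurd (hCa e₁ h) he₁A
        · exact Or.inl h
        · exact absurd h h₁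
        · exact Or.inr h
      have hc2' : e₂ * a * e₂⁻¹ = a⁻¹ ∨ e₂ * a * e₂⁻¹ = a⁻¹ * z := by
        rcases hc2 with h | h | h | h
        · exact absurd (hCa e₂ h) he₂A
        · exact Or.inl h
        · exact absurd h h₂
        · exact Or.inr h
      have hexp : (e₁ * e₂) * a * (e₁ * e₂)⁻¹ = e₁ * (e₂ * a * e₂⁻¹) * e₁⁻¹ := by group
      have hi1 : e₁ * a⁻¹ * e₁⁻¹ = (e₁ * a * e₁⁻¹)⁻¹ := by group
      have hi2 : e₁ * (a⁻¹ * z) * e₁⁻¹ = (e₁ * a * e₁⁻¹)⁻¹ * (e₁ * z * e₁⁻¹) := by group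
      refine ⟨e₁ * e₂, ?_, he₁₂A, ?_⟩
      · rw [Commute.mul_pow (hEab e₁ he₁E e₂ he₂E), hEe e₁ he₁E, hEe e₂ he₂E, one_mul]
      · rw [hexp]
        rcases hc1' with h1 | h1 <;> rcases hc2' with h2 | h2
        · exfalso
          apply he₁₂A
          apply hCa
          rw [hexp, h2, hi1, h1, inv_inv]
        · rw [h2, hi2, h1, inv_inv, hzc]
        · rw [h2, hi1, h1, mul_inv_rev, inv_inv, hzinv, hza]
        · exfalso
          apply he₁₂A
          apply hCa
          rw [hexp, h2, hi2, h1, hzc, mul_inv_rev, inv_inv, hzinv, hza, mul_assoc, hzz, mul_one]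
    have hxx : x * x = 1 := by rw [← pow_two]; exact hx2
    have hxinv : x⁻¹ = x := inv_eq_of_mul_eq_one_left hxx
    have hxa2 : x * a ^ 2 * x⁻¹ = a ^ 2 := by
      rw [← conj_pow, hxa, Commute.mul_pow hza.symm, hz2, mul_one]
    have hxpow : ∀ t : ℕ, x * (a ^ 2) ^ t * x⁻¹ = (a ^ 2) ^ t := fun t => by
      rw [← conj_pow, hxa2]
    have ha4 : ∀ b ∈ A, b ^ 4 = 1 → ∃ t : ℕ, b = (a ^ 2) ^ t := by
      intro b hb hb4
      rw [hAz] at hb
      obtain ⟨j, rfl⟩ := Cfsg.Agent.Lib.Lead.CyclicMax.exists_nat_pow hb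
      have h1 : 2 ^ (e + 1) ∣ j * 4 := by
        rw [← hoa]; apply orderOf_dvd_of_pow_eq_one; rw [pow_mul]; exact hb4
      have h2 : 2 ∣ j := by
        obtain ⟨f, rfl⟩ : ∃ f, e = f + 2 := ⟨e - 2, by omega⟩
        have h3 : 2 ^ (f + 2 + 1) = 2 ^ (f + 1) * 4 := by ring
        rw [h3] at h1
        have h4 : 2 ^ (f + 1) ∣ j := Nat.dvd_of_mul_dvd_mul_right (by norm_num) h1
        exact dvd_trans (dvd_pow_self 2 (by omega)) h4
      obtain ⟨t, rfl⟩ := h2
      exact ⟨t, by rw [← pow_mul]⟩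
    have huniq : ∀ y : P, y ^ 2 = 1 → y ∉ A → y * a * y⁻¹ = a * z → y = x ∨ y = z * x := by
      intro y hy2 hyA hya
      have hyy : y * y = 1 := by rw [← pow_two]; exact hy2
      have hbA : y * x ∈ A := by
        apply hCa
        have h1 : (y * x) * a * (y * x)⁻¹ = y * (x * a * x⁻¹) * y⁻¹ := by group
        have h2 : y * (a * z) * y⁻¹ = (y * a * y⁻¹) * (y * z * y⁻¹) := by group
        rw [h1, hxa, h2, hya, hzc, mul_assoc, hzz, mul_one]
      obtain ⟨b, hb⟩ : ∃ b, b = y * x := ⟨_, rfl⟩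
      rw [← hb] at hbA
      have hyb : y = b * x := by rw [hb, mul_assoc, hxx, mul_one]
      have hinv : x * b * x⁻¹ = b⁻¹ := by
        have h1 : b * x * (b * x) = 1 := by rw [← hyb]; exact hyy
        rw [hxinv]
        apply eq_inv_of_mul_eq_one_right
        calc b * (x * b * x) = b * x * (b * x) := by group
          _ = 1 := h1
      have hb2 : x * b ^ 2 * x⁻¹ = b ^ 2 := by
        have hbz := hbA
        rw [hAz] at hbz
        obtain ⟨j, hj⟩ := Cfsg.Agent.Lib.Lead.CyclicMax.exists_nat_pow hbz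
        rw [hj, ← pow_mul, mul_comm, pow_mul]; exact hxpow j
      have hb4 : b ^ 4 = 1 := by
        have h1 : x * b ^ 2 * x⁻¹ = (b ^ 2)⁻¹ := by rw [← conj_pow, hinv, inv_pow]
        rw [hb2] at h1
        have h2 : b ^ 2 * b ^ 2 = 1 := by
          calc b ^ 2 * b ^ 2 = b ^ 2 * (b ^ 2)⁻¹ := by rw [← h1]
            _ = 1 := mul_inv_cancel _
        rw [show (4 : ℕ) = 2 + 2 from rfl, pow_add]; exact h2
      obtain ⟨t, ht⟩ := ha4 b hbA hb4
      have hbx : x * b * x⁻¹ = b := by rw [ht]; exact hxpow t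
      have hbb : b ^ 2 = 1 := by
        rw [hinv] at hbx
        rw [pow_two]
        calc b * b = b⁻¹ * b := by rw [hbx]
          _ = 1 := inv_mul_cancel b
      rcases hA2 b hbA hbb with h | h
      · left; rw [hyb, h, one_mul]
      · right; rw [hyb, h]
    have hzx : z * x = x * z := by
      have h := hzc x
      calc z * x = x * z * x⁻¹ * x := by rw [h]
        _ = x * z := by group
    haveI hzn : (Subgroup.zpowers z).Normal := by
      constructor
      intro y hy g
      obtain ⟨j, rfl⟩ := Subgroup.mem_zpowers_iff.1 hy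
      rw [← conj_zpow, hzc]
      exact Subgroup.zpow_mem_zpowers z j
    have hzA' : Subgroup.zpowers z ≤ A := by rw [Subgroup.zpowers_le]; exact hzA
    have hcomm : ∀ g : P, ⁅x, g⁆ ∈ Subgroup.zpowers z := by
      intro g
      obtain ⟨y, hy⟩ : ∃ y, y = g * x * g⁻¹ := ⟨_, rfl⟩
      have hy2 : y ^ 2 = 1 := by rw [hy, conj_pow, hx2, mul_one, mul_inv_cancel]
      have hyA : y ∉ A := by
        intro h
        apply hxA
        have h1 : x = g⁻¹ * y * g⁻¹⁻¹ := by rw [hy]; group
        rw [h1]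
        exact hAn.conj_mem y h g⁻¹
      have hya2 : y * a ^ 2 * y⁻¹ = a ^ 2 := by
        -- g⁻¹ a g = a^m
        have h1 : g⁻¹ * a * g⁻¹⁻¹ ∈ Subgroup.zpowers a := by
          have h := hAn.conj_mem a haA g⁻¹
          rwa [hAz] at h
        obtain ⟨m, hm⟩ := Cfsg.Agent.Lib.Lead.CyclicMax.exists_nat_pow h1
        have h2 : g⁻¹ * a ^ 2 * g⁻¹⁻¹ = (a ^ 2) ^ m := by
          rw [← conj_pow, hm, ← pow_mul, mul_comm, pow_mul]
        have h3 : y * a ^ 2 * y⁻¹ = g * (x * (g⁻¹ * a ^ 2 * g⁻¹⁻¹) * x⁻¹) * g⁻¹ := by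
          rw [hy]; group
        rw [h3, h2, hxpow m, ← h2]; group
      have ha4ne : a ^ 4 ≠ 1 := by
        intro h
        have h1 := orderOf_dvd_of_pow_eq_one h
        rw [hoa] at h1
        have h2 := Nat.le_of_dvd (by norm_num) h1
        have h3 : 2 ^ 3 ≤ 2 ^ (e + 1) := Nat.pow_le_pow_right (by norm_num) (by omega)
        omega
      have hya : y * a * y⁻¹ = a * z := by
        have hsq : (y * a * y⁻¹) ^ 2 = a ^ 2 := by rw [conj_pow, hya2]
        rcases hcases y hy2 with h | h | h | h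
        · exact absurd (hCa y h) hyA
        · exfalso
          apply ha4ne
          rw [h, inv_pow] at hsq
          calc a ^ 4 = a ^ 2 * a ^ 2 := by rw [← pow_add]
            _ = a ^ 2 * (a ^ 2)⁻¹ := by rw [hsq]
            _ = 1 := mul_inv_cancel _
        · exact h
        · exfalso
          apply ha4ne
          have hc : Commute a⁻¹ z := (Commute.inv_left (show Commute a z from hza.symm))
          rw [h, Commute.mul_pow hc, hz2, mul_one, inv_pow] at hsq
          calc a ^ 4 = a ^ 2 * a ^ 2 := by rw [← pow_add]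
            _ = a ^ 2 * (a ^ 2)⁻¹ := by rw [hsq]
            _ = 1 := mul_inv_cancel _
      have hyinv : y⁻¹ = y := inv_eq_of_mul_eq_one_left (by rw [← pow_two]; exact hy2)
      have hcy : ⁅x, g⁆ = x * y := by
        rw [commutatorElement_def, ← hyinv, hy]; group
      rw [hcy]
      rcases huniq y hy2 hyA hya with h | h
      · rw [h, hxx]; exact one_mem _
      · rw [h, ← mul_assoc, ← hzx, mul_assoc, hxx, mul_one]; exact Subgroup.mem_zpowers z
    have hΩn : (Subgroup.zpowers z ⊔ Subgroup.zpowers x).Normal :=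
      Cfsg.Agent.S0100.normal_sup_zpowers (Subgroup.zpowers z) x hcomm
    have hEz : Cfsg.IsElementaryAbelian 2 (Subgroup.zpowers z) := by
      refine ⟨⟨⟨fun u v => ?_⟩⟩, ?_⟩
      · obtain ⟨i, hi⟩ := Subgroup.mem_zpowers_iff.1 u.2
        obtain ⟨j, hj⟩ := Subgroup.mem_zpowers_iff.1 v.2
        apply Subtype.ext
        show (u : P) * v = v * u
        rw [← hi, ← hj]
        exact ((Commute.refl z).zpow_zpow i j).eq
      · intro u hu
        obtain ⟨i, rfl⟩ := Subgroup.mem_zpowers_iff.1 hu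
        rw [← zpow_natCast, ← zpow_mul, mul_comm, zpow_mul, zpow_natCast, hz2, one_zpow]
    have hEx : Cfsg.IsElementaryAbelian 2 (Subgroup.zpowers x) := by
      refine ⟨⟨⟨fun u v => ?_⟩⟩, ?_⟩
      · obtain ⟨i, hi⟩ := Subgroup.mem_zpowers_iff.1 u.2
        obtain ⟨j, hj⟩ := Subgroup.mem_zpowers_iff.1 v.2
        apply Subtype.ext
        show (u : P) * v = v * u
        rw [← hi, ← hj]
        exact ((Commute.refl x).zpow_zpow i j).eq
      · intro u hu
        obtain ⟨i, rfl⟩ := Subgroup.mem_zpowers_iff.1 hu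
        rw [← zpow_natCast, ← zpow_mul, mul_comm, zpow_mul, zpow_natCast, hx2, one_zpow]
    have hsup := sup_elem (Subgroup.zpowers z) (Subgroup.zpowers x) hEz hEx (by
      intro u hu v hv
      obtain ⟨i, rfl⟩ := Subgroup.mem_zpowers_iff.1 hu
      obtain ⟨j, rfl⟩ := Subgroup.mem_zpowers_iff.1 hv
      exact ((show Commute z x from hzx).zpow_zpow i j).eq)
    refine ⟨Subgroup.zpowers z ⊔ Subgroup.zpowers x, hΩn, hsup.1, hsup.2, ?_⟩
    have hxz : x ∉ Subgroup.zpowers z := fun h => hxA (hzA' h)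
    have h1 := Cfsg.Agent.S0100.card_sup_zpowers (p := 2) (Subgroup.zpowers z) x
      (by rw [hx2]; exact one_mem _) hxz
    rw [h1, Nat.card_zpowers, orderOf_eq_prime hz2 hz1]
    norm_num

theorem result {P : Type*} [Group P] [Finite P] (p : ℕ) [Fact p.Prime] (hP : IsPGroup p P) (hrk : ¬ Cfsg.PRankLE p 2 P) : ∃ U : Subgroup P, U.Normal ∧ Cfsg.IsElementaryAbelian p U ∧ Nat.card ↥U = p ^ 2 ∧ ∀ X : Subgroup P, Cfsg.IsElementaryAbelian p X → p ^ 2 ≤ Nat.card ↥X → (Relation.ReflTransGen (fun A B : Subgroup P => Cfsg.IsElementaryAbelian p A ∧ p ^ 2 ≤ Nat.card ↥A ∧ Cfsg.IsElementaryAbelian p B ∧ p ^ 2 ≤ Nat.card ↥B ∧ ∀ a ∈ A, ∀ b ∈ B, a * b = b * a) X U ↔ ¬ Cfsg.PRankLE p 2 ↥(Subgroup.centralizer (X : Set P))) := by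
  classical
  have hpp : p.Prime := Fact.out
  obtain ⟨E, hEc, hEe, hEcard⟩ : ∃ E : Subgroup P, IsMulCommutative E ∧ (∀ x ∈ E, x ^ p = 1) ∧
      p ^ 2 < Nat.card E := by
    by_contra hno
    apply hrk
    intro X hXc hXe
    by_contra hlt
    exact hno ⟨X, hXc, hXe, not_le.1 hlt⟩
  have hEab : ∀ u ∈ E, ∀ v ∈ E, u * v = v * u := fun u hu v hv =>
    congrArg Subtype.val (hEc.is_comm.comm ⟨u, hu⟩ ⟨v, hv⟩)
  obtain ⟨U, hUn, hUe, hUcard⟩ : ∃ U : Subgroup P, U.Normal ∧ Cfsg.IsElementaryAbelian p U ∧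
      Nat.card ↥U = p ^ 2 := by
    by_cases hp2 : p = 2
    · subst hp2
      exact exists_normal_four hP hrk
    · apply Cfsg.Agent.S0126.result hp2 hP
      intro hcyc
      obtain ⟨g, hg⟩ := (inferInstance : IsCyclic E).exists_generator
      have h1 : orderOf g = Nat.card E := orderOf_eq_card_of_forall_mem_zpowers hg
      have h2 : g ^ p = 1 := Subtype.ext (by simpa using hEe g.1 g.2)
      have h3 := orderOf_le_of_pow_eq_one hpp.pos h2
      have h4 : p ≤ p ^ 2 := Nat.le_self_pow (by norm_num) p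
      omega
  haveI := hUn
  refine ⟨U, hUn, hUe, hUcard, ?_⟩
  have hUab : ∀ u ∈ U, ∀ v ∈ U, u * v = v * u := fun u hu v hv =>
    congrArg Subtype.val (hUe.1.is_comm.comm ⟨u, hu⟩ ⟨v, hv⟩)
  obtain ⟨M, hMn, hMU, hMc, hMi⟩ :=
    Cfsg.Agent.S0129.index_centralizer_le hP U 2 (le_of_eq hUcard.symm)
  have hMeq : M = U := Subgroup.eq_of_le_of_card_ge hMU (by rw [hMc, hUcard])
  rw [hMeq] at hMi
  have hidx : (Subgroup.centralizer (U : Set P)).index ≤ p := by simpa using hMi
  have hkey : ∀ B : Subgroup P, p ^ 2 < Nat.card B →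
      p ^ 2 ≤ Nat.card ↥(B ⊓ Subgroup.centralizer (U : Set P)) := by
    intro B hB
    have h1 := Subgroup.relIndex_mul_relIndex (⊥ : Subgroup P)
      (B ⊓ Subgroup.centralizer (U : Set P)) B bot_le inf_le_left
    rw [Subgroup.relIndex_bot_left, Subgroup.relIndex_bot_left] at h1
    have h2 : (B ⊓ Subgroup.centralizer (U : Set P)).relIndex B ≤ p := by
      have h3 : (B ⊓ Subgroup.centralizer (U : Set P)).relIndex B =
          (Subgroup.centralizer (U : Set P)).relIndex B := by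
        rw [inf_comm, Subgroup.inf_relIndex_right]
      rw [h3]
      have h4 := Subgroup.relIndex_dvd_index_of_normal (Subgroup.centralizer (U : Set P)) B
      have hpos : 0 < (Subgroup.centralizer (U : Set P)).index :=
        Nat.pos_of_ne_zero Subgroup.index_ne_zero_of_finite
      exact le_trans (Nat.le_of_dvd hpos h4) hidx
    obtain ⟨j, hj⟩ := IsPGroup.iff_card.1
      (hP.to_subgroup (B ⊓ Subgroup.centralizer (U : Set P)))
    rw [hj] at h1 ⊢
    have h5 : 1 < j := by
      by_contra hj1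
      rw [not_lt] at hj1
      have h6 : p ^ j ≤ p ^ 1 := Nat.pow_le_pow_right hpp.pos hj1
      rw [pow_one] at h6
      have h7 : p ^ j * (B ⊓ Subgroup.centralizer (U : Set P)).relIndex B ≤ p * p :=
        Nat.mul_le_mul h6 h2
      rw [h1, ← pow_two] at h7
      omega
    exact Nat.pow_le_pow_right hpp.pos h5
  have hrank : ∀ (X B : Subgroup P), B ≤ Subgroup.centralizer (X : Set P) →
      (∀ u ∈ B, ∀ v ∈ B, u * v = v * u) → (∀ b ∈ B, b ^ p = 1) → p ^ 2 < Nat.card B →
      ¬ Cfsg.PRankLE p 2 ↥(Subgroup.centralizer (X : Set P)) := by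
    intro X B hBC hBab hBe hBcard hr
    have h1 := hr (B.subgroupOf (Subgroup.centralizer (X : Set P)))
      ⟨⟨fun a b => Subtype.ext (Subtype.ext (hBab a.1.1 a.2 b.1.1 b.2))⟩⟩ (by
        intro a ha
        rw [Subgroup.mem_subgroupOf] at ha
        exact Subtype.ext (by simpa using hBe _ ha))
    have h2 : Nat.card (B.subgroupOf (Subgroup.centralizer (X : Set P))) = Nat.card B :=
      Nat.card_congr (Subgroup.subgroupOfEquivOfLe hBC).toEquiv
    rw [h2] at h1
    exact absurd h1 (not_le.2 hBcard)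
  have hfwd : ∀ X : Subgroup P, Relation.ReflTransGen (fun A B : Subgroup P => Cfsg.IsElementaryAbelian p A ∧ p ^ 2 ≤ Nat.card ↥A ∧ Cfsg.IsElementaryAbelian p B ∧ p ^ 2 ≤ Nat.card ↥B ∧ ∀ a ∈ A, ∀ b ∈ B, a * b = b * a) X U → ¬ Cfsg.PRankLE p 2 ↥(Subgroup.centralizer (X : Set P)) := by
    intro X hconn
    induction hconn using Relation.ReflTransGen.head_induction_on with
    | refl =>
      have hD := hkey E hEcard
      by_cases hDU : E ⊓ Subgroup.centralizer (U : Set P) ≤ U
      · have h1 : E ⊓ Subgroup.centralizer (U : Set P) = U :=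
          Subgroup.eq_of_le_of_card_ge hDU (by rw [hUcard]; exact hD)
        have hUE : U ≤ E := by rw [← h1]; exact inf_le_left
        refine hrank U E ?_ hEab hEe hEcard
        intro x hx
        rw [Subgroup.mem_centralizer_iff]
        intro u hu
        exact hEab u (hUE hu) x hx
      · have hDe : Cfsg.IsElementaryAbelian p (E ⊓ Subgroup.centralizer (U : Set P)) :=
          ⟨⟨⟨fun a b => Subtype.ext (hEab a.1 a.2.1 b.1 b.2.1)⟩⟩, fun x hx => hEe x hx.1⟩
        have hs := sup_elem U (E ⊓ Subgroup.centralizer (U : Set P)) hUe hDe (by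
          intro a ha b hb
          exact Subgroup.mem_centralizer_iff.1 hb.2 a ha)
        refine hrank U (U ⊔ (E ⊓ Subgroup.centralizer (U : Set P))) ?_ hs.1 hs.2 ?_
        · apply sup_le
          · intro x hx
            rw [Subgroup.mem_centralizer_iff]
            intro u hu
            exact hUab u hu x hx
          · exact inf_le_right
        · by_contra hle
          rw [not_lt] at hle
          have h1 : U = U ⊔ (E ⊓ Subgroup.centralizer (U : Set P)) :=
            Subgroup.eq_of_le_of_card_ge le_sup_left (by rw [hUcard]; exact hle)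
          exact hDU (le_trans le_sup_right h1.ge)
    | head hab hbc ih =>
      rename_i A B
      obtain ⟨hA, hAcard, hB, hBcard, hcomm⟩ := hab
      have hAab : ∀ u ∈ A, ∀ v ∈ A, u * v = v * u := fun u hu v hv =>
        congrArg Subtype.val (hA.1.is_comm.comm ⟨u, hu⟩ ⟨v, hv⟩)
      by_cases hAB : A = B
      · rw [hAB]; exact ih
      · have hs := sup_elem A B hA hB hcomm
        refine hrank A (A ⊔ B) ?_ hs.1 hs.2 ?_
        · apply sup_le
          · intro x hx
            rw [Subgroup.mem_centralizer_iff]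
            intro u hu
            exact hAab u hu x hx
          · intro x hx
            rw [Subgroup.mem_centralizer_iff]
            intro u hu
            exact hcomm u hu x hx
        · by_contra hle
          rw [not_lt] at hle
          have h1 : A = A ⊔ B :=
            Subgroup.eq_of_le_of_card_ge le_sup_left (le_trans hle hAcard)
          have h2 : B = A ⊔ B :=
            Subgroup.eq_of_le_of_card_ge le_sup_right (le_trans hle hBcard)
          exact hAB (h1.trans h2.symm)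
  intro X hX hXcard
  have hXab : ∀ u ∈ X, ∀ v ∈ X, u * v = v * u := fun u hu v hv =>
    congrArg Subtype.val (hX.1.is_comm.comm ⟨u, hu⟩ ⟨v, hv⟩)
  refine ⟨hfwd X, ?_⟩
  · intro hr
    obtain ⟨B', hB'c, hB'e, hB'card⟩ : ∃ B' : Subgroup ↥(Subgroup.centralizer (X : Set P)),
        IsMulCommutative B' ∧ (∀ x ∈ B', x ^ p = 1) ∧ p ^ 2 < Nat.card B' := by
      by_contra hno
      apply hr
      intro Y hYc hYe
      by_contra hlt
      exact hno ⟨Y, hYc, hYe, not_le.1 hlt⟩
    obtain ⟨B, hB⟩ : ∃ B : Subgroup P,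
        B = B'.map (Subgroup.centralizer (X : Set P)).subtype := ⟨_, rfl⟩
    have hBC : B ≤ Subgroup.centralizer (X : Set P) := by
      rw [hB]; rintro _ ⟨y, -, rfl⟩; exact y.2
    have hBab : ∀ u ∈ B, ∀ v ∈ B, u * v = v * u := by
      intro u hu v hv
      rw [hB] at hu hv
      obtain ⟨u', hu', rfl⟩ := hu
      obtain ⟨v', hv', rfl⟩ := hv
      have h := hB'c.is_comm.comm ⟨u', hu'⟩ ⟨v', hv'⟩
      have h2 : u' * v' = v' * u' := congrArg Subtype.val h
      exact congrArg Subtype.val h2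
    have hBe : ∀ b ∈ B, b ^ p = 1 := by
      intro b hb
      rw [hB] at hb
      obtain ⟨b', hb', rfl⟩ := hb
      have h := hB'e b' hb'
      have h2 := congrArg Subtype.val h
      simpa using h2
    have hBcard : p ^ 2 < Nat.card B := by
      rw [hB, Subgroup.card_map_of_injective (Subgroup.subtype_injective _)]
      exact hB'card
    have hBel : Cfsg.IsElementaryAbelian p B :=
      ⟨⟨⟨fun a b => Subtype.ext (hBab a.1 a.2 b.1 b.2)⟩⟩, hBe⟩
    have hD := hkey B hBcard
    have hDel : Cfsg.IsElementaryAbelian p (B ⊓ Subgroup.centralizer (U : Set P)) :=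
      ⟨⟨⟨fun a b => Subtype.ext (hBab a.1 a.2.1 b.1 b.2.1)⟩⟩, fun x hx => hBe x hx.1⟩
    refine Relation.ReflTransGen.head (b := B) ⟨hX, hXcard, hBel, hBcard.le, ?_⟩
      (Relation.ReflTransGen.head (b := B ⊓ Subgroup.centralizer (U : Set P))
        ⟨hBel, hBcard.le, hDel, hD, ?_⟩
        (Relation.ReflTransGen.single ⟨hDel, hD, hUe, le_of_eq hUcard.symm, ?_⟩))
    · intro a ha b hb
      exact Subgroup.mem_centralizer_iff.1 (hBC hb) a ha
    · intro a ha b hb
      exact hBab a ha b hb.1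
    · intro a ha b hb
      exact (Subgroup.mem_centralizer_iff.1 ha.2 b hb).symm

end Cfsg.Agent.S1337
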