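import Cfsg.Statements.S1339
import Mathlib
import Cfsg.Agent.Lib.Helper9.CharP

set_option autoImplicit false
open Cfsg
open scoped commutatorElement

namespace Cfsg.Agent.S1339

open Subgroup Cfsg.Agent.Lib.Helper9 Matrix

universe u

/-- If `X` has a normal `p`-subgroup containing its own centralizer, then `F*(X) = O_p(X)`. -/
theorem gfitting_eq_pCore_of_self_centralizing {X : Type u} [Group X] [Finite X] (p : ℕ)
    [Fact p.Prime] (Q : Subgroup X) (hQn : Q.Normal) (hQp : IsPGroup p Q)
    (hQc : centralizer (Q : Set X) ≤ Q) : generalizedFittingSubgroup X = pCore p X := by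
  rw [gfitting_eq_pCore_iff]
  constructor
  · rw [eq_bot_iff]
    apply sSup_le
    intro K hK
    exfalso
    have hc : ⁅K, Q⁆ = ⊥ :=
      component_commute_of_solvable hK hQn.isSubnormal (isSolvable_of_isPGroup hQp)
    rw [Subgroup.commutator_eq_bot_iff_le_centralizer] at hc
    exact component_not_isSolvable hK (isSolvable_of_isPGroup (hQp.to_le (hc.trans hQc)))
  · intro q hq hqp
    have : Fact q.Prime := ⟨hq⟩
    have hR : IsPGroup q (pCore q X) := pCore_isPGroup q X
    have hinf : pCore q X ⊓ Q = ⊥ :=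
      eq_bot_of_isPGroup_of_isPGroup hqp (hR.to_le inf_le_left) (hQp.to_le inf_le_right)
    have hc : ⁅pCore q X, Q⁆ = ⊥ := by
      rw [eq_bot_iff, ← hinf]; exact Subgroup.commutator_le_inf _ _
    rw [Subgroup.commutator_eq_bot_iff_le_centralizer] at hc
    rw [eq_bot_iff, ← hinf]
    exact le_inf le_rfl (hc.trans hQc)

section sl

variable {F : Type*} [Field F] {n : ℕ}

/-- The subgroup of `SL_n` of matrices whose rows other than row `i` are standard. -/
def Q1 (F : Type*) [Field F] (n : ℕ) (i : Fin n) : Subgroup (Matrix.SpecialLinearGroup (Fin n) F) where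
  carrier := {g | ∀ k l, k ≠ i → g.1 k l = (1 : Matrix (Fin n) (Fin n) F) k l}
  mul_mem' := by
    intro g h hg hh k l hk
    show (g.1 * h.1) k l = _
    rw [Matrix.mul_apply, Finset.sum_congr rfl (fun a _ => by rw [hg k a hk]), ← Matrix.mul_apply,
      Matrix.one_mul]
    exact hh k l hk
  one_mem' := fun _ _ _ => rfl
  inv_mem' := by
    intro g hg k l hk
    have h1 : (g.1 * (g⁻¹).1) k l = (1 : Matrix (Fin n) (Fin n) F) k l := by
      have : g * g⁻¹ = 1 := mul_inv_cancel g
      have h2 := congrArg (fun x : Matrix.SpecialLinearGroup (Fin n) F => x.1 k l) this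
      exact h2
    rw [Matrix.mul_apply, Finset.sum_congr rfl (fun a _ => by rw [hg k a hk]), ← Matrix.mul_apply,
      Matrix.one_mul] at h1
    exact h1

theorem mem_Q1 {i : Fin n} {g : Matrix.SpecialLinearGroup (Fin n) F} :
    g ∈ Q1 F n i ↔ ∀ k l, k ≠ i → g.1 k l = (1 : Matrix (Fin n) (Fin n) F) k l := Iff.rfl

theorem zero_or_one [Fintype F] (hF : Fintype.card F = 2) (x : F) : x = 0 ∨ x = 1 := by
  by_contra h
  push Not at h
  have h3 : 2 < Fintype.card F :=
    Fintype.two_lt_card_iff.mpr ⟨0, 1, x, zero_ne_one, Ne.symm h.1, Ne.symm h.2⟩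
  omega

theorem add_self [Fintype F] (hF : Fintype.card F = 2) (x : F) : x + x = 0 := by
  have h11 : (1 : F) + 1 = 0 := by
    rcases zero_or_one hF ((1 : F) + 1) with h | h
    · exact h
    · exfalso
      have : (1 : F) = 0 := by linear_combination h
      exact one_ne_zero this
  rcases zero_or_one hF x with h | h
  · rw [h, add_zero]
  · rw [h, h11]

/-- If column `i` vanishes off the diagonal then the diagonal entry is `1` (over `F_2`). -/
theorem diag_eq_one [Fintype F] (hF : Fintype.card F = 2) {i : Fin n}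
    (g : Matrix.SpecialLinearGroup (Fin n) F) (hg : ∀ k, k ≠ i → g.1 k i = 0) : g.1 i i = 1 := by
  rcases zero_or_one hF (g.1 i i) with h | h
  · exfalso
    have hcol : ∀ k, g.1 k i = 0 := by
      intro k
      by_cases hk : k = i
      · rw [hk]; exact h
      · exact hg k hk
    have hdet := Matrix.det_eq_zero_of_column_eq_zero i hcol
    rw [g.2] at hdet
    exact one_ne_zero hdet
  · exact h

theorem col_of_mem_centralizer {i j : Fin n} {t : Matrix.SpecialLinearGroup (Fin n) F}
    (ht : (t : Matrix (Fin n) (Fin n) F) = Matrix.transvection i j 1)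
    {c : Matrix.SpecialLinearGroup (Fin n) F}
    (hc : c ∈ centralizer ({t} : Set (Matrix.SpecialLinearGroup (Fin n) F))) :
    ∀ k, k ≠ i → c.1 k i = 0 := by
  intro k hk
  rw [Subgroup.mem_centralizer_singleton_iff] at hc
  have h1 : c.1 * t.1 = t.1 * c.1 := congrArg Subtype.val hc
  have ht' : t.1 = Matrix.transvection i j 1 := ht
  rw [ht', Matrix.transvection, mul_add, add_mul, mul_one, one_mul] at h1
  have h2 := add_left_cancel h1
  have h3 := congrFun (congrFun h2 k) j
  rw [Matrix.mul_single_apply_same, Matrix.single_mul_apply_of_ne _ _ _ _ _ hk, mul_one] at h3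
  exact h3

theorem Q1_le_centralizer [Fintype F] (hF : Fintype.card F = 2) {i j : Fin n} (hij : i ≠ j)
    {t : Matrix.SpecialLinearGroup (Fin n) F}
    (ht : (t : Matrix (Fin n) (Fin n) F) = Matrix.transvection i j 1) :
    Q1 F n i ≤ centralizer ({t} : Set (Matrix.SpecialLinearGroup (Fin n) F)) := by
  intro g hg
  rw [mem_Q1] at hg
  rw [Subgroup.mem_centralizer_singleton_iff]
  apply Subtype.ext
  show g.1 * t.1 = t.1 * g.1
  have ht' : t.1 = Matrix.transvection i j 1 := ht
  rw [ht', Matrix.transvection, mul_add, add_mul, mul_one, one_mul]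
  congr 1
  have hii : g.1 i i = 1 := diag_eq_one hF g (fun k hk => by
    rw [hg k i hk, Matrix.one_apply_ne hk])
  ext k l
  by_cases hl : l = j
  · subst hl
    by_cases hk : k = i
    · subst hk
      rw [Matrix.mul_single_apply_same, Matrix.single_mul_apply_same, hii, hg l l hij.symm,
        Matrix.one_apply_eq]
    · rw [Matrix.mul_single_apply_same, Matrix.single_mul_apply_of_ne _ _ _ _ _ hk, hg k i hk,
        Matrix.one_apply_ne hk, zero_mul]
  · by_cases hk : k = i
    · subst hk
      rw [Matrix.mul_single_apply_of_ne _ _ _ _ _ hl, Matrix.single_mul_apply_same,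
        hg j l hij.symm, Matrix.one_apply_ne (Ne.symm hl), mul_zero]
    · rw [Matrix.mul_single_apply_of_ne _ _ _ _ _ hl, Matrix.single_mul_apply_of_ne _ _ _ _ _ hk]

theorem Q1_conj_mem {i : Fin n} {c g : Matrix.SpecialLinearGroup (Fin n) F}
    (hc : ∀ k, k ≠ i → c.1 k i = 0) (hg : g ∈ Q1 F n i) : c * g * c⁻¹ ∈ Q1 F n i := by
  rw [mem_Q1] at hg ⊢
  intro k l hk
  have h1 : ∀ a, (c.1 * g.1) k a = c.1 k a := by
    intro a
    rw [Matrix.mul_apply]
    have h2 : ∀ b ∈ Finset.univ, c.1 k b * g.1 b a = c.1 k b * (1 : Matrix (Fin n) (Fin n) F) b a := by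
      intro b _
      by_cases hb : b = i
      · rw [hb, hc k hk, zero_mul, zero_mul]
      · rw [hg b a hb]
    rw [Finset.sum_congr rfl h2, ← Matrix.mul_apply, Matrix.mul_one]
  show (c.1 * g.1 * (c⁻¹).1) k l = _
  rw [Matrix.mul_apply, Finset.sum_congr rfl (fun a _ => by rw [h1 a]), ← Matrix.mul_apply]
  have h3 : c * c⁻¹ = 1 := mul_inv_cancel c
  exact congrArg (fun x : Matrix.SpecialLinearGroup (Fin n) F => x.1 k l) h3

theorem Q1_sq [Fintype F] (hF : Fintype.card F = 2) {i : Fin n}
    {g : Matrix.SpecialLinearGroup (Fin n) F} (hg : g ∈ Q1 F n i) : g * g = 1 := by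
  have hgg := (Q1 F n i).mul_mem hg hg
  rw [mem_Q1] at hg hgg
  have hii : g.1 i i = 1 := diag_eq_one hF g (fun k hk => by
    rw [hg k i hk, Matrix.one_apply_ne hk])
  apply Subtype.ext
  ext k l
  by_cases hk : k = i
  · subst hk
    show (g.1 * g.1) k l = (1 : Matrix (Fin n) (Fin n) F) k l
    rw [Matrix.mul_apply]
    have h2 : ∀ a ∈ Finset.univ, g.1 k a * g.1 a l =
        g.1 k a * (1 : Matrix (Fin n) (Fin n) F) a l +
          (if a = k then g.1 k l - (1 : Matrix (Fin n) (Fin n) F) k l else 0) := by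
      intro a _
      by_cases ha : a = k
      · subst ha
        rw [if_pos rfl, hii]; ring
      · rw [if_neg ha, hg a l ha, add_zero]
    rw [Finset.sum_congr rfl h2, Finset.sum_add_distrib, ← Matrix.mul_apply, Matrix.mul_one,
      Finset.sum_ite_eq' Finset.univ k, if_pos (Finset.mem_univ k)]
    have h3 := add_self hF (g.1 k l)
    have h4 := add_self hF ((1 : Matrix (Fin n) (Fin n) F) k l)
    linear_combination h3 - h4
  · exact hgg k l hk

theorem mem_Q1_of_commute [Fintype F] (hF : Fintype.card F = 2) {i : Fin n}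
    {g : Matrix.SpecialLinearGroup (Fin n) F} (hcol : ∀ k, k ≠ i → g.1 k i = 0)
    (hg : ∀ q ∈ Q1 F n i, q * g = g * q) : g ∈ Q1 F n i := by
  rw [mem_Q1]
  intro k l hk
  have hii : g.1 i i = 1 := diag_eq_one hF g hcol
  have hq : Matrix.SpecialLinearGroup.transvection (Ne.symm hk) (1 : F) ∈ Q1 F n i := by
    rw [mem_Q1]
    intro k' l' hk'
    show (Matrix.transvection i k (1 : F)) k' l' = _
    rw [Matrix.transvection, Matrix.add_apply, Matrix.single_apply_of_row_ne (Ne.symm hk'),
      add_zero]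
  have h1 := hg _ hq
  have h2 : (Matrix.transvection i k (1 : F)) * g.1 = g.1 * (Matrix.transvection i k (1 : F)) :=
    congrArg Subtype.val h1
  rw [Matrix.transvection, mul_add, add_mul, mul_one, one_mul] at h2
  have h3 := add_left_cancel h2
  have h4 := congrFun (congrFun h3 i) l
  rw [Matrix.single_mul_apply_same, one_mul] at h4
  by_cases hl : l = k
  · subst hl
    rw [Matrix.mul_single_apply_same, mul_one, hii] at h4
    rw [h4, Matrix.one_apply_eq]
  · rw [Matrix.mul_single_apply_of_ne _ _ _ _ _ hl] at h4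
    rw [h4, Matrix.one_apply_ne (Ne.symm hl)]

end sl

/-- Let F be a field with 2 elements, n ≥ 3, and t ∈ SL(n, F) a transvection (t = 1 + E_{ij}, i ≠ j). Then the generalized Fitting subgroup of C(t) is O_2(C(t)). -/
theorem result {F : Type*} [Field F] [Fintype F] [DecidableEq F] (hF : Fintype.card F = 2) (n : ℕ) (hn : 3 ≤ n) (i j : Fin n) (hij : i ≠ j) (t : Matrix.SpecialLinearGroup (Fin n) F) (ht : (t : Matrix (Fin n) (Fin n) F) = Matrix.transvection i j 1) : Cfsg.generalizedFittingSubgroup ↥(Subgroup.centralizer ({t} : Set (Matrix.SpecialLinearGroup (Fin n) F))) = Cfsg.pCore 2 ↥(Subgroup.centralizer ({t} : Set (Matrix.SpecialLinearGroup (Fin n) F))) := by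
  have hQC := Q1_le_centralizer hF hij ht
  apply gfitting_eq_pCore_of_self_centralizing 2
    ((Q1 F n i).subgroupOf (Subgroup.centralizer ({t} : Set (Matrix.SpecialLinearGroup (Fin n) F))))
  · refine ⟨fun x hx c => ?_⟩
    rw [Subgroup.mem_subgroupOf] at hx ⊢
    exact Q1_conj_mem (col_of_mem_centralizer ht c.2) hx
  · intro x
    refine ⟨1, ?_⟩
    have h1 := Q1_sq hF (Subgroup.mem_subgroupOf.mp x.2)
    apply Subtype.ext
    apply Subtype.ext
    rw [pow_one, pow_two]
    exact h1
  · intro x hx
    rw [Subgroup.mem_subgroupOf]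
    apply mem_Q1_of_commute hF (col_of_mem_centralizer ht x.2)
    intro q hq
    have h1 := Subgroup.mem_centralizer_iff.mp hx ⟨q, hQC hq⟩ (Subgroup.mem_subgroupOf.mpr hq)
    exact congrArg Subtype.val h1

end Cfsg.Agent.S1339
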