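import Cfsg.Statements.S1340
import Mathlib
import Cfsg.Agent.Lib.Helper9.BlockLast
import Cfsg.Agent.Lib.Helper9.PComp

set_option autoImplicit false
open Cfsg

namespace Cfsg.Agent.S1340

open Cfsg.Agent.Lib.Helper9 Cfsg.Agent.Lib.Helper9.BlockLast Matrix

section gl

variable {F : Type*} [Field F]

/-- The block embedding as a monoid homomorphism. -/
def embHom (F : Type*) [Field F] (m : ℕ) :
    Matrix (Fin m) (Fin m) F →* Matrix (Fin (m + 1)) (Fin (m + 1)) F where
  toFun := emb
  map_one' := emb_one
  map_mul' := emb_mul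

/-- The block embedding `SL_m → GL_{m+1}`. -/
def psi (F : Type*) [Field F] (m : ℕ) :
    Matrix.SpecialLinearGroup (Fin m) F →* Matrix.GeneralLinearGroup (Fin (m + 1)) F :=
  (Units.map (embHom F m)).comp Matrix.SpecialLinearGroup.toGL

/-- The underlying matrix of an element of `GL`. -/
def rho (F : Type*) [Field F] (m : ℕ) :
    Matrix.GeneralLinearGroup (Fin (m + 1)) F →* Matrix (Fin (m + 1)) (Fin (m + 1)) F :=
  Units.coeHom _

theorem rho_injective (m : ℕ) : Function.Injective (rho F m) := fun _ _ h => Units.ext h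

theorem rho_psi (m : ℕ) (g : Matrix.SpecialLinearGroup (Fin m) F) :
    rho F m (psi F m g) = emb (g : Matrix (Fin m) (Fin m) F) := rfl

/-- The involution `diag(-1, …, -1, 1)` in `GL`. -/
def tGL (F : Type*) [Field F] (m : ℕ) : Matrix.GeneralLinearGroup (Fin (m + 1)) F :=
  ⟨D F m, D F m, D_mul_D, D_mul_D⟩

theorem rho_tGL (m : ℕ) : rho F m (tGL F m) = D F m := rfl

theorem main [Finite F] (h2 : (2 : F) ≠ 0) (m : ℕ) (hm : 2 ≤ m)
    (hq : IsQuasisimple (Matrix.SpecialLinearGroup (Fin m) F)) :
    ∃ t : Matrix.GeneralLinearGroup (Fin (m + 1)) F, orderOf t = 2 ∧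
      t ∉ Subgroup.center (Matrix.GeneralLinearGroup (Fin (m + 1)) F) ∧
      Cfsg.HasComponent (↥(Subgroup.centralizer ({t} : Set (Matrix.GeneralLinearGroup (Fin (m + 1)) F))) ⧸
        Cfsg.oddCore ↥(Subgroup.centralizer ({t} : Set (Matrix.GeneralLinearGroup (Fin (m + 1)) F)))) := by
  have hblock := fun {c : Matrix.GeneralLinearGroup (Fin (m + 1)) F}
      (hc : c ∈ Subgroup.centralizer ({tGL F m} : Set (Matrix.GeneralLinearGroup (Fin (m + 1)) F))) =>
    isBlock_of_mem_centralizer (rho F m) h2 (tGL F m) (rho_tGL m) hc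
  refine ⟨tGL F m, ?_, ?_, ?_⟩
  · apply orderOf_eq_prime
    · apply Units.ext
      rw [pow_two]
      exact D_mul_D
    · intro h
      have h1 := congrArg (rho F m) h
      rw [rho_tGL, map_one] at h1
      exact D_ne_one h2 (by omega) h1
  · intro hcen
    rw [Subgroup.mem_center_iff] at hcen
    have hij : Fin.last m ≠ Fin.castSucc (⟨0, by omega⟩ : Fin m) := by
      intro h
      have := congrArg Fin.val h
      simp at this
      omega
    have hg := hblock (c := Matrix.SpecialLinearGroup.toGL
      (Matrix.SpecialLinearGroup.transvection hij (1 : F)))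
      (Subgroup.mem_centralizer_singleton_iff.mpr (hcen _))
    have h1 := hg.1 ⟨0, by omega⟩
    have h3 : rho F m (Matrix.SpecialLinearGroup.toGL
        (Matrix.SpecialLinearGroup.transvection hij (1 : F))) =
        Matrix.transvection (Fin.last m) (Fin.castSucc (⟨0, by omega⟩ : Fin m)) 1 := rfl
    rw [h3, Matrix.transvection, Matrix.add_apply, Matrix.one_apply_ne hij,
      Matrix.single_apply_same, zero_add] at h1
    exact one_ne_zero h1
  · have hLC : (psi F m).range ≤
        Subgroup.centralizer ({tGL F m} : Set (Matrix.GeneralLinearGroup (Fin (m + 1)) F)) :=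
      range_le_centralizer (rho F m) (rho_injective m) (psi F m) (rho_psi m) (tGL F m) (rho_tGL m)
    have hinj : Function.Injective (psi F m) := psi_injective (rho F m) (psi F m) (rho_psi m)
    have hLq : IsQuasisimple ↥((psi F m).range.subgroupOf
        (Subgroup.centralizer ({tGL F m} : Set (Matrix.GeneralLinearGroup (Fin (m + 1)) F)))) :=
      qs_of_equiv (qs_of_equiv hq (MonoidHom.ofInjective hinj))
        (Subgroup.subgroupOfEquivOfLe hLC).symm
    have hLn : ((psi F m).range.subgroupOf
        (Subgroup.centralizer ({tGL F m} : Set (Matrix.GeneralLinearGroup (Fin (m + 1)) F)))).Normal := by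
      refine ⟨fun x hx c => ?_⟩
      rw [Subgroup.mem_subgroupOf] at hx ⊢
      exact conj_mem_range (rho F m) (rho_injective m) (psi F m) (rho_psi m) h2 (tGL F m)
        (rho_tGL m) c.2 hx
    have hcomp : IsComponent ((psi F m).range.subgroupOf
        (Subgroup.centralizer ({tGL F m} : Set (Matrix.GeneralLinearGroup (Fin (m + 1)) F)))) :=
      ⟨hLn.isSubnormal, hLq⟩
    rcases component_map (QuotientGroup.mk' (oddCore ↥(Subgroup.centralizer
      ({tGL F m} : Set (Matrix.GeneralLinearGroup (Fin (m + 1)) F)))))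
      (QuotientGroup.mk'_surjective _) hcomp with h | h
    · exfalso
      have hle : (psi F m).range.subgroupOf
          (Subgroup.centralizer ({tGL F m} : Set (Matrix.GeneralLinearGroup (Fin (m + 1)) F))) ≤
          oddCore ↥(Subgroup.centralizer
            ({tGL F m} : Set (Matrix.GeneralLinearGroup (Fin (m + 1)) F))) := by
        intro x hx
        have h1 : (QuotientGroup.mk' (oddCore ↥(Subgroup.centralizer
            ({tGL F m} : Set (Matrix.GeneralLinearGroup (Fin (m + 1)) F))))) x ∈
            ((psi F m).range.subgroupOf (Subgroup.centralizer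
              ({tGL F m} : Set (Matrix.GeneralLinearGroup (Fin (m + 1)) F)))).map
              (QuotientGroup.mk' (oddCore ↥(Subgroup.centralizer
                ({tGL F m} : Set (Matrix.GeneralLinearGroup (Fin (m + 1)) F))))) :=
          Subgroup.mem_map_of_mem _ hx
        rw [h, Subgroup.mem_bot] at h1
        exact (QuotientGroup.eq_one_iff x).mp h1
      have hcop := pPrimeCore_coprime 2 ↥(Subgroup.centralizer
        ({tGL F m} : Set (Matrix.GeneralLinearGroup (Fin (m + 1)) F)))
      have hdvd := Subgroup.card_dvd_of_le hle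
      have hcard : Nat.card ↥((psi F m).range.subgroupOf (Subgroup.centralizer
          ({tGL F m} : Set (Matrix.GeneralLinearGroup (Fin (m + 1)) F)))) =
          Nat.card (Matrix.SpecialLinearGroup (Fin m) F) :=
        (Nat.card_congr ((MonoidHom.ofInjective hinj).trans
          (Subgroup.subgroupOfEquivOfLe hLC).symm).toEquiv).symm
      have heven := even_card_SL (F := F) h2 hm
      rw [← hcard] at heven
      have h2dvd : 2 ∣ Nat.card ↥(oddCore ↥(Subgroup.centralizer
          ({tGL F m} : Set (Matrix.GeneralLinearGroup (Fin (m + 1)) F)))) :=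
        (even_iff_two_dvd.mp heven).trans hdvd
      have := Nat.Coprime.eq_one_of_dvd hcop.symm h2dvd
      omega
    · exact ⟨_, h.1, h.2⟩

end gl

/-- Let F be a finite field of odd order and n ≥ 3 with (n, |F|) ≠ (3, 3). Then GL(n, F) has a non-central involution t such that C(t) / O(C(t)) has a component. -/
theorem result {F : Type*} [Field F] [Fintype F] [DecidableEq F] (hF : Odd (Fintype.card F)) (n : ℕ) (hn : 3 ≤ n) (h33 : ¬ (n = 3 ∧ Fintype.card F = 3)) : ∃ t : Matrix.GeneralLinearGroup (Fin n) F, orderOf t = 2 ∧ t ∉ Subgroup.center (Matrix.GeneralLinearGroup (Fin n) F) ∧ Cfsg.HasComponent (↥(Subgroup.centralizer ({t} : Set (Matrix.GeneralLinearGroup (Fin n) F))) ⧸ Cfsg.oddCore ↥(Subgroup.centralizer ({t} : Set (Matrix.GeneralLinearGroup (Fin n) F)))) := by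
  obtain ⟨m, rfl⟩ : ∃ m, n = m + 1 := ⟨n - 1, by omega⟩
  have hm : 2 ≤ m := by omega
  have h2 : (2 : F) ≠ 0 := two_ne_zero_of_odd_card hF
  have hq : IsQuasisimple (Matrix.SpecialLinearGroup (Fin m) F) := by
    by_cases hm2 : m = 2
    · subst hm2
      have hcard : 4 ≤ Nat.card F := by
        rw [Nat.card_eq_fintype_card]
        have h1 : 1 < Fintype.card F := Fintype.one_lt_card
        have h3 : Fintype.card F ≠ 3 := fun h => h33 ⟨rfl, h⟩
        rw [Nat.odd_iff] at hF
        omega
      obtain ⟨a, ha, hasq⟩ := exists_sq_ne_one hcard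
      exact qs_SL_two ha hasq
    · exact qs_SL_of_three_le (by omega)
  exact main h2 m hm hq

end Cfsg.Agent.S1340
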