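import Cfsg.Statements.S1348
import Mathlib
import Cfsg.Agent.Lib.Helper9.BlockLast
import Cfsg.Agent.Lib.Helper9.PComp
import Cfsg.Agent.S1323

set_option autoImplicit false
open Cfsg
open scoped commutatorElement

namespace Cfsg.Agent.S1348

open Subgroup Cfsg.Agent.Lib.Helper9 Cfsg.Agent.Lib.Helper9.BlockLast Matrix

universe u

section generic

/-- Identification of the layer of `C` with a quasisimple normal subgroup with abelian quotient. -/
theorem layer_eq {G : Type u} [Group G] (C L : Subgroup G) (hLC : L ≤ C)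
    (hn : ∀ c ∈ C, ∀ x ∈ L, c * x * c⁻¹ ∈ L) (hq : IsQuasisimple L)
    (hcomm : ∀ a ∈ C, ∀ b ∈ C, ⁅a, b⁆ ∈ L) : (layer ↥C).map C.subtype = L := by
  have hLn : (L.subgroupOf C).Normal := by
    refine ⟨fun x hx c => ?_⟩
    rw [Subgroup.mem_subgroupOf] at hx ⊢
    exact hn c c.2 x hx
  have hLq : IsQuasisimple ↥(L.subgroupOf C) :=
    qs_of_equiv hq (Subgroup.subgroupOfEquivOfLe hLC).symm
  have h1 : L.subgroupOf C ≤ layer ↥C := component_le_layer ⟨hLn.isSubnormal, hLq⟩
  have h2 : layer ↥C ≤ L.subgroupOf C := by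
    rw [← layer_perfect ↥C, Subgroup.commutator_le]
    intro a _ b _
    rw [Subgroup.mem_subgroupOf]
    exact hcomm a a.2 b b.2
  rw [le_antisymm h2 h1, Subgroup.subgroupOf_map_subtype, inf_eq_left.mpr hLC]

/-- A criterion for a subgroup of an involution centralizer to be standard. -/
theorem standard_of {G : Type*} [Group G] [Finite G] (t : G) (ht2 : orderOf t = 2)
    (L : Subgroup G) (hq : IsQuasisimple L) (hLt : L ≤ centralizer ({t} : Set G))
    (hCN : ∀ c ∈ centralizer ({t} : Set G), ∀ x ∈ L, c * x * c⁻¹ ∈ L)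
    (hU : ∀ x ∈ centralizer (L : Set G), orderOf x = 2 → x = t)
    (hA : ∀ x ∈ centralizer (L : Set G), ∀ y ∈ centralizer (L : Set G), x * y = y * x) :
    IsStandardSubgroup L := by
  have htK : t ∈ centralizer (L : Set G) := by
    rw [Subgroup.mem_centralizer_iff]
    intro l hl
    exact Subgroup.mem_centralizer_singleton_iff.mp (hLt hl)
  have hN1 : centralizer ({t} : Set G) ≤ normalizer (L : Set G) := by
    intro c hc
    rw [Subgroup.mem_normalizer_iff]
    intro h
    constructor
    · intro hh; exact hCN c hc h hh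
    · intro hh
      have h1 := hCN c⁻¹ (inv_mem hc) _ hh
      have e : c⁻¹ * (c * h * c⁻¹) * c⁻¹⁻¹ = h := by group
      rw [e] at h1
      exact h1
  have hN2 : normalizer (L : Set G) ≤ normalizer (centralizer (L : Set G) : Set G) :=
    Cfsg.Agent.S1323.normalizer_le_normalizer_centralizer L
  have hconj_eq : ∀ g : G, g * t * g⁻¹ ∈ centralizer (L : Set G) → g ∈ centralizer ({t} : Set G) := by
    intro g hg
    have h1 := hU _ hg (by rw [orderOf_conj_eq]; exact ht2)
    rw [Subgroup.mem_centralizer_singleton_iff]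
    calc g * t = g * t * g⁻¹ * g := by group
      _ = t * g := by rw [h1]
  have hN3 : normalizer (centralizer (L : Set G) : Set G) ≤ centralizer ({t} : Set G) := by
    intro g hg
    rw [Subgroup.mem_normalizer_iff] at hg
    exact hconj_eq g ((hg t).mp htK)
  refine ⟨hq, ⟨?_, ?_⟩, ?_, le_antisymm hN2 (hN3.trans hN1)⟩
  · have hord : orderOf (⟨t, htK⟩ : ↥(centralizer (L : Set G))) = 2 := by
      rw [← Subgroup.orderOf_coe]; exact ht2
    rw [even_iff_two_dvd, ← hord]
    exact orderOf_dvd_natCard _
  · intro g hg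
    by_contra hodd
    have heven : 2 ∣ Nat.card ↥(centralizer (L : Set G) ⊓
        (centralizer (L : Set G)).map (MulAut.conj g).toMonoidHom) := by
      rcases Nat.even_or_odd (Nat.card ↥(centralizer (L : Set G) ⊓
        (centralizer (L : Set G)).map (MulAut.conj g).toMonoidHom)) with h | h
      · exact even_iff_two_dvd.mp h
      · exact absurd h hodd
    obtain ⟨x, hx⟩ := exists_prime_orderOf_dvd_card' 2 heven
    have hx' : orderOf (x : G) = 2 := by rw [Subgroup.orderOf_coe]; exact hx
    obtain ⟨hx1, hx2⟩ := Subgroup.mem_inf.mp x.2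
    have hxt : (x : G) = t := hU _ hx1 hx'
    obtain ⟨y, hy, hyx⟩ := Subgroup.mem_map.mp hx2
    have hyx' : g * y * g⁻¹ = (x : G) := hyx
    have hy2 : orderOf y = 2 := by
      rw [← orderOf_conj_eq g y, hyx']; exact hx'
    have hyt : y = t := hU y hy hy2
    apply hg
    apply hN2
    apply hN1
    apply hconj_eq
    rw [← hyt, hyx', hxt, ← hyt]
    exact hy
  · intro g hne hbot
    have hab : ∀ a b : ↥L, a * b = b * a := by
      intro a b
      have ha : g * (a : G) * g⁻¹ ∈ centralizer (L : Set G) := by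
        rw [Subgroup.mem_centralizer_iff]
        intro l hl
        exact commute_of_commutator_eq_bot hbot hl (Subgroup.mem_map.mpr ⟨a, a.2, rfl⟩)
      have hb : g * (b : G) * g⁻¹ ∈ centralizer (L : Set G) := by
        rw [Subgroup.mem_centralizer_iff]
        intro l hl
        exact commute_of_commutator_eq_bot hbot hl (Subgroup.mem_map.mpr ⟨b, b.2, rfl⟩)
      have h1 := hA _ ha _ hb
      apply Subtype.ext
      have h2 : g * ((a : G) * (b : G)) * g⁻¹ = g * ((b : G) * (a : G)) * g⁻¹ := by
        calc g * ((a : G) * (b : G)) * g⁻¹ = (g * (a : G) * g⁻¹) * (g * (b : G) * g⁻¹) := by group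
          _ = (g * (b : G) * g⁻¹) * (g * (a : G) * g⁻¹) := h1
          _ = g * ((b : G) * (a : G)) * g⁻¹ := by group
      exact mul_left_cancel (mul_right_cancel h2)
    exact qs_not_isSolvable hq (Group.isSolvable_of_comm hab)

end generic

section sl

variable {F : Type*} [Field F]

/-- The underlying matrix, as a monoid homomorphism. -/
def rho (F : Type*) [Field F] (m : ℕ) :
    Matrix.SpecialLinearGroup (Fin (m + 1)) F →* Matrix (Fin (m + 1)) (Fin (m + 1)) F where
  toFun g := (g : Matrix (Fin (m + 1)) (Fin (m + 1)) F)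
  map_one' := rfl
  map_mul' _ _ := rfl

/-- The block embedding `SL_m → SL_{m+1}`. -/
def psi (F : Type*) [Field F] (m : ℕ) :
    Matrix.SpecialLinearGroup (Fin m) F →* Matrix.SpecialLinearGroup (Fin (m + 1)) F where
  toFun g := ⟨emb (g : Matrix (Fin m) (Fin m) F), by rw [det_emb]; exact g.2⟩
  map_one' := Subtype.ext emb_one
  map_mul' g h := Subtype.ext (emb_mul _ _)

theorem rho_injective (m : ℕ) : Function.Injective (rho F m) := fun _ _ h => Subtype.ext h

theorem rho_psi (m : ℕ) (g : Matrix.SpecialLinearGroup (Fin m) F) :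
    rho F m (psi F m g) = emb (g : Matrix (Fin m) (Fin m) F) := rfl

theorem eq_diagonal {m : ℕ} {X : Matrix (Fin (m + 1)) (Fin (m + 1)) F}
    (hX : ∀ k l, k ≠ l → X k l = 0) : X = Matrix.diagonal (fun i => X i i) := by
  ext k l
  by_cases h : k = l
  · rw [h, Matrix.diagonal_apply_eq]
  · rw [Matrix.diagonal_apply_ne _ h, hX k l h]

theorem main (h2 : (2 : F) ≠ 0) (m : ℕ) (hm : 3 ≤ m) (hev : Even m) [Finite F]
    (t : Matrix.SpecialLinearGroup (Fin (m + 1)) F) (ht : rho F m t = D F m) :
    (layer ↥(centralizer ({t} : Set (Matrix.SpecialLinearGroup (Fin (m + 1)) F)))).map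
        (centralizer ({t} : Set (Matrix.SpecialLinearGroup (Fin (m + 1)) F))).subtype =
      (psi F m).range ∧ IsStandardSubgroup (psi F m).range := by
  have hinj : Function.Injective (psi F m) := psi_injective (rho F m) (psi F m) (rho_psi m)
  have hq : IsQuasisimple ↥(psi F m).range :=
    qs_of_equiv (qs_SL_of_three_le hm) (MonoidHom.ofInjective hinj)
  have hLC := range_le_centralizer (rho F m) (rho_injective m) (psi F m) (rho_psi m) t ht
  have hn : ∀ c ∈ centralizer ({t} : Set (Matrix.SpecialLinearGroup (Fin (m + 1)) F)),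
      ∀ x ∈ (psi F m).range, c * x * c⁻¹ ∈ (psi F m).range := fun c hc x hx =>
    conj_mem_range (rho F m) (rho_injective m) (psi F m) (rho_psi m) h2 t ht hc hx
  have hcomm : ∀ a ∈ centralizer ({t} : Set (Matrix.SpecialLinearGroup (Fin (m + 1)) F)),
      ∀ b ∈ centralizer ({t} : Set (Matrix.SpecialLinearGroup (Fin (m + 1)) F)),
      ⁅a, b⁆ ∈ (psi F m).range := fun a ha b hb =>
    commutator_mem_range (rho F m) (rho_injective m) (psi F m) (rho_psi m) h2 t ht ha hb
  have ht2 : orderOf t = 2 := by
    apply orderOf_eq_prime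
    · apply rho_injective m
      rw [pow_two, map_mul, ht, map_one]
      exact D_mul_D
    · intro h
      have h1 := congrArg (rho F m) h
      rw [ht, map_one] at h1
      exact D_ne_one h2 (by omega) h1
  have hdiag := fun {x : Matrix.SpecialLinearGroup (Fin (m + 1)) F}
      (hx : x ∈ centralizer ((psi F m).range : Set (Matrix.SpecialLinearGroup (Fin (m + 1)) F))) =>
    diag_of_mem_centralizer_range (rho F m) (psi F m) (rho_psi m) (by omega : 2 ≤ m) hx
  refine ⟨layer_eq _ _ hLC hn hq hcomm, standard_of t ht2 _ hq hLC hn ?_ ?_⟩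
  · intro x hx hx2
    obtain ⟨hoff, hconst⟩ := hdiag hx
    have hXd := eq_diagonal hoff
    have hsq : rho F m x * rho F m x = 1 := by
      rw [← map_mul, ← pow_two, ← hx2, pow_orderOf_eq_one, map_one]
    have hd : ∀ i, rho F m x i i * rho F m x i i = 1 := by
      intro i
      have h1 := congrFun (congrFun hsq i) i
      rw [hXd, Matrix.diagonal_mul_diagonal, Matrix.diagonal_apply_eq, Matrix.one_apply_eq] at h1
      exact h1
    have hdet : (rho F m x).det = 1 := x.2
    rw [hXd, Matrix.det_diagonal, Fin.prod_univ_castSucc] at hdet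
    have hc0 : ∀ i : Fin m, rho F m x i.castSucc i.castSucc =
        rho F m x (Fin.castSucc ⟨0, by omega⟩) (Fin.castSucc ⟨0, by omega⟩) :=
      fun i => hconst i _
    rw [Finset.prod_congr rfl (fun i _ => hc0 i), Finset.prod_const, Finset.card_univ,
      Fintype.card_fin] at hdet
    obtain ⟨r, hr⟩ := hev
    have hpow' : ∀ lam : F, lam * lam = 1 → lam ^ m = 1 := by
      intro lam hl
      rw [hr, ← two_mul, pow_mul, pow_two, hl, one_pow]
    rw [hpow' _ (hd _), one_mul] at hdet
    have hlam : rho F m x (Fin.castSucc ⟨0, by omega⟩) (Fin.castSucc ⟨0, by omega⟩) = -1 := by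
      rcases mul_self_eq_one_iff.mp (hd (Fin.castSucc ⟨0, by omega⟩)) with h | h
      · exfalso
        have hx1 : x = 1 := by
          apply rho_injective m
          rw [map_one, hXd, ← Matrix.diagonal_one]
          congr 1
          funext i
          refine Fin.lastCases ?_ (fun i' => ?_) i
          · exact hdet
          · rw [hc0 i', h]
        rw [hx1, orderOf_one] at hx2
        omega
      · exact h
    apply rho_injective m
    rw [ht, hXd]
    unfold D
    congr 1
    funext i
    refine Fin.lastCases ?_ (fun i' => ?_) i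
    · rw [dvec_last]; exact hdet
    · rw [dvec_castSucc, hc0 i', hlam]
  · intro x hx y hy
    obtain ⟨hoffx, -⟩ := hdiag hx
    obtain ⟨hoffy, -⟩ := hdiag hy
    apply rho_injective m
    rw [map_mul, map_mul, eq_diagonal hoffx, eq_diagonal hoffy, Matrix.diagonal_mul_diagonal,
      Matrix.diagonal_mul_diagonal]
    congr 1
    funext i
    exact mul_comm _ _

end sl

/-- Let F be a finite field of odd order, n ≥ 7 odd, and t ∈ SL(n, F) the diagonal matrix with entries −1, …, −1, 1. Then E(C(t)) is a standard subgroup of SL(n, F). -/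
theorem result {F : Type*} [Field F] [Fintype F] [DecidableEq F] (hF : Odd (Fintype.card F)) (n : ℕ) (hn : 7 ≤ n) (hodd : Odd n) (t : Matrix.SpecialLinearGroup (Fin n) F) (ht : (t : Matrix (Fin n) (Fin n) F) = Matrix.diagonal (fun i : Fin n => if (i : ℕ) + 1 = n then (1 : F) else -1)) : Cfsg.IsStandardSubgroup ((Cfsg.layer ↥(Subgroup.centralizer ({t} : Set (Matrix.SpecialLinearGroup (Fin n) F)))).map (Subgroup.centralizer ({t} : Set (Matrix.SpecialLinearGroup (Fin n) F))).subtype) := by
  obtain ⟨m, rfl⟩ : ∃ m, n = m + 1 := ⟨n - 1, by omega⟩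
  have hm : 3 ≤ m := by omega
  have hev : Even m := by
    rcases Nat.even_or_odd m with h | h
    · exact h
    · exfalso
      have := Nat.odd_iff.mp hodd
      have := Nat.odd_iff.mp h
      omega
  have h2 : (2 : F) ≠ 0 := two_ne_zero_of_odd_card hF
  obtain ⟨h1, h3⟩ := main h2 m hm hev t ht
  rw [h1]
  exact h3

end Cfsg.Agent.S1348
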