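import Cfsg.Statements.S1349
import Cfsg.Agent.Lib.Helper9.KBalance
import Cfsg.Agent.S0022
import Cfsg.Agent.S0027
import Cfsg.Agent.S0028
import Cfsg.Agent.Lib.Helper18.DihedralEquiv

set_option autoImplicit false
open Cfsg

namespace Cfsg.Agent.S1349

open Subgroup Cfsg.Agent.Lib.Helper9

universe u

section basic

variable {G : Type u} [Group G]

theorem mem_of_sq_mem_of_odd {H : Subgroup G} {c : G} (hodd : Odd (orderOf c))
    (h : c ^ 2 ∈ H) : c ∈ H := by
  obtain ⟨m, hm⟩ := hodd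
  have h1 : c = (c ^ 2) ^ (m + 1) := by
    rw [← pow_mul]
    have : 2 * (m + 1) = orderOf c + 1 := by omega
    rw [this, pow_succ, pow_orderOf_eq_one, one_mul]
  rw [h1]
  exact H.pow_mem h _

theorem mem_zpowers_of_sq_eq_one {b g : G} (hb : b ^ 2 = 1) (hg : g ∈ zpowers b) :
    g = 1 ∨ g = b := by
  obtain ⟨k, rfl⟩ := hg
  have h2 : b ^ (2 : ℤ) = 1 := by
    have : b ^ (2 : ℤ) = b ^ (2 : ℕ) := by norm_cast
    rw [this, hb]
  have hk : b ^ k = b ^ (k % 2) := by
    conv_lhs => rw [← Int.emod_add_mul_ediv k 2]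
    rw [zpow_add, zpow_mul, h2, one_zpow, mul_one]
  rcases Int.emod_two_eq_zero_or_one k with h | h
  · left; show b ^ k = 1; rw [hk, h, zpow_zero]
  · right; show b ^ k = b; rw [hk, h, zpow_one]

theorem mem_normalizer_commutator {H K : Subgroup G} {g : G}
    (hH : g ∈ normalizer (H : Set G)) (hK : g ∈ normalizer (K : Set G)) :
    g ∈ normalizer ((⁅H, K⁆ : Subgroup G) : Set G) := by
  rw [Subgroup.mem_normalizer_iff_map_conj_eq] at hH hK ⊢
  rw [Subgroup.map_commutator, hH, hK]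

theorem mem_normalizer_zpowers_of_commute {a b : G} (hab : a * b = b * a) :
    a ∈ normalizer ((zpowers b : Subgroup G) : Set G) := by
  rw [Subgroup.mem_normalizer_iff_map_conj_eq, MonoidHom.map_zpowers]
  have : (MulAut.conj a).toMonoidHom b = b := by
    show a * b * a⁻¹ = b
    rw [hab, mul_inv_cancel_right]
  exact congrArg zpowers this

theorem card_zpowers_coprime_of_sq [Finite G] {c : G} (hc : c ^ 2 = 1) {n : ℕ} (hn : Odd n) :
    (Nat.card (zpowers c)).Coprime n := by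
  rw [Nat.card_zpowers]
  exact Nat.Coprime.coprime_dvd_left (orderOf_dvd_of_pow_eq_one hc)
    (Nat.coprime_two_left.mpr hn)

end basic


section fourgroup

variable {G : Type u} [Group G] [Finite G]

/-- Four-group lemma: if `a`, `b` are commuting involutions acting on the solvable group `Y` of odd
order, and `b` centralizes `C_Y(a)` and `C_Y(ab)`, then `b` centralizes `Y`. -/
theorem four_group_centralizes (Y : Subgroup G) (hYs : Group.IsSolvable ↥Y) (hYodd : Odd (Nat.card ↥Y))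
    (a b : G) (ha : a ^ 2 = 1) (hb : b ^ 2 = 1) (hab : a * b = b * a)
    (haY : a ∈ normalizer (Y : Set G)) (hbY : b ∈ normalizer (Y : Set G))
    (h1 : Y ⊓ centralizer ({a} : Set G) ≤ centralizer ({b} : Set G))
    (h2 : Y ⊓ centralizer ({a * b} : Set G) ≤ centralizer ({b} : Set G)) :
    Y ≤ centralizer ({b} : Set G) := by
  obtain ⟨W, hW⟩ : ∃ W : Subgroup G, W = ⁅Y, zpowers b⁆ := ⟨_, rfl⟩
  have hbn : zpowers b ≤ normalizer (Y : Set G) := (Subgroup.zpowers_le).mpr hbY
  have hWY : W ≤ Y := by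
    rw [hW]; exact Cfsg.Agent.Lib.Helper10.Coprime.commutator_le_of_le_normalizer Y (zpowers b) hbn
  have hWW : ⁅W, zpowers b⁆ = W := by
    rw [hW]
    exact Cfsg.Agent.S0027.result (zpowers b) Y hbn (card_zpowers_coprime_of_sq hb hYodd)
      (Or.inl inferInstance)
  have hWodd : Odd (Nat.card ↥W) := by
    have := Subgroup.card_dvd_of_le hWY
    exact Odd.of_dvd_nat hYodd this
  have hbW : b ∈ normalizer (W : Set G) := by
    rw [hW]
    exact mem_normalizer_commutator hbY (Subgroup.le_normalizer (Subgroup.mem_zpowers b))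
  have haW : a ∈ normalizer (W : Set G) := by
    rw [hW]
    exact mem_normalizer_commutator haY (mem_normalizer_zpowers_of_commute hab)
  obtain ⟨D, hD⟩ : ∃ D : Subgroup G, D = ⁅W, W⁆ := ⟨_, rfl⟩
  have hDW : D ≤ W := by
    rw [hD]
    exact Cfsg.Agent.Lib.Helper10.Coprime.commutator_le_of_le_normalizer W W Subgroup.le_normalizer
  have hWD : W ≤ normalizer (D : Set G) := by
    rw [hD]; exact Cfsg.Agent.Lib.Helper10.Coprime.le_normalizer_commutator_left W W
  have haD : a ∈ normalizer (D : Set G) := by rw [hD]; exact mem_normalizer_commutator haW haW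
  have hbD : b ∈ normalizer (D : Set G) := by rw [hD]; exact mem_normalizer_commutator hbW hbW
  have hconjD : ∀ w ∈ W, ∀ d ∈ D, w * d * w⁻¹ ∈ D := fun w hw d hd =>
    (Subgroup.mem_normalizer_iff.mp (hWD hw) d).mp hd
  have hcomm : ∀ u ∈ W, ∀ v ∈ W, u * v * u⁻¹ * v⁻¹ ∈ D := by
    intro u hu v hv
    rw [hD, ← commutatorElement_def]
    exact Subgroup.commutator_mem_commutator hu hv
  have hbconj : ∀ w ∈ W, b * w * b⁻¹ ∈ W := fun w hw =>
    (Subgroup.mem_normalizer_iff.mp hbW w).mp hw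
  have haconj : ∀ w ∈ W, a * w * a⁻¹ ∈ W := fun w hw =>
    (Subgroup.mem_normalizer_iff.mp haW w).mp hw
  have hbb : b * b = 1 := by rw [← sq]; exact hb
  have haa : a * a = 1 := by rw [← sq]; exact ha
  have hbinv : b⁻¹ = b := inv_eq_of_mul_eq_one_left hbb
  have hainv : a⁻¹ = a := inv_eq_of_mul_eq_one_left haa
  -- (1) b inverts W modulo D
  have hΦ : ∀ w ∈ W, b * w * b⁻¹ * w ∈ D := by
    intro w hw
    have key : ∀ x, x ∈ ⁅W, zpowers b⁆ → x ∈ W ∧ b * x * b⁻¹ * x ∈ D := by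
      intro x hx
      rw [Subgroup.commutator_def] at hx
      induction hx using Subgroup.closure_induction with
      | mem x hx =>
        obtain ⟨g₁, hg₁, g₂, hg₂, rfl⟩ := hx
        refine ⟨?_, ?_⟩
        · rw [← hWW]; exact Subgroup.commutator_mem_commutator hg₁ hg₂
        · rcases mem_zpowers_of_sq_eq_one hb hg₂ with h | h
          · rw [h, commutatorElement_one_right]
            simp
          · rw [h, commutatorElement_def, hbinv]
            have e : b * (g₁ * b * g₁⁻¹ * b) * b * (g₁ * b * g₁⁻¹ * b) = 1 := by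
              have e1 : ∀ t : G, b * (b * t) = t := fun t => by rw [← mul_assoc, hbb, one_mul]
              simp only [mul_assoc, e1, inv_mul_cancel_left, mul_inv_cancel_left, hbb, mul_inv_cancel, mul_one]
            rw [e]
            exact D.one_mem
      | one => exact ⟨W.one_mem, by simp⟩
      | mul u v _ _ hu hv =>
        refine ⟨W.mul_mem hu.1 hv.1, ?_⟩
        have e : b * (u * v) * b⁻¹ * (u * v) =
            (b * u * b⁻¹ * u) * (u⁻¹ * (b * v * b⁻¹) * u⁻¹⁻¹ * (b * v * b⁻¹)⁻¹) *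
              (b * v * b⁻¹ * v) := by group
        rw [e]
        exact D.mul_mem (D.mul_mem hu.2 (hcomm _ (W.inv_mem hu.1) _ (hbconj v hv.1))) hv.2
      | inv u _ hu =>
        refine ⟨W.inv_mem hu.1, ?_⟩
        have e : b * u⁻¹ * b⁻¹ * u⁻¹ = (u * (b * u * b⁻¹ * u) * u⁻¹)⁻¹ := by group
        rw [e]
        exact D.inv_mem (hconjD u hu.1 _ hu.2)
    exact (key w (by rw [hWW]; exact hw)).2
  -- elements of W centralized by b lie in D
  have hfixD : ∀ c ∈ W, c ∈ centralizer ({b} : Set G) → c ∈ D := by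
    intro c hc hcb
    have h3 : c * b = b * c := Subgroup.mem_centralizer_singleton_iff.mp hcb
    have h4 := hΦ c hc
    have h5 : b * c * b⁻¹ * c = c ^ 2 := by
      rw [← h3, mul_inv_cancel_right, sq]
    rw [h5] at h4
    apply mem_of_sq_mem_of_odd _ h4
    have h6 : orderOf c ∣ Nat.card ↥W := by
      have := orderOf_dvd_natCard (⟨c, hc⟩ : ↥W)
      rwa [Subgroup.orderOf_mk] at this
    exact Odd.of_dvd_nat hWodd h6
  -- (2) a inverts W modulo D
  have hΨ : ∀ w ∈ W, w * (a * w * a⁻¹) ∈ D := by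
    intro w hw
    have hk : w * (a * w * a⁻¹) ∈ W := W.mul_mem hw (haconj w hw)
    obtain ⟨c, hc, hkc⟩ := Cfsg.Agent.S0022.result (zpowers a) W ((Subgroup.zpowers_le).mpr haW)
      (card_zpowers_coprime_of_sq ha hWodd) (Or.inl inferInstance) D hDW hWD
      ((Subgroup.zpowers_le).mpr haD) (w * (a * w * a⁻¹)) hk (by
        intro z hz
        rcases mem_zpowers_of_sq_eq_one ha hz with h | h
        · rw [h]
          have e0 : (1 : G) * (w * (a * w * a⁻¹)) * 1⁻¹ * (w * (a * w * a⁻¹))⁻¹ = 1 := by group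
          rw [e0]; exact D.one_mem
        · rw [h]
          have e : a * (w * (a * w * a⁻¹)) * a⁻¹ * (w * (a * w * a⁻¹))⁻¹ =
              (a * w * a⁻¹) * w * (a * w * a⁻¹)⁻¹ * w⁻¹ := by
            rw [hainv]
            have e1 : ∀ t : G, a * (a * t) = t := fun t => by rw [← mul_assoc, haa, one_mul]
            simp only [mul_assoc, e1, mul_inv_rev, hainv, haa, mul_one]
          rw [e]
          exact hcomm _ (haconj w hw) _ hw)
    have hcD : c ∈ D := by
      apply hfixD c hc.1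
      apply h1
      refine ⟨hWY hc.1, ?_⟩
      rw [← centralizer_zpowers_eq]
      exact hc.2
    have e : w * (a * w * a⁻¹) = c * ((w * (a * w * a⁻¹))⁻¹ * c)⁻¹ := by group
    rw [e]
    exact D.mul_mem hcD (D.inv_mem hkc)
  -- (3) W ≤ D
  have hab2 : (a * b) ^ 2 = 1 := by
    rw [sq]
    calc a * b * (a * b) = a * (b * a) * b := by group
      _ = a * (a * b) * b := by rw [hab]
      _ = (a * a) * (b * b) := by group
      _ = 1 := by rw [haa, hbb, one_mul]
  have habW : a * b ∈ normalizer (W : Set G) := Subgroup.mul_mem _ haW hbW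
  have habD : a * b ∈ normalizer (D : Set G) := Subgroup.mul_mem _ haD hbD
  have hWleD : W ≤ D := by
    intro w hw
    obtain ⟨c, hc, hkc⟩ := Cfsg.Agent.S0022.result (zpowers (a * b)) W
      ((Subgroup.zpowers_le).mpr habW)
      (card_zpowers_coprime_of_sq hab2 hWodd) (Or.inl inferInstance) D hDW hWD
      ((Subgroup.zpowers_le).mpr habD) w hw (by
        intro z hz
        rcases mem_zpowers_of_sq_eq_one hab2 hz with h | h
        · rw [h]
          have e0 : (1 : G) * w * 1⁻¹ * w⁻¹ = 1 := by group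
          rw [e0]; exact D.one_mem
        · rw [h]
          have hv : b * w * b⁻¹ ∈ W := hbconj w hw
          have d1 := hΨ _ hv
          have d2 := hΦ w hw
          have e : a * b * w * (a * b)⁻¹ * w⁻¹ =
              ((b * w * b⁻¹)⁻¹ * ((b * w * b⁻¹) * (a * (b * w * b⁻¹) * a⁻¹)) * (b * w * b⁻¹)⁻¹⁻¹) *
                (w * (b * w * b⁻¹ * w) * w⁻¹)⁻¹ := by group
          rw [e]
          exact D.mul_mem (hconjD _ (W.inv_mem hv) _ d1) (D.inv_mem (hconjD w hw _ d2)))
    have hcD : c ∈ D := by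
      apply hfixD c hc.1
      apply h2
      refine ⟨hWY hc.1, ?_⟩
      rw [← centralizer_zpowers_eq]
      exact hc.2
    have e : w = c * (w⁻¹ * c)⁻¹ := by group
    rw [e]
    exact D.mul_mem hcD (D.inv_mem hkc)
  -- (4) W is trivial
  have hWbot : W = ⊥ := by
    by_contra hne
    have hperf : ⁅W, W⁆ = W := le_antisymm (hD ▸ hDW) (hD ▸ hWleD)
    have : Group.IsPerfect ↥W := Subgroup.isPerfect_iff.mpr hperf
    have : Nontrivial ↥W := (Subgroup.nontrivial_iff_ne_bot W).mpr hne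
    have : Group.IsSolvable ↥W := Cfsg.Agent.Lib.Helper10.Coprime.solvable_of_le hWY hYs
    exact Group.IsPerfect.not_isSolvable ↥W inferInstance
  intro y hy
  rw [Subgroup.mem_centralizer_singleton_iff]
  have h3 : ⁅Y, zpowers b⁆ = ⊥ := by rw [← hW]; exact hWbot
  exact commute_of_commutator_eq_bot h3 hy (Subgroup.mem_zpowers b)

end fourgroup


section eigen

variable {G : Type u} [Group G] [Finite G]

theorem exists_eigen_aux (n : ℕ) : ∀ (U A : Subgroup G), Nat.card ↥U = n →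
    Group.IsSolvable ↥U → Odd (Nat.card ↥U) → (∀ a ∈ A, ∀ b ∈ A, a * b = b * a) →
    (∀ a ∈ A, a ^ 2 = 1) → A ≤ normalizer (U : Set G) → ¬ (A ≤ centralizer (U : Set G)) →
    ∃ u ∈ U, u ≠ 1 ∧ (∀ a ∈ A, a * u * a⁻¹ = u ∨ a * u * a⁻¹ = u⁻¹) ∧
      ∃ a ∈ A, a * u * a⁻¹ = u⁻¹ := by
  induction n using Nat.strong_induction_on with
  | _ n ih =>
    intro U A hn hUs hUodd hcomm hsq hAU hnc
    by_cases hcase : ∃ b ∈ A, ¬ (U ≤ centralizer ({b} : Set G)) ∧
        ¬ (A ≤ centralizer ((U ⊓ centralizer ({b} : Set G) : Subgroup G) : Set G))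
    · obtain ⟨b, hbA, hb1, hb2⟩ := hcase
      have hlt : Nat.card ↥(U ⊓ centralizer ({b} : Set G)) < n := by
        by_contra hge
        push Not at hge
        rw [← hn] at hge
        have := Subgroup.eq_of_le_of_card_ge (inf_le_left : U ⊓ centralizer ({b} : Set G) ≤ U) hge
        apply hb1
        rw [← this]
        exact inf_le_right
      have hnorm : A ≤ normalizer ((U ⊓ centralizer ({b} : Set G) : Subgroup G) : Set G) := by
        intro a ha
        exact mem_normalizer_inf_centralizer (hAU ha)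
          (Subgroup.mem_centralizer_singleton_iff.mpr (hcomm a ha b hbA))
      obtain ⟨u, hu, h⟩ := ih _ hlt (U ⊓ centralizer ({b} : Set G)) A rfl
        (Cfsg.Agent.Lib.Helper10.Coprime.solvable_of_le inf_le_left hUs)
        (Odd.of_dvd_nat hUodd (Subgroup.card_dvd_of_le inf_le_left)) hcomm hsq hnorm hb2
      exact ⟨u, hu.1, h⟩
    · push Not at hcase
      obtain ⟨a₀, ha₀A, ha₀⟩ : ∃ a₀ ∈ A, ¬ (U ≤ centralizer ({a₀} : Set G)) := by
        by_contra h
        push Not at h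
        apply hnc
        intro a ha
        rw [Subgroup.mem_centralizer_iff]
        intro u hu
        exact Subgroup.mem_centralizer_singleton_iff.mp (h a ha hu)
      have hdich : ∀ a ∈ A, U ≤ centralizer ({a} : Set G) ∨
          U ≤ centralizer ({a * a₀} : Set G) := by
        intro a ha
        by_contra hcon
        push Not at hcon
        obtain ⟨hc1, hc2⟩ := hcon
        apply ha₀
        have haa₀ : a * a₀ ∈ A := A.mul_mem ha ha₀A
        exact four_group_centralizes U hUs hUodd a a₀ (hsq a ha) (hsq a₀ ha₀A)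
          (hcomm a ha a₀ ha₀A) (hAU ha) (hAU ha₀A)
          (fun c hc => Subgroup.mem_centralizer_singleton_iff.mpr
            (Subgroup.mem_centralizer_iff.mp (hcase a ha hc1 ha₀A) c hc))
          (fun c hc => Subgroup.mem_centralizer_singleton_iff.mpr
            (Subgroup.mem_centralizer_iff.mp (hcase (a * a₀) haa₀ hc2 ha₀A) c hc))
      obtain ⟨y, hy, hya⟩ : ∃ y ∈ U, ¬ (y ∈ centralizer ({a₀} : Set G)) := by
        by_contra h
        push Not at h
        exact ha₀ h
      have haa : a₀ * a₀ = 1 := by rw [← sq]; exact hsq a₀ ha₀A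
      have hainv : a₀⁻¹ = a₀ := inv_eq_of_mul_eq_one_left haa
      have hconj : a₀ * y * a₀⁻¹ ∈ U := (Subgroup.mem_normalizer_iff.mp (hAU ha₀A) y).mp hy
      have hinv : a₀ * (y⁻¹ * (a₀ * y * a₀⁻¹)) * a₀⁻¹ = (y⁻¹ * (a₀ * y * a₀⁻¹))⁻¹ := by
        rw [hainv]
        have e1 : ∀ t : G, a₀ * (a₀ * t) = t := fun t => by rw [← mul_assoc, haa, one_mul]
        simp only [mul_assoc, e1, mul_inv_rev, hainv, inv_inv, haa, mul_one]
      refine ⟨y⁻¹ * (a₀ * y * a₀⁻¹), U.mul_mem (U.inv_mem hy) hconj, ?_, ?_, ⟨a₀, ha₀A, hinv⟩⟩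
      · intro h1
        apply hya
        rw [Subgroup.mem_centralizer_singleton_iff]
        have h2 : a₀ * y * a₀⁻¹ = y := by
          have := congrArg (fun t => y * t) h1
          simpa using this
        calc y * a₀ = (a₀ * y * a₀⁻¹) * a₀ := by rw [h2]
          _ = a₀ * y := by group
      · intro a ha
        rcases hdich a ha with h | h
        · left
          have h3 := Subgroup.mem_centralizer_singleton_iff.mp
            (h (U.mul_mem (U.inv_mem hy) hconj))
          rw [← h3, mul_inv_cancel_right]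
        · right
          have h3 := Subgroup.mem_centralizer_singleton_iff.mp
            (h (U.mul_mem (U.inv_mem hy) hconj))
          have h4 : a * a₀ * (y⁻¹ * (a₀ * y * a₀⁻¹)) * (a * a₀)⁻¹ = y⁻¹ * (a₀ * y * a₀⁻¹) := by
            rw [← h3, mul_inv_cancel_right]
          calc a * (y⁻¹ * (a₀ * y * a₀⁻¹)) * a⁻¹
              = (a * (y⁻¹ * (a₀ * y * a₀⁻¹))⁻¹ * a⁻¹)⁻¹ := by group
            _ = (a * (a₀ * (y⁻¹ * (a₀ * y * a₀⁻¹)) * a₀⁻¹) * a⁻¹)⁻¹ := by rw [hinv]
            _ = (a * a₀ * (y⁻¹ * (a₀ * y * a₀⁻¹)) * (a * a₀)⁻¹)⁻¹ := by group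
            _ = (y⁻¹ * (a₀ * y * a₀⁻¹))⁻¹ := by rw [h4]

theorem exists_eigen (U A : Subgroup G) (hUs : Group.IsSolvable ↥U) (hUodd : Odd (Nat.card ↥U))
    (hcomm : ∀ a ∈ A, ∀ b ∈ A, a * b = b * a) (hsq : ∀ a ∈ A, a ^ 2 = 1)
    (hAU : A ≤ normalizer (U : Set G)) (hnc : ¬ (A ≤ centralizer (U : Set G))) :
    ∃ u ∈ U, u ≠ 1 ∧ (∀ a ∈ A, a * u * a⁻¹ = u ∨ a * u * a⁻¹ = u⁻¹) ∧
      ∃ a ∈ A, a * u * a⁻¹ = u⁻¹ :=
  exists_eigen_aux _ U A rfl hUs hUodd hcomm hsq hAU hnc

end eigen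


section fitting

variable {G : Type u} [Group G] [Finite G]

/-- The image of `O_r(L)` in `G`. -/
def pc (r : ℕ) (L : Subgroup G) : Subgroup G := (pCore r ↥L).map L.subtype

theorem pc_le (r : ℕ) (L : Subgroup G) : pc r L ≤ L := Subgroup.map_subtype_le _

theorem pc_isPGroup (r : ℕ) (L : Subgroup G) : IsPGroup r ↥(pc r L) :=
  (pCore_isPGroup r ↥L).map L.subtype

theorem pc_map_conj (r : ℕ) (g : G) (L : Subgroup G) :
    pc r (L.map (MulAut.conj g).toMonoidHom) = (pc r L).map (MulAut.conj g).toMonoidHom := by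
  unfold pc
  have h1 := pCore_map_equiv r
    (L.equivMapOfInjective (MulAut.conj g).toMonoidHom (MulAut.conj g).injective)
  rw [← h1, Subgroup.map_map, Subgroup.map_map]
  congr 1

theorem normalizer_le_normalizer_pc (r : ℕ) (L : Subgroup G) :
    normalizer (L : Set G) ≤ normalizer ((pc r L : Subgroup G) : Set G) := by
  intro g hg
  have h1 : L.map (MulAut.conj g).toMonoidHom = L := Subgroup.mem_normalizer_iff_map_conj_eq.mp hg
  have h2 := pc_map_conj r g L
  rw [h1] at h2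
  exact Subgroup.mem_normalizer_iff_map_conj_eq.mpr h2.symm

theorem fl_le_of_forall_pc_le (L J : Subgroup G) (h : ∀ r : ℕ, r.Prime → pc r L ≤ J) :
    (fittingSubgroup ↥L).map L.subtype ≤ J := by
  rw [Subgroup.map_le_iff_le_comap]
  apply fitting_le_of_forall_pCore_le
  intro r hr
  rw [← Subgroup.map_le_iff_le_comap]
  exact h r hr

theorem pc_commute {s r : ℕ} (hs : s.Prime) (hr : r.Prime) (hsr : s ≠ r) (L : Subgroup G)
    {u x : G} (hu : u ∈ pc s L) (hx : x ∈ pc r L) : u * x = x * u := by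
  obtain ⟨u', hu', rfl⟩ := hu
  obtain ⟨x', hx', rfl⟩ := hx
  have : Fact s.Prime := ⟨hs⟩
  have : Fact r.Prime := ⟨hr⟩
  have h := Subgroup.commute_of_normal_of_disjoint (pCore s ↥L) (pCore r ↥L) (pCore_normal s ↥L)
    (pCore_normal r ↥L) (IsPGroup.disjoint_of_ne s r hsr _ _ (pCore_isPGroup s ↥L)
      (pCore_isPGroup r ↥L)) u' x' hu' hx'
  exact congrArg Subtype.val h.eq

theorem pow_eq_one_of_conj' {n v z : G} {m : ℕ} (hz : n * v * n⁻¹ = z * v) (hcomm : Commute z v)
    (hm : v ^ m = 1) : z ^ m = 1 := by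
  have h1 : (z * v) ^ m = 1 := by
    rw [← hz, conj_pow, hm, mul_one, mul_inv_cancel]
  rwa [hcomm.mul_pow, hm, mul_one] at h1

theorem eq_one_of_sq_of_odd {L : Subgroup G} (hLodd : Odd (Nat.card ↥L)) {c : G} (hc : c ∈ L)
    (h : c ^ 2 = 1) : c = 1 := by
  have h6 : orderOf c ∣ Nat.card ↥L := by
    have := orderOf_dvd_natCard (⟨c, hc⟩ : ↥L)
    rwa [Subgroup.orderOf_mk] at this
  have h7 : Odd (orderOf c) := Odd.of_dvd_nat hLodd h6
  have h8 : orderOf c ∣ 2 := orderOf_dvd_of_pow_eq_one h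
  have h9 : (orderOf c).Coprime 2 := Nat.coprime_two_right.mpr h7
  exact orderOf_eq_one_iff.mp (Nat.Coprime.eq_one_of_dvd h9 h8)

/-- An involution normalizing the solvable odd-order group `L` and centralizing every `O_r(L)`
centralizes `L`. -/
theorem faithful_on_fitting (L : Subgroup G) (hLs : Group.IsSolvable ↥L)
    (hLodd : Odd (Nat.card ↥L)) {a : G} (ha2 : a ^ 2 = 1) (haL : a ∈ normalizer (L : Set G))
    (hac : ∀ r : ℕ, r.Prime → pc r L ≤ centralizer ({a} : Set G)) :
    L ≤ centralizer ({a} : Set G) := by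
  have hFL := fl_le_of_forall_pc_le L _ hac
  have hgf : generalizedFittingSubgroup ↥L = fittingSubgroup ↥L := by
    unfold generalizedFittingSubgroup
    rw [layer_eq_bot_of_isSolvable, bot_sup_eq]
  intro l hl
  have hcL : l * a * l⁻¹ * a⁻¹ ∈ L := by
    have h1 : a * l⁻¹ * a⁻¹ ∈ L := (Subgroup.mem_normalizer_iff.mp haL l⁻¹).mp (L.inv_mem hl)
    have e : l * a * l⁻¹ * a⁻¹ = l * (a * l⁻¹ * a⁻¹) := by group
    rw [e]; exact L.mul_mem hl h1
  have hcent : (⟨l * a * l⁻¹ * a⁻¹, hcL⟩ : ↥L) ∈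
      centralizer (generalizedFittingSubgroup ↥L : Set ↥L) := by
    rw [hgf, Subgroup.mem_centralizer_iff]
    intro f hf
    apply Subtype.ext
    show (f : G) * (l * a * l⁻¹ * a⁻¹) = l * a * l⁻¹ * a⁻¹ * (f : G)
    have hfa : Commute (f : G) a :=
      Subgroup.mem_centralizer_singleton_iff.mp (hFL ⟨f, hf, rfl⟩)
    have hg : (⟨l, hl⟩ : ↥L)⁻¹ * f * (⟨l, hl⟩ : ↥L)⁻¹⁻¹ ∈ fittingSubgroup ↥L :=
      (fitting_normal ↥L).conj_mem f hf _
    have hga : l⁻¹ * (f : G) * l * a = a * (l⁻¹ * (f : G) * l) := by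
      have := Subgroup.mem_centralizer_singleton_iff.mp (hFL ⟨_, hg, rfl⟩)
      simpa using this
    calc (f : G) * (l * a * l⁻¹ * a⁻¹) = l * ((l⁻¹ * (f : G) * l) * a) * l⁻¹ * a⁻¹ := by group
      _ = l * (a * (l⁻¹ * (f : G) * l)) * l⁻¹ * a⁻¹ := by rw [hga]
      _ = l * a * l⁻¹ * ((f : G) * a⁻¹) := by group
      _ = l * a * l⁻¹ * (a⁻¹ * (f : G)) := by rw [hfa.inv_right.eq]
      _ = l * a * l⁻¹ * a⁻¹ * (f : G) := by group
  have hcF := centralizer_gfitting_le ↥L hcent
  rw [hgf] at hcF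
  have hca : Commute (l * a * l⁻¹ * a⁻¹) a :=
    Subgroup.mem_centralizer_singleton_iff.mp (hFL ⟨_, hcF, rfl⟩)
  have hc2 : (l * a * l⁻¹ * a⁻¹) ^ 2 = 1 :=
    pow_eq_one_of_conj' (n := l) (v := a) (by group) hca ha2
  have hc1 := eq_one_of_sq_of_odd hLodd hcL hc2
  rw [Subgroup.mem_centralizer_singleton_iff]
  calc l * a = (l * a * l⁻¹ * a⁻¹) * (a * l) := by group
    _ = a * l := by rw [hc1, one_mul]

theorem exists_prime_not_centralizer (L A : Subgroup G) (hLs : Group.IsSolvable ↥L)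
    (hLodd : Odd (Nat.card ↥L)) (hsq : ∀ a ∈ A, a ^ 2 = 1) (hAL : A ≤ normalizer (L : Set G))
    (hfaith : A ⊓ centralizer (L : Set G) = ⊥) (hA : A ≠ ⊥) :
    ∃ r : ℕ, r.Prime ∧ ¬ (A ≤ centralizer ((pc r L : Subgroup G) : Set G)) := by
  by_contra hcon
  push Not at hcon
  apply hA
  rw [eq_bot_iff]
  intro a ha
  have h1 : L ≤ centralizer ({a} : Set G) := by
    apply faithful_on_fitting L hLs hLodd (hsq a ha) (hAL ha)
    intro r hr u hu
    rw [Subgroup.mem_centralizer_singleton_iff]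
    exact Subgroup.mem_centralizer_iff.mp (hcon r hr ha) u hu
  have h2 : a ∈ A ⊓ centralizer (L : Set G) := by
    have h3 : a ∈ centralizer (L : Set G) := by
      rw [Subgroup.mem_centralizer_iff]
      intro l hl
      exact Subgroup.mem_centralizer_singleton_iff.mp (h1 hl)
    exact ⟨ha, h3⟩
  rw [hfaith] at h2
  exact h2

/-- Step one: an `A`-eigenelement `x` of `L` such that `C_A(x)` is faithful on `C_L(x)`. -/
theorem step_one (L A : Subgroup G) (hLs : Group.IsSolvable ↥L)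
    (hLodd : Odd (Nat.card ↥L)) (hcomm : ∀ a ∈ A, ∀ b ∈ A, a * b = b * a)
    (hsq : ∀ a ∈ A, a ^ 2 = 1) (hAL : A ≤ normalizer (L : Set G))
    (hfaith : A ⊓ centralizer (L : Set G) = ⊥) (hA : A ≠ ⊥) :
    ∃ x ∈ L, x ≠ 1 ∧ (∀ a ∈ A, a * x * a⁻¹ = x ∨ a * x * a⁻¹ = x⁻¹) ∧
      (∃ a ∈ A, a * x * a⁻¹ = x⁻¹) ∧
      (A ⊓ centralizer ({x} : Set G)) ⊓
        centralizer ((L ⊓ centralizer ({x} : Set G) : Subgroup G) : Set G) = ⊥ := by
  obtain ⟨r, hr, hnc⟩ := exists_prime_not_centralizer L A hLs hLodd hsq hAL hfaith hA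
  have : Fact r.Prime := ⟨hr⟩
  have hUodd : Odd (Nat.card ↥(pc r L)) :=
    Odd.of_dvd_nat hLodd (Subgroup.card_dvd_of_le (pc_le r L))
  obtain ⟨x, hxU, hx1, hxA, hxinv⟩ := exists_eigen (pc r L) A
    (Cfsg.Agent.Lib.Helper10.Coprime.solvable_of_le (pc_le r L) hLs) hUodd hcomm hsq
    (hAL.trans (normalizer_le_normalizer_pc r L)) hnc
  refine ⟨x, pc_le r L hxU, hx1, hxA, hxinv, ?_⟩
  -- r is odd
  have hrodd : Odd r := by
    rcases hr.eq_two_or_odd' with h | h
    · exfalso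
      obtain ⟨k, hk⟩ := pc_isPGroup r L ⟨x, hxU⟩
      have hk' : x ^ (r ^ k) = 1 := congrArg Subtype.val hk
      have h2 : orderOf x ∣ 2 ^ k := by rw [← h]; exact orderOf_dvd_of_pow_eq_one hk'
      have h3 : orderOf x ∣ Nat.card ↥(pc r L) := by
        have := orderOf_dvd_natCard (⟨x, hxU⟩ : ↥(pc r L))
        rwa [Subgroup.orderOf_mk] at this
      have h4 : Odd (orderOf x) := Odd.of_dvd_nat hUodd h3
      have h5 : (orderOf x).Coprime (2 ^ k) := Nat.Coprime.pow_right k (Nat.coprime_two_right.mpr h4)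
      exact hx1 (orderOf_eq_one_iff.mp (Nat.Coprime.eq_one_of_dvd h5 h2))
    · exact h
  rw [eq_bot_iff]
  rintro b ⟨⟨hbA, hbx⟩, hbY⟩
  have hbx' : b * x = x * b := (Subgroup.mem_centralizer_singleton_iff.mp hbx)
  have hb2 : b ^ 2 = 1 := hsq b hbA
  have hbYc : ∀ c ∈ L, c * x = x * c → c * b = b * c := fun c hc hcx =>
    Subgroup.mem_centralizer_iff.mp hbY c ⟨hc, Subgroup.mem_centralizer_singleton_iff.mpr hcx⟩
  have hall : ∀ s : ℕ, s.Prime → pc s L ≤ centralizer ({b} : Set G) := by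
    intro s hs
    by_cases hsr : s = r
    · rw [hsr]
      have hres := Cfsg.Agent.S0028.result r (zpowers x) (zpowers b) (pc r L)
        ((pc_isPGroup r L).to_le ((Subgroup.zpowers_le).mpr hxU))
        (card_zpowers_coprime_of_sq hb2 hrodd) (pc_isPGroup r L)
        (by
          rw [centralizer_zpowers_eq]
          exact (Subgroup.zpowers_le).mpr (Subgroup.mem_centralizer_singleton_iff.mpr hbx'.symm))
        ((Subgroup.zpowers_le).mpr (Subgroup.le_normalizer hxU))
        ((Subgroup.zpowers_le).mpr (normalizer_le_normalizer_pc r L (hAL hbA)))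
        (by
          rw [centralizer_zpowers_eq, centralizer_zpowers_eq]
          rintro c ⟨hcU, hcx⟩
          rw [Subgroup.mem_centralizer_singleton_iff]
          exact hbYc c (pc_le r L hcU) (Subgroup.mem_centralizer_singleton_iff.mp hcx))
      intro u hu
      rw [Subgroup.mem_centralizer_singleton_iff]
      exact Subgroup.mem_centralizer_iff.mp (hres (Subgroup.mem_zpowers b)) u hu
    · intro u hu
      rw [Subgroup.mem_centralizer_singleton_iff]
      exact hbYc u (pc_le s L hu) (pc_commute hs hr hsr L hu hxU)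
  have h1 := faithful_on_fitting L hLs hLodd hb2 (hAL hbA) hall
  have h2 : b ∈ A ⊓ centralizer (L : Set G) := by
    have h3 : b ∈ centralizer (L : Set G) := by
      rw [Subgroup.mem_centralizer_iff]
      intro l hl
      exact Subgroup.mem_centralizer_singleton_iff.mp (h1 hl)
    exact ⟨hbA, h3⟩
  rw [hfaith] at h2
  exact h2

end fitting


section induction

variable {G : Type u} [Group G] [Finite G]

/-- Step two: a choice of `a₁ ∈ A ∖ B` such that `B` stays faithful on `C_Y(a₁)`. -/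
theorem step_two (Y A B : Subgroup G) (hYs : Group.IsSolvable ↥Y) (hYodd : Odd (Nat.card ↥Y))
    (hcomm : ∀ a ∈ A, ∀ b ∈ A, a * b = b * a) (hsq : ∀ a ∈ A, a ^ 2 = 1)
    (hAY : A ≤ normalizer (Y : Set G)) (hBA : B ≤ A)
    (hBfaith : B ⊓ centralizer (Y : Set G) = ⊥) (hex : ∃ a ∈ A, a ∉ B) :
    ∃ a₁ ∈ A, a₁ ∉ B ∧
      B ⊓ centralizer ((Y ⊓ centralizer ({a₁} : Set G) : Subgroup G) : Set G) = ⊥ := by
  obtain ⟨a₀, ha₀A, ha₀B⟩ := hex
  have : Nonempty {a : G // a ∈ A ∧ a ∉ B} := ⟨⟨a₀, ha₀A, ha₀B⟩⟩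
  obtain ⟨a₁, hmax⟩ := Finite.exists_max
    (fun a : {a : G // a ∈ A ∧ a ∉ B} => Nat.card ↥(Y ⊓ centralizer ({a.1} : Set G)))
  refine ⟨a₁.1, a₁.2.1, a₁.2.2, ?_⟩
  rw [eq_bot_iff]
  intro b hb
  obtain ⟨hbB, hbc⟩ := Subgroup.mem_inf.mp hb
  have hbA : b ∈ A := hBA hbB
  have hbcomm : ∀ c ∈ Y, c * a₁.1 = a₁.1 * c → c * b = b * c := fun c hc hca =>
    Subgroup.mem_centralizer_iff.mp hbc c ⟨hc, Subgroup.mem_centralizer_singleton_iff.mpr hca⟩
  have hab : a₁.1 * b ∈ A ∧ a₁.1 * b ∉ B := by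
    refine ⟨A.mul_mem a₁.2.1 hbA, fun h => a₁.2.2 ?_⟩
    have e : a₁.1 = a₁.1 * b * b⁻¹ := by group
    rw [e]
    exact B.mul_mem h (B.inv_mem hbB)
  have hle : Y ⊓ centralizer ({a₁.1} : Set G) ≤ Y ⊓ centralizer ({a₁.1 * b} : Set G) := by
    intro c hc
    obtain ⟨hcY, hca⟩ := Subgroup.mem_inf.mp hc
    rw [Subgroup.mem_centralizer_singleton_iff] at hca
    refine Subgroup.mem_inf.mpr ⟨hcY, ?_⟩
    rw [Subgroup.mem_centralizer_singleton_iff]
    rw [← mul_assoc, hca, mul_assoc, hbcomm c hcY hca, mul_assoc]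
  have heq := Subgroup.eq_of_le_of_card_ge hle (hmax ⟨a₁.1 * b, hab⟩)
  have hYb : Y ≤ centralizer ({b} : Set G) := by
    apply four_group_centralizes Y hYs hYodd a₁.1 b (hsq _ a₁.2.1) (hsq b hbA)
      (hcomm _ a₁.2.1 b hbA) (hAY a₁.2.1) (hAY hbA)
    · intro c hc
      obtain ⟨hcY, hca⟩ := Subgroup.mem_inf.mp hc
      rw [Subgroup.mem_centralizer_singleton_iff]
      exact hbcomm c hcY (Subgroup.mem_centralizer_singleton_iff.mp hca)
    · rw [← heq]
      intro c hc
      obtain ⟨hcY, hca⟩ := Subgroup.mem_inf.mp hc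
      rw [Subgroup.mem_centralizer_singleton_iff]
      exact hbcomm c hcY (Subgroup.mem_centralizer_singleton_iff.mp hca)
  have h2 : b ∈ B ⊓ centralizer (Y : Set G) := by
    have h3 : b ∈ centralizer (Y : Set G) := by
      rw [Subgroup.mem_centralizer_iff]
      intro y hy
      exact Subgroup.mem_centralizer_singleton_iff.mp (hYb hy)
    exact ⟨hbB, h3⟩
  rw [hBfaith] at h2
  exact h2

theorem main (d : ℕ) : ∀ (L A : Subgroup G), Group.IsSolvable ↥L → Odd (Nat.card ↥L) →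
    (∀ a ∈ A, ∀ b ∈ A, a * b = b * a) → (∀ a ∈ A, a ^ 2 = 1) → Nat.card ↥A = 2 ^ d →
    A ≤ normalizer (L : Set G) → A ⊓ centralizer (L : Set G) = ⊥ →
    ∃ (a x : Fin d → G),
      (∀ i, a i ∈ A ∧ a i ≠ 1 ∧ x i ∈ L ∧ x i ≠ 1 ∧ a i * x i * (a i)⁻¹ = (x i)⁻¹) ∧
      (∀ i j, i ≠ j → a i * x j = x j * a i ∧ x i * x j = x j * x i) ∧
      (⨆ i, zpowers (a i)) = A := by
  induction d with
  | zero =>
    intro L A hLs hLodd hcomm hsq hcard hAL hfaith
    refine ⟨fun i => i.elim0, fun i => i.elim0, fun i => i.elim0, fun i => i.elim0, ?_⟩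
    rw [iSup_of_empty]
    rw [pow_zero] at hcard
    exact (Subgroup.card_eq_one.mp hcard).symm
  | succ d ih =>
    intro L A hLs hLodd hcomm hsq hcard hAL hfaith
    have hA : A ≠ ⊥ := by
      intro h
      rw [h, Subgroup.card_bot] at hcard
      have : 2 ≤ 2 ^ (d + 1) := by
        calc 2 = 2 ^ 1 := by norm_num
          _ ≤ 2 ^ (d + 1) := Nat.pow_le_pow_right (by norm_num) (by omega)
      omega
    obtain ⟨x, hxL, hx1, hxA, ⟨a₀, ha₀A, ha₀x⟩, hBf⟩ :=
      step_one L A hLs hLodd hcomm hsq hAL hfaith hA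
    obtain ⟨B, hB⟩ : ∃ B : Subgroup G, B = A ⊓ centralizer ({x} : Set G) := ⟨_, rfl⟩
    obtain ⟨Y, hY⟩ : ∃ Y : Subgroup G, Y = L ⊓ centralizer ({x} : Set G) := ⟨_, rfl⟩
    rw [← hB, ← hY] at hBf
    have hBA : B ≤ A := by rw [hB]; exact inf_le_left
    have hYL : Y ≤ L := by rw [hY]; exact inf_le_left
    have hmemB : ∀ a, a ∈ B ↔ a ∈ A ∧ a * x = x * a := by
      intro a
      rw [hB, Subgroup.mem_inf, Subgroup.mem_centralizer_singleton_iff]
    have hmemY : ∀ y, y ∈ Y ↔ y ∈ L ∧ y * x = x * y := by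
      intro y
      rw [hY, Subgroup.mem_inf, Subgroup.mem_centralizer_singleton_iff]
    have hxx : x ≠ x⁻¹ := by
      intro h
      apply hx1
      apply eq_one_of_sq_of_odd hLodd hxL
      rw [sq]
      nth_rewrite 2 [h]
      exact mul_inv_cancel x
    have hinvB : ∀ a ∈ A, a ∉ B → a * x * a⁻¹ = x⁻¹ := by
      intro a ha haB
      rcases hxA a ha with h | h
      · exfalso
        apply haB
        rw [hmemB]
        refine ⟨ha, ?_⟩
        calc a * x = (a * x * a⁻¹) * a := by group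
          _ = x * a := by rw [h]
      · exact h
    have hprodB : ∀ a ∈ A, a ∉ B → ∀ a' ∈ A, a' ∉ B → a * a' ∈ B := by
      intro a ha haB a' ha' ha'B
      rw [hmemB]
      refine ⟨A.mul_mem ha ha', ?_⟩
      have h1 := hinvB a ha haB
      have h2 := hinvB a' ha' ha'B
      have h3 : a * a' * x * (a * a')⁻¹ = x := by
        calc a * a' * x * (a * a')⁻¹ = a * (a' * x * a'⁻¹) * a⁻¹ := by group
          _ = a * x⁻¹ * a⁻¹ := by rw [h2]
          _ = (a * x * a⁻¹)⁻¹ := by group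
          _ = x := by rw [h1, inv_inv]
      calc a * a' * x = (a * a' * x * (a * a')⁻¹) * (a * a') := by group
        _ = x * (a * a') := by rw [h3]
    have hAY : A ≤ normalizer (Y : Set G) := by
      intro a ha
      apply Cfsg.Agent.Lib.Helper10.Coprime.mem_normalizer_of_conj_mem
      intro s hs
      rw [hmemY] at hs ⊢
      refine ⟨(Subgroup.mem_normalizer_iff.mp (hAL ha) s).mp hs.1, ?_⟩
      have h4 : Commute (a * s * a⁻¹) (a * x * a⁻¹) := by
        show a * s * a⁻¹ * (a * x * a⁻¹) = a * x * a⁻¹ * (a * s * a⁻¹)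
        calc a * s * a⁻¹ * (a * x * a⁻¹) = a * (s * x) * a⁻¹ := by group
          _ = a * (x * s) * a⁻¹ := by rw [hs.2]
          _ = a * x * a⁻¹ * (a * s * a⁻¹) := by group
      rcases hxA a ha with h | h
      · rw [h] at h4; exact h4.eq
      · rw [h] at h4; exact (Commute.inv_right_iff.mp h4).eq
    have ha₀B : a₀ ∉ B := by
      intro h
      rw [hmemB] at h
      apply hxx
      rw [← ha₀x, h.2, mul_inv_cancel_right]
    obtain ⟨a₁, ha₁A, ha₁B, hL'f⟩ := step_two Y A B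
      (Cfsg.Agent.Lib.Helper10.Coprime.solvable_of_le hYL hLs)
      (Odd.of_dvd_nat hLodd (Subgroup.card_dvd_of_le hYL)) hcomm hsq hAY hBA hBf
      ⟨a₀, ha₀A, ha₀B⟩
    obtain ⟨L', hL'⟩ : ∃ L' : Subgroup G, L' = Y ⊓ centralizer ({a₁} : Set G) := ⟨_, rfl⟩
    rw [← hL'] at hL'f
    have hL'Y : L' ≤ Y := by rw [hL']; exact inf_le_left
    have hmemL' : ∀ y, y ∈ L' ↔ y ∈ Y ∧ y * a₁ = a₁ * y := by
      intro y
      rw [hL', Subgroup.mem_inf, Subgroup.mem_centralizer_singleton_iff]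
    have hcardB : Nat.card ↥B = 2 ^ d := by
      have hidx : (B.subgroupOf A).index = 2 := by
        rw [Subgroup.index_eq_two_iff]
        refine ⟨⟨a₁, ha₁A⟩, fun b => ?_⟩
        by_cases hb : (b : G) ∈ B
        · right
          refine ⟨Subgroup.mem_subgroupOf.mpr hb, fun h => ha₁B ?_⟩
          have h' : (b : G) * a₁ ∈ B := Subgroup.mem_subgroupOf.mp h
          have e : a₁ = (b : G)⁻¹ * ((b : G) * a₁) := by group
          rw [e]
          exact B.mul_mem (B.inv_mem hb) h'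
        · left
          refine ⟨Subgroup.mem_subgroupOf.mpr (hprodB b b.2 hb a₁ ha₁A ha₁B), fun h => hb ?_⟩
          exact Subgroup.mem_subgroupOf.mp h
      have h1 := Subgroup.card_mul_index (B.subgroupOf A)
      rw [hidx, Cfsg.Agent.Lib.Helper10.Coprime.card_subgroupOf_of_le hBA, hcard, pow_succ] at h1
      omega
    have hBL' : B ≤ normalizer (L' : Set G) := by
      intro b hb
      rw [hL']
      exact mem_normalizer_inf_centralizer (hAY (hBA hb))
        (Subgroup.mem_centralizer_singleton_iff.mpr (hcomm b (hBA hb) a₁ ha₁A))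
    obtain ⟨a', x', h1, h2, h3⟩ := ih L' B
      (Cfsg.Agent.Lib.Helper10.Coprime.solvable_of_le (hL'Y.trans hYL) hLs)
      (Odd.of_dvd_nat hLodd (Subgroup.card_dvd_of_le (hL'Y.trans hYL)))
      (fun a ha b hb => hcomm a (hBA ha) b (hBA hb)) (fun a ha => hsq a (hBA ha)) hcardB hBL' hL'f
    have hpart1 : ∀ i : Fin (d + 1), (Fin.cons a₁ a' : Fin (d + 1) → G) i ∈ A ∧
        (Fin.cons a₁ a' : Fin (d + 1) → G) i ≠ 1 ∧
        (Fin.cons x x' : Fin (d + 1) → G) i ∈ L ∧ (Fin.cons x x' : Fin (d + 1) → G) i ≠ 1 ∧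
        (Fin.cons a₁ a' : Fin (d + 1) → G) i * (Fin.cons x x' : Fin (d + 1) → G) i *
          ((Fin.cons a₁ a' : Fin (d + 1) → G) i)⁻¹ = ((Fin.cons x x' : Fin (d + 1) → G) i)⁻¹ := by
      intro i
      refine Fin.cases ?_ (fun k => ?_) i
      · simp only [Fin.cons_zero]
        exact ⟨ha₁A, fun h => ha₁B (h ▸ B.one_mem), hxL, hx1, hinvB a₁ ha₁A ha₁B⟩
      · simp only [Fin.cons_succ]
        obtain ⟨p1, p2, p3, p4, p5⟩ := h1 k
        exact ⟨hBA p1, p2, hYL (hL'Y p3), p4, p5⟩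
    refine ⟨Fin.cons a₁ a', Fin.cons x x', hpart1, ?_, ?_⟩
    · intro i j
      refine Fin.cases ?_ (fun k => ?_) i <;> refine Fin.cases ?_ (fun l => ?_) j
      · intro h; exact absurd rfl h
      · intro _
        simp only [Fin.cons_zero, Fin.cons_succ]
        have hx'l := (h1 l).2.2.1
        rw [hmemL', hmemY] at hx'l
        exact ⟨hx'l.2.symm, hx'l.1.2.symm⟩
      · intro _
        simp only [Fin.cons_zero, Fin.cons_succ]
        have ha'k := (h1 k).1
        rw [hmemB] at ha'k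
        have hx'k := (h1 k).2.2.1
        rw [hmemL', hmemY] at hx'k
        exact ⟨ha'k.2, hx'k.1.2⟩
      · intro h
        simp only [Fin.cons_succ]
        exact h2 k l (fun e => h (by rw [e]))
    · apply le_antisymm
      · apply iSup_le
        intro i
        exact (Subgroup.zpowers_le).mpr (hpart1 i).1
      · have hBle : B ≤ ⨆ i, zpowers ((Fin.cons a₁ a' : Fin (d + 1) → G) i) := by
          rw [← h3]
          apply iSup_le
          intro k
          have := le_iSup (fun i => zpowers ((Fin.cons a₁ a' : Fin (d + 1) → G) i)) k.succ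
          simpa only [Fin.cons_succ] using this
        have ha₁le : a₁ ∈ ⨆ i, zpowers ((Fin.cons a₁ a' : Fin (d + 1) → G) i) := by
          have := le_iSup (fun i => zpowers ((Fin.cons a₁ a' : Fin (d + 1) → G) i)) 0
          simp only [Fin.cons_zero] at this
          exact this (Subgroup.mem_zpowers a₁)
        intro a ha
        by_cases haB : a ∈ B
        · exact hBle haB
        · have e : a = a * a₁ * a₁⁻¹ := by group
          rw [e]
          exact Subgroup.mul_mem _ (hBle (hprodB a ha haB a₁ ha₁A ha₁B)) (Subgroup.inv_mem _ ha₁le)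

end induction


section final

variable {G : Type u} [Group G] [Finite G]

theorem dihedral_of_pair {a x : G} (ha2 : a ^ 2 = 1) (ha1 : a ≠ 1) (hxodd : Odd (orderOf x))
    (hinv : a * x * a⁻¹ = x⁻¹) :
    Nat.card ↥(zpowers a) = 2 ∧
      Nonempty (↥(zpowers a ⊔ zpowers x) ≃* DihedralGroup (orderOf x)) := by
  have : Fact (Nat.Prime 2) := ⟨Nat.prime_two⟩
  have hoa : orderOf a = 2 := orderOf_eq_prime ha2 ha1
  have hca : Nat.card ↥(zpowers a) = 2 := by rw [Nat.card_zpowers, hoa]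
  refine ⟨hca, ?_⟩
  have haS : a ∈ zpowers a ⊔ zpowers x := (le_sup_left : zpowers a ≤ _) (Subgroup.mem_zpowers a)
  have hxS : x ∈ zpowers a ⊔ zpowers x := (le_sup_right : zpowers x ≤ _) (Subgroup.mem_zpowers x)
  have hanot : a ∉ zpowers x := by
    intro h
    have h1 : orderOf a ∣ Nat.card ↥(zpowers x) := by
      have := orderOf_dvd_natCard (⟨a, h⟩ : ↥(zpowers x))
      rwa [Subgroup.orderOf_mk] at this
    rw [Nat.card_zpowers, hoa] at h1
    exact (Nat.not_even_iff_odd.mpr hxodd) (even_iff_two_dvd.mpr h1)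
  have hnorm : zpowers a ≤ normalizer ((zpowers x : Subgroup G) : Set G) := by
    rw [Subgroup.zpowers_le, Subgroup.mem_normalizer_iff_map_conj_eq, MonoidHom.map_zpowers]
    have e : (MulAut.conj a).toMonoidHom x = x⁻¹ := hinv
    exact (congrArg zpowers e).trans (Subgroup.zpowers_inv)
  have hcard : Nat.card ↥(zpowers a ⊔ zpowers x) = 2 * orderOf x := by
    apply Nat.dvd_antisymm
    · have := card_sup_dvd_of_le_normalizer hnorm
      rw [Nat.card_zpowers, hca, sup_comm, mul_comm] at this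
      exact this
    · apply Nat.Coprime.mul_dvd_of_dvd_of_dvd (Nat.coprime_two_left.mpr hxodd)
      · rw [← hca]; exact Subgroup.card_dvd_of_le le_sup_left
      · rw [← Nat.card_zpowers x]; exact Subgroup.card_dvd_of_le le_sup_right
  apply Cfsg.Agent.Lib.Helper18.DihedralEquiv.dihedral_equiv (orderOf x) (orderOf_pos x).ne'
    (⟨x, hxS⟩ : ↥(zpowers a ⊔ zpowers x)) (⟨a, haS⟩ : ↥(zpowers a ⊔ zpowers x))
    (Subgroup.orderOf_mk x hxS) (Subtype.ext ha2) (Subtype.ext hinv) _ hcard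
  intro h
  apply hanot
  obtain ⟨k, hk⟩ := h
  have h2 : x ^ k = a := by
    have := congrArg Subtype.val hk
    simpa using this
  rw [← h2]
  exact Subgroup.zpow_mem_zpowers x k

end final

/-- Let G be finite, L ≤ G solvable of odd order, and A an elementary abelian 2-subgroup of order 2^d (d ≥ 1) normalizing L with C_A(L) = 1. Then there are subgroups A_1, …, A_d of A of order 2 generating A and subgroups L_1, …, L_d of L such that each A_i ⊔ L_i is dihedral of order 2 n_i with n_i odd and at least 3, and A_i ⊔ L_i commutes elementwise with A_j ⊔ L_j for i ≠ j. -/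
theorem result {G : Type*} [Group G] [Finite G] (L A : Subgroup G) (hLs : Group.IsSolvable ↥L) (hLodd : Odd (Nat.card ↥L)) (hA : Cfsg.IsElementaryAbelian 2 A) (d : ℕ) (hd : 1 ≤ d) (hAd : Nat.card ↥A = 2 ^ d) (hAL : A ≤ Subgroup.normalizer (L : Set G)) (hfaith : A ⊓ Subgroup.centralizer (L : Set G) = ⊥) : ∃ (Ai : Fin d → Subgroup G) (Li : Fin d → Subgroup G) (n : Fin d → ℕ), (∀ i, Ai i ≤ A ∧ Nat.card ↥(Ai i) = 2 ∧ Li i ≤ L ∧ Odd (n i) ∧ 3 ≤ n i ∧ Nonempty (↥(Ai i ⊔ Li i) ≃* DihedralGroup (n i))) ∧ (⨆ i, Ai i) = A ∧ ∀ i j, i ≠ j → ∀ x ∈ Ai i ⊔ Li i, ∀ y ∈ Ai j ⊔ Li j, x * y = y * x := by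
  have hcomm : ∀ a ∈ A, ∀ b ∈ A, a * b = b * a := by
    intro a ha b hb
    have := hA.1.is_comm.comm ⟨a, ha⟩ ⟨b, hb⟩
    exact congrArg Subtype.val this
  obtain ⟨a, x, h1, h2, h3⟩ := main d L A hLs hLodd hcomm hA.2 hAd hAL hfaith
  have hxodd : ∀ i, Odd (orderOf (x i)) := by
    intro i
    have h6 : orderOf (x i) ∣ Nat.card ↥L := by
      have := orderOf_dvd_natCard (⟨x i, (h1 i).2.2.1⟩ : ↥L)
      rwa [Subgroup.orderOf_mk] at this
    exact Odd.of_dvd_nat hLodd h6
  refine ⟨fun i => zpowers (a i), fun i => zpowers (x i), fun i => orderOf (x i), ?_, h3, ?_⟩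
  · intro i
    obtain ⟨p1, p2, p3, p4, p5⟩ := h1 i
    have hd := dihedral_of_pair (hA.2 _ p1) p2 (hxodd i) p5
    refine ⟨(Subgroup.zpowers_le).mpr p1, hd.1, (Subgroup.zpowers_le).mpr p3, hxodd i, ?_, hd.2⟩
    obtain ⟨m, hm⟩ := hxodd i
    have hne : orderOf (x i) ≠ 1 := fun h => p4 (orderOf_eq_one_iff.mp h)
    show 3 ≤ orderOf (x i)
    omega
  · intro i j hij u hu v hv
    have c1 : a i * a j = a j * a i := hcomm _ (h1 i).1 _ (h1 j).1
    have c2 : a i * x j = x j * a i := (h2 i j hij).1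
    have c3 : a j * x i = x i * a j := (h2 j i (Ne.symm hij)).1
    have c4 : x i * x j = x j * x i := (h2 i j hij).2
    have hva : v ∈ Subgroup.centralizer ({a i} : Set G) := by
      refine (sup_le ?_ ?_ : Subgroup.zpowers (a j) ⊔ Subgroup.zpowers (x j) ≤ _) hv
      · exact (Subgroup.zpowers_le).mpr (Subgroup.mem_centralizer_singleton_iff.mpr c1.symm)
      · exact (Subgroup.zpowers_le).mpr (Subgroup.mem_centralizer_singleton_iff.mpr c2.symm)
    have hvx : v ∈ Subgroup.centralizer ({x i} : Set G) := by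
      refine (sup_le ?_ ?_ : Subgroup.zpowers (a j) ⊔ Subgroup.zpowers (x j) ≤ _) hv
      · exact (Subgroup.zpowers_le).mpr (Subgroup.mem_centralizer_singleton_iff.mpr c3)
      · exact (Subgroup.zpowers_le).mpr (Subgroup.mem_centralizer_singleton_iff.mpr c4.symm)
    have huv : u ∈ Subgroup.centralizer ({v} : Set G) := by
      refine (sup_le ?_ ?_ : Subgroup.zpowers (a i) ⊔ Subgroup.zpowers (x i) ≤ _) hu
      · exact (Subgroup.zpowers_le).mpr (Subgroup.mem_centralizer_singleton_iff.mpr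
          (Subgroup.mem_centralizer_singleton_iff.mp hva).symm)
      · exact (Subgroup.zpowers_le).mpr (Subgroup.mem_centralizer_singleton_iff.mpr
          (Subgroup.mem_centralizer_singleton_iff.mp hvx).symm)
    exact Subgroup.mem_centralizer_singleton_iff.mp huv

end Cfsg.Agent.S1349
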