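import Cfsg.Statements.S1396
import Cfsg.Agent.S1302
import Cfsg.Agent.S0629
import Cfsg.Agent.S0125
import Cfsg.Agent.Lib.Helper9.Cores
import Cfsg.Agent.Lib.Lead.PSolvOfSolv

set_option autoImplicit false
open Cfsg

namespace Cfsg.Agent.S1396

/-- a self-centralizing normal abelian subgroup of a Sylow `p`-subgroup contains every `p`-element of its
centralizer -/
theorem scn_full {G : Type*} [Group G] [Finite G] {p : ℕ} [Fact p.Prime] (P : Sylow p G)
    (B : Subgroup G) (hBP : B ≤ (P : Subgroup G))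
    (hBn' : (P : Subgroup G) ≤ Subgroup.normalizer (B : Set G))
    (hBc : (P : Subgroup G) ⊓ Subgroup.centralizer (B : Set G) = B) (hBa : IsMulCommutative B) :
    ∀ x ∈ Subgroup.centralizer (B : Set G), IsPGroup p (Subgroup.zpowers x) → x ∈ B := by
  have hBp : IsPGroup p B := P.isPGroup'.to_le hBP
  intro x hx hxp
  obtain ⟨H, hHC, hHcop, hCH, hHB, hHBsup⟩ := Cfsg.Agent.S0125.result P B hBP hBn' hBc
  have hBC : B ≤ Subgroup.centralizer (B : Set G) := by
    intro b hb
    rw [Subgroup.mem_centralizer_iff]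
    intro c hc
    exact congrArg Subtype.val (hBa.is_comm.comm ⟨c, hc⟩ ⟨b, hb⟩)
  have hBN : B ≤ Subgroup.normalizer (H : Set G) := hBC.trans hCH
  have hxs : x ∈ ((H ⊔ B : Subgroup G) : Set G) := by rw [hHBsup]; exact hx
  rw [Subgroup.coe_mul_of_right_le_normalizer_left H B hBN] at hxs
  obtain ⟨h, hh, b, hb, rfl⟩ := hxs
  obtain ⟨k, hk⟩ := hxp ⟨h * b, Subgroup.mem_zpowers _⟩
  obtain ⟨m, hm⟩ := hBp ⟨b, hb⟩
  have hk' : (h * b) ^ p ^ k = 1 := by simpa using congrArg Subtype.val hk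
  have hm' : b ^ p ^ m = 1 := by simpa using congrArg Subtype.val hm
  have hcb : Commute b (h * b) := (Subgroup.mem_centralizer_iff.mp hx) b hb
  have hcomm : Commute (h * b) b⁻¹ := hcb.symm.inv_right
  have e1 : (h * b) ^ p ^ (k + m) = 1 := by rw [pow_add, pow_mul, hk', one_pow]
  have e2 : b ^ p ^ (k + m) = 1 := by rw [pow_add, pow_mul', hm', one_pow]
  have hpow : h ^ p ^ (k + m) = 1 := by
    have h7 : h = (h * b) * b⁻¹ := by group
    calc h ^ p ^ (k + m) = ((h * b) * b⁻¹) ^ p ^ (k + m) := by rw [← h7]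
      _ = (h * b) ^ p ^ (k + m) * (b⁻¹) ^ p ^ (k + m) := hcomm.mul_pow _
      _ = 1 := by rw [e1, inv_pow, e2, inv_one, one_mul]
  have ho1 : orderOf h ∣ p ^ (k + m) := orderOf_dvd_of_pow_eq_one hpow
  have ho2 : orderOf h ∣ Nat.card H := Subgroup.orderOf_dvd_natCard H hh
  have hc : Nat.Coprime (Nat.card H) (p ^ (k + m)) := Nat.Coprime.pow_right _ hHcop
  have ho3 : orderOf h = 1 := (Nat.Coprime.coprime_dvd_left ho2 hc).eq_one_of_dvd ho1
  have h1 : h = 1 := orderOf_eq_one_iff.mp ho3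
  show h * b ∈ B
  rw [h1, one_mul]
  exact hb

/-- for `n = p ^ m` with `m ≠ 0`: the primes of `k` avoid `n` exactly when `k` is prime to `p` -/
theorem primes_iff_coprime {p : ℕ} (hp : p.Prime) {n m : ℕ} (hn : n = p ^ m) (hm : m ≠ 0) (k : ℕ) :
    (∀ r : ℕ, r.Prime → r ∣ k → r ∈ Cfsg.primesNotDvd n) ↔ k.Coprime p := by
  constructor
  · intro h
    apply Nat.Coprime.symm
    rw [Nat.Prime.coprime_iff_not_dvd hp]
    intro hpk
    have h1 := (h p hp hpk).2
    exact h1 (hn ▸ dvd_pow_self p hm)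
  · intro h r hr hrk
    refine ⟨hr, ?_⟩
    intro hrn
    rw [hn] at hrn
    have h1 : r = p := (Nat.prime_dvd_prime_iff_eq hr hp).mp (hr.dvd_of_dvd_pow hrn)
    rw [h1] at hrk
    exact hp.one_lt.ne' (Nat.Coprime.eq_one_of_dvd h.symm hrk)

/-- Let G be a minimal simple group of odd order, p a prime dividing the order of G and A an abelian p-subgroup. Suppose either (1) A consists exactly of the elements x of C_G(A) with x^p = 1, and every proper subgroup of G has p-length at most one, or (2) A is normal and self-centralizing in some Sylow p-subgroup of G and has rank at least 2. Then A satisfies the transitivity hypothesis. -/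
theorem result {G : Type*} [Group G] [Finite G] (hG : Cfsg.IsMinSimpleOddOrder G)
    (p : ℕ) [Fact p.Prime] (hp : p ∣ Nat.card G) (A : Subgroup G) (hAp : IsPGroup p A) (hAc : IsMulCommutative A)
    (h : (∀ x ∈ Subgroup.centralizer (A : Set G), x ^ p = 1 ↔ x ∈ A) ∧ (∀ H : Subgroup G, H ≠ ⊤ → Cfsg.PLengthLE p 1 H) ∨
      ∃ P : Sylow p G, Cfsg.IsSCN (P : Subgroup G) A ∧ ¬ Cfsg.PRankLE p 1 A) :
    Cfsg.TransitivityHypothesis A := by
  classical
  have hpP : p.Prime := Fact.out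
  obtain ⟨hodd, hsimp, hnc, hsolv⟩ := hG
  have hp2 : p ≠ 2 := by
    intro h2
    rw [h2] at hp
    exact (Nat.not_even_iff_odd.mpr hodd) (even_iff_two_dvd.mpr hp)
  -- elements of order `p` centralizing `A` lie in `A`
  have hΩ : ∀ x ∈ Subgroup.centralizer (A : Set G), orderOf x = p → x ∈ A := by
    intro x hx hxo
    rcases h with ⟨h1, _⟩ | ⟨P, hscn, _⟩
    · exact (h1 x hx).mp (hxo ▸ pow_orderOf_eq_one x)
    · apply scn_full P A hscn.1 hscn.2.1 hscn.2.2 hAc x hx
      apply IsPGroup.of_card (n := 1)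
      rw [Nat.card_zpowers, hxo, pow_one]
  have hA1 : A ≠ ⊥ := by
    intro hbot
    rcases h with ⟨h1, _⟩ | ⟨P, _, hr⟩
    · obtain ⟨x, hxo⟩ := exists_prime_orderOf_dvd_card' (G := G) p hp
      have hxc : x ∈ Subgroup.centralizer (A : Set G) := by
        rw [Subgroup.mem_centralizer_iff]
        intro a ha
        rw [hbot] at ha
        have ha1 : a = 1 := Subgroup.mem_bot.mp ha
        rw [ha1, one_mul, mul_one]
      have hxA := (h1 x hxc).mp (hxo ▸ pow_orderOf_eq_one x)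
      rw [hbot, Subgroup.mem_bot] at hxA
      rw [hxA, orderOf_one] at hxo
      exact hpP.one_lt.ne hxo
    · apply hr
      intro B _ _
      have h3 : Nat.card ↥B ≤ Nat.card ↥A := Subgroup.card_le_card_group B
      have h4 : Nat.card ↥A = 1 := by rw [hbot]; exact Subgroup.card_bot
      rw [h4] at h3
      exact h3.trans (Nat.one_le_pow _ _ hpP.pos)
  have hAtop : A ≠ ⊤ := by
    intro htop
    apply hnc
    refine ⟨⟨fun a b => ?_⟩⟩
    have ha : a ∈ A := htop ▸ Subgroup.mem_top a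
    have hb : b ∈ A := htop ▸ Subgroup.mem_top b
    exact congrArg Subtype.val (hAc.is_comm.comm ⟨a, ha⟩ ⟨b, hb⟩)
  obtain ⟨m, hm⟩ := IsPGroup.iff_card.mp hAp
  have hm0 : m ≠ 0 := by
    rintro rfl
    rw [pow_zero] at hm
    exact hA1 (Subgroup.card_eq_one.mp hm)
  refine ⟨hA1, hAtop, fun X hX hAX => ?_⟩
  have hsX : Group.IsSolvable ↥X := hsolv X hX
  obtain ⟨P₀⟩ : Nonempty (Sylow p ↥(Cfsg.pPrimePCore p ↥X)) := inferInstance
  have hcon : Cfsg.IsPConstrained p ↥X := Cfsg.Agent.S0629.result P₀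
    (Cfsg.Agent.Lib.Lead.PSolvOfSolv.isPSolvable_of_isSolvable p)
  have hcore : Cfsg.piCore (Cfsg.primesNotDvd (Nat.card A)) ↥X = Cfsg.pPrimeCore p ↥X := by
    unfold Cfsg.piCore Cfsg.pPrimeCore
    congr 1
    ext N
    simp only [Set.mem_setOf_eq]
    exact and_congr_right (fun _ => primes_iff_coprime hpP hm hm0 _)
  have hn : (Cfsg.piCore (Cfsg.primesNotDvd (Nat.card A)) ↥X).Normal := inferInstance
  apply le_antisymm
  · apply sSup_le
    intro Y hY
    obtain ⟨hYX, hYπ, hAY⟩ := hY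
    have hA'p : IsPGroup p ↥(A.subgroupOf X) := hAp.comap_subtype
    have hΩ' : ∀ x ∈ Subgroup.centralizer ((A.subgroupOf X : Subgroup ↥X) : Set ↥X),
        orderOf x = p → x ∈ A.subgroupOf X := by
      intro x hx hxo
      rw [Subgroup.mem_subgroupOf]
      apply hΩ
      · rw [Subgroup.mem_centralizer_iff]
        intro e he
        have h1 := (Subgroup.mem_centralizer_iff.mp hx) ⟨e, hAX he⟩ (Subgroup.mem_subgroupOf.mpr he)
        exact congrArg Subtype.val h1
      · rw [Subgroup.orderOf_coe]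
        exact hxo
    have hK' : ¬ p ∣ Nat.card ↥(Y.subgroupOf X) := by
      rw [Nat.card_congr (Subgroup.subgroupOfEquivOfLe hYX).toEquiv]
      have h5 : (Nat.card ↥Y).Coprime p := (primes_iff_coprime hpP hm hm0 _).mp hYπ
      intro h6
      exact hpP.one_lt.ne' (Nat.Coprime.eq_one_of_dvd h5.symm h6)
    have hA'K' : A.subgroupOf X ≤ Subgroup.normalizer ((Y.subgroupOf X : Subgroup ↥X) : Set ↥X) := by
      intro x hx
      rw [Subgroup.mem_normalizer_iff]
      intro g
      rw [Subgroup.mem_subgroupOf, Subgroup.mem_subgroupOf]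
      exact (Subgroup.mem_normalizer_iff.mp (hAY (Subgroup.mem_subgroupOf.mp hx))) g.1
    have hmain : Y.subgroupOf X ≤ Cfsg.pPrimeCore p ↥X :=
      Cfsg.Agent.S1302.result p hp2 hcon (A.subgroupOf X) inferInstance hA'p hΩ'
        (Y.subgroupOf X) hK' hA'K'
    intro y hy
    show y ∈ (Cfsg.piCore (Cfsg.primesNotDvd (Nat.card A)) ↥X).map X.subtype
    rw [hcore]
    exact Subgroup.mem_map.mpr ⟨⟨y, hYX hy⟩, hmain (Subgroup.mem_subgroupOf.mpr hy), rfl⟩
  · apply le_sSup
    refine ⟨?_, ?_, ?_⟩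
    · exact Subgroup.map_subtype_le _
    · show ∀ r : ℕ, r.Prime → r ∣ Nat.card ↥((Cfsg.piCore (Cfsg.primesNotDvd (Nat.card A)) ↥X).map
          X.subtype) → r ∈ Cfsg.primesNotDvd (Nat.card A)
      rw [Subgroup.card_subtype, hcore]
      exact (primes_iff_coprime hpP hm hm0 _).mpr (Cfsg.Agent.Lib.Helper9.pPrimeCore_coprime p ↥X)
    · intro a ha
      show a ∈ Subgroup.normalizer (((Cfsg.piCore (Cfsg.primesNotDvd (Nat.card A)) ↥X).map
          X.subtype : Subgroup G) : Set G)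
      rw [Subgroup.mem_normalizer_iff]
      intro g
      constructor
      · rintro ⟨k, hk, rfl⟩
        exact ⟨⟨a, hAX ha⟩ * k * ⟨a, hAX ha⟩⁻¹, hn.conj_mem k hk _, rfl⟩
      · rintro ⟨k, hk, hkeq⟩
        refine ⟨⟨a, hAX ha⟩⁻¹ * k * ⟨a, hAX ha⟩, ?_, ?_⟩
        · have h8 := hn.conj_mem k hk (⟨a, hAX ha⟩⁻¹)
          rwa [inv_inv] at h8
        · have h9 : (k : G) = a * g * a⁻¹ := hkeq
          show a⁻¹ * (k : G) * a = g
          rw [h9]
          group

end Cfsg.Agent.S1396
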