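import Cfsg.Statements.S1457
import Mathlib
import Cfsg.Agent.Lib.Helper5.QuadPair3
import Cfsg.Agent.Lib.Helper5.ZJClosed
import Cfsg.Agent.Lib.Helper12.Balance

set_option autoImplicit false
open Cfsg

namespace Cfsg.Agent.S1457

open scoped commutatorElement

/-- Let G be a solvable group of odd order, p a prime, S a Sylow p-subgroup of G and A an abelian subgroup of S normal in S. Then A ≤ O_{p',p}(G). -/
theorem result {G : Type*} [Group G] [Finite G] [Group.IsSolvable G] (hodd : Odd (Nat.card G)) (p : ℕ) [Fact p.Prime] (S : Sylow p G) (A : Subgroup G) (hA : A ≤ (S : Subgroup G)) (hAc : IsMulCommutative A)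
    (hAn : (S : Subgroup G) ≤ Subgroup.normalizer (A : Set G)) :
    A ≤ Cfsg.pPrimePCore p G := by
  by_cases hp2 : p = 2
  · have hS : (S : Subgroup G) = ⊥ := by
      obtain ⟨k, hk⟩ := IsPGroup.iff_card.mp S.isPGroup'
      have hdvd : Nat.card (S : Subgroup G) ∣ Nat.card G := Subgroup.card_subgroup_dvd_card _
      rw [hk, hp2] at hdvd
      rcases Nat.eq_zero_or_pos k with rfl | hkpos
      · rw [pow_zero] at hk; exact Subgroup.card_eq_one.mp hk
      · exfalso
        have h2 : 2 ∣ Nat.card G := (dvd_pow_self 2 hkpos.ne').trans hdvd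
        exact (Nat.not_even_iff_odd.mpr hodd) (even_iff_two_dvd.mpr h2)
    intro a ha
    have := hA ha
    rw [hS, Subgroup.mem_bot] at this
    rw [this]; exact Subgroup.one_mem _
  · intro a ha
    show a ∈ (pCore p (G ⧸ pPrimeCore p G)).comap (QuotientGroup.mk' (pPrimeCore p G))
    rw [Subgroup.mem_comap]
    obtain ⟨π, hπ⟩ : ∃ π : G →* G ⧸ pPrimeCore p G, π = QuotientGroup.mk' (pPrimeCore p G) :=
      ⟨_, rfl⟩
    rw [← hπ]
    have hπs : Function.Surjective π := by rw [hπ]; exact QuotientGroup.mk'_surjective _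
    have hoddq : Odd (Nat.card (G ⧸ pPrimeCore p G)) :=
      Odd.of_dvd_nat hodd (Subgroup.card_quotient_dvd_card _)
    have hst := Cfsg.Agent.Lib.Helper5.QuadPair.isNormalizerPStable_of_odd hoddq p hp2
    have hc := Cfsg.Agent.Lib.Helper12.Balance.hh_solvable (G ⧸ pPrimeCore p G) p
      (Cfsg.Agent.Lib.Helper9.pPrimeCore_quotient_eq_bot p G)
    have hQp : IsPGroup p (pCore p (G ⧸ pPrimeCore p G)) :=
      Cfsg.Agent.Lib.Helper9.pCore_isPGroup p _
    have hQS : pCore p (G ⧸ pPrimeCore p G) ≤ ((S.mapSurjective hπs : Sylow p _) : Subgroup _) :=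
      hQp.le_sylow_of_normal _
    have hVA : ∀ b ∈ pCore p (G ⧸ pPrimeCore p G), ∀ x ∈ A.map π, b * x * b⁻¹ ∈ A.map π := by
      intro b hb x hx
      have hb' := hQS hb
      rw [Sylow.coe_mapSurjective] at hb'
      obtain ⟨s, hs, rfl⟩ := hb'
      obtain ⟨a', ha', rfl⟩ := hx
      refine ⟨s * a' * s⁻¹, ?_, by simp⟩
      exact (Subgroup.mem_normalizer_iff.mp (hAn hs) a').mp ha'
    have hAc' : ∀ x ∈ A.map π, ∀ y ∈ A.map π, x * y = y * x := by
      rintro _ ⟨x, hx, rfl⟩ _ ⟨y, hy, rfl⟩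
      rw [← map_mul, ← map_mul]
      congr 1
      have := hAc.is_comm.comm (⟨x, hx⟩ : A) ⟨y, hy⟩
      exact congrArg Subtype.val this
    have hq := Cfsg.Agent.Lib.Helper5.ZJ.quad_of_normalizes (pCore p (G ⧸ pPrimeCore p G))
      (A.map π) hVA hAc' (Subgroup.mem_map_of_mem π ha)
    have h1 := Cfsg.Agent.Lib.Helper5.ZJClosed.stableOn_of_normalizer hst
      (pCore p (G ⧸ pPrimeCore p G)) hQp (π a) hq
    exact Cfsg.Agent.Lib.Helper5.ZJ.KK_le hc (Cfsg.Agent.Lib.Helper5.ZJ.mem_KK.2 h1)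

end Cfsg.Agent.S1457
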