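import Cfsg.Statements.S1462
import Mathlib
import Cfsg.Agent.Lib.Helper9.PPrimeInv
import Cfsg.Agent.Lib.Helper9.Balance

set_option autoImplicit false
open Cfsg

namespace Cfsg.Agent.S1462

/-- In a solvable group of p-length one (p odd), a p'-subgroup normalized by a maximal elementary abelian p-subgroup lies in O_{p'}(G). -/
theorem result {G : Type*} [Group G] [Finite G] [Group.IsSolvable G] (p : ℕ) [Fact p.Prime] (hp : p ≠ 2) (hpl : Cfsg.PLengthLE p 1 G) (E L : Subgroup G) (hE : Cfsg.IsElementaryAbelian p E)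
    (hEmax : ∀ B : Subgroup G, Cfsg.IsElementaryAbelian p B → E ≤ B → B = E) (hL : (Nat.card L).Coprime p) (hEL : E ≤ Subgroup.normalizer (L : Set G)) :
    L ≤ Cfsg.pPrimeCore p G := by
  classical
  have hpp : p.Prime := Fact.out
  have hlay := Cfsg.Agent.Lib.Helper9.pLayer_eq_bot_of_isSolvable p G
  have hF := Cfsg.Agent.Lib.Helper9.gfitting_quotient_eq_pCore_of_pLayer_eq_bot hlay
  have hC := Cfsg.Agent.Lib.Helper9.centralizer_gfitting_le (G ⧸ pPrimeCore p G)
  rw [hF] at hC
  have hΩ := Cfsg.Agent.Lib.Helper9.mem_of_maximal_elementaryAbelian p hE hEmax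
  have hLp : ¬ p ∣ Nat.card ↥L := fun h => (Nat.Prime.coprime_iff_not_dvd hpp).mp hL.symm h
  exact Cfsg.Agent.Lib.Helper9.le_pPrimeCore_of_invariant p hp hC E
    (Cfsg.Agent.Lib.Helper9.isPGroup_of_isElementaryAbelian hE) hΩ L hLp hEL

end Cfsg.Agent.S1462
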