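import Cfsg.Statements.S1469
import Mathlib
import Cfsg.Agent.Lib.Helper5.Puig
import Cfsg.Agent.Lib.Helper5.ZJ
import Cfsg.Agent.Lib.Helper9.Cores

set_option autoImplicit false
open Cfsg

namespace Cfsg.Agent.S1469

open Cfsg.Agent.Lib.Helper5.Puig in
theorem zpuig_normal {G : Type*} [Group G] [Finite G] [Group.IsSolvable G]
    (hodd : Odd (Nat.card G)) (p : ℕ) [Fact p.Prime] (hp : p ≠ 2)
    (hO : Cfsg.pPrimeCore p G = ⊥) (S : Sylow p G) :
    (upG (S : Subgroup G) ⊓ Subgroup.centralizer (upG (S : Subgroup G) : Set G)).Normal := by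
  obtain ⟨T, hT⟩ : ∃ T : Subgroup G, T = Cfsg.pCore p G := ⟨_, rfl⟩
  have hTn : T.Normal := by rw [hT]; infer_instance
  have hTS : T ≤ (S : Subgroup G) := by
    rw [hT]; exact Cfsg.Agent.Lib.Helper12.SylowBasic.pCore_le_sylow S
  have hTp : IsPGroup p T := S.isPGroup'.to_le hTS
  obtain ⟨LS, hLS⟩ : ∃ L : Subgroup G, L = upG (S : Subgroup G) := ⟨_, rfl⟩
  obtain ⟨LT, hLT⟩ : ∃ L : Subgroup G, L = upG T := ⟨_, rfl⟩
  rw [← hLS]
  have hLTS : LT ≤ LS := by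
    rw [hLT, hLS, hT]
    exact le_iInf (fun n => (iInf_le _ n).trans (seq_compare hodd p hp hO S n).2)
  have hLTn : LT.Normal := by rw [hLT]; exact upG_normal T
  have hLSS : LS ≤ (S : Subgroup G) := by rw [hLS]; exact upG_le _
  have hLTT : LT ≤ T := by rw [hLT]; exact upG_le _
  obtain ⟨Z, hZ⟩ : ∃ Z : Subgroup G, Z = LS ⊓ Subgroup.centralizer (LS : Set G) := ⟨_, rfl⟩
  obtain ⟨Y, hY⟩ : ∃ Y : Subgroup G, Y = LT ⊓ Subgroup.centralizer (LT : Set G) := ⟨_, rfl⟩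
  rw [← hZ]
  have hZL : Z ≤ LS := by rw [hZ]; exact inf_le_left
  have hZC : Z ≤ Subgroup.centralizer (LS : Set G) := by rw [hZ]; exact inf_le_right
  have hZc : ∀ x ∈ Z, ∀ y ∈ Z, x * y = y * x := fun x hx y hy =>
    Subgroup.mem_centralizer_iff.mp (hZC hy) x (hZL hx)
  have hcentT : T ⊓ Subgroup.centralizer (LT : Set G) ≤ LT := by
    rw [hLT]; exact cent_upG p T hTp
  have hZT : Z ≤ T := by
    have h1 := (Cfsg.Agent.S1465.result hodd p hp LT (hTp.to_le hLTT) {Z} (by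
      intro B hB
      rw [Set.mem_singleton_iff] at hB
      rw [hB]
      refine ⟨⟨⟨fun a b => Subtype.ext (hZc a.1 a.2 b.1 b.2)⟩⟩,
        S.isPGroup'.to_le (hZL.trans hLSS), ?_⟩
      apply le_normalizer_of_conj
      intro x hx z hz
      have hxz : x * z = z * x := Subgroup.mem_centralizer_iff.mp (hZC hz) x (hLTS hx)
      have e : x * z * x⁻¹ = z := by rw [hxz]; group
      rw [e]; exact hz)).2 hO (by rw [← hT]; exact hcentT)
    rw [sSup_singleton, ← hT] at h1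
    exact h1
  have hZY : Z ≤ Y := by
    intro z hz
    have hzC : z ∈ Subgroup.centralizer (LT : Set G) :=
      Subgroup.centralizer_le (SetLike.coe_subset_coe.mpr hLTS) (hZC hz)
    rw [hY]
    exact Subgroup.mem_inf.mpr ⟨hcentT (Subgroup.mem_inf.mpr ⟨hZT hz, hzC⟩), hzC⟩
  have hYn : Y.Normal := by
    rw [hY]; infer_instance
  have hYT : Y ≤ T := by rw [hY]; exact inf_le_left.trans hLTT
  have hYc : ∀ x ∈ Y, ∀ y ∈ Y, x * y = y * x := by
    intro x hx y hy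
    rw [hY] at hx hy
    exact Subgroup.mem_centralizer_iff.mp (Subgroup.mem_inf.mp hy).2 x (Subgroup.mem_inf.mp hx).1
  have hYlow : Y ≤ lowG (S : Subgroup G) := by
    have h2 : Y ≤ seqG (S : Subgroup G) (2 * 1) := by
      show Y ≤ stepG (S : Subgroup G) (seqG (S : Subgroup G) 1)
      apply le_sSup
      refine ⟨hYT.trans hTS, ⟨⟨fun a b => Subtype.ext (hYc a.1 a.2 b.1 b.2)⟩⟩, ?_⟩
      rw [Subgroup.normalizer_eq_top_iff.mpr hYn]; exact le_top
    exact h2.trans (le_iSup (fun n => seqG (S : Subgroup G) (2 * n)) 1)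
  have hLSK : LS ≤ Cfsg.Agent.Lib.Helper5.ZJ.KK p Y := by
    have h1 := (Cfsg.Agent.S1465.result hodd p hp Y (hTp.to_le hYT)
      {A : Subgroup G | A ≤ (S : Subgroup G) ∧ IsMulCommutative A ∧
        lowG (S : Subgroup G) ≤ Subgroup.normalizer (A : Set G)}
      (fun B hB => ⟨hB.2.1, S.isPGroup'.to_le hB.1, hYlow.trans hB.2.2⟩)).1
    rw [Subgroup.map_le_iff_le_comap] at h1
    have h2 : LS = stepG (S : Subgroup G) (lowG (S : Subgroup G)) := by rw [hLS, stepG_lowG]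
    rw [h2]; exact h1
  obtain ⟨S₁, hS₁⟩ : ∃ S₁ : Subgroup G,
    S₁ = (S : Subgroup G) ⊓ Cfsg.Agent.Lib.Helper5.ZJ.KK p Y := ⟨_, rfl⟩
  have hS₁S : S₁ ≤ (S : Subgroup G) := by rw [hS₁]; exact inf_le_left
  have hup : upG S₁ = LS := by
    rw [hLS]
    apply upG_eq_of_le _ hS₁S
    rw [hS₁, ← hLS]; exact le_inf hLSS hLSK
  have hKn := Cfsg.Agent.Lib.Helper5.ZJ.KK_normal p Y
  constructor
  intro z hz g
  obtain ⟨c, hc, hcS⟩ := Cfsg.Agent.Lib.Helper5.ZJ.exists_conj_le_sylow S Y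
    (S₁.map (MulAut.conj g).toMonoidHom) ((S.isPGroup'.to_le hS₁S).map _) (by
      rintro _ ⟨s, hs, rfl⟩
      have hsK : s ∈ Cfsg.Agent.Lib.Helper5.ZJ.KK p Y := by
        rw [hS₁] at hs; exact (Subgroup.mem_inf.mp hs).2
      exact hKn.conj_mem s hsK g)
  have hmap : S₁.map (MulAut.conj (c⁻¹ * g)).toMonoidHom = S₁ := by
    apply Subgroup.eq_of_le_of_card_ge
    · rintro _ ⟨s, hs, rfl⟩
      have hs' : s ∈ (S : Subgroup G) ⊓ Cfsg.Agent.Lib.Helper5.ZJ.KK p Y := by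
        rw [← hS₁]; exact hs
      rw [hS₁]
      refine Subgroup.mem_inf.mpr ⟨?_, hKn.conj_mem s (Subgroup.mem_inf.mp hs').2 _⟩
      have h1 := hcS (g * s * g⁻¹) ⟨s, hs, rfl⟩
      have e : (MulAut.conj (c⁻¹ * g)).toMonoidHom s = c⁻¹ * (g * s * g⁻¹) * c := by
        show c⁻¹ * g * s * (c⁻¹ * g)⁻¹ = _
        group
      rw [e]; exact h1
    · rw [Subgroup.card_map_of_injective (MulAut.conj (c⁻¹ * g)).injective]
  have hLmap : LS.map (MulAut.conj (c⁻¹ * g)).toMonoidHom = LS := by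
    rw [← hup, map_upG _ S₁ (conj_inj S₁ _), hmap]
  have hZmap : Z.map (MulAut.conj (c⁻¹ * g)).toMonoidHom = Z := by
    rw [hZ, map_zg _ LS LS le_rfl (conj_inj LS _), hLmap]
  have h1 : c⁻¹ * g * z * (c⁻¹ * g)⁻¹ ∈ Z := by
    have h2 : c⁻¹ * g * z * (c⁻¹ * g)⁻¹ ∈ Z.map (MulAut.conj (c⁻¹ * g)).toMonoidHom :=
      ⟨z, hz, rfl⟩
    rw [hZmap] at h2; exact h2
  have h3 := Subgroup.mem_centralizer_iff.mp hc _ (hZY h1)
  have e : g * z * g⁻¹ = c * (c⁻¹ * g * z * (c⁻¹ * g)⁻¹) * c⁻¹ := by group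
  rw [e, ← h3]
  have e2 : c⁻¹ * g * z * (c⁻¹ * g)⁻¹ * c * c⁻¹ = c⁻¹ * g * z * (c⁻¹ * g)⁻¹ := by group
  rw [e2]; exact h1

/-- Let p be an odd prime, G a solvable group of odd order and S a Sylow p-subgroup, and let Z be the centre of the Puig subgroup L(S), viewed inside G. Then G is generated by O_{p'}(G) and N_G(Z); and if O_{p'}(G) = 1 then Z is normal in G. -/
theorem result {G : Type*} [Group G] [Finite G] [Group.IsSolvable G] (hodd : Odd (Nat.card G)) (p : ℕ) [Fact p.Prime] (hp : p ≠ 2) (S : Sylow p G) :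
    Cfsg.pPrimeCore p G ⊔ Subgroup.normalizer ((((Subgroup.center ↥(Cfsg.puigSubgroup ↥(S : Subgroup G))).map (Cfsg.puigSubgroup ↥(S : Subgroup G)).subtype).map (S : Subgroup G).subtype : Subgroup G) : Set G) = ⊤ ∧
      (Cfsg.pPrimeCore p G = ⊥ → (((Subgroup.center ↥(Cfsg.puigSubgroup ↥(S : Subgroup G))).map (Cfsg.puigSubgroup ↥(S : Subgroup G)).subtype).map (S : Subgroup G).subtype).Normal) := by
  rw [Cfsg.Agent.Lib.Helper5.Puig.zpuig_eq]
  refine ⟨?_, fun hO => zpuig_normal hodd p hp hO S⟩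
  have hNc : (Nat.card (Cfsg.pPrimeCore p G)).Coprime p :=
    Cfsg.Agent.Lib.Helper9.pPrimeCore_coprime p G
  have hinj : ∀ a ∈ (S : Subgroup G), ∀ b ∈ (S : Subgroup G),
      QuotientGroup.mk' (Cfsg.pPrimeCore p G) a = QuotientGroup.mk' (Cfsg.pPrimeCore p G) b →
      a = b := by
    intro a ha b hb h
    have h1 : a⁻¹ * b ∈ Cfsg.pPrimeCore p G := QuotientGroup.eq.mp h
    have h2 : a⁻¹ * b ∈ (S : Subgroup G) := Subgroup.mul_mem _ (Subgroup.inv_mem _ ha) hb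
    have h3 : (S : Subgroup G) ⊓ Cfsg.pPrimeCore p G = ⊥ := (Subgroup.disjoint_of_coprime_natCard (by
      obtain ⟨k, hk⟩ := IsPGroup.iff_card.mp S.isPGroup'
      rw [hk]; exact Nat.Coprime.pow_left k hNc.symm)).eq_bot
    have h4 : a⁻¹ * b ∈ (S : Subgroup G) ⊓ Cfsg.pPrimeCore p G := Subgroup.mem_inf.mpr ⟨h2, h1⟩
    rw [h3, Subgroup.mem_bot] at h4
    exact inv_mul_eq_one.mp h4
  have hπ : Function.Surjective (QuotientGroup.mk' (Cfsg.pPrimeCore p G)) :=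
    QuotientGroup.mk'_surjective _
  have hodd' : Odd (Nat.card (G ⧸ Cfsg.pPrimeCore p G)) :=
    Odd.of_dvd_nat hodd (Subgroup.card_quotient_dvd_card _)
  have hZn := zpuig_normal hodd' p hp
    (Cfsg.Agent.Lib.Helper9.pPrimeCore_quotient_eq_bot p G) (S.mapSurjective hπ)
  rw [Sylow.coe_mapSurjective, ← Cfsg.Agent.Lib.Helper5.Puig.map_upG _ _ hinj,
    ← Cfsg.Agent.Lib.Helper5.Puig.map_zg _ (S : Subgroup G) _
      (Cfsg.Agent.Lib.Helper5.Puig.upG_le _) hinj] at hZn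
  obtain ⟨Z, hZ⟩ : ∃ Z : Subgroup G, Z = Cfsg.Agent.Lib.Helper5.Puig.upG (S : Subgroup G) ⊓
    Subgroup.centralizer (Cfsg.Agent.Lib.Helper5.Puig.upG (S : Subgroup G) : Set G) := ⟨_, rfl⟩
  rw [← hZ] at hZn ⊢
  have hZS : Z ≤ (S : Subgroup G) := by
    rw [hZ]; exact inf_le_left.trans (Cfsg.Agent.Lib.Helper5.Puig.upG_le _)
  have hMn : (Z ⊔ Cfsg.pPrimeCore p G).Normal := by
    have h1 := hZn.comap (QuotientGroup.mk' (Cfsg.pPrimeCore p G))
    rw [Subgroup.comap_map_eq, QuotientGroup.ker_mk'] at h1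
    exact h1
  obtain ⟨M, hM⟩ : ∃ M : Subgroup G, M = Z ⊔ Cfsg.pPrimeCore p G := ⟨_, rfl⟩
  rw [← hM] at hMn
  have hZM : Z ≤ M := by rw [hM]; exact le_sup_left
  have hNM : Cfsg.pPrimeCore p G ≤ M := by rw [hM]; exact le_sup_right
  have hP1 : IsPGroup p (Z.subgroupOf M) := (S.isPGroup'.to_le hZS).comap_subtype
  have hP2 : ¬ p ∣ (Z.subgroupOf M).index := by
    have h1 := Subgroup.relIndex_inf_mul_relIndex Z (Cfsg.pPrimeCore p G) (Z ⊔ Cfsg.pPrimeCore p G)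
    have h2 := Subgroup.relIndex_inf_mul_relIndex (Cfsg.pPrimeCore p G) Z (Z ⊔ Cfsg.pPrimeCore p G)
    rw [inf_of_le_left (le_sup_right : Cfsg.pPrimeCore p G ≤ Z ⊔ Cfsg.pPrimeCore p G),
      Subgroup.relIndex_sup_right] at h1
    rw [inf_of_le_left (le_sup_left : Z ≤ Z ⊔ Cfsg.pPrimeCore p G),
      inf_comm (Cfsg.pPrimeCore p G)] at h2
    have h3 : Z.relIndex (Cfsg.pPrimeCore p G) = Z.relIndex (Z ⊔ Cfsg.pPrimeCore p G) := by
      have h4 : (Cfsg.pPrimeCore p G).relIndex Z ≠ 0 := Subgroup.index_ne_zero_of_finite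
      have h5 : (Cfsg.pPrimeCore p G).relIndex Z * Z.relIndex (Cfsg.pPrimeCore p G) =
          (Cfsg.pPrimeCore p G).relIndex Z * Z.relIndex (Z ⊔ Cfsg.pPrimeCore p G) := by
        rw [h2, mul_comm, h1]
      exact Nat.eq_of_mul_eq_mul_left (Nat.pos_of_ne_zero h4) h5
    have h6 : (Z.subgroupOf M).index = Z.relIndex (Cfsg.pPrimeCore p G) := by
      rw [h3, ← hM]; rfl
    rw [h6]
    intro hdvd
    have h7 : p ∣ Nat.card (Cfsg.pPrimeCore p G) := hdvd.trans (Subgroup.relIndex_dvd_card _ _)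
    have h8 := Nat.Coprime.eq_one_of_dvd hNc.symm h7
    exact (Fact.out : p.Prime).one_lt.ne' h8
  have hF := Sylow.normalizer_sup_eq_top (hP1.toSylow hP2)
  rw [IsPGroup.toSylow_coe, Subgroup.subgroupOf_map_subtype, inf_of_le_left hZM] at hF
  rw [eq_top_iff, ← hF]
  apply sup_le le_sup_right
  rw [hM]
  exact sup_le (Subgroup.le_normalizer.trans le_sup_right) le_sup_left

end Cfsg.Agent.S1469
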