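import Cfsg.Statements.S3811
import Mathlib

set_option autoImplicit false
open Cfsg

namespace Cfsg.Agent.S3811

variable {P : Type*} [Group P]

/-- elements centralizing a set modulo a normal subgroup -/
def relCent (W : Subgroup P) [hW : W.Normal] (S : Set P) : Subgroup P where
  carrier := {x | ∀ s ∈ S, x * s * x⁻¹ * s⁻¹ ∈ W}
  one_mem' := by
    intro s _
    simp
  mul_mem' := by
    intro a b ha hb s hs
    have h1 := hW.conj_mem _ (hb s hs) a
    have h2 := W.mul_mem h1 (ha s hs)
    have e : a * b * s * (a * b)⁻¹ * s⁻¹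
        = a * (b * s * b⁻¹ * s⁻¹) * a⁻¹ * (a * s * a⁻¹ * s⁻¹) := by group
    rw [e]; exact h2
  inv_mem' := by
    intro a ha s hs
    have h1 := hW.conj_mem _ (W.inv_mem (ha s hs)) a⁻¹
    have e : a⁻¹ * s * a⁻¹⁻¹ * s⁻¹ = a⁻¹ * (a * s * a⁻¹ * s⁻¹)⁻¹ * a⁻¹⁻¹ := by group
    rw [e]; exact h1

lemma mem_relCent {W : Subgroup P} [W.Normal] {S : Set P} {x : P} :
    x ∈ relCent W S ↔ ∀ s ∈ S, x * s * x⁻¹ * s⁻¹ ∈ W := Iff.rfl

lemma comm_swap {W : Subgroup P} {a b : P} (h : a * b * a⁻¹ * b⁻¹ ∈ W) :
    b * a * b⁻¹ * a⁻¹ ∈ W := by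
  have h5 := W.inv_mem h
  have e : b * a * b⁻¹ * a⁻¹ = (a * b * a⁻¹ * b⁻¹)⁻¹ := by group
  rw [e]; exact h5

lemma mem_normalizer_fin [Finite P] {H : Subgroup P} {g : P}
    (h : ∀ x ∈ H, g * x * g⁻¹ ∈ H) : g ∈ Subgroup.normalizer (H : Set P) := by
  rw [Subgroup.mem_normalizer_iff_map_conj_eq]
  apply Subgroup.eq_of_le_of_card_ge
  · rintro _ ⟨x, hx, rfl⟩
    exact h x hx
  · rw [Subgroup.card_map_of_injective (MulAut.conj g).injective]

lemma le_of_relIndex_prime {p : ℕ} (hp : p.Prime) {E H N : Subgroup P} (hEH : E ≤ H)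
    (hHN : H ≤ N) (hidx : E.relIndex N = p) (hne : ¬ H ≤ E) : N ≤ H := by
  have h1 := Subgroup.relIndex_mul_relIndex E H N hEH hHN
  rw [hidx] at h1
  have h2 : E.relIndex H ∣ p := Dvd.intro _ h1
  rcases (Nat.dvd_prime hp).1 h2 with h3 | h3
  · exact absurd (Subgroup.relIndex_eq_one.1 h3) hne
  · rw [h3] at h1
    have h4 : H.relIndex N = 1 := Nat.eq_of_mul_eq_mul_left hp.pos (by rw [h1, mul_one])
    exact Subgroup.relIndex_eq_one.1 h4

lemma card_mul_relIndex [Finite P] {H K : Subgroup P} (h : H ≤ K) :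
    Nat.card H * H.relIndex K = Nat.card K := by
  have h1 := Subgroup.relIndex_mul_index h
  have h2 := H.card_mul_index
  have h3 := K.card_mul_index
  have hK : K.index ≠ 0 := Subgroup.index_ne_zero_of_finite
  have h4 : Nat.card H * H.relIndex K * K.index = Nat.card K * K.index := by
    rw [mul_assoc, h1, h2, h3]
  exact Nat.eq_of_mul_eq_mul_right (Nat.pos_of_ne_zero hK) h4

/-- conjugate subgroup -/
def cj (h : P) (E : Subgroup P) : Subgroup P := E.map (MulAut.conj h).toMonoidHom

lemma mem_cj {h y : P} {E : Subgroup P} : y ∈ cj h E ↔ h⁻¹ * y * h ∈ E := by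
  constructor
  · rintro ⟨x, hx, rfl⟩
    have e : h⁻¹ * ((MulAut.conj h).toMonoidHom x) * h = x := by
      simp [MulAut.conj_apply, mul_assoc]
    rw [e]; exact hx
  · intro hy
    exact ⟨h⁻¹ * y * h, hy, by simp [MulAut.conj_apply, mul_assoc]⟩

lemma card_cj [Finite P] (h : P) (E : Subgroup P) : Nat.card (cj h E) = Nat.card E :=
  Subgroup.card_map_of_injective (MulAut.conj h).injective

/-- relative softness -/
def RSoft (p : ℕ) (Z E : Subgroup P) : Prop :=
  (∀ a ∈ E, ∀ b ∈ E, a * b * a⁻¹ * b⁻¹ ∈ Z) ∧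
  (∀ x, (∀ e ∈ E, x * e * x⁻¹ * e⁻¹ ∈ Z) → x ∈ E) ∧
  E.relIndex (Subgroup.normalizer (E : Set P)) = p

lemma lemma2 [Finite P] (p : ℕ) [hp : Fact p.Prime] (hP : IsPGroup p P) (Z : Subgroup P)
    [hZ : Z.Normal] (E : Subgroup P) (hE : RSoft p Z E)
    (hN1 : Subgroup.normalizer (E : Set P) ≠ ⊤) :
    (Subgroup.normalizer (E : Set P)).relIndex
      (Subgroup.normalizer ((Subgroup.normalizer (E : Set P) : Subgroup P) : Set P)) = p := by
  classical
  obtain ⟨hs1, hs2, hs3⟩ := hE
  set N1 := Subgroup.normalizer (E : Set P) with hN1def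
  set N2 := Subgroup.normalizer (N1 : Set P) with hN2def
  have hEN1 : E ≤ N1 := Subgroup.le_normalizer
  have hN12 : N1 ≤ N2 := Subgroup.le_normalizer
  haveI : Group.IsNilpotent P := hP.isNilpotent
  have hlt : N1 < N2 := Group.normalizerCondition_of_isNilpotent N1 (lt_top_iff_ne_top.2 hN1)
  obtain ⟨g, hg2, hg1⟩ := SetLike.exists_of_lt hlt
  have hcE : Nat.card E * p = Nat.card N1 := by rw [← hs3]; exact card_mul_relIndex hEN1
  have hcjN1 : ∀ h ∈ N2, cj h E ≤ N1 := by
    intro h hh y hy
    rw [mem_cj] at hy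
    have h1 : h⁻¹ * y * h ∈ N1 := hEN1 hy
    have h2 := (Subgroup.mem_normalizer_iff.1 hh (h⁻¹ * y * h)).1 h1
    have e : h * (h⁻¹ * y * h) * h⁻¹ = y := by group
    rwa [e] at h2
  set D := N1 ⊓ relCent Z (N1 : Set P) with hDdef
  have hDE : D ≤ E := by
    intro x hx
    exact hs2 x (fun e he => hx.2 e (hEN1 he))
  have hDN1 : D ≤ N1 := inf_le_left
  have hDconj : ∀ h ∈ N2, ∀ x ∈ D, h⁻¹ * x * h ∈ D := by
    intro h hh x hx
    have hh' : h⁻¹ ∈ N2 := N2.inv_mem hh
    refine ⟨?_, ?_⟩
    · have h1 := (Subgroup.mem_normalizer_iff.1 hh' x).1 hx.1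
      simpa using h1
    · intro y hy
      have hy' : h * y * h⁻¹ ∈ N1 := (Subgroup.mem_normalizer_iff.1 hh y).1 hy
      have h1 := hx.2 _ hy'
      have h2 := hZ.conj_mem _ h1 h⁻¹
      have e : h⁻¹ * x * h * y * (h⁻¹ * x * h)⁻¹ * y⁻¹
          = h⁻¹ * (x * (h * y * h⁻¹) * x⁻¹ * (h * y * h⁻¹)⁻¹) * h⁻¹⁻¹ := by group
      rw [e]; exact h2
  have hDcj : ∀ h ∈ N2, D ≤ cj h E := by
    intro h hh x hx
    rw [mem_cj]
    exact hDE (hDconj h hh x hx)
  have hcjidx : ∀ h ∈ N2, (cj h E).relIndex N1 = p := by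
    intro h hh
    have h1 := card_mul_relIndex (hcjN1 h hh)
    rw [card_cj] at h1
    have hE0 : 0 < Nat.card E := Nat.card_pos
    exact Nat.eq_of_mul_eq_mul_left hE0 (h1.trans hcE.symm)
  have hpair : ∀ h ∈ N2, ∀ h' ∈ N2, cj h E ≠ cj h' E → cj h E ⊓ cj h' E ≤ D := by
    intro h hh h' hh' hne x hx
    have hxN : x ∈ N1 := hcjN1 h hh hx.1
    refine ⟨hxN, ?_⟩
    have key : ∀ k ∈ N2, x ∈ cj k E → cj k E ≤ relCent Z ({x} : Set P) := by
      intro k hk hxk y hy s hs
      rw [Set.mem_singleton_iff] at hs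
      subst hs
      rw [mem_cj] at hxk hy
      have h1 := hs1 _ hy _ hxk
      have h2 := hZ.conj_mem _ h1 k
      have e : y * s * y⁻¹ * s⁻¹
          = k * (k⁻¹ * y * k * (k⁻¹ * s * k) * (k⁻¹ * y * k)⁻¹ * (k⁻¹ * s * k)⁻¹) * k⁻¹ := by
        group
      rw [e]; exact h2
    have hsup : N1 ≤ cj h E ⊔ cj h' E := by
      apply le_of_relIndex_prime hp.out le_sup_left (sup_le (hcjN1 h hh) (hcjN1 h' hh'))
        (hcjidx h hh)
      intro hle
      apply hne
      have h1 : cj h' E ≤ cj h E := le_trans le_sup_right hle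
      exact (Subgroup.eq_of_le_of_card_ge h1 (by rw [card_cj, card_cj])).symm
    intro y hy
    have h3 : y ∈ relCent Z ({x} : Set P) :=
      (sup_le (key h hh hx.1) (key h' hh' hx.2)) (hsup hy)
    exact comm_swap (h3 x rfl)
  haveI : Fintype P := Fintype.ofFinite P
  have hfs : ∀ H : Subgroup P, (Finset.univ.filter (fun x => x ∈ H)).card = Nat.card H := by
    intro H
    rw [Nat.card_eq_fintype_card]
    exact (Fintype.card_subtype (fun x => x ∈ H)).symm
  have hmemfs : ∀ (H : Subgroup P) (x : P), x ∈ Finset.univ.filter (fun x => x ∈ H) ↔ x ∈ H := by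
    intro H x; simp
  set fs : Subgroup P → Finset P := fun H => Finset.univ.filter (fun x => x ∈ H) with hfsdef
  set O : Finset (Subgroup P) := (fs N2).image (fun h => cj h E) with hOdef
  have hstep1 : (fs N2).card ≤ Nat.card N1 * O.card := by
    apply Finset.card_le_mul_card_image
    intro F hF
    obtain ⟨h₀, hh₀, rfl⟩ := Finset.mem_image.1 hF
    calc (Finset.filter (fun a => cj a E = cj h₀ E) (fs N2)).card
        ≤ ((fs N1).image (fun n => h₀ * n)).card := by
          apply Finset.card_le_card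
          intro h hh
          rw [Finset.mem_filter] at hh
          rw [Finset.mem_image]
          refine ⟨h₀⁻¹ * h, ?_, by group⟩
          rw [hmemfs]
          apply mem_normalizer_fin
          intro e he
          have h1 : h * e * h⁻¹ ∈ cj h E := by
            rw [mem_cj]
            have e1 : h⁻¹ * (h * e * h⁻¹) * h = e := by group
            rw [e1]; exact he
          rw [hh.2, mem_cj] at h1
          have e2 : h₀⁻¹ * h * e * (h₀⁻¹ * h)⁻¹ = h₀⁻¹ * (h * e * h⁻¹) * h₀ := by group
          rw [e2]; exact h1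
      _ ≤ (fs N1).card := Finset.card_image_le
      _ = Nat.card N1 := hfs N1
  have hstep2 : O.card * (Nat.card E - Nat.card D) ≤ Nat.card N1 - Nat.card D := by
    have hdisj : (↑O : Set (Subgroup P)).PairwiseDisjoint (fun F => fs F \ fs D) := by
      intro F hF F' hF' hne
      obtain ⟨h, hh, rfl⟩ := Finset.mem_image.1 hF
      obtain ⟨h', hh', rfl⟩ := Finset.mem_image.1 hF'
      rw [Function.onFun, Finset.disjoint_left]
      intro x hx hx'
      rw [Finset.mem_sdiff] at hx hx'
      apply hx.2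
      rw [hmemfs] at hx hx' ⊢
      exact hpair h ((hmemfs _ _).1 hh) h' ((hmemfs _ _).1 hh') hne ⟨hx.1, hx'.1⟩
    have hcard := Finset.card_biUnion hdisj
    have hsum : ∑ F ∈ O, (fs F \ fs D).card = O.card * (Nat.card E - Nat.card D) := by
      apply Finset.sum_const_nat
      intro F hF
      obtain ⟨h, hh, rfl⟩ := Finset.mem_image.1 hF
      have hh2 : h ∈ N2 := (hmemfs _ _).1 hh
      rw [Finset.card_sdiff_of_subset, hfs, hfs, card_cj]
      intro x hx
      rw [hmemfs] at hx ⊢
      exact hDcj h hh2 hx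
    have hsub : O.biUnion (fun F => fs F \ fs D) ⊆ fs N1 \ fs D := by
      intro x hx
      obtain ⟨F, hF, hxF⟩ := Finset.mem_biUnion.1 hx
      obtain ⟨h, hh, rfl⟩ := Finset.mem_image.1 hF
      rw [Finset.mem_sdiff] at hxF ⊢
      refine ⟨?_, hxF.2⟩
      have hxF1 := hxF.1
      rw [hmemfs] at hxF1 ⊢
      exact hcjN1 h ((hmemfs _ _).1 hh) hxF1
    have h3 := Finset.card_le_card hsub
    have hDsub : fs D ⊆ fs N1 := by
      intro x hx
      rw [hmemfs] at hx ⊢
      exact hDN1 hx
    rw [hcard, hsum, Finset.card_sdiff_of_subset hDsub, hfs, hfs] at h3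
    exact h3
  have hED : ¬ E ≤ D := by
    intro hle
    apply hg1
    have h1 : g⁻¹ ∈ N1 := by
      apply mem_normalizer_fin
      intro e he
      have h2 := hDcj g hg2 (hle he)
      rw [mem_cj] at h2
      rw [inv_inv]; exact h2
    simpa using N1.inv_mem h1
  have hstep3 : Nat.card D * p ≤ Nat.card E := by
    have h1 := card_mul_relIndex hDE
    obtain ⟨n, hn⟩ := (hP.to_subgroup E).exists_card_eq
    have h2 : D.relIndex E ∣ p ^ n := by rw [← hn]; exact Subgroup.relIndex_dvd_card D E
    obtain ⟨j, -, hj⟩ := (Nat.dvd_prime_pow hp.out).1 h2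
    have hj0 : j ≠ 0 := by
      rintro rfl
      rw [pow_zero] at hj
      exact hED (Subgroup.relIndex_eq_one.1 hj)
    have h3 : p ≤ D.relIndex E := by
      rw [hj]
      calc p = p ^ 1 := (pow_one p).symm
        _ ≤ p ^ j := Nat.pow_le_pow_right hp.out.pos (Nat.one_le_iff_ne_zero.2 hj0)
    calc Nat.card D * p ≤ Nat.card D * D.relIndex E := Nat.mul_le_mul_left _ h3
      _ = Nat.card E := h1
  have hO : O.card ≤ p + 1 := by
    have hp2 := hp.out.two_le
    have hd0 : 0 < Nat.card D := Nat.card_pos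
    have hdm : Nat.card D ≤ Nat.card E := by nlinarith
    obtain ⟨r, hr⟩ := Nat.exists_eq_add_of_le hdm
    have e1 : Nat.card E - Nat.card D = r := by omega
    rw [e1, ← hcE] at hstep2
    have h4 : O.card * r + Nat.card D ≤ Nat.card E * p := by
      have : Nat.card D ≤ Nat.card E * p := by nlinarith
      omega
    by_contra hk
    push Not at hk
    have h5 : (p + 2) * r ≤ O.card * r := Nat.mul_le_mul_right r (by omega)
    rw [hr] at h4 hstep3
    have h6 : r ≤ 0 := by nlinarith
    have h7 : r = 0 := by omega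
    subst h7
    nlinarith
  have hN2card := card_mul_relIndex hN12
  have hle : N1.relIndex N2 ≤ p + 1 := by
    have h1 : Nat.card N1 * N1.relIndex N2 ≤ Nat.card N1 * O.card := by
      rw [hN2card, ← hfs N2]; exact hstep1
    have hN0 : 0 < Nat.card N1 := Nat.card_pos
    exact le_trans (Nat.le_of_mul_le_mul_left h1 hN0) hO
  obtain ⟨n, hn⟩ := (hP.to_subgroup N2).exists_card_eq
  have h2 : N1.relIndex N2 ∣ p ^ n := by rw [← hn]; exact Subgroup.relIndex_dvd_card N1 N2
  obtain ⟨a, -, ha⟩ := (Nat.dvd_prime_pow hp.out).1 h2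
  have ha0 : a ≠ 0 := by
    rintro rfl
    rw [pow_zero] at ha
    exact hg1 (Subgroup.relIndex_eq_one.1 ha hg2)
  have ha2 : a < 2 := by
    by_contra hge
    push Not at hge
    have h3 : p ^ 2 ≤ p ^ a := Nat.pow_le_pow_right hp.out.pos hge
    have hp2 := hp.out.two_le
    rw [ha] at hle
    nlinarith
  have ha1 : a = 1 := by omega
  rw [ha, ha1, pow_one]

lemma relCent_normal (W : Subgroup P) [hW : W.Normal] (S : Subgroup P) [hS : S.Normal] :
    (relCent W (S : Set P)).Normal := by
  constructor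
  intro x hx g s hs
  have hs' : g⁻¹ * s * g ∈ S := by simpa using hS.conj_mem s hs g⁻¹
  have h1 := hW.conj_mem _ (hx _ hs') g
  have e : g * x * g⁻¹ * s * (g * x * g⁻¹)⁻¹ * s⁻¹
      = g * (x * (g⁻¹ * s * g) * x⁻¹ * (g⁻¹ * s * g)⁻¹) * g⁻¹ := by group
  rw [e]; exact h1

/-- normalizer tower -/
def tw (E : Subgroup P) : ℕ → Subgroup P
  | 0 => E
  | (j+1) => Subgroup.normalizer (tw E j : Set P)

lemma tw_zero (E : Subgroup P) : tw E 0 = E := rfl

lemma tw_succ (E : Subgroup P) (j : ℕ) :
    tw E (j+1) = Subgroup.normalizer (tw E j : Set P) := rfl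

lemma tw_shift (E : Subgroup P) (j : ℕ) :
    tw (Subgroup.normalizer (E : Set P)) j = tw E (j+1) := by
  induction j with
  | zero => rfl
  | succ j ih => rw [tw_succ, ih, ← tw_succ]

lemma tw_le_succ (E : Subgroup P) (j : ℕ) : tw E j ≤ tw E (j+1) := Subgroup.le_normalizer

lemma tw_mono (E : Subgroup P) : Monotone (tw E) := monotone_nat_of_le_succ (tw_le_succ E)

lemma tw_top_succ (E : Subgroup P) (j : ℕ) (h : tw E j = ⊤) : tw E (j+1) = ⊤ := by
  have h1 := tw_le_succ E j
  rw [h] at h1
  exact top_le_iff.1 h1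

lemma tw_top_of_le (E : Subgroup P) {i j : ℕ} (hij : i ≤ j) (h : tw E i = ⊤) : tw E j = ⊤ := by
  have h1 := tw_mono E hij
  rw [h] at h1
  exact top_le_iff.1 h1

lemma ucs_succ_le (p : ℕ) (n : ℕ) (E : Subgroup P)
    (hE : RSoft p (Subgroup.upperCentralSeries P n) E) :
    Subgroup.upperCentralSeries P (n+1) ≤ E := by
  intro z hz
  apply hE.2.1
  intro e he
  have h1 := Subgroup.mem_upperCentralSeries_succ_iff.1 hz e
  rwa [commutatorElement_def] at h1

lemma dich [Finite P] (p : ℕ) [hp : Fact p.Prime] (hP : IsPGroup p P) (n : ℕ) (E : Subgroup P)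
    (hE : RSoft p (Subgroup.upperCentralSeries P n) E)
    (hN1 : Subgroup.normalizer (E : Set P) ≠ ⊤) :
    RSoft p (Subgroup.upperCentralSeries P (n+1)) E ∨
      RSoft p (Subgroup.upperCentralSeries P (n+1)) (Subgroup.normalizer (E : Set P)) := by
  classical
  have hl2 := lemma2 p hP (Subgroup.upperCentralSeries P n) E hE hN1
  have hZ'E := ucs_succ_le p n E hE
  obtain ⟨hs1, hs2, hs3⟩ := hE
  have hZZ' : Subgroup.upperCentralSeries P n ≤ Subgroup.upperCentralSeries P (n+1) :=
    Subgroup.upperCentralSeries_mono P (Nat.le_succ n)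
  by_cases hA : ∀ x, (∀ e ∈ E, x * e * x⁻¹ * e⁻¹ ∈ Subgroup.upperCentralSeries P (n+1)) → x ∈ E
  · left
    exact ⟨fun a ha b hb => hZZ' (hs1 a ha b hb), hA, hs3⟩
  · right
    push Not at hA
    obtain ⟨x, hx, hxE⟩ := hA
    have hZ'n : (Subgroup.upperCentralSeries P (n+1)).Normal := inferInstance
    have hEN1 : E ≤ Subgroup.normalizer (E : Set P) := Subgroup.le_normalizer
    have hCsN1 : relCent (Subgroup.upperCentralSeries P (n+1)) (E : Set P)
        ≤ Subgroup.normalizer (E : Set P) := by
      intro y hy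
      apply mem_normalizer_fin
      intro e he
      have h1 := hZ'E (hy e he)
      have h2 := E.mul_mem h1 he
      have e1 : y * e * y⁻¹ * e⁻¹ * e = y * e * y⁻¹ := by group
      rwa [e1] at h2
    have hECs : E ≤ relCent (Subgroup.upperCentralSeries P (n+1)) (E : Set P) :=
      fun a ha b hb => hZZ' (hs1 a ha b hb)
    have hN1Cs : Subgroup.normalizer (E : Set P)
        ≤ relCent (Subgroup.upperCentralSeries P (n+1)) (E : Set P) :=
      le_of_relIndex_prime hp.out hECs hCsN1 hs3 (fun hle => hxE (hle hx))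
    have hnil : Group.IsNilpotent P := hP.isNilpotent
    have hlt : Subgroup.normalizer (E : Set P)
        < Subgroup.normalizer ((Subgroup.normalizer (E : Set P) : Subgroup P) : Set P) :=
      Group.normalizerCondition_of_isNilpotent _ (lt_top_iff_ne_top.2 hN1)
    obtain ⟨g, hg2, hg1⟩ := SetLike.exists_of_lt hlt
    have hex : ∃ e₀ ∈ E, g * e₀ * g⁻¹ ∉ E := by
      by_contra hcon
      push Not at hcon
      exact hg1 (mem_normalizer_fin hcon)
    obtain ⟨e₀, he₀, hf₀⟩ := hex
    have hf₀N : g * e₀ * g⁻¹ ∈ Subgroup.normalizer (E : Set P) :=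
      (Subgroup.mem_normalizer_iff.1 hg2 e₀).1 (hEN1 he₀)
    have hN1Cs' : Subgroup.normalizer (E : Set P)
        ≤ relCent (Subgroup.upperCentralSeries P (n+1))
            ((Subgroup.normalizer (E : Set P) : Subgroup P) : Set P)
          ⊓ Subgroup.normalizer (E : Set P) := by
      refine le_of_relIndex_prime hp.out (le_inf ?_ hEN1) inf_le_right hs3 ?_
      · intro e he y hy
        exact comm_swap (hN1Cs hy e he)
      · intro hle
        apply hf₀
        apply hle
        refine ⟨?_, hf₀N⟩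
        intro y hy
        have hy' : g⁻¹ * y * g ∈ Subgroup.normalizer (E : Set P) := by
          have h0 := (Subgroup.mem_normalizer_iff.1 (Subgroup.inv_mem _ hg2) y).1 hy
          simpa using h0
        have h1 := comm_swap (hN1Cs hy' e₀ he₀)
        have h2 := hZ'n.conj_mem _ h1 g
        have e : g * e₀ * g⁻¹ * y * (g * e₀ * g⁻¹)⁻¹ * y⁻¹
            = g * (e₀ * (g⁻¹ * y * g) * e₀⁻¹ * (g⁻¹ * y * g)⁻¹) * g⁻¹ := by group
        rw [e]; exact h2
    refine ⟨?_, ?_, hl2⟩
    · intro a ha b hb
      exact (hN1Cs' ha).1 b hb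
    · intro y hy
      apply hCsN1
      intro e he
      exact hy e (hEN1 he)

lemma towerT [Finite P] (p : ℕ) [hp : Fact p.Prime] (hP : IsPGroup p P) :
    ∀ (k n : ℕ), Subgroup.upperCentralSeries P (n + k) = ⊤ → ∀ E : Subgroup P,
      RSoft p (Subgroup.upperCentralSeries P n) E → ∀ j, tw E j ≠ ⊤ →
        (tw E j).relIndex (tw E (j+1)) = p := by
  intro k
  induction k with
  | zero =>
    intro n hn E hE j hj
    exfalso
    apply hj
    rw [add_zero] at hn
    have hEtop : E = ⊤ := by
      rw [eq_top_iff]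
      intro x _
      apply hE.2.1
      intro e he
      rw [hn]; exact Subgroup.mem_top _
    exact top_le_iff.1 (le_trans (le_of_eq hEtop.symm) (tw_mono E (Nat.zero_le j)))
  | succ k ih =>
    intro n hn E hE j hj
    cases j with
    | zero => exact hE.2.2
    | succ j =>
      have hN1 : Subgroup.normalizer (E : Set P) ≠ ⊤ := by
        intro h
        apply hj
        exact tw_top_of_le E (i := 1) (by omega) h
      have hn' : Subgroup.upperCentralSeries P (n + 1 + k) = ⊤ := by
        rw [← hn]; congr 1; omega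
      rcases dich p hP n E hE hN1 with h | h
      · exact ih (n+1) hn' E h (j+1) hj
      · have h1 := ih (n+1) hn' _ h j (by rw [tw_shift]; exact hj)
        rwa [tw_shift, tw_shift] at h1

lemma ucs_top [Finite P] (p : ℕ) [hp : Fact p.Prime] (hP : IsPGroup p P) :
    ∃ c, ∀ n, Subgroup.upperCentralSeries P (n + c) = ⊤ := by
  have hnil : Group.IsNilpotent P := hP.isNilpotent
  refine ⟨Group.nilpotencyClass P, fun n => ?_⟩
  have h1 := Subgroup.upperCentralSeries_mono P (Nat.le_add_left (Group.nilpotencyClass P) n)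
  rw [Subgroup.upperCentralSeries_nilpotencyClass] at h1
  exact top_le_iff.1 h1

lemma towerT' [Finite P] (p : ℕ) [hp : Fact p.Prime] (hP : IsPGroup p P) (n : ℕ)
    (E : Subgroup P) (hE : RSoft p (Subgroup.upperCentralSeries P n) E) (j : ℕ)
    (hj : tw E j ≠ ⊤) : (tw E j).relIndex (tw E (j+1)) = p := by
  obtain ⟨c, hc⟩ := ucs_top p hP
  exact towerT p hP c n (hc n) E hE j hj

lemma normalizer_grow [Finite P] (p : ℕ) [hp : Fact p.Prime] (hP : IsPGroup p P)
    {H K : Subgroup P} (hHK : H ≤ K) (hne : ¬ K ≤ H) :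
    ∃ x ∈ K, x ∈ Subgroup.normalizer (H : Set P) ∧ x ∉ H := by
  have hnil : Group.IsNilpotent K := (hP.to_subgroup K).isNilpotent
  have hlt : H.subgroupOf K < ⊤ := by
    rw [lt_top_iff_ne_top]
    intro h
    exact hne (Subgroup.subgroupOf_eq_top.1 h)
  have h1 := Group.normalizerCondition_of_isNilpotent (H.subgroupOf K) hlt
  obtain ⟨x, hx1, hx2⟩ := SetLike.exists_of_lt h1
  rw [← Subgroup.subgroupOf_normalizer_eq hHK] at hx1
  exact ⟨x.1, x.2, Subgroup.mem_subgroupOf.1 hx1, fun h => hx2 (Subgroup.mem_subgroupOf.2 h)⟩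

lemma chain_step [Finite P] (p : ℕ) [hp : Fact p.Prime] (hP : IsPGroup p P) (n : ℕ)
    (E : Subgroup P) (hE : RSoft p (Subgroup.upperCentralSeries P n) E) (K : Subgroup P)
    (hEK : E ≤ K) : ∀ j, tw E j ≤ K ∨ ∃ i, K = tw E i := by
  intro j
  induction j with
  | zero => left; exact hEK
  | succ j ih =>
    rcases ih with h | h
    · by_cases hK : K ≤ tw E j
      · right; exact ⟨j, le_antisymm hK h⟩
      · left
        obtain ⟨x, hxK, hxN, hxn⟩ := normalizer_grow p hP h hK
        have hjt : tw E j ≠ ⊤ := by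
          intro ht
          apply hK
          rw [ht]; exact le_top
        have hidx := towerT' p hP n E hE j hjt
        have h1 : tw E (j+1) ≤ K ⊓ tw E (j+1) := by
          refine le_of_relIndex_prime hp.out (le_inf h (tw_le_succ E j)) inf_le_right hidx ?_
          intro hle
          exact hxn (hle ⟨hxK, hxN⟩)
        exact le_trans h1 inf_le_left
    · right; exact h

lemma tw_index [Finite P] (p : ℕ) [hp : Fact p.Prime] (hP : IsPGroup p P) (n : ℕ)
    (E : Subgroup P) (hE : RSoft p (Subgroup.upperCentralSeries P n) E) :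
    ∀ j, tw E j ≠ ⊤ → (tw E j).index * p ^ j = E.index := by
  intro j
  induction j with
  | zero => intro _; simp [tw_zero]
  | succ j ih =>
    intro hj
    have hjt : tw E j ≠ ⊤ := fun h => hj (tw_top_succ E j h)
    have hidx := towerT' p hP n E hE j hjt
    have h1 := Subgroup.relIndex_mul_index (tw_le_succ E j)
    rw [hidx] at h1
    rw [← ih hjt, ← h1, pow_succ]
    ring

lemma tw_reach_top [Finite P] (p : ℕ) [hp : Fact p.Prime] (hP : IsPGroup p P) (n : ℕ)
    (E : Subgroup P) (hE : RSoft p (Subgroup.upperCentralSeries P n) E) :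
    ∃ j, tw E j = ⊤ := by
  by_contra hcon
  push Not at hcon
  have h1 := tw_index p hP n E hE E.index (hcon _)
  have h2 : (tw E E.index).index ≠ 0 := Subgroup.index_ne_zero_of_finite
  have h3 : E.index < 2 ^ E.index := Nat.lt_two_pow_self
  have h4 : 2 ^ E.index ≤ p ^ E.index := Nat.pow_le_pow_left hp.out.two_le _
  have h5 : p ^ E.index ≤ (tw E E.index).index * p ^ E.index :=
    Nat.le_mul_of_pos_left _ (Nat.pos_of_ne_zero h2)
  omega

lemma overgroup_mem_tower [Finite P] (p : ℕ) [hp : Fact p.Prime] (hP : IsPGroup p P) (n : ℕ)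
    (E : Subgroup P) (hE : RSoft p (Subgroup.upperCentralSeries P n) E) (K : Subgroup P)
    (hEK : E ≤ K) : ∃ i, K = tw E i := by
  obtain ⟨j, hj⟩ := tw_reach_top p hP n E hE
  rcases chain_step p hP n E hE K hEK j with h | h
  · refine ⟨j, le_antisymm ?_ h⟩
    rw [hj]; exact le_top
  · exact h

lemma tw_le_normal [Finite P] (p : ℕ) [hp : Fact p.Prime] (hP : IsPGroup p P) (n : ℕ)
    (E : Subgroup P) (hE : RSoft p (Subgroup.upperCentralSeries P n) E) (M : Subgroup P)
    [hM : M.Normal] (hEM : E ≤ M) (j : ℕ) (hj : tw E j ≠ ⊤) : tw E j ≤ M := by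
  obtain ⟨k, hk⟩ := overgroup_mem_tower p hP n E hE M hEM
  have htop : tw E (k+1) = ⊤ := by
    rw [tw_succ, ← hk]; exact Subgroup.normalizer_eq_top M
  by_contra hle
  have hkj : k < j := by
    by_contra h
    push Not at h
    apply hle
    rw [hk]; exact tw_mono E h
  exact hj (tw_top_of_le E hkj htop)

lemma classU [Finite P] (p : ℕ) [hp : Fact p.Prime] (hP : IsPGroup p P) :
    ∀ (k n : ℕ), Subgroup.upperCentralSeries P (n + k) = ⊤ → ∀ (E W : Subgroup P), W.Normal →
      RSoft p (Subgroup.upperCentralSeries P n) E →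
      (∀ a ∈ E, ∀ b ∈ E, a * b * a⁻¹ * b⁻¹ ∈ W) →
      ∀ i, tw E i ≠ ⊤ → (tw E i).lowerCentralSeries (i+1) ≤ W := by
  intro k
  induction k with
  | zero =>
    intro n hn E W hW hE hEW i hi
    exfalso
    apply hi
    rw [add_zero] at hn
    have hEtop : E = ⊤ := by
      rw [eq_top_iff]
      intro x _
      apply hE.2.1
      intro e he
      rw [hn]; exact Subgroup.mem_top _
    exact top_le_iff.1 (le_trans (le_of_eq hEtop.symm) (tw_mono E (Nat.zero_le i)))
  | succ k ih =>
    intro n hn E W hW hE hEW i hi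
    cases i with
    | zero =>
      rw [Subgroup.lowerCentralSeries_succ, Subgroup.lowerCentralSeries_zero,
        Subgroup.commutator_le]
      intro a ha b hb
      rw [commutatorElement_def]
      exact hEW a ha b hb
    | succ i =>
      have hN1 : Subgroup.normalizer (E : Set P) ≠ ⊤ := by
        intro h
        apply hi
        exact tw_top_of_le E (i := 1) (by omega) h
      have hn' : Subgroup.upperCentralSeries P (n + 1 + k) = ⊤ := by
        rw [← hn]; congr 1; omega
      rcases dich p hP n E hE hN1 with h | h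
      · exact ih (n+1) hn' E W hW h hEW (i+1) hi
      · have hi' : tw (Subgroup.normalizer (E : Set P)) i ≠ ⊤ := by rw [tw_shift]; exact hi
        have h1 := ih (n+1) hn' _ (Subgroup.upperCentralSeries P (n+1)) inferInstance h h.1 i hi'
        rw [tw_shift] at h1
        rw [Subgroup.lowerCentralSeries_succ]
        have hZ'E := ucs_succ_le p n E hE
        have hC : tw E (i+1) ≤ relCent W ((Subgroup.upperCentralSeries P (n+1) : Subgroup P) : Set P) := by
          have hCn := relCent_normal W (Subgroup.upperCentralSeries P (n+1))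
          refine tw_le_normal p hP n E hE _ ?_ (i+1) hi
          intro e he z hz
          exact hEW e he z (hZ'E hz)
        calc ⁅(tw E (i+1)).lowerCentralSeries (i+1), tw E (i+1)⁆
            ≤ ⁅Subgroup.upperCentralSeries P (n+1), tw E (i+1)⁆ :=
              Subgroup.commutator_mono h1 le_rfl
          _ ≤ W := by
            rw [Subgroup.commutator_le]
            intro z hz y hy
            rw [commutatorElement_def]
            exact comm_swap (hC hy z hz)

lemma class_eq [Finite P] (p : ℕ) [hp : Fact p.Prime] (hP : IsPGroup p P) (E : Subgroup P)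
    (hE : RSoft p (Subgroup.upperCentralSeries P 0) E) (i : ℕ) (K : Subgroup P)
    [Group.IsNilpotent K] (hK : K = tw E i) (hi : tw E i ≠ ⊤) :
    Group.nilpotencyClass K = i + 1 := by
  have hEK : E ≤ K := by rw [hK]; exact tw_mono E (Nat.zero_le i)
  apply le_antisymm
  · rw [← Subgroup.lowerCentralSeries_eq_bot_iff_nilpotencyClass_le]
    obtain ⟨c, hc⟩ := ucs_top p hP
    have h1 := classU p hP c 0 (hc 0) E ⊥ inferInstance hE
      (by
        intro a ha b hb
        have := hE.1 a ha b hb
        rwa [Subgroup.upperCentralSeries_zero] at this) i hi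
    rw [← hK] at h1
    have h2 := Subgroup.top_subtype_lowerCentralSeries K (i+1)
    rw [le_bot_iff.1 h1] at h2
    exact (Subgroup.map_eq_bot_iff_of_injective _ K.subtype_injective).1 h2
  · by_contra hlt
    push Not at hlt
    have hle : Group.nilpotencyClass K ≤ i := by omega
    rw [← Subgroup.upperCentralSeries_eq_top_iff_nilpotencyClass_le] at hle
    have claim : ∀ m, ∀ x : K, x ∈ Subgroup.upperCentralSeries K (m+1) → (x : P) ∈ tw E m := by
      intro m
      induction m with
      | zero =>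
        intro x hx
        rw [Subgroup.upperCentralSeries_one, Subgroup.mem_center_iff] at hx
        apply hE.2.1
        intro e he
        have h1 := hx ⟨e, hEK he⟩
        have h2 : e * (x:P) = (x:P) * e := congrArg Subtype.val h1
        rw [← h2]
        have e1 : e * (x:P) * (x:P)⁻¹ * e⁻¹ = 1 := by group
        rw [e1]; exact Subgroup.one_mem _
      | succ m ih =>
        intro x hx
        rw [Subgroup.mem_upperCentralSeries_succ_iff] at hx
        by_cases hmK : tw E m ≤ K
        · rw [tw_succ]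
          apply mem_normalizer_fin
          intro y hy
          have h1 := ih _ (hx ⟨y, hmK hy⟩)
          have h1' : (x:P) * y * (x:P)⁻¹ * y⁻¹ ∈ tw E m := by
            simpa [commutatorElement_def] using h1
          have h2 := (tw E m).mul_mem h1' hy
          have e1 : (x:P) * y * (x:P)⁻¹ * y⁻¹ * y = (x:P) * y * (x:P)⁻¹ := by group
          rwa [e1] at h2
        · have hKm : K ≤ tw E m := by
            rcases le_total m i with h | h
            · exfalso; apply hmK; rw [hK]; exact tw_mono E h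
            · rw [hK]; exact tw_mono E h
          exact tw_le_succ E m (hKm x.2)
    cases i with
    | zero =>
      rw [Subgroup.upperCentralSeries_zero] at hle
      apply hi
      rw [eq_top_iff]
      intro x _
      show x ∈ E
      apply hE.2.1
      intro e he
      have h1 : (⟨e, hEK he⟩ : K) ∈ (⊤ : Subgroup K) := Subgroup.mem_top _
      rw [← hle, Subgroup.mem_bot] at h1
      have h2 : e = 1 := congrArg Subtype.val h1
      rw [h2]
      have e1 : x * 1 * x⁻¹ * (1:P)⁻¹ = 1 := by group
      rw [e1]; exact Subgroup.one_mem _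
    | succ m =>
      have hm : tw E m ≠ ⊤ := fun h => hi (tw_top_succ E m h)
      have hidx := towerT' p hP 0 E hE m hm
      have hle' : tw E (m+1) ≤ tw E m := by
        intro y hy
        have hyK : y ∈ K := by rw [hK]; exact hy
        exact claim m ⟨y, hyK⟩ (by rw [hle]; exact Subgroup.mem_top _)
      rw [Subgroup.relIndex_eq_one.2 hle'] at hidx
      exact hp.out.one_lt.ne hidx

/-- Let P be a finite p-group and E an abelian subgroup of P that contains its centralizer, has index p in its normalizer, and has index at least p² in P. Then the subgroups of P containing E are totally ordered by inclusion, each proper one has index p in its normalizer (so they form the normalizer tower of E, with all steps of index p), and the i-th member of the tower above E has nilpotency class i + 1 whenever it is a proper subgroup of P. -/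
theorem result {P : Type*} [Group P] [Finite P] (p : ℕ) [Fact p.Prime] (hP : IsPGroup p P)
    (E : Subgroup P) (hEab : IsMulCommutative ↥E) (hC : Subgroup.centralizer (E : Set P) ≤ E)
    (hN : (E.subgroupOf (Subgroup.normalizer (E : Set P))).index = p) (hidx : p ^ 2 ≤ E.index) :
    (∀ K L : Subgroup P, E ≤ K → E ≤ L → K ≤ L ∨ L ≤ K) ∧
      (∀ K : Subgroup P, E ≤ K → K ≠ ⊤ → (K.subgroupOf (Subgroup.normalizer (K : Set P))).index = p) ∧
      ∀ (i : ℕ) (K : Subgroup P) [Group.IsNilpotent ↥K], E ≤ K → K ≠ ⊤ → K.index * p ^ i = E.index →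
        Group.nilpotencyClass ↥K = i + 1 := by
  have hp : p.Prime := Fact.out
  have hE : RSoft p (Subgroup.upperCentralSeries P 0) E := by
    refine ⟨?_, ?_, hN⟩
    · intro a ha b hb
      rw [Subgroup.upperCentralSeries_zero, Subgroup.mem_bot]
      have hc : a * b = b * a := congrArg Subtype.val (mul_comm' (⟨a, ha⟩ : E) ⟨b, hb⟩)
      rw [hc]; group
    · intro x hx
      apply hC
      rw [Subgroup.mem_centralizer_iff]
      intro e he
      have h1 := hx e he
      rw [Subgroup.upperCentralSeries_zero, Subgroup.mem_bot] at h1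
      calc e * x = (x * e * x⁻¹ * e⁻¹)⁻¹ * (x * e) := by group
        _ = x * e := by rw [h1]; group
  refine ⟨?_, ?_, ?_⟩
  · intro K L hK hL
    obtain ⟨i, hi⟩ := overgroup_mem_tower p hP 0 E hE K hK
    obtain ⟨j, hj⟩ := overgroup_mem_tower p hP 0 E hE L hL
    rcases le_total i j with h | h
    · left; rw [hi, hj]; exact tw_mono E h
    · right; rw [hi, hj]; exact tw_mono E h
  · intro K hK hKt
    obtain ⟨i, hi⟩ := overgroup_mem_tower p hP 0 E hE K hK
    have h1 := towerT' p hP 0 E hE i (by rw [← hi]; exact hKt)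
    rw [tw_succ, ← hi] at h1
    exact h1
  · intro i K _ hEK hK hidx'
    obtain ⟨j, hj⟩ := overgroup_mem_tower p hP 0 E hE K hEK
    have hjt : tw E j ≠ ⊤ := by rw [← hj]; exact hK
    have h1 := tw_index p hP 0 E hE j hjt
    have hij : i = j := by
      rw [← hj, ← hidx'] at h1
      have hK0 : K.index ≠ 0 := Subgroup.index_ne_zero_of_finite
      have h2 := Nat.eq_of_mul_eq_mul_left (Nat.pos_of_ne_zero hK0) h1
      exact (Nat.pow_right_injective hp.two_le h2).symm
    subst hij
    exact class_eq p hP E hE i K hj hjt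

end Cfsg.Agent.S3811
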