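import Cfsg.Statements.S1783
import Mathlib
import Cfsg.Agent.S1782
import Cfsg.Agent.S1265
import Cfsg.Agent.S3811
import Cfsg.Agent.Lib.Lead.Cores

set_option autoImplicit false
open Cfsg

namespace Cfsg.Agent.S1783

variable {X : Type*} [Group X]

lemma mem_cj {A : Subgroup X} {g x : X} :
    x ∈ A.map (MulAut.conj g).toMonoidHom ↔ g⁻¹ * x * g ∈ A := by
  constructor
  · rintro ⟨a, ha, rfl⟩
    have e : g⁻¹ * ((MulAut.conj g).toMonoidHom a) * g = a := by
      simp [MulAut.conj_apply, mul_assoc]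
    rw [e]; exact ha
  · intro h
    exact ⟨g⁻¹ * x * g, h, by simp [MulAut.conj_apply, mul_assoc]⟩

lemma ti_pair (A : Subgroup X)
    (hti : ∀ h : X, A.map (MulAut.conj h).toMonoidHom = A ∨
      A.map (MulAut.conj h).toMonoidHom ⊓ A = ⊥) (g h : X) :
    A.map (MulAut.conj g).toMonoidHom = A.map (MulAut.conj h).toMonoidHom ∨
      A.map (MulAut.conj g).toMonoidHom ⊓ A.map (MulAut.conj h).toMonoidHom = ⊥ := by
  rcases hti (h⁻¹ * g) with e | e
  · left
    ext x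
    rw [mem_cj, mem_cj]
    have e1 : g⁻¹ * x * g ∈ A ↔ h⁻¹ * x * h ∈ A.map (MulAut.conj (h⁻¹ * g)).toMonoidHom := by
      rw [mem_cj]
      have : (h⁻¹ * g)⁻¹ * (h⁻¹ * x * h) * (h⁻¹ * g) = g⁻¹ * x * g := by group
      rw [this]
    rw [e1, e]
  · right
    rw [eq_bot_iff]
    intro x hx
    rw [Subgroup.mem_inf, mem_cj, mem_cj] at hx
    have h0 : h⁻¹ * x * h ∈ A.map (MulAut.conj (h⁻¹ * g)).toMonoidHom := by
      rw [mem_cj]
      have : (h⁻¹ * g)⁻¹ * (h⁻¹ * x * h) * (h⁻¹ * g) = g⁻¹ * x * g := by group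
      rw [this]; exact hx.1
    have h1 : h⁻¹ * x * h ∈ A.map (MulAut.conj (h⁻¹ * g)).toMonoidHom ⊓ A :=
      Subgroup.mem_inf.mpr ⟨h0, hx.2⟩
    rw [e, Subgroup.mem_bot] at h1
    rw [Subgroup.mem_bot]
    have : x = h * (h⁻¹ * x * h) * h⁻¹ := by group
    rw [this, h1]; group

lemma sq_mem_coatom {R : Type*} [Group R] [Finite R] (hR : IsPGroup 2 R) (M : Subgroup R)
    (hM : IsCoatom M) (r : R) : r ^ 2 ∈ M := by
  have : Fact (Nat.Prime 2) := ⟨Nat.prime_two⟩
  have hnil : Group.IsNilpotent R := hR.isNilpotent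
  have hMn : M.Normal :=
    Subgroup.NormalizerCondition.normal_of_coatom M Group.normalizerCondition_of_isNilpotent hM
  by_contra h
  have htop : M ⊔ Subgroup.zpowers (r ^ 2) = ⊤ := by
    apply hM.2
    refine lt_of_le_of_ne le_sup_left ?_
    intro e
    apply h
    rw [e]
    exact (le_sup_right : Subgroup.zpowers (r ^ 2) ≤ _) (Subgroup.mem_zpowers _)
  have hr : r ∈ M ⊔ Subgroup.zpowers (r ^ 2) := by rw [htop]; trivial
  have hq : (QuotientGroup.mk' M) r ∈ Subgroup.zpowers ((QuotientGroup.mk' M) (r ^ 2)) := by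
    have := Subgroup.mem_map_of_mem (QuotientGroup.mk' M) hr
    rw [Subgroup.map_sup, QuotientGroup.map_mk'_self, bot_sup_eq, MonoidHom.map_zpowers] at this
    exact this
  obtain ⟨k, hk⟩ := Subgroup.mem_zpowers_iff.mp hq
  set y := (QuotientGroup.mk' M) r with hy
  rw [map_pow, ← hy] at hk
  have hk' : y ^ (2 * k - 1) = 1 := by
    rw [zpow_sub, zpow_mul, zpow_one, zpow_ofNat, hk, mul_inv_cancel]
  obtain ⟨j, hj⟩ := hR r
  have hyj : y ^ (2 ^ j) = 1 := by rw [hy, ← map_pow, hj, map_one]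
  have h1 : orderOf y ∣ 2 ^ j := orderOf_dvd_of_pow_eq_one hyj
  have h2 : (orderOf y : ℤ) ∣ 2 * k - 1 := orderOf_dvd_iff_zpow_eq_one.mpr hk'
  obtain ⟨i, hi, hoi⟩ := (Nat.dvd_prime_pow Nat.prime_two).mp h1
  have hi0 : i = 0 := by
    by_contra hne
    have h3 : (2 : ℤ) ∣ 2 * k - 1 := by
      refine dvd_trans ?_ h2
      rw [hoi]
      push_cast
      exact dvd_pow_self 2 hne
    omega
  rw [hi0, pow_zero, orderOf_eq_one_iff] at hoi
  have hrM : r ∈ M := by
    rw [← QuotientGroup.eq_one_iff]; exact hoi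
  exact h (M.pow_mem hrM 2)

lemma sq_mem_frattini {R : Type*} [Group R] [Finite R] (hR : IsPGroup 2 R) (r : R) :
    r ^ 2 ∈ frattini R := by
  simp only [frattini, Order.radical, Subgroup.mem_iInf]
  intro M hM
  exact sq_mem_coatom hR M hM r

lemma frattini_ne_bot {R : Type*} [Group R] [Finite R] (hR : IsPGroup 2 R) (r : R)
    (hr : r ^ 2 ≠ 1) : frattini R ≠ ⊥ := by
  intro h
  have := sq_mem_frattini hR r
  rw [h, Subgroup.mem_bot] at this
  exact hr this

lemma conj_comm [Finite X] (A : Subgroup X) (hAa : IsMulCommutative ↥A)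
    (hti : ∀ h : X, A.map (MulAut.conj h).toMonoidHom = A ∨
      A.map (MulAut.conj h).toMonoidHom ⊓ A = ⊥)
    (a₀ : X) (ha₀ : a₀ ∈ A) (ha₀2 : a₀ ^ 2 ≠ 1)
    (P : Subgroup X) (hP : IsPGroup 2 ↥P) (hAP : A ≤ P) :
    ∀ g ∈ P, ∀ a ∈ A, ∀ a' ∈ A, (g * a * g⁻¹) * a' = a' * (g * a * g⁻¹) := by
  let Δ : Set (Subgroup ↥P) :=
    {R | ∃ g : X, R.map P.subtype = A.map (MulAut.conj g).toMonoidHom}
  have hinv : ∀ s : ↥P, ∀ R ∈ Δ, R.map (MulAut.conj s).toMonoidHom ∈ Δ := by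
    rintro s R ⟨g, hg⟩
    refine ⟨s.1 * g, ?_⟩
    ext x
    rw [mem_cj]
    have e1 : (↑s * g)⁻¹ * x * (↑s * g) = g⁻¹ * ((s : X)⁻¹ * x * s) * g := by group
    rw [e1, ← mem_cj, ← hg]
    constructor
    · intro hx
      obtain ⟨y, hy, rfl⟩ := Subgroup.mem_map.mp hx
      have hy' : y ∈ R.map (MulAut.conj s).toMonoidHom := hy
      rw [mem_cj] at hy'
      exact Subgroup.mem_map.mpr ⟨s⁻¹ * y * s, hy', by simp⟩
    · intro hx
      obtain ⟨r, hr, hrx⟩ := Subgroup.mem_map.mp hx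
      have hr' : r ∈ R := hr
      have h1 : s * r * s⁻¹ ∈ R.map (MulAut.conj s).toMonoidHom := by
        rw [mem_cj]
        have : s⁻¹ * (s * r * s⁻¹) * s = r := by group
        rw [this]; exact hr'
      refine Subgroup.mem_map.mpr ⟨s * r * s⁻¹, h1, ?_⟩
      have : (P.subtype (s * r * s⁻¹) : X) = (s : X) * (r : X) * (s : X)⁻¹ := by simp
      rw [this]
      have hrx' : (r : X) = (s : X)⁻¹ * x * s := hrx
      rw [hrx']; group
  have hΦ : ∀ R ∈ Δ, frattini ↥R ≠ ⊥ := by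
    rintro R ⟨g, hg⟩
    have h1 : g * a₀ * g⁻¹ ∈ R.map P.subtype := by
      rw [hg, mem_cj]
      have : g⁻¹ * (g * a₀ * g⁻¹) * g = a₀ := by group
      rw [this]; exact ha₀
    obtain ⟨r, hr, hrx⟩ := h1
    apply frattini_ne_bot (hP.to_subgroup R) (⟨r, hr⟩ : ↥R)
    intro h2
    have h3 : ((⟨r, hr⟩ : ↥R) ^ 2 : ↥R).1.1 = 1 := by rw [h2]; rfl
    have h4 : (r : X) ^ 2 = 1 := by simpa using h3
    have hrx' : (r : X) = g * a₀ * g⁻¹ := hrx
    rw [hrx'] at h4
    apply ha₀2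
    have : a₀ ^ 2 = g⁻¹ * (g * a₀ * g⁻¹) ^ 2 * g := by
      rw [pow_two, pow_two]; group
    rw [this, h4]; group
  have hcardΔ : ∀ R ∈ Δ, Nat.card ↥R = Nat.card ↥A := by
    rintro R ⟨g, hg⟩
    have h1 : Nat.card ↥(R.map P.subtype) = Nat.card ↥R :=
      Subgroup.card_map_of_injective P.subtype_injective
    have h2 : Nat.card ↥(A.map (MulAut.conj g).toMonoidHom) = Nat.card ↥A :=
      Subgroup.card_map_of_injective (MulAut.conj g).injective
    rw [← h1, hg, h2]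
  have hord : ∀ R ∈ Δ, ∀ T ∈ Δ, Nat.card ↥R = Nat.card ↥T := by
    intro R hR T hT
    rw [hcardΔ R hR, hcardΔ T hT]
  have hti' : ∀ R ∈ Δ, ∀ T ∈ Δ, R = T ∨ R ⊓ T = ⊥ := by
    rintro R ⟨g, hg⟩ T ⟨h, hh⟩
    rcases ti_pair A hti g h with e | e
    · left
      apply Subgroup.map_injective P.subtype_injective
      rw [hg, hh, e]
    · right
      rw [eq_bot_iff]
      intro x hx
      have h1 : (x : X) ∈ A.map (MulAut.conj g).toMonoidHom ⊓
          A.map (MulAut.conj h).toMonoidHom := by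
        refine Subgroup.mem_inf.mpr ⟨?_, ?_⟩
        · rw [← hg]; exact ⟨x, hx.1, rfl⟩
        · rw [← hh]; exact ⟨x, hx.2, rfl⟩
      rw [e, Subgroup.mem_bot] at h1
      rw [Subgroup.mem_bot]
      exact Subtype.ext h1
  have hmain := Cfsg.Agent.S1782.result hP Δ hinv hΦ hord hti'
  intro g hg a ha a' ha'
  by_cases e : A.map (MulAut.conj g).toMonoidHom = A
  · have h1 : g * a * g⁻¹ ∈ A := by
      rw [← e, mem_cj]
      have : g⁻¹ * (g * a * g⁻¹) * g = a := by group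
      rw [this]; exact ha
    exact congrArg Subtype.val (hAa.is_comm.comm ⟨g * a * g⁻¹, h1⟩ ⟨a', ha'⟩)
  · have hle : A.map (MulAut.conj g).toMonoidHom ≤ P := by
      intro x hx
      rw [mem_cj] at hx
      have : x = g * (g⁻¹ * x * g) * g⁻¹ := by group
      rw [this]
      exact P.mul_mem (P.mul_mem hg (hAP hx)) (P.inv_mem hg)
    have hR : (A.map (MulAut.conj g).toMonoidHom).subgroupOf P ∈ Δ :=
      ⟨g, Subgroup.map_subgroupOf_eq_of_le hle⟩
    have hT : A.subgroupOf P ∈ Δ := by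
      refine ⟨1, ?_⟩
      rw [Subgroup.map_subgroupOf_eq_of_le hAP]
      ext x
      rw [mem_cj]; simp
    have hne : (A.map (MulAut.conj g).toMonoidHom).subgroupOf P ≠ A.subgroupOf P := by
      intro h1
      apply e
      have h2 := congrArg (Subgroup.map P.subtype) h1
      rw [Subgroup.map_subgroupOf_eq_of_le hle, Subgroup.map_subgroupOf_eq_of_le hAP] at h2
      exact h2
    have hc := hmain _ hR _ hT hne
    have hm1 : g * a * g⁻¹ ∈ A.map (MulAut.conj g).toMonoidHom := by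
      rw [mem_cj]
      have : g⁻¹ * (g * a * g⁻¹) * g = a := by group
      rw [this]; exact ha
    have h3 := Cfsg.Agent.S1782.comm_of_commutator_eq_bot hc
      (a := (⟨g * a * g⁻¹, hle hm1⟩ : ↥P)) (b := (⟨a', hAP ha'⟩ : ↥P))
      (Subgroup.mem_subgroupOf.mpr hm1) (Subgroup.mem_subgroupOf.mpr ha')
    exact congrArg Subtype.val h3

open Cfsg.Agent.S3811 in
lemma relCent_normal (W Q : Subgroup X) [hW : W.Normal] [hQ : Q.Normal] :
    (relCent W (Q : Set X)).Normal := by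
  refine ⟨fun x hx g => ?_⟩
  intro s hs
  have hs' : g⁻¹ * s * g ∈ Q := by
    have := hQ.conj_mem s hs g⁻¹
    simpa using this
  have h1 := hx (g⁻¹ * s * g) hs'
  have h2 := hW.conj_mem _ h1 g
  have e : g * x * g⁻¹ * s * (g * x * g⁻¹)⁻¹ * s⁻¹
      = g * (x * (g⁻¹ * s * g) * x⁻¹ * (g⁻¹ * s * g)⁻¹) * g⁻¹ := by group
  rw [e]; exact h2

open Cfsg.Agent.S3811 in
lemma fixed_coset [Finite X] (Q : Subgroup X) [hQn : Q.Normal] (hQ2 : IsPGroup 2 ↥Q)
    (x : X) (hx : x ∈ relCent ((frattini ↥Q).map Q.subtype) (Q : Set X))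
    (r : ℕ) [hr : Fact r.Prime] (hr2 : r ≠ 2) (hxr : orderOf x = r)
    (q : X) (hq : q ∈ Q) :
    ∃ y ∈ Q, x * y = y * x ∧ q⁻¹ * y ∈ (frattini ↥Q).map Q.subtype := by
  have : Fact (Nat.Prime 2) := ⟨Nat.prime_two⟩
  set W : Subgroup X := (frattini ↥Q).map Q.subtype with hWdef
  have hWn : W.Normal := ConjAct.normal_of_characteristic_of_normal
  have hWQ : W ≤ Q := Subgroup.map_subtype_le _
  have hZle : Subgroup.zpowers x ≤ relCent W (Q : Set X) := Subgroup.zpowers_le.mpr hx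
  have hZ : IsPGroup r ↥(Subgroup.zpowers x) := by
    apply IsPGroup.of_card (n := 1)
    rw [Nat.card_zpowers, hxr, pow_one]
  let α : Type _ := {y : X // q⁻¹ * y ∈ W}
  have hmem : ∀ (z : ↥(Subgroup.zpowers x)) (y : α), q⁻¹ * (z.1 * y.1 * z.1⁻¹) ∈ W := by
    intro z y
    have hz := hZle z.2 q hq
    have h1 : q⁻¹ * (z.1 * q * z.1⁻¹ * q⁻¹) * q ∈ W := by
      have := hWn.conj_mem _ hz q⁻¹
      simpa using this
    have h2 : z.1 * (q⁻¹ * y.1) * z.1⁻¹ ∈ W := hWn.conj_mem _ y.2 z.1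
    have e : q⁻¹ * (z.1 * y.1 * z.1⁻¹)
        = (q⁻¹ * (z.1 * q * z.1⁻¹ * q⁻¹) * q) * (z.1 * (q⁻¹ * y.1) * z.1⁻¹) := by group
    rw [e]; exact W.mul_mem h1 h2
  letI : MulAction ↥(Subgroup.zpowers x) α :=
    { smul := fun z y => ⟨z.1 * y.1 * z.1⁻¹, hmem z y⟩
      one_smul := by
        intro y
        apply Subtype.ext
        show (1 : X) * y.1 * (1 : X)⁻¹ = y.1
        simp
      mul_smul := by
        intro z z' y
        apply Subtype.ext
        show (z.1 * z'.1) * y.1 * (z.1 * z'.1)⁻¹ = z.1 * (z'.1 * y.1 * z'.1⁻¹) * z.1⁻¹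
        group }
  have hcard : Nat.card α = Nat.card ↥W := by
    apply Nat.card_congr
    exact
      { toFun := fun y => ⟨q⁻¹ * y.1, y.2⟩
        invFun := fun w => ⟨q * w.1, by
          show q⁻¹ * (q * w.1) ∈ W
          rw [inv_mul_cancel_left]; exact w.2⟩
        left_inv := by
          intro y
          apply Subtype.ext
          show q * (q⁻¹ * y.1) = y.1
          rw [mul_inv_cancel_left]
        right_inv := by
          intro w
          apply Subtype.ext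
          show q⁻¹ * (q * w.1) = w.1
          rw [inv_mul_cancel_left] }
  have hnd : ¬ r ∣ Nat.card α := by
    rw [hcard]
    intro hd
    obtain ⟨n, hn⟩ := IsPGroup.iff_card.mp hQ2
    have h1 : Nat.card ↥W ∣ Nat.card ↥Q := Subgroup.card_dvd_of_le hWQ
    rw [hn] at h1
    have h2 : r ∣ 2 := hr.out.dvd_of_dvd_pow (dvd_trans hd h1)
    exact hr2 ((Nat.prime_dvd_prime_iff_eq hr.out Nat.prime_two).mp h2)
  obtain ⟨y, hy⟩ := hZ.nonempty_fixed_point_of_prime_not_dvd_card α hnd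
  have hfix : x * y.1 * x⁻¹ = y.1 := by
    have := hy ⟨x, Subgroup.mem_zpowers x⟩
    exact congrArg Subtype.val this
  refine ⟨y.1, ?_, ?_, y.2⟩
  · have : y.1 = q * (q⁻¹ * y.1) := by group
    rw [this]
    exact Q.mul_mem hq (hWQ y.2)
  · calc x * y.1 = x * y.1 * x⁻¹ * x := by group
      _ = y.1 * x := by rw [hfix]

open Cfsg.Agent.S3811 in
lemma odd_centralizes [Finite X] (Q : Subgroup X) [hQn : Q.Normal] (hQ2 : IsPGroup 2 ↥Q)
    (x : X) (hx : x ∈ relCent ((frattini ↥Q).map Q.subtype) (Q : Set X))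
    (r : ℕ) [hr : Fact r.Prime] (hr2 : r ≠ 2) (hxr : orderOf x = r) :
    x ∈ Subgroup.centralizer (Q : Set X) := by
  let C : Subgroup ↥Q := (Subgroup.centralizer ({x} : Set X)).subgroupOf Q
  have hsup : C ⊔ frattini ↥Q = ⊤ := by
    rw [eq_top_iff]
    intro q _
    obtain ⟨y, hyQ, hxy, hφ⟩ := fixed_coset Q hQ2 x hx r hr2 hxr q.1 q.2
    have hφ' : y⁻¹ * q.1 ∈ (frattini ↥Q).map Q.subtype := by
      have := Subgroup.inv_mem _ hφ
      have e : (q.1⁻¹ * y)⁻¹ = y⁻¹ * q.1 := by group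
      rwa [e] at this
    obtain ⟨φ, hφ1, hφ2⟩ := Subgroup.mem_map.mp hφ'
    have hq : q = (⟨y, hyQ⟩ : ↥Q) * φ := by
      apply Subtype.ext
      have hφ3 : (φ : X) = y⁻¹ * q.1 := hφ2
      show q.1 = y * (φ : X)
      rw [hφ3]; group
    rw [hq]
    apply Subgroup.mul_mem_sup _ hφ1
    show (⟨y, hyQ⟩ : ↥Q) ∈ (Subgroup.centralizer ({x} : Set X)).subgroupOf Q
    rw [Subgroup.mem_subgroupOf, Subgroup.mem_centralizer_iff]
    intro h hh
    rw [Set.mem_singleton_iff] at hh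
    subst hh
    exact hxy
  have hC : C = ⊤ := frattini_nongenerating hsup
  rw [Subgroup.mem_centralizer_iff]
  intro q hq
  have h1 : (⟨q, hq⟩ : ↥Q) ∈ C := by rw [hC]; trivial
  have h2 : q ∈ Subgroup.centralizer ({x} : Set X) := Subgroup.mem_subgroupOf.mp h1
  rw [Subgroup.mem_centralizer_iff] at h2
  exact (h2 x rfl).symm

open Cfsg.Agent.S3811 in
lemma relCent_isPGroup [Finite X] (Q : Subgroup X) [hQn : Q.Normal] (hQ2 : IsPGroup 2 ↥Q)
    (hCQ : Subgroup.centralizer (Q : Set X) ≤ Q) :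
    IsPGroup 2 ↥(relCent ((frattini ↥Q).map Q.subtype) (Q : Set X)) := by
  have : Fact (Nat.Prime 2) := ⟨Nat.prime_two⟩
  set N := relCent ((frattini ↥Q).map Q.subtype) (Q : Set X) with hN
  have hcard : Nat.card ↥N = 2 ^ (Nat.card ↥N).primeFactorsList.length := by
    apply Nat.eq_prime_pow_of_unique_prime_dvd Nat.card_pos.ne'
    intro r hr hrd
    by_contra hr2
    haveI : Fact r.Prime := ⟨hr⟩
    obtain ⟨x, hx⟩ := exists_prime_orderOf_dvd_card' r hrd
    have hx' : orderOf (x : X) = r := by rw [Subgroup.orderOf_coe, hx]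
    have hxc := odd_centralizes Q hQ2 x.1 x.2 r hr2 hx'
    have hxQ := hCQ hxc
    obtain ⟨j, hj⟩ := hQ2 ⟨x.1, hxQ⟩
    have h1 : (x : X) ^ 2 ^ j = 1 := by
      have := congrArg Subtype.val hj
      simpa using this
    have hd : orderOf (x : X) ∣ 2 ^ j := orderOf_dvd_of_pow_eq_one h1
    rw [hx'] at hd
    exact hr2 ((Nat.prime_dvd_prime_iff_eq hr Nat.prime_two).mp (hr.dvd_of_dvd_pow hd))
  exact IsPGroup.of_card hcard

lemma sq_image_sub (A : Subgroup X) (g h : X)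
    (e : A.map (MulAut.conj g).toMonoidHom = A.map (MulAut.conj h).toMonoidHom) :
    (MulAut.conj g).toMonoidHom '' ((fun a : X => a ^ 2) '' (A : Set X)) ⊆
      (MulAut.conj h).toMonoidHom '' ((fun a : X => a ^ 2) '' (A : Set X)) := by
  rintro _ ⟨_, ⟨a, ha, rfl⟩, rfl⟩
  have h1 : g * a * g⁻¹ ∈ A.map (MulAut.conj h).toMonoidHom := by
    rw [← e, mem_cj]
    have : g⁻¹ * (g * a * g⁻¹) * g = a := by group
    rw [this]; exact ha
  rw [mem_cj] at h1
  refine ⟨(h⁻¹ * (g * a * g⁻¹) * h) ^ 2, ⟨_, h1, rfl⟩, ?_⟩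
  show h * (h⁻¹ * (g * a * g⁻¹) * h) ^ 2 * h⁻¹ = g * a ^ 2 * g⁻¹
  rw [pow_two, pow_two]; group

lemma sq_closure_map (A : Subgroup X) (g h : X)
    (e : A.map (MulAut.conj g).toMonoidHom = A.map (MulAut.conj h).toMonoidHom) :
    (Subgroup.closure ((fun a : X => a ^ 2) '' (A : Set X))).map (MulAut.conj g).toMonoidHom =
      (Subgroup.closure ((fun a : X => a ^ 2) '' (A : Set X))).map
        (MulAut.conj h).toMonoidHom := by
  rw [MonoidHom.map_closure, MonoidHom.map_closure]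
  congr 1
  exact Set.Subset.antisymm (sq_image_sub A g h e) (sq_image_sub A h g e.symm)

/-- Let X be a finite group whose generalized Fitting subgroup equals its largest normal 2-subgroup Q, and let A be an abelian 2-subgroup of X such that every conjugate of A equals A or meets A trivially. Let B be the subgroup generated by the squares of the elements of A. Then B lies in Q, and if B is not an elementary abelian 2-group then the normal closure of B in X is commutative. -/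
theorem result {X : Type*} [Group X] [Finite X]
    (hX : Cfsg.generalizedFittingSubgroup X = Cfsg.pCore 2 X) (A : Subgroup X) (hA2 : IsPGroup 2 ↥A) (hAa : IsMulCommutative ↥A)
    (hti : ∀ h : X, A.map (MulAut.conj h).toMonoidHom = A ∨ A.map (MulAut.conj h).toMonoidHom ⊓ A = ⊥) :
    Subgroup.closure ((fun a : X => a ^ 2) '' (A : Set X)) ≤ Cfsg.pCore 2 X ∧
      (¬ Cfsg.IsElementaryAbelian 2 (Subgroup.closure ((fun a : X => a ^ 2) '' (A : Set X))) →
        IsMulCommutative ↥(Subgroup.normalClosure ((fun a : X => a ^ 2) '' (A : Set X)))) := by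
  have : Fact (Nat.Prime 2) := ⟨Nat.prime_two⟩
  have hQn : (Cfsg.pCore 2 X).Normal := Cfsg.Agent.Lib.Lead.Cores.pCore_normal 2
  have hQ2 : IsPGroup 2 ↥(Cfsg.pCore 2 X) := Cfsg.Agent.Lib.Lead.Cores.pCore_isPGroup 2
  have hCQ : Subgroup.centralizer ((Cfsg.pCore 2 X : Subgroup X) : Set X) ≤ Cfsg.pCore 2 X := by
    have := Cfsg.Agent.S1265.result (G := X)
    rw [hX] at this
    exact this
  have hBA : Subgroup.closure ((fun a : X => a ^ 2) '' (A : Set X)) ≤ A := by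
    rw [Subgroup.closure_le]
    rintro _ ⟨a, ha, rfl⟩
    exact A.pow_mem ha 2
  have part1 : Subgroup.closure ((fun a : X => a ^ 2) '' (A : Set X)) ≤ Cfsg.pCore 2 X := by
    rw [Subgroup.closure_le]
    rintro _ ⟨a, ha, rfl⟩
    show a ^ 2 ∈ Cfsg.pCore 2 X
    by_cases hex : ∃ a₀ ∈ A, a₀ ^ 2 ≠ 1
    · obtain ⟨a₀, ha₀, ha₀2⟩ := hex
      have hP : IsPGroup 2 ↥(Cfsg.pCore 2 X ⊔ A) := IsPGroup.to_sup_of_normal_left hQ2 hA2
      have hKC := conj_comm A hAa hti a₀ ha₀ ha₀2 (Cfsg.pCore 2 X ⊔ A) hP le_sup_right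
      have hN2 := relCent_isPGroup (Cfsg.pCore 2 X) hQ2 hCQ
      have hNn := relCent_normal ((frattini ↥(Cfsg.pCore 2 X)).map (Cfsg.pCore 2 X).subtype)
        (Cfsg.pCore 2 X)
      have hle := Cfsg.Agent.Lib.Lead.Cores.le_pCore hNn hN2
      apply hle
      intro q hq
      -- c = a q a⁻¹ q⁻¹
      have hc : a * q * a⁻¹ * q⁻¹ ∈ Cfsg.pCore 2 X :=
        (Cfsg.pCore 2 X).mul_mem (hQn.conj_mem q hq a) ((Cfsg.pCore 2 X).inv_mem hq)
      have hcomm : a * (a * q * a⁻¹ * q⁻¹) = (a * q * a⁻¹ * q⁻¹) * a := by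
        have h1 := hKC q (le_sup_left (a := Cfsg.pCore 2 X) (b := A) hq) a ha a ha
        -- (q a q⁻¹) a = a (q a q⁻¹)
        have h2 : a * (q * a * q⁻¹)⁻¹ = (q * a * q⁻¹)⁻¹ * a := by
          have this : (q * a * q⁻¹)⁻¹ * (q * a * q⁻¹ * a) * (q * a * q⁻¹)⁻¹
              = (q * a * q⁻¹)⁻¹ * (a * (q * a * q⁻¹)) * (q * a * q⁻¹)⁻¹ := by rw [h1]
          have e1 : (q * a * q⁻¹)⁻¹ * (q * a * q⁻¹ * a) * (q * a * q⁻¹)⁻¹
              = a * (q * a * q⁻¹)⁻¹ := by group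
          have e2 : (q * a * q⁻¹)⁻¹ * (a * (q * a * q⁻¹)) * (q * a * q⁻¹)⁻¹
              = (q * a * q⁻¹)⁻¹ * a := by group
          rw [e1, e2] at this
          exact this
        have e3 : a * q * a⁻¹ * q⁻¹ = a * (q * a * q⁻¹)⁻¹ := by group
        rw [e3, mul_assoc a (q * a * q⁻¹)⁻¹ a, ← h2]
      have e : a ^ 2 * q * (a ^ 2)⁻¹ * q⁻¹
          = (a * (a * q * a⁻¹ * q⁻¹) * a⁻¹) * (a * q * a⁻¹ * q⁻¹) := by
        rw [pow_two]; group
      have e' : a * (a * q * a⁻¹ * q⁻¹) * a⁻¹ = a * q * a⁻¹ * q⁻¹ := by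
        rw [hcomm]; group
      rw [e, e', ← pow_two]
      have h5 := sq_mem_frattini hQ2 (⟨a * q * a⁻¹ * q⁻¹, hc⟩ : ↥(Cfsg.pCore 2 X))
      exact Subgroup.mem_map.mpr ⟨_, h5, rfl⟩
    · push Not at hex
      rw [hex a ha]
      exact Subgroup.one_mem _
  refine ⟨part1, ?_⟩
  intro hne
  -- an element of B with nontrivial square
  have hBex : ∃ b ∈ Subgroup.closure ((fun a : X => a ^ 2) '' (A : Set X)), b ^ 2 ≠ 1 := by
    by_contra hcon
    push Not at hcon
    apply hne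
    refine ⟨⟨⟨fun x y => ?_⟩⟩, hcon⟩
    apply Subtype.ext
    have h9 := congrArg Subtype.val (hAa.is_comm.comm ⟨x.1, hBA x.2⟩ ⟨y.1, hBA y.2⟩)
    exact h9
  obtain ⟨b₀, hb₀, hb₀2⟩ := hBex
  set B : Subgroup X := Subgroup.closure ((fun a : X => a ^ 2) '' (A : Set X)) with hBdef
  have hBgQ : ∀ g : X, B.map (MulAut.conj g).toMonoidHom ≤ Cfsg.pCore 2 X := by
    intro g x hx
    rw [mem_cj] at hx
    have := hQn.conj_mem _ (part1 hx) g
    have e : g * (g⁻¹ * x * g) * g⁻¹ = x := by group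
    rwa [e] at this
  have hBgA : ∀ g : X, B.map (MulAut.conj g).toMonoidHom ≤ A.map (MulAut.conj g).toMonoidHom :=
    fun g => Subgroup.map_mono hBA
  let Δ : Set (Subgroup ↥(Cfsg.pCore 2 X)) :=
    {R | ∃ g : X, R.map (Cfsg.pCore 2 X).subtype = B.map (MulAut.conj g).toMonoidHom}
  have hinv : ∀ s : ↥(Cfsg.pCore 2 X), ∀ R ∈ Δ, R.map (MulAut.conj s).toMonoidHom ∈ Δ := by
    rintro s R ⟨g, hg⟩
    refine ⟨s.1 * g, ?_⟩
    ext x
    rw [mem_cj]
    have e1 : (↑s * g)⁻¹ * x * (↑s * g) = g⁻¹ * ((s : X)⁻¹ * x * s) * g := by group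
    rw [e1, ← mem_cj, ← hg]
    constructor
    · intro hx
      obtain ⟨y, hy, rfl⟩ := Subgroup.mem_map.mp hx
      have hy' : y ∈ R.map (MulAut.conj s).toMonoidHom := hy
      rw [mem_cj] at hy'
      exact Subgroup.mem_map.mpr ⟨s⁻¹ * y * s, hy', by simp⟩
    · intro hx
      obtain ⟨r, hr, hrx⟩ := Subgroup.mem_map.mp hx
      have hr' : r ∈ R := hr
      have h1 : s * r * s⁻¹ ∈ R.map (MulAut.conj s).toMonoidHom := by
        rw [mem_cj]
        have : s⁻¹ * (s * r * s⁻¹) * s = r := by group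
        rw [this]; exact hr'
      refine Subgroup.mem_map.mpr ⟨s * r * s⁻¹, h1, ?_⟩
      have : ((Cfsg.pCore 2 X).subtype (s * r * s⁻¹) : X) = (s : X) * (r : X) * (s : X)⁻¹ := by
        simp
      rw [this]
      have hrx' : (r : X) = (s : X)⁻¹ * x * s := hrx
      rw [hrx']; group
  have hΦ : ∀ R ∈ Δ, frattini ↥R ≠ ⊥ := by
    rintro R ⟨g, hg⟩
    have h1 : g * b₀ * g⁻¹ ∈ R.map (Cfsg.pCore 2 X).subtype := by
      rw [hg, mem_cj]
      have : g⁻¹ * (g * b₀ * g⁻¹) * g = b₀ := by group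
      rw [this]; exact hb₀
    obtain ⟨r, hr, hrx⟩ := h1
    apply frattini_ne_bot (hQ2.to_subgroup R) (⟨r, hr⟩ : ↥R)
    intro h2
    have h3 : ((⟨r, hr⟩ : ↥R) ^ 2 : ↥R).1.1 = 1 := by rw [h2]; rfl
    have h4 : (r : X) ^ 2 = 1 := by simpa using h3
    have hrx' : (r : X) = g * b₀ * g⁻¹ := hrx
    rw [hrx'] at h4
    apply hb₀2
    have : b₀ ^ 2 = g⁻¹ * (g * b₀ * g⁻¹) ^ 2 * g := by
      rw [pow_two, pow_two]; group
    rw [this, h4]; group
  have hcardΔ : ∀ R ∈ Δ, Nat.card ↥R = Nat.card ↥B := by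
    rintro R ⟨g, hg⟩
    have h1 : Nat.card ↥(R.map (Cfsg.pCore 2 X).subtype) = Nat.card ↥R :=
      Subgroup.card_map_of_injective (Cfsg.pCore 2 X).subtype_injective
    have h2 : Nat.card ↥(B.map (MulAut.conj g).toMonoidHom) = Nat.card ↥B :=
      Subgroup.card_map_of_injective (MulAut.conj g).injective
    rw [← h1, hg, h2]
  have hord : ∀ R ∈ Δ, ∀ T ∈ Δ, Nat.card ↥R = Nat.card ↥T := by
    intro R hR T hT
    rw [hcardΔ R hR, hcardΔ T hT]
  have hti' : ∀ R ∈ Δ, ∀ T ∈ Δ, R = T ∨ R ⊓ T = ⊥ := by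
    rintro R ⟨g, hg⟩ T ⟨h, hh⟩
    rcases ti_pair A hti g h with e | e
    · left
      apply Subgroup.map_injective (Cfsg.pCore 2 X).subtype_injective
      rw [hg, hh]
      exact sq_closure_map A g h e
    · right
      rw [eq_bot_iff]
      intro x hx
      have h1 : (x : X) ∈ A.map (MulAut.conj g).toMonoidHom ⊓
          A.map (MulAut.conj h).toMonoidHom := by
        refine Subgroup.mem_inf.mpr ⟨hBgA g ?_, hBgA h ?_⟩
        · rw [← hg]; exact ⟨x, hx.1, rfl⟩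
        · rw [← hh]; exact ⟨x, hx.2, rfl⟩
      rw [e, Subgroup.mem_bot] at h1
      rw [Subgroup.mem_bot]
      exact Subtype.ext h1
  have hmain := Cfsg.Agent.S1782.result hQ2 Δ hinv hΦ hord hti'
  -- pairwise commuting conjugates
  have hpair : ∀ x ∈ Group.conjugatesOfSet ((fun a : X => a ^ 2) '' (A : Set X)),
      ∀ y ∈ Group.conjugatesOfSet ((fun a : X => a ^ 2) '' (A : Set X)), Commute x y := by
    intro x hx y hy
    obtain ⟨_, ⟨a, ha, rfl⟩, hcx⟩ := Group.mem_conjugatesOfSet_iff.mp hx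
    obtain ⟨_, ⟨a', ha', rfl⟩, hcy⟩ := Group.mem_conjugatesOfSet_iff.mp hy
    obtain ⟨g, hg⟩ := isConj_iff.mp hcx
    obtain ⟨h, hh⟩ := isConj_iff.mp hcy
    have hxB : x ∈ B.map (MulAut.conj g).toMonoidHom := by
      rw [mem_cj, ← hg]
      have : g⁻¹ * (g * (fun a : X => a ^ 2) a * g⁻¹) * g = (fun a : X => a ^ 2) a := by group
      rw [this]
      exact Subgroup.subset_closure ⟨a, ha, rfl⟩
    have hyB : y ∈ B.map (MulAut.conj h).toMonoidHom := by
      rw [mem_cj, ← hh]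
      have : h⁻¹ * (h * (fun a : X => a ^ 2) a' * h⁻¹) * h = (fun a : X => a ^ 2) a' := by group
      rw [this]
      exact Subgroup.subset_closure ⟨a', ha', rfl⟩
    by_cases hx1 : x = 1
    · rw [hx1]; exact Commute.one_left y
    rcases ti_pair A hti g h with e | e
    · have h1 : g⁻¹ * x * g ∈ A := mem_cj.mp (hBgA g hxB)
      have h2 : g⁻¹ * y * g ∈ A := by
        have := hBgA h hyB
        rw [← e] at this
        exact mem_cj.mp this
      have h3 := congrArg Subtype.val (hAa.is_comm.comm ⟨_, h1⟩ ⟨_, h2⟩)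
      have h4 : (g⁻¹ * x * g) * (g⁻¹ * y * g) = (g⁻¹ * y * g) * (g⁻¹ * x * g) := h3
      show x * y = y * x
      have e1 : x * y = g * ((g⁻¹ * x * g) * (g⁻¹ * y * g)) * g⁻¹ := by group
      have e2 : y * x = g * ((g⁻¹ * y * g) * (g⁻¹ * x * g)) * g⁻¹ := by group
      rw [e1, e2, h4]
    · have hR : (B.map (MulAut.conj g).toMonoidHom).subgroupOf (Cfsg.pCore 2 X) ∈ Δ :=
        ⟨g, Subgroup.map_subgroupOf_eq_of_le (hBgQ g)⟩
      have hT : (B.map (MulAut.conj h).toMonoidHom).subgroupOf (Cfsg.pCore 2 X) ∈ Δ :=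
        ⟨h, Subgroup.map_subgroupOf_eq_of_le (hBgQ h)⟩
      have hneRT : (B.map (MulAut.conj g).toMonoidHom).subgroupOf (Cfsg.pCore 2 X) ≠
          (B.map (MulAut.conj h).toMonoidHom).subgroupOf (Cfsg.pCore 2 X) := by
        intro h1
        have h2 := congrArg (Subgroup.map (Cfsg.pCore 2 X).subtype) h1
        rw [Subgroup.map_subgroupOf_eq_of_le (hBgQ g),
          Subgroup.map_subgroupOf_eq_of_le (hBgQ h)] at h2
        have h3 : x ∈ A.map (MulAut.conj g).toMonoidHom ⊓ A.map (MulAut.conj h).toMonoidHom :=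
          Subgroup.mem_inf.mpr ⟨hBgA g hxB, hBgA h (h2 ▸ hxB)⟩
        rw [e, Subgroup.mem_bot] at h3
        exact hx1 h3
      have hc := hmain _ hR _ hT hneRT
      have h3 := Cfsg.Agent.S1782.comm_of_commutator_eq_bot hc
        (a := (⟨x, hBgQ g hxB⟩ : ↥(Cfsg.pCore 2 X))) (b := (⟨y, hBgQ h hyB⟩ : ↥(Cfsg.pCore 2 X)))
        (Subgroup.mem_subgroupOf.mpr hxB) (Subgroup.mem_subgroupOf.mpr hyB)
      exact congrArg Subtype.val h3
  have hc1 : ∀ t ∈ Group.conjugatesOfSet ((fun a : X => a ^ 2) '' (A : Set X)),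
      ∀ k ∈ Subgroup.normalClosure ((fun a : X => a ^ 2) '' (A : Set X)), Commute t k := by
    intro t ht k hk
    unfold Subgroup.normalClosure at hk
    induction hk using Subgroup.closure_induction with
    | mem u hu => exact hpair t ht u hu
    | one => exact Commute.one_right t
    | mul u v _ _ hu hv => exact hu.mul_right hv
    | inv u _ hu => exact hu.inv_right
  have hc2 : ∀ k' ∈ Subgroup.normalClosure ((fun a : X => a ^ 2) '' (A : Set X)),
      ∀ k ∈ Subgroup.normalClosure ((fun a : X => a ^ 2) '' (A : Set X)), Commute k' k := by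
    intro k' hk' k hk
    unfold Subgroup.normalClosure at hk'
    induction hk' using Subgroup.closure_induction with
    | mem u hu => exact hc1 u hu k hk
    | one => exact Commute.one_left k
    | mul u v _ _ hu hv => exact hu.mul_left hv
    | inv u _ hu => exact hu.inv_left
  exact ⟨⟨fun x y => Subtype.ext (hc2 x.1 x.2 y.1 y.2)⟩⟩

end Cfsg.Agent.S1783
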