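import Cfsg.Statements.S1896
import Mathlib
import Cfsg.Agent.Lib.Helper8.MetaAut3
import Cfsg.Agent.Lib.Helper20.Metacyc
import Cfsg.Agent.Lib.Helper18.UniqueInvolution

set_option autoImplicit false
open Cfsg

namespace Cfsg.Agent.S1896

open Cfsg.Agent.Lib.Helper8.MetaAut

/-- A finite metacyclic 2-group whose automorphism group is not a 2-group is isomorphic to the quaternion group of order 8 or to a homocyclic abelian group Z_{2^n} × Z_{2^n}. -/
theorem result {X : Type*} [Group X] [Finite X] (hX : IsPGroup 2 X)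
    (hm : Cfsg.IsMetacyclic X) (hA : ¬ IsPGroup 2 (MulAut X)) :
    Nonempty (X ≃* QuaternionGroup 2) ∨
      ∃ n : ℕ, Nonempty (X ≃* Multiplicative (ZMod (2 ^ n)) × Multiplicative (ZMod (2 ^ n))) := by
  classical
  obtain ⟨φ₀, hφ₀⟩ : ∃ φ₀ : MulAut X, ∀ k : ℕ, φ₀ ^ 2 ^ k ≠ 1 := by
    by_contra hcon
    push Not at hcon
    exact hA hcon
  have hpos : 0 < orderOf φ₀ := orderOf_pos φ₀
  obtain ⟨k, m, hodd, hkm⟩ := Nat.exists_eq_two_pow_mul_odd hpos.ne'
  obtain ⟨φ, hφ⟩ : ∃ φ, φ = φ₀ ^ 2 ^ k := ⟨_, rfl⟩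
  have hφm : φ ^ m = 1 := by rw [hφ, ← pow_mul, ← hkm, pow_orderOf_eq_one]
  have hφ1 : φ ≠ 1 := by rw [hφ]; exact hφ₀ k
  have hB : BData X φ m := ⟨inferInstance, hX, hm, hodd, hφm, hφ1⟩
  by_cases hab : ∀ x y : X, x * y = y * x
  · right
    let _ : CommGroup X := { (inferInstance : Group X) with mul_comm := hab }
    have hA' : AData X φ m := { two := hX, odd := hodd, pow := hφm, om := om_bound hm }
    obtain ⟨j, hj, hcj, hexp⟩ := hA'.top_struct hφ1
    obtain ⟨A, hAn, hAc, b, hcov⟩ := Cfsg.Agent.Lib.Helper20.Metacyc.exists_data hm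
    obtain ⟨⟨a, haA⟩, hgen⟩ := hAc.exists_generator
    refine ⟨j, homocyclic_equiv (2 ^ j) (by positivity) a b (hexp a) (hexp b) ?_ ?_⟩
    · intro g
      obtain ⟨x, hx, i, rfl⟩ := hcov g
      obtain ⟨l, hl⟩ := Subgroup.mem_zpowers_iff.mp (hgen ⟨x, hx⟩)
      refine ⟨l, i, ?_⟩
      have h1 : x = a ^ l := by
        have h2 := congrArg Subtype.val hl
        simpa using h2.symm
      rw [h1, zpow_natCast]
    · rw [hcj, ← mul_pow]; norm_num
  · left
    push Not at hab
    obtain ⟨hc8, z, hz1, hz2, hzc, hzφ, hzall⟩ := nonab_struct _ X φ m rfl hB hab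
    have hE : Set.ncard {g : X | g ^ 2 = 1} ≤ 2 := by
      have hsub : {g : X | g ^ 2 = 1} ⊆ {1, z} := by
        intro g hg
        have hg' : g * g = 1 := by rw [← pow_two]; exact hg
        rcases hzall g with h | h | h
        · left; exact h
        · right; exact h
        · exfalso; rw [hg'] at h; exact hz1 h.symm
      have h2 : Set.ncard ({1, z} : Set X) ≤ 2 := by
        have := Set.ncard_insert_le (1 : X) ({z} : Set X)
        rw [Set.ncard_singleton] at this
        exact this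
      exact (Set.ncard_le_ncard hsub (Set.toFinite _)).trans h2
    rcases Cfsg.Agent.Lib.Helper18.UniqueInvolution.cyclic_or_quaternion hX hE with hcyc | ⟨n, ⟨e⟩⟩
    · exfalso
      obtain ⟨x, y, hxy⟩ := hab
      let _ : CommGroup X := hcyc.commGroup
      exact hxy (mul_comm x y)
    · have hn : n = 1 := by
        have h1 : Nat.card X = Nat.card (QuaternionGroup (2 ^ n)) := Nat.card_congr e.toEquiv
        have : NeZero (2 ^ n) := ⟨by positivity⟩
        rw [hc8, Nat.card_eq_fintype_card, QuaternionGroup.card] at h1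
        have h2 : 2 ^ n = 2 ^ 1 := by omega
        exact Nat.pow_right_injective (le_refl 2) h2
      subst hn
      exact ⟨e⟩


end Cfsg.Agent.S1896
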