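import Cfsg.Statements.S1902
import Mathlib
import Cfsg.Agent.Lib.Helper9.PPrimeInv
import Cfsg.Agent.Lib.Helper9.Transitivity2
import Cfsg.Agent.Lib.Helper12.PSolvable
import Cfsg.Agent.Lib.Helper4.PSolv

set_option autoImplicit false
open Cfsg

namespace Cfsg.Agent.S1902

/-- p odd, G p-solvable, B ≅ E_{p²} with B = Ω₁(P) for P Sylow in C_G(b₀), b₀ ∈ B#: every B-invariant p'-subgroup of G lies in O_{p'}(G). -/
theorem result {G : Type*} [Group G] [Finite G] {p : ℕ} [Fact p.Prime] (hp : p ≠ 2)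
    (hG : Cfsg.IsPSolvable p G) (B : Subgroup G) (hB : Cfsg.IsElementaryAbelian p B) (hBc : Nat.card B = p ^ 2)
    (b₀ : G) (hb₀ : b₀ ∈ B) (hb₁ : b₀ ≠ 1) (P : Sylow p ↥(Subgroup.centralizer ({b₀} : Set G)))
    (hBP : B = Subgroup.closure {x : G | x ∈ ((P : Subgroup ↥(Subgroup.centralizer ({b₀} : Set G))).map
      (Subgroup.centralizer ({b₀} : Set G)).subtype : Subgroup G) ∧ orderOf x = p})
    (Q : Subgroup G) (hQ : ¬ p ∣ Nat.card Q) (hinv : ∀ b ∈ B, ∀ x ∈ Q, b * x * b⁻¹ ∈ Q) :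
    Q ≤ Cfsg.pPrimeCore p G := by
  classical
  have hpp : p.Prime := Fact.out
  haveI := hB.1
  have hCP := Cfsg.Agent.Lib.Helper12.PSolvable.hall_higman
    (Cfsg.Agent.Lib.Helper4.PSolv.isPSolvable_of_surjective (QuotientGroup.mk' (pPrimeCore p G))
      (QuotientGroup.mk'_surjective _) hG)
    (Cfsg.Agent.Lib.Helper9.pPrimeCore_quotient_eq_bot p G)
  have hBp := Cfsg.Agent.Lib.Helper9.isPGroup_of_isElementaryAbelian hB
  have hAQ : B ≤ Subgroup.normalizer (Q : Set G) :=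
    Cfsg.Agent.Lib.Helper9.le_normalizer_of_forall_conj_mem hinv
  refine Cfsg.Agent.Lib.Helper9.le_pPrimeCore_of_invariant p hp hCP B hBp ?_ Q hQ hAQ
  intro x hx hxo
  have hPB : ∀ y ∈ ((P : Subgroup ↥(Subgroup.centralizer ({b₀} : Set G))).map
      (Subgroup.centralizer ({b₀} : Set G)).subtype : Subgroup G), orderOf y = p → y ∈ B := by
    intro y hy hyo
    rw [hBP]
    exact Subgroup.subset_closure ⟨hy, hyo⟩
  have hxp : x ^ p = 1 := by rw [← hxo]; exact pow_orderOf_eq_one x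
  have hT := Cfsg.Agent.Lib.Helper9.isElementaryAbelian_sup_zpowers p hB hx hxp
  have hTp := Cfsg.Agent.Lib.Helper9.isPGroup_of_isElementaryAbelian hT
  have hBC : B ≤ Subgroup.centralizer ({b₀} : Set G) := by
    intro b hb
    rw [Subgroup.mem_centralizer_singleton_iff]
    exact setLike_mul_comm hb hb₀
  have hxC : x ∈ Subgroup.centralizer ({b₀} : Set G) := by
    rw [Subgroup.mem_centralizer_singleton_iff]
    exact (Subgroup.mem_centralizer_iff.mp hx b₀ hb₀).symm
  have hTC : B ⊔ Subgroup.zpowers x ≤ Subgroup.centralizer ({b₀} : Set G) := sup_le hBC (Subgroup.zpowers_le.mpr hxC)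
  have hT'p : IsPGroup p ↥((B ⊔ Subgroup.zpowers x).subgroupOf
      (Subgroup.centralizer ({b₀} : Set G))) := hTp.comap_subtype
  obtain ⟨P₁, hP₁⟩ := hT'p.exists_le_sylow
  obtain ⟨g, hg⟩ := MulAction.exists_smul_eq ↥(Subgroup.centralizer ({b₀} : Set G)) P P₁
  rw [Sylow.smul_def] at hg
  have hconj := Cfsg.Agent.Lib.Helper9.sylow_smul_map_subtype g P P₁ hg
  -- every element of `B ⊔ ⟨x⟩` is a `g`-conjugate of an element of `P'`
  have hTconj : ∀ t ∈ B ⊔ Subgroup.zpowers x,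
      ∃ y ∈ ((P : Subgroup ↥(Subgroup.centralizer ({b₀} : Set G))).map
        (Subgroup.centralizer ({b₀} : Set G)).subtype : Subgroup G),
        (g : G) * y * (g : G)⁻¹ = t := by
    intro t ht
    have h1 : t ∈ (P₁ : Subgroup ↥(Subgroup.centralizer ({b₀} : Set G))).map
        (Subgroup.centralizer ({b₀} : Set G)).subtype := ⟨⟨t, hTC ht⟩, hP₁ ht, rfl⟩
    rw [← hconj] at h1
    obtain ⟨y, hy, hyt⟩ := h1
    exact ⟨y, hy, hyt⟩
  have horder : ∀ y : G, orderOf ((g : G) * y * (g : G)⁻¹) = orderOf y := by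
    intro y
    exact orderOf_injective (MulAut.conj (g : G)).toMonoidHom (MulAut.conj (g : G)).injective y
  -- `B ≤ B^g`
  have hBle : B ≤ B.map (MulAut.conj (g : G)).toMonoidHom := by
    intro b hb
    by_cases hb1 : b = 1
    · rw [hb1]; exact Subgroup.one_mem _
    · obtain ⟨y, hy, hyb⟩ := hTconj b (le_sup_left (a := B) hb)
      have hbo : orderOf b = p := orderOf_eq_prime (hB.2 b hb) hb1
      have hyo : orderOf y = p := by rw [← horder y, hyb, hbo]
      exact ⟨y, hPB y hy hyo, hyb⟩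
  have hBeq : B = B.map (MulAut.conj (g : G)).toMonoidHom := by
    apply Subgroup.eq_of_le_of_card_ge hBle
    exact le_of_eq (Subgroup.card_map_of_injective (f := (MulAut.conj (g : G)).toMonoidHom)
      (MulAut.conj (g : G)).injective)
  obtain ⟨y, hy, hyx⟩ := hTconj x
    ((le_sup_right : Subgroup.zpowers x ≤ B ⊔ Subgroup.zpowers x) (Subgroup.mem_zpowers x))
  have hyo : orderOf y = p := by rw [← horder y, hyx, hxo]
  rw [hBeq]
  exact ⟨y, hPB y hy hyo, hyx⟩

end Cfsg.Agent.S1902
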