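import Cfsg.Statements.S1922
import Cfsg.Agent.Lib.Helper12.SylowBasic

set_option autoImplicit false
open Cfsg

namespace Cfsg.Agent.S1922

open Cfsg.Agent.Lib.Helper12.SylowBasic

theorem odd_card_of_invol {α : Type*} [Finite α] (f : α → α) (hf : ∀ a, f (f a) = a) (a₀ : α)
    (h0 : ∀ a, f a = a ↔ a = a₀) : ¬ 2 ∣ Nat.card α := by
  classical
  have := Fintype.ofFinite α
  have : Fact (Nat.Prime 2) := ⟨Nat.prime_two⟩
  have hinv : Function.Involutive f := hf
  have hf2 : (hinv.toPerm f) ^ 2 ^ 1 = 1 := by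
    ext a
    rw [pow_one, pow_two]
    exact hf a
  have h := Equiv.Perm.card_compl_support_modEq (p := 2) (n := 1) hf2
  have hfix : (hinv.toPerm f).supportᶜ = {a₀} := by
    ext a
    simp only [Finset.mem_compl, Equiv.Perm.mem_support, not_not, Finset.mem_singleton]
    exact h0 a
  rw [hfix, Finset.card_singleton, ← Nat.card_eq_fintype_card] at h
  intro h2
  have h3 : Nat.card α % 2 = 0 := Nat.mod_eq_zero_of_dvd h2
  have h4 : 1 % 2 = Nat.card α % 2 := h
  omega

/-- dihedral algebra: two involutions with product of odd order are swapped by a conjugate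
involution -/
theorem exists_invol {G : Type*} [Group G] (a b : G) (ha : a * a = 1) (hb : b * b = 1) (k : ℕ)
    (hk : Odd k) (hab : (a * b) ^ k = 1) :
    ∃ i : G, IsConj a i ∧ i * i = 1 ∧ i * a * i⁻¹ = b := by
  obtain ⟨e', he'⟩ := hk
  have ha' : a⁻¹ = a := inv_eq_of_mul_eq_one_left ha
  have hb' : b⁻¹ = b := inv_eq_of_mul_eq_one_left hb
  obtain ⟨s, hs⟩ : ∃ s, s = b * a := ⟨_, rfl⟩
  have hsk : s ^ k = 1 := by
    have e : s = a⁻¹ * (a * b) * a⁻¹⁻¹ := by rw [hs]; group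
    rw [e, conj_pow, hab]
    group
  have hconj : a * s * a⁻¹ = s⁻¹ := by
    rw [hs, mul_inv_rev, ha', hb']
    rw [mul_assoc, mul_assoc, ha, mul_one]
  have hpow : ∀ n : ℕ, a * s ^ n = (s ^ n)⁻¹ * a := by
    intro n
    have h1 : (a * s * a⁻¹) ^ n = a * s ^ n * a⁻¹ := conj_pow
    rw [hconj, inv_pow] at h1
    rw [h1]
    group
  have hpow' : ∀ n : ℕ, a * (s ^ n)⁻¹ = s ^ n * a := by
    intro n
    calc a * (s ^ n)⁻¹ = s ^ n * ((s ^ n)⁻¹ * a) * (s ^ n)⁻¹ := by group
      _ = s ^ n * (a * s ^ n) * (s ^ n)⁻¹ := by rw [hpow n]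
      _ = s ^ n * a := by group
  have hs1 : s ^ (e' + 1) * s ^ (e' + 1) = s := by
    rw [← pow_add]
    have : e' + 1 + (e' + 1) = k + 1 := by omega
    rw [this, pow_succ, hsk, one_mul]
  refine ⟨s ^ (e' + 1) * a, ?_, ?_, ?_⟩
  · rw [isConj_iff]
    refine ⟨s ^ ((e' + 1) * (e' + 1)), ?_⟩
    rw [mul_assoc, hpow', ← mul_assoc, ← pow_add]
    have : s ^ ((e' + 1) * (e' + 1) + (e' + 1) * (e' + 1)) = s ^ (e' + 1) := by
      have e3 : (e' + 1) * (e' + 1) + (e' + 1) * (e' + 1) = (e' + 1 + (e' + 1)) * (e' + 1) := by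
        ring
      have e4 : s ^ (e' + 1 + (e' + 1)) = s := by rw [pow_add, hs1]
      rw [e3, pow_mul, e4]
    rw [this]
  · calc s ^ (e' + 1) * a * (s ^ (e' + 1) * a) = s ^ (e' + 1) * (a * s ^ (e' + 1)) * a := by group
      _ = s ^ (e' + 1) * ((s ^ (e' + 1))⁻¹ * a) * a := by rw [hpow]
      _ = a * a := by group
      _ = 1 := ha
  · calc s ^ (e' + 1) * a * a * (s ^ (e' + 1) * a)⁻¹ = s ^ (e' + 1) * (a * (s ^ (e' + 1))⁻¹) := by
          group
      _ = s ^ (e' + 1) * (s ^ (e' + 1) * a) := by rw [hpow']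
      _ = (s ^ (e' + 1) * s ^ (e' + 1)) * a := by group
      _ = s * a := by rw [hs1]
      _ = b := by rw [hs, mul_assoc, ha, mul_one]

theorem inv_of_odd {G : Type*} [Group G] (g c : G) (k : ℕ) (hk : Odd k) (hg : g ^ k = 1)
    (hc : g * c * g⁻¹ = c⁻¹) : c⁻¹ = c := by
  obtain ⟨l, hl⟩ := hk
  have h1 : Commute (g * g) c := by
    show g * g * c = c * (g * g)
    have e : g * g * c = g * (g * c * g⁻¹) * g⁻¹ * (g * g) := by group
    rw [e, hc]
    have e2 : g * c⁻¹ * g⁻¹ = (g * c * g⁻¹)⁻¹ := by group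
    rw [e2, hc, inv_inv]
  have h2 : Commute ((g * g) ^ l) c := h1.pow_left l
  have h3 : (g * g) ^ l * g = 1 := by
    rw [← pow_two, ← pow_mul, ← pow_succ, ← hl]
    exact hg
  have h4 : g = ((g * g) ^ l)⁻¹ := by
    have : g = ((g * g) ^ l)⁻¹ * ((g * g) ^ l * g) := by group
    rw [h3, mul_one] at this
    exact this
  have h5 : Commute g c := by
    rw [h4]
    exact h2.inv_left
  calc c⁻¹ = g * c * g⁻¹ := hc.symm
    _ = c * g * g⁻¹ := by rw [h5.eq]
    _ = c := by group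

section main

variable {G : Type*} [Group G] (z : G) (hz : z * z = 1) (H : Subgroup G)
  (h0 : ∀ g : G, g⁻¹ * z * g ∈ H ↔ g ∈ H)
  (h1 : ∀ t : G, IsConj z t → t ≠ z → t * z = z * t → ∀ g : G, g⁻¹ * (z * t) * g ∈ H ↔ g ∈ H)

include h0 in
theorem z_mem : z ∈ H := by
  have := (h0 1).mpr H.one_mem
  simpa using this

include h0 in
theorem cent_mem (g : G) (hg : g * z = z * g) : g ∈ H := by
  rw [← h0 g]
  have e : g⁻¹ * z * g = z := by
    rw [mul_assoc, ← hg]
    group
  rw [e]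
  exact z_mem z H h0

include hz h0 h1 in
theorem odd_step [Finite G] (x : G) (hx : x ∉ H) : ∃ k : ℕ, Odd k ∧ (z * (x * z * x⁻¹)) ^ k = 1 := by
  have hCH := cent_mem z H h0
  obtain ⟨u, hu⟩ : ∃ u, u = x * z * x⁻¹ := ⟨_, rfl⟩
  rw [← hu]
  have hu2 : u * u = 1 := by
    rw [hu]
    calc x * z * x⁻¹ * (x * z * x⁻¹) = x * (z * z) * x⁻¹ := by group
      _ = 1 := by rw [hz]; group
  have hzi : z⁻¹ = z := inv_eq_of_mul_eq_one_left hz
  have hui : u⁻¹ = u := inv_eq_of_mul_eq_one_left hu2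
  obtain ⟨r, hr⟩ : ∃ r, r = z * u := ⟨_, rfl⟩
  rw [← hr]
  have hkpos : 0 < orderOf r := orderOf_pos r
  rcases Nat.even_or_odd (orderOf r) with hev | hodd
  swap
  · exact ⟨orderOf r, hodd, pow_orderOf_eq_one r⟩
  exfalso
  obtain ⟨m, hm⟩ := hev
  have hmpos : 0 < m := by omega
  obtain ⟨w, hw⟩ : ∃ w, w = r ^ m := ⟨_, rfl⟩
  have hw2 : w * w = 1 := by rw [hw, ← pow_add, ← hm, pow_orderOf_eq_one]
  have hw1 : w ≠ 1 := by
    intro h
    rw [hw] at h
    have h' := Nat.le_of_dvd hmpos (orderOf_dvd_of_pow_eq_one h)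
    omega
  have hwi : w⁻¹ = w := inv_eq_of_mul_eq_one_left hw2
  have hzr : z * r * z⁻¹ = r⁻¹ := by
    rw [hr, mul_inv_rev, hzi, hui]
    rw [← mul_assoc, hz, one_mul]
  have hur : u * r * u⁻¹ = r⁻¹ := by
    rw [hr, mul_inv_rev, hzi, hui]
    rw [mul_assoc, mul_assoc, hu2, mul_one]
  have hzw : z * w = w * z := by
    have h2 : z * w * z⁻¹ = w := by
      rw [hw, ← conj_pow, hzr, inv_pow, ← hw, hwi]
    calc z * w = (z * w * z⁻¹) * z := by group
      _ = w * z := by rw [h2]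
  have huw : u * w = w * u := by
    have h2 : u * w * u⁻¹ = w := by
      rw [hw, ← conj_pow, hur, inv_pow, ← hw, hwi]
    calc u * w = (u * w * u⁻¹) * u := by group
      _ = w * u := by rw [h2]
  have hxw : x⁻¹ * w * x ∈ H := by
    apply hCH
    have e1 : x⁻¹ * w * x * z = x⁻¹ * (w * u) * x := by rw [hu]; group
    have e2 : z * (x⁻¹ * w * x) = x⁻¹ * (u * w) * x := by rw [hu]; group
    rw [e1, e2, huw]
  rcases Nat.even_or_odd m with hmev | hmodd
  · obtain ⟨l, hl⟩ := hmev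
    have hconj : IsConj z (w * z) := by
      rw [isConj_iff]
      refine ⟨r ^ l, ?_⟩
      have h3 : z * r ^ l * z⁻¹ = (r ^ l)⁻¹ := by rw [← conj_pow, hzr, inv_pow]
      have h4 : z * (r ^ l)⁻¹ * z⁻¹ = r ^ l := by
        have e : z * (r ^ l)⁻¹ * z⁻¹ = (z * r ^ l * z⁻¹)⁻¹ := by group
        rw [e, h3, inv_inv]
      calc r ^ l * z * (r ^ l)⁻¹ = r ^ l * (z * (r ^ l)⁻¹ * z⁻¹) * z := by group
        _ = r ^ l * r ^ l * z := by rw [h4]
        _ = w * z := by rw [← pow_add, ← hl, ← hw]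
    have hne : w * z ≠ z := fun h => hw1 (mul_eq_right.mp h)
    have hcomm : w * z * z = z * (w * z) := by rw [← mul_assoc, hzw]
    have h5 := h1 (w * z) hconj hne hcomm x
    have e : z * (w * z) = w := by rw [← mul_assoc, hzw, mul_assoc, hz, mul_one]
    rw [e] at h5
    exact hx (h5.mp hxw)
  · obtain ⟨l, hl⟩ := hmodd
    have hu'2 : (u * w) * (u * w) = 1 := by
      calc (u * w) * (u * w) = u * (w * u) * w := by group
        _ = u * (u * w) * w := by rw [huw]
        _ = (u * u) * (w * w) := by group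
        _ = 1 := by rw [hu2, hw2, one_mul]
    have hpow : (z * (u * w)) ^ m = 1 := by
      have e1 : z * (u * w) = r ^ (m + 1) := by rw [← mul_assoc, ← hr, hw, pow_succ']
      rw [e1, ← pow_mul]
      have e2 : (m + 1) * m = (orderOf r) * (l + 1) := by
        rw [hm, hl]
        ring
      rw [e2, pow_mul, pow_orderOf_eq_one, one_pow]
    obtain ⟨i, -, -, hi⟩ := exists_invol z (u * w) hz hu'2 m ⟨l, hl⟩ hpow
    have hconj : IsConj z (x⁻¹ * (u * w) * x) := by
      rw [isConj_iff]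
      refine ⟨x⁻¹ * i, ?_⟩
      rw [← hi]
      group
    have hne : x⁻¹ * (u * w) * x ≠ z := by
      intro h
      apply hw1
      have h' : u * w = x * (x⁻¹ * (u * w) * x) * x⁻¹ := by group
      rw [h, ← hu] at h'
      exact mul_eq_left.mp h'
    have hcomm : x⁻¹ * (u * w) * x * z = z * (x⁻¹ * (u * w) * x) := by
      have e1 : x⁻¹ * (u * w) * x * z = x⁻¹ * ((u * w) * u) * x := by rw [hu]; group
      have e2 : z * (x⁻¹ * (u * w) * x) = x⁻¹ * (u * (u * w)) * x := by rw [hu]; group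
      rw [e1, e2, mul_assoc u w u, ← huw]
    have h5 := h1 _ hconj hne hcomm x⁻¹
    have e : x⁻¹⁻¹ * (z * (x⁻¹ * (u * w) * x)) * x⁻¹ = w := by
      have e1 : x⁻¹⁻¹ * (z * (x⁻¹ * (u * w) * x)) * x⁻¹ = (x * z * x⁻¹) * (u * w) := by group
      rw [e1, ← hu, ← mul_assoc, hu2, one_mul]
    rw [e] at h5
    have hwH : w ∈ H := hCH w hzw.symm
    exact hx (H.inv_mem_iff.mp (h5.mp hwH))

include hz in
theorem invol_of_conj (i : G) (hi : IsConj z i) : i * i = 1 := by
  obtain ⟨y, hy⟩ := isConj_iff.mp hi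
  rw [← hy]
  calc y * z * y⁻¹ * (y * z * y⁻¹) = y * (z * z) * y⁻¹ := by group
    _ = 1 := by rw [hz]; group

include hz h0 h1 in
theorem inj_step [Finite G] (i i' : G) (hi : IsConj z i) (hi' : IsConj z i') (hiH : i ∉ H)
    (heq : i * z * i⁻¹ = i' * z * i'⁻¹) : i = i' := by
  have hCH := cent_mem z H h0
  have hzH := z_mem z H h0
  obtain ⟨y, hy⟩ := isConj_iff.mp hi
  have hyH : y ∉ H := by
    intro h
    apply hiH
    rw [← hy]
    exact H.mul_mem (H.mul_mem h hzH) (H.inv_mem h)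
  have hi2 : i * i = 1 := invol_of_conj z hz i hi
  have hi'2 : i' * i' = 1 := invol_of_conj z hz i' hi'
  have hii : i⁻¹ = i := inv_eq_of_mul_eq_one_left hi2
  have hi'i : i'⁻¹ = i' := inv_eq_of_mul_eq_one_left hi'2
  obtain ⟨k, hk, hpow⟩ := odd_step z hz H h0 h1 y hyH
  rw [hy] at hpow
  by_contra hne
  obtain ⟨c, hc⟩ : ∃ c, c = i' * i := ⟨_, rfl⟩
  have hcz : c * z = z * c := by
    calc c * z = i' * (i * z * i⁻¹) * i := by rw [hc]; group
      _ = i' * (i' * z * i'⁻¹) * i := by rw [heq]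
      _ = (i' * i') * z * (i'⁻¹ * i) := by group
      _ = z * (i' * i) := by rw [hi'2, one_mul, hi'i]
      _ = z * c := by rw [hc]
  have hic : i * c * i⁻¹ = c⁻¹ := by
    rw [hc, mul_inv_rev, hii, hi'i]
    rw [mul_assoc, mul_assoc, hi2, mul_one]
  have hzic : (z * i) * c * (z * i)⁻¹ = c⁻¹ := by
    have hcz' : z * c⁻¹ = c⁻¹ * z := by
      calc z * c⁻¹ = c⁻¹ * (c * z) * c⁻¹ := by group
        _ = c⁻¹ * (z * c) * c⁻¹ := by rw [hcz]
        _ = c⁻¹ * z := by group
    calc (z * i) * c * (z * i)⁻¹ = z * (i * c * i⁻¹) * z⁻¹ := by group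
      _ = z * c⁻¹ * z⁻¹ := by rw [hic]
      _ = c⁻¹ * z * z⁻¹ := by rw [hcz']
      _ = c⁻¹ := by group
  have hc2 : c⁻¹ = c := inv_of_odd (z * i) c k hk hpow hzic
  have hconj' : IsConj z (y⁻¹ * i' * y) := by
    obtain ⟨y', hy'⟩ := isConj_iff.mp hi'
    rw [isConj_iff]
    exact ⟨y⁻¹ * y', by rw [← hy']; group⟩
  have hne' : y⁻¹ * i' * y ≠ z := by
    intro h
    apply hne
    have h' : i' = y * (y⁻¹ * i' * y) * y⁻¹ := by group
    rw [h', h, hy]
  have hii' : i * i' = c := by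
    have : i * i' = c⁻¹ := by rw [hc, mul_inv_rev, hii, hi'i]
    rw [this, hc2]
  have hcomm' : y⁻¹ * i' * y * z = z * (y⁻¹ * i' * y) := by
    have e1 : y⁻¹ * i' * y * z = y⁻¹ * (i' * i) * y := by rw [← hy]; group
    have e2 : z * (y⁻¹ * i' * y) = y⁻¹ * (i * i') * y := by rw [← hy]; group
    rw [e1, e2, hii', hc]
  have h5 := h1 _ hconj' hne' hcomm' y⁻¹
  have e : y⁻¹⁻¹ * (z * (y⁻¹ * i' * y)) * y⁻¹ = i * i' := by rw [← hy]; group
  rw [e, hii'] at h5
  exact hyH (H.inv_mem_iff.mp (h5.mp (hCH c hcz)))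

include hz h0 in
theorem index_odd [Finite G] : ¬ 2 ∣ H.index := by
  rw [Subgroup.index_eq_card]
  refine odd_card_of_invol (α := G ⧸ H) (fun q => z • q) ?_ (QuotientGroup.mk 1) ?_
  · intro q
    show z • z • q = q
    rw [smul_smul, hz, one_smul]
  · intro q
    obtain ⟨g, rfl⟩ := QuotientGroup.mk_surjective q
    show z • (g : G ⧸ H) = g ↔ (g : G ⧸ H) = ((1 : G) : G ⧸ H)
    rw [MulAction.Quotient.smul_mk, QuotientGroup.eq, QuotientGroup.eq]
    rw [mul_one, H.inv_mem_iff, ← h0 g]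
    have e2 : (z • g)⁻¹ * g = (g⁻¹ * z * g)⁻¹ := by
      show (z * g)⁻¹ * g = (g⁻¹ * z * g)⁻¹
      group
    rw [e2, H.inv_mem_iff]

include hz h0 h1 in
theorem relIndex_odd [Finite G] (hH : H ≠ ⊤) :
    ¬ 2 ∣ (Subgroup.centralizer ({z} : Set G)).relIndex H := by
  have hCH := cent_mem z H h0
  have hzH := z_mem z H h0
  obtain ⟨x, hx⟩ : ∃ x, x ∉ H := by
    by_contra h
    exact hH (eq_top_iff.mpr fun g _ => by_contra fun hg => h ⟨g, hg⟩)
  obtain ⟨j, hj⟩ : ∃ j, j = x * z * x⁻¹ := ⟨_, rfl⟩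
  have hjconj : IsConj z j := isConj_iff.mpr ⟨x, hj.symm⟩
  have hjH : j ∉ H := by
    intro h
    apply hx
    have h' : x⁻¹⁻¹ * z * x⁻¹ ∈ H := by
      rw [inv_inv, ← hj]
      exact h
    exact H.inv_mem_iff.mp ((h0 x⁻¹).mp h')
  have hj2 : j * j = 1 := invol_of_conj z hz j hjconj
  have hji : j⁻¹ = j := inv_eq_of_mul_eq_one_left hj2
  have hJodd : ¬ 2 ∣ Nat.card {i : G // IsConj z i ∧ j * i ∈ H} := by
    refine odd_card_of_invol (α := {i : G // IsConj z i ∧ j * i ∈ H})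
      (fun i => ⟨j * i.1 * j⁻¹, ?_, ?_⟩) ?_ ⟨j, hjconj, by rw [hj2]; exact H.one_mem⟩ ?_
    · obtain ⟨c, hc⟩ := isConj_iff.mp i.2.1
      exact isConj_iff.mpr ⟨j * c, by rw [← hc]; group⟩
    · have hi2 : i.1 * i.1 = 1 := invol_of_conj z hz i.1 i.2.1
      have hii : i.1⁻¹ = i.1 := inv_eq_of_mul_eq_one_left hi2
      have e : j * (j * i.1 * j⁻¹) = (j * i.1)⁻¹ := by
        rw [mul_inv_rev, hji, hii, ← mul_assoc, ← mul_assoc, hj2, one_mul]
      rw [e]
      exact H.inv_mem i.2.2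
    · intro i
      apply Subtype.ext
      show j * (j * i.1 * j⁻¹) * j⁻¹ = i.1
      rw [hji]
      calc j * (j * i.1 * j) * j = (j * j) * i.1 * (j * j) := by group
        _ = i.1 := by rw [hj2, one_mul, mul_one]
    · rintro ⟨i, hiconj, hiH⟩
      constructor
      · intro h
        have h' : j * i * j⁻¹ = i := congrArg Subtype.val h
        by_contra hne
        have hne' : i ≠ j := fun h => hne (Subtype.ext h)
        have hconj' : IsConj z (x⁻¹ * i * x) := by
          obtain ⟨y', hy'⟩ := isConj_iff.mp hiconj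
          rw [isConj_iff]
          exact ⟨x⁻¹ * y', by rw [← hy']; group⟩
        have hne'' : x⁻¹ * i * x ≠ z := by
          intro h
          apply hne'
          have h'' : i = x * (x⁻¹ * i * x) * x⁻¹ := by group
          rw [h'', h, hj]
        have hcomm0 : i * j = j * i := by
          calc i * j = (j * i * j⁻¹) * j := by rw [h']
            _ = j * i := by group
        have hcomm' : x⁻¹ * i * x * z = z * (x⁻¹ * i * x) := by
          have e1 : x⁻¹ * i * x * z = x⁻¹ * (i * j) * x := by rw [hj]; group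
          have e2 : z * (x⁻¹ * i * x) = x⁻¹ * (j * i) * x := by rw [hj]; group
          rw [e1, e2, hcomm0]
        have h5 := h1 _ hconj' hne'' hcomm' x⁻¹
        have e : x⁻¹⁻¹ * (z * (x⁻¹ * i * x)) * x⁻¹ = j * i := by rw [hj]; group
        rw [e] at h5
        exact hx (H.inv_mem_iff.mp (h5.mp hiH))
      · intro h
        have h' : i = j := congrArg Subtype.val h
        apply Subtype.ext
        show j * i * j⁻¹ = i
        rw [h']
        group
  have hcard : Nat.card {i : G // IsConj z i ∧ j * i ∈ H} =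
      (Subgroup.centralizer ({z} : Set G)).relIndex H := by
    rw [Subgroup.relIndex, Subgroup.index_eq_card]
    apply Nat.card_eq_of_bijective (fun i : {i : G // IsConj z i ∧ j * i ∈ H} =>
      (QuotientGroup.mk (⟨j * i.1, i.2.2⟩ : H) :
        H ⧸ (Subgroup.centralizer ({z} : Set G)).subgroupOf H))
    constructor
    · intro i i' h
      have h' := QuotientGroup.eq.mp h
      rw [Subgroup.mem_subgroupOf] at h'
      have h'' : (j * i.1)⁻¹ * (j * i'.1) ∈ Subgroup.centralizer ({z} : Set G) := h'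
      have h3 := Subgroup.mem_centralizer_iff.mp h'' z rfl
      apply Subtype.ext
      apply inj_step z hz H h0 h1 i.1 i'.1 i.2.1 i'.2.1
      · intro hiH
        apply hjH
        have e : j = (j * i.1) * i.1⁻¹ := by group
        rw [e]
        exact H.mul_mem i.2.2 (H.inv_mem hiH)
      · have e : (j * i.1)⁻¹ * (j * i'.1) = i.1⁻¹ * i'.1 := by group
        rw [e] at h3
        calc i.1 * z * i.1⁻¹ = i.1 * (z * (i.1⁻¹ * i'.1)) * i'.1⁻¹ := by group
          _ = i.1 * ((i.1⁻¹ * i'.1) * z) * i'.1⁻¹ := by rw [h3]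
          _ = i'.1 * z * i'.1⁻¹ := by group
    · intro q
      obtain ⟨h, rfl⟩ := QuotientGroup.mk_surjective q
      have hjh : j * h.1 ∉ H := by
        intro hh
        apply hjH
        have e : j = (j * h.1) * h.1⁻¹ := by group
        rw [e]
        exact H.mul_mem hh (H.inv_mem h.2)
      obtain ⟨k, hk, hpow⟩ := odd_step z hz H h0 h1 (j * h.1) hjh
      have hu2 : (j * h.1 * z * (j * h.1)⁻¹) * (j * h.1 * z * (j * h.1)⁻¹) = 1 :=
        invol_of_conj z hz _ (isConj_iff.mpr ⟨j * h.1, rfl⟩)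
      obtain ⟨i, hiconj, hi2, hi⟩ := exists_invol z (j * h.1 * z * (j * h.1)⁻¹) hz hu2 k hk hpow
      have hc : (j * h.1)⁻¹ * i * z = z * ((j * h.1)⁻¹ * i) := by
        calc (j * h.1)⁻¹ * i * z = (j * h.1)⁻¹ * (i * z * i⁻¹) * i := by group
          _ = (j * h.1)⁻¹ * (j * h.1 * z * (j * h.1)⁻¹) * i := by rw [hi]
          _ = z * ((j * h.1)⁻¹ * i) := by group
      have hcH : (j * h.1)⁻¹ * i ∈ H := hCH _ hc
      have hjiH : j * i ∈ H := by
        have e : j * i = h.1 * ((j * h.1)⁻¹ * i) := by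
          rw [mul_inv_rev, hji]
          group
        rw [e]
        exact H.mul_mem h.2 hcH
      refine ⟨⟨i, hiconj, hjiH⟩, ?_⟩
      apply QuotientGroup.eq.mpr
      rw [Subgroup.mem_subgroupOf]
      show (j * i)⁻¹ * h.1 ∈ Subgroup.centralizer ({z} : Set G)
      have e : (j * i)⁻¹ * h.1 = ((j * h.1)⁻¹ * i)⁻¹ := by
        rw [mul_inv_rev j h.1, hji]
        group
      rw [e]
      apply Subgroup.inv_mem
      rw [Subgroup.mem_centralizer_iff]
      rintro _ rfl
      exact hc.symm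
  rw [← hcard]
  exact hJodd

end main

theorem central_sylow {G : Type*} [Group G] [Finite G] (z : G) (hz : orderOf z = 2)
    (hodd : ¬ 2 ∣ (Subgroup.centralizer ({z} : Set G)).index) :
    ∃ P : Sylow 2 G, z ∈ (Subgroup.center ↥(P : Subgroup G)).map (P : Subgroup G).subtype := by
  have : Fact (Nat.Prime 2) := ⟨Nat.prime_two⟩
  have hzC : z ∈ Subgroup.centralizer ({z} : Set G) := by
    rw [Subgroup.mem_centralizer_iff]
    rintro _ rfl
    rfl
  have hzp : IsPGroup 2 ↥(Subgroup.zpowers (⟨z, hzC⟩ : ↥(Subgroup.centralizer ({z} : Set G)))) := by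
    apply IsPGroup.of_card (n := 1)
    rw [Nat.card_zpowers, pow_one, Subgroup.orderOf_mk, hz]
  obtain ⟨Q, hQ⟩ := hzp.exists_le_sylow
  have hP0 : IsPGroup 2 ↥((Q : Subgroup ↥(Subgroup.centralizer ({z} : Set G))).map
      (Subgroup.centralizer ({z} : Set G)).subtype) := Q.isPGroup'.map _
  have hidx : ¬ 2 ∣ ((Q : Subgroup ↥(Subgroup.centralizer ({z} : Set G))).map
      (Subgroup.centralizer ({z} : Set G)).subtype).index := by
    rw [Subgroup.index_map_subtype]
    intro h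
    rcases (Nat.Prime.dvd_mul Nat.prime_two).mp h with h | h
    · exact Q.not_dvd_index h
    · exact hodd h
  refine ⟨hP0.toSylow hidx, ?_⟩
  have hzP : z ∈ ((hP0.toSylow hidx : Sylow 2 G) : Subgroup G) := by
    rw [IsPGroup.toSylow_coe]
    exact ⟨⟨z, hzC⟩, hQ (Subgroup.mem_zpowers _), rfl⟩
  refine ⟨⟨z, hzP⟩, ?_, rfl⟩
  show (⟨z, hzP⟩ : ↥((hP0.toSylow hidx : Sylow 2 G) : Subgroup G)) ∈ Subgroup.center _
  rw [Subgroup.mem_center_iff]
  rintro ⟨g, hg⟩
  apply Subtype.ext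
  show g * z = z * g
  have hg' : g ∈ (Q : Subgroup ↥(Subgroup.centralizer ({z} : Set G))).map
      (Subgroup.centralizer ({z} : Set G)).subtype := by
    rw [IsPGroup.toSylow_coe] at hg
    exact hg
  obtain ⟨c, -, rfl⟩ := hg'
  exact (Subgroup.mem_centralizer_iff.mp c.2 z rfl).symm

/-- Let z be an involution of a finite group G and H a proper subgroup such that z lies in gHg⁻¹ exactly when g ∈ H. Then the following are equivalent: (1) for every conjugate t ≠ z of z commuting with z, the product zt lies in gHg⁻¹ exactly when g ∈ H; (2) z lies in the centre of some Sylow 2-subgroup of G, and for every conjugate t ≠ z of z commuting with z, the centralizer of zt is contained in H. -/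
theorem result {G : Type*} [Group G] [Finite G] (z : G) (hz : orderOf z = 2) (H : Subgroup G) (hH : H ≠ ⊤)
    (h0 : ∀ g : G, z ∈ H.map (MulAut.conj g).toMonoidHom ↔ g ∈ H) :
    (∀ t : G, IsConj z t → t ≠ z → t * z = z * t → ∀ g : G, z * t ∈ H.map (MulAut.conj g).toMonoidHom ↔ g ∈ H) ↔
      ((∃ P : Sylow 2 G, z ∈ (Subgroup.center ↥(P : Subgroup G)).map (P : Subgroup G).subtype) ∧
        ∀ t : G, IsConj z t → t ≠ z → t * z = z * t → Subgroup.centralizer ({z * t} : Set G) ≤ H) := by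
  have : Fact (Nat.Prime 2) := ⟨Nat.prime_two⟩
  have hmem : ∀ g y : G, y ∈ H.map (MulAut.conj g).toMonoidHom ↔ g⁻¹ * y * g ∈ H :=
    fun g y => mem_map_conj_iff H g y
  have hz2 : z * z = 1 := by rw [← pow_two, ← hz, pow_orderOf_eq_one]
  have h0' : ∀ g : G, g⁻¹ * z * g ∈ H ↔ g ∈ H := fun g => by
    rw [← hmem]
    exact h0 g
  have hzH : z ∈ H := z_mem z H h0'
  have hCH := cent_mem z H h0'
  constructor
  · intro h1
    have h1' : ∀ t : G, IsConj z t → t ≠ z → t * z = z * t →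
        ∀ g : G, g⁻¹ * (z * t) * g ∈ H ↔ g ∈ H := fun t ht hne hc g => by
      rw [← hmem]
      exact h1 t ht hne hc g
    refine ⟨?_, ?_⟩
    · apply central_sylow z hz
      have hCle : Subgroup.centralizer ({z} : Set G) ≤ H :=
        fun g hg => hCH g ((Subgroup.mem_centralizer_iff.mp hg z rfl).symm)
      rw [← Subgroup.relIndex_mul_index hCle]
      intro h
      rcases (Nat.Prime.dvd_mul Nat.prime_two).mp h with h | h
      · exact relIndex_odd z hz2 H h0' h1' hH h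
      · exact index_odd z hz2 H h0' h
    · intro t ht hne hc g hg
      have hzt : z * t ∈ H := by
        have := (h1' t ht hne hc 1).mpr H.one_mem
        simpa using this
      rw [← h1' t ht hne hc g]
      have h3 := Subgroup.mem_centralizer_iff.mp hg (z * t) rfl
      have e : g⁻¹ * (z * t) * g = z * t := by
        rw [mul_assoc, h3]
        group
      rw [e]
      exact hzt
  · rintro ⟨⟨P, hP⟩, h2⟩ t ht hne hc g
    rw [hmem]
    have hzt : z * t ∈ H := h2 t ht hne hc (by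
      rw [Subgroup.mem_centralizer_iff]
      rintro _ rfl
      rfl)
    constructor
    · intro hv
      obtain ⟨⟨z', hz'P⟩, hzc, hzz⟩ := hP
      have hzz' : z' = z := hzz
      subst hzz'
      have hPc : ∀ y ∈ (P : Subgroup G), y * z' = z' * y := by
        intro y hy
        have h3 := Subgroup.mem_center_iff.mp hzc ⟨y, hy⟩
        exact congrArg Subtype.val h3
      have hPH : (P : Subgroup G) ≤ H := fun y hy => hCH y (hPc y hy)
      have ht2 : t * t = 1 := invol_of_conj z' hz2 t ht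
      have hv2 : (g⁻¹ * (z' * t) * g) ^ 2 ^ 1 = 1 := by
        rw [pow_one, pow_two]
        calc g⁻¹ * (z' * t) * g * (g⁻¹ * (z' * t) * g) = g⁻¹ * (z' * (t * z') * t) * g := by group
          _ = g⁻¹ * (z' * (z' * t) * t) * g := by rw [hc]
          _ = g⁻¹ * ((z' * z') * (t * t)) * g := by group
          _ = 1 := by rw [hz2, ht2]; group
      have hzp : IsPGroup 2 ↥(Subgroup.zpowers (g⁻¹ * (z' * t) * g)) := by
        rintro ⟨y, hy⟩
        obtain ⟨i, rfl⟩ := Subgroup.mem_zpowers_iff.mp hy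
        refine ⟨1, ?_⟩
        apply Subtype.ext
        rw [Subgroup.coe_pow]
        show ((g⁻¹ * (z' * t) * g) ^ i) ^ 2 ^ 1 = 1
        rw [← zpow_natCast, ← zpow_mul, mul_comm, zpow_mul, zpow_natCast, hv2, one_zpow]
      obtain ⟨c, hcH, hcx⟩ := exists_conj_le_of_le P H hPH (Subgroup.zpowers _)
        (Subgroup.zpowers_le.mpr hv) hzp
      have h3 : c * (g⁻¹ * (z' * t) * g) * c⁻¹ ∈ (P : Subgroup G) :=
        hcx _ (Subgroup.mem_zpowers _)
      have h4 := hPc _ h3
      have h5 : (c * g⁻¹)⁻¹ * z' * (c * g⁻¹) ∈ Subgroup.centralizer ({z' * t} : Set G) := by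
        rw [Subgroup.mem_centralizer_iff]
        rintro _ rfl
        calc z' * t * ((c * g⁻¹)⁻¹ * z' * (c * g⁻¹)) =
            (c * g⁻¹)⁻¹ * ((c * (g⁻¹ * (z' * t) * g) * c⁻¹) * z') * (c * g⁻¹) := by group
          _ = (c * g⁻¹)⁻¹ * (z' * (c * (g⁻¹ * (z' * t) * g) * c⁻¹)) * (c * g⁻¹) := by rw [h4]
          _ = _ := by group
      have h6 : c * g⁻¹ ∈ H := (h0' _).mp (h2 t ht hne hc h5)
      have e : g = (c * g⁻¹)⁻¹ * c := by group
      rw [e]
      exact H.mul_mem (H.inv_mem h6) hcH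
    · intro hg
      exact H.mul_mem (H.mul_mem (H.inv_mem hg) hzt) hg

end Cfsg.Agent.S1922
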