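import Cfsg.Statements.S1905
import Cfsg.Agent.S1922
import Cfsg.Agent.Lib.Helper12.SylowBasic
import Cfsg.Agent.Lib.Helper10.Coprime

set_option autoImplicit false
open Cfsg

namespace Cfsg.Agent.S1905

open Cfsg.Agent.Lib.Helper12.SylowBasic
open Cfsg.Agent.Lib.Helper10.Coprime

theorem sq_one_of_order {G : Type*} [Group G] (x : G) (hx : orderOf x = 2) : x * x = 1 := by
  rw [← pow_two, ← hx, pow_orderOf_eq_one]

theorem order_two_of {G : Type*} [Group G] (x : G) (h1 : x * x = 1) (h2 : x ≠ 1) :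
    orderOf x = 2 := by
  have : Fact (Nat.Prime 2) := ⟨Nat.prime_two⟩
  exact orderOf_eq_prime (by rw [pow_two]; exact h1) h2

theorem order_conj {G : Type*} [Group G] (g x : G) (hx : orderOf x = 2) :
    orderOf (g * x * g⁻¹) = 2 := by
  apply order_two_of
  · calc g * x * g⁻¹ * (g * x * g⁻¹) = g * (x * x) * g⁻¹ := by group
      _ = 1 := by rw [sq_one_of_order x hx]; group
  · intro h
    have h1 : x = 1 := by
      have e : x = g⁻¹ * (g * x * g⁻¹) * g := by group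
      rw [e, h]
      group
    rw [h1, orderOf_one] at hx
    omega

section main

variable {S : Type*} [Group S] (M : Subgroup S)
  (hC : ∀ i ∈ M, orderOf i = 2 → Subgroup.centralizer ({i} : Set S) ≤ M)

include hC in
theorem odd_prod [Finite S] (i j : S) (hi : orderOf i = 2) (hj : orderOf j = 2) (hiM : i ∈ M)
    (hjM : j ∉ M) : ∃ k : ℕ, Odd k ∧ (i * j) ^ k = 1 := by
  have hi2 := sq_one_of_order i hi
  have hj2 := sq_one_of_order j hj
  have hii : i⁻¹ = i := inv_eq_of_mul_eq_one_left hi2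
  have hji : j⁻¹ = j := inv_eq_of_mul_eq_one_left hj2
  obtain ⟨r, hr⟩ : ∃ r, r = i * j := ⟨_, rfl⟩
  rw [← hr]
  have hkpos : 0 < orderOf r := orderOf_pos r
  rcases Nat.even_or_odd (orderOf r) with hev | hodd
  swap
  · exact ⟨orderOf r, hodd, pow_orderOf_eq_one r⟩
  exfalso
  obtain ⟨m, hm⟩ := hev
  have hmpos : 0 < m := by omega
  obtain ⟨w, hw⟩ : ∃ w, w = r ^ m := ⟨_, rfl⟩
  have hw2 : w * w = 1 := by rw [hw, ← pow_add, ← hm, pow_orderOf_eq_one]
  have hw1 : w ≠ 1 := by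
    intro h
    rw [hw] at h
    have h' := Nat.le_of_dvd hmpos (orderOf_dvd_of_pow_eq_one h)
    omega
  have hwi : w⁻¹ = w := inv_eq_of_mul_eq_one_left hw2
  have hir : i * r * i⁻¹ = r⁻¹ := by
    rw [hr, mul_inv_rev, hii, hji]
    rw [← mul_assoc, hi2, one_mul]
  have hjr : j * r * j⁻¹ = r⁻¹ := by
    rw [hr, mul_inv_rev, hii, hji]
    rw [mul_assoc, mul_assoc, hj2, mul_one]
  have hiw : i * w = w * i := by
    have h2 : i * w * i⁻¹ = w := by
      rw [hw, ← conj_pow, hir, inv_pow, ← hw, hwi]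
    calc i * w = (i * w * i⁻¹) * i := by group
      _ = w * i := by rw [h2]
  have hjw : j * w = w * j := by
    have h2 : j * w * j⁻¹ = w := by
      rw [hw, ← conj_pow, hjr, inv_pow, ← hw, hwi]
    calc j * w = (j * w * j⁻¹) * j := by group
      _ = w * j := by rw [h2]
  have hwo : orderOf w = 2 := order_two_of w hw2 hw1
  have hwM : w ∈ M := hC i hiM hi (by
    rw [Subgroup.mem_centralizer_iff]
    rintro _ rfl
    exact hiw)
  have hjM' : j ∈ M := hC w hwM hwo (by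
    rw [Subgroup.mem_centralizer_iff]
    rintro _ rfl
    exact hjw.symm)
  exact hjM hjM'

include hC in
theorem part1 [Finite S] (hM : Even (Nat.card M)) (hcore : Odd (Nat.card M.normalCore)) :
    ∃ u : S, orderOf u = 2 ∧ u ∉ M ∧ ∀ x : S, orderOf x = 2 → IsConj x u := by
  have : Fact (Nat.Prime 2) := ⟨Nat.prime_two⟩
  obtain ⟨i₀', hi₀'⟩ := exists_prime_orderOf_dvd_card' (G := ↥M) 2 hM.two_dvd
  obtain ⟨i₀, hi₀M, hi₀⟩ : ∃ i₀ ∈ M, orderOf i₀ = 2 :=
    ⟨i₀', i₀'.2, by rw [Subgroup.orderOf_coe]; exact hi₀'⟩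
  have hex : ∃ u : S, orderOf u = 2 ∧ u ∉ M := by
    by_contra hne
    have hall : ∀ x : S, orderOf x = 2 → x ∈ M :=
      fun x hx => by_contra fun h => hne ⟨x, hx, h⟩
    have hmem : i₀ ∈ M.normalCore := fun b => hall _ (order_conj b i₀ hi₀)
    have h1 : orderOf i₀ ∣ Nat.card M.normalCore := Subgroup.orderOf_dvd_natCard _ hmem
    rw [hi₀] at h1
    exact (Nat.not_even_iff_odd.mpr hcore) (even_iff_two_dvd.mpr h1)
  obtain ⟨u, hu, huM⟩ := hex
  refine ⟨u, hu, huM, ?_⟩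
  have hconj : ∀ i j : S, orderOf i = 2 → orderOf j = 2 → i ∈ M → j ∉ M → IsConj i j := by
    intro i j hi hj hiM hjM
    obtain ⟨k, hk, hpow⟩ := odd_prod M hC i j hi hj hiM hjM
    obtain ⟨w, -, -, hw⟩ := Cfsg.Agent.S1922.exists_invol i j (sq_one_of_order i hi)
      (sq_one_of_order j hj) k hk hpow
    exact isConj_iff.mpr ⟨w, hw⟩
  intro x hx
  by_cases hxM : x ∈ M
  · exact hconj x u hx hu hxM huM
  · exact ((hconj i₀ x hi₀ hx hi₀M hxM).symm).trans (hconj i₀ u hi₀ hu hi₀M huM)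

end main

/-- Let M be a subgroup of even order of a finite group S such that M contains the centralizer in S of each of its involutions and the normal core of M in S has odd order. Then all involutions of S are conjugate. If moreover N_S(X) ≤ M for a Sylow 2-subgroup X of M and I is an involution in the centre of X, then all involutions of M are conjugate in M and M = M₀ C_M(I) for some subgroup M₀ of M of odd order. -/
theorem result {S : Type*} [Group S] [Finite S] (M : Subgroup S) (hM : Even (Nat.card M))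
    (hC : ∀ i ∈ M, orderOf i = 2 → Subgroup.centralizer ({i} : Set S) ≤ M) (hcore : Odd (Nat.card M.normalCore)) :
    (∀ x y : S, orderOf x = 2 → orderOf y = 2 → IsConj x y) ∧
      ∀ (X : Sylow 2 M) (I : M), I ∈ (Subgroup.center ↥(X : Subgroup ↥M)).map (X : Subgroup ↥M).subtype → orderOf I = 2 →
        Subgroup.normalizer (((X : Subgroup M).map M.subtype : Subgroup S) : Set S) ≤ M →
        (∀ x y : M, orderOf x = 2 → orderOf y = 2 → IsConj x y) ∧
          ∃ M₀ : Subgroup M, Odd (Nat.card M₀) ∧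
            ∀ m : M, ∃ a ∈ M₀, ∃ c ∈ Subgroup.centralizer ({I} : Set M), m = a * c := by
  have : Fact (Nat.Prime 2) := ⟨Nat.prime_two⟩
  obtain ⟨u, hu, huM, hconjU⟩ := part1 M hC hM hcore
  refine ⟨fun x y hx hy => (hconjU x hx).trans (hconjU y hy).symm, ?_⟩
  intro X I hIc hI hN
  have hI' : orderOf (I : S) = 2 := by
    rw [Subgroup.orderOf_coe]
    exact hI
  have hXc : ∀ x ∈ (X : Subgroup M), (x : S) * (I : S) = (I : S) * (x : S) := by
    obtain ⟨I₀, hI₀, hI₀e⟩ := hIc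
    intro x hx
    have h1 := Subgroup.mem_center_iff.mp hI₀ ⟨x, hx⟩
    have h2 := congrArg Subtype.val (congrArg Subtype.val h1)
    rw [← hI₀e]
    exact h2
  -- Step A0
  have hA0 : ∀ g : S, g * (I : S) * g⁻¹ ∈ M → g ∈ M := by
    intro g hg
    have ho : orderOf (g * (I : S) * g⁻¹) = 2 := order_conj g _ hI'
    have hcent := hC _ hg ho
    have hQ : IsPGroup 2 ↥((((X : Subgroup M).map M.subtype).map
        (MulAut.conj g).toMonoidHom).subgroupOf M) := ((X.isPGroup'.map _).map _).comap_subtype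
    obtain ⟨h, hh⟩ := exists_conj_le_sylow X _ hQ
    have hnorm : (h : S) * g ∈ Subgroup.normalizer
        (((X : Subgroup M).map M.subtype : Subgroup S) : Set S) := by
      apply mem_normalizer_of_conj_mem
      rintro _ ⟨x, hx, rfl⟩
      have hgx : g * (x : S) * g⁻¹ ∈ M := hcent (by
        rw [Subgroup.mem_centralizer_iff]
        rintro _ rfl
        have h1 := hXc x hx
        calc g * (I : S) * g⁻¹ * (g * (x : S) * g⁻¹) = g * ((I : S) * (x : S)) * g⁻¹ := by group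
          _ = g * ((x : S) * (I : S)) * g⁻¹ := by rw [h1]
          _ = _ := by group)
      have h2 := hh ⟨g * (x : S) * g⁻¹, hgx⟩ (by
        rw [Subgroup.mem_subgroupOf]
        exact ⟨(x : S), ⟨x, hx, rfl⟩, by simp [MulAut.conj_apply]⟩)
      refine ⟨_, h2, ?_⟩
      show (h : S) * (g * (x : S) * g⁻¹) * (h : S)⁻¹ = (h : S) * g * (x : S) * ((h : S) * g)⁻¹
      group
    have h3 := hN hnorm
    have e : g = (h : S)⁻¹ * ((h : S) * g) := by group
    rw [e]
    exact M.mul_mem (M.inv_mem h.2) h3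
  -- Step A
  have hA : ∀ i ∈ M, orderOf i = 2 → ∀ g : S, g * i * g⁻¹ ∈ M → g ∈ M := by
    intro i hiM hi g hg
    have hzp : IsPGroup 2 ↥(Subgroup.zpowers (⟨i, hiM⟩ : M)) := by
      apply IsPGroup.of_card (n := 1)
      rw [Nat.card_zpowers, pow_one, Subgroup.orderOf_mk, hi]
    obtain ⟨h, hh⟩ := exists_conj_le_sylow X _ hzp
    have h1 := hh _ (Subgroup.mem_zpowers _)
    have h2' : (h : S) * i * (h : S)⁻¹ * (I : S) = (I : S) * ((h : S) * i * (h : S)⁻¹) :=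
      hXc _ h1
    have ho : orderOf (g * i * g⁻¹) = 2 := order_conj g i hi
    have hcent := hC _ hg ho
    have h3 : (g * (h : S)⁻¹) * (I : S) * (g * (h : S)⁻¹)⁻¹ ∈ M := hcent (by
      rw [Subgroup.mem_centralizer_iff]
      rintro _ rfl
      calc g * i * g⁻¹ * ((g * (h : S)⁻¹) * (I : S) * (g * (h : S)⁻¹)⁻¹) =
          (g * (h : S)⁻¹) * (((h : S) * i * (h : S)⁻¹) * (I : S)) * (g * (h : S)⁻¹)⁻¹ := by group
        _ = (g * (h : S)⁻¹) * ((I : S) * ((h : S) * i * (h : S)⁻¹)) * (g * (h : S)⁻¹)⁻¹ := by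
          rw [h2']
        _ = _ := by group)
    have h4 := hA0 _ h3
    have e : g = (g * (h : S)⁻¹) * (h : S) := by group
    rw [e]
    exact M.mul_mem h4 h.2
  constructor
  · intro x y hx hy
    have hx' : orderOf (x : S) = 2 := by
      rw [Subgroup.orderOf_coe]
      exact hx
    have hy' : orderOf (y : S) = 2 := by
      rw [Subgroup.orderOf_coe]
      exact hy
    obtain ⟨g, hg⟩ := isConj_iff.mp ((hconjU x hx').trans (hconjU y hy').symm)
    have hgM : g ∈ M := hA x x.2 hx' g (by rw [hg]; exact y.2)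
    exact isConj_iff.mpr ⟨⟨g, hgM⟩, Subtype.ext hg⟩
  · have hu2 := sq_one_of_order u hu
    have hui : u⁻¹ = u := inv_eq_of_mul_eq_one_left hu2
    refine ⟨(M.map (MulAut.conj u).toMonoidHom).subgroupOf M, ?_, ?_⟩
    · rw [← Nat.not_even_iff_odd]
      intro hev
      obtain ⟨i, hi⟩ := exists_prime_orderOf_dvd_card'
        (G := ↥((M.map (MulAut.conj u).toMonoidHom).subgroupOf M)) 2 hev.two_dvd
      have hi1 : orderOf ((i : M) : S) = 2 := by
        rw [Subgroup.orderOf_coe, Subgroup.orderOf_coe]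
        exact hi
      have hi2 : ((i : M) : S) ∈ M.map (MulAut.conj u).toMonoidHom := i.2
      rw [mem_map_conj_iff] at hi2
      have ho : orderOf (u⁻¹ * ((i : M) : S) * u) = 2 := by
        have := order_conj u⁻¹ _ hi1
        rwa [inv_inv] at this
      apply huM
      apply hA _ hi2 ho u
      have e : u * (u⁻¹ * ((i : M) : S) * u) * u⁻¹ = ((i : M) : S) := by group
      rw [e]
      exact (i : M).2
    · intro m
      have hsM : (m : S) * (I : S) * (m : S)⁻¹ ∈ M :=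
        M.mul_mem (M.mul_mem m.2 I.2) (M.inv_mem m.2)
      have hso : orderOf ((m : S) * (I : S) * (m : S)⁻¹) = 2 := order_conj _ _ hI'
      have hs1M : u * (I : S) * u⁻¹ ∉ M := fun h => huM (hA0 u h)
      have hs2M : u * ((m : S) * (I : S) * (m : S)⁻¹) * u⁻¹ ∉ M :=
        fun h => huM (hA _ hsM hso u h)
      have hs1o : orderOf (u * (I : S) * u⁻¹) = 2 := order_conj _ _ hI'
      have hs2o : orderOf (u * ((m : S) * (I : S) * (m : S)⁻¹) * u⁻¹) = 2 := order_conj _ _ hso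
      obtain ⟨k₁, hk₁, hpow₁⟩ := odd_prod M hC (I : S) _ hI' hs1o I.2 hs1M
      obtain ⟨w₁, -, hw₁2, hw₁⟩ := Cfsg.Agent.S1922.exists_invol (I : S) _
        (sq_one_of_order _ hI') (sq_one_of_order _ hs1o) k₁ hk₁ hpow₁
      obtain ⟨k₂, hk₂, hpow₂⟩ := odd_prod M hC (I : S) _ hI' hs2o I.2 hs2M
      obtain ⟨w₂, -, hw₂2, hw₂⟩ := Cfsg.Agent.S1922.exists_invol (I : S) _
        (sq_one_of_order _ hI') (sq_one_of_order _ hs2o) k₂ hk₂ hpow₂
      have hw₁i : w₁⁻¹ = w₁ := inv_eq_of_mul_eq_one_left hw₁2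
      have hw₂i : w₂⁻¹ = w₂ := inv_eq_of_mul_eq_one_left hw₂2
      have hb₁ : (u⁻¹ * w₁) * (I : S) * (u⁻¹ * w₁)⁻¹ = (I : S) := by
        calc (u⁻¹ * w₁) * (I : S) * (u⁻¹ * w₁)⁻¹ = u⁻¹ * (w₁ * (I : S) * w₁⁻¹) * u := by group
          _ = u⁻¹ * (u * (I : S) * u⁻¹) * u := by rw [hw₁]
          _ = (I : S) := by group
      have hb₂ : (u⁻¹ * w₂) * (I : S) * (u⁻¹ * w₂)⁻¹ = (m : S) * (I : S) * (m : S)⁻¹ := by
        calc (u⁻¹ * w₂) * (I : S) * (u⁻¹ * w₂)⁻¹ = u⁻¹ * (w₂ * (I : S) * w₂⁻¹) * u := by group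
          _ = u⁻¹ * (u * ((m : S) * (I : S) * (m : S)⁻¹) * u⁻¹) * u := by rw [hw₂]
          _ = (m : S) * (I : S) * (m : S)⁻¹ := by group
      have hb₁M : u⁻¹ * w₁ ∈ M := hA0 _ (by rw [hb₁]; exact I.2)
      have hb₂M : u⁻¹ * w₂ ∈ M := hA0 _ (by rw [hb₂]; exact hsM)
      have haM : (u⁻¹ * w₂) * (u⁻¹ * w₁)⁻¹ ∈ M := M.mul_mem hb₂M (M.inv_mem hb₁M)
      have haU : (u⁻¹ * w₂) * (u⁻¹ * w₁)⁻¹ ∈ M.map (MulAut.conj u).toMonoidHom := by
        rw [mem_map_conj_iff]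
        have e : u⁻¹ * ((u⁻¹ * w₂) * (u⁻¹ * w₁)⁻¹) * u = (u⁻¹ * w₂)⁻¹ * (u⁻¹ * w₁) := by
          have e1 : u⁻¹ * ((u⁻¹ * w₂) * (u⁻¹ * w₁)⁻¹) * u = (u⁻¹ * u⁻¹) * w₂ * w₁⁻¹ * (u * u) := by
            group
          have e2 : (u⁻¹ * w₂)⁻¹ * (u⁻¹ * w₁) = w₂⁻¹ * w₁ := by group
          rw [e1, e2, hui, hu2, hw₁i, hw₂i, one_mul, mul_one]
        rw [e]
        exact M.mul_mem (M.inv_mem hb₂M) hb₁M
      have hb₁' : (u⁻¹ * w₁)⁻¹ * (I : S) * (u⁻¹ * w₁) = (I : S) := by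
        have e : (u⁻¹ * w₁)⁻¹ * ((u⁻¹ * w₁) * (I : S) * (u⁻¹ * w₁)⁻¹) * (u⁻¹ * w₁) = (I : S) := by
          group
        rw [hb₁] at e
        exact e
      have haI : ((u⁻¹ * w₂) * (u⁻¹ * w₁)⁻¹) * (I : S) * ((u⁻¹ * w₂) * (u⁻¹ * w₁)⁻¹)⁻¹ =
          (m : S) * (I : S) * (m : S)⁻¹ := by
        calc ((u⁻¹ * w₂) * (u⁻¹ * w₁)⁻¹) * (I : S) * ((u⁻¹ * w₂) * (u⁻¹ * w₁)⁻¹)⁻¹ =
            (u⁻¹ * w₂) * ((u⁻¹ * w₁)⁻¹ * (I : S) * (u⁻¹ * w₁)) * (u⁻¹ * w₂)⁻¹ := by group
          _ = (u⁻¹ * w₂) * (I : S) * (u⁻¹ * w₂)⁻¹ := by rw [hb₁']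
          _ = _ := hb₂
      obtain ⟨a, ha⟩ : ∃ a, a = (u⁻¹ * w₂) * (u⁻¹ * w₁)⁻¹ := ⟨_, rfl⟩
      rw [← ha] at haM haU haI
      refine ⟨⟨a, haM⟩, ?_, (⟨a, haM⟩ : M)⁻¹ * m, ?_, by group⟩
      · rw [Subgroup.mem_subgroupOf]
        exact haU
      · rw [Subgroup.mem_centralizer_iff]
        intro h hh
        rw [Set.mem_singleton_iff] at hh
        rw [hh]
        apply Subtype.ext
        show (I : S) * (a⁻¹ * (m : S)) = a⁻¹ * (m : S) * (I : S)
        calc (I : S) * (a⁻¹ * (m : S)) = a⁻¹ * (a * (I : S) * a⁻¹) * (m : S) := by group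
          _ = a⁻¹ * ((m : S) * (I : S) * (m : S)⁻¹) * (m : S) := by rw [haI]
          _ = a⁻¹ * (m : S) * (I : S) := by group

end Cfsg.Agent.S1905
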