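import Cfsg.Statements.S1948
import Cfsg.Agent.Lib.Helper12.NPC
import Cfsg.Agent.Lib.Helper9.Cores

set_option autoImplicit false
open Cfsg

namespace Cfsg.Agent.S1948

open Cfsg.Agent.Lib.Helper12.SylowBasic Cfsg.Agent.Lib.Helper12.NPC

theorem eq_one_of_pelt_of_mem {G : Type*} [Group G] [Finite G] {p : ℕ} {x : G} (k : ℕ)
    (hx : x ^ (p ^ k) = 1) (O : Subgroup G) (hO : (Nat.card ↥O).Coprime p) (hxO : x ∈ O) :
    x = 1 := by
  have h1 : orderOf x ∣ p ^ k := orderOf_dvd_of_pow_eq_one hx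
  have h2 : orderOf x ∣ Nat.card ↥O := Subgroup.orderOf_dvd_natCard _ hxO
  have h3 : orderOf x ∣ Nat.gcd (p ^ k) (Nat.card ↥O) := Nat.dvd_gcd h1 h2
  have h4 : Nat.gcd (p ^ k) (Nat.card ↥O) = 1 := Nat.Coprime.pow_left k hO.symm
  rw [h4] at h3
  exact orderOf_eq_one_iff.mp (Nat.dvd_one.mp h3)

section
variable {G : Type*} [Group G] [Finite G] {p : ℕ} [Fact p.Prime]

theorem pPrimePCore_normal' : (Cfsg.pPrimePCore p G).Normal :=
  (Cfsg.pCore_normal p _).comap _

theorem pPrimeCore_le_pPrimePCore : Cfsg.pPrimeCore p G ≤ Cfsg.pPrimePCore p G := by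
  intro x hx
  show QuotientGroup.mk' (Cfsg.pPrimeCore p G) x ∈ Cfsg.pCore p (G ⧸ Cfsg.pPrimeCore p G)
  have h1 : QuotientGroup.mk' (Cfsg.pPrimeCore p G) x = 1 := (QuotientGroup.eq_one_iff x).mpr hx
  rw [h1]
  exact Subgroup.one_mem _

theorem exists_pow_mem (x : G) (hx : x ∈ Cfsg.pPrimePCore p G) :
    ∃ k : ℕ, x ^ p ^ k ∈ Cfsg.pPrimeCore p G := by
  have h1 : QuotientGroup.mk' (Cfsg.pPrimeCore p G) x ∈ Cfsg.pCore p (G ⧸ Cfsg.pPrimeCore p G) := hx
  obtain ⟨k, hk⟩ := Cfsg.Agent.Lib.Helper9.pCore_isPGroup p (G ⧸ Cfsg.pPrimeCore p G) ⟨_, h1⟩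
  refine ⟨k, ?_⟩
  have h2 : (QuotientGroup.mk' (Cfsg.pPrimeCore p G) x) ^ p ^ k = 1 := congrArg Subtype.val hk
  rw [← map_pow] at h2
  exact (QuotientGroup.eq_one_iff _).mp h2

theorem le_sylow_sup (P₀ : Sylow p ↥(Cfsg.pPrimePCore p G)) :
    Cfsg.pPrimePCore p G ≤
      (P₀ : Subgroup ↥(Cfsg.pPrimePCore p G)).map (Cfsg.pPrimePCore p G).subtype ⊔
        Cfsg.pPrimeCore p G := by
  have hKc : (Nat.card ((Cfsg.pPrimeCore p G).subgroupOf (Cfsg.pPrimePCore p G))).Coprime p := by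
    rw [Nat.card_congr (Subgroup.subgroupOfEquivOfLe pPrimeCore_le_pPrimePCore).toEquiv]
    exact Cfsg.Agent.Lib.Helper9.pPrimeCore_coprime p G
  have hq : IsPGroup p (↥(Cfsg.pPrimePCore p G) ⧸
      (Cfsg.pPrimeCore p G).subgroupOf (Cfsg.pPrimePCore p G)) := by
    intro q
    induction q using QuotientGroup.induction_on with
    | H x =>
      obtain ⟨k, hk⟩ := exists_pow_mem (x : G) x.2
      refine ⟨k, ?_⟩
      rw [← QuotientGroup.mk_pow]
      apply (QuotientGroup.eq_one_iff _).mpr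
      show ((x ^ p ^ k : ↥(Cfsg.pPrimePCore p G)) : G) ∈ Cfsg.pPrimeCore p G
      rw [Subgroup.coe_pow]
      exact hk
  have hcompl := isComplement'_of_coprime_of_isPGroup_quotient _ hKc hq P₀
  have hsup := hcompl.sup_eq_top
  intro x hx
  have hx' : (⟨x, hx⟩ : ↥(Cfsg.pPrimePCore p G)) ∈
      (Cfsg.pPrimeCore p G).subgroupOf (Cfsg.pPrimePCore p G) ⊔
        (P₀ : Subgroup ↥(Cfsg.pPrimePCore p G)) := by
    rw [hsup]
    exact Subgroup.mem_top _
  have h2 : ((Cfsg.pPrimeCore p G).subgroupOf (Cfsg.pPrimePCore p G) ⊔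
        (P₀ : Subgroup ↥(Cfsg.pPrimePCore p G))).map (Cfsg.pPrimePCore p G).subtype ≤
      (P₀ : Subgroup ↥(Cfsg.pPrimePCore p G)).map (Cfsg.pPrimePCore p G).subtype ⊔
        Cfsg.pPrimeCore p G := by
    rw [Subgroup.map_sup]
    exact sup_le ((Subgroup.map_subgroupOf_eq_of_le pPrimeCore_le_pPrimePCore).le.trans le_sup_right)
      le_sup_left
  exact h2 ⟨⟨x, hx⟩, hx', rfl⟩

theorem sylow_inf_eq (S : Sylow p G) (N : Subgroup G) [hN : N.Normal] (P₀ : Sylow p ↥N)
    (h : ((S : Subgroup G) ⊓ N).subgroupOf N ≤ P₀) :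
    (P₀ : Subgroup ↥N).map N.subtype = (S : Subgroup G) ⊓ N := by
  have hPp : IsPGroup p ↥((P₀ : Subgroup ↥N).map N.subtype) := P₀.isPGroup'.map _
  have hPN : (P₀ : Subgroup ↥N).map N.subtype ≤ N := Subgroup.map_subtype_le _
  have hle : (S : Subgroup G) ⊓ N ≤ (P₀ : Subgroup ↥N).map N.subtype := by
    intro x hx
    exact ⟨⟨x, (Subgroup.mem_inf.mp hx).2⟩, h (Subgroup.mem_subgroupOf.mpr hx), rfl⟩
  obtain ⟨g, hg⟩ := exists_conj_le_sylow S _ hPp
  have h1 : ((P₀ : Subgroup ↥N).map N.subtype).map (MulAut.conj g).toMonoidHom ≤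
      (P₀ : Subgroup ↥N).map N.subtype := by
    rw [map_conj_le_iff]
    intro x hx
    exact hle (Subgroup.mem_inf.mpr ⟨hg x hx, hN.conj_mem x (hPN hx) g⟩)
  have h2 : ((P₀ : Subgroup ↥N).map N.subtype).map (MulAut.conj g).toMonoidHom =
      (P₀ : Subgroup ↥N).map N.subtype := by
    apply Subgroup.eq_of_le_of_card_ge h1
    exact (Subgroup.card_map_of_injective (f := (MulAut.conj g).toMonoidHom)
      (MulAut.conj g).injective).ge
  apply le_antisymm _ hle
  intro x hx
  rw [← h2] at hx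
  obtain ⟨y, hy, rfl⟩ := hx
  refine Subgroup.mem_inf.mpr ⟨?_, hPN (h1 ⟨y, hy, rfl⟩)⟩
  have := hg y hy
  simpa [MulAut.conj_apply] using this

theorem backward (S : Sylow p G) (hc : Cfsg.IsPConstrained p G)
    (hf : ∀ Q : Subgroup G, Q ≤ (S : Subgroup G) → ∀ g : G,
      Q.map (MulAut.conj g).toMonoidHom ≤ (S : Subgroup G) →
        ∃ n ∈ Subgroup.normalizer ((S : Subgroup G) : Set G),
          ∃ c ∈ Subgroup.centralizer (Q : Set G), g = n * c) :
    Subgroup.normalizer ((S : Subgroup G) : Set G) ⊔ Cfsg.pPrimeCore p G = ⊤ := by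
  haveI hLn : (Cfsg.pPrimePCore p G).Normal := pPrimePCore_normal'
  have hSLp : IsPGroup p ↥(((S : Subgroup G) ⊓ Cfsg.pPrimePCore p G).subgroupOf
      (Cfsg.pPrimePCore p G)) := (S.isPGroup'.to_le inf_le_left).comap_subtype
  obtain ⟨P₀, hP₀⟩ := hSLp.exists_le_sylow
  have hPeq := sylow_inf_eq S (Cfsg.pPrimePCore p G) P₀ hP₀
  have hPS : (P₀ : Subgroup ↥(Cfsg.pPrimePCore p G)).map (Cfsg.pPrimePCore p G).subtype ≤
      (S : Subgroup G) := hPeq.le.trans inf_le_left
  have hfr : Subgroup.normalizer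
      (((P₀ : Subgroup ↥(Cfsg.pPrimePCore p G)).map (Cfsg.pPrimePCore p G).subtype : Subgroup G) : Set G) ⊔
        Cfsg.pPrimePCore p G = ⊤ := Sylow.normalizer_sup_eq_top P₀
  have hL := le_sylow_sup P₀
  have hcen := hc P₀
  have hSN : (S : Subgroup G) ≤ Subgroup.normalizer ((S : Subgroup G) : Set G) := Subgroup.le_normalizer
  have hPK : (P₀ : Subgroup ↥(Cfsg.pPrimePCore p G)).map (Cfsg.pPrimePCore p G).subtype ⊔
      Cfsg.pPrimeCore p G ≤ Subgroup.normalizer ((S : Subgroup G) : Set G) ⊔ Cfsg.pPrimeCore p G :=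
    sup_le (hPS.trans (hSN.trans le_sup_left)) le_sup_right
  have h5 : Subgroup.normalizer
      (((P₀ : Subgroup ↥(Cfsg.pPrimePCore p G)).map (Cfsg.pPrimePCore p G).subtype : Subgroup G) : Set G) ≤
        Subgroup.normalizer ((S : Subgroup G) : Set G) ⊔ Cfsg.pPrimeCore p G := by
    intro h hh
    have hmap : ((P₀ : Subgroup ↥(Cfsg.pPrimePCore p G)).map
        (Cfsg.pPrimePCore p G).subtype).map (MulAut.conj h).toMonoidHom ≤ (S : Subgroup G) := by
      rw [map_conj_le_iff]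
      intro x hx
      exact hPS ((Subgroup.mem_normalizer_iff.mp hh x).mp hx)
    obtain ⟨n, hn, c, hc', rfl⟩ := hf _ hPS h hmap
    exact Subgroup.mul_mem _ (Subgroup.mem_sup_left hn) (hPK (hL (hcen hc')))
  rw [eq_top_iff, ← hfr]
  exact sup_le h5 (hL.trans hPK)

theorem sylow_le_pPrimePCore (S : Sylow p G)
    (h : Subgroup.normalizer ((S : Subgroup G) : Set G) ⊔ Cfsg.pPrimeCore p G = ⊤) :
    (S : Subgroup G) ≤ Cfsg.pPrimePCore p G := by
  have hN : ((S : Subgroup G).map (QuotientGroup.mk' (Cfsg.pPrimeCore p G))).Normal := by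
    constructor
    rintro _ ⟨s, hs, rfl⟩ q
    induction q using QuotientGroup.induction_on with
    | H g =>
      have hg : g ∈ Subgroup.normalizer ((S : Subgroup G) : Set G) ⊔ Cfsg.pPrimeCore p G := by
        rw [h]; exact Subgroup.mem_top _
      obtain ⟨n, hn, k, hk, rfl⟩ := Subgroup.mem_sup_of_normal_right.mp hg
      have hk1 : ((k : G) : G ⧸ Cfsg.pPrimeCore p G) = 1 := (QuotientGroup.eq_one_iff k).mpr hk
      refine ⟨n * s * n⁻¹, (Subgroup.mem_normalizer_iff.mp hn s).mp hs, ?_⟩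
      show ((n * s * n⁻¹ : G) : G ⧸ Cfsg.pPrimeCore p G) =
        ((n * k : G) : G ⧸ Cfsg.pPrimeCore p G) * ((s : G) : G ⧸ Cfsg.pPrimeCore p G) *
          ((n * k : G) : G ⧸ Cfsg.pPrimeCore p G)⁻¹
      simp only [QuotientGroup.mk_mul, QuotientGroup.mk_inv, hk1, mul_one]
  have hp : IsPGroup p ↥((S : Subgroup G).map (QuotientGroup.mk' (Cfsg.pPrimeCore p G))) :=
    S.isPGroup'.map _
  have hle := Cfsg.Agent.Lib.Helper9.le_pCore hN hp
  intro s hs
  exact hle ⟨s, hs, rfl⟩

theorem centralizer_le_sup (S : Sylow p G)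
    (h : Subgroup.normalizer ((S : Subgroup G) : Set G) ⊔ Cfsg.pPrimeCore p G = ⊤) :
    Subgroup.centralizer ((S : Subgroup G) : Set G) ≤ (S : Subgroup G) ⊔ Cfsg.pPrimeCore p G := by
  obtain ⟨T₀⟩ : Nonempty (Sylow p ↥(Subgroup.centralizer ((S : Subgroup G) : Set G))) := inferInstance
  have hTS : ∀ t : ↥(Subgroup.centralizer ((S : Subgroup G) : Set G)),
      t ∈ (T₀ : Subgroup ↥(Subgroup.centralizer ((S : Subgroup G) : Set G))) → (t : G) ∈ (S : Subgroup G) := by
    have hTp : IsPGroup p ↥((T₀ : Subgroup ↥(Subgroup.centralizer ((S : Subgroup G) : Set G))).map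
        (Subgroup.centralizer ((S : Subgroup G) : Set G)).subtype) := T₀.isPGroup'.map _
    have hsup : IsPGroup p ↥((S : Subgroup G) ⊔
        (T₀ : Subgroup ↥(Subgroup.centralizer ((S : Subgroup G) : Set G))).map
          (Subgroup.centralizer ((S : Subgroup G) : Set G)).subtype) :=
      IsPGroup.to_sup_of_normal_left' S.isPGroup' hTp
        ((Subgroup.map_subtype_le _).trans (Subgroup.centralizer_le_normalizer _))
    have heq := sylow_eq_of_le S _ hsup le_sup_left
    intro t ht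
    exact heq.le (Subgroup.mem_sup_right ⟨t, ht, rfl⟩)
  have hcenter : (T₀ : Subgroup ↥(Subgroup.centralizer ((S : Subgroup G) : Set G))) ≤
      Subgroup.center ↥(Subgroup.centralizer ((S : Subgroup G) : Set G)) := by
    intro t ht
    rw [Subgroup.mem_center_iff]
    intro c
    have h1 := (Subgroup.mem_centralizer_iff.mp c.2) (t : G) (hTS t ht)
    ext
    exact h1.symm
  obtain ⟨D, hDn, hDc, hDall⟩ := exists_normal_pprime_of_central_sylow T₀ hcenter
  haveI := hDn
  have hcompl := isComplement'_of_coprime_of_isPGroup_quotient D hDc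
    (isPGroup_quotient_of_pprime_mem D hDall) T₀
  have hsup := hcompl.sup_eq_top
  -- D' := D.map subtype is contained in the p'-core
  have hD'mem : ∀ x : G, x ∈ D.map (Subgroup.centralizer ((S : Subgroup G) : Set G)).subtype ↔
      x ∈ Subgroup.centralizer ((S : Subgroup G) : Set G) ∧ (orderOf x).Coprime p := by
    intro x
    constructor
    · rintro ⟨d, hd, rfl⟩
      refine ⟨d.2, ?_⟩
      have h1 : orderOf (d : G) = orderOf d :=
        orderOf_injective (Subgroup.centralizer ((S : Subgroup G) : Set G)).subtype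
          (Subgroup.subtype_injective _) d
      have h2 : orderOf d ∣ Nat.card ↥D := Subgroup.orderOf_dvd_natCard _ hd
      show (orderOf (d : G)).Coprime p
      rw [h1]
      exact Nat.Coprime.coprime_dvd_left h2 hDc
    · rintro ⟨hxC, hxo⟩
      refine ⟨⟨x, hxC⟩, hDall ⟨x, hxC⟩ ?_, rfl⟩
      have h1 := orderOf_injective (Subgroup.centralizer ((S : Subgroup G) : Set G)).subtype
          (Subgroup.subtype_injective _)
          (⟨x, hxC⟩ : ↥(Subgroup.centralizer ((S : Subgroup G) : Set G)))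
      have h1' : orderOf x =
          orderOf (⟨x, hxC⟩ : ↥(Subgroup.centralizer ((S : Subgroup G) : Set G))) := h1
      rw [← h1']
      exact hxo
  have hconj : ∀ n ∈ Subgroup.normalizer ((S : Subgroup G) : Set G),
      ∀ d ∈ D.map (Subgroup.centralizer ((S : Subgroup G) : Set G)).subtype,
        n * d * n⁻¹ ∈ D.map (Subgroup.centralizer ((S : Subgroup G) : Set G)).subtype := by
    intro n hn d hd
    obtain ⟨hdC, hdo⟩ := (hD'mem d).mp hd
    refine (hD'mem _).mpr ⟨?_, ?_⟩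
    · rw [Subgroup.mem_centralizer_iff]
      intro s hs
      have h1 : n⁻¹ * s * n ∈ (S : Subgroup G) := (Subgroup.mem_normalizer_iff''.mp hn s).mp hs
      have h2 := (Subgroup.mem_centralizer_iff.mp hdC) _ h1
      calc s * (n * d * n⁻¹) = n * (n⁻¹ * s * n * d) * n⁻¹ := by group
        _ = n * (d * (n⁻¹ * s * n)) * n⁻¹ := by rw [h2]
        _ = n * d * n⁻¹ * s := by group
    · have h1 : orderOf ((MulAut.conj n).toMonoidHom d) = orderOf d :=
        orderOf_injective (MulAut.conj n).toMonoidHom (MulAut.conj n).injective d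
      have h2 : (MulAut.conj n).toMonoidHom d = n * d * n⁻¹ := by simp [MulAut.conj_apply]
      rw [← h2, h1]
      exact hdo
  have hWn : (D.map (Subgroup.centralizer ((S : Subgroup G) : Set G)).subtype ⊔
      Cfsg.pPrimeCore p G).Normal := by
    constructor
    intro x hx g
    have hg : g ∈ Subgroup.normalizer ((S : Subgroup G) : Set G) ⊔ Cfsg.pPrimeCore p G := by
      rw [h]; exact Subgroup.mem_top _
    obtain ⟨n, hn, k, hk, rfl⟩ := Subgroup.mem_sup_of_normal_right.mp hg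
    obtain ⟨d, hd, k', hk', rfl⟩ := Subgroup.mem_sup_of_normal_right.mp hx
    have e : n * k * (d * k') * (n * k)⁻¹ = (n * d * n⁻¹) * (n * (d⁻¹ * k * d * k' * k⁻¹) * n⁻¹) := by
      group
    rw [e]
    refine Subgroup.mul_mem _ (Subgroup.mem_sup_left (hconj n hn d hd)) (Subgroup.mem_sup_right ?_)
    have hKn : (Cfsg.pPrimeCore p G).Normal := inferInstance
    apply hKn.conj_mem
    refine Subgroup.mul_mem _ (Subgroup.mul_mem _ ?_ hk') (Subgroup.inv_mem _ hk)
    have := hKn.conj_mem k hk d⁻¹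
    simpa using this
  have hWc : (Nat.card ↥(D.map (Subgroup.centralizer ((S : Subgroup G) : Set G)).subtype ⊔
      Cfsg.pPrimeCore p G)).Coprime p := by
    have h1 := Cfsg.Agent.Lib.Helper9.card_sup_dvd
      (D.map (Subgroup.centralizer ((S : Subgroup G) : Set G)).subtype) (Cfsg.pPrimeCore p G)
    refine Nat.Coprime.coprime_dvd_left h1 (Nat.Coprime.mul_left ?_ ?_)
    · rw [Subgroup.card_map_of_injective (Subgroup.subtype_injective _)]
      exact hDc
    · exact Cfsg.Agent.Lib.Helper9.pPrimeCore_coprime p G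
  have hD'K : D.map (Subgroup.centralizer ((S : Subgroup G) : Set G)).subtype ≤ Cfsg.pPrimeCore p G :=
    le_sup_left.trans (Cfsg.Agent.Lib.Helper9.le_pPrimeCore hWn hWc)
  intro x hx
  have hx' : (⟨x, hx⟩ : ↥(Subgroup.centralizer ((S : Subgroup G) : Set G))) ∈
      D ⊔ (T₀ : Subgroup ↥(Subgroup.centralizer ((S : Subgroup G) : Set G))) := by
    rw [hsup]
    exact Subgroup.mem_top _
  have h2 : (D ⊔ (T₀ : Subgroup ↥(Subgroup.centralizer ((S : Subgroup G) : Set G)))).map
      (Subgroup.centralizer ((S : Subgroup G) : Set G)).subtype ≤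
        (S : Subgroup G) ⊔ Cfsg.pPrimeCore p G := by
    rw [Subgroup.map_sup]
    apply sup_le (hD'K.trans le_sup_right)
    rintro _ ⟨t, ht, rfl⟩
    exact Subgroup.mem_sup_left (hTS t ht)
  exact h2 ⟨⟨x, hx⟩, hx', rfl⟩

end

/-- Let S be a Sylow p-subgroup of the finite group G. Then G = N_G(S)·O_{p'}(G) if and only if G is p-constrained and N_G(S) controls fusion in S, in the sense that whenever a subgroup Q of S has a conjugate g Q g⁻¹ inside S, the element g is a product n c with n normalizing S and c centralizing Q. -/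
theorem result {G : Type*} [Group G] [Finite G] {p : ℕ} [Fact p.Prime] (S : Sylow p G) :
    Subgroup.normalizer ((S : Subgroup G) : Set G) ⊔ Cfsg.pPrimeCore p G = ⊤ ↔
      (Cfsg.IsPConstrained p G ∧
        ∀ Q : Subgroup G, Q ≤ (S : Subgroup G) → ∀ g : G, Q.map (MulAut.conj g).toMonoidHom ≤ (S : Subgroup G) →
          ∃ n ∈ Subgroup.normalizer ((S : Subgroup G) : Set G), ∃ c ∈ Subgroup.centralizer (Q : Set G), g = n * c) := by
  constructor
  · intro h
    have hSL := sylow_le_pPrimePCore S h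
    have hCS := centralizer_le_sup S h
    constructor
    · intro P₀ c hc
      obtain ⟨l, hl⟩ := exists_conj_le_sylow P₀ ((S : Subgroup G).subgroupOf (Cfsg.pPrimePCore p G))
        (S.isPGroup'.comap_subtype)
      have h1 : (l : G)⁻¹ * c * (l : G) ∈ Subgroup.centralizer ((S : Subgroup G) : Set G) := by
        rw [Subgroup.mem_centralizer_iff]
        intro s hs
        have h2 : (l : G) * s * (l : G)⁻¹ ∈
            (P₀ : Subgroup ↥(Cfsg.pPrimePCore p G)).map (Cfsg.pPrimePCore p G).subtype :=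
          ⟨l * ⟨s, hSL hs⟩ * l⁻¹, hl ⟨s, hSL hs⟩ (Subgroup.mem_subgroupOf.mpr hs), rfl⟩
        have h3 := (Subgroup.mem_centralizer_iff.mp hc) _ h2
        calc s * ((l : G)⁻¹ * c * (l : G)) = (l : G)⁻¹ * ((l : G) * s * (l : G)⁻¹ * c) * (l : G) := by
              group
          _ = (l : G)⁻¹ * (c * ((l : G) * s * (l : G)⁻¹)) * (l : G) := by rw [h3]
          _ = (l : G)⁻¹ * c * (l : G) * s := by group
      have h4 : (l : G)⁻¹ * c * (l : G) ∈ Cfsg.pPrimePCore p G :=
        (sup_le hSL pPrimeCore_le_pPrimePCore) (hCS h1)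
      have e : c = (l : G) * ((l : G)⁻¹ * c * (l : G)) * (l : G)⁻¹ := by group
      rw [e]
      exact Subgroup.mul_mem _ (Subgroup.mul_mem _ l.2 h4) (Subgroup.inv_mem _ l.2)
    · intro Q hQ g hg
      have hgmem : g ∈ Subgroup.normalizer ((S : Subgroup G) : Set G) ⊔ Cfsg.pPrimeCore p G := by
        rw [h]; exact Subgroup.mem_top _
      obtain ⟨n, hn, k, hk, rfl⟩ := Subgroup.mem_sup_of_normal_right.mp hgmem
      refine ⟨n, hn, k, ?_, rfl⟩
      rw [Subgroup.mem_centralizer_iff]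
      intro q hq
      have h1 : n * k * q * (n * k)⁻¹ ∈ (S : Subgroup G) := (map_conj_le_iff _ _ _).mp hg q hq
      have h2 : k * q * k⁻¹ ∈ (S : Subgroup G) := by
        have e : n * k * q * (n * k)⁻¹ = n * (k * q * k⁻¹) * n⁻¹ := by group
        rw [e] at h1
        exact (Subgroup.mem_normalizer_iff.mp hn _).mpr h1
      have h3 : k * q * k⁻¹ * q⁻¹ ∈ (S : Subgroup G) := Subgroup.mul_mem _ h2 (Subgroup.inv_mem _ (hQ hq))
      have hKn : (Cfsg.pPrimeCore p G).Normal := inferInstance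
      have h4 : k * q * k⁻¹ * q⁻¹ ∈ Cfsg.pPrimeCore p G := by
        have e : k * q * k⁻¹ * q⁻¹ = k * (q * k⁻¹ * q⁻¹) := by group
        rw [e]
        exact Subgroup.mul_mem _ hk (hKn.conj_mem _ (Subgroup.inv_mem _ hk) q)
      obtain ⟨j, hj⟩ := S.isPGroup' ⟨_, h3⟩
      have h5 : k * q * k⁻¹ * q⁻¹ = 1 :=
        eq_one_of_pelt_of_mem j (congrArg Subtype.val hj) _
          (Cfsg.Agent.Lib.Helper9.pPrimeCore_coprime p G) h4
      calc q * k = (k * q * k⁻¹ * q⁻¹)⁻¹ * (k * q) := by group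
        _ = k * q := by rw [h5]; group
  · rintro ⟨hc, hf⟩
    exact backward S hc hf

end Cfsg.Agent.S1948
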