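import Cfsg.Statements.S1907
import Cfsg.Agent.S1948
import Cfsg.Agent.Lib.Helper10.Coprime

set_option autoImplicit false
open Cfsg

namespace Cfsg.Agent.S1907

open Cfsg.Agent.Lib.Helper12.SylowBasic Cfsg.Agent.Lib.Helper12.NPC
open Pointwise

section
variable {G : Type*} [Group G] [Finite G] {p : ℕ} [Fact p.Prime]

/-- `N_G(H) ∩ O_{p'}(G) ≤ C_G(H)` for a `p`-subgroup `H` -/
theorem normalizer_inf_pPrimeCore_le (H : Subgroup G) (hH : IsPGroup p ↥H) :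
    Subgroup.normalizer (H : Set G) ⊓ Cfsg.pPrimeCore p G ≤ Subgroup.centralizer (H : Set G) := by
  intro c hc
  obtain ⟨hcN, hcD⟩ := Subgroup.mem_inf.mp hc
  rw [Subgroup.mem_centralizer_iff]
  intro h hh
  have hKn : (Cfsg.pPrimeCore p G).Normal := inferInstance
  have h1 : c * h * c⁻¹ * h⁻¹ ∈ H :=
    H.mul_mem ((Subgroup.mem_normalizer_iff.mp hcN h).mp hh) (H.inv_mem hh)
  have h2 : c * h * c⁻¹ * h⁻¹ ∈ Cfsg.pPrimeCore p G := by
    have e : c * h * c⁻¹ * h⁻¹ = c * (h * c⁻¹ * h⁻¹) := by group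
    rw [e]
    exact Subgroup.mul_mem _ hcD (hKn.conj_mem _ (Subgroup.inv_mem _ hcD) h)
  obtain ⟨j, hj⟩ := hH ⟨_, h1⟩
  have h5 : c * h * c⁻¹ * h⁻¹ = 1 :=
    Cfsg.Agent.S1948.eq_one_of_pelt_of_mem j (congrArg Subtype.val hj) _
      (Cfsg.Agent.Lib.Helper9.pPrimeCore_coprime p G) h2
  calc h * c = (c * h * c⁻¹ * h⁻¹)⁻¹ * (c * h) := by group
    _ = c * h := by rw [h5]; group

theorem conj_mem_centralizer {B : Subgroup G} {a x : G}
    (ha : a ∈ Subgroup.normalizer (B : Set G)) (hx : x ∈ Subgroup.centralizer (B : Set G)) :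
    a * x * a⁻¹ ∈ Subgroup.centralizer (B : Set G) := by
  rw [Subgroup.mem_centralizer_iff]
  intro b hb
  have h1 : a⁻¹ * b * a ∈ B := (Subgroup.mem_normalizer_iff''.mp ha b).mp hb
  have h2 := (Subgroup.mem_centralizer_iff.mp hx) _ h1
  calc b * (a * x * a⁻¹) = a * (a⁻¹ * b * a * x) * a⁻¹ := by group
    _ = a * (x * (a⁻¹ * b * a)) * a⁻¹ := by rw [h2]
    _ = a * x * a⁻¹ * b := by group

/-- part (a), for an arbitrary `p`-subgroup `H` -/
theorem partA (H : Subgroup G) (hH : IsPGroup p ↥H) (y : G)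
    (hy : y ∈ Subgroup.normalizer (H : Set G)) (hyo : ∃ k : ℕ, orderOf y = p ^ k)
    (d : G) (hd : d ∈ Cfsg.pPrimeCore p G)
    (hdy : d⁻¹ * y * d ∈ Subgroup.normalizer (H : Set G)) :
    ∃ d₁ ∈ Cfsg.pPrimeCore p G ⊓ Subgroup.centralizer ({y} : Set G),
      ∃ d₂ ∈ Cfsg.pPrimeCore p G ⊓ Subgroup.centralizer (H : Set G), d = d₁ * d₂ := by
  have hKn : (Cfsg.pPrimeCore p G).Normal := inferInstance
  have hKc := Cfsg.Agent.Lib.Helper9.pPrimeCore_coprime p G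
  -- C = D ∩ C(H) is normalized by N(H)
  have hNC : ∀ a ∈ Subgroup.normalizer (H : Set G),
      a ∈ Subgroup.normalizer
        ((Cfsg.pPrimeCore p G ⊓ Subgroup.centralizer (H : Set G) : Subgroup G) : Set G) := by
    intro a ha
    apply Cfsg.Agent.Lib.Helper10.Coprime.mem_normalizer_of_conj_mem
    intro s hs
    obtain ⟨hsD, hsC⟩ := Subgroup.mem_inf.mp hs
    exact Subgroup.mem_inf.mpr ⟨hKn.conj_mem s hsD a, conj_mem_centralizer ha hsC⟩
  -- the subgroup of elements of N(C) centralized by d modulo C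
  let M : Subgroup G :=
    { carrier := {a | a ∈ Subgroup.normalizer
          ((Cfsg.pPrimeCore p G ⊓ Subgroup.centralizer (H : Set G) : Subgroup G) : Set G) ∧
          d⁻¹ * a * d * a⁻¹ ∈ Cfsg.pPrimeCore p G ⊓ Subgroup.centralizer (H : Set G)}
      one_mem' := ⟨Subgroup.one_mem _, by simp⟩
      mul_mem' := by
        rintro a b ⟨haN, ha⟩ ⟨hbN, hb⟩
        refine ⟨Subgroup.mul_mem _ haN hbN, ?_⟩
        have e : d⁻¹ * (a * b) * d * (a * b)⁻¹ =
            (d⁻¹ * a * d * a⁻¹) * (a * (d⁻¹ * b * d * b⁻¹) * a⁻¹) := by group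
        rw [e]
        exact Subgroup.mul_mem _ ha ((Subgroup.mem_normalizer_iff.mp haN _).mp hb)
      inv_mem' := by
        rintro a ⟨haN, ha⟩
        refine ⟨Subgroup.inv_mem _ haN, ?_⟩
        have e : d⁻¹ * a⁻¹ * d * a⁻¹⁻¹ = a⁻¹ * (d⁻¹ * a * d * a⁻¹)⁻¹ * a⁻¹⁻¹ := by group
        rw [e]
        exact (Subgroup.mem_normalizer_iff.mp (Subgroup.inv_mem _ haN) _).mp
          (Subgroup.inv_mem _ ha) }
  have hyM : y ∈ M := by
    refine ⟨hNC y hy, Subgroup.mem_inf.mpr ⟨?_, ?_⟩⟩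
    · have e : d⁻¹ * y * d * y⁻¹ = d⁻¹ * (y * d * y⁻¹) := by group
      rw [e]
      exact Subgroup.mul_mem _ (Subgroup.inv_mem _ hd) (hKn.conj_mem d hd y)
    · apply normalizer_inf_pPrimeCore_le H hH
      refine Subgroup.mem_inf.mpr ⟨Subgroup.mul_mem _ hdy (Subgroup.inv_mem _ hy), ?_⟩
      have e : d⁻¹ * y * d * y⁻¹ = d⁻¹ * (y * d * y⁻¹) := by group
      rw [e]
      exact Subgroup.mul_mem _ (Subgroup.inv_mem _ hd) (hKn.conj_mem d hd y)
  have hzM : Subgroup.zpowers y ≤ M := Subgroup.zpowers_le.mpr hyM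
  obtain ⟨k, hk⟩ := hyo
  have hcardY : Nat.card ↥(Subgroup.zpowers y) = p ^ k := by rw [Nat.card_zpowers, hk]
  have hAD : Subgroup.zpowers y ≤ Subgroup.normalizer
      ((Cfsg.pPrimeCore p G ⊓ Subgroup.centralizer (H : Set G) : Subgroup G) : Set G) :=
    fun a ha => (hzM ha).1
  have hcop : (Nat.card ↥(Cfsg.pPrimeCore p G ⊓ Subgroup.centralizer (H : Set G))).Coprime
      (Nat.card ↥(Subgroup.zpowers y)) := by
    rw [hcardY]
    exact Nat.Coprime.pow_right k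
      (Nat.Coprime.coprime_dvd_left (Subgroup.card_dvd_of_le inf_le_left) hKc)
  have hsolv : Group.IsSolvable ↥(Subgroup.zpowers y) := by
    apply isSolvable_of_comm
    intro a b
    obtain ⟨i, hi⟩ := Subgroup.mem_zpowers_iff.mp a.2
    obtain ⟨j, hj⟩ := Subgroup.mem_zpowers_iff.mp b.2
    ext
    show (a : G) * (b : G) = (b : G) * (a : G)
    rw [← hi, ← hj]
    exact (Commute.zpow_zpow_self y i j).eq
  obtain ⟨n, hn, hconj⟩ := Cfsg.Agent.Lib.Helper10.Coprime.key_lemma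
    (Cfsg.pPrimeCore p G ⊓ Subgroup.centralizer (H : Set G)) (Subgroup.zpowers y) hAD hcop
    (Or.inr hsolv) d (fun a ha => (hzM ha).2)
  have hdisj : Subgroup.zpowers y ⊓ Cfsg.pPrimeCore p G = ⊥ := by
    rw [eq_bot_iff]
    intro z hz
    obtain ⟨hz1, hz2⟩ := Subgroup.mem_inf.mp hz
    rw [Subgroup.mem_bot]
    have h1 : orderOf z ∣ p ^ k := by
      rw [← hcardY]
      exact Subgroup.orderOf_dvd_natCard _ hz1
    exact Cfsg.Agent.S1948.eq_one_of_pelt_of_mem k (orderOf_dvd_iff_pow_eq_one.mp h1) _ hKc hz2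
  have hcen := Cfsg.Agent.Lib.Helper10.Coprime.mem_centralizer_of_normalizes (Subgroup.zpowers y)
    (Cfsg.pPrimeCore p G) (fun a _ => by
      rw [Subgroup.normalizer_eq_top]; exact Subgroup.mem_top a) hdisj (d * n)
    (Subgroup.mul_mem _ hd (Subgroup.mem_inf.mp hn).1) hconj
  refine ⟨d * n, Subgroup.mem_inf.mpr ⟨Subgroup.mul_mem _ hd (Subgroup.mem_inf.mp hn).1, ?_⟩,
    n⁻¹, Subgroup.inv_mem _ hn, by group⟩
  rw [Subgroup.mem_centralizer_iff]
  intro z hz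
  rw [Set.mem_singleton_iff] at hz
  subst hz
  exact (Subgroup.mem_centralizer_iff.mp hcen) z (Subgroup.mem_zpowers z)

/-- Frattini: `G = N_G(P ∩ O_{p',p}(G)) O_{p'}(G)` -/
theorem frattini (P : Sylow p G) :
    Subgroup.normalizer (((P : Subgroup G) ⊓ Cfsg.pPrimePCore p G : Subgroup G) : Set G) ⊔
      Cfsg.pPrimeCore p G = ⊤ := by
  haveI hLn : (Cfsg.pPrimePCore p G).Normal := Cfsg.Agent.S1948.pPrimePCore_normal'
  have hSLp : IsPGroup p ↥(((P : Subgroup G) ⊓ Cfsg.pPrimePCore p G).subgroupOf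
      (Cfsg.pPrimePCore p G)) := (P.isPGroup'.to_le inf_le_left).comap_subtype
  obtain ⟨P₀, hP₀⟩ := hSLp.exists_le_sylow
  have hPeq := Cfsg.Agent.S1948.sylow_inf_eq P (Cfsg.pPrimePCore p G) P₀ hP₀
  have hfr : Subgroup.normalizer
      (((P₀ : Subgroup ↥(Cfsg.pPrimePCore p G)).map (Cfsg.pPrimePCore p G).subtype : Subgroup G) : Set G) ⊔
        Cfsg.pPrimePCore p G = ⊤ := Sylow.normalizer_sup_eq_top P₀
  have hL := Cfsg.Agent.S1948.le_sylow_sup P₀
  rw [hPeq] at hfr hL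
  rw [eq_top_iff, ← hfr]
  exact sup_le le_sup_left (hL.trans (sup_le (Subgroup.le_normalizer.trans le_sup_left) le_sup_right))

theorem sylow_le_normalizer (P : Sylow p G) :
    (P : Subgroup G) ≤
      Subgroup.normalizer (((P : Subgroup G) ⊓ Cfsg.pPrimePCore p G : Subgroup G) : Set G) := by
  haveI hLn : (Cfsg.pPrimePCore p G).Normal := Cfsg.Agent.S1948.pPrimePCore_normal'
  intro s hs
  apply Cfsg.Agent.Lib.Helper10.Coprime.mem_normalizer_of_conj_mem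
  intro h hh
  obtain ⟨h1, h2⟩ := Subgroup.mem_inf.mp hh
  exact Subgroup.mem_inf.mpr
    ⟨Subgroup.mul_mem _ (Subgroup.mul_mem _ hs h1) (Subgroup.inv_mem _ hs), hLn.conj_mem h h2 s⟩

/-- part (b) -/
theorem partB (P : Sylow p G) (x y : G) (hx : x ∈ (P : Subgroup G)) (hy : y ∈ (P : Subgroup G))
    (g : G) (hg : g * x * g⁻¹ = y) :
    ∃ n ∈ Subgroup.normalizer (((P : Subgroup G) ⊓ Cfsg.pPrimePCore p G : Subgroup G) : Set G),
      n * x * n⁻¹ = y := by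
  have hH : IsPGroup p ↥((P : Subgroup G) ⊓ Cfsg.pPrimePCore p G) := P.isPGroup'.to_le inf_le_left
  have hgmem : g ∈ Subgroup.normalizer
      (((P : Subgroup G) ⊓ Cfsg.pPrimePCore p G : Subgroup G) : Set G) ⊔ Cfsg.pPrimeCore p G := by
    rw [frattini P]; exact Subgroup.mem_top _
  obtain ⟨n, hn, d, hd, rfl⟩ := Subgroup.mem_sup_of_normal_right.mp hgmem
  have hxo : ∃ k : ℕ, orderOf x = p ^ k := by
    obtain ⟨k, hk⟩ := (IsPGroup.iff_orderOf.mp P.isPGroup') ⟨x, hx⟩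
    exact ⟨k, by rw [← hk, Subgroup.orderOf_mk]⟩
  have h1 : d⁻¹⁻¹ * x * d⁻¹ ∈ Subgroup.normalizer
      (((P : Subgroup G) ⊓ Cfsg.pPrimePCore p G : Subgroup G) : Set G) := by
    have e : d⁻¹⁻¹ * x * d⁻¹ = n⁻¹ * (n * d * x * (n * d)⁻¹) * n := by group
    rw [e, hg]
    exact Subgroup.mul_mem _ (Subgroup.mul_mem _ (Subgroup.inv_mem _ hn) (sylow_le_normalizer P hy)) hn
  obtain ⟨d₁, hd₁, d₂, hd₂, hdd⟩ := partA _ hH x (sylow_le_normalizer P hx) hxo d⁻¹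
    (Subgroup.inv_mem _ hd) h1
  refine ⟨n * d₂⁻¹, Subgroup.mul_mem _ hn (Subgroup.inv_mem _
    (Subgroup.centralizer_le_normalizer _ (Subgroup.mem_inf.mp hd₂).2)), ?_⟩
  have hc : x * d₁ = d₁ * x :=
    (Subgroup.mem_centralizer_iff.mp (Subgroup.mem_inf.mp hd₁).2) x (Set.mem_singleton x)
  have hd' : d = d₂⁻¹ * d₁⁻¹ := by
    have : d⁻¹⁻¹ = (d₁ * d₂)⁻¹ := by rw [hdd]
    rw [inv_inv] at this
    rw [this]
    group
  rw [← hg, hd']
  have e1 : n * (d₂⁻¹ * d₁⁻¹) * x * (n * (d₂⁻¹ * d₁⁻¹))⁻¹ = n * d₂⁻¹ * (d₁⁻¹ * (x * d₁)) * d₂ * n⁻¹ := by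
    group
  rw [e1, hc]
  group

end

/-- Let P be a Sylow p-subgroup of a finite group G, H = P ∩ O_{p',p}(G), N = N_G(H) and D = O_{p'}(G). (a) If y is an element of p-power order of N and d ∈ D with d⁻¹ y d ∈ N, then d = d₁ d₂ with d₁ ∈ C_D(y) and d₂ ∈ C_D(H). (b) Two elements of P that are conjugate in G are conjugate in N. -/
theorem result {G : Type*} [Group G] [Finite G] {p : ℕ} [Fact p.Prime] (P : Sylow p G) :
    (∀ y ∈ Subgroup.normalizer (((P : Subgroup G) ⊓ Cfsg.pPrimePCore p G : Subgroup G) : Set G), (∃ k : ℕ, orderOf y = p ^ k) →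
      ∀ d ∈ Cfsg.pPrimeCore p G, d⁻¹ * y * d ∈ Subgroup.normalizer (((P : Subgroup G) ⊓ Cfsg.pPrimePCore p G : Subgroup G) : Set G) →
        ∃ d₁ ∈ Cfsg.pPrimeCore p G ⊓ Subgroup.centralizer ({y} : Set G),
          ∃ d₂ ∈ Cfsg.pPrimeCore p G ⊓ Subgroup.centralizer (((P : Subgroup G) ⊓ Cfsg.pPrimePCore p G : Subgroup G) : Set G), d = d₁ * d₂) ∧
    ∀ x y : G, x ∈ (P : Subgroup G) → y ∈ (P : Subgroup G) → IsConj x y →
      ∃ n ∈ Subgroup.normalizer (((P : Subgroup G) ⊓ Cfsg.pPrimePCore p G : Subgroup G) : Set G), n * x * n⁻¹ = y := by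
  have hH : IsPGroup p ↥((P : Subgroup G) ⊓ Cfsg.pPrimePCore p G) := P.isPGroup'.to_le inf_le_left
  constructor
  · intro y hy hyo d hd hdy
    exact partA _ hH y hy hyo d hd hdy
  · intro x y hx hy hxy
    obtain ⟨g, hg⟩ := isConj_iff.mp hxy
    exact partB P x y hx hy g hg

end Cfsg.Agent.S1907
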