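import Cfsg.Statements.S1910
import Cfsg.Agent.Lib.Helper12.SylowBasic
import Cfsg.Agent.Lib.Helper12.CharP
import Cfsg.Agent.Lib.Helper12.FusionLift

set_option autoImplicit false
open Cfsg

namespace Cfsg.Agent.S1910

open Cfsg.Agent.Lib.Helper12.SylowBasic Cfsg.Agent.Lib.Helper12.FusionLift

section aux

variable {G : Type*} [Group G] [Finite G]

/-- `X` is a conjugate of `Q`. -/
def IsConjOf (Q X : Subgroup G) : Prop := ∃ u : G, X = Q.map (MulAut.conj u).toMonoidHom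

omit [Finite G] in
theorem isConjOf_map {Q X : Subgroup G} (h : IsConjOf Q X) (c : G) :
    IsConjOf Q (X.map (MulAut.conj c).toMonoidHom) := by
  obtain ⟨u, rfl⟩ := h
  refine ⟨c * u, ?_⟩
  ext x
  rw [mem_map_conj_iff, mem_map_conj_iff, mem_map_conj_iff]
  have e : u⁻¹ * (c⁻¹ * x * c) * u = (c * u)⁻¹ * x * (c * u) := by group
  rw [e]

omit [Finite G] in
theorem map_conj_eq_self_iff (Q : Subgroup G) (w : G) :
    Q.map (MulAut.conj w).toMonoidHom = Q ↔ w ∈ Subgroup.normalizer (Q : Set G) := by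
  constructor
  · intro h
    rw [Subgroup.mem_normalizer_iff]
    intro x
    constructor
    · intro hx
      have h1 := conj_mem_map_conj Q w x hx
      rwa [h] at h1
    · intro hx
      have h1 : w * x * w⁻¹ ∈ Q.map (MulAut.conj w).toMonoidHom := by rw [h]; exact hx
      rw [mem_map_conj_iff] at h1
      have e : w⁻¹ * (w * x * w⁻¹) * w = x := by group
      rwa [e] at h1
  · intro h
    ext x
    rw [mem_map_conj_iff]
    have h1 := Subgroup.mem_normalizer_iff.mp (Subgroup.inv_mem _ h) x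
    rw [inv_inv] at h1
    exact h1.symm

theorem two_elt_trivial {Q : Subgroup G} (hQ : IsTightlyEmbedded Q) {X Y : Subgroup G}
    (hX : IsConjOf Q X) (hY : IsConjOf Q Y) (hXY : X ≠ Y) {x : G} (hxX : x ∈ X) (hxY : x ∈ Y)
    {n : ℕ} (hx : x ^ (2 ^ n) = 1) : x = 1 := by
  obtain ⟨u, rfl⟩ := hX
  obtain ⟨v, rfl⟩ := hY
  have hw : u⁻¹ * v ∉ Subgroup.normalizer (Q : Set G) := by
    intro hw
    apply hXY
    have h1 := (map_conj_eq_self_iff Q (u⁻¹ * v)).mpr hw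
    ext y
    rw [mem_map_conj_iff, mem_map_conj_iff]
    have h2 : v⁻¹ * y * v ∈ Q ↔ u⁻¹ * y * u ∈ Q.map (MulAut.conj (u⁻¹ * v)).toMonoidHom := by
      rw [mem_map_conj_iff]
      have e : (u⁻¹ * v)⁻¹ * (u⁻¹ * y * u) * (u⁻¹ * v) = v⁻¹ * y * v := by group
      rw [e]
    rw [h2, h1]
  have hodd := hQ.2 _ hw
  have hz1 : u⁻¹ * x * u ∈ Q := (mem_map_conj_iff Q u x).mp hxX
  have hz2 : u⁻¹ * x * u ∈ Q.map (MulAut.conj (u⁻¹ * v)).toMonoidHom := by
    rw [mem_map_conj_iff]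
    have e : (u⁻¹ * v)⁻¹ * (u⁻¹ * x * u) * (u⁻¹ * v) = v⁻¹ * x * v := by group
    rw [e]
    exact (mem_map_conj_iff Q v x).mp hxY
  have hz3 : (u⁻¹ * x * u) ^ (2 ^ n) = 1 := by
    have e : (u⁻¹ * x * u) ^ (2 ^ n) = u⁻¹ * x ^ (2 ^ n) * u := by
      have h3 := conj_pow (a := u⁻¹) (b := x) (i := 2 ^ n)
      simpa using h3
    rw [e, hx]
    group
  have h3 : orderOf (u⁻¹ * x * u) ∣ 2 ^ n := orderOf_dvd_of_pow_eq_one hz3
  have h4 : orderOf (u⁻¹ * x * u) ∣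
      Nat.card ↥(Q ⊓ Q.map (MulAut.conj (u⁻¹ * v)).toMonoidHom) :=
    Subgroup.orderOf_dvd_natCard _ (Subgroup.mem_inf.mpr ⟨hz1, hz2⟩)
  have h5 : orderOf (u⁻¹ * x * u) = 1 := by
    have hcop : Nat.Coprime (2 ^ n)
        (Nat.card ↥(Q ⊓ Q.map (MulAut.conj (u⁻¹ * v)).toMonoidHom)) :=
      Nat.Coprime.pow_left n (Nat.coprime_two_left.mpr hodd)
    exact Nat.eq_one_of_dvd_coprimes hcop h3 h4
  have h6 : u⁻¹ * x * u = 1 := orderOf_eq_one_iff.mp h5
  have e : x = u * (u⁻¹ * x * u) * u⁻¹ := by group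
  rw [e, h6]
  group

theorem cent_le_normalizer {Q : Subgroup G} (hQ : IsTightlyEmbedded Q) {Z : Subgroup G}
    (hZ : IsConjOf Q Z) {z : G} (hzZ : z ∈ Z) (hz1 : z ≠ 1) {n : ℕ} (hz : z ^ (2 ^ n) = 1)
    {c : G} (hc : c * z = z * c) : c ∈ Subgroup.normalizer (Z : Set G) := by
  rw [← map_conj_eq_self_iff]
  by_contra hne
  apply hz1
  refine two_elt_trivial hQ (isConjOf_map hZ c) hZ hne ?_ hzZ hz
  rw [mem_map_conj_iff]
  have e : c⁻¹ * z * c = z := by
    rw [mul_assoc, ← hc]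
    group
  rw [e]
  exact hzZ

theorem sym_lemma {Q : Subgroup G} (hQ : IsTightlyEmbedded Q) {X Y : Subgroup G}
    (hX : IsConjOf Q X) (hY : IsConjOf Q Y) (hXY : X ≠ Y)
    (T : Subgroup G) (hTY : T ≤ Y) (hTN : T ≤ Subgroup.normalizer (X : Set G))
    (S : Subgroup G) (hTS : T ≤ S) (hS : S ≤ X ⊔ T) (hS2 : IsPGroup 2 S)
    (hSsyl : ¬ 2 ∣ S.relIndex (X ⊔ T)) :
    T ⊓ X = ⊥ ∧ ⁅T, S ⊓ Subgroup.normalizer (T : Set G) ⊓ X⁆ = ⊥ ∧
      T ⊔ (S ⊓ Subgroup.normalizer (T : Set G) ⊓ X) = S ⊓ Subgroup.normalizer (T : Set G) ∧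
      ∃ f : ↥T →* ↥(S ⊓ Subgroup.normalizer (T : Set G) ⊓ X), Function.Injective f := by
  have : Fact (Nat.Prime 2) := ⟨Nat.prime_two⟩
  have hS2' : ∀ s ∈ S, ∃ n : ℕ, s ^ (2 ^ n) = 1 := by
    intro s hs
    obtain ⟨n, hn⟩ := hS2 ⟨s, hs⟩
    exact ⟨n, by simpa using congrArg Subtype.val hn⟩
  have hT2 : IsPGroup 2 ↥T := hS2.to_le hTS
  have h1 : T ⊓ X = ⊥ := by
    rw [Subgroup.eq_bot_iff_forall]
    intro x hx
    obtain ⟨hxT, hxX⟩ := Subgroup.mem_inf.mp hx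
    obtain ⟨n, hn⟩ := hS2' x (hTS hxT)
    exact two_elt_trivial hQ hX hY hXY hxX (hTY hxT) hn
  have hRX : S ⊓ Subgroup.normalizer (T : Set G) ⊓ X ≤ X := inf_le_right
  have hRS : S ⊓ Subgroup.normalizer (T : Set G) ⊓ X ≤ S := inf_le_left.trans inf_le_left
  have hRN : S ⊓ Subgroup.normalizer (T : Set G) ⊓ X ≤ Subgroup.normalizer (T : Set G) :=
    inf_le_left.trans inf_le_right
  have hcomm : ∀ t ∈ T, ∀ r ∈ S ⊓ Subgroup.normalizer (T : Set G) ⊓ X, t * r = r * t := by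
    intro t ht r hr
    have hc1 : t * r * t⁻¹ * r⁻¹ ∈ X :=
      X.mul_mem ((Subgroup.mem_normalizer_iff.mp (hTN ht) r).mp (hRX hr)) (X.inv_mem (hRX hr))
    have hc2 : t * r * t⁻¹ * r⁻¹ ∈ T := by
      have h3 : r * t⁻¹ * r⁻¹ ∈ T :=
        (Subgroup.mem_normalizer_iff.mp (hRN hr) t⁻¹).mp (T.inv_mem ht)
      have e : t * r * t⁻¹ * r⁻¹ = t * (r * t⁻¹ * r⁻¹) := by group
      rw [e]
      exact T.mul_mem ht h3
    have h4 : t * r * t⁻¹ * r⁻¹ ∈ T ⊓ X := Subgroup.mem_inf.mpr ⟨hc2, hc1⟩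
    rw [h1, Subgroup.mem_bot] at h4
    have e : t * r = (t * r * t⁻¹ * r⁻¹) * (r * t) := by group
    rw [e, h4, one_mul]
  have h2 : ⁅T, S ⊓ Subgroup.normalizer (T : Set G) ⊓ X⁆ = ⊥ := by
    rw [Subgroup.commutator_eq_bot_iff_le_centralizer]
    intro t ht
    rw [Subgroup.mem_centralizer_iff]
    intro r hr
    exact (hcomm t ht r hr).symm
  have hdec : ∀ s ∈ S, ∃ t ∈ T, ∃ q ∈ X, s = t * q := fun s hs =>
    mem_sup_of_le_normalizer hTN (by rw [sup_comm]; exact hS hs)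
  have h3 : T ⊔ (S ⊓ Subgroup.normalizer (T : Set G) ⊓ X) =
      S ⊓ Subgroup.normalizer (T : Set G) := by
    apply le_antisymm
    · exact sup_le (le_inf hTS Subgroup.le_normalizer) inf_le_left
    · intro w hw
      obtain ⟨hwS, hwN⟩ := Subgroup.mem_inf.mp hw
      obtain ⟨t, ht, q, hq, rfl⟩ := hdec w hwS
      refine Subgroup.mul_mem_sup ht ?_
      have hqS : q ∈ S := by
        have h5 := S.mul_mem (S.inv_mem (hTS ht)) hwS
        simpa using h5
      have hqN : q ∈ Subgroup.normalizer (T : Set G) := by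
        have h5 := Subgroup.mul_mem _ (Subgroup.inv_mem _ (Subgroup.le_normalizer ht)) hwN
        simpa using h5
      exact Subgroup.mem_inf.mpr ⟨Subgroup.mem_inf.mpr ⟨hqS, hqN⟩, hq⟩
  refine ⟨h1, h2, h3, ?_⟩
  by_cases hSW : S ≤ Subgroup.normalizer (T : Set G)
  · -- `S ∩ X` is a Sylow subgroup of `X`; conjugate `T` into it
    obtain ⟨u, hu⟩ := hX
    obtain ⟨v, hv⟩ := hY
    have hc₀ : ∀ t ∈ T, (u * v⁻¹) * t * (u * v⁻¹)⁻¹ ∈ X := by
      intro t ht
      rw [hu, mem_map_conj_iff]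
      have e : u⁻¹ * ((u * v⁻¹) * t * (u * v⁻¹)⁻¹) * u = v⁻¹ * t * v := by group
      rw [e]
      have h5 := hTY ht
      rw [hv, mem_map_conj_iff] at h5
      exact h5
    have hT'le : T.map (MulAut.conj (u * v⁻¹)).toMonoidHom ≤ X ⊔ T :=
      ((map_conj_le_iff T X (u * v⁻¹)).mpr hc₀).trans le_sup_left
    obtain ⟨c, hc, hcS⟩ := exists_conj_le_of_relIndex S (X ⊔ T) hS hS2 hSsyl
      (T.map (MulAut.conj (u * v⁻¹)).toMonoidHom) hT'le (hT2.map _)
    have hcN : c ∈ Subgroup.normalizer (X : Set G) :=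
      (sup_le Subgroup.le_normalizer hTN) hc
    have hmem : ∀ t : ↥T, ((MulAut.conj (c * (u * v⁻¹))).toMonoidHom.comp T.subtype) t ∈
        S ⊓ Subgroup.normalizer (T : Set G) ⊓ X := by
      intro t
      have e : ((MulAut.conj (c * (u * v⁻¹))).toMonoidHom.comp T.subtype) t =
          c * ((u * v⁻¹) * (t : G) * (u * v⁻¹)⁻¹) * c⁻¹ := by
        show (c * (u * v⁻¹)) * (t : G) * (c * (u * v⁻¹))⁻¹ = _
        group
      rw [e]
      have h5 := hcS _ (conj_mem_map_conj T (u * v⁻¹) t t.2)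
      have h6 : c * ((u * v⁻¹) * (t : G) * (u * v⁻¹)⁻¹) * c⁻¹ ∈ X :=
        (Subgroup.mem_normalizer_iff.mp hcN _).mp (hc₀ t t.2)
      exact Subgroup.mem_inf.mpr ⟨Subgroup.mem_inf.mpr ⟨h5, hSW h5⟩, h6⟩
    refine ⟨((MulAut.conj (c * (u * v⁻¹))).toMonoidHom.comp T.subtype).codRestrict _ hmem, ?_⟩
    intro a b hab
    have h5 := congrArg Subtype.val hab
    have h7 : (c * (u * v⁻¹)) * (a : G) * (c * (u * v⁻¹))⁻¹ =
        (c * (u * v⁻¹)) * (b : G) * (c * (u * v⁻¹))⁻¹ := h5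
    have h8 := congrArg (fun z => (c * (u * v⁻¹))⁻¹ * z * (c * (u * v⁻¹))) h7
    have h9 : (a : G) = b := by simpa [mul_assoc] using h8
    exact Subtype.ext h9
  · -- `N_S(T) < S`
    have hWS : S ⊓ Subgroup.normalizer (T : Set G) < S :=
      lt_of_le_of_ne inf_le_left (fun h => hSW (inf_eq_left.mp h))
    have h4 := Cfsg.Agent.Lib.Helper12.CharP.lt_inf_normalizer
      (S ⊓ Subgroup.normalizer (T : Set G)) S hS2 hWS
    obtain ⟨s, hs, hsW⟩ := SetLike.exists_of_lt h4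
    obtain ⟨hsS, hsN⟩ := Subgroup.mem_inf.mp hs
    obtain ⟨t, ht, q, hq, rfl⟩ := hdec s hsS
    have hTW : T ≤ S ⊓ Subgroup.normalizer (T : Set G) := le_inf hTS Subgroup.le_normalizer
    have hqS : q ∈ S := by
      have h5 := S.mul_mem (S.inv_mem (hTS ht)) hsS
      simpa using h5
    have hqNW : q ∈ Subgroup.normalizer ((S ⊓ Subgroup.normalizer (T : Set G) : Subgroup G) : Set G) := by
      have h5 := Subgroup.mul_mem _ (Subgroup.inv_mem _ (Subgroup.le_normalizer (hTW ht))) hsN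
      simpa using h5
    have hqW : q ∉ S ⊓ Subgroup.normalizer (T : Set G) := fun h =>
      hsW (Subgroup.mul_mem _ (hTW ht) h)
    have hqNT : q ∉ Subgroup.normalizer (T : Set G) := fun h =>
      hqW (Subgroup.mem_inf.mpr ⟨hqS, h⟩)
    have hY' : IsConjOf Q (Y.map (MulAut.conj q).toMonoidHom) := isConjOf_map hY q
    have hYne : Y.map (MulAut.conj q).toMonoidHom ≠ Y := by
      intro heq
      apply hqNT
      apply Subgroup.centralizer_le_normalizer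
      rw [Subgroup.mem_centralizer_iff]
      intro t' ht'
      have hcY : q * t' * q⁻¹ * t'⁻¹ ∈ Y := by
        have h5 := conj_mem_map_conj Y q t' (hTY ht')
        rw [heq] at h5
        exact Y.mul_mem h5 (Y.inv_mem (hTY ht'))
      have hcX : q * t' * q⁻¹ * t'⁻¹ ∈ X := by
        have h5 : t' * q⁻¹ * t'⁻¹ ∈ X :=
          (Subgroup.mem_normalizer_iff.mp (hTN ht') q⁻¹).mp (X.inv_mem hq)
        have e : q * t' * q⁻¹ * t'⁻¹ = q * (t' * q⁻¹ * t'⁻¹) := by group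
        rw [e]
        exact X.mul_mem hq h5
      have hcS : q * t' * q⁻¹ * t'⁻¹ ∈ S :=
        S.mul_mem (S.mul_mem (S.mul_mem hqS (hTS ht')) (S.inv_mem hqS)) (S.inv_mem (hTS ht'))
      obtain ⟨n, hn⟩ := hS2' _ hcS
      have h6 := two_elt_trivial hQ hX hY hXY hcX hcY hn
      have e : t' * q = (q * t' * q⁻¹ * t'⁻¹)⁻¹ * (q * t') := by group
      rw [e, h6, inv_one, one_mul]
    have hRW : S ⊓ Subgroup.normalizer (T : Set G) ⊓ X ≤ S ⊓ Subgroup.normalizer (T : Set G) :=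
      inf_le_left
    haveI hNn : (T.subgroupOf (S ⊓ Subgroup.normalizer (T : Set G))).Normal :=
      (Subgroup.normal_subgroupOf_iff_le_normalizer hTW).mpr inf_le_right
    let φ : ↥(S ⊓ Subgroup.normalizer (T : Set G) ⊓ X) →*
        ↥(S ⊓ Subgroup.normalizer (T : Set G)) ⧸ T.subgroupOf (S ⊓ Subgroup.normalizer (T : Set G)) :=
      (QuotientGroup.mk' _).comp (Subgroup.inclusion hRW)
    have hφinj : Function.Injective φ := by
      rw [← MonoidHom.ker_eq_bot_iff, Subgroup.eq_bot_iff_forall]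
      intro r hr
      have hr' : φ r = 1 := MonoidHom.mem_ker.mp hr
      have h5 : (Subgroup.inclusion hRW r) ∈ T.subgroupOf (S ⊓ Subgroup.normalizer (T : Set G)) :=
        (QuotientGroup.eq_one_iff _).mp hr'
      have h6 : (r : G) ∈ T ⊓ X := Subgroup.mem_inf.mpr ⟨Subgroup.mem_subgroupOf.mp h5, hRX r.2⟩
      rw [h1, Subgroup.mem_bot] at h6
      exact Subtype.ext h6
    have hTNR : T ≤ Subgroup.normalizer
        ((S ⊓ Subgroup.normalizer (T : Set G) ⊓ X : Subgroup G) : Set G) := by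
      intro t' ht'
      apply Subgroup.centralizer_le_normalizer
      rw [Subgroup.mem_centralizer_iff]
      intro r hr
      exact (hcomm t' ht' r hr).symm
    have hφsurj : Function.Surjective φ := by
      intro y
      obtain ⟨w, rfl⟩ := QuotientGroup.mk'_surjective _ y
      have hw : (w : G) ∈ T ⊔ (S ⊓ Subgroup.normalizer (T : Set G) ⊓ X) := by
        rw [h3]; exact w.2
      obtain ⟨t', ht', r, hr, hwtr⟩ := mem_sup_of_le_normalizer hTNR hw
      refine ⟨⟨r, hr⟩, ?_⟩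
      show QuotientGroup.mk' _ (Subgroup.inclusion hRW ⟨r, hr⟩) = QuotientGroup.mk' _ w
      rw [QuotientGroup.mk'_apply, QuotientGroup.mk'_apply, QuotientGroup.eq,
        Subgroup.mem_subgroupOf]
      show r⁻¹ * (w : G) ∈ T
      rw [hwtr]
      have e : r⁻¹ * (t' * r) = t' := by
        rw [hcomm t' ht' r hr]
        group
      rw [e]
      exact ht'
    have hqconj : ∀ t' : ↥T, ((MulAut.conj q).toMonoidHom.comp T.subtype) t' ∈
        S ⊓ Subgroup.normalizer (T : Set G) :=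
      fun t' => (Subgroup.mem_normalizer_iff.mp hqNW t').mp (hTW t'.2)
    let ψ : ↥T →*
        ↥(S ⊓ Subgroup.normalizer (T : Set G)) ⧸ T.subgroupOf (S ⊓ Subgroup.normalizer (T : Set G)) :=
      (QuotientGroup.mk' _).comp
        (((MulAut.conj q).toMonoidHom.comp T.subtype).codRestrict _ hqconj)
    have hψinj : Function.Injective ψ := by
      rw [← MonoidHom.ker_eq_bot_iff, Subgroup.eq_bot_iff_forall]
      intro a ha
      have ha' : ψ a = 1 := MonoidHom.mem_ker.mp ha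
      have h5 : (((MulAut.conj q).toMonoidHom.comp T.subtype).codRestrict _ hqconj a) ∈
          T.subgroupOf (S ⊓ Subgroup.normalizer (T : Set G)) :=
        (QuotientGroup.eq_one_iff _).mp ha'
      have h6 : q * (a : G) * q⁻¹ ∈ T := Subgroup.mem_subgroupOf.mp h5
      have h7 : q * (a : G) * q⁻¹ ∈ Y.map (MulAut.conj q).toMonoidHom :=
        conj_mem_map_conj Y q a (hTY a.2)
      obtain ⟨n, hn⟩ := hS2' _ (hTS h6)
      have h8 := two_elt_trivial hQ hY' hY hYne h7 (hTY h6) hn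
      have h9 : (a : G) = 1 := by
        have e : (a : G) = q⁻¹ * (q * (a : G) * q⁻¹) * q := by group
        rw [e, h8]
        group
      exact Subtype.ext h9
    refine ⟨(MulEquiv.ofBijective φ ⟨hφinj, hφsurj⟩).symm.toMonoidHom.comp ψ, ?_⟩
    exact (MulEquiv.ofBijective φ ⟨hφinj, hφsurj⟩).symm.injective.comp hψinj

end aux

/-- Let Q be a tightly embedded subgroup of a finite group G, g an element outside N_G(Q), T a nontrivial Sylow 2-subgroup of Q^g ∩ N_G(Q), and S a Sylow 2-subgroup of QT containing T. Then T ∩ Q = 1, and N_S(T) is the direct product of T and N_S(T) ∩ Q, with N_S(T) ∩ Q isomorphic to T. -/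
theorem result {G : Type*} [Group G] [Finite G] (Q : Subgroup G) (hQ : Cfsg.IsTightlyEmbedded Q)
    (g : G) (hg : g ∉ Subgroup.normalizer (Q : Set G))
    (T : Subgroup G) (hT1 : T ≠ ⊥) (hT : T ≤ Q.map (MulAut.conj g).toMonoidHom ⊓ Subgroup.normalizer (Q : Set G))
    (hTsyl : IsPGroup 2 T ∧ ¬ 2 ∣ T.relIndex (Q.map (MulAut.conj g).toMonoidHom ⊓ Subgroup.normalizer (Q : Set G)))
    (S : Subgroup G) (hTS : T ≤ S) (hS : S ≤ Q ⊔ T) (hSsyl : IsPGroup 2 S ∧ ¬ 2 ∣ S.relIndex (Q ⊔ T)) :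
    T ⊓ Q = ⊥ ∧
      T ⊓ (S ⊓ Subgroup.normalizer (T : Set G) ⊓ Q) = ⊥ ∧
      ⁅T, S ⊓ Subgroup.normalizer (T : Set G) ⊓ Q⁆ = ⊥ ∧
      T ⊔ (S ⊓ Subgroup.normalizer (T : Set G) ⊓ Q) = S ⊓ Subgroup.normalizer (T : Set G) ∧
      Nonempty (↥(S ⊓ Subgroup.normalizer (T : Set G) ⊓ Q) ≃* T) := by
  have : Fact (Nat.Prime 2) := ⟨Nat.prime_two⟩
  have hX : IsConjOf Q Q := by
    refine ⟨1, ?_⟩
    ext x
    rw [mem_map_conj_iff]
    simp
  have hY : IsConjOf Q (Q.map (MulAut.conj g).toMonoidHom) := ⟨g, rfl⟩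
  have hXY : Q ≠ Q.map (MulAut.conj g).toMonoidHom := fun h =>
    hg ((map_conj_eq_self_iff Q g).mp h.symm)
  obtain ⟨h1, h2, h3, f, hf⟩ := sym_lemma hQ hX hY hXY T (hT.trans inf_le_left)
    (hT.trans inf_le_right) S hTS hS hSsyl.1 hSsyl.2
  refine ⟨h1, ?_, h2, h3, ?_⟩
  · have h4 : T ⊓ (S ⊓ Subgroup.normalizer (T : Set G) ⊓ Q) ≤ T ⊓ Q :=
      inf_le_inf_left T inf_le_right
    rw [h1] at h4
    exact le_bot_iff.mp h4
  · have hS2' : ∀ s ∈ S, ∃ n : ℕ, s ^ (2 ^ n) = 1 := by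
      intro s hs
      obtain ⟨n, hn⟩ := hSsyl.1 ⟨s, hs⟩
      exact ⟨n, by simpa using congrArg Subtype.val hn⟩
    obtain ⟨t₀, ht₀, ht₀1⟩ : ∃ t₀ ∈ T, t₀ ≠ 1 := by
      by_contra hne
      apply hT1
      rw [Subgroup.eq_bot_iff_forall]
      intro x hx
      by_contra hx1
      exact hne ⟨x, hx, hx1⟩
    have hcomm : ∀ t ∈ T, ∀ r ∈ S ⊓ Subgroup.normalizer (T : Set G) ⊓ Q, t * r = r * t := by
      intro t ht r hr
      have h4 := (Subgroup.commutator_eq_bot_iff_le_centralizer.mp h2) ht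
      exact (Subgroup.mem_centralizer_iff.mp h4 r hr).symm
    have hRS : S ⊓ Subgroup.normalizer (T : Set G) ⊓ Q ≤ S := inf_le_left.trans inf_le_left
    have hRQ : S ⊓ Subgroup.normalizer (T : Set G) ⊓ Q ≤ Q := inf_le_right
    have hTY : T ≤ Q.map (MulAut.conj g).toMonoidHom := hT.trans inf_le_left
    obtain ⟨n₀, hn₀⟩ := hS2' t₀ (hTS ht₀)
    have hRNY : S ⊓ Subgroup.normalizer (T : Set G) ⊓ Q ≤
        Subgroup.normalizer ((Q.map (MulAut.conj g).toMonoidHom : Subgroup G) : Set G) := by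
      intro r hr
      exact cent_le_normalizer hQ hY (hTY ht₀) ht₀1 hn₀ (hcomm t₀ ht₀ r hr).symm
    have hr₀ : ((f ⟨t₀, ht₀⟩ : ↥(S ⊓ Subgroup.normalizer (T : Set G) ⊓ Q)) : G) ≠ 1 := by
      intro h
      have h4 : f ⟨t₀, ht₀⟩ = 1 := Subtype.ext h
      have h5 := hf (h4.trans (map_one f).symm)
      exact ht₀1 (congrArg Subtype.val h5)
    obtain ⟨m₀, hm₀⟩ := hS2' _ (hRS (f ⟨t₀, ht₀⟩).2)
    have hTR2 : IsPGroup 2 ↥(T ⊔ (S ⊓ Subgroup.normalizer (T : Set G) ⊓ Q)) :=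
      hSsyl.1.to_le (sup_le hTS hRS)
    obtain ⟨S', hS'le, hS'2, hS'idx, hTRS'⟩ := exists_sylow_ge (p := 2)
      (sup_le (hTY.trans le_sup_left) le_sup_right :
        T ⊔ (S ⊓ Subgroup.normalizer (T : Set G) ⊓ Q) ≤
          Q.map (MulAut.conj g).toMonoidHom ⊔ (S ⊓ Subgroup.normalizer (T : Set G) ⊓ Q)) hTR2
    obtain ⟨-, h2', -, f', hf'⟩ := sym_lemma hQ hY hX hXY.symm
      (S ⊓ Subgroup.normalizer (T : Set G) ⊓ Q) hRQ hRNY S' (le_sup_right.trans hTRS') hS'le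
      hS'2 hS'idx
    have hR₀N : S' ⊓ Subgroup.normalizer
        ((S ⊓ Subgroup.normalizer (T : Set G) ⊓ Q : Subgroup G) : Set G) ⊓
          Q.map (MulAut.conj g).toMonoidHom ≤
        Q.map (MulAut.conj g).toMonoidHom ⊓ Subgroup.normalizer (Q : Set G) := by
      intro y hy
      refine Subgroup.mem_inf.mpr ⟨(Subgroup.mem_inf.mp hy).2, ?_⟩
      have hyc := (Subgroup.commutator_eq_bot_iff_le_centralizer.mp h2') (f ⟨t₀, ht₀⟩).2
      have h4 := Subgroup.mem_centralizer_iff.mp hyc y hy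
      exact cent_le_normalizer hQ hX (hRQ (f ⟨t₀, ht₀⟩).2) hr₀ hm₀ h4
    have hTR₀ : T ≤ S' ⊓ Subgroup.normalizer
        ((S ⊓ Subgroup.normalizer (T : Set G) ⊓ Q : Subgroup G) : Set G) ⊓
          Q.map (MulAut.conj g).toMonoidHom := by
      intro t ht
      refine Subgroup.mem_inf.mpr
        ⟨Subgroup.mem_inf.mpr ⟨hTRS' (Subgroup.mem_sup_left ht), ?_⟩, hTY ht⟩
      apply Subgroup.centralizer_le_normalizer
      rw [Subgroup.mem_centralizer_iff]
      intro r hr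
      exact (hcomm t ht r hr).symm
    have hR₀eq := eq_of_le_of_relIndex T
      (Q.map (MulAut.conj g).toMonoidHom ⊓ Subgroup.normalizer (Q : Set G)) hT hTsyl.1 hTsyl.2 _
      hR₀N (hS'2.to_le (inf_le_left.trans inf_le_left)) hTR₀
    have hcard : Nat.card ↥(S ⊓ Subgroup.normalizer (T : Set G) ⊓ Q) ≤ Nat.card ↥T := by
      have h6 := Nat.card_le_card_of_injective f' hf'
      rwa [hR₀eq] at h6
    exact ⟨(MulEquiv.ofBijective f (hf.bijective_of_nat_card_le hcard)).symm⟩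

end Cfsg.Agent.S1910
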