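import Cfsg.Statements.S1921
import Cfsg.Agent.Lib.Helper9.Components
import Cfsg.Agent.Lib.Helper9.Central

set_option autoImplicit false
open Cfsg

namespace Cfsg.Agent.S1921

open Cfsg.Agent.Lib.Helper9

theorem mem_sup_of_commute {G : Type*} [Group G] (A B : Subgroup G)
    (h : ∀ a ∈ A, ∀ b ∈ B, a * b = b * a) (x : G) (hx : x ∈ A ⊔ B) :
    ∃ a ∈ A, ∃ b ∈ B, x = a * b := by
  let P : Subgroup G :=
    { carrier := {x | ∃ a ∈ A, ∃ b ∈ B, x = a * b}
      one_mem' := ⟨1, A.one_mem, 1, B.one_mem, by simp⟩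
      mul_mem' := by
        rintro _ _ ⟨a, ha, b, hb, rfl⟩ ⟨a', ha', b', hb', rfl⟩
        refine ⟨a * a', A.mul_mem ha ha', b * b', B.mul_mem hb hb', ?_⟩
        calc a * b * (a' * b') = a * (b * a') * b' := by group
          _ = a * (a' * b) * b' := by rw [h a' ha' b hb]
          _ = a * a' * (b * b') := by group
      inv_mem' := by
        rintro _ ⟨a, ha, b, hb, rfl⟩
        refine ⟨a⁻¹, A.inv_mem ha, b⁻¹, B.inv_mem hb, ?_⟩
        rw [mul_inv_rev, h a⁻¹ (A.inv_mem ha) b⁻¹ (B.inv_mem hb)] }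
  have hle : A ⊔ B ≤ P :=
    sup_le (fun a ha => ⟨a, ha, 1, B.one_mem, by simp⟩) (fun b hb => ⟨1, A.one_mem, b, hb, by simp⟩)
  exact hle hx

/-- Let a be an involution of a finite group H and L a component of H with a L a⁻¹ ≠ L; put M = ⟨L, aLa⁻¹⟩ and let J be the subgroup generated by the elements x · a x a⁻¹ with x ∈ L (the diagonal). Then every element of M outside J·Z(M) generates M together with J. -/
theorem result {H : Type*} [Group H] [Finite H] (a : H) (ha : orderOf a = 2) (L : Subgroup H) (hL : Cfsg.IsComponent L)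
    (hLa : L.map (MulAut.conj a).toMonoidHom ≠ L) (x : H) (hxM : x ∈ L ⊔ L.map (MulAut.conj a).toMonoidHom)
    (hxJ : x ∉ Subgroup.closure {y : H | ∃ l ∈ L, y = l * (a * l * a⁻¹)} ⊔
      ((L ⊔ L.map (MulAut.conj a).toMonoidHom) ⊓ Subgroup.centralizer ((L ⊔ L.map (MulAut.conj a).toMonoidHom : Subgroup H) : Set H))) :
    Subgroup.closure {y : H | ∃ l ∈ L, y = l * (a * l * a⁻¹)} ⊔ Subgroup.zpowers x = L ⊔ L.map (MulAut.conj a).toMonoidHom := by
  have hK : Cfsg.IsComponent (L.map (MulAut.conj a).toMonoidHom) :=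
    isComponent_map_equiv (MulAut.conj a) hL
  have hcomm : ⁅L, L.map (MulAut.conj a).toMonoidHom⁆ = ⊥ := component_commute hL hK (Ne.symm hLa)
  have hc : ∀ l ∈ L, ∀ k ∈ L.map (MulAut.conj a).toMonoidHom, l * k = k * l :=
    fun l hl k hk => commute_of_commutator_eq_bot hcomm hl hk
  have hconjmem : ∀ l ∈ L, a * l * a⁻¹ ∈ L.map (MulAut.conj a).toMonoidHom :=
    fun l hl => ⟨l, hl, by simp [MulAut.conj_apply]⟩
  have hJgen : ∀ l ∈ L, l * (a * l * a⁻¹) ∈
      Subgroup.closure {y : H | ∃ l ∈ L, y = l * (a * l * a⁻¹)} :=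
    fun l hl => Subgroup.subset_closure ⟨l, hl, rfl⟩
  have hJM : Subgroup.closure {y : H | ∃ l ∈ L, y = l * (a * l * a⁻¹)} ≤
      L ⊔ L.map (MulAut.conj a).toMonoidHom := by
    rw [Subgroup.closure_le]
    rintro _ ⟨l, hl, rfl⟩
    exact Subgroup.mul_mem _ (Subgroup.mem_sup_left hl) (Subgroup.mem_sup_right (hconjmem l hl))
  apply le_antisymm (sup_le hJM (Subgroup.zpowers_le.mpr hxM))
  obtain ⟨l₁, hl₁, k₂, hk₂, hx⟩ := mem_sup_of_commute L _ hc x hxM
  have hxW : x ∈ Subgroup.closure {y : H | ∃ l ∈ L, y = l * (a * l * a⁻¹)} ⊔ Subgroup.zpowers x :=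
    Subgroup.mem_sup_right (Subgroup.mem_zpowers x)
  have hJW : Subgroup.closure {y : H | ∃ l ∈ L, y = l * (a * l * a⁻¹)} ≤
      Subgroup.closure {y : H | ∃ l ∈ L, y = l * (a * l * a⁻¹)} ⊔ Subgroup.zpowers x := le_sup_left
  -- the element `c = k₂ (a l₁ a⁻¹)⁻¹` of `L^a`
  have hcK : k₂ * (a * l₁ * a⁻¹)⁻¹ ∈ L.map (MulAut.conj a).toMonoidHom :=
    Subgroup.mul_mem _ hk₂ (Subgroup.inv_mem _ (hconjmem l₁ hl₁))
  have hxc : x = (k₂ * (a * l₁ * a⁻¹)⁻¹) * (l₁ * (a * l₁ * a⁻¹)) := by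
    have h1 := hc l₁ hl₁ _ (Subgroup.inv_mem _ (hconjmem l₁ hl₁))
    calc x = l₁ * k₂ := hx
      _ = k₂ * l₁ := hc l₁ hl₁ k₂ hk₂
      _ = k₂ * (l₁ * (a * l₁ * a⁻¹)⁻¹) * (a * l₁ * a⁻¹) := by group
      _ = k₂ * ((a * l₁ * a⁻¹)⁻¹ * l₁) * (a * l₁ * a⁻¹) := by rw [h1]
      _ = _ := by group
  have hcW : k₂ * (a * l₁ * a⁻¹)⁻¹ ∈
      Subgroup.closure {y : H | ∃ l ∈ L, y = l * (a * l * a⁻¹)} ⊔ Subgroup.zpowers x := by
    have e : k₂ * (a * l₁ * a⁻¹)⁻¹ = x * (l₁ * (a * l₁ * a⁻¹))⁻¹ := by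
      rw [hxc]
      group
    rw [e]
    exact Subgroup.mul_mem _ hxW (Subgroup.inv_mem _ (hJW (hJgen l₁ hl₁)))
  -- `W ∩ L^a` is normal in `L^a`
  have hWn : ((Subgroup.closure {y : H | ∃ l ∈ L, y = l * (a * l * a⁻¹)} ⊔
      Subgroup.zpowers x).subgroupOf (L.map (MulAut.conj a).toMonoidHom)).Normal := by
    constructor
    intro n hn g
    rw [Subgroup.mem_subgroupOf] at hn ⊢
    obtain ⟨l, hl, hlg⟩ := g.2
    have hlg' : a * l * a⁻¹ = (g : H) := by
      rw [← hlg]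
      simp [MulAut.conj_apply]
    have h1 : l * ((g : H) * (n : H) * (g : H)⁻¹) = ((g : H) * (n : H) * (g : H)⁻¹) * l :=
      hc l hl _ (Subgroup.mul_mem _ (Subgroup.mul_mem _ g.2 n.2) (Subgroup.inv_mem _ g.2))
    have e : (g : H) * (n : H) * (g : H)⁻¹ =
        (l * (a * l * a⁻¹)) * (n : H) * (l * (a * l * a⁻¹))⁻¹ := by
      rw [hlg']
      calc (g : H) * (n : H) * (g : H)⁻¹ = (((g : H) * (n : H) * (g : H)⁻¹) * l) * l⁻¹ := by group
        _ = (l * ((g : H) * (n : H) * (g : H)⁻¹)) * l⁻¹ := by rw [h1]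
        _ = _ := by group
    show (g : H) * (n : H) * (g : H)⁻¹ ∈ _
    rw [e]
    exact Subgroup.mul_mem _ (Subgroup.mul_mem _ (hJW (hJgen l hl)) hn)
      (Subgroup.inv_mem _ (hJW (hJgen l hl)))
  rcases qs_normal_le_center_or_eq_top hK.2 _ hWn with hcase | hcase
  · exfalso
    apply hxJ
    have hcz : ∀ k ∈ L.map (MulAut.conj a).toMonoidHom,
        k * (k₂ * (a * l₁ * a⁻¹)⁻¹) = (k₂ * (a * l₁ * a⁻¹)⁻¹) * k := by
      intro k hk
      have h1 : (⟨k₂ * (a * l₁ * a⁻¹)⁻¹, hcK⟩ : ↥(L.map (MulAut.conj a).toMonoidHom)) ∈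
          Subgroup.center ↥(L.map (MulAut.conj a).toMonoidHom) := hcase (by
        rw [Subgroup.mem_subgroupOf]
        exact hcW)
      have h2 := Subgroup.mem_center_iff.mp h1 ⟨k, hk⟩
      exact congrArg Subtype.val h2
    have hle : L ⊔ L.map (MulAut.conj a).toMonoidHom ≤
        Subgroup.centralizer ({k₂ * (a * l₁ * a⁻¹)⁻¹} : Set H) := by
      apply sup_le
      · intro l hl
        rw [Subgroup.mem_centralizer_iff]
        intro h hh
        rw [Set.mem_singleton_iff] at hh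
        rw [hh]
        exact (hc l hl _ hcK).symm
      · intro k hk
        rw [Subgroup.mem_centralizer_iff]
        intro h hh
        rw [Set.mem_singleton_iff] at hh
        rw [hh]
        exact (hcz k hk).symm
    have hcZ : k₂ * (a * l₁ * a⁻¹)⁻¹ ∈ (L ⊔ L.map (MulAut.conj a).toMonoidHom) ⊓
        Subgroup.centralizer ((L ⊔ L.map (MulAut.conj a).toMonoidHom : Subgroup H) : Set H) := by
      refine Subgroup.mem_inf.mpr ⟨Subgroup.mem_sup_right hcK, ?_⟩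
      rw [Subgroup.mem_centralizer_iff]
      intro h hh
      exact (Subgroup.mem_centralizer_iff.mp (hle hh) _ rfl).symm
    rw [hxc]
    exact Subgroup.mul_mem _ (Subgroup.mem_sup_right hcZ) (Subgroup.mem_sup_left (hJgen l₁ hl₁))
  · have hKW : L.map (MulAut.conj a).toMonoidHom ≤
        Subgroup.closure {y : H | ∃ l ∈ L, y = l * (a * l * a⁻¹)} ⊔ Subgroup.zpowers x :=
      Subgroup.subgroupOf_eq_top.mp hcase
    apply sup_le _ hKW
    intro l hl
    have e : l = (l * (a * l * a⁻¹)) * (a * l * a⁻¹)⁻¹ := by group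
    rw [e]
    exact Subgroup.mul_mem _ (hJW (hJgen l hl)) (Subgroup.inv_mem _ (hKW (hconjmem l hl)))

end Cfsg.Agent.S1921
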