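import Cfsg.Statements.S1944
import Cfsg.Agent.S1907
import Cfsg.Agent.Lib.Helper12.FixedFactor

set_option autoImplicit false
open Cfsg

namespace Cfsg.Agent.S1944

open Cfsg.Agent.Lib.Helper12.FixedFactor

/-- commutative group structure on an abelian subgroup -/
@[reducible] def commGroupOf {G : Type*} [Group G] (A : Subgroup G)
    (hA : ∀ a ∈ A, ∀ b ∈ A, a * b = b * a) : CommGroup ↥A :=
  { (inferInstance : Group ↥A) with
    mul_comm := fun a b => Subtype.ext (hA a a.2 b b.2) }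

/-- conjugation action of a subgroup `N` on a subgroup `A` it normalizes -/
@[reducible] def conjActOf {G : Type*} [Group G] (N A : Subgroup G)
    (hNA : ∀ n ∈ N, ∀ a ∈ A, n * a * n⁻¹ ∈ A) : MulDistribMulAction ↥N ↥A where
  smul n a := ⟨(n : G) * (a : G) * (n : G)⁻¹, hNA n n.2 a a.2⟩
  one_smul a := Subtype.ext (by show (1 : G) * (a : G) * (1 : G)⁻¹ = a; group)
  mul_smul m n a := Subtype.ext (by
    show ((m : G) * (n : G)) * (a : G) * ((m : G) * (n : G))⁻¹ =
      (m : G) * ((n : G) * (a : G) * (n : G)⁻¹) * (m : G)⁻¹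
    group)
  smul_mul n a b := Subtype.ext (by
    show (n : G) * ((a : G) * (b : G)) * (n : G)⁻¹ =
      ((n : G) * (a : G) * (n : G)⁻¹) * ((n : G) * (b : G) * (n : G)⁻¹)
    group)
  smul_one n := Subtype.ext (by show (n : G) * (1 : G) * (n : G)⁻¹ = 1; group)

/-- Let S be a Sylow p-subgroup of the finite group G and suppose that the centre Z(S) lies in O_{p',p}(G). The elements of S each of which is its only G-conjugate in S form a subgroup W of Z(S); W is then a direct factor of Z(S): there is a subgroup K of Z(S) with W ∩ K = 1 and WK = Z(S). -/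
theorem result {G : Type*} [Group G] [Finite G] {p : ℕ} [Fact p.Prime] (S : Sylow p G)
    (hZ : ((S : Subgroup G) ⊓ Subgroup.centralizer ((S : Subgroup G) : Set G)) ≤ Cfsg.pPrimePCore p G) :
    ∃ W K : Subgroup G, (∀ x : G, x ∈ W ↔ (x ∈ (S : Subgroup G) ∧ ∀ g : G, g * x * g⁻¹ ∈ (S : Subgroup G) → g * x * g⁻¹ = x)) ∧
      K ≤ ((S : Subgroup G) ⊓ Subgroup.centralizer ((S : Subgroup G) : Set G)) ∧ W ⊓ K = ⊥ ∧ W ⊔ K = ((S : Subgroup G) ⊓ Subgroup.centralizer ((S : Subgroup G) : Set G)) := by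
  have hLn : (Cfsg.pPrimePCore p G).Normal := Cfsg.Agent.S1948.pPrimePCore_normal'
  have hSN := Cfsg.Agent.S1907.sylow_le_normalizer S
  have hAcomm : ∀ a ∈ ((S : Subgroup G) ⊓ Cfsg.pPrimePCore p G) ⊓
      Subgroup.centralizer ((((S : Subgroup G) ⊓ Cfsg.pPrimePCore p G : Subgroup G)) : Set G),
      ∀ b ∈ ((S : Subgroup G) ⊓ Cfsg.pPrimePCore p G) ⊓
      Subgroup.centralizer ((((S : Subgroup G) ⊓ Cfsg.pPrimePCore p G : Subgroup G)) : Set G),
      a * b = b * a := by
    intro a ha b hb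
    exact ((Subgroup.mem_centralizer_iff.mp (Subgroup.mem_inf.mp hb).2) a (Subgroup.mem_inf.mp ha).1)
  have hNA : ∀ n ∈ Subgroup.normalizer ((((S : Subgroup G) ⊓ Cfsg.pPrimePCore p G : Subgroup G)) : Set G),
      ∀ a ∈ ((S : Subgroup G) ⊓ Cfsg.pPrimePCore p G) ⊓
      Subgroup.centralizer ((((S : Subgroup G) ⊓ Cfsg.pPrimePCore p G : Subgroup G)) : Set G),
      n * a * n⁻¹ ∈ ((S : Subgroup G) ⊓ Cfsg.pPrimePCore p G) ⊓
      Subgroup.centralizer ((((S : Subgroup G) ⊓ Cfsg.pPrimePCore p G : Subgroup G)) : Set G) := by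
    intro n hn a ha
    obtain ⟨ha1, ha2⟩ := Subgroup.mem_inf.mp ha
    exact Subgroup.mem_inf.mpr ⟨(Subgroup.mem_normalizer_iff.mp hn a).mp ha1,
      Cfsg.Agent.S1907.conj_mem_centralizer hn ha2⟩
  letI iC : CommGroup ↥(((S : Subgroup G) ⊓ Cfsg.pPrimePCore p G) ⊓
      Subgroup.centralizer ((((S : Subgroup G) ⊓ Cfsg.pPrimePCore p G : Subgroup G)) : Set G)) :=
    commGroupOf _ hAcomm
  letI iA : MulDistribMulAction
      ↥(Subgroup.normalizer ((((S : Subgroup G) ⊓ Cfsg.pPrimePCore p G : Subgroup G)) : Set G))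
      ↥(((S : Subgroup G) ⊓ Cfsg.pPrimePCore p G) ⊓
      Subgroup.centralizer ((((S : Subgroup G) ⊓ Cfsg.pPrimePCore p G : Subgroup G)) : Set G)) :=
    conjActOf _ _ hNA
  have hsmul : ∀ (n : ↥(Subgroup.normalizer ((((S : Subgroup G) ⊓ Cfsg.pPrimePCore p G : Subgroup G)) : Set G)))
      (a : ↥(((S : Subgroup G) ⊓ Cfsg.pPrimePCore p G) ⊓
      Subgroup.centralizer ((((S : Subgroup G) ⊓ Cfsg.pPrimePCore p G : Subgroup G)) : Set G))),
      ((n • a : ↥(((S : Subgroup G) ⊓ Cfsg.pPrimePCore p G) ⊓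
      Subgroup.centralizer ((((S : Subgroup G) ⊓ Cfsg.pPrimePCore p G : Subgroup G)) : Set G))) : G) =
        (n : G) * (a : G) * (n : G)⁻¹ := fun n a => rfl
  have hAp : IsPGroup p ↥(((S : Subgroup G) ⊓ Cfsg.pPrimePCore p G) ⊓
      Subgroup.centralizer ((((S : Subgroup G) ⊓ Cfsg.pPrimePCore p G : Subgroup G)) : Set G)) :=
    S.isPGroup'.to_le (inf_le_left.trans inf_le_left)
  have hT : ¬ p ∣ ((S : Subgroup G).subgroupOf
      (Subgroup.normalizer ((((S : Subgroup G) ⊓ Cfsg.pPrimePCore p G : Subgroup G)) : Set G))).index := by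
    intro hdvd
    have h1 : (S : Subgroup G).relIndex
        (Subgroup.normalizer ((((S : Subgroup G) ⊓ Cfsg.pPrimePCore p G : Subgroup G)) : Set G)) ∣
          (S : Subgroup G).index := ⟨_, (Subgroup.relIndex_mul_index hSN).symm⟩
    exact S.not_dvd_index (hdvd.trans h1)
  obtain ⟨K', hK'T, hK'M, hK'dec⟩ := exists_complement_fixed
    ((S : Subgroup G).subgroupOf
      (Subgroup.normalizer ((((S : Subgroup G) ⊓ Cfsg.pPrimePCore p G : Subgroup G)) : Set G))) hAp hT
  -- Z(S) ≤ A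
  have hZA : (S : Subgroup G) ⊓ Subgroup.centralizer ((S : Subgroup G) : Set G) ≤
      ((S : Subgroup G) ⊓ Cfsg.pPrimePCore p G) ⊓
      Subgroup.centralizer ((((S : Subgroup G) ⊓ Cfsg.pPrimePCore p G : Subgroup G)) : Set G) := by
    intro x hx
    refine Subgroup.mem_inf.mpr ⟨Subgroup.mem_inf.mpr ⟨(Subgroup.mem_inf.mp hx).1, hZ hx⟩, ?_⟩
    exact Subgroup.centralizer_le (SetLike.coe_subset_coe.mpr inf_le_left) (Subgroup.mem_inf.mp hx).2
  refine ⟨((S : Subgroup G) ⊓ Subgroup.centralizer ((S : Subgroup G) : Set G)) ⊓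
    Subgroup.centralizer ((Subgroup.normalizer
      ((((S : Subgroup G) ⊓ Cfsg.pPrimePCore p G : Subgroup G)) : Set G) : Subgroup G) : Set G),
    K'.map (Subgroup.subtype _), ?_, ?_, ?_, ?_⟩
  · intro x
    constructor
    · intro hx
      obtain ⟨hxZ, hxN⟩ := Subgroup.mem_inf.mp hx
      refine ⟨(Subgroup.mem_inf.mp hxZ).1, ?_⟩
      intro g hg
      obtain ⟨n, hn, hnx⟩ := Cfsg.Agent.S1907.partB S x (g * x * g⁻¹) (Subgroup.mem_inf.mp hxZ).1 hg g rfl
      rw [← hnx]
      have h1 := (Subgroup.mem_centralizer_iff.mp hxN) n hn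
      rw [h1]
      group
    · rintro ⟨hxS, hx⟩
      have hxC : x ∈ Subgroup.centralizer ((S : Subgroup G) : Set G) := by
        rw [Subgroup.mem_centralizer_iff]
        intro s hs
        have h1 := hx s (Subgroup.mul_mem _ (Subgroup.mul_mem _ hs hxS) (Subgroup.inv_mem _ hs))
        calc s * x = s * x * s⁻¹ * s := by group
          _ = x * s := by rw [h1]
      have hxZ : x ∈ (S : Subgroup G) ⊓ Subgroup.centralizer ((S : Subgroup G) : Set G) :=
        Subgroup.mem_inf.mpr ⟨hxS, hxC⟩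
      refine Subgroup.mem_inf.mpr ⟨hxZ, ?_⟩
      rw [Subgroup.mem_centralizer_iff]
      intro n hn
      have hxH : x ∈ (S : Subgroup G) ⊓ Cfsg.pPrimePCore p G := (Subgroup.mem_inf.mp (hZA hxZ)).1
      have h1 : n * x * n⁻¹ ∈ (S : Subgroup G) :=
        (Subgroup.mem_inf.mp ((Subgroup.mem_normalizer_iff.mp hn x).mp hxH)).1
      have h2 := hx n h1
      calc n * x = n * x * n⁻¹ * n := by group
        _ = x * n := by rw [h2]
  · rintro _ ⟨k, hk, rfl⟩
    have hkA := k.2
    refine Subgroup.mem_inf.mpr ⟨(Subgroup.mem_inf.mp (Subgroup.mem_inf.mp hkA).1).1, ?_⟩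
    rw [Subgroup.mem_centralizer_iff]
    intro s hs
    have h1 := hK'T k hk ⟨s, hSN hs⟩ (Subgroup.mem_subgroupOf.mpr hs)
    have h2 : s * (k : G) * s⁻¹ = (k : G) := by
      have := congrArg Subtype.val h1
      rw [hsmul] at this
      exact this
    calc s * (k : G) = s * (k : G) * s⁻¹ * s := by group
      _ = (k : G) * s := by rw [h2]
  · rw [eq_bot_iff]
    rintro x hx
    obtain ⟨hxW, ⟨k, hk, rfl⟩⟩ := Subgroup.mem_inf.mp hx
    rw [Subgroup.mem_bot]
    have h1 : ∀ m : ↥(Subgroup.normalizer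
        ((((S : Subgroup G) ⊓ Cfsg.pPrimePCore p G : Subgroup G)) : Set G)), m • k = k := by
      intro m
      apply Subtype.ext
      rw [hsmul]
      have h2 := (Subgroup.mem_centralizer_iff.mp (Subgroup.mem_inf.mp hxW).2) (m : G) m.2
      have h2' : (m : G) * (k : G) = (k : G) * (m : G) := h2
      rw [h2']
      group
    have h3 := hK'M k hk h1
    rw [h3]
    rfl
  · apply le_antisymm
    · apply sup_le inf_le_left
      rintro _ ⟨k, hk, rfl⟩
      have hkA := k.2
      refine Subgroup.mem_inf.mpr ⟨(Subgroup.mem_inf.mp (Subgroup.mem_inf.mp hkA).1).1, ?_⟩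
      rw [Subgroup.mem_centralizer_iff]
      intro s hs
      have h1 := hK'T k hk ⟨s, hSN hs⟩ (Subgroup.mem_subgroupOf.mpr hs)
      have h2 : s * (k : G) * s⁻¹ = (k : G) := by
        have := congrArg Subtype.val h1
        rw [hsmul] at this
        exact this
      calc s * (k : G) = s * (k : G) * s⁻¹ * s := by group
        _ = (k : G) * s := by rw [h2]
    · intro a ha
      have haT : ∀ t ∈ (S : Subgroup G).subgroupOf
          (Subgroup.normalizer ((((S : Subgroup G) ⊓ Cfsg.pPrimePCore p G : Subgroup G)) : Set G)),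
          t • (⟨a, hZA ha⟩ : ↥(((S : Subgroup G) ⊓ Cfsg.pPrimePCore p G) ⊓
      Subgroup.centralizer ((((S : Subgroup G) ⊓ Cfsg.pPrimePCore p G : Subgroup G)) : Set G))) =
            ⟨a, hZA ha⟩ := by
        intro t ht
        apply Subtype.ext
        rw [hsmul]
        have h2 := (Subgroup.mem_centralizer_iff.mp (Subgroup.mem_inf.mp ha).2) (t : G)
          (Subgroup.mem_subgroupOf.mp ht)
        show (t : G) * a * (t : G)⁻¹ = a
        rw [h2]
        group
      obtain ⟨w, k, hw, hk, hwk⟩ := hK'dec _ haT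
      have hval : a = (w : G) * (k : G) := congrArg Subtype.val hwk
      rw [hval]
      refine Subgroup.mul_mem_sup ?_ ⟨k, hk, rfl⟩
      have hwN : (w : G) ∈ Subgroup.centralizer ((Subgroup.normalizer
          ((((S : Subgroup G) ⊓ Cfsg.pPrimePCore p G : Subgroup G)) : Set G) : Subgroup G) : Set G) := by
        rw [Subgroup.mem_centralizer_iff]
        intro n hn
        have h1 := congrArg Subtype.val (hw ⟨n, hn⟩)
        rw [hsmul] at h1
        have h1' : n * (w : G) * n⁻¹ = (w : G) := h1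
        calc n * (w : G) = n * (w : G) * n⁻¹ * n := by group
          _ = (w : G) * n := by rw [h1']
      refine Subgroup.mem_inf.mpr ⟨Subgroup.mem_inf.mpr
        ⟨(Subgroup.mem_inf.mp (Subgroup.mem_inf.mp w.2).1).1, ?_⟩, hwN⟩
      exact Subgroup.centralizer_le (SetLike.coe_subset_coe.mpr hSN) hwN

end Cfsg.Agent.S1944
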