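import Cfsg.Statements.S1954
import Cfsg.Agent.Lib.Helper12.FusionLift
import Cfsg.Agent.S1948

set_option autoImplicit false
open Cfsg

namespace Cfsg.Agent.S1954

open Cfsg.Agent.Lib.Helper12.FusionLift Cfsg.Agent.Lib.Helper12.SylowBasic

/-- Let N be a normal subgroup of the finite group G, P a Sylow p-subgroup of G, and V a subgroup of P ∩ N normal in P ∩ N such that N_N(V) controls strong fusion in P ∩ N with respect to N (whenever a subgroup A of P ∩ N has n A n⁻¹ ≤ P ∩ N for some n in N, then n = h c with h in N_N(V) and c in C_N(A)). Let W be the subgroup generated by the conjugates of V under N_G(P ∩ N). Then N_G(W) controls strong fusion in P with respect to G. -/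
theorem result {G : Type*} [Group G] [Finite G] {p : ℕ} [Fact p.Prime] (N : Subgroup G) [N.Normal] (P : Sylow p G) (V : Subgroup G)
    (hV : V ≤ (P : Subgroup G) ⊓ N) (hVn : ∀ x ∈ (P : Subgroup G) ⊓ N, V.map (MulAut.conj x).toMonoidHom = V)
    (hctrl : ∀ A : Subgroup G, A ≤ (P : Subgroup G) ⊓ N → ∀ n ∈ N, A.map (MulAut.conj n).toMonoidHom ≤ (P : Subgroup G) ⊓ N →
      ∃ h ∈ N ⊓ Subgroup.normalizer (V : Set G), ∃ c ∈ N ⊓ Subgroup.centralizer (A : Set G), n = h * c)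
    (W : Subgroup G) (hW : W = Subgroup.closure (⋃ x ∈ Subgroup.normalizer (((P : Subgroup G) ⊓ N : Subgroup G) : Set G),
      ((V.map (MulAut.conj x).toMonoidHom : Subgroup G) : Set G))) :
    ∀ A : Subgroup G, A ≤ (P : Subgroup G) → ∀ g : G, A.map (MulAut.conj g).toMonoidHom ≤ (P : Subgroup G) →
        ∃ h ∈ Subgroup.normalizer (W : Set G), ∃ c ∈ Subgroup.centralizer (A : Set G), g = h * c := by
  classical
  have hNn : N.Normal := inferInstance
  have frat : ∀ g : G, ∃ n ∈ N, ∃ r ∈ Subgroup.normalizer (((P : Subgroup G) ⊓ N : Subgroup G) : Set G),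
      g = n * r := by
    have hSLp : IsPGroup p ↥(((P : Subgroup G) ⊓ N).subgroupOf N) :=
      (P.isPGroup'.to_le inf_le_left).comap_subtype
    obtain ⟨P₀, hP₀⟩ := hSLp.exists_le_sylow
    have hPeq := Cfsg.Agent.S1948.sylow_inf_eq P N P₀ hP₀
    have hfr : Subgroup.normalizer (((P₀ : Subgroup ↥N).map N.subtype : Subgroup G) : Set G) ⊔ N = ⊤ :=
      Sylow.normalizer_sup_eq_top P₀
    rw [hPeq] at hfr
    intro g
    have hg : g ∈ Subgroup.normalizer (((P : Subgroup G) ⊓ N : Subgroup G) : Set G) ⊔ N := by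
      rw [hfr]; exact Subgroup.mem_top g
    obtain ⟨r, hr, n, hn, rfl⟩ := Subgroup.mem_sup_of_normal_right.mp hg
    exact ⟨r * n * r⁻¹, hNn.conj_mem n hn r, r, hr, by group⟩
  have hUQ : ∀ x ∈ Subgroup.normalizer (((P : Subgroup G) ⊓ N : Subgroup G) : Set G),
      V.map (MulAut.conj x).toMonoidHom ≤ (P : Subgroup G) ⊓ N := by
    intro x hx
    rw [map_conj_le_iff]
    intro v hv
    exact conj_mem_of_mem_normalizer hx (hV hv)
  have hUc : ∀ x ∈ Subgroup.normalizer (((P : Subgroup G) ⊓ N : Subgroup G) : Set G),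
      ∀ A : Subgroup G, A ≤ (P : Subgroup G) ⊓ N → ∀ n ∈ N, (∀ a ∈ A, n * a * n⁻¹ ∈ (P : Subgroup G) ⊓ N) →
      ∃ h ∈ N, (∀ u ∈ V.map (MulAut.conj x).toMonoidHom, h * u * h⁻¹ ∈ V.map (MulAut.conj x).toMonoidHom) ∧
        ∃ c ∈ N, (∀ a ∈ A, c * a = a * c) ∧ n = h * c := by
    intro x hx A hAQ n hn hnA
    have hx' : x⁻¹ ∈ Subgroup.normalizer (((P : Subgroup G) ⊓ N : Subgroup G) : Set G) :=
      Subgroup.inv_mem _ hx
    have hA' : A.map (MulAut.conj x⁻¹).toMonoidHom ≤ (P : Subgroup G) ⊓ N := by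
      rw [map_conj_le_iff]
      intro a ha
      exact conj_mem_of_mem_normalizer hx' (hAQ ha)
    have hn' : x⁻¹ * n * x ∈ N := by
      have := hNn.conj_mem n hn x⁻¹
      simpa using this
    have hmap : (A.map (MulAut.conj x⁻¹).toMonoidHom).map (MulAut.conj (x⁻¹ * n * x)).toMonoidHom ≤
        (P : Subgroup G) ⊓ N := by
      rw [map_conj_le_iff]
      intro y hy
      rw [mem_map_conj_iff] at hy
      have h1 := conj_mem_of_mem_normalizer hx' (hnA _ hy)
      have e : x⁻¹ * (n * (x⁻¹⁻¹ * y * x⁻¹) * n⁻¹) * x⁻¹⁻¹ = x⁻¹ * n * x * y * (x⁻¹ * n * x)⁻¹ := by group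
      rw [e] at h1
      exact h1
    obtain ⟨h', hh', c', hc', hn'eq⟩ := hctrl _ hA' _ hn' hmap
    refine ⟨x * h' * x⁻¹, hNn.conj_mem h' hh'.1 x, ?_, x * c' * x⁻¹, hNn.conj_mem c' hc'.1 x, ?_, ?_⟩
    · intro u hu
      rw [mem_map_conj_iff] at hu ⊢
      have h1 := conj_mem_of_mem_normalizer hh'.2 hu
      have e : x⁻¹ * (x * h' * x⁻¹ * u * (x * h' * x⁻¹)⁻¹) * x = h' * (x⁻¹ * u * x) * h'⁻¹ := by group
      rw [e]; exact h1
    · intro a ha
      have h1 := (Subgroup.mem_centralizer_iff.mp hc'.2) _ (conj_mem_map_conj A x⁻¹ a ha)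
      calc x * c' * x⁻¹ * a = x * (c' * (x⁻¹ * a * x⁻¹⁻¹)) * x⁻¹ := by group
        _ = x * ((x⁻¹ * a * x⁻¹⁻¹) * c') * x⁻¹ := by rw [h1]
        _ = a * (x * c' * x⁻¹) := by group
    · calc n = x * (x⁻¹ * n * x) * x⁻¹ := by group
        _ = x * (h' * c') * x⁻¹ := by rw [hn'eq]
        _ = x * h' * x⁻¹ * (x * c' * x⁻¹) := by group
  have ctrl := ctrl_closure (N := N) (Q := (P : Subgroup G) ⊓ N)
    (Subgroup.normalizer (((P : Subgroup G) ⊓ N : Subgroup G) : Set G))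
    (fun x => V.map (MulAut.conj x).toMonoidHom) hUQ hUc W hW
  have wle : W ≤ (P : Subgroup G) ⊓ N := by
    rw [hW, Subgroup.closure_le]
    intro y hy
    obtain ⟨x, hx, hy⟩ := Set.mem_iUnion₂.mp hy
    exact hUQ x hx hy
  have rnorm : ∀ r ∈ Subgroup.normalizer (((P : Subgroup G) ⊓ N : Subgroup G) : Set G),
      ∀ w ∈ W, r * w * r⁻¹ ∈ W := by
    intro r hr w hw
    rw [hW] at hw ⊢
    induction hw using Subgroup.closure_induction with
    | mem y hy =>
      obtain ⟨x, hx, hy⟩ := Set.mem_iUnion₂.mp hy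
      apply Subgroup.subset_closure
      refine Set.mem_iUnion₂.mpr ⟨r * x, Subgroup.mul_mem _ hr hx, ?_⟩
      have hy' : y ∈ V.map (MulAut.conj x).toMonoidHom := hy
      show r * y * r⁻¹ ∈ V.map (MulAut.conj (r * x)).toMonoidHom
      rw [mem_map_conj_iff] at hy' ⊢
      have e : (r * x)⁻¹ * (r * y * r⁻¹) * (r * x) = x⁻¹ * y * x := by group
      rw [e]; exact hy'
    | one => simp
    | mul y z _ _ ihy ihz =>
      have e : r * (y * z) * r⁻¹ = (r * y * r⁻¹) * (r * z * r⁻¹) := by group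
      rw [e]; exact Subgroup.mul_mem _ ihy ihz
    | inv y _ ih =>
      have e : r * y⁻¹ * r⁻¹ = (r * y * r⁻¹)⁻¹ := by group
      rw [e]; exact Subgroup.inv_mem _ ih
  have hC : Ctx N P W := ⟨frat, wle, rnorm, ctrl⟩
  intro A hAP g hg
  exact main hC A hAP g ((map_conj_le_iff _ _ _).mp hg)

end Cfsg.Agent.S1954
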