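import Cfsg.Statements.S1975

set_option autoImplicit false
open Cfsg

namespace Cfsg.Agent.S1975

theorem lower_antitone {P : Type*} [Group P] {Q Q' : Subgroup P} (h : Q ≤ Q') :
    Cfsg.kLowerStarFamily Q' ⊆ Cfsg.kLowerStarFamily Q := by
  intro B hB
  exact ⟨hB.1, h.trans hB.2.1, fun A hA hAQ => hB.2.2 A hA (hAQ.trans h)⟩

theorem upper_antitone {P : Type*} [Group P] {Q Q' : Subgroup P} (h : Q ≤ Q') :
    Cfsg.kUpperStarFamily Q' ⊆ Cfsg.kUpperStarFamily Q := by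
  intro B hB
  exact ⟨hB.1, (Subgroup.commutator_mono le_rfl h).trans hB.2⟩

theorem odd_succ (P : Type*) [Group P] (n : ℕ) :
    Cfsg.kSeqOdd P (n + 1) = sSup (Cfsg.kUpperStarFamily (Cfsg.kSeqEven P n)) := rfl

theorem even_def (P : Type*) [Group P] (n : ℕ) :
    Cfsg.kSeqEven P n = sSup (Cfsg.kLowerStarFamily (Cfsg.kSeqOdd P n)) := rfl

theorem mono_aux (P : Type*) [Group P] (n : ℕ) :
    Cfsg.kSeqOdd P (n + 1) ≤ Cfsg.kSeqOdd P n ∧ Cfsg.kSeqEven P n ≤ Cfsg.kSeqEven P (n + 1) := by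
  induction n with
  | zero =>
    have h1 : Cfsg.kSeqOdd P (0 + 1) ≤ Cfsg.kSeqOdd P 0 := le_top
    exact ⟨h1, sSup_le_sSup (lower_antitone h1)⟩
  | succ m ih =>
    have h1 : Cfsg.kSeqOdd P (m + 1 + 1) ≤ Cfsg.kSeqOdd P (m + 1) := by
      rw [odd_succ, odd_succ]
      exact sSup_le_sSup (upper_antitone ih.2)
    exact ⟨h1, sSup_le_sSup (lower_antitone h1)⟩

/-- Let P be a finite p-group. In the K-sequence of P the odd-indexed terms decrease and the even-indexed terms increase: with the numbering used here, kSeqOdd P (n+1) ≤ kSeqOdd P n and kSeqEven P n ≤ kSeqEven P (n+1) for every n. -/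
theorem result {P : Type*} [Group P] [Finite P] {p : ℕ} [Fact p.Prime] (hP : IsPGroup p P) (n : ℕ) : Cfsg.kSeqOdd P (n + 1) ≤ Cfsg.kSeqOdd P n ∧ Cfsg.kSeqEven P n ≤ Cfsg.kSeqEven P (n + 1) := by
  exact mono_aux P n

end Cfsg.Agent.S1975
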