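import Cfsg.Statements.S1977
import Cfsg.Agent.Lib.Helper12.PGroupLemmas

set_option autoImplicit false
open Cfsg

namespace Cfsg.Agent.S1977

open Cfsg.Agent.Lib.Helper12.PGroupLemmas
open scoped commutatorElement

theorem conj_mem_centralizer {P : Type*} [Group P] {B : Subgroup P} {a x : P}
    (ha : a ∈ Subgroup.normalizer (B : Set P)) (hx : x ∈ Subgroup.centralizer (B : Set P)) :
    a * x * a⁻¹ ∈ Subgroup.centralizer (B : Set P) := by
  rw [Subgroup.mem_centralizer_iff]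
  intro b hb
  have h1 : a⁻¹ * b * a ∈ B := by
    have := (Subgroup.mem_normalizer_iff''.mp ha b).mp hb
    exact this
  have h2 := (Subgroup.mem_centralizer_iff.mp hx) _ h1
  calc b * (a * x * a⁻¹) = a * (a⁻¹ * b * a * x) * a⁻¹ := by group
    _ = a * (x * (a⁻¹ * b * a)) * a⁻¹ := by rw [h2]
    _ = a * x * a⁻¹ * b := by group

/-- the subgroup of elements of `C(B)` that are centralized modulo `B` by `A` -/
def EE {P : Type*} [Group P] (B A : Subgroup P) : Subgroup P where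
  carrier := {x | x ∈ Subgroup.centralizer (B : Set P) ∧ ∀ a ∈ A, a * x * a⁻¹ * x⁻¹ ∈ B}
  one_mem' := ⟨Subgroup.one_mem _, fun a _ => by simp⟩
  mul_mem' := by
    rintro x y ⟨hx, hx'⟩ ⟨hy, hy'⟩
    refine ⟨Subgroup.mul_mem _ hx hy, fun a ha => ?_⟩
    have h1 := hx' a ha
    have h2 := hy' a ha
    have h3 := (Subgroup.mem_centralizer_iff.mp hx) _ h2
    have h4 : a * (x * y) * a⁻¹ * (x * y)⁻¹ = a * x * a⁻¹ * x⁻¹ * (x * (a * y * a⁻¹ * y⁻¹) * x⁻¹) := by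
      group
    rw [h4, ← h3]
    have h5 : a * y * a⁻¹ * y⁻¹ * x * x⁻¹ = a * y * a⁻¹ * y⁻¹ := by group
    rw [h5]
    exact B.mul_mem h1 h2
  inv_mem' := by
    rintro x ⟨hx, hx'⟩
    refine ⟨Subgroup.inv_mem _ hx, fun a ha => ?_⟩
    have h1 := hx' a ha
    have h3 := (Subgroup.mem_centralizer_iff.mp hx) _ h1
    have h4 : a * x⁻¹ * a⁻¹ * x⁻¹⁻¹ = x⁻¹ * (a * x * a⁻¹ * x⁻¹)⁻¹ * x := by group
    have h6 : x⁻¹ * (a * x * a⁻¹ * x⁻¹ * x) = a * x * a⁻¹ * x⁻¹ := by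
      rw [h3]; group
    have h5 : x⁻¹ * (a * x * a⁻¹ * x⁻¹)⁻¹ * x = (a * x * a⁻¹ * x⁻¹)⁻¹ := by
      calc x⁻¹ * (a * x * a⁻¹ * x⁻¹)⁻¹ * x = (x⁻¹ * (a * x * a⁻¹ * x⁻¹ * x))⁻¹ := by group
        _ = (a * x * a⁻¹ * x⁻¹)⁻¹ := by rw [h6]
    rw [h4, h5]
    exact B.inv_mem h1

theorem core {P : Type*} [Group P] [Finite P] {p : ℕ} [Fact p.Prime] (hP : IsPGroup p P)
    (B : Subgroup P) (hC : ¬ Subgroup.centralizer (B : Set P) ≤ B) :
    ∃ c ∈ Subgroup.centralizer (B : Set P), c ∉ B ∧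
      ∀ q ∈ Subgroup.normalizer (B : Set P), q * c * q⁻¹ * c⁻¹ ∈ B := by
  haveI h1 : (B.subgroupOf (Subgroup.normalizer (B : Set P))).Normal := Subgroup.normal_in_normalizer
  haveI h2 : ((Subgroup.centralizer (B : Set P)).subgroupOf (Subgroup.normalizer (B : Set P))).Normal :=
    Subgroup.normal_subgroupOf_centralizer_normalizer _
  have hCD : ¬ ((Subgroup.centralizer (B : Set P)).subgroupOf (Subgroup.normalizer (B : Set P)) ⊔
      B.subgroupOf (Subgroup.normalizer (B : Set P))) ≤ B.subgroupOf (Subgroup.normalizer (B : Set P)) := by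
    intro h
    apply hC
    intro x hx
    have hxN : x ∈ Subgroup.normalizer (B : Set P) := Subgroup.centralizer_le_normalizer _ hx
    have h3 : (⟨x, hxN⟩ : ↥(Subgroup.normalizer (B : Set P))) ∈
        (Subgroup.centralizer (B : Set P)).subgroupOf (Subgroup.normalizer (B : Set P)) := hx
    exact h (Subgroup.mem_sup_left h3)
  obtain ⟨d, hdD, hdC, hd⟩ := exists_central_mod (hP.to_subgroup (Subgroup.normalizer (B : Set P)))
    (B.subgroupOf (Subgroup.normalizer (B : Set P)))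
    ((Subgroup.centralizer (B : Set P)).subgroupOf (Subgroup.normalizer (B : Set P)) ⊔
      B.subgroupOf (Subgroup.normalizer (B : Set P))) hCD
  obtain ⟨x, hx, b, hb, hxb⟩ := Subgroup.mem_sup_of_normal_left.mp hdD
  have hxC : (x : P) ∈ Subgroup.centralizer (B : Set P) := hx
  have hbB : (b : P) ∈ B := hb
  have hdval : (d : P) = (x : P) * (b : P) := by rw [← hxb]; rfl
  refine ⟨(x : P), hxC, ?_, ?_⟩
  · intro hxB
    apply hdC
    show (d : P) ∈ B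
    rw [hdval]
    exact B.mul_mem hxB hbB
  · intro q hq
    have h3 : (q * (d : P) * q⁻¹ * (d : P)⁻¹ : P) ∈ B := hd ⟨q, hq⟩
    have h4 : q * (b : P)⁻¹ * q⁻¹ ∈ B := by
      have := (Subgroup.mem_normalizer_iff.mp hq (b : P)⁻¹).mp (B.inv_mem hbB)
      exact this
    have h5 : (d : P) * (q * (b : P)⁻¹ * q⁻¹ * (b : P)) * (d : P)⁻¹ ∈ B := by
      have := (Subgroup.mem_normalizer_iff.mp d.2 (q * (b : P)⁻¹ * q⁻¹ * (b : P))).mp
        (B.mul_mem h4 hbB)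
      exact this
    have h6 : q * (x : P) * q⁻¹ * (x : P)⁻¹ =
        (q * (d : P) * q⁻¹ * (d : P)⁻¹) * ((d : P) * (q * (b : P)⁻¹ * q⁻¹ * (b : P)) * (d : P)⁻¹) := by
      rw [hdval]
      group
    rw [h6]
    exact B.mul_mem h3 h5

theorem mem_sup_zpowers {P : Type*} [Group P] {B : Subgroup P} {c : P}
    (hc : c ∈ Subgroup.centralizer (B : Set P)) {y : P} (hy : y ∈ B ⊔ Subgroup.zpowers c) :
    ∃ b ∈ B, ∃ z ∈ Subgroup.zpowers c, y = b * z := by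
  have hz : Subgroup.zpowers c ≤ Subgroup.centralizer (B : Set P) := Subgroup.zpowers_le.mpr hc
  rw [Subgroup.sup_eq_closure] at hy
  induction hy using Subgroup.closure_induction with
  | mem x hx =>
    rcases hx with h | h
    · exact ⟨x, h, 1, Subgroup.one_mem _, (mul_one x).symm⟩
    · exact ⟨1, B.one_mem, x, h, (one_mul x).symm⟩
  | one => exact ⟨1, B.one_mem, 1, Subgroup.one_mem _, (mul_one 1).symm⟩
  | mul x y _ _ ihx ihy =>
    obtain ⟨a₁, ha₁, b₁, hb₁, rfl⟩ := ihx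
    obtain ⟨a₂, ha₂, b₂, hb₂, rfl⟩ := ihy
    refine ⟨a₁ * a₂, B.mul_mem ha₁ ha₂, b₁ * b₂, Subgroup.mul_mem _ hb₁ hb₂, ?_⟩
    have h := (Subgroup.mem_centralizer_iff.mp (hz hb₁)) a₂ ha₂
    calc a₁ * b₁ * (a₂ * b₂) = a₁ * (b₁ * a₂) * b₂ := by group
      _ = a₁ * (a₂ * b₁) * b₂ := by rw [h]
      _ = a₁ * a₂ * (b₁ * b₂) := by group
  | inv x _ ih =>
    obtain ⟨a, ha, b, hb, rfl⟩ := ih
    refine ⟨a⁻¹, B.inv_mem ha, b⁻¹, Subgroup.inv_mem _ hb, ?_⟩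
    have h := (Subgroup.mem_centralizer_iff.mp (hz (Subgroup.inv_mem _ hb))) a⁻¹ (B.inv_mem ha)
    rw [mul_inv_rev, h]

theorem zpowers_comm {P : Type*} [Group P] {c z₁ z₂ : P} (h₁ : z₁ ∈ Subgroup.zpowers c)
    (h₂ : z₂ ∈ Subgroup.zpowers c) : z₁ * z₂ = z₂ * z₁ := by
  obtain ⟨k₁, rfl⟩ := Subgroup.mem_zpowers_iff.mp h₁
  obtain ⟨k₂, rfl⟩ := Subgroup.mem_zpowers_iff.mp h₂
  exact (Commute.zpow_zpow_self c k₁ k₂).eq

/-- `B ⊔ ⟨c⟩` is of class two, its centre contains that of `B` -/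
theorem enlarge1 {P : Type*} [Group P] (B : Subgroup P) (hB2 : B ∈ Cfsg.classTwoSubgroups P) (c : P)
    (hc : c ∈ Subgroup.centralizer (B : Set P)) :
    (B ⊔ Subgroup.zpowers c) ∈ Cfsg.classTwoSubgroups P ∧
      B ⊓ Subgroup.centralizer (B : Set P) ≤
        (B ⊔ Subgroup.zpowers c) ⊓ Subgroup.centralizer ((B ⊔ Subgroup.zpowers c : Subgroup P) : Set P) := by
  have hz : Subgroup.zpowers c ≤ Subgroup.centralizer (B : Set P) := Subgroup.zpowers_le.mpr hc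
  have hZ : B ⊓ Subgroup.centralizer (B : Set P) ≤
        (B ⊔ Subgroup.zpowers c) ⊓ Subgroup.centralizer ((B ⊔ Subgroup.zpowers c : Subgroup P) : Set P) := by
    intro w hw
    obtain ⟨hwB, hwC⟩ := Subgroup.mem_inf.mp hw
    refine Subgroup.mem_inf.mpr ⟨Subgroup.mem_sup_left hwB, ?_⟩
    rw [Subgroup.mem_centralizer_iff]
    intro y hy
    obtain ⟨b, hb, z, hzz, rfl⟩ := mem_sup_zpowers hc hy
    have h1 := (Subgroup.mem_centralizer_iff.mp hwC) b hb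
    have h2 := (Subgroup.mem_centralizer_iff.mp (hz hzz)) w hwB
    calc b * z * w = b * (z * w) := by group
      _ = b * (w * z) := by rw [h2]
      _ = (b * w) * z := by group
      _ = (w * b) * z := by rw [h1]
      _ = w * (b * z) := by group
  refine ⟨?_, hZ⟩
  show ⁅B ⊔ Subgroup.zpowers c, B ⊔ Subgroup.zpowers c⁆ ≤
    Subgroup.centralizer ((B ⊔ Subgroup.zpowers c : Subgroup P) : Set P)
  have hB2' : ⁅B, B⁆ ≤ Subgroup.centralizer (B : Set P) := hB2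
  have h1 : ⁅B ⊔ Subgroup.zpowers c, B ⊔ Subgroup.zpowers c⁆ ≤ ⁅B, B⁆ := by
    rw [Subgroup.commutator_le]
    intro g₁ hg₁ g₂ hg₂
    obtain ⟨b₁, hb₁, z₁, hz₁, rfl⟩ := mem_sup_zpowers hc hg₁
    obtain ⟨b₂, hb₂, z₂, hz₂, rfl⟩ := mem_sup_zpowers hc hg₂
    have e1 := (Subgroup.mem_centralizer_iff.mp (hz hz₁)) b₂ hb₂
    have e2 := (Subgroup.mem_centralizer_iff.mp (hz hz₂)) b₁ hb₁
    have e3 := zpowers_comm hz₁ hz₂
    have e4 := (Subgroup.mem_centralizer_iff.mp (hz hz₁)) b₁ hb₁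
    have e5 := (Subgroup.mem_centralizer_iff.mp (hz hz₂)) b₂ hb₂
    have : ⁅b₁ * z₁, b₂ * z₂⁆ = ⁅b₁, b₂⁆ := by
      rw [commutatorElement_def, commutatorElement_def]
      calc b₁ * z₁ * (b₂ * z₂) * (b₁ * z₁)⁻¹ * (b₂ * z₂)⁻¹
          = b₁ * (z₁ * b₂) * z₂ * z₁⁻¹ * b₁⁻¹ * z₂⁻¹ * b₂⁻¹ := by group
        _ = b₁ * (b₂ * z₁) * z₂ * z₁⁻¹ * b₁⁻¹ * z₂⁻¹ * b₂⁻¹ := by rw [e1]
        _ = b₁ * b₂ * (z₁ * z₂) * z₁⁻¹ * b₁⁻¹ * z₂⁻¹ * b₂⁻¹ := by group
        _ = b₁ * b₂ * (z₂ * z₁) * z₁⁻¹ * b₁⁻¹ * z₂⁻¹ * b₂⁻¹ := by rw [e3]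
        _ = b₁ * b₂ * (z₂ * b₁⁻¹) * z₂⁻¹ * b₂⁻¹ := by group
        _ = b₁ * b₂ * (b₁⁻¹ * z₂) * z₂⁻¹ * b₂⁻¹ := by
          have : z₂ * b₁⁻¹ = b₁⁻¹ * z₂ := by
            calc z₂ * b₁⁻¹ = b₁⁻¹ * (b₁ * z₂) * b₁⁻¹ := by group
              _ = b₁⁻¹ * (z₂ * b₁) * b₁⁻¹ := by rw [e2]
              _ = b₁⁻¹ * z₂ := by group
          rw [this]
        _ = b₁ * b₂ * b₁⁻¹ * b₂⁻¹ := by group
    rw [this]
    exact Subgroup.commutator_mem_commutator hb₁ hb₂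
  have h2 : ⁅B, B⁆ ≤ B ⊓ Subgroup.centralizer (B : Set P) :=
    le_inf (Subgroup.commutator_le_self B) hB2'
  exact h1.trans (h2.trans (hZ.trans inf_le_right))

theorem enlarge2 {P : Type*} [Group P] (B : Subgroup P) (c : P)
    (hc : c ∈ Subgroup.centralizer (B : Set P)) (A : Subgroup P)
    (hA : A ≤ Subgroup.normalizer (B : Set P)) (hcA : ∀ a ∈ A, a * c * a⁻¹ * c⁻¹ ∈ B)
    (hBA : ⁅B, A⁆ ≤ B ⊓ Subgroup.centralizer (B : Set P)) :
    ⁅B ⊔ Subgroup.zpowers c, A⁆ ≤ B ⊓ Subgroup.centralizer (B : Set P) := by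
  have hz : Subgroup.zpowers c ≤ EE B A := Subgroup.zpowers_le.mpr ⟨hc, hcA⟩
  rw [Subgroup.commutator_le]
  intro g hg a ha
  obtain ⟨b, hb, z, hzz, rfl⟩ := mem_sup_zpowers hc hg
  obtain ⟨hzC, hzA⟩ := hz hzz
  have h1 : a * z * a⁻¹ * z⁻¹ ∈ B ⊓ Subgroup.centralizer (B : Set P) :=
    Subgroup.mem_inf.mpr ⟨hzA a ha,
      Subgroup.mul_mem _ (conj_mem_centralizer (hA ha) hzC) (Subgroup.inv_mem _ hzC)⟩
  have h2 : ⁅b, a⁆ ∈ B ⊓ Subgroup.centralizer (B : Set P) :=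
    hBA (Subgroup.commutator_mem_commutator hb ha)
  have h3 : ⁅b * z, a⁆ = b * (a * z * a⁻¹ * z⁻¹)⁻¹ * b⁻¹ * ⁅b, a⁆ := by
    rw [commutatorElement_def, commutatorElement_def]
    group
  have h4 : b * (a * z * a⁻¹ * z⁻¹)⁻¹ * b⁻¹ = (a * z * a⁻¹ * z⁻¹)⁻¹ := by
    have h5 := (Subgroup.mem_centralizer_iff.mp
      (Subgroup.inv_mem _ (Subgroup.mem_inf.mp h1).2)) b hb
    rw [h5]
    group
  rw [h3, h4]
  exact Subgroup.mul_mem _ (Subgroup.inv_mem _ h1) h2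

theorem le_normalizer_of_conj_mem {P : Type*} [Group P] {Q H : Subgroup P}
    (h : ∀ q ∈ Q, ∀ x ∈ H, q * x * q⁻¹ ∈ H) : Q ≤ Subgroup.normalizer (H : Set P) := by
  intro q hq
  rw [Subgroup.mem_normalizer_iff]
  intro x
  constructor
  · exact h q hq x
  · intro hx
    have := h q⁻¹ (Q.inv_mem hq) _ hx
    have e : q⁻¹ * (q * x * q⁻¹) * q⁻¹⁻¹ = x := by group
    rwa [e] at this

theorem enlarge3 {P : Type*} [Group P] (B : Subgroup P) (c : P)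
    (hc : c ∈ Subgroup.centralizer (B : Set P)) (Q : Subgroup P)
    (hQ : Q ≤ Subgroup.normalizer (B : Set P)) (hcQ : ∀ a ∈ Q, a * c * a⁻¹ * c⁻¹ ∈ B) :
    Q ≤ Subgroup.normalizer ((B ⊔ Subgroup.zpowers c : Subgroup P) : Set P) := by
  have hz : Subgroup.zpowers c ≤ EE B Q := Subgroup.zpowers_le.mpr ⟨hc, hcQ⟩
  apply le_normalizer_of_conj_mem
  intro q hq y hy
  obtain ⟨b, hb, z, hzz, rfl⟩ := mem_sup_zpowers hc hy
  obtain ⟨hzC, hzA⟩ := hz hzz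
  have h1 : q * b * q⁻¹ ∈ B := (Subgroup.mem_normalizer_iff.mp (hQ hq) b).mp hb
  have h2 := hzA q hq
  have e : q * (b * z) * q⁻¹ = (q * b * q⁻¹) * (q * z * q⁻¹ * z⁻¹) * z := by group
  rw [e]
  exact Subgroup.mul_mem _ (Subgroup.mem_sup_left (B.mul_mem h1 h2)) (Subgroup.mem_sup_right hzz)

/-- Let P be a finite p-group. A member B that is maximal under inclusion in any one of the families used to build the K-sequence of P — the class-two family, the lower-star family relative to an odd-indexed term, or the upper-star family relative to an even-indexed term — contains its centralizer: C_P(B) ≤ B. -/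
theorem result {P : Type*} [Group P] [Finite P] {p : ℕ} [Fact p.Prime] (hP : IsPGroup p P) (B : Subgroup P) (𝒦 : Set (Subgroup P)) (h𝒦 : 𝒦 = Cfsg.classTwoSubgroups P ∨ (∃ n, 𝒦 = Cfsg.kLowerStarFamily (Cfsg.kSeqOdd P n)) ∨ ∃ n, 𝒦 = Cfsg.kUpperStarFamily (Cfsg.kSeqEven P n)) (hB : B ∈ 𝒦) (hmax : ∀ C ∈ 𝒦, B ≤ C → C = B) : Subgroup.centralizer (B : Set P) ≤ B := by
  by_contra hC
  obtain ⟨c, hcC, hcB, hcN⟩ := core hP B hC
  have hlt : B ≤ B ⊔ Subgroup.zpowers c := le_sup_left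
  have hne : B ⊔ Subgroup.zpowers c ≠ B := by
    intro h
    apply hcB
    rw [← h]
    exact Subgroup.mem_sup_right (Subgroup.mem_zpowers c)
  rcases h𝒦 with rfl | ⟨n, rfl⟩ | ⟨n, rfl⟩
  · exact hne (hmax _ (enlarge1 B hB c hcC).1 hlt)
  · obtain ⟨hB2, hQN, hstar⟩ := hB
    apply hne
    apply hmax _ _ hlt
    refine ⟨(enlarge1 B hB2 c hcC).1, enlarge3 B c hcC _ hQN (fun a ha => hcN a (hQN ha)), ?_⟩
    intro A hA2 hAQ hBA hBAA hZAA
    have h1 : ⁅B, A⁆ ≤ B ⊓ Subgroup.centralizer (B : Set P) := by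
      apply hstar A hA2 hAQ (hlt.trans hBA)
      · rw [eq_bot_iff, ← hBAA]
        exact Subgroup.commutator_mono hlt le_rfl
      · rw [eq_bot_iff, ← hZAA]
        exact Subgroup.commutator_mono (Subgroup.commutator_mono (enlarge1 B hB2 c hcC).2 le_rfl) le_rfl
    exact (enlarge2 B c hcC A (hAQ.trans hQN) (fun a ha => hcN a (hQN (hAQ ha))) h1).trans
      (enlarge1 B hB2 c hcC).2
  · obtain ⟨hB2, hBQ⟩ := hB
    have hQN : Cfsg.kSeqEven P n ≤ Subgroup.normalizer (B : Set P) := by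
      apply le_normalizer_of_conj_mem
      intro q hq x hx
      have h1 : ⁅x, q⁆ ∈ B := (hBQ (Subgroup.commutator_mem_commutator hx hq)).1
      have e : q * x * q⁻¹ = ⁅x, q⁆⁻¹ * x := by
        rw [commutatorElement_def]
        group
      rw [e]
      exact B.mul_mem (B.inv_mem h1) hx
    apply hne
    apply hmax _ _ hlt
    exact ⟨(enlarge1 B hB2 c hcC).1,
      (enlarge2 B c hcC _ hQN (fun a ha => hcN a (hQN ha)) hBQ).trans (enlarge1 B hB2 c hcC).2⟩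

end Cfsg.Agent.S1977
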