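import Cfsg.Statements.S1978
import Cfsg.Agent.S1977
import Cfsg.Agent.S1976
import Cfsg.Agent.S1980

set_option autoImplicit false
open Cfsg

namespace Cfsg.Agent.S1978

theorem self_centralizing {P : Type*} [Group P] [Finite P] {p : ℕ} [Fact p.Prime] (hP : IsPGroup p P)
    (𝒦 : Set (Subgroup P))
    (h𝒦 : 𝒦 = Cfsg.classTwoSubgroups P ∨ (∃ n, 𝒦 = Cfsg.kLowerStarFamily (Cfsg.kSeqOdd P n)) ∨
      ∃ n, 𝒦 = Cfsg.kUpperStarFamily (Cfsg.kSeqEven P n)) (hne : 𝒦.Nonempty) :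
    Subgroup.centralizer ((sSup 𝒦 : Subgroup P) : Set P) ≤ sSup 𝒦 := by
  obtain ⟨B, hB⟩ := (Set.toFinite 𝒦).exists_maximal hne
  have h1 := Cfsg.Agent.S1977.result hP B 𝒦 h𝒦 hB.1 (fun C hC hBC => le_antisymm (hB.2 hC hBC) hBC)
  intro x hx
  apply le_sSup hB.1
  apply h1
  exact Subgroup.centralizer_le (SetLike.coe_subset_coe.mpr (le_sSup hB.1)) hx

/-- Let P be a finite p-group. Each of the two K-infinity subgroups of P contains its own centralizer in P, which in turn contains Z(P); in particular both are nontrivial when P is. -/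
theorem result {P : Type*} [Group P] [Finite P] {p : ℕ} [Fact p.Prime] (hP : IsPGroup p P) : Subgroup.centralizer (Cfsg.kInfLower P : Set P) ≤ Cfsg.kInfLower P ∧ Subgroup.center P ≤ Subgroup.centralizer (Cfsg.kInfLower P : Set P) ∧ Subgroup.centralizer (Cfsg.kInfUpper P : Set P) ≤ Cfsg.kInfUpper P ∧ Subgroup.center P ≤ Subgroup.centralizer (Cfsg.kInfUpper P : Set P) := by
  obtain ⟨n, hn⟩ := Cfsg.Agent.S1976.result hP
  have hZ := Cfsg.Agent.S1980.result hP (Subgroup.center P) inferInstance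
  have hL : Cfsg.kInfLower P = sSup (Cfsg.kLowerStarFamily (Cfsg.kSeqOdd P n)) := (hn n le_rfl).1.symm
  have hU : Cfsg.kInfUpper P = sSup (Cfsg.kUpperStarFamily (Cfsg.kSeqEven P n)) :=
    (hn (n + 1) (Nat.le_succ n)).2.symm
  refine ⟨?_, Subgroup.center_le_centralizer _, ?_, Subgroup.center_le_centralizer _⟩
  · rw [hL]
    exact self_centralizing hP _ (Or.inr (Or.inl ⟨n, rfl⟩)) ⟨_, (hZ.2 n).1⟩
  · rw [hU]
    exact self_centralizing hP _ (Or.inr (Or.inr ⟨n, rfl⟩)) ⟨_, (hZ.2 n).2⟩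

end Cfsg.Agent.S1978
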