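import Cfsg.Statements.S2257
import Cfsg.Agent.Lib.Helper3.L2j

set_option autoImplicit false
open Cfsg

namespace Cfsg.Agent.S2257

/-- Let G = PSL_2(F) with F a field of order q = 2^p, p prime, and for x ∈ G call the solubilizer of x the set of y ∈ G such that x and y generate a solvable subgroup. Then the solubilizer of an involution has 3q(q − 1) elements; that of a non-identity element of order dividing q − 1 has 2q(q − 1) elements; and that of a non-identity element of order dividing q + 1 has 2(q + 1) elements. -/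
theorem result (p : ℕ) (hp : p.Prime) {F : Type*} [Field F] [Fintype F]
    (hF : Fintype.card F = 2 ^ p) (x : Matrix.ProjectiveSpecialLinearGroup (Fin 2) F) :
    (orderOf x = 2 → Nat.card {y : Matrix.ProjectiveSpecialLinearGroup (Fin 2) F // Group.IsSolvable ↥(Subgroup.closure ({x, y} : Set (Matrix.ProjectiveSpecialLinearGroup (Fin 2) F)))} = 3 * 2 ^ p * (2 ^ p - 1)) ∧
    (x ≠ 1 → orderOf x ∣ 2 ^ p - 1 → Nat.card {y : Matrix.ProjectiveSpecialLinearGroup (Fin 2) F // Group.IsSolvable ↥(Subgroup.closure ({x, y} : Set (Matrix.ProjectiveSpecialLinearGroup (Fin 2) F)))} = 2 * 2 ^ p * (2 ^ p - 1)) ∧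
    (x ≠ 1 → orderOf x ∣ 2 ^ p + 1 → Nat.card {y : Matrix.ProjectiveSpecialLinearGroup (Fin 2) F // Group.IsSolvable ↥(Subgroup.closure ({x, y} : Set (Matrix.ProjectiveSpecialLinearGroup (Fin 2) F)))} = 2 * (2 ^ p + 1)) := by
  have h2F : 2 ∣ Fintype.card F := by rw [hF]; exact dvd_pow_self 2 hp.ne_zero
  have : CharP F 2 := Cfsg.Agent.S2507.charTwo_of_dvd h2F
  obtain ⟨e, -⟩ : ∃ e : Matrix.SpecialLinearGroup (Fin 2) F ≃*
      Matrix.ProjectiveSpecialLinearGroup (Fin 2) F, True := ⟨Cfsg.Agent.S2507.pslEquiv, trivial⟩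
  obtain ⟨x0, rfl⟩ := e.surjective x
  have key := Cfsg.Agent.Lib.Helper3.SzSol3.solC_equiv e x0
  have hord : orderOf (e x0) = orderOf x0 := MulEquiv.orderOf_eq e x0
  have hne : e x0 ≠ 1 → x0 ≠ 1 := fun h h' => h (by rw [h', map_one])
  rw [key, hord]
  obtain ⟨c1, c2, c3⟩ := Cfsg.Agent.Lib.Helper3.L2.sol_count p hp hF x0
  exact ⟨c1, fun h1 h => c2 (hne h1) h, fun h1 h => c3 (hne h1) h⟩

end Cfsg.Agent.S2257
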