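import Cfsg.Statements.S2271
import Mathlib

set_option autoImplicit false
open Cfsg

namespace Cfsg.Agent.S2271

open Equiv Finset

noncomputable def Psi {n : ℕ} (a b h : Perm (Fin n)) : ℕ :=
  (univ.filter (fun x : Fin n => a (h (b x)) = h x)).card

noncomputable def fixc {n : ℕ} (a : Perm (Fin n)) : ℕ :=
  (univ.filter (fun x : Fin n => a x = x)).card

noncomputable def movc {n : ℕ} (a : Perm (Fin n)) : ℕ :=
  (univ.filter (fun x : Fin n => ¬ a x = x)).card

noncomputable def ASet (n : ℕ) : Finset (Perm (Fin n)) :=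
  univ.filter (fun h : Perm (Fin n) => Perm.sign h = 1)

lemma inv_app {n : ℕ} (σ : Perm (Fin n)) (y : Fin n) : σ⁻¹ (σ y) = y :=
  Equiv.Perm.inv_eq_iff_eq.mpr rfl

lemma fixc_add_movc {n : ℕ} (a : Perm (Fin n)) : fixc a + movc a = n := by
  unfold fixc movc
  rw [Finset.card_filter_add_card_filter_not, card_univ, Fintype.card_fin]

lemma alt_ext {n k : ℕ} (hk : k + 2 ≤ n) (f f' : Fin k → Fin n)
    (hf : Function.Injective f) (hf' : Function.Injective f') :
    ∃ g : Perm (Fin n), Perm.sign g = 1 ∧ ∀ i, g (f i) = f' i := by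
  obtain ⟨g, hg⟩ := Equiv.Perm.exists_extending_pair f f' hf hf'
  rcases Int.units_eq_one_or (Perm.sign g) with h | h
  · exact ⟨g, h, hg⟩
  · have hc : 1 < ((univ.image f)ᶜ).card := by
      simp only [card_compl, card_image_of_injective _ hf, card_univ, Fintype.card_fin]
      omega
    obtain ⟨u, hu, v, hv, huv⟩ := Finset.one_lt_card.mp hc
    refine ⟨g * swap u v, by simp [h, huv], fun i => ?_⟩
    have h1 : f i ≠ u := by
      rintro rfl
      exact (mem_compl.mp hu) (mem_image_of_mem _ (mem_univ _))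
    have h2 : f i ≠ v := by
      rintro rfl
      exact (mem_compl.mp hv) (mem_image_of_mem _ (mem_univ _))
    simp [Perm.mul_apply, swap_apply_of_ne_of_ne h1 h2, hg]

lemma alt2 {n : ℕ} (hn : 5 ≤ n) {x y z w : Fin n} (hxy : x ≠ y) (hzw : z ≠ w) :
    ∃ g : Perm (Fin n), Perm.sign g = 1 ∧ g x = z ∧ g y = w := by
  obtain ⟨g, hg, h⟩ := alt_ext (k := 2) (by omega) ![x, y] ![z, w]
    (by intro i j hij; fin_cases i <;> fin_cases j <;> simp_all)
    (by intro i j hij; fin_cases i <;> fin_cases j <;> simp_all)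
  exact ⟨g, hg, by simpa using h 0, by simpa using h 1⟩

lemma alt3 {n : ℕ} (hn : 5 ≤ n) {x y t z w r : Fin n} (hxy : x ≠ y) (hxt : x ≠ t) (hyt : y ≠ t)
    (hzw : z ≠ w) (hzr : z ≠ r) (hwr : w ≠ r) :
    ∃ g : Perm (Fin n), Perm.sign g = 1 ∧ g x = z ∧ g y = w ∧ g t = r := by
  obtain ⟨g, hg, h⟩ := alt_ext (k := 3) (by omega) ![x, y, t] ![z, w, r]
    (by intro i j hij; fin_cases i <;> fin_cases j <;> simp_all)
    (by intro i j hij; fin_cases i <;> fin_cases j <;> simp_all)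
  exact ⟨g, hg, by simpa using h 0, by simpa using h 1, by simpa using h 2⟩

lemma fib2 {n : ℕ} (hn : 5 ≤ n) {x y z w x' y' z' w' : Fin n} (hxy : x ≠ y) (hzw : z ≠ w)
    (hxy' : x' ≠ y') (hzw' : z' ≠ w') :
    ((ASet n).filter (fun h => h x = z ∧ h y = w)).card =
      ((ASet n).filter (fun h => h x' = z' ∧ h y' = w')).card := by
  obtain ⟨p, hps, hp1, hp2⟩ := alt2 hn hxy' hxy
  obtain ⟨q, hqs, hq1, hq2⟩ := alt2 hn hzw hzw'
  refine Finset.card_equiv ((Equiv.mulLeft q).trans (Equiv.mulRight p)) (fun h => ?_)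
  simp only [ASet, mem_filter, mem_univ, true_and, Equiv.trans_apply, Equiv.coe_mulLeft,
    Equiv.coe_mulRight, Perm.sign_mul, hps, hqs, one_mul, mul_one, Perm.mul_apply, hp1, hp2]
  rw [← hq1, ← hq2]
  simp only [EmbeddingLike.apply_eq_iff_eq]

lemma ex_c2 {n : ℕ} (hn : 5 ≤ n) : ∃ c : ℕ, 0 < c ∧ ∀ x y z w : Fin n, x ≠ y → z ≠ w →
    ((ASet n).filter (fun h => h x = z ∧ h y = w)).card = c := by
  have h01 : (⟨0, by omega⟩ : Fin n) ≠ ⟨1, by omega⟩ := by simp [Fin.ext_iff]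
  refine ⟨((ASet n).filter (fun h => h ⟨0, by omega⟩ = ⟨0, by omega⟩ ∧
    h ⟨1, by omega⟩ = ⟨1, by omega⟩)).card, ?_, fun x y z w hxy hzw => fib2 hn hxy hzw h01 h01⟩
  rw [Finset.card_pos]
  exact ⟨1, by simp [ASet]⟩

lemma fib1 {n : ℕ} (hn : 5 ≤ n) {c : ℕ}
    (hc : ∀ x y z w : Fin n, x ≠ y → z ≠ w →
      ((ASet n).filter (fun h => h x = z ∧ h y = w)).card = c)
    (x z : Fin n) : ((ASet n).filter (fun h => h x = z)).card = (n - 1) * c := by
  obtain ⟨y, hy⟩ : ∃ y : Fin n, x ≠ y := by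
    by_cases h0 : x = ⟨0, by omega⟩
    · exact ⟨⟨1, by omega⟩, by rw [h0]; simp [Fin.ext_iff]⟩
    · exact ⟨_, h0⟩
  rw [Finset.card_eq_sum_card_fiberwise (f := fun h : Perm (Fin n) => h y) (t := univ)
    (fun _ _ => mem_univ _)]
  rw [← Finset.add_sum_erase univ _ (mem_univ z)]
  have h0 : (((ASet n).filter (fun h => h x = z)).filter (fun h => h y = z)).card = 0 := by
    rw [Finset.card_eq_zero, Finset.filter_eq_empty_iff]
    intro h hh hyz
    rw [mem_filter] at hh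
    exact hy (h.injective (hh.2.trans hyz.symm))
  rw [h0, zero_add]
  rw [Finset.sum_congr rfl (g := fun _ => c)]
  · rw [Finset.sum_const, card_erase_of_mem (mem_univ _), card_univ, Fintype.card_fin,
      smul_eq_mul]
  · intro w hw
    rw [Finset.filter_filter]
    exact hc x y z w hy (Finset.ne_of_mem_erase hw).symm

lemma cardA {n : ℕ} (hn : 5 ≤ n) {c : ℕ}
    (hc : ∀ x y z w : Fin n, x ≠ y → z ≠ w →
      ((ASet n).filter (fun h => h x = z ∧ h y = w)).card = c) :
    (ASet n).card = n * ((n - 1) * c) := by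
  rw [Finset.card_eq_sum_card_fiberwise (f := fun h : Perm (Fin n) => h ⟨0, by omega⟩)
    (t := univ) (fun _ _ => mem_univ _)]
  rw [Finset.sum_congr rfl (fun z _ => fib1 hn hc ⟨0, by omega⟩ z)]
  rw [Finset.sum_const, card_univ, Fintype.card_fin, smul_eq_mul]

lemma avg {n : ℕ} (hn : 5 ≤ n) (a b : Perm (Fin n)) (N : ℕ)
    (hN : ∀ h : Perm (Fin n), Perm.sign h = 1 → Psi a b h = N) :
    n * (n - 1) * N = (n - 1) * fixc a * fixc b + movc a * movc b := by
  obtain ⟨c, hcpos, hc⟩ := ex_c2 hn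
  have h1 : ∑ h ∈ ASet n, Psi a b h = (ASet n).card * N := by
    rw [Finset.sum_congr rfl (fun h hh => hN h (by simpa [ASet] using hh)), Finset.sum_const,
      smul_eq_mul]
  have h2 : ∑ h ∈ ASet n, Psi a b h =
      ∑ x : Fin n, ((ASet n).filter (fun h => a (h (b x)) = h x)).card := by
    simp only [Psi, Finset.card_filter]
    rw [Finset.sum_comm]
  have h3 : ∀ x : Fin n, b x = x →
      ((ASet n).filter (fun h => a (h (b x)) = h x)).card = fixc a * ((n - 1) * c) := by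
    intro x hx
    rw [hx]
    rw [Finset.card_eq_sum_card_fiberwise (f := fun h : Perm (Fin n) => h x) (t := univ)
      (fun _ _ => mem_univ _)]
    have key : ∀ z : Fin n, (((ASet n).filter (fun h => a (h x) = h x)).filter
        (fun h => h x = z)).card = if a z = z then (n - 1) * c else 0 := by
      intro z
      split_ifs with hz
      · rw [← fib1 hn hc x z, Finset.filter_filter]
        congr 1
        ext h
        simp only [mem_filter]
        constructor
        · rintro ⟨hh, -, h2⟩; exact ⟨hh, h2⟩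
        · rintro ⟨hh, h2⟩; exact ⟨hh, by rw [h2]; exact hz, h2⟩
      · rw [Finset.card_eq_zero, Finset.filter_eq_empty_iff]
        intro h hh h2
        rw [mem_filter] at hh
        exact hz (by rw [← h2]; exact hh.2)
    rw [Finset.sum_congr rfl (fun z _ => key z), Finset.sum_ite, Finset.sum_const,
      Finset.sum_const_zero, add_zero, smul_eq_mul]
    rfl
  have h4 : ∀ x : Fin n, b x ≠ x →
      ((ASet n).filter (fun h => a (h (b x)) = h x)).card = movc a * c := by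
    intro x hx
    rw [Finset.card_eq_sum_card_fiberwise (f := fun h : Perm (Fin n) => h (b x)) (t := univ)
      (fun _ _ => mem_univ _)]
    have key : ∀ w : Fin n, (((ASet n).filter (fun h => a (h (b x)) = h x)).filter
        (fun h => h (b x) = w)).card = if a w = w then 0 else c := by
      intro w
      split_ifs with hw
      · rw [Finset.card_eq_zero, Finset.filter_eq_empty_iff]
        intro h hh h2
        rw [mem_filter] at hh
        apply hx
        apply h.injective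
        rw [h2, ← hh.2, h2, hw]
      · rw [← hc (b x) x w (a w) hx (Ne.symm hw), Finset.filter_filter]
        congr 1
        ext h
        simp only [mem_filter]
        constructor
        · rintro ⟨hh, h1, h2⟩; exact ⟨hh, h2, by rw [← h1, h2]⟩
        · rintro ⟨hh, h2, h1⟩; exact ⟨hh, by rw [h2, h1], h2⟩
    rw [Finset.sum_congr rfl (fun w _ => key w), Finset.sum_ite, Finset.sum_const_zero,
      zero_add, Finset.sum_const, smul_eq_mul]
    rfl
  have h5 : ∑ x : Fin n, ((ASet n).filter (fun h => a (h (b x)) = h x)).card =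
      fixc b * (fixc a * ((n - 1) * c)) + movc b * (movc a * c) := by
    rw [Finset.sum_congr rfl (g := fun x => if b x = x then fixc a * ((n - 1) * c)
      else movc a * c)]
    · rw [Finset.sum_ite, Finset.sum_const, Finset.sum_const, smul_eq_mul, smul_eq_mul]
      rfl
    · intro x _
      split_ifs with hx
      · exact h3 x hx
      · exact h4 x hx
  rw [h1, cardA hn hc, h5] at h2
  have h6 : c * (n * (n - 1) * N) = c * ((n - 1) * fixc a * fixc b + movc a * movc b) := by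
    calc c * (n * (n - 1) * N) = n * ((n - 1) * c) * N := by ring
      _ = _ := h2
      _ = _ := by ring
  exact Nat.eq_of_mul_eq_mul_left hcpos h6


lemma psi_ge_two {n : ℕ} (a b h : Perm (Fin n)) (x₁ x₂ : Fin n) (hne : x₁ ≠ x₂)
    (h1 : a (h (b x₁)) = h x₁) (h2 : a (h (b x₂)) = h x₂) : 2 ≤ Psi a b h := by
  unfold Psi
  have hsub : ({x₁, x₂} : Finset (Fin n)) ⊆ univ.filter (fun x : Fin n => a (h (b x)) = h x) := by
    intro x hx
    rw [mem_insert, mem_singleton] at hx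
    rw [mem_filter]
    rcases hx with rfl | rfl
    · exact ⟨mem_univ _, h1⟩
    · exact ⟨mem_univ _, h2⟩
  calc 2 = ({x₁, x₂} : Finset (Fin n)).card := (Finset.card_pair hne).symm
    _ ≤ _ := Finset.card_le_card hsub

lemma movc_ge_two {n : ℕ} (a : Perm (Fin n)) (ha : a ≠ 1) : 2 ≤ movc a := by
  obtain ⟨s, hs⟩ : ∃ s, a s ≠ s := by
    by_contra hcon
    push Not at hcon
    exact ha (Perm.ext hcon)
  unfold movc
  have hsub : ({s, a s} : Finset (Fin n)) ⊆ univ.filter (fun x : Fin n => ¬ a x = x) := by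
    intro x hx
    rw [mem_insert, mem_singleton] at hx
    rw [mem_filter]
    rcases hx with rfl | rfl
    · exact ⟨mem_univ _, hs⟩
    · exact ⟨mem_univ _, fun h => hs (a.injective h)⟩
  calc 2 = ({s, a s} : Finset (Fin n)).card := (Finset.card_pair (Ne.symm hs)).symm
    _ ≤ _ := Finset.card_le_card hsub

lemma two_arrows {n : ℕ} (hn : 5 ≤ n) (σ : Perm (Fin n)) (hσ : fixc σ ≤ 1) :
    ∃ x y : Fin n, σ x ≠ x ∧ σ y ≠ y ∧ x ≠ y ∧ σ x ≠ y ∧ σ y ≠ x := by
  set F := univ.filter (fun x : Fin n => σ x = x) with hF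
  have hFc : F.card ≤ 1 := hσ
  obtain ⟨x, -, hx⟩ : ∃ x ∈ (univ : Finset (Fin n)), x ∉ F := by
    apply Finset.exists_mem_notMem_of_card_lt_card
    rw [card_univ, Fintype.card_fin]
    omega
  have hx' : σ x ≠ x := fun h => hx (by rw [hF, mem_filter]; exact ⟨mem_univ _, h⟩)
  obtain ⟨y, -, hy⟩ : ∃ y ∈ (univ : Finset (Fin n)), y ∉ F ∪ {x, σ x, σ⁻¹ x} := by
    apply Finset.exists_mem_notMem_of_card_lt_card
    rw [card_univ, Fintype.card_fin]
    calc (F ∪ {x, σ x, σ⁻¹ x}).card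
        ≤ F.card + ({x, σ x, σ⁻¹ x} : Finset (Fin n)).card := Finset.card_union_le _ _
      _ ≤ 1 + 3 := Nat.add_le_add hFc Finset.card_le_three
      _ < n := by omega
  simp only [mem_union, mem_insert, mem_singleton, not_or] at hy
  obtain ⟨hy1, hy2, hy3, hy4⟩ := hy
  refine ⟨x, y, hx', fun h => hy1 (by rw [hF, mem_filter]; exact ⟨mem_univ _, h⟩),
    fun h => hy2 h.symm, fun h => hy3 h.symm, fun h => hy4 ?_⟩
  rw [← h, inv_app]

lemma perm4 {n : ℕ} {x₁ x₂ x₃ x₄ y₁ y₂ y₃ y₄ : Fin n}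
    (h12 : x₁ ≠ x₂) (h13 : x₁ ≠ x₃) (h14 : x₁ ≠ x₄) (h23 : x₂ ≠ x₃) (h24 : x₂ ≠ x₄)
    (h34 : x₃ ≠ x₄)
    (k12 : y₁ ≠ y₂) (k13 : y₁ ≠ y₃) (k14 : y₁ ≠ y₄) (k23 : y₂ ≠ y₃) (k24 : y₂ ≠ y₄)
    (k34 : y₃ ≠ y₄) :
    ∃ g : Perm (Fin n), g x₁ = y₁ ∧ g x₂ = y₂ ∧ g x₃ = y₃ ∧ g x₄ = y₄ := by
  obtain ⟨g, h⟩ := Equiv.Perm.exists_extending_pair ![x₁, x₂, x₃, x₄] ![y₁, y₂, y₃, y₄]
    (by intro i j hij; fin_cases i <;> fin_cases j <;> simp_all)
    (by intro i j hij; fin_cases i <;> fin_cases j <;> simp_all)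
  exact ⟨g, by simpa using h 0, by simpa using h 1, by simpa using h 2, by simpa using h 3⟩

lemma case_c3 {n : ℕ} (hn : 5 ≤ n) (a b : Perm (Fin n)) (ha0 : fixc a = 0) (hb1 : fixc b = 1) :
    ∃ h : Perm (Fin n), Perm.sign h = 1 ∧ 2 ≤ Psi a b h := by
  obtain ⟨s₁, s₂, hs1, hs2, hs12, hs3, hs4⟩ := two_arrows hn a (by omega)
  obtain ⟨u₁, u₂, hu1, hu2, hu12, hu3, hu4⟩ := two_arrows hn b (le_of_eq hb1)
  have d1 : a s₁ ≠ a s₂ := fun h => hs12 (a.injective h)
  have e1 : b u₁ ≠ b u₂ := fun h => hu12 (b.injective h)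
  obtain ⟨g₀, g1, g2, g3, g4⟩ := perm4 (x₁ := b u₁) (x₂ := u₁) (x₃ := b u₂) (x₄ := u₂)
    (y₁ := s₁) (y₂ := a s₁) (y₃ := s₂) (y₄ := a s₂)
    hu1 e1 hu3 (Ne.symm hu4) hu12 hu2 (Ne.symm hs1) hs12 (Ne.symm hs4) hs3 d1 (Ne.symm hs2)
  rcases Int.units_eq_one_or (Perm.sign g₀) with hsg | hsg
  · exact ⟨g₀, hsg, psi_ge_two a b g₀ u₁ u₂ hu12 (by rw [g1, g2]) (by rw [g3, g4])⟩
  by_cases hainv : ∀ z, a (a z) = z
  · refine ⟨swap s₁ (a s₁) * g₀, by simp [Perm.sign_mul, hsg, Perm.sign_swap (Ne.symm hs1)],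
      psi_ge_two a b _ u₁ u₂ hu12 ?_ ?_⟩
    · rw [Perm.mul_apply, Perm.mul_apply, g1, g2, swap_apply_left, swap_apply_right, hainv]
    · rw [Perm.mul_apply, Perm.mul_apply, g3, g4, swap_apply_of_ne_of_ne hs12.symm hs3.symm,
        swap_apply_of_ne_of_ne hs4 d1.symm]
  by_cases hbinv : ∀ x, b (b x) = x
  · refine ⟨g₀ * swap u₁ (b u₁), by simp [Perm.sign_mul, hsg, Perm.sign_swap (Ne.symm hu1)],
      psi_ge_two a b _ (b u₁) u₂ hu3 ?_ ?_⟩
    · rw [hbinv, Perm.mul_apply, Perm.mul_apply, swap_apply_left, swap_apply_right, g1, g2]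
    · rw [Perm.mul_apply, Perm.mul_apply, swap_apply_of_ne_of_ne hu4 e1.symm,
        swap_apply_of_ne_of_ne hu12.symm hu3.symm, g3, g4]
  push Not at hainv hbinv
  obtain ⟨w, hw⟩ := hainv
  obtain ⟨x, hx⟩ := hbinv
  have hw1 : a w ≠ w := fun h => hw (by rw [h, h])
  have hx1 : b x ≠ x := fun h => hx (by rw [h, h])
  have hw2 : a (a w) ≠ a w := fun h => hw1 (a.injective h)
  have hx2 : b (b x) ≠ b x := fun h => hx1 (b.injective h)
  obtain ⟨h, hsg, h1, h2, h3⟩ := alt3 hn (x := b (b x)) (y := b x) (t := x) (z := w) (w := a w)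
    (r := a (a w)) hx2 hx hx1 (Ne.symm hw1) (Ne.symm hw) (Ne.symm hw2)
  exact ⟨h, hsg, psi_ge_two a b h x (b x) (Ne.symm hx1) (by rw [h2, h3]) (by rw [h1, h2])⟩

lemma case_c2 {n : ℕ} (hn : 5 ≤ n) (a b : Perm (Fin n)) (ha : a ≠ 1) (hb : b ≠ 1)
    (ha1 : 1 ≤ fixc a) (hb1 : 1 ≤ fixc b) :
    ∃ h : Perm (Fin n), Perm.sign h = 1 ∧ 2 ≤ Psi a b h := by
  obtain ⟨p₀, hp₀⟩ : ∃ p, a p = p := by
    obtain ⟨p, hp⟩ := Finset.card_pos.mp (show 0 < fixc a from ha1)
    exact ⟨p, (mem_filter.mp hp).2⟩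
  obtain ⟨q₀, hq₀⟩ : ∃ q, b q = q := by
    obtain ⟨p, hp⟩ := Finset.card_pos.mp (show 0 < fixc b from hb1)
    exact ⟨p, (mem_filter.mp hp).2⟩
  obtain ⟨s, hs⟩ : ∃ s, a s ≠ s := by
    by_contra hcon
    push Not at hcon
    exact ha (Perm.ext hcon)
  obtain ⟨u, hu⟩ : ∃ u, b u ≠ u := by
    by_contra hcon
    push Not at hcon
    exact hb (Perm.ext hcon)
  have hq1 : q₀ ≠ u := by
    intro e
    rw [← e] at hu
    exact hu hq₀
  have hq2 : q₀ ≠ b u := by
    intro e
    exact hq1 (b.injective (hq₀.trans e))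
  have hp1 : p₀ ≠ s := by
    intro e
    rw [← e] at hs
    exact hs hp₀
  have hp2 : p₀ ≠ a s := by
    intro e
    exact hp1 (a.injective (hp₀.trans e))
  obtain ⟨h, hsg, h1, h2, h3⟩ := alt3 hn (x := q₀) (y := b u) (t := u) (z := p₀) (w := s)
    (r := a s) hq2 hq1 hu hp1 hp2 (Ne.symm hs)
  exact ⟨h, hsg, psi_ge_two a b h q₀ u hq1 (by rw [hq₀, h1, hp₀]) (by rw [h2, h3])⟩

lemma case_c1 {n : ℕ} (a b : Perm (Fin n)) (ha2 : 2 ≤ fixc a) (hAB : fixc a ≤ fixc b) :
    ∃ h : Perm (Fin n), Perm.sign h = 1 ∧ fixc a ≤ Psi a b h := by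
  have hex : ∃ g : Perm (Fin n), Perm.sign g = 1 ∧ ∀ z, a z = z → b (g z) = g z := by
    set S := univ.filter (fun x : Fin n => a x = x) with hS
    set T := univ.filter (fun x : Fin n => b x = x) with hT
    have hcard : Fintype.card S ≤ Fintype.card T := by
      rw [Fintype.card_coe, Fintype.card_coe]
      exact hAB
    obtain ⟨e⟩ := Function.Embedding.nonempty_of_card_le hcard
    obtain ⟨g₀, hg₀⟩ := Equiv.Perm.exists_extending_pair (fun s : S => (s : Fin n))
      (fun s : S => ((e s : T) : Fin n)) Subtype.val_injective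
      (Subtype.val_injective.comp e.injective)
    have hg₀' : ∀ z, a z = z → b (g₀ z) = g₀ z := by
      intro z hz
      have hzS : z ∈ S := by rw [hS, mem_filter]; exact ⟨mem_univ _, hz⟩
      have h1 := hg₀ ⟨z, hzS⟩
      simp only at h1
      rw [h1]
      have hm : ((e ⟨z, hzS⟩ : T) : Fin n) ∈ univ.filter (fun x : Fin n => b x = x) :=
        (e ⟨z, hzS⟩).2
      exact (mem_filter.mp hm).2
    rcases Int.units_eq_one_or (Perm.sign g₀) with hsg | hsg
    · exact ⟨g₀, hsg, hg₀'⟩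
    · obtain ⟨p, hp, q, hq, hpq⟩ := Finset.one_lt_card.mp (show 1 < S.card from ha2)
      rw [hS, mem_filter] at hp hq
      refine ⟨g₀ * swap p q, by simp [Perm.sign_mul, hsg, Perm.sign_swap hpq], fun z hz => ?_⟩
      rw [Perm.mul_apply]
      apply hg₀'
      by_cases hzp : z = p
      · rw [hzp, swap_apply_left]; exact hq.2
      · by_cases hzq : z = q
        · rw [hzq, swap_apply_right]; exact hp.2
        · rw [swap_apply_of_ne_of_ne hzp hzq]; exact hz
  obtain ⟨g, hsg, hg⟩ := hex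
  refine ⟨g⁻¹, by simp [hsg], ?_⟩
  unfold Psi fixc
  apply Finset.card_le_card_of_injOn (fun z => g z)
  · intro z hz
    simp only [Finset.mem_coe, mem_filter, mem_univ, true_and] at hz ⊢
    rw [hg z hz, inv_app, hz]
  · exact g.injective.injOn

lemma psi_symm {n : ℕ} (a b h : Perm (Fin n)) : Psi a b h = Psi b a h⁻¹ := by
  unfold Psi
  refine Finset.card_equiv (h * b) (fun x => ?_)
  simp only [mem_filter, mem_univ, true_and, Perm.mul_apply, inv_app,
    EmbeddingLike.apply_eq_iff_eq, Perm.inv_eq_iff_eq]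

lemma key_le {n : ℕ} (hn : 5 ≤ n) (a b : Perm (Fin n)) (ha : a ≠ 1) (hb : b ≠ 1)
    (hAB : fixc a ≤ fixc b) :
    ∃ h : Perm (Fin n), Perm.sign h = 1 ∧ Psi a b h ≠ Psi a b 1 := by
  by_contra hcon
  push Not at hcon
  have havg := avg hn a b (Psi a b 1) hcon
  have hA := fixc_add_movc a
  have hB := fixc_add_movc b
  have hma := movc_ge_two a ha
  have hmb := movc_ge_two b hb
  obtain ⟨m, rfl⟩ : ∃ m, n = m + 1 := ⟨n - 1, by omega⟩
  simp only [Nat.add_sub_cancel] at havg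
  generalize Psi a b 1 = N at havg hcon
  by_cases hA0 : fixc a = 0
  · have e1 : movc a = m + 1 := by omega
    rw [hA0, e1] at havg
    have h3 : m * N = movc b :=
      Nat.eq_of_mul_eq_mul_left (show 0 < m + 1 by omega) (by rw [← mul_assoc, havg]; ring)
    by_cases hB1 : fixc b = 1
    · obtain ⟨h, hsg, h2⟩ := case_c3 hn a b hA0 hB1
      rw [hcon h hsg] at h2
      have e2 : movc b = m := by omega
      rw [e2] at h3
      nlinarith
    · rcases N with _ | _ | N
      · simp only [mul_zero] at h3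
        omega
      · simp only [zero_add, mul_one] at h3
        omega
      · have : m * 2 ≤ m * (N + 1 + 1) := Nat.mul_le_mul_left m (by omega)
        omega
  · by_cases hA1 : fixc a = 1
    · obtain ⟨h, hsg, h2⟩ := case_c2 hn a b ha hb (by omega) (by omega)
      rw [hcon h hsg] at h2
      have e1 : movc a = m := by omega
      rw [hA1, e1] at havg
      have h3 : (m + 1) * m * N = (m + 1) * m := by
        have e3 : m * 1 * fixc b + m * movc b = m * (fixc b + movc b) := by ring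
        rw [havg, e3, hB]
        ring
      have h5 : (m + 1) * m * 2 ≤ (m + 1) * m * N := Nat.mul_le_mul_left _ h2
      have h6 : 0 < (m + 1) * m := Nat.mul_pos (by omega) (by omega)
      generalize (m + 1) * m = K at h3 h5 h6
      omega
    · obtain ⟨h, hsg, h2⟩ := case_c1 a b (by omega) hAB
      rw [hcon h hsg] at h2
      have h0 : m * 2 ≤ m * fixc a := Nat.mul_le_mul_left m (by omega)
      have h1 : movc a < m * fixc a := by omega
      have h2' : movc a * movc b < m * fixc a * movc b :=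
        Nat.mul_lt_mul_of_pos_right h1 (by omega)
      have h3 : (m + 1) * m * fixc a = m * fixc a * fixc b + m * fixc a * movc b := by
        have e3 : m * fixc a * fixc b + m * fixc a * movc b = m * fixc a * (fixc b + movc b) := by
          ring
        rw [e3, hB]
        ring
      have h4 : (m + 1) * m * fixc a ≤ (m + 1) * m * N := Nat.mul_le_mul_left _ h2
      linarith

lemma key {n : ℕ} (hn : 5 ≤ n) (a b : Perm (Fin n)) (ha : a ≠ 1) (hb : b ≠ 1) :
    ∃ h : Perm (Fin n), Perm.sign h = 1 ∧ Psi a b h ≠ Psi a b 1 := by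
  rcases le_total (fixc a) (fixc b) with hAB | hAB
  · exact key_le hn a b ha hb hAB
  · obtain ⟨h, hsg, hne⟩ := key_le hn b a hb ha hAB
    refine ⟨h⁻¹, by simp [hsg], ?_⟩
    rw [psi_symm a b h⁻¹, psi_symm a b 1, inv_inv, inv_one]
    exact hne

lemma psi_eq {n : ℕ} (a b h : Perm (Fin n)) :
    Nat.card (Function.fixedPoints ⇑(h⁻¹ * a * h⁻¹⁻¹ * (1 * b * 1⁻¹))) = Psi a b h := by
  have hset : Function.fixedPoints ⇑(h⁻¹ * a * h⁻¹⁻¹ * (1 * b * 1⁻¹)) =
      ↑(univ.filter (fun x : Fin n => a (h (b x)) = h x)) := by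
    ext x
    simp only [Function.mem_fixedPoints, Function.IsFixedPt, Perm.mul_apply, inv_inv,
      Perm.one_apply, inv_one, Finset.coe_filter, mem_univ, true_and, Set.mem_setOf_eq,
      Perm.inv_eq_iff_eq]
  rw [hset, Nat.card_coe_set_eq, Set.ncard_coe_finset]
  rfl

/-- Let n ≥ 5 and let a, b be non-identity permutations in the symmetric group S_n. Then the number of fixed points is not constant on the set of products a′b′ with a′ conjugate to a and b′ conjugate to b under the alternating group: there are even permutations g₁, h₁, g₂, h₂ such that (g₁ a g₁⁻¹)(h₁ b h₁⁻¹) and (g₂ a g₂⁻¹)(h₂ b h₂⁻¹) have different numbers of fixed points. -/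
theorem result (n : ℕ) (hn : 5 ≤ n) (a b : Equiv.Perm (Fin n)) (ha : a ≠ 1) (hb : b ≠ 1) :
    ∃ g₁ h₁ g₂ h₂ : Equiv.Perm (Fin n), g₁ ∈ alternatingGroup (Fin n) ∧ h₁ ∈ alternatingGroup (Fin n) ∧ g₂ ∈ alternatingGroup (Fin n) ∧ h₂ ∈ alternatingGroup (Fin n) ∧
      Nat.card (Function.fixedPoints ⇑(g₁ * a * g₁⁻¹ * (h₁ * b * h₁⁻¹))) ≠
        Nat.card (Function.fixedPoints ⇑(g₂ * a * g₂⁻¹ * (h₂ * b * h₂⁻¹))) := by
  obtain ⟨h, hsg, hne⟩ := key hn a b ha hb
  refine ⟨h⁻¹, 1, 1⁻¹, 1, ?_, one_mem _, inv_mem (one_mem _), one_mem _, ?_⟩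
  · rw [Equiv.Perm.mem_alternatingGroup]
    simp [hsg]
  · rw [psi_eq a b h, psi_eq a b 1]
    exact hne

end Cfsg.Agent.S2271
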