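import Cfsg.Statements.S2355
import Mathlib
import Cfsg.Agent.S2352
import Cfsg.Agent.S2353
import Cfsg.Agent.Lib.Helper14.Laws
import Cfsg.Agent.Lib.Helper14.LawFam
import Cfsg.Agent.Lib.Helper14.LawFam2

set_option autoImplicit false
open Cfsg

namespace Cfsg.Agent.S2355

open Cfsg.Agent.Lib.Helper14.Laws Cfsg.Agent.Lib.Helper14.LawFam in
/-- A non-trivial law is satisfied by only finitely many finite simple groups that are alternating or classical, up to isomorphism: for every non-trivial element w of the free group on countably many generators there is a bound N such that every alternating group of degree ≥ 5 and every simple classical group (linear, symplectic, unitary or orthogonal, in this problem's sense) in which w is a law has order at most N. -/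
theorem result (w : FreeGroup ℕ) (hw : w ≠ 1) :
    ∃ N : ℕ, ∀ (G : Type*) [Group G] [Finite G],
      (Cfsg.IsAlternating G ∨ Cfsg.IsPSL G ∨ Cfsg.IsPSp G ∨ Cfsg.IsPSU G ∨ Cfsg.IsPOmegaOdd G ∨
          Cfsg.IsPOmegaPlus G ∨ Cfsg.IsPOmegaMinus G) →
      (∀ f : ℕ → G, FreeGroup.lift f w = 1) → Nat.card G ≤ N := by
  obtain ⟨N₁, h1⟩ := Cfsg.Agent.S2353.result w hw
  obtain ⟨N₂, h2⟩ := Cfsg.Agent.S2352.result w hw
  have H₁ : Hyp1 w N₁ := by
    intro K _ _ hK hlaw
    obtain ⟨f, hf⟩ := h1 K hK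
    exact hf (hlaw f)
  have H₂ : Hyp2 w N₂ := by
    intro n hn hlaw
    obtain ⟨f, hf⟩ := h2 n hn
    exact hf (hlaw f)
  refine ⟨Nat.factorial N₂ + (N₁ ^ 2) ^ ((2 * max N₂ 5 + 1) * (2 * max N₂ 5 + 1)), ?_⟩
  intro G _ _ hG hlaw
  have hlaw' : IsLaw w G := hlaw
  have hR4 : max N₂ 4 ≤ max N₂ 5 := max_le_max le_rfl (by norm_num)
  have key : ∀ (c d : ℕ), 1 ≤ c → c ≤ N₁ ^ 2 → d ≤ 2 * max N₂ 5 + 1 → Nat.card G ≤ c ^ (d * d) →
      Nat.card G ≤ Nat.factorial N₂ + (N₁ ^ 2) ^ ((2 * max N₂ 5 + 1) * (2 * max N₂ 5 + 1)) := by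
    intro c d hc1 hc hd hG
    have h3 : c ^ (d * d) ≤ (N₁ ^ 2) ^ (d * d) := Nat.pow_le_pow_left hc _
    have h4 : (N₁ ^ 2) ^ (d * d) ≤ (N₁ ^ 2) ^ ((2 * max N₂ 5 + 1) * (2 * max N₂ 5 + 1)) :=
      Nat.pow_le_pow_right (le_trans hc1 hc) (Nat.mul_le_mul hd hd)
    exact le_trans (le_trans hG (le_trans h3 h4)) (Nat.le_add_left _ _)
  have hsq : ∀ c : ℕ, c < N₁ → c ≤ N₁ ^ 2 := by
    intro c hc
    have : N₁ ≤ N₁ ^ 2 := Nat.le_self_pow (by norm_num) N₁
    omega
  rcases hG with hG | hG | hG | hG | hG | hG | hG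
  · obtain ⟨n, hn, ⟨e⟩⟩ := hG
    have hlawA : IsLaw w (alternatingGroup (Fin n)) := IsLaw.of_equiv e hlaw'
    have hnN : n < N₂ := by
      by_contra hc
      push Not at hc
      exact H₂ n hc hlawA
    have hcard : Nat.card G = Nat.card (alternatingGroup (Fin n)) := Nat.card_congr e.toEquiv
    have h5 : Nat.card (alternatingGroup (Fin n)) ≤ Nat.factorial n := by
      calc Nat.card (alternatingGroup (Fin n)) ≤ Nat.card (Equiv.Perm (Fin n)) :=
            Nat.card_le_card_of_injective _ Subtype.val_injective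
        _ = Nat.factorial n := by
            rw [Nat.card_eq_fintype_card, Fintype.card_perm, Fintype.card_fin]
    have h6 : Nat.factorial n ≤ Nat.factorial N₂ := Nat.factorial_le hnN.le
    omega
  · obtain ⟨F, _, _, n, hn, -, ⟨e⟩⟩ := hG
    have hl := IsLaw.of_equiv e hlaw'
    obtain ⟨hF, hnR⟩ := psl H₁ H₂ F n hn hl
    apply key (Fintype.card F) n Fintype.card_pos (hsq _ hF) (by omega)
    rw [Nat.card_congr e.toEquiv]
    exact card_psl F n
  · obtain ⟨F, _, _, m, hm, -, ⟨e⟩⟩ := hG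
    have hl := IsLaw.of_equiv e hlaw'
    obtain ⟨hF, hnR⟩ := psp H₁ H₂ F m hm hl
    apply key (Fintype.card F) (m + m) Fintype.card_pos (hsq _ hF) (by omega)
    rw [Nat.card_congr e.toEquiv]
    exact card_psp F m
  · obtain ⟨F, _, _, n, q, hF, hn, -, ⟨e⟩⟩ := hG
    have hl := IsLaw.of_equiv e hlaw'
    obtain ⟨hq, hnR⟩ := psu H₁ H₂ F n q hF hn hl
    apply key (Fintype.card F) n Fintype.card_pos
      (by rw [hF]; exact Nat.pow_le_pow_left hq.le 2) (by omega)
    rw [Nat.card_congr e.toEquiv]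
    exact card_psu F n q
  · obtain ⟨F, _, _, m, hm, -, ⟨e⟩⟩ := hG
    have hl := IsLaw.of_equiv e hlaw'
    obtain ⟨hF, hnR⟩ := pomega H₁ H₂ F (Cfsg.quadFormOdd m F) m hm (leviOdd m F)
      (leviOdd_injective m F) hl
    have hd : Fintype.card (Unit ⊕ (Fin m ⊕ Fin m)) = 1 + (m + m) := by simp
    apply key (Fintype.card F) (1 + (m + m)) Fintype.card_pos (hsq _ hF) (by omega)
    rw [Nat.card_congr e.toEquiv, ← hd]
    exact card_pomega F (Cfsg.quadFormOdd m F)
  · obtain ⟨F, _, _, m, hm, ⟨e⟩⟩ := hG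
    have hl := IsLaw.of_equiv e hlaw'
    obtain ⟨hF, hnR⟩ := pomega H₁ H₂ F (Cfsg.quadFormPlus m F) m (by omega) (leviPlus m F)
      (leviPlus_injective m F) hl
    have hd : Fintype.card (Fin m ⊕ Fin m) = m + m := by simp
    apply key (Fintype.card F) (m + m) Fintype.card_pos (hsq _ hF) (by omega)
    rw [Nat.card_congr e.toEquiv, ← hd]
    exact card_pomega F (Cfsg.quadFormPlus m F)
  · obtain ⟨F, _, _, m, a, b, hm, -, ⟨e⟩⟩ := hG
    have hl := IsLaw.of_equiv e hlaw'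
    obtain ⟨hF, hnR⟩ := pomega H₁ H₂ F (Cfsg.quadFormMinus (m - 1) F a b) (m - 1) (by omega)
      (leviMinus (m - 1) F a b) (leviMinus_injective (m - 1) F a b) hl
    have hd : Fintype.card ((Fin (m - 1) ⊕ Fin (m - 1)) ⊕ Fin 2) = (m - 1) + (m - 1) + 2 := by
      simp
    apply key (Fintype.card F) ((m - 1) + (m - 1) + 2) Fintype.card_pos (hsq _ hF) (by omega)
    rw [Nat.card_congr e.toEquiv, ← hd]
    exact card_pomega F (Cfsg.quadFormMinus (m - 1) F a b)

end Cfsg.Agent.S2355
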