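import Cfsg.Statements.S2428
import Cfsg.Agent.Lib.Helper14.Torus
import Cfsg.Agent.S2475

set_option autoImplicit false
open Cfsg

namespace Cfsg.Agent.S2428

open Cfsg.Agent.Lib.Helper14.GL2Conj Cfsg.Agent.Lib.Helper14.SL2Odd Cfsg.Agent.Lib.Helper14.PSL2
open Cfsg.Agent.Lib.Helper14.Torus

theorem diag_ne {F : Type*} [Field F] (d : Matrix.SpecialLinearGroup (Fin 2) F)
    (hd01 : (d : Matrix (Fin 2) (Fin 2) F) 0 1 = 0)
    (hda : (d : Matrix (Fin 2) (Fin 2) F) 0 0 ^ 2 ≠ 1) :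
    (d : Matrix (Fin 2) (Fin 2) F) 0 0 - (d : Matrix (Fin 2) (Fin 2) F) 1 1 ≠ 0 := by
  have hdet := d.det_coe
  rw [Matrix.det_fin_two, hd01, zero_mul, sub_zero] at hdet
  intro h
  apply hda
  rw [sub_eq_zero] at h
  rw [← h] at hdet
  rw [pow_two]
  exact hdet

theorem cent_diag {F : Type*} [Field F] (d : Matrix.SpecialLinearGroup (Fin 2) F)
    (hd01 : (d : Matrix (Fin 2) (Fin 2) F) 0 1 = 0) (hd10 : (d : Matrix (Fin 2) (Fin 2) F) 1 0 = 0)
    (hda : (d : Matrix (Fin 2) (Fin 2) F) 0 0 ^ 2 ≠ 1) (g : Matrix.SpecialLinearGroup (Fin 2) F) :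
    g ∈ Subgroup.centralizer ({d} : Set (Matrix.SpecialLinearGroup (Fin 2) F)) ↔
      ((g : Matrix (Fin 2) (Fin 2) F) 0 1 = 0 ∧ (g : Matrix (Fin 2) (Fin 2) F) 1 0 = 0) := by
  have hne := diag_ne d hd01 hda
  rw [mem_cent_iff]
  constructor
  · intro h
    have h2 : (d : Matrix (Fin 2) (Fin 2) F) * (g : Matrix (Fin 2) (Fin 2) F) =
        (g : Matrix (Fin 2) (Fin 2) F) * (d : Matrix (Fin 2) (Fin 2) F) := by
      have := congrArg (fun X : Matrix.SpecialLinearGroup (Fin 2) F => (X : Matrix (Fin 2) (Fin 2) F)) h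
      simpa using this
    have e01 := congrFun (congrFun h2 0) 1
    have e10 := congrFun (congrFun h2 1) 0
    simp only [Matrix.mul_apply, Fin.sum_univ_two, hd01, hd10, zero_mul, mul_zero, add_zero, zero_add]
      at e01 e10
    constructor
    · have : (g : Matrix (Fin 2) (Fin 2) F) 0 1 *
          ((d : Matrix (Fin 2) (Fin 2) F) 0 0 - (d : Matrix (Fin 2) (Fin 2) F) 1 1) = 0 := by
        linear_combination e01
      rcases mul_eq_zero.mp this with h3 | h3
      · exact h3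
      · exact absurd h3 hne
    · have : (g : Matrix (Fin 2) (Fin 2) F) 1 0 *
          ((d : Matrix (Fin 2) (Fin 2) F) 0 0 - (d : Matrix (Fin 2) (Fin 2) F) 1 1) = 0 := by
        linear_combination (-1 : F) * e10
      rcases mul_eq_zero.mp this with h3 | h3
      · exact h3
      · exact absurd h3 hne
  · rintro ⟨h1, h2⟩
    apply Subtype.ext
    rw [Matrix.SpecialLinearGroup.coe_mul, Matrix.SpecialLinearGroup.coe_mul]
    ext i j
    fin_cases i <;> fin_cases j <;>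
      simp [Matrix.mul_apply, Fin.sum_univ_two, hd01, hd10, h1, h2, mul_comm]

theorem cent_eq_range {F : Type*} [Field F] (d : Matrix.SpecialLinearGroup (Fin 2) F)
    (hd01 : (d : Matrix (Fin 2) (Fin 2) F) 0 1 = 0) (hd10 : (d : Matrix (Fin 2) (Fin 2) F) 1 0 = 0)
    (hda : (d : Matrix (Fin 2) (Fin 2) F) 0 0 ^ 2 ≠ 1) :
    Subgroup.centralizer ({d} : Set (Matrix.SpecialLinearGroup (Fin 2) F)) =
      (Cfsg.Agent.S2475.diagHom (F := F)).range := by
  ext g
  rw [cent_diag d hd01 hd10 hda, MonoidHom.mem_range]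
  constructor
  · rintro ⟨h1, h2⟩
    have hdet := g.det_coe
    rw [Matrix.det_fin_two, h1, zero_mul, sub_zero] at hdet
    refine ⟨Units.mk ((g : Matrix (Fin 2) (Fin 2) F) 0 0) ((g : Matrix (Fin 2) (Fin 2) F) 1 1) hdet
      (by rw [mul_comm]; exact hdet), ?_⟩
    apply Subtype.ext
    show !![(g : Matrix (Fin 2) (Fin 2) F) 0 0, 0; 0, (g : Matrix (Fin 2) (Fin 2) F) 1 1] =
      (g : Matrix (Fin 2) (Fin 2) F)
    ext i j
    fin_cases i <;> fin_cases j <;> simp [h1, h2]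
  · rintro ⟨u, rfl⟩
    exact ⟨rfl, rfl⟩

theorem card_cent {F : Type*} [Field F] [Fintype F] (d : Matrix.SpecialLinearGroup (Fin 2) F)
    (hd01 : (d : Matrix (Fin 2) (Fin 2) F) 0 1 = 0) (hd10 : (d : Matrix (Fin 2) (Fin 2) F) 1 0 = 0)
    (hda : (d : Matrix (Fin 2) (Fin 2) F) 0 0 ^ 2 ≠ 1) :
    Nat.card (Subgroup.centralizer ({d} : Set (Matrix.SpecialLinearGroup (Fin 2) F))) =
      Fintype.card F - 1 := by
  rw [cent_eq_range d hd01 hd10 hda]
  have e := Nat.card_congr (MonoidHom.ofInjective (Cfsg.Agent.S2475.diagHom_injective (F := F))).toEquiv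
  rw [← e, Nat.card_units, Nat.card_eq_fintype_card]

theorem result {F : Type*} [Field F] [Fintype F] (hodd : Odd (Fintype.card F))
    (d : Matrix.SpecialLinearGroup (Fin 2) F) (hd01 : (d : Matrix (Fin 2) (Fin 2) F) 0 1 = 0) (hd10 : (d : Matrix (Fin 2) (Fin 2) F) 1 0 = 0) (hda : (d : Matrix (Fin 2) (Fin 2) F) 0 0 ^ 2 ≠ 1) :
    (∀ g : Matrix.SpecialLinearGroup (Fin 2) F, g ∈ Subgroup.centralizer ({d} : Set (Matrix.SpecialLinearGroup (Fin 2) F)) ↔ ((g : Matrix (Fin 2) (Fin 2) F) 0 1 = 0 ∧ (g : Matrix (Fin 2) (Fin 2) F) 1 0 = 0)) ∧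
    Nat.card (Subgroup.normalizer ((Subgroup.centralizer ({d} : Set (Matrix.SpecialLinearGroup (Fin 2) F))) : Set (Matrix.SpecialLinearGroup (Fin 2) F))) = 2 * (Fintype.card F - 1) ∧
    Nat.card (ConjClasses (Subgroup.normalizer ((Subgroup.centralizer ({d} : Set (Matrix.SpecialLinearGroup (Fin 2) F))) : Set (Matrix.SpecialLinearGroup (Fin 2) F)))) = (Fintype.card F + 5) / 2 ∧
    ∀ g : Matrix.SpecialLinearGroup (Fin 2) F, g ∈ Subgroup.normalizer ((Subgroup.centralizer ({d} : Set (Matrix.SpecialLinearGroup (Fin 2) F))) : Set (Matrix.SpecialLinearGroup (Fin 2) F)) →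
      g ∉ Subgroup.centralizer ({d} : Set (Matrix.SpecialLinearGroup (Fin 2) F)) → ((g * g) : Matrix (Fin 2) (Fin 2) F) = -1 := by
  have hodd' : Fintype.card F % 2 = 1 := Nat.odd_iff.mp hodd
  have h2 : (2 : F) ≠ 0 := two_ne_zero_of_odd hodd'
  have hne := diag_ne d hd01 hda
  have hg : ¬ IsScalarMat (d : Matrix (Fin 2) (Fin 2) F) := by
    rw [isScalarMat_iff]
    rintro ⟨-, -, h⟩
    exact hne (sub_eq_zero.mpr h)
  have ht4 : tr2 d ^ 2 ≠ 4 := by
    have hdet := d.det_coe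
    rw [Matrix.det_fin_two, hd01, zero_mul, sub_zero] at hdet
    intro h
    unfold tr2 at h
    have : ((d : Matrix (Fin 2) (Fin 2) F) 0 0 - (d : Matrix (Fin 2) (Fin 2) F) 1 1) ^ 2 = 0 := by
      linear_combination h - 4 * hdet
    exact hne (pow_eq_zero_iff (two_ne_zero) |>.mp this)
  have hcard := card_cent d hd01 hd10 hda
  obtain ⟨hN, hk⟩ := normalizer_facts hodd' d hg ht4
  refine ⟨cent_diag d hd01 hd10 hda, ?_, ?_, ?_⟩
  · rw [hN, hcard]
  · rw [hcard] at hk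
    have : 1 < Fintype.card F := Fintype.one_lt_card
    omega
  · intro g hgN hgT
    rcases normalizer_dichotomy h2 d g hg ht4 hgN with h | h
    · exact absurd h hgT
    · have h3 := sq_of_inverts d g hg h
      have h4 := congrArg (fun X : Matrix.SpecialLinearGroup (Fin 2) F => (X : Matrix (Fin 2) (Fin 2) F)) h3
      simp only [Matrix.SpecialLinearGroup.coe_mul, negOne_coe] at h4
      rw [h4]
      ext i j
      fin_cases i <;> fin_cases j <;> simp

end Cfsg.Agent.S2428
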