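import Cfsg.Statements.S2430
import Cfsg.Agent.S2428
import Cfsg.Agent.S2429

set_option autoImplicit false
open Cfsg

namespace Cfsg.Agent.S2430

open Cfsg.Agent.Lib.Helper14.GL2Conj Cfsg.Agent.Lib.Helper14.SL2Odd Cfsg.Agent.Lib.Helper14.PSL2
open Cfsg.Agent.Lib.Helper14.Torus Cfsg.Agent.Lib.Helper14.ClassSize Cfsg.Agent.Lib.Helper14.SL2Odd2

theorem cent_conj_map {G : Type*} [Group G] (x g : G) :
    (Subgroup.centralizer ({g} : Set G)).map (MulAut.conj x).toMonoidHom =
      Subgroup.centralizer ({x * g * x⁻¹} : Set G) := by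
  ext y
  rw [Subgroup.mem_map]
  constructor
  · rintro ⟨z, hz, rfl⟩
    rw [Subgroup.mem_centralizer_iff] at hz ⊢
    intro w hw
    rw [Set.mem_singleton_iff] at hw
    have h1 := hz g rfl
    rw [hw]
    show x * g * x⁻¹ * (x * z * x⁻¹) = x * z * x⁻¹ * (x * g * x⁻¹)
    calc x * g * x⁻¹ * (x * z * x⁻¹) = x * (g * z) * x⁻¹ := by group
      _ = x * (z * g) * x⁻¹ := by rw [h1]
      _ = x * z * x⁻¹ * (x * g * x⁻¹) := by group
  · intro hy
    rw [Subgroup.mem_centralizer_iff] at hy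
    have h1 := hy _ rfl
    refine ⟨x⁻¹ * y * x, ?_, ?_⟩
    · rw [Subgroup.mem_centralizer_iff]
      intro w hw
      rw [Set.mem_singleton_iff] at hw
      rw [hw]
      calc g * (x⁻¹ * y * x) = x⁻¹ * (x * g * x⁻¹ * y) * x := by group
        _ = x⁻¹ * (y * (x * g * x⁻¹)) * x := by rw [h1]
        _ = x⁻¹ * y * x * g := by group
    · show x * (x⁻¹ * y * x) * x⁻¹ = y
      group

theorem negOne_pow_odd {F : Type*} [Field F] (m : ℕ) :
    (negOne : Matrix.SpecialLinearGroup (Fin 2) F) ^ (2 * m + 1) = negOne := by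
  rw [pow_succ, pow_mul, pow_two, negOne_mul_self, one_pow, one_mul]

theorem sylow_torus {F : Type*} [Field F] [Fintype F] (hodd : Fintype.card F % 2 = 1)
    (ℓ : ℕ) [Fact ℓ.Prime] (hℓ : ℓ ≠ 2)
    (g : Matrix.SpecialLinearGroup (Fin 2) F)
    (hg : ¬ IsScalarMat (g : Matrix (Fin 2) (Fin 2) F)) (ht4 : tr2 g ^ 2 ≠ 4)
    (hcyc : IsCyclic (Subgroup.centralizer ({g} : Set (Matrix.SpecialLinearGroup (Fin 2) F))))
    (n : ℕ) (hn : Nat.card (Subgroup.centralizer ({g} : Set (Matrix.SpecialLinearGroup (Fin 2) F))) = n)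
    (hdvd : ℓ ∣ n)
    (hpart : (Nat.card (Matrix.SpecialLinearGroup (Fin 2) F)).factorization ℓ = n.factorization ℓ)
    (P : Sylow ℓ (Matrix.SpecialLinearGroup (Fin 2) F)) :
    Nat.card (Subgroup.centralizer ((P : Subgroup (Matrix.SpecialLinearGroup (Fin 2) F)) :
      Set (Matrix.SpecialLinearGroup (Fin 2) F))) = n ∧
    IsCyclic (Subgroup.centralizer ((P : Subgroup (Matrix.SpecialLinearGroup (Fin 2) F)) :
      Set (Matrix.SpecialLinearGroup (Fin 2) F))) ∧
    Nat.card (Subgroup.normalizer ((P : Subgroup (Matrix.SpecialLinearGroup (Fin 2) F)) :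
      Set (Matrix.SpecialLinearGroup (Fin 2) F))) = 2 * n := by
  have h2 : (2 : F) ≠ 0 := two_ne_zero_of_odd hodd
  have hℓp : ℓ.Prime := Fact.out
  have hn0 : n ≠ 0 := by
    rw [← hn]
    exact Nat.card_pos.ne'
  obtain ⟨S⟩ : Nonempty (Sylow ℓ (Subgroup.centralizer ({g} : Set (Matrix.SpecialLinearGroup (Fin 2) F)))) :=
    inferInstance
  have hScard := S.card_eq_multiplicity
  rw [hn, ← hpart] at hScard
  have hQcard : Nat.card ((S : Subgroup _).map
      (Subgroup.centralizer ({g} : Set (Matrix.SpecialLinearGroup (Fin 2) F))).subtype) =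
      ℓ ^ (Nat.card (Matrix.SpecialLinearGroup (Fin 2) F)).factorization ℓ := by
    rw [Subgroup.card_map_of_injective (Subgroup.subtype_injective _)]
    exact hScard
  obtain ⟨x, hx⟩ := MulAction.exists_smul_eq (Matrix.SpecialLinearGroup (Fin 2) F)
    (Sylow.ofCard _ hQcard) P
  have hPle : ∀ y ∈ (P : Subgroup (Matrix.SpecialLinearGroup (Fin 2) F)),
      y ∈ Subgroup.centralizer ({x * g * x⁻¹} : Set (Matrix.SpecialLinearGroup (Fin 2) F)) := by
    intro y hy
    have hy' : y ∈ ((x • (Sylow.ofCard _ hQcard : Sylow ℓ (Matrix.SpecialLinearGroup (Fin 2) F)) :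
        Sylow ℓ (Matrix.SpecialLinearGroup (Fin 2) F)) :
        Subgroup (Matrix.SpecialLinearGroup (Fin 2) F)) := by
      rw [hx]
      exact hy
    rw [Sylow.coe_subgroup_smul, Subgroup.mem_pointwise_smul_iff_inv_smul_mem, Sylow.coe_ofCard,
      Subgroup.mem_map] at hy'
    obtain ⟨z, -, hz⟩ := hy'
    rw [← cent_conj_map, Subgroup.mem_map]
    refine ⟨(z : Matrix.SpecialLinearGroup (Fin 2) F), z.2, ?_⟩
    have hz' : (z : Matrix.SpecialLinearGroup (Fin 2) F) = x⁻¹ * y * x := by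
      have h3 : (MulAut.conj x)⁻¹ • y = x⁻¹ * y * x := by
        rw [← map_inv, MulAut.smul_def, MulAut.conj_apply, inv_inv]
      rw [← h3]
      exact hz
    show x * (z : Matrix.SpecialLinearGroup (Fin 2) F) * x⁻¹ = y
    rw [hz']
    group
  have hg' : ¬ IsScalarMat ((x * g * x⁻¹ : Matrix.SpecialLinearGroup (Fin 2) F) :
      Matrix (Fin 2) (Fin 2) F) := by
    intro hs
    apply hg
    have hc : IsConj (x * g * x⁻¹) g := by
      rw [isConj_iff]
      exact ⟨x⁻¹, by group⟩
    have := scalar_of_isConj hc hs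
    rw [this]
    exact hs
  have ht4' : tr2 (x * g * x⁻¹) ^ 2 ≠ 4 := by
    rw [tr2_conj]
    exact ht4
  have hn' : Nat.card (Subgroup.centralizer
      ({x * g * x⁻¹} : Set (Matrix.SpecialLinearGroup (Fin 2) F))) = n := by
    rw [← cent_conj_map, Subgroup.card_map_of_injective (MulAut.conj x).injective]
    exact hn
  have hcyc' : IsCyclic (Subgroup.centralizer
      ({x * g * x⁻¹} : Set (Matrix.SpecialLinearGroup (Fin 2) F))) := by
    rw [← cent_conj_map]
    exact isCyclic_of_surjective ((MulAut.conj x).toMonoidHom.subgroupMap _)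
      (MonoidHom.subgroupMap_surjective _ _)
  have hPcard := P.card_eq_multiplicity
  have hk : 0 < (Nat.card (Matrix.SpecialLinearGroup (Fin 2) F)).factorization ℓ := by
    rw [hpart]
    exact hℓp.factorization_pos_of_dvd hn0 hdvd
  have hPodd : ∃ m, Nat.card (P : Subgroup (Matrix.SpecialLinearGroup (Fin 2) F)) = 2 * m + 1 := by
    have : Odd (ℓ ^ (Nat.card (Matrix.SpecialLinearGroup (Fin 2) F)).factorization ℓ) :=
      Odd.pow (hℓp.odd_of_ne_two hℓ)
    obtain ⟨m, hm⟩ := this
    exact ⟨m, by rw [hPcard, hm]⟩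
  obtain ⟨c, hcP, hc1⟩ : ∃ c ∈ (P : Subgroup (Matrix.SpecialLinearGroup (Fin 2) F)), c ≠ 1 := by
    have hne : (P : Subgroup (Matrix.SpecialLinearGroup (Fin 2) F)) ≠ ⊥ := by
      intro hbot
      rw [hbot, Subgroup.card_bot] at hPcard
      have : 1 < ℓ ^ (Nat.card (Matrix.SpecialLinearGroup (Fin 2) F)).factorization ℓ :=
        Nat.one_lt_pow hk.ne' hℓp.one_lt
      omega
    obtain ⟨⟨c, hcP⟩, hc1⟩ := (Subgroup.ne_bot_iff_exists_ne_one).mp hne
    exact ⟨c, hcP, fun h => hc1 (Subtype.ext h)⟩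
  have hcT := hPle c hcP
  have hcs : ¬ IsScalarMat (c : Matrix (Fin 2) (Fin 2) F) := by
    intro hs
    rcases scalar_cases c hs with h | h
    · exact hc1 h
    · obtain ⟨m, hm⟩ := hPodd
      have hpow : c ^ (2 * m + 1) = 1 := by
        rw [← hm]
        have h3 := orderOf_dvd_natCard (⟨c, hcP⟩ : (P : Subgroup (Matrix.SpecialLinearGroup (Fin 2) F)))
        rw [Subgroup.orderOf_mk] at h3
        exact orderOf_dvd_iff_pow_eq_one.mp h3
      rw [h, negOne_pow_odd] at hpow
      exact negOne_ne_one h2 hpow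
  have hCc := cent_eq_of_mem (x * g * x⁻¹) c hg' hcT hcs
  have hCP : Subgroup.centralizer ((P : Subgroup (Matrix.SpecialLinearGroup (Fin 2) F)) :
      Set (Matrix.SpecialLinearGroup (Fin 2) F)) =
      Subgroup.centralizer ({x * g * x⁻¹} : Set (Matrix.SpecialLinearGroup (Fin 2) F)) := by
    ext y
    constructor
    · intro hy
      rw [← hCc, mem_cent_iff]
      exact hy c hcP
    · intro hy
      rw [Subgroup.mem_centralizer_iff]
      intro z hz
      exact torus_comm _ hg' z (hPle z hz) y hy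
  have hNP : Subgroup.normalizer ((P : Subgroup (Matrix.SpecialLinearGroup (Fin 2) F)) :
      Set (Matrix.SpecialLinearGroup (Fin 2) F)) =
      Subgroup.normalizer ((Subgroup.centralizer
        ({x * g * x⁻¹} : Set (Matrix.SpecialLinearGroup (Fin 2) F))) :
        Set (Matrix.SpecialLinearGroup (Fin 2) F)) := by
    ext y
    constructor
    · intro hy
      rw [← hCP, Subgroup.mem_normalizer_iff]
      rw [Subgroup.mem_normalizer_iff] at hy
      intro z
      constructor
      · intro hz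
        rw [Subgroup.mem_centralizer_iff]
        intro w hw
        have hw' : y⁻¹ * w * y ∈ (P : Subgroup (Matrix.SpecialLinearGroup (Fin 2) F)) := by
          rw [hy (y⁻¹ * w * y)]
          have : y * (y⁻¹ * w * y) * y⁻¹ = w := by group
          rw [this]
          exact hw
        have h3 : Commute (y⁻¹ * w * y) z := hz _ hw'
        have h4 : Commute (y * (y⁻¹ * w * y) * y⁻¹) (y * z * y⁻¹) := (Commute.conj_iff y).mpr h3
        have h5 : y * (y⁻¹ * w * y) * y⁻¹ = w := by group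
        rw [h5] at h4
        exact h4
      · intro hz
        rw [Subgroup.mem_centralizer_iff]
        intro w hw
        have hw' : y * w * y⁻¹ ∈ (P : Subgroup (Matrix.SpecialLinearGroup (Fin 2) F)) := (hy w).mp hw
        have h3 : Commute (y * w * y⁻¹) (y * z * y⁻¹) := hz _ hw'
        exact (Commute.conj_iff y).mp h3
    · intro hy
      rcases normalizer_dichotomy h2 _ y hg' ht4' hy with h | h
      · rw [← hCP] at h
        exact Subgroup.centralizer_le_normalizer _ h
      · rw [Subgroup.mem_normalizer_iff]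
        intro w
        constructor
        · intro hw
          rw [inverts _ y w hg' h (hPle w hw)]
          exact inv_mem hw
        · intro hw
          have h3 := inverts _ y _ hg' h (hPle _ hw)
          have h4 : y * w * y⁻¹ = w⁻¹ := by
            apply conj_injective (x := y)
            show y * (y * w * y⁻¹) * y⁻¹ = y * w⁻¹ * y⁻¹
            rw [h3]
            group
          rw [h4] at hw
          exact inv_mem_iff.mp hw
  obtain ⟨hN, -⟩ := normalizer_facts hodd (x * g * x⁻¹) hg' ht4'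
  refine ⟨?_, ?_, ?_⟩
  · rw [hCP, hn']
  · rw [hCP]
    exact hcyc'
  · rw [hNP, hN, hn']

theorem split_data {F : Type*} [Field F] [Fintype F] (h7 : 7 ≤ Fintype.card F) :
    ∃ g : Matrix.SpecialLinearGroup (Fin 2) F, ¬ IsScalarMat (g : Matrix (Fin 2) (Fin 2) F) ∧
      tr2 g ^ 2 ≠ 4 ∧ IsCyclic (Subgroup.centralizer ({g} : Set (Matrix.SpecialLinearGroup (Fin 2) F))) ∧
      Nat.card (Subgroup.centralizer ({g} : Set (Matrix.SpecialLinearGroup (Fin 2) F))) =
        Fintype.card F - 1 := by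
  obtain ⟨r, hr0, hr4⟩ := Cfsg.Agent.S2508.exists_r (F := F) h7
  have hd01 : ((Cfsg.Agent.S2475.diagHom (Units.mk0 r hr0) : Matrix.SpecialLinearGroup (Fin 2) F) :
      Matrix (Fin 2) (Fin 2) F) 0 1 = 0 := rfl
  have hd10 : ((Cfsg.Agent.S2475.diagHom (Units.mk0 r hr0) : Matrix.SpecialLinearGroup (Fin 2) F) :
      Matrix (Fin 2) (Fin 2) F) 1 0 = 0 := rfl
  have hd00 : ((Cfsg.Agent.S2475.diagHom (Units.mk0 r hr0) : Matrix.SpecialLinearGroup (Fin 2) F) :
      Matrix (Fin 2) (Fin 2) F) 0 0 = r := rfl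
  have hda : ((Cfsg.Agent.S2475.diagHom (Units.mk0 r hr0) : Matrix.SpecialLinearGroup (Fin 2) F) :
      Matrix (Fin 2) (Fin 2) F) 0 0 ^ 2 ≠ 1 := by
    rw [hd00]
    intro h
    apply hr4
    have : r ^ 4 = (r ^ 2) ^ 2 := by ring
    rw [this, h, one_pow]
  have hne := Cfsg.Agent.S2428.diag_ne _ hd01 hda
  refine ⟨Cfsg.Agent.S2475.diagHom (Units.mk0 r hr0), ?_, ?_, ?_, ?_⟩
  · rw [isScalarMat_iff]
    rintro ⟨-, -, h⟩
    exact hne (sub_eq_zero.mpr h)
  · have hdet := (Cfsg.Agent.S2475.diagHom (Units.mk0 r hr0) : Matrix.SpecialLinearGroup (Fin 2) F).det_coe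
    rw [Matrix.det_fin_two, hd01, zero_mul, sub_zero] at hdet
    intro h
    unfold tr2 at h
    have : (((Cfsg.Agent.S2475.diagHom (Units.mk0 r hr0) : Matrix.SpecialLinearGroup (Fin 2) F) :
        Matrix (Fin 2) (Fin 2) F) 0 0 -
        ((Cfsg.Agent.S2475.diagHom (Units.mk0 r hr0) : Matrix.SpecialLinearGroup (Fin 2) F) :
        Matrix (Fin 2) (Fin 2) F) 1 1) ^ 2 = 0 := by
      linear_combination h - 4 * hdet
    exact hne (pow_eq_zero_iff (two_ne_zero) |>.mp this)
  · rw [Cfsg.Agent.S2428.cent_eq_range _ hd01 hd10 hda]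
    exact isCyclic_of_surjective (Cfsg.Agent.S2475.diagHom (F := F)).rangeRestrict
      (MonoidHom.rangeRestrict_surjective _)
  · exact Cfsg.Agent.S2428.card_cent _ hd01 hd10 hda

theorem nonsplit_data {F : Type*} [Field F] [Fintype F] (hodd : Fintype.card F % 2 = 1) :
    ∃ g : Matrix.SpecialLinearGroup (Fin 2) F, ¬ IsScalarMat (g : Matrix (Fin 2) (Fin 2) F) ∧
      tr2 g ^ 2 ≠ 4 ∧ IsCyclic (Subgroup.centralizer ({g} : Set (Matrix.SpecialLinearGroup (Fin 2) F))) ∧
      Nat.card (Subgroup.centralizer ({g} : Set (Matrix.SpecialLinearGroup (Fin 2) F))) =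
        Fintype.card F + 1 := by
  have h2 : (2 : F) ≠ 0 := two_ne_zero_of_odd hodd
  obtain ⟨t, ht⟩ := Cfsg.Agent.S2429.exists_nonsplit_odd (F := F) hodd
  have htr : tr2 (Cfsg.Agent.S2503.g0 t) = t := tr2_comp t
  have ht4 : tr2 (Cfsg.Agent.S2503.g0 t) ^ 2 ≠ 4 := by
    rw [htr]
    exact Cfsg.Agent.S2429.nonsplit_sq_ne h2 t ht
  refine ⟨Cfsg.Agent.S2503.g0 t, comp_not_scalar' t, ht4, Cfsg.Agent.S2503.torus_cyclic t ht, ?_⟩
  have hidx : (Subgroup.centralizer
      ({Cfsg.Agent.S2503.g0 t} : Set (Matrix.SpecialLinearGroup (Fin 2) F))).index =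
      0 * Fintype.card F + Fintype.card F * (Fintype.card F - 1) := by
    rw [index_centralizer_eq_ncard, class_ncard_regular hodd _ ht4, htr,
      Cfsg.Agent.S2508.roots_none t ht]
  exact (Cfsg.Agent.S2475.card_of_index _ 0 hidx).1 rfl

theorem result {F : Type*} [Field F] [Fintype F] (hodd : Odd (Fintype.card F)) (ℓ : ℕ) [Fact ℓ.Prime] (hℓ : ℓ ≠ 2)
    (P : Sylow ℓ (Matrix.SpecialLinearGroup (Fin 2) F)) :
    (ℓ ∣ Fintype.card F - 1 →
      Nat.card (Subgroup.centralizer ((P : Subgroup (Matrix.SpecialLinearGroup (Fin 2) F)) : Set (Matrix.SpecialLinearGroup (Fin 2) F))) = Fintype.card F - 1 ∧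
      IsCyclic (Subgroup.centralizer ((P : Subgroup (Matrix.SpecialLinearGroup (Fin 2) F)) : Set (Matrix.SpecialLinearGroup (Fin 2) F))) ∧
      Nat.card (Subgroup.normalizer ((P : Subgroup (Matrix.SpecialLinearGroup (Fin 2) F)) : Set (Matrix.SpecialLinearGroup (Fin 2) F))) = 2 * (Fintype.card F - 1)) ∧
    (ℓ ∣ Fintype.card F + 1 →
      Nat.card (Subgroup.centralizer ((P : Subgroup (Matrix.SpecialLinearGroup (Fin 2) F)) : Set (Matrix.SpecialLinearGroup (Fin 2) F))) = Fintype.card F + 1 ∧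
      IsCyclic (Subgroup.centralizer ((P : Subgroup (Matrix.SpecialLinearGroup (Fin 2) F)) : Set (Matrix.SpecialLinearGroup (Fin 2) F))) ∧
      Nat.card (Subgroup.normalizer ((P : Subgroup (Matrix.SpecialLinearGroup (Fin 2) F)) : Set (Matrix.SpecialLinearGroup (Fin 2) F))) = 2 * (Fintype.card F + 1)) := by
  have hodd' : Fintype.card F % 2 = 1 := Nat.odd_iff.mp hodd
  have hℓp : ℓ.Prime := Fact.out
  have hq1 : 1 < Fintype.card F := Fintype.one_lt_card
  have hℓ3 : 3 ≤ ℓ := by
    have := hℓp.two_le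
    omega
  have hℓq : ℓ ∣ Fintype.card F - 1 ∨ ℓ ∣ Fintype.card F + 1 → ¬ ℓ ∣ Fintype.card F := by
    intro h hq
    rcases h with h | h
    · have h3 := Nat.dvd_sub hq h
      have h4 : Fintype.card F - (Fintype.card F - 1) = 1 := by omega
      rw [h4] at h3
      have := Nat.le_of_dvd (by norm_num) h3
      omega
    · have h3 := Nat.dvd_sub h hq
      have h4 : Fintype.card F + 1 - Fintype.card F = 1 := by omega
      rw [h4] at h3
      have := Nat.le_of_dvd (by norm_num) h3
      omega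
  have hboth : ℓ ∣ Fintype.card F - 1 → ℓ ∣ Fintype.card F + 1 → False := by
    intro h h'
    have h3 := Nat.dvd_sub h' h
    have h4 : Fintype.card F + 1 - (Fintype.card F - 1) = 2 := by omega
    rw [h4] at h3
    have := Nat.le_of_dvd (by norm_num) h3
    omega
  have hcard := Cfsg.Agent.S2475.card_sl (F := F)
  constructor
  · intro hdvd
    have h7 : 7 ≤ Fintype.card F := by
      obtain ⟨k, hk⟩ := hdvd
      have hℓodd : ℓ % 2 = 1 := by
        rcases hℓp.eq_two_or_odd with h | h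
        · exact absurd h hℓ
        · exact h
      rcases Nat.lt_or_ge k 2 with hk2 | hk2
      · interval_cases k
        · omega
        · omega
      · have : ℓ * 2 ≤ ℓ * k := Nat.mul_le_mul_left ℓ hk2
        omega
    obtain ⟨g, hg, ht4, hcyc, hn⟩ := split_data (F := F) h7
    apply sylow_torus hodd' ℓ hℓ g hg ht4 hcyc _ hn hdvd
    rw [hcard, Nat.factorization_mul (by omega) (Nat.mul_ne_zero (by omega) (by omega)),
      Nat.factorization_mul (by omega) (by omega)]
    simp only [Finsupp.add_apply]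
    rw [Nat.factorization_eq_zero_of_not_dvd (fun h => hboth hdvd h),
      Nat.factorization_eq_zero_of_not_dvd (hℓq (Or.inl hdvd))]
    omega
  · intro hdvd
    obtain ⟨g, hg, ht4, hcyc, hn⟩ := nonsplit_data (F := F) hodd'
    apply sylow_torus hodd' ℓ hℓ g hg ht4 hcyc _ hn hdvd
    rw [hcard, Nat.factorization_mul (by omega) (Nat.mul_ne_zero (by omega) (by omega)),
      Nat.factorization_mul (by omega) (by omega)]
    simp only [Finsupp.add_apply]
    rw [Nat.factorization_eq_zero_of_not_dvd (fun h => hboth h hdvd),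
      Nat.factorization_eq_zero_of_not_dvd (hℓq (Or.inr hdvd))]
    omega

end Cfsg.Agent.S2430
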