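import Cfsg.Statements.S2431
import Cfsg.Agent.S2430

set_option autoImplicit false
open Cfsg

namespace Cfsg.Agent.S2431

open Cfsg.Agent.Lib.Helper14.GL2Conj Cfsg.Agent.Lib.Helper14.SL2Odd Cfsg.Agent.Lib.Helper14.PSL2
open Cfsg.Agent.Lib.Helper14.Torus Cfsg.Agent.Lib.Helper14.ClassSize Cfsg.Agent.Lib.Helper14.SL2Odd2

variable {F : Type*} [Field F]

theorem negOne_coe' : ((negOne : Matrix.SpecialLinearGroup (Fin 2) F) : Matrix (Fin 2) (Fin 2) F) = -1 := by
  rw [negOne_coe]
  ext i j
  fin_cases i <;> fin_cases j <;> simp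

theorem detM (A B : Matrix (Fin 2) (Fin 2) F) (hdA : A.det = 1) (hdB : B.det = 1)
    (hA : A * A = -1) (hB : B * B = -1) (hBA : B * A = -(A * B)) :
    (-1 + A + B + A * B).det = 4 := by
  have a00 := congrFun (congrFun hA 0) 0
  have a01 := congrFun (congrFun hA 0) 1
  have a10 := congrFun (congrFun hA 1) 0
  have a11 := congrFun (congrFun hA 1) 1
  have b00 := congrFun (congrFun hB 0) 0
  have b01 := congrFun (congrFun hB 0) 1
  have b10 := congrFun (congrFun hB 1) 0
  have b11 := congrFun (congrFun hB 1) 1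
  have c00 := congrFun (congrFun hBA 0) 0
  have c01 := congrFun (congrFun hBA 0) 1
  have c10 := congrFun (congrFun hBA 1) 0
  have c11 := congrFun (congrFun hBA 1) 1
  rw [Matrix.det_fin_two] at hdA hdB ⊢
  simp [Matrix.mul_apply, Fin.sum_univ_two] at a00 a01 a10 a11 b00 b01 b10 b11 c00 c01 c10 c11 ⊢
  grind

theorem relM (A B : Matrix (Fin 2) (Fin 2) F)
    (hA : A * A = -1) (hB : B * B = -1) (hBA : B * A = -(A * B)) :
    (-1 + A + B + A * B) * A = A * B * (-1 + A + B + A * B) ∧
    (-1 + A + B + A * B) * B = A * (-1 + A + B + A * B) := by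
  have e1 : A * B * A = B := by
    rw [mul_assoc, hBA, mul_neg, ← mul_assoc, hA]
    simp
  have e2 : A * B * B = -A := by
    rw [mul_assoc, hB]
    simp
  have e3 : A * (A * B) = -B := by
    rw [← mul_assoc, hA]
    simp
  have e4 : A * B * (A * B) = -1 := by
    rw [← mul_assoc, e1, hB]
  constructor
  · simp only [add_mul, mul_add, neg_mul, mul_neg, one_mul, mul_one]
    rw [hA, hBA, e1, e2, e4]
    abel
  · simp only [add_mul, mul_add, neg_mul, mul_neg, one_mul, mul_one]
    rw [hA, hB, e2, e3]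
    abel

theorem exists_u (h2 : (2 : F) ≠ 0) (I J : Matrix.SpecialLinearGroup (Fin 2) F)
    (hI : I * I = negOne) (hJ : J * J = negOne) (hJI : J * I = negOne * (I * J)) :
    ∃ u : Matrix.SpecialLinearGroup (Fin 2) F, u * I = I * J * u ∧ u * J = I * u := by
  have hA : (I : Matrix (Fin 2) (Fin 2) F) * (I : Matrix (Fin 2) (Fin 2) F) = -1 := by
    rw [← Matrix.SpecialLinearGroup.coe_mul, hI, negOne_coe']
  have hB : (J : Matrix (Fin 2) (Fin 2) F) * (J : Matrix (Fin 2) (Fin 2) F) = -1 := by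
    rw [← Matrix.SpecialLinearGroup.coe_mul, hJ, negOne_coe']
  have hBA : (J : Matrix (Fin 2) (Fin 2) F) * (I : Matrix (Fin 2) (Fin 2) F) =
      -((I : Matrix (Fin 2) (Fin 2) F) * (J : Matrix (Fin 2) (Fin 2) F)) := by
    rw [← Matrix.SpecialLinearGroup.coe_mul, hJI, Matrix.SpecialLinearGroup.coe_mul, negOne_coe',
      Matrix.SpecialLinearGroup.coe_mul, neg_mul, one_mul]
  have hdet : ((2 : F)⁻¹ • (-1 + (I : Matrix (Fin 2) (Fin 2) F) + (J : Matrix (Fin 2) (Fin 2) F) +
      (I : Matrix (Fin 2) (Fin 2) F) * (J : Matrix (Fin 2) (Fin 2) F))).det = 1 := by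
    rw [Matrix.det_smul, detM _ _ I.det_coe J.det_coe hA hB hBA]
    simp
    field_simp
    norm_num
  obtain ⟨r1, r2⟩ := relM _ _ hA hB hBA
  obtain ⟨u, hu⟩ : ∃ u : Matrix.SpecialLinearGroup (Fin 2) F, (u : Matrix (Fin 2) (Fin 2) F) =
      (2 : F)⁻¹ • (-1 + (I : Matrix (Fin 2) (Fin 2) F) + (J : Matrix (Fin 2) (Fin 2) F) +
      (I : Matrix (Fin 2) (Fin 2) F) * (J : Matrix (Fin 2) (Fin 2) F)) := ⟨⟨_, hdet⟩, rfl⟩
  refine ⟨u, ?_, ?_⟩
  · apply Subtype.ext
    rw [Matrix.SpecialLinearGroup.coe_mul, Matrix.SpecialLinearGroup.coe_mul,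
      Matrix.SpecialLinearGroup.coe_mul, hu, Matrix.smul_mul, Matrix.mul_smul, r1]
  · apply Subtype.ext
    rw [Matrix.SpecialLinearGroup.coe_mul, Matrix.SpecialLinearGroup.coe_mul, hu, Matrix.smul_mul,
      Matrix.mul_smul, r2]

theorem exists_torus_normalizer [Fintype F] (hodd : Fintype.card F % 2 = 1)
    (g : Matrix.SpecialLinearGroup (Fin 2) F)
    (hg : ¬ IsScalarMat (g : Matrix (Fin 2) (Fin 2) F)) (ht4 : tr2 g ^ 2 ≠ 4)
    (hcyc : IsCyclic (Subgroup.centralizer ({g} : Set (Matrix.SpecialLinearGroup (Fin 2) F))))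
    (n : ℕ) (hn : Nat.card (Subgroup.centralizer ({g} : Set (Matrix.SpecialLinearGroup (Fin 2) F))) = n)
    (hpart : (Nat.card (Matrix.SpecialLinearGroup (Fin 2) F)).factorization 2 = n.factorization 2 + 1)
    (S : Sylow 2 (Matrix.SpecialLinearGroup (Fin 2) F)) :
    ∃ g' : Matrix.SpecialLinearGroup (Fin 2) F, ¬ IsScalarMat (g' : Matrix (Fin 2) (Fin 2) F) ∧
      tr2 g' ^ 2 ≠ 4 ∧
      IsCyclic (Subgroup.centralizer ({g'} : Set (Matrix.SpecialLinearGroup (Fin 2) F))) ∧
      Nat.card (Subgroup.centralizer ({g'} : Set (Matrix.SpecialLinearGroup (Fin 2) F))) = n ∧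
      (S : Subgroup (Matrix.SpecialLinearGroup (Fin 2) F)) ≤
        Subgroup.normalizer ((Subgroup.centralizer ({g'} : Set (Matrix.SpecialLinearGroup (Fin 2) F))) :
          Set (Matrix.SpecialLinearGroup (Fin 2) F)) := by
  have h2 : (2 : F) ≠ 0 := two_ne_zero_of_odd hodd
  have hn0 : n ≠ 0 := by
    rw [← hn]
    exact Nat.card_pos.ne'
  obtain ⟨hN, -⟩ := normalizer_facts hodd g hg ht4
  rw [hn] at hN
  obtain ⟨S₁⟩ : Nonempty (Sylow 2 (Subgroup.normalizer
      ((Subgroup.centralizer ({g} : Set (Matrix.SpecialLinearGroup (Fin 2) F))) :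
        Set (Matrix.SpecialLinearGroup (Fin 2) F)))) := inferInstance
  have hS₁ := S₁.card_eq_multiplicity
  have hfac : (2 * n).factorization 2 = n.factorization 2 + 1 := by
    rw [Nat.factorization_mul (by norm_num) hn0, Finsupp.add_apply, Nat.prime_two.factorization_self]
    omega
  rw [hN, hfac, ← hpart] at hS₁
  have hQcard : Nat.card ((S₁ : Subgroup _).map
      (Subgroup.normalizer ((Subgroup.centralizer ({g} : Set (Matrix.SpecialLinearGroup (Fin 2) F))) :
        Set (Matrix.SpecialLinearGroup (Fin 2) F))).subtype) =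
      2 ^ (Nat.card (Matrix.SpecialLinearGroup (Fin 2) F)).factorization 2 := by
    rw [Subgroup.card_map_of_injective (Subgroup.subtype_injective _)]
    exact hS₁
  obtain ⟨x, hx⟩ := MulAction.exists_smul_eq (Matrix.SpecialLinearGroup (Fin 2) F)
    (Sylow.ofCard _ hQcard) S
  have hg' : ¬ IsScalarMat ((x * g * x⁻¹ : Matrix.SpecialLinearGroup (Fin 2) F) :
      Matrix (Fin 2) (Fin 2) F) := by
    intro hs
    apply hg
    have hc : IsConj (x * g * x⁻¹) g := by
      rw [isConj_iff]
      exact ⟨x⁻¹, by group⟩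
    have := scalar_of_isConj hc hs
    rw [this]
    exact hs
  have ht4' : tr2 (x * g * x⁻¹) ^ 2 ≠ 4 := by
    rw [tr2_conj]
    exact ht4
  have hn' : Nat.card (Subgroup.centralizer
      ({x * g * x⁻¹} : Set (Matrix.SpecialLinearGroup (Fin 2) F))) = n := by
    rw [← Cfsg.Agent.S2430.cent_conj_map, Subgroup.card_map_of_injective (MulAut.conj x).injective]
    exact hn
  have hcyc' : IsCyclic (Subgroup.centralizer
      ({x * g * x⁻¹} : Set (Matrix.SpecialLinearGroup (Fin 2) F))) := by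
    rw [← Cfsg.Agent.S2430.cent_conj_map]
    exact isCyclic_of_surjective ((MulAut.conj x).toMonoidHom.subgroupMap _)
      (MonoidHom.subgroupMap_surjective _ _)
  refine ⟨x * g * x⁻¹, hg', ht4', hcyc', hn', ?_⟩
  intro y hy
  have hy' : y ∈ ((x • (Sylow.ofCard _ hQcard : Sylow 2 (Matrix.SpecialLinearGroup (Fin 2) F)) :
      Sylow 2 (Matrix.SpecialLinearGroup (Fin 2) F)) :
      Subgroup (Matrix.SpecialLinearGroup (Fin 2) F)) := by
    rw [hx]
    exact hy
  rw [Sylow.coe_subgroup_smul, Subgroup.mem_pointwise_smul_iff_inv_smul_mem, Sylow.coe_ofCard,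
    Subgroup.mem_map] at hy'
  obtain ⟨z, -, hz⟩ := hy'
  have hz' : (z : Matrix.SpecialLinearGroup (Fin 2) F) = x⁻¹ * y * x := by
    have h3 : (MulAut.conj x)⁻¹ • y = x⁻¹ * y * x := by
      rw [← map_inv, MulAut.smul_def, MulAut.conj_apply, inv_inv]
    rw [← h3]
    exact hz
  have hy2 : y = x * (z : Matrix.SpecialLinearGroup (Fin 2) F) * x⁻¹ := by
    rw [hz']
    group
  rcases normalizer_dichotomy h2 g z hg ht4 z.2 with h | h
  · apply Subgroup.le_normalizer
    rw [← Cfsg.Agent.S2430.cent_conj_map, Subgroup.mem_map]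
    exact ⟨z, h, hy2.symm⟩
  · apply inverter_mem_normalizer
    rw [hy2]
    calc x * (z : Matrix.SpecialLinearGroup (Fin 2) F) * x⁻¹ * (x * g * x⁻¹) *
          (x * (z : Matrix.SpecialLinearGroup (Fin 2) F) * x⁻¹)⁻¹ =
          x * ((z : Matrix.SpecialLinearGroup (Fin 2) F) * g *
            (z : Matrix.SpecialLinearGroup (Fin 2) F)⁻¹) * x⁻¹ := by group
      _ = x * g⁻¹ * x⁻¹ := by rw [h]
      _ = (x * g * x⁻¹)⁻¹ := by group

theorem inv_conj_of_inverts {G : Type*} [Group G] {w g : G} (hw : w * g * w⁻¹ = g⁻¹) :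
    w⁻¹ * g * w = g⁻¹ := by
  have h1 : g = w⁻¹ * g⁻¹ * w := by
    rw [← hw]
    group
  have h2 : g⁻¹ = (w⁻¹ * g⁻¹ * w)⁻¹ := by rw [← h1]
  rw [h2]
  group

theorem mul_inv_mem_cent {G : Type*} [Group G] {s w g : G} (hs : s * g * s⁻¹ = g⁻¹)
    (hw : w * g * w⁻¹ = g⁻¹) : s * w⁻¹ ∈ Subgroup.centralizer ({g} : Set G) := by
  rw [Subgroup.mem_centralizer_iff]
  intro h hh
  rw [Set.mem_singleton_iff] at hh
  rw [hh]
  have h1 := inv_conj_of_inverts hw
  have h2 : s * g⁻¹ * s⁻¹ = g := by
    have h3 : s * g⁻¹ * s⁻¹ = (s * g * s⁻¹)⁻¹ := by group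
    rw [h3, hs, inv_inv]
  calc g * (s * w⁻¹) = (s * g⁻¹ * s⁻¹) * (s * w⁻¹) := by rw [h2]
    _ = s * (w⁻¹ * g * w)  * w⁻¹ := by rw [h1]; group
    _ = s * w⁻¹ * g := by group

theorem sylow2_pre [Fintype F] (hodd : Fintype.card F % 2 = 1)
    (g : Matrix.SpecialLinearGroup (Fin 2) F)
    (hg : ¬ IsScalarMat (g : Matrix (Fin 2) (Fin 2) F)) (ht4 : tr2 g ^ 2 ≠ 4)
    (n : ℕ) (hn : Nat.card (Subgroup.centralizer ({g} : Set (Matrix.SpecialLinearGroup (Fin 2) F))) = n)
    (hpart : (Nat.card (Matrix.SpecialLinearGroup (Fin 2) F)).factorization 2 = n.factorization 2 + 1)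
    (S : Sylow 2 (Matrix.SpecialLinearGroup (Fin 2) F))
    (hSN : (S : Subgroup (Matrix.SpecialLinearGroup (Fin 2) F)) ≤
        Subgroup.normalizer ((Subgroup.centralizer ({g} : Set (Matrix.SpecialLinearGroup (Fin 2) F))) :
          Set (Matrix.SpecialLinearGroup (Fin 2) F))) :
    ∃ w ∈ (S : Subgroup (Matrix.SpecialLinearGroup (Fin 2) F)), w * g * w⁻¹ = g⁻¹ ∧
      w ∉ Subgroup.centralizer ({g} : Set (Matrix.SpecialLinearGroup (Fin 2) F)) ∧
      (∀ s ∈ (S : Subgroup (Matrix.SpecialLinearGroup (Fin 2) F)),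
        s ∈ Subgroup.centralizer ({g} : Set (Matrix.SpecialLinearGroup (Fin 2) F)) ∨
        s * w⁻¹ ∈ Subgroup.centralizer ({g} : Set (Matrix.SpecialLinearGroup (Fin 2) F))) ∧
      2 ^ (n.factorization 2 + 1) ≤ 2 * Nat.card (((S : Subgroup (Matrix.SpecialLinearGroup (Fin 2) F)) ⊓
        Subgroup.centralizer ({g} : Set (Matrix.SpecialLinearGroup (Fin 2) F)) :
          Subgroup (Matrix.SpecialLinearGroup (Fin 2) F))) ∧
      (∀ x, x ∈ Subgroup.centralizer ({g} : Set (Matrix.SpecialLinearGroup (Fin 2) F)) →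
        x ∈ Subgroup.normalizer ((S : Subgroup (Matrix.SpecialLinearGroup (Fin 2) F)) :
          Set (Matrix.SpecialLinearGroup (Fin 2) F)) →
        x ∈ (S : Subgroup (Matrix.SpecialLinearGroup (Fin 2) F))) := by
  have h2 : (2 : F) ≠ 0 := two_ne_zero_of_odd hodd
  have hn0 : n ≠ 0 := by
    rw [← hn]
    exact Nat.card_pos.ne'
  have hScard : Nat.card (S : Subgroup (Matrix.SpecialLinearGroup (Fin 2) F)) =
      2 ^ (n.factorization 2 + 1) := by
    rw [← hpart]
    exact S.card_eq_multiplicity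
  obtain ⟨w, hwS, hwT⟩ : ∃ w ∈ (S : Subgroup (Matrix.SpecialLinearGroup (Fin 2) F)),
      w ∉ Subgroup.centralizer ({g} : Set (Matrix.SpecialLinearGroup (Fin 2) F)) := by
    by_contra hcon
    push Not at hcon
    have hle : (S : Subgroup (Matrix.SpecialLinearGroup (Fin 2) F)) ≤
        Subgroup.centralizer ({g} : Set (Matrix.SpecialLinearGroup (Fin 2) F)) := hcon
    have hdvd := Subgroup.card_dvd_of_le hle
    rw [hScard, hn] at hdvd
    exact Nat.pow_succ_factorization_not_dvd hn0 Nat.prime_two hdvd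
  have hwinv : w * g * w⁻¹ = g⁻¹ := by
    rcases normalizer_dichotomy h2 g w hg ht4 (hSN hwS) with h | h
    · exact absurd h hwT
    · exact h
  have hdich : ∀ s ∈ (S : Subgroup (Matrix.SpecialLinearGroup (Fin 2) F)),
        s ∈ Subgroup.centralizer ({g} : Set (Matrix.SpecialLinearGroup (Fin 2) F)) ∨
        s * w⁻¹ ∈ Subgroup.centralizer ({g} : Set (Matrix.SpecialLinearGroup (Fin 2) F)) := by
    intro s hs
    rcases normalizer_dichotomy h2 g s hg ht4 (hSN hs) with h | h
    · exact Or.inl h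
    · exact Or.inr (mul_inv_mem_cent h hwinv)
  refine ⟨w, hwS, hwinv, hwT, hdich, ?_, ?_⟩
  · rw [← hScard]
    have hsub : ((S : Subgroup (Matrix.SpecialLinearGroup (Fin 2) F)) :
        Set (Matrix.SpecialLinearGroup (Fin 2) F)) ⊆
        ((((S : Subgroup (Matrix.SpecialLinearGroup (Fin 2) F)) ⊓
          Subgroup.centralizer ({g} : Set (Matrix.SpecialLinearGroup (Fin 2) F)) :
          Subgroup (Matrix.SpecialLinearGroup (Fin 2) F)) : Set (Matrix.SpecialLinearGroup (Fin 2) F)) ∪
        (fun y => y * w) '' (((S : Subgroup (Matrix.SpecialLinearGroup (Fin 2) F)) ⊓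
          Subgroup.centralizer ({g} : Set (Matrix.SpecialLinearGroup (Fin 2) F)) :
          Subgroup (Matrix.SpecialLinearGroup (Fin 2) F)) : Set (Matrix.SpecialLinearGroup (Fin 2) F))) := by
      intro s hs
      rcases hdich s hs with h | h
      · left
        exact ⟨hs, h⟩
      · right
        have hs' : s ∈ (S : Subgroup (Matrix.SpecialLinearGroup (Fin 2) F)) := hs
        have hsw : s * w⁻¹ ∈ (S : Subgroup (Matrix.SpecialLinearGroup (Fin 2) F)) :=
          Subgroup.mul_mem _ hs' (Subgroup.inv_mem _ hwS)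
        refine ⟨s * w⁻¹, ⟨hsw, h⟩, ?_⟩
        show s * w⁻¹ * w = s
        group
    have h3 := Set.ncard_le_ncard hsub (Set.toFinite _)
    have h4 := Set.ncard_union_le
      ((((S : Subgroup (Matrix.SpecialLinearGroup (Fin 2) F)) ⊓
          Subgroup.centralizer ({g} : Set (Matrix.SpecialLinearGroup (Fin 2) F)) :
          Subgroup (Matrix.SpecialLinearGroup (Fin 2) F)) : Set (Matrix.SpecialLinearGroup (Fin 2) F)))
      ((fun y => y * w) '' (((S : Subgroup (Matrix.SpecialLinearGroup (Fin 2) F)) ⊓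
          Subgroup.centralizer ({g} : Set (Matrix.SpecialLinearGroup (Fin 2) F)) :
          Subgroup (Matrix.SpecialLinearGroup (Fin 2) F)) : Set (Matrix.SpecialLinearGroup (Fin 2) F)))
    have h5 := Set.ncard_image_le (f := fun y => y * w) (s := (((S : Subgroup (Matrix.SpecialLinearGroup (Fin 2) F)) ⊓
          Subgroup.centralizer ({g} : Set (Matrix.SpecialLinearGroup (Fin 2) F)) :
          Subgroup (Matrix.SpecialLinearGroup (Fin 2) F)) : Set (Matrix.SpecialLinearGroup (Fin 2) F)))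
      (Set.toFinite _)
    have e1 : Nat.card (S : Subgroup (Matrix.SpecialLinearGroup (Fin 2) F)) =
        ((S : Subgroup (Matrix.SpecialLinearGroup (Fin 2) F)) :
          Set (Matrix.SpecialLinearGroup (Fin 2) F)).ncard := Nat.card_coe_set_eq _
    have e2 : Nat.card (((S : Subgroup (Matrix.SpecialLinearGroup (Fin 2) F)) ⊓
          Subgroup.centralizer ({g} : Set (Matrix.SpecialLinearGroup (Fin 2) F)) :
          Subgroup (Matrix.SpecialLinearGroup (Fin 2) F))) =
        ((((S : Subgroup (Matrix.SpecialLinearGroup (Fin 2) F)) ⊓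
          Subgroup.centralizer ({g} : Set (Matrix.SpecialLinearGroup (Fin 2) F)) :
          Subgroup (Matrix.SpecialLinearGroup (Fin 2) F)) :
          Set (Matrix.SpecialLinearGroup (Fin 2) F))).ncard := Nat.card_coe_set_eq _
    rw [e1, e2]
    omega
  · intro x hxT hxN
    have h3 := inverts g w x hg hwinv hxT
    have h4 : x * w * x⁻¹ ∈ (S : Subgroup (Matrix.SpecialLinearGroup (Fin 2) F)) :=
      (Subgroup.mem_normalizer_iff.mp hxN w).mp hwS
    have h5 : x * x ∈ (S : Subgroup (Matrix.SpecialLinearGroup (Fin 2) F)) := by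
      have h6 : x * x = (x * w * x⁻¹) * w⁻¹ := by
        have h7 : w * x⁻¹ * w⁻¹ = x := by
          have h9 : w * x⁻¹ * w⁻¹ = (w * x * w⁻¹)⁻¹ := by group
          rw [h9, h3, inv_inv]
        calc x * x = x * (w * x⁻¹ * w⁻¹) := by rw [h7]
          _ = x * w * x⁻¹ * w⁻¹ := by group
      rw [h6]
      exact mul_mem h4 (inv_mem hwS)
    have hxpow : x ^ (2 ^ (n.factorization 2 + 2)) = 1 := by
      have h6 := orderOf_dvd_natCard (⟨x * x, h5⟩ : (S : Subgroup (Matrix.SpecialLinearGroup (Fin 2) F)))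
      rw [Subgroup.orderOf_mk, hScard] at h6
      have h7 := orderOf_dvd_iff_pow_eq_one.mp h6
      rw [← pow_two, ← pow_mul] at h7
      rw [← h7]
      congr 1
      ring
    have hP : IsPGroup 2 (Subgroup.zpowers x) := by
      obtain ⟨k, -, hk⟩ := (Nat.dvd_prime_pow Nat.prime_two).mp (orderOf_dvd_of_pow_eq_one hxpow)
      apply IsPGroup.of_card (n := k)
      rw [Nat.card_zpowers, hk]
    have h8 := hP.inf_normalizer_sylow S
    have hx1 : x ∈ Subgroup.zpowers x ⊓ Subgroup.normalizer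
        ((S : Subgroup (Matrix.SpecialLinearGroup (Fin 2) F)) :
          Set (Matrix.SpecialLinearGroup (Fin 2) F)) := ⟨Subgroup.mem_zpowers x, hxN⟩
    exact (h8.le hx1).2

theorem pow_four_eq {G : Type*} [Monoid G] (y : G) : y ^ 4 = (y * y) * (y * y) := by
  rw [show (4 : ℕ) = 2 * 2 from rfl, pow_mul, pow_two, pow_two]

theorem exists_nonscalar_of_card [Fintype F] (h2 : (2 : F) ≠ 0)
    (Q : Subgroup (Matrix.SpecialLinearGroup (Fin 2) F)) (hQ : 2 < Nat.card Q) :
    ∃ c ∈ Q, ¬ IsScalarMat (c : Matrix (Fin 2) (Fin 2) F) := by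
  by_contra hcon
  push Not at hcon
  have hsub : (Q : Set (Matrix.SpecialLinearGroup (Fin 2) F)) ⊆
      ({1, negOne} : Set (Matrix.SpecialLinearGroup (Fin 2) F)) := by
    intro c hc
    rcases scalar_cases c (hcon c hc) with h | h
    · left
      exact h
    · right
      exact h
  have h3 := Set.ncard_le_ncard hsub (Set.toFinite _)
  have h4 : ({1, negOne} : Set (Matrix.SpecialLinearGroup (Fin 2) F)).ncard = 2 :=
    Set.ncard_pair (negOne_ne_one h2).symm
  have e1 : Nat.card Q = (Q : Set (Matrix.SpecialLinearGroup (Fin 2) F)).ncard := Nat.card_coe_set_eq _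
  omega

theorem exists_pow_four_ne {G : Type*} [Group G] [Finite G] (T Q : Subgroup G) (hT : IsCyclic T)
    (hQT : Q ≤ T) (hQ : 4 < Nat.card Q) : ∃ d ∈ Q, d ^ 4 ≠ 1 := by
  classical
  by_contra hcon
  push Not at hcon
  have : Fintype T := Fintype.ofFinite _
  have h1 : Nat.card {a : T // a ^ 4 = 1} ≤ 4 := by
    rw [Nat.card_eq_fintype_card, Fintype.card_subtype]
    exact IsCyclic.card_pow_eq_one_le (by norm_num)
  have h2 : Nat.card Q ≤ Nat.card {a : T // a ^ 4 = 1} := by
    apply Nat.card_le_card_of_injective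
      (fun d : Q => (⟨⟨d.1, hQT d.2⟩, Subtype.ext (hcon d.1 d.2)⟩ : {a : T // a ^ 4 = 1}))
    intro d d' h
    have h3 := congrArg (fun a : {a : T // a ^ 4 = 1} => (a.1.1 : G)) h
    exact Subtype.ext h3
  omega

theorem negOne_mem_center' : (negOne : Matrix.SpecialLinearGroup (Fin 2) F) ∈
    Subgroup.center (Matrix.SpecialLinearGroup (Fin 2) F) := by
  rw [Subgroup.mem_center_iff]
  intro W
  exact (negOne_central W).symm

theorem sylow2_cent [Fintype F] (hodd : Fintype.card F % 2 = 1)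
    (g : Matrix.SpecialLinearGroup (Fin 2) F)
    (hg : ¬ IsScalarMat (g : Matrix (Fin 2) (Fin 2) F)) (ht4 : tr2 g ^ 2 ≠ 4)
    (n : ℕ) (hn : Nat.card (Subgroup.centralizer ({g} : Set (Matrix.SpecialLinearGroup (Fin 2) F))) = n)
    (h4 : 4 ∣ n)
    (hpart : (Nat.card (Matrix.SpecialLinearGroup (Fin 2) F)).factorization 2 = n.factorization 2 + 1)
    (S : Sylow 2 (Matrix.SpecialLinearGroup (Fin 2) F))
    (hSN : (S : Subgroup (Matrix.SpecialLinearGroup (Fin 2) F)) ≤
        Subgroup.normalizer ((Subgroup.centralizer ({g} : Set (Matrix.SpecialLinearGroup (Fin 2) F))) :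
          Set (Matrix.SpecialLinearGroup (Fin 2) F))) :
    Subgroup.centralizer ((S : Subgroup (Matrix.SpecialLinearGroup (Fin 2) F)) :
      Set (Matrix.SpecialLinearGroup (Fin 2) F)) =
      Subgroup.center (Matrix.SpecialLinearGroup (Fin 2) F) := by
  have h2 : (2 : F) ≠ 0 := two_ne_zero_of_odd hodd
  have hn0 : n ≠ 0 := by
    rw [← hn]
    exact Nat.card_pos.ne'
  obtain ⟨w, hwS, hwinv, hwT, hdich, hQ, hTN⟩ := sylow2_pre hodd g hg ht4 n hn hpart S hSN
  have ha2 : 2 ≤ n.factorization 2 :=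
    (Nat.prime_two.pow_dvd_iff_le_factorization hn0).mp (by norm_num; exact h4)
  have hpow : 2 ^ 3 ≤ 2 ^ (n.factorization 2 + 1) := Nat.pow_le_pow_right (by norm_num) (by omega)
  obtain ⟨c, hc, hcs⟩ := exists_nonscalar_of_card h2 _ (by omega :
    2 < Nat.card (((S : Subgroup (Matrix.SpecialLinearGroup (Fin 2) F)) ⊓
        Subgroup.centralizer ({g} : Set (Matrix.SpecialLinearGroup (Fin 2) F)) :
          Subgroup (Matrix.SpecialLinearGroup (Fin 2) F))))
  apply le_antisymm
  · intro y hy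
    have hyT : y ∈ Subgroup.centralizer ({g} : Set (Matrix.SpecialLinearGroup (Fin 2) F)) := by
      rw [← cent_eq_of_mem g c hg hc.2 hcs, mem_cent_iff]
      exact hy c hc.1
    have h3 := inverts g w y hg hwinv hyT
    have h5 : w * y = y * w := hy w hwS
    have h6 : y * y = 1 := by
      have h7 : y⁻¹ = y := by
        rw [← h3, h5]
        group
      calc y * y = y * y⁻¹ := by rw [h7]
        _ = 1 := mul_inv_cancel y
    rcases (sq_iff h2 y).mp h6 with h | h
    · rw [h]
      exact one_mem _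
    · rw [h]
      exact negOne_mem_center'
  · exact Subgroup.center_le_centralizer _

theorem sylow2_norm_eq [Fintype F] (hodd : Fintype.card F % 2 = 1)
    (g : Matrix.SpecialLinearGroup (Fin 2) F)
    (hg : ¬ IsScalarMat (g : Matrix (Fin 2) (Fin 2) F)) (ht4 : tr2 g ^ 2 ≠ 4)
    (hcyc : IsCyclic (Subgroup.centralizer ({g} : Set (Matrix.SpecialLinearGroup (Fin 2) F))))
    (n : ℕ) (hn : Nat.card (Subgroup.centralizer ({g} : Set (Matrix.SpecialLinearGroup (Fin 2) F))) = n)
    (h8 : 8 ∣ n)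
    (hpart : (Nat.card (Matrix.SpecialLinearGroup (Fin 2) F)).factorization 2 = n.factorization 2 + 1)
    (S : Sylow 2 (Matrix.SpecialLinearGroup (Fin 2) F))
    (hSN : (S : Subgroup (Matrix.SpecialLinearGroup (Fin 2) F)) ≤
        Subgroup.normalizer ((Subgroup.centralizer ({g} : Set (Matrix.SpecialLinearGroup (Fin 2) F))) :
          Set (Matrix.SpecialLinearGroup (Fin 2) F))) :
    Subgroup.normalizer ((S : Subgroup (Matrix.SpecialLinearGroup (Fin 2) F)) :
      Set (Matrix.SpecialLinearGroup (Fin 2) F)) = (S : Subgroup (Matrix.SpecialLinearGroup (Fin 2) F)) := by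
  have h2 : (2 : F) ≠ 0 := two_ne_zero_of_odd hodd
  have hn0 : n ≠ 0 := by
    rw [← hn]
    exact Nat.card_pos.ne'
  obtain ⟨w, hwS, hwinv, hwT, hdich, hQ, hTN⟩ := sylow2_pre hodd g hg ht4 n hn hpart S hSN
  have ha3 : 3 ≤ n.factorization 2 :=
    (Nat.prime_two.pow_dvd_iff_le_factorization hn0).mp (by norm_num; exact h8)
  have hpow : 2 ^ 4 ≤ 2 ^ (n.factorization 2 + 1) := Nat.pow_le_pow_right (by norm_num) (by omega)
  obtain ⟨d, hd, hd4⟩ := exists_pow_four_ne
    (Subgroup.centralizer ({g} : Set (Matrix.SpecialLinearGroup (Fin 2) F)))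
    (((S : Subgroup (Matrix.SpecialLinearGroup (Fin 2) F)) ⊓
        Subgroup.centralizer ({g} : Set (Matrix.SpecialLinearGroup (Fin 2) F)) :
          Subgroup (Matrix.SpecialLinearGroup (Fin 2) F))) hcyc inf_le_right (by omega)
  have hscal4 : ∀ y : Matrix.SpecialLinearGroup (Fin 2) F,
      IsScalarMat (y : Matrix (Fin 2) (Fin 2) F) → y ^ 4 = 1 := by
    intro y hy
    rcases scalar_cases y hy with h | h
    · rw [h, one_pow]
    · rw [h]
      rw [pow_four_eq, negOne_mul_self, one_mul]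
  apply le_antisymm
  · intro x hxN
    have h3 : x * d * x⁻¹ ∈ (S : Subgroup (Matrix.SpecialLinearGroup (Fin 2) F)) :=
      (Subgroup.mem_normalizer_iff.mp hxN d).mp hd.1
    have h4 : (x * d * x⁻¹) ^ 4 ≠ 1 := by
      rw [conj_pow]
      intro h
      apply hd4
      have : d ^ 4 = x⁻¹ * (x * d ^ 4 * x⁻¹) * x := by group
      rw [this, h]
      group
    have h5 : x * d * x⁻¹ ∈ Subgroup.centralizer ({g} : Set (Matrix.SpecialLinearGroup (Fin 2) F)) := by
      rcases normalizer_dichotomy h2 g _ hg ht4 (hSN h3) with h | h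
      · exact h
      · exfalso
        apply h4
        have h6 := sq_of_inverts g _ hg h
        rw [pow_four_eq, h6, negOne_mul_self]
    have hds : ¬ IsScalarMat (d : Matrix (Fin 2) (Fin 2) F) := fun hs => hd4 (hscal4 d hs)
    have hds' : ¬ IsScalarMat ((x * d * x⁻¹ : Matrix.SpecialLinearGroup (Fin 2) F) :
        Matrix (Fin 2) (Fin 2) F) := fun hs => h4 (hscal4 _ hs)
    have e1 := cent_eq_of_mem g d hg hd.2 hds
    have e2 := cent_eq_of_mem g (x * d * x⁻¹) hg h5 hds'
    have e3 := Cfsg.Agent.S2430.cent_conj_map x d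
    rw [e1, e2] at e3
    have hxNT : x ∈ Subgroup.normalizer
        ((Subgroup.centralizer ({g} : Set (Matrix.SpecialLinearGroup (Fin 2) F))) :
          Set (Matrix.SpecialLinearGroup (Fin 2) F)) :=
      Subgroup.mem_normalizer_iff_map_conj_eq.mpr e3
    rcases normalizer_dichotomy h2 g x hg ht4 hxNT with h | h
    · exact hTN x h hxN
    · have h6 := mul_inv_mem_cent h hwinv
      have h7 : x * w⁻¹ ∈ Subgroup.normalizer ((S : Subgroup (Matrix.SpecialLinearGroup (Fin 2) F)) :
          Set (Matrix.SpecialLinearGroup (Fin 2) F)) :=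
        Subgroup.mul_mem _ hxN (Subgroup.inv_mem _ (Subgroup.le_normalizer hwS))
      have h8 := hTN _ h6 h7
      have h9 : x = (x * w⁻¹) * w := by group
      rw [h9]
      exact Subgroup.mul_mem _ h8 hwS
  · exact Subgroup.le_normalizer

theorem sylow2_norm_card [Fintype F] (hodd : Fintype.card F % 2 = 1)
    (g : Matrix.SpecialLinearGroup (Fin 2) F)
    (hg : ¬ IsScalarMat (g : Matrix (Fin 2) (Fin 2) F)) (ht4 : tr2 g ^ 2 ≠ 4)
    (n : ℕ) (hn : Nat.card (Subgroup.centralizer ({g} : Set (Matrix.SpecialLinearGroup (Fin 2) F))) = n)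
    (h4 : 4 ∣ n) (h8 : ¬ 8 ∣ n)
    (hpart : (Nat.card (Matrix.SpecialLinearGroup (Fin 2) F)).factorization 2 = n.factorization 2 + 1)
    (S : Sylow 2 (Matrix.SpecialLinearGroup (Fin 2) F))
    (hSN : (S : Subgroup (Matrix.SpecialLinearGroup (Fin 2) F)) ≤
        Subgroup.normalizer ((Subgroup.centralizer ({g} : Set (Matrix.SpecialLinearGroup (Fin 2) F))) :
          Set (Matrix.SpecialLinearGroup (Fin 2) F))) :
    Nat.card (Subgroup.normalizer ((S : Subgroup (Matrix.SpecialLinearGroup (Fin 2) F)) :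
      Set (Matrix.SpecialLinearGroup (Fin 2) F))) =
      3 * Nat.card (S : Subgroup (Matrix.SpecialLinearGroup (Fin 2) F)) := by
  have h2 : (2 : F) ≠ 0 := two_ne_zero_of_odd hodd
  have hn0 : n ≠ 0 := by
    rw [← hn]
    exact Nat.card_pos.ne'
  obtain ⟨w, hwS, hwinv, hwT, hdich, hQ, hTN⟩ := sylow2_pre hodd g hg ht4 n hn hpart S hSN
  have ha2 : 2 ≤ n.factorization 2 :=
    (Nat.prime_two.pow_dvd_iff_le_factorization hn0).mp (by norm_num; exact h4)
  have ha3 : ¬ 3 ≤ n.factorization 2 := by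
    intro h
    apply h8
    have := (Nat.prime_two.pow_dvd_iff_le_factorization hn0).mpr h
    norm_num at this
    exact this
  have ha : n.factorization 2 = 2 := by omega
  have hScard : Nat.card (S : Subgroup (Matrix.SpecialLinearGroup (Fin 2) F)) = 8 := by
    have := S.card_eq_multiplicity
    rw [hpart, ha] at this
    exact this
  rw [ha] at hQ
  have hQdvd : Nat.card (((S : Subgroup (Matrix.SpecialLinearGroup (Fin 2) F)) ⊓
        Subgroup.centralizer ({g} : Set (Matrix.SpecialLinearGroup (Fin 2) F)) :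
          Subgroup (Matrix.SpecialLinearGroup (Fin 2) F))) ∣ 8 := by
    rw [← hScard]
    exact Subgroup.card_dvd_of_le inf_le_left
  have hQne : Nat.card (((S : Subgroup (Matrix.SpecialLinearGroup (Fin 2) F)) ⊓
        Subgroup.centralizer ({g} : Set (Matrix.SpecialLinearGroup (Fin 2) F)) :
          Subgroup (Matrix.SpecialLinearGroup (Fin 2) F))) ≠ 8 := by
    intro h
    have h3 : ((S : Subgroup (Matrix.SpecialLinearGroup (Fin 2) F)) ⊓
        Subgroup.centralizer ({g} : Set (Matrix.SpecialLinearGroup (Fin 2) F)) :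
          Subgroup (Matrix.SpecialLinearGroup (Fin 2) F)) =
        (S : Subgroup (Matrix.SpecialLinearGroup (Fin 2) F)) :=
      Subgroup.eq_of_le_of_card_ge inf_le_left (by rw [hScard, h])
    apply hwT
    have hw' : w ∈ ((S : Subgroup (Matrix.SpecialLinearGroup (Fin 2) F)) ⊓
        Subgroup.centralizer ({g} : Set (Matrix.SpecialLinearGroup (Fin 2) F)) :
          Subgroup (Matrix.SpecialLinearGroup (Fin 2) F)) := by
      rw [h3]
      exact hwS
    exact hw'.2
  have hQ4 : Nat.card (((S : Subgroup (Matrix.SpecialLinearGroup (Fin 2) F)) ⊓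
        Subgroup.centralizer ({g} : Set (Matrix.SpecialLinearGroup (Fin 2) F)) :
          Subgroup (Matrix.SpecialLinearGroup (Fin 2) F))) = 4 := by
    have hle : Nat.card (((S : Subgroup (Matrix.SpecialLinearGroup (Fin 2) F)) ⊓
        Subgroup.centralizer ({g} : Set (Matrix.SpecialLinearGroup (Fin 2) F)) :
          Subgroup (Matrix.SpecialLinearGroup (Fin 2) F))) ≤ 8 := Nat.le_of_dvd (by norm_num) hQdvd
    have hge : 4 ≤ Nat.card (((S : Subgroup (Matrix.SpecialLinearGroup (Fin 2) F)) ⊓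
        Subgroup.centralizer ({g} : Set (Matrix.SpecialLinearGroup (Fin 2) F)) :
          Subgroup (Matrix.SpecialLinearGroup (Fin 2) F))) := by
      have h3 : (2 : ℕ) ^ (2 + 1) = 8 := by norm_num
      rw [h3] at hQ
      omega
    generalize Nat.card (((S : Subgroup (Matrix.SpecialLinearGroup (Fin 2) F)) ⊓
        Subgroup.centralizer ({g} : Set (Matrix.SpecialLinearGroup (Fin 2) F)) :
          Subgroup (Matrix.SpecialLinearGroup (Fin 2) F))) = m at hQdvd hQne hle hge
    interval_cases m <;> omega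
  obtain ⟨c, hc, hcs⟩ := exists_nonscalar_of_card h2
    (((S : Subgroup (Matrix.SpecialLinearGroup (Fin 2) F)) ⊓
        Subgroup.centralizer ({g} : Set (Matrix.SpecialLinearGroup (Fin 2) F)) :
          Subgroup (Matrix.SpecialLinearGroup (Fin 2) F))) (by rw [hQ4]; norm_num)
  have hc4 : c ^ 4 = 1 := by
    have h3 := orderOf_dvd_natCard (⟨c, hc⟩ : (((S : Subgroup (Matrix.SpecialLinearGroup (Fin 2) F)) ⊓
        Subgroup.centralizer ({g} : Set (Matrix.SpecialLinearGroup (Fin 2) F)) :
          Subgroup (Matrix.SpecialLinearGroup (Fin 2) F))))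
    rw [Subgroup.orderOf_mk, hQ4] at h3
    exact orderOf_dvd_iff_pow_eq_one.mp h3
  have hcc : c * c = negOne := by
    have h3 : (c * c) * (c * c) = 1 := by rw [← pow_four_eq, hc4]
    rcases (sq_iff h2 (c * c)).mp h3 with h | h
    · exfalso
      apply hcs
      rcases (sq_iff h2 c).mp h with h' | h'
      · rw [h']
        exact isScalarMat_one
      · rw [h']
        exact isScalarMat_negOne
    · exact h
  have hww : w * w = negOne := sq_of_inverts g w hg hwinv
  have hwc : w * c * w⁻¹ = c⁻¹ := inverts g w c hg hwinv hc.2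
  have hcinv : c⁻¹ = negOne * c := by
    symm
    apply eq_inv_of_mul_eq_one_right
    rw [← mul_assoc, ← negOne_central, mul_assoc, hcc, negOne_mul_self]
  have hJI : w * c = negOne * (c * w) := by
    have h3 : w * c = (w * c * w⁻¹) * w := by group
    rw [h3, hwc, hcinv, mul_assoc]
  obtain ⟨u, hu1, hu2⟩ := exists_u h2 c w hcc hww hJI
  have huc : u * c * u⁻¹ = c * w := by
    rw [hu1]
    group
  have huw : u * w * u⁻¹ = c := by
    rw [hu2]
    group
  have hordc : orderOf c = 2 ^ (1 + 1) := by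
    apply orderOf_eq_prime_pow
    · rw [pow_one, pow_two, hcc]
      exact negOne_ne_one h2
    · exact hc4
  have hzc : Subgroup.zpowers c = ((S : Subgroup (Matrix.SpecialLinearGroup (Fin 2) F)) ⊓
        Subgroup.centralizer ({g} : Set (Matrix.SpecialLinearGroup (Fin 2) F)) :
          Subgroup (Matrix.SpecialLinearGroup (Fin 2) F)) := by
    apply Subgroup.eq_of_le_of_card_ge
    · rw [Subgroup.zpowers_le]
      exact hc
    · rw [hQ4, Nat.card_zpowers, hordc]
      norm_num
  have hgen : (S : Subgroup (Matrix.SpecialLinearGroup (Fin 2) F)) ≤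
      Subgroup.closure ({c, w} : Set (Matrix.SpecialLinearGroup (Fin 2) F)) := by
    intro s hs
    have hcl : c ∈ Subgroup.closure ({c, w} : Set (Matrix.SpecialLinearGroup (Fin 2) F)) :=
      Subgroup.subset_closure (by simp)
    have hwl : w ∈ Subgroup.closure ({c, w} : Set (Matrix.SpecialLinearGroup (Fin 2) F)) :=
      Subgroup.subset_closure (by simp)
    have hzle : Subgroup.zpowers c ≤ Subgroup.closure ({c, w} : Set (Matrix.SpecialLinearGroup (Fin 2) F)) := by
      rw [Subgroup.zpowers_le]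
      exact hcl
    rcases hdich s hs with h | h
    · apply hzle
      rw [hzc]
      exact ⟨hs, h⟩
    · have h3 : s * w⁻¹ ∈ Subgroup.closure ({c, w} : Set (Matrix.SpecialLinearGroup (Fin 2) F)) := by
        apply hzle
        rw [hzc]
        exact ⟨Subgroup.mul_mem _ hs (Subgroup.inv_mem _ hwS), h⟩
      have h4 : s = (s * w⁻¹) * w := by group
      rw [h4]
      exact Subgroup.mul_mem _ h3 hwl
  have hmapS : (S : Subgroup (Matrix.SpecialLinearGroup (Fin 2) F)).map (MulAut.conj u).toMonoidHom ≤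
      (S : Subgroup (Matrix.SpecialLinearGroup (Fin 2) F)) := by
    rw [Subgroup.map_le_iff_le_comap]
    refine le_trans hgen ?_
    rw [Subgroup.closure_le]
    intro s hs
    rcases hs with h | h
    · rw [h]
      show u * c * u⁻¹ ∈ (S : Subgroup (Matrix.SpecialLinearGroup (Fin 2) F))
      rw [huc]
      exact Subgroup.mul_mem _ hc.1 hwS
    · rw [Set.mem_singleton_iff] at h
      rw [h]
      show u * w * u⁻¹ ∈ (S : Subgroup (Matrix.SpecialLinearGroup (Fin 2) F))
      rw [huw]
      exact hc.1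
  have huN : u ∈ Subgroup.normalizer ((S : Subgroup (Matrix.SpecialLinearGroup (Fin 2) F)) :
      Set (Matrix.SpecialLinearGroup (Fin 2) F)) := by
    apply Subgroup.mem_normalizer_iff_map_conj_eq.mpr
    apply Subgroup.eq_of_le_of_card_ge hmapS
    rw [Subgroup.card_map_of_injective (MulAut.conj u).injective]
  have huS : u ∉ (S : Subgroup (Matrix.SpecialLinearGroup (Fin 2) F)) := by
    intro huS
    rcases normalizer_dichotomy h2 g u hg ht4 (hSN huS) with h | h
    · have h3 := torus_comm g hg u h c hc.2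
      rw [hu1, mul_assoc] at h3
      have h4 : w * u = u := mul_left_cancel h3
      have h5 : w = 1 := by
        have : w = (w * u) * u⁻¹ := by group
        rw [this, h4, mul_inv_cancel]
      apply hwT
      rw [h5]
      exact one_mem _
    · have h3 := inverts g u c hg h hc.2
      rw [huc] at h3
      have h4 : w = c⁻¹ * c⁻¹ := by
        have h5 : w = c⁻¹ * (c * w) := by group
        rw [h5, h3]
      apply hwT
      rw [h4]
      exact Subgroup.mul_mem _ (Subgroup.inv_mem _ hc.2) (Subgroup.inv_mem _ hc.2)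
  have h8N : 8 ∣ Nat.card (Subgroup.normalizer ((S : Subgroup (Matrix.SpecialLinearGroup (Fin 2) F)) : Set (Matrix.SpecialLinearGroup (Fin 2) F))) := by
    rw [← hScard]
    exact Subgroup.card_dvd_of_le Subgroup.le_normalizer
  have hN8 : Nat.card (Subgroup.normalizer ((S : Subgroup (Matrix.SpecialLinearGroup (Fin 2) F)) : Set (Matrix.SpecialLinearGroup (Fin 2) F))) ≠ 8 := by
    intro h
    have h3 : (S : Subgroup (Matrix.SpecialLinearGroup (Fin 2) F)) = (Subgroup.normalizer ((S : Subgroup (Matrix.SpecialLinearGroup (Fin 2) F)) : Set (Matrix.SpecialLinearGroup (Fin 2) F))) :=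
      Subgroup.eq_of_le_of_card_ge Subgroup.le_normalizer (by rw [hScard, h])
    apply huS
    rw [h3]
    exact huN
  have h16 : ¬ 16 ∣ Nat.card (Subgroup.normalizer ((S : Subgroup (Matrix.SpecialLinearGroup (Fin 2) F)) : Set (Matrix.SpecialLinearGroup (Fin 2) F))) := by
    intro h
    have h3 := dvd_trans h (Subgroup.card_subgroup_dvd_card (Subgroup.normalizer ((S : Subgroup (Matrix.SpecialLinearGroup (Fin 2) F)) : Set (Matrix.SpecialLinearGroup (Fin 2) F))))
    have hG0 : Nat.card (Matrix.SpecialLinearGroup (Fin 2) F) ≠ 0 := Nat.card_pos.ne'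
    have h3' : 2 ^ 4 ∣ Nat.card (Matrix.SpecialLinearGroup (Fin 2) F) := by
      norm_num
      exact h3
    have h4 := (Nat.prime_two.pow_dvd_iff_le_factorization hG0).mp h3'
    rw [hpart, ha] at h4
    omega
  have hle : Nat.card (Subgroup.normalizer ((S : Subgroup (Matrix.SpecialLinearGroup (Fin 2) F)) : Set (Matrix.SpecialLinearGroup (Fin 2) F))) ≤ 24 := by
    have hcN : c ∈ (Subgroup.normalizer ((S : Subgroup (Matrix.SpecialLinearGroup (Fin 2) F)) : Set (Matrix.SpecialLinearGroup (Fin 2) F))) := Subgroup.le_normalizer hc.1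
    have hidx := index_centralizer_eq_ncard (⟨c, hcN⟩ : (Subgroup.normalizer ((S : Subgroup (Matrix.SpecialLinearGroup (Fin 2) F)) : Set (Matrix.SpecialLinearGroup (Fin 2) F))))
    have hmul := Subgroup.card_mul_index (Subgroup.centralizer ({(⟨c, hcN⟩ : (Subgroup.normalizer ((S : Subgroup (Matrix.SpecialLinearGroup (Fin 2) F)) : Set (Matrix.SpecialLinearGroup (Fin 2) F))))} : Set (Subgroup.normalizer ((S : Subgroup (Matrix.SpecialLinearGroup (Fin 2) F)) : Set (Matrix.SpecialLinearGroup (Fin 2) F)))))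
    have hmap : (Subgroup.centralizer ({(⟨c, hcN⟩ : (Subgroup.normalizer ((S : Subgroup (Matrix.SpecialLinearGroup (Fin 2) F)) : Set (Matrix.SpecialLinearGroup (Fin 2) F))))} : Set (Subgroup.normalizer ((S : Subgroup (Matrix.SpecialLinearGroup (Fin 2) F)) : Set (Matrix.SpecialLinearGroup (Fin 2) F))))).map (Subgroup.normalizer ((S : Subgroup (Matrix.SpecialLinearGroup (Fin 2) F)) : Set (Matrix.SpecialLinearGroup (Fin 2) F))).subtype =
        ((S : Subgroup (Matrix.SpecialLinearGroup (Fin 2) F)) ⊓ Subgroup.centralizer ({g} : Set (Matrix.SpecialLinearGroup (Fin 2) F)) : Subgroup (Matrix.SpecialLinearGroup (Fin 2) F)) := by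
      ext y
      rw [Subgroup.mem_map]
      constructor
      · rintro ⟨z, hz, rfl⟩
        rw [Subgroup.mem_centralizer_iff] at hz
        have h3 := hz _ rfl
        have h4 : c * (z : Matrix.SpecialLinearGroup (Fin 2) F) = (z : Matrix.SpecialLinearGroup (Fin 2) F) * c := congrArg Subtype.val h3
        have hzT : (z : Matrix.SpecialLinearGroup (Fin 2) F) ∈ Subgroup.centralizer ({g} : Set (Matrix.SpecialLinearGroup (Fin 2) F)) := by
          rw [← cent_eq_of_mem g c hg hc.2 hcs, mem_cent_iff]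
          exact h4
        exact ⟨hTN _ hzT z.2, hzT⟩
      · intro hy
        refine ⟨⟨y, Subgroup.le_normalizer hy.1⟩, ?_, rfl⟩
        rw [Subgroup.mem_centralizer_iff]
        intro h hh
        rw [Set.mem_singleton_iff] at hh
        rw [hh]
        apply Subtype.ext
        exact torus_comm g hg c hc.2 y hy.2
    have hcent4 : Nat.card (Subgroup.centralizer ({(⟨c, hcN⟩ : (Subgroup.normalizer ((S : Subgroup (Matrix.SpecialLinearGroup (Fin 2) F)) : Set (Matrix.SpecialLinearGroup (Fin 2) F))))} : Set (Subgroup.normalizer ((S : Subgroup (Matrix.SpecialLinearGroup (Fin 2) F)) : Set (Matrix.SpecialLinearGroup (Fin 2) F))))) = 4 := by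
      rw [← Subgroup.card_map_of_injective (Subgroup.subtype_injective (Subgroup.normalizer ((S : Subgroup (Matrix.SpecialLinearGroup (Fin 2) F)) : Set (Matrix.SpecialLinearGroup (Fin 2) F)))), hmap, hQ4]
    have hcls : Set.ncard {h : (Subgroup.normalizer ((S : Subgroup (Matrix.SpecialLinearGroup (Fin 2) F)) : Set (Matrix.SpecialLinearGroup (Fin 2) F))) | IsConj (⟨c, hcN⟩ : (Subgroup.normalizer ((S : Subgroup (Matrix.SpecialLinearGroup (Fin 2) F)) : Set (Matrix.SpecialLinearGroup (Fin 2) F)))) h} ≤ 6 := by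
      have hsub : Subtype.val '' {h : (Subgroup.normalizer ((S : Subgroup (Matrix.SpecialLinearGroup (Fin 2) F)) : Set (Matrix.SpecialLinearGroup (Fin 2) F))) | IsConj (⟨c, hcN⟩ : (Subgroup.normalizer ((S : Subgroup (Matrix.SpecialLinearGroup (Fin 2) F)) : Set (Matrix.SpecialLinearGroup (Fin 2) F)))) h} ⊆
          ((S : Subgroup (Matrix.SpecialLinearGroup (Fin 2) F)) : Set (Matrix.SpecialLinearGroup (Fin 2) F)) \ {1, negOne} := by
        rintro _ ⟨h, hh, rfl⟩
        obtain ⟨ν, hν⟩ := isConj_iff.mp hh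
        have e : (h : Matrix.SpecialLinearGroup (Fin 2) F) = (ν : Matrix.SpecialLinearGroup (Fin 2) F) * c * (ν : Matrix.SpecialLinearGroup (Fin 2) F)⁻¹ := by
          rw [← hν]
          rfl
        refine ⟨?_, ?_⟩
        · show (h : Matrix.SpecialLinearGroup (Fin 2) F) ∈ (S : Subgroup (Matrix.SpecialLinearGroup (Fin 2) F))
          rw [e]
          exact (Subgroup.mem_normalizer_iff.mp ν.2 c).mp hc.1
        · intro hmem
          apply hcs
          have e' : c = (ν : Matrix.SpecialLinearGroup (Fin 2) F)⁻¹ * (h : Matrix.SpecialLinearGroup (Fin 2) F) * (ν : Matrix.SpecialLinearGroup (Fin 2) F) := by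
            rw [e]
            group
          rcases hmem with h1 | h1
          · have h5 : c = 1 := by
              rw [e', h1, mul_one, inv_mul_cancel]
            rw [h5]
            exact isScalarMat_one
          · rw [Set.mem_singleton_iff] at h1
            have h5 : c = negOne := by
              rw [e', h1, mul_assoc, negOne_central, ← mul_assoc, inv_mul_cancel, one_mul]
            rw [h5]
            exact isScalarMat_negOne
      have h3 := Set.ncard_le_ncard hsub (Set.toFinite _)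
      rw [Set.ncard_image_of_injective _ Subtype.val_injective] at h3
      have hpair : ({1, negOne} : Set (Matrix.SpecialLinearGroup (Fin 2) F)) ⊆ ((S : Subgroup (Matrix.SpecialLinearGroup (Fin 2) F)) : Set (Matrix.SpecialLinearGroup (Fin 2) F)) := by
        intro y hy
        rcases hy with h1 | h1
        · rw [h1]
          exact Subgroup.one_mem _
        · rw [Set.mem_singleton_iff] at h1
          rw [h1, ← hcc]
          exact Subgroup.mul_mem _ hc.1 hc.1
      have h4 := Set.ncard_sdiff hpair (Set.toFinite _)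
      have h5 : ({1, negOne} : Set (Matrix.SpecialLinearGroup (Fin 2) F)).ncard = 2 := Set.ncard_pair (negOne_ne_one h2).symm
      have h6 : ((S : Subgroup (Matrix.SpecialLinearGroup (Fin 2) F)) : Set (Matrix.SpecialLinearGroup (Fin 2) F)).ncard = 8 := by
        rw [← hScard]
        exact (Nat.card_coe_set_eq _).symm
      omega
    rw [hcent4, hidx] at hmul
    omega
  obtain ⟨k, hk⟩ := h8N
  rw [hScard]
  omega

theorem exists_r2 [Fintype F] (h4 : 4 ≤ Fintype.card F) : ∃ r : F, r ≠ 0 ∧ r ^ 2 ≠ 1 := by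
  classical
  obtain ⟨u, hu⟩ := IsCyclic.exists_generator (α := Fˣ)
  have hord : orderOf u = Fintype.card F - 1 := by
    rw [orderOf_eq_card_of_forall_mem_zpowers hu, Nat.card_eq_fintype_card, Fintype.card_units]
  refine ⟨(u : F), u.ne_zero, ?_⟩
  intro h
  have h3 : u ^ 2 = 1 := Units.ext (by rw [Units.val_pow_eq_pow_val, h]; rfl)
  have h5 := orderOf_dvd_of_pow_eq_one h3
  rw [hord] at h5
  have := Nat.le_of_dvd (by norm_num) h5
  omega

theorem split_data' [Fintype F] (h4 : 4 ≤ Fintype.card F) :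
    ∃ g : Matrix.SpecialLinearGroup (Fin 2) F, ¬ IsScalarMat (g : Matrix (Fin 2) (Fin 2) F) ∧
      tr2 g ^ 2 ≠ 4 ∧ IsCyclic (Subgroup.centralizer ({g} : Set (Matrix.SpecialLinearGroup (Fin 2) F))) ∧
      Nat.card (Subgroup.centralizer ({g} : Set (Matrix.SpecialLinearGroup (Fin 2) F))) =
        Fintype.card F - 1 := by
  obtain ⟨r, hr0, hda'⟩ := exists_r2 (F := F) h4
  have hd01 : ((Cfsg.Agent.S2475.diagHom (Units.mk0 r hr0) : Matrix.SpecialLinearGroup (Fin 2) F) :
      Matrix (Fin 2) (Fin 2) F) 0 1 = 0 := rfl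
  have hd10 : ((Cfsg.Agent.S2475.diagHom (Units.mk0 r hr0) : Matrix.SpecialLinearGroup (Fin 2) F) :
      Matrix (Fin 2) (Fin 2) F) 1 0 = 0 := rfl
  have hd00 : ((Cfsg.Agent.S2475.diagHom (Units.mk0 r hr0) : Matrix.SpecialLinearGroup (Fin 2) F) :
      Matrix (Fin 2) (Fin 2) F) 0 0 = r := rfl
  have hda : ((Cfsg.Agent.S2475.diagHom (Units.mk0 r hr0) : Matrix.SpecialLinearGroup (Fin 2) F) :
      Matrix (Fin 2) (Fin 2) F) 0 0 ^ 2 ≠ 1 := by
    rw [hd00]
    exact hda'
  have hne := Cfsg.Agent.S2428.diag_ne _ hd01 hda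
  refine ⟨Cfsg.Agent.S2475.diagHom (Units.mk0 r hr0), ?_, ?_, ?_, ?_⟩
  · rw [isScalarMat_iff]
    rintro ⟨-, -, h⟩
    exact hne (sub_eq_zero.mpr h)
  · have hdet := (Cfsg.Agent.S2475.diagHom (Units.mk0 r hr0) : Matrix.SpecialLinearGroup (Fin 2) F).det_coe
    rw [Matrix.det_fin_two, hd01, zero_mul, sub_zero] at hdet
    intro h
    unfold tr2 at h
    have : (((Cfsg.Agent.S2475.diagHom (Units.mk0 r hr0) : Matrix.SpecialLinearGroup (Fin 2) F) :
        Matrix (Fin 2) (Fin 2) F) 0 0 -
        ((Cfsg.Agent.S2475.diagHom (Units.mk0 r hr0) : Matrix.SpecialLinearGroup (Fin 2) F) :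
        Matrix (Fin 2) (Fin 2) F) 1 1) ^ 2 = 0 := by
      linear_combination h - 4 * hdet
    exact hne (pow_eq_zero_iff (two_ne_zero) |>.mp this)
  · rw [Cfsg.Agent.S2428.cent_eq_range _ hd01 hd10 hda]
    exact isCyclic_of_surjective (Cfsg.Agent.S2475.diagHom (F := F)).rangeRestrict
      (MonoidHom.rangeRestrict_surjective _)
  · exact Cfsg.Agent.S2428.card_cent _ hd01 hd10 hda

theorem two_fact (m : ℕ) (h : m % 4 = 2) : m.factorization 2 = 1 := by
  obtain ⟨k, hk⟩ : ∃ k, m = 2 * k := ⟨m / 2, by omega⟩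
  have hkodd : ¬ 2 ∣ k := by omega
  rw [hk, Nat.factorization_mul (by norm_num) (by omega), Finsupp.add_apply,
    Nat.prime_two.factorization_self, Nat.factorization_eq_zero_of_not_dvd hkodd]

theorem result {F : Type*} [Field F] [Fintype F] (hodd : Odd (Fintype.card F)) (S : Sylow 2 (Matrix.SpecialLinearGroup (Fin 2) F)) :
    Subgroup.centralizer ((S : Subgroup (Matrix.SpecialLinearGroup (Fin 2) F)) : Set (Matrix.SpecialLinearGroup (Fin 2) F)) = Subgroup.center (Matrix.SpecialLinearGroup (Fin 2) F) ∧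
    ((Fintype.card F % 8 = 1 ∨ Fintype.card F % 8 = 7) →
      Subgroup.normalizer ((S : Subgroup (Matrix.SpecialLinearGroup (Fin 2) F)) : Set (Matrix.SpecialLinearGroup (Fin 2) F)) = (S : Subgroup (Matrix.SpecialLinearGroup (Fin 2) F))) ∧
    ((Fintype.card F % 8 = 3 ∨ Fintype.card F % 8 = 5) →
      Nat.card (Subgroup.normalizer ((S : Subgroup (Matrix.SpecialLinearGroup (Fin 2) F)) : Set (Matrix.SpecialLinearGroup (Fin 2) F))) = 3 * Nat.card S) := by
  have hodd' : Fintype.card F % 2 = 1 := Nat.odd_iff.mp hodd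
  have hq1 : 1 < Fintype.card F := Fintype.one_lt_card
  have hcard := Cfsg.Agent.S2475.card_sl (F := F)
  have hq0 : (Fintype.card F).factorization 2 = 0 :=
    Nat.factorization_eq_zero_of_not_dvd (by omega)
  have hfac : (Nat.card (Matrix.SpecialLinearGroup (Fin 2) F)).factorization 2 =
      (Fintype.card F + 1).factorization 2 + (Fintype.card F - 1).factorization 2 := by
    rw [hcard, Nat.factorization_mul (by omega) (Nat.mul_ne_zero (by omega) (by omega)),
      Nat.factorization_mul (by omega) (by omega)]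
    simp only [Finsupp.add_apply]
    rw [hq0]
    omega
  rcases (by omega : Fintype.card F % 4 = 1 ∨ Fintype.card F % 4 = 3) with h41 | h43
  · obtain ⟨g, hg, ht4, hcyc, hn⟩ := split_data' (F := F) (by omega)
    have hpart : (Nat.card (Matrix.SpecialLinearGroup (Fin 2) F)).factorization 2 =
        (Fintype.card F - 1).factorization 2 + 1 := by
      rw [hfac, two_fact (Fintype.card F + 1) (by omega)]
      omega
    obtain ⟨g', hg', ht4', hcyc', hn', hSN⟩ :=
      exists_torus_normalizer hodd' g hg ht4 hcyc _ hn hpart S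
    have h4 : 4 ∣ Fintype.card F - 1 := by omega
    refine ⟨sylow2_cent hodd' g' hg' ht4' _ hn' h4 hpart S hSN, ?_, ?_⟩
    · intro h
      exact sylow2_norm_eq hodd' g' hg' ht4' hcyc' _ hn' (by omega) hpart S hSN
    · intro h
      exact sylow2_norm_card hodd' g' hg' ht4' _ hn' h4 (by omega) hpart S hSN
  · obtain ⟨g, hg, ht4, hcyc, hn⟩ := Cfsg.Agent.S2430.nonsplit_data (F := F) hodd'
    have hpart : (Nat.card (Matrix.SpecialLinearGroup (Fin 2) F)).factorization 2 =
        (Fintype.card F + 1).factorization 2 + 1 := by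
      rw [hfac, two_fact (Fintype.card F - 1) (by omega)]
    obtain ⟨g', hg', ht4', hcyc', hn', hSN⟩ :=
      exists_torus_normalizer hodd' g hg ht4 hcyc _ hn hpart S
    have h4 : 4 ∣ Fintype.card F + 1 := by omega
    refine ⟨sylow2_cent hodd' g' hg' ht4' _ hn' h4 hpart S hSN, ?_, ?_⟩
    · intro h
      exact sylow2_norm_eq hodd' g' hg' ht4' hcyc' _ hn' (by omega) hpart S hSN
    · intro h
      exact sylow2_norm_card hodd' g' hg' ht4' _ hn' h4 (by omega) hpart S hSN

end Cfsg.Agent.S2431
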