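import Cfsg.Statements.S2434
import Cfsg.Agent.Lib.Helper14.SL2Cusp4

set_option autoImplicit false
set_option linter.unusedSectionVars false
open Cfsg

namespace Cfsg.Agent.S2434

open scoped ComplexConjugate
open Cfsg.Agent.Lib.Helper1 Cfsg.Agent.Lib.Helper13.GL2Ind Cfsg.Agent.Lib.Helper13.GL2Irr
  Cfsg.Agent.Lib.Helper13.SL2Ind Cfsg.Agent.Lib.Helper13.SL2Irr Cfsg.Agent.Lib.Helper13.SL2Irr2
  Cfsg.Agent.Lib.Helper13.SL2Irr3 Cfsg.Agent.Lib.Helper13.SL2Irr4 Cfsg.Agent.Lib.Helper13.SL2Irr5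
open Cfsg.Agent.Lib.Helper14.GL2Conj Cfsg.Agent.Lib.Helper14.SL2Odd Cfsg.Agent.Lib.Helper14.Torus
  Cfsg.Agent.Lib.Helper14.SL2Cusp Cfsg.Agent.Lib.Helper14.SL2Cusp2 Cfsg.Agent.Lib.Helper14.SL2Cusp3
  Cfsg.Agent.Lib.Helper14.SL2Cusp4 Cfsg.Agent.Lib.Helper14.AbTorus

section helpers

universe u
variable {F : Type u} [Field F] [Fintype F] [DecidableEq F]

theorem center_scalar (g : Matrix.SpecialLinearGroup (Fin 2) F)
    (hg : g ∈ Subgroup.center (Matrix.SpecialLinearGroup (Fin 2) F)) :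
    IsScalarMat (g : Matrix (Fin 2) (Fin 2) F) := by
  obtain ⟨r, -, hr⟩ := Matrix.SpecialLinearGroup.mem_center_iff.mp hg
  refine ⟨r, ?_⟩
  rw [← hr]
  ext i j
  simp [Matrix.one_apply, Matrix.diagonal_apply]

theorem scalar_center (g : Matrix.SpecialLinearGroup (Fin 2) F)
    (hg : IsScalarMat (g : Matrix (Fin 2) (Fin 2) F)) :
    g ∈ Subgroup.center (Matrix.SpecialLinearGroup (Fin 2) F) := by
  rcases (central_iff g).mp hg with h | h
  · rw [h]; exact one_mem _
  · rw [h]; exact zS_center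

/-- the case `q = 3`: a character of order four of the torus -/
theorem q3_theta (hq : Fintype.card F = 3) (g₀ : Matrix.SpecialLinearGroup (Fin 2) F)
    (hg₀ : NoEigen g₀)
    (hcyc : IsCyclic ↥(Subgroup.centralizer ({g₀} : Set (Matrix.SpecialLinearGroup (Fin 2) F)))) :
    ∃ θ : ↥(Subgroup.centralizer ({g₀} : Set (Matrix.SpecialLinearGroup (Fin 2) F))) →* ℂˣ,
      (∃ c, θ c ^ 2 ≠ 1) ∧
      ∀ c : ↥(Subgroup.centralizer ({g₀} : Set (Matrix.SpecialLinearGroup (Fin 2) F))),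
        NoEigen c.1 → ((θ c : ℂˣ) : ℂ) + (((θ c)⁻¹ : ℂˣ) : ℂ) = 0 := by
  have hodd : Fintype.card F % 2 = 1 := by omega
  have h2 : (2 : F) ≠ 0 := two_ne_zero_of_odd hodd
  have hcard : Nat.card ↥(Subgroup.centralizer
      ({g₀} : Set (Matrix.SpecialLinearGroup (Fin 2) F))) = 4 := by
    rw [card_cent_noEigen hodd g₀ hg₀, hq]
  obtain ⟨b, hb⟩ := IsCyclic.exists_generator
    (α := ↥(Subgroup.centralizer ({g₀} : Set (Matrix.SpecialLinearGroup (Fin 2) F))))
  have hord : orderOf b = 4 := by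
    rw [orderOf_eq_card_of_forall_mem_zpowers hb, hcard]
  obtain ⟨iu, hiu⟩ : ∃ iu : ℂˣ, (iu : ℂ) = Complex.I := ⟨Units.mk0 Complex.I Complex.I_ne_zero, rfl⟩
  have hiu2 : iu * iu = -1 := by
    apply Units.ext
    rw [Units.val_mul, hiu, Units.val_neg, Units.val_one]
    exact Complex.I_mul_I
  have hdvd : orderOf iu ∣ orderOf b := by
    rw [hord]
    apply orderOf_dvd_of_pow_eq_one
    have : iu ^ 4 = (iu * iu) * (iu * iu) := by
      simp only [pow_succ, pow_zero, one_mul, mul_assoc]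
    rw [this, hiu2]
    simp
  have hsq : ∀ c : ↥(Subgroup.centralizer ({g₀} : Set (Matrix.SpecialLinearGroup (Fin 2) F))),
      ¬ IsScalarMat (c.1 : Matrix (Fin 2) (Fin 2) F) → c * c = ⟨zS F, zS_mem g₀⟩ := by
    intro c hc
    have h4 : c ^ 4 = 1 := by
      rw [← hcard]
      exact pow_card_eq_one'
    have h5 : (c.1 * c.1) * (c.1 * c.1) = 1 := by
      have := congrArg Subtype.val h4
      rw [Subgroup.coe_pow, Subgroup.coe_one] at this
      rw [← this]
      simp only [pow_succ, pow_zero, one_mul, mul_assoc]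
    have h6 := scalar_of_sq h2 (c.1 * c.1) h5
    rcases (central_iff _).mp h6 with h7 | h7
    · exact absurd (scalar_of_sq h2 c.1 h7) hc
    · exact Subtype.ext h7
  have hbs : ¬ IsScalarMat (b.1 : Matrix (Fin 2) (Fin 2) F) := by
    intro hs
    have h1 : b * b = 1 := Subtype.ext (scalar_sq b.1 hs)
    have h3 : orderOf b ∣ 2 := orderOf_dvd_of_pow_eq_one (by rw [pow_two]; exact h1)
    rw [hord] at h3
    omega
  refine ⟨monoidHomOfForallMemZpowers hb hdvd, ⟨b, ?_⟩, ?_⟩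
  · rw [monoidHomOfForallMemZpowers_apply_gen, pow_two, hiu2]
    intro h
    have := congrArg Units.val h
    norm_num at this
  · intro c hc
    have e1 : monoidHomOfForallMemZpowers hb hdvd c * monoidHomOfForallMemZpowers hb hdvd c = -1 := by
      rw [← map_mul, hsq c (no_eigen_not_scalar _ hc), ← hsq b hbs, map_mul,
        monoidHomOfForallMemZpowers_apply_gen, hiu2]
    have e2 : (monoidHomOfForallMemZpowers hb hdvd c)⁻¹ = -monoidHomOfForallMemZpowers hb hdvd c := by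
      apply inv_eq_of_mul_eq_one_right
      rw [mul_neg, e1, neg_neg]
    rw [e2, Units.val_neg]
    ring

end helpers

/-- Let F be a finite field with q elements, q odd, and C a cyclic subgroup of order q + 1 of SL₂ over F (a non-split torus; it contains the centre). For every homomorphism θ from C to the non-zero complex numbers with θ² ≠ 1 there is an irreducible complex character χ of degree q − 1 such that χ(c) = −θ(c) − θ(c)⁻¹ for every non-central c in C, χ(zg) = θ(z)χ(g) for central z in C, χ vanishes at diagonal elements with entry a, a² ≠ 1, and χ takes the value −1 at every upper unitriangular element other than 1. Conversely every irreducible character of degree q − 1 has, for some such θ, the values −θ(c) − θ(c)⁻¹ at the non-central elements c of C (for q ≥ 5 these are exactly the cuspidal characters of degree q − 1). -/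
theorem result {F : Type*} [Field F] [Fintype F] (hodd : Odd (Fintype.card F))
    (C : Subgroup (Matrix.SpecialLinearGroup (Fin 2) F)) (hC : IsCyclic C) (hcard : Nat.card C = Fintype.card F + 1) :
    (∀ θ : C →* ℂˣ, (∃ c : C, θ c ^ 2 ≠ 1) →
      ∃ χ : Matrix.SpecialLinearGroup (Fin 2) F → ℂ, Cfsg.IsIrrCharacter (Matrix.SpecialLinearGroup (Fin 2) F) χ ∧ χ 1 = (Fintype.card F : ℂ) - 1 ∧
        (∀ c : C, (c : Matrix.SpecialLinearGroup (Fin 2) F) ∉ Subgroup.center (Matrix.SpecialLinearGroup (Fin 2) F) → χ c = -((θ c).val + (θ c)⁻¹.val)) ∧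
        (∀ c : C, (c : Matrix.SpecialLinearGroup (Fin 2) F) ∈ Subgroup.center (Matrix.SpecialLinearGroup (Fin 2) F) → ∀ g : Matrix.SpecialLinearGroup (Fin 2) F, χ ((c : Matrix.SpecialLinearGroup (Fin 2) F) * g) = (θ c).val * χ g) ∧
        (∀ g : Matrix.SpecialLinearGroup (Fin 2) F, (g : Matrix (Fin 2) (Fin 2) F) 0 1 = 0 → (g : Matrix (Fin 2) (Fin 2) F) 1 0 = 0 → (g : Matrix (Fin 2) (Fin 2) F) 0 0 ^ 2 ≠ 1 → χ g = 0) ∧
        (∀ g : Matrix.SpecialLinearGroup (Fin 2) F, (g : Matrix (Fin 2) (Fin 2) F) 1 0 = 0 → (g : Matrix (Fin 2) (Fin 2) F) 0 0 = 1 → (g : Matrix (Fin 2) (Fin 2) F) 1 1 = 1 → (g : Matrix (Fin 2) (Fin 2) F) 0 1 ≠ 0 → χ g = -1)) ∧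
    (∀ χ : Matrix.SpecialLinearGroup (Fin 2) F → ℂ, Cfsg.IsIrrCharacter (Matrix.SpecialLinearGroup (Fin 2) F) χ → χ 1 = (Fintype.card F : ℂ) - 1 →
      ∃ θ : C →* ℂˣ, (∃ c : C, θ c ^ 2 ≠ 1) ∧
        ∀ c : C, (c : Matrix.SpecialLinearGroup (Fin 2) F) ∉ Subgroup.center (Matrix.SpecialLinearGroup (Fin 2) F) → χ c = -((θ c).val + (θ c)⁻¹.val)) := by
  classical
  have hodd' : Fintype.card F % 2 = 1 := Nat.odd_iff.mp hodd
  obtain ⟨g₀, hg₀, hT⟩ := cyclic_torus hodd' C hC hcard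
  subst hT
  have hcen : ∀ c : ↥(Subgroup.centralizer ({g₀} : Set (Matrix.SpecialLinearGroup (Fin 2) F))),
      (c : Matrix.SpecialLinearGroup (Fin 2) F) ∉
        Subgroup.center (Matrix.SpecialLinearGroup (Fin 2) F) → NoEigen c.1 :=
    fun c hc => T_noEigen hodd' g₀ hg₀ c.1 c.2 (fun hs => hc (scalar_center c.1 hs))
  have hzz : (⟨zS F, zS_mem g₀⟩ : ↥(Subgroup.centralizer
      ({g₀} : Set (Matrix.SpecialLinearGroup (Fin 2) F)))) * ⟨zS F, zS_mem g₀⟩ = 1 :=
    Subtype.ext zS_mul_self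
  constructor
  · intro θ hθ
    have hω : θ ⟨zS F, zS_mem g₀⟩ = 1 ∨ θ ⟨zS F, zS_mem g₀⟩ = -1 :=
      unit_sq_cases _ (by rw [pow_two, ← map_mul, hzz, map_one])
    obtain ⟨α, hα⟩ := exists_alpha hodd' ((θ ⟨zS F, zS_mem g₀⟩ : ℂˣ) : ℂ)
      (by rcases hω with h | h <;> rw [h] <;> simp)
    refine ⟨lamFun g₀ α θ, lam_irr hodd' g₀ hg₀ α θ hα hθ, lam_one hodd' g₀ hg₀ α θ,
      ?_, ?_, ?_, ?_⟩
    · intro c hc
      exact lam_T hodd' g₀ hg₀ α θ c (hcen c hc)
    · intro c hc g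
      rcases (central_iff c.1).mp (center_scalar c.1 hc) with h | h
      · have e : c = 1 := Subtype.ext h
        rw [h, e, map_one, one_mul, Units.val_one, one_mul]
      · have e : c = ⟨zS F, zS_mem g₀⟩ := Subtype.ext h
        rw [h, e]
        exact lam_zS_mul g₀ α θ hα g
    · intro g h01 h10 hne
      exact lam_diag hodd' g₀ hg₀ α θ g h01 h10 hne
    · intro g h10 h00 h11 h01
      exact lam_unip hodd' g₀ hg₀ α θ g h10 h00 h11 h01
  · intro χ hχ hdeg
    obtain ⟨k, hk⟩ := hodd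
    obtain ⟨c0, c1, c2⟩ := card_casts hk
    have hq2 : 1 < Fintype.card F := Fintype.one_lt_card
    have hk1 : 1 ≤ k := by omega
    have hkR : (1 : ℝ) ≤ (k : ℝ) := by exact_mod_cast hk1
    suffices h : ∃ θ : ↥(Subgroup.centralizer
        ({g₀} : Set (Matrix.SpecialLinearGroup (Fin 2) F))) →* ℂˣ,
        (∃ c, θ c ^ 2 ≠ 1) ∧
        ∀ c : ↥(Subgroup.centralizer ({g₀} : Set (Matrix.SpecialLinearGroup (Fin 2) F))),
          NoEigen c.1 → χ c.1 = -(((θ c : ℂˣ) : ℂ) + (((θ c)⁻¹ : ℂˣ) : ℂ)) by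
      obtain ⟨θ, h1, h2⟩ := h
      exact ⟨θ, h1, fun c hc => h2 c (hcen c hc)⟩
    rw [c0] at hdeg
    have hdeg2 : χ 1 = 2 * (k : ℂ) := by rw [hdeg]; ring
    rcases cases_odd hk hχ with ⟨h, hd'⟩ | ⟨h, hd'⟩ | ⟨⟨α, hα, h⟩, hd'⟩ | ⟨h, hd'⟩ | ⟨h, hd'⟩ | ⟨h, hd'⟩
    · exfalso
      have h3 := congrArg Complex.re (hdeg2.symm.trans hd')
      simp at h3
      linarith
    · exfalso
      have h3 := congrArg Complex.re (hdeg2.symm.trans hd')
      simp at h3
    · exfalso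
      have h3 := congrArg Complex.re (hdeg2.symm.trans hd')
      simp at h3
    · -- `q = 3`
      have h3 := congrArg Complex.re (hdeg2.symm.trans hd')
      simp at h3
      have hk1' : (k : ℝ) = 1 := by linarith
      have hk1'' : k = 1 := by exact_mod_cast hk1'
      have hq : Fintype.card F = 3 := by omega
      obtain ⟨θ, h1, h2⟩ := q3_theta hq g₀ hg₀ hC
      refine ⟨θ, h1, fun c hc => ?_⟩
      rw [h2 c hc, neg_zero]
      exact q3_vanish hq hχ (by rw [hdeg2, hk1'']; norm_num) c.1 hc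
    · exfalso
      have h3 := congrArg Complex.re (hdeg2.symm.trans hd')
      simp at h3
      linarith
    · exact cusp_full_T hk g₀ hg₀ hC h hd'

end Cfsg.Agent.S2434
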