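import Cfsg.Statements.S2435
import Cfsg.Agent.Lib.Helper14.SL2Cusp3

set_option autoImplicit false
set_option linter.unusedSectionVars false
open Cfsg

namespace Cfsg.Agent.S2435

open scoped ComplexConjugate
open Cfsg.Agent.Lib.Helper1 Cfsg.Agent.Lib.Helper13.GL2Ind Cfsg.Agent.Lib.Helper13.GL2Irr
  Cfsg.Agent.Lib.Helper13.SL2Ind Cfsg.Agent.Lib.Helper13.SL2Irr Cfsg.Agent.Lib.Helper13.SL2Irr2
  Cfsg.Agent.Lib.Helper13.SL2Irr3 Cfsg.Agent.Lib.Helper13.SL2Irr4 Cfsg.Agent.Lib.Helper13.SL2Irr5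
open Cfsg.Agent.Lib.Helper14.SL2Cusp Cfsg.Agent.Lib.Helper14.SL2Cusp2 Cfsg.Agent.Lib.Helper14.SL2Cusp3
  Cfsg.Agent.Lib.Helper14.AbTorus

section helpers

universe u
variable {F : Type u} [Field F] [Fintype F] [DecidableEq F]

theorem half_diag (hodd : Odd (Fintype.card F))
    {χ : Matrix.SpecialLinearGroup (Fin 2) F → ℂ}
    (hχ : Cfsg.IsIrrCharacter (Matrix.SpecialLinearGroup (Fin 2) F) χ)
    (hne : Cfsg.classInner (Cfsg.indFun (BS F) (thetaS (epsC F))) χ ≠ 0)
    (a : Fˣ) (ha : (a : F) ^ 2 ≠ 1) :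
    χ (bS a 0 : ↥(BS F)) = epsC F a := by
  classical
  have : Fintype ↥(BS F) := Fintype.ofFinite _
  obtain ⟨hq0, hq1⟩ := card_F_cast_ne (F := F)
  have hcl := res_isClass (IsIrrCharacter.isClassFunction hχ)
  have h := BS_fourier (fun b : ↥(BS F) => χ b) (epsC F) 1 (fun α => by
    rw [← frobenius_reciprocity _ _ (IsIrrCharacter.isClassFunction hχ), half_inner hodd hχ hne α]) a
  have h2 : ∀ c' : F, χ (bS a c' : ↥(BS F)) = χ (bS a 0 : ↥(BS F)) := by
    intro c'
    obtain ⟨x, hx⟩ := conj_diagS a ha c'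
    rw [hx]
    exact hcl _ _
  rw [Finset.sum_congr rfl (fun c _ => h2 c), Finset.sum_const, Finset.card_univ, nsmul_eq_mul,
    map_one, mul_one] at h
  exact mul_left_cancel₀ hq0 h

theorem diag_eq (g : Matrix.SpecialLinearGroup (Fin 2) F) (h01 : g.1 0 1 = 0) (h10 : g.1 1 0 = 0) :
    ∃ a : Fˣ, (a : F) = g.1 0 0 ∧
      g = ((bS a 0 : ↥(BS F)) : Matrix.SpecialLinearGroup (Fin 2) F) := by
  have hdet := det_eq g
  rw [h01, zero_mul, sub_zero] at hdet
  have hg0 : g.1 0 0 ≠ 0 := left_ne_zero_of_mul_eq_one hdet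
  refine ⟨Units.mk0 (g.1 0 0) hg0, rfl, ?_⟩
  apply Subtype.ext
  rw [bS_val]
  ext i j
  fin_cases i <;> fin_cases j
  · rfl
  · exact h01
  · exact h10
  · show g.1 1 1 = ((Units.mk0 (g.1 0 0) hg0)⁻¹ : Fˣ).1
    rw [Units.val_inv_eq_inv_val, Units.val_mk0]
    exact eq_inv_of_mul_eq_one_right hdet

theorem cusp_half_val {k : ℕ} (hk : Fintype.card F = 2 * k + 1)
    {ψ : Matrix.SpecialLinearGroup (Fin 2) F → ℂ} (hψ : IsCuspS ψ) (hdeg : ψ 1 = (k : ℂ))
    (g : Matrix.SpecialLinearGroup (Fin 2) F) (hg : NoEigen g) :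
    (g ^ (k + 1) = 1 → ψ g = -1) ∧ (g ^ (k + 1) ≠ 1 → ψ g = 1) := by
  have hodd : Fintype.card F % 2 = 1 := by omega
  obtain ⟨T', hcyc, hcardT, -, -, hconj, -⟩ :=
    Cfsg.Agent.S2429.result (F := F) (Nat.odd_iff.mpr hodd)
  obtain ⟨g₀, hg₀, hT⟩ := cyclic_torus hodd T' hcyc hcardT
  subst hT
  obtain ⟨lam, hl1, hl2, hl3⟩ := cusp_half_T hk g₀ hg₀ hcyc hψ hdeg
  obtain ⟨h, hh⟩ := hconj g hg
  have hcn : NoEigen (h * g * h⁻¹) := (noEigen_conj g h).mpr hg
  have e1 : ψ g = -((lam ⟨h * g * h⁻¹, hh⟩ : ℂˣ) : ℂ) := by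
    rw [← hl3 ⟨h * g * h⁻¹, hh⟩ hcn]
    exact (IsIrrCharacter.isClassFunction hψ.1 g h).symm
  have hpow := real_pow hcyc (k + 1) (by rw [hcardT, hk]; ring) lam hl1 hl2 ⟨h * g * h⁻¹, hh⟩
  have e2 : (⟨h * g * h⁻¹, hh⟩ : ↥(Subgroup.centralizer
      ({g₀} : Set (Matrix.SpecialLinearGroup (Fin 2) F)))) ^ (k + 1) = 1 ↔ g ^ (k + 1) = 1 := by
    rw [← Subtype.coe_inj, Subgroup.coe_pow, Subgroup.coe_one, conj_pow]
    constructor
    · intro h1
      have : g ^ (k + 1) = h⁻¹ * (h * g ^ (k + 1) * h⁻¹) * h := by group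
      rw [this, h1]
      group
    · intro h1
      rw [h1]
      group
  constructor
  · intro h1
    rw [e1, hpow.mpr (e2.mpr h1)]
    simp
  · intro h1
    have h3 : lam ⟨h * g * h⁻¹, hh⟩ ≠ 1 := fun h4 => h1 (e2.mp (hpow.mp h4))
    rcases unit_sq_cases _ (hl1 ⟨h * g * h⁻¹, hh⟩) with h4 | h4
    · exact absurd h4 h3
    · rw [e1, h4]
      simp

end helpers

/-- Let F be a finite field with q elements, q odd and q ≥ 5, and χ an irreducible complex character of SL₂ over F. If χ has degree (q + 1)/2, then at a diagonal element with entry a, a² ≠ 1, χ takes the value 1 when a is a square in F and −1 otherwise. If χ has degree (q − 1)/2, then at an element g with no eigenvector in F² (so g has order dividing q + 1), χ takes the value −1 when g raised to the power (q + 1)/2 is the identity and the value 1 otherwise. -/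
theorem result {F : Type*} [Field F] [Fintype F] (hodd : Odd (Fintype.card F)) (hq : 5 ≤ Fintype.card F)
    (χ : Matrix.SpecialLinearGroup (Fin 2) F → ℂ) (hχ : Cfsg.IsIrrCharacter (Matrix.SpecialLinearGroup (Fin 2) F) χ) (g : Matrix.SpecialLinearGroup (Fin 2) F) :
    (χ 1 = (((Fintype.card F + 1) / 2 : ℕ) : ℂ) → (g : Matrix (Fin 2) (Fin 2) F) 0 1 = 0 → (g : Matrix (Fin 2) (Fin 2) F) 1 0 = 0 → (g : Matrix (Fin 2) (Fin 2) F) 0 0 ^ 2 ≠ 1 →
      (IsSquare ((g : Matrix (Fin 2) (Fin 2) F) 0 0) → χ g = 1) ∧ (¬ IsSquare ((g : Matrix (Fin 2) (Fin 2) F) 0 0) → χ g = -1)) ∧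
    (χ 1 = (((Fintype.card F - 1) / 2 : ℕ) : ℂ) → (∀ (c : F) (v : Fin 2 → F), v ≠ 0 → (g : Matrix (Fin 2) (Fin 2) F).mulVec v ≠ c • v) →
      (((g ^ ((Fintype.card F + 1) / 2)) : Matrix (Fin 2) (Fin 2) F) = 1 → χ g = -1) ∧ (((g ^ ((Fintype.card F + 1) / 2)) : Matrix (Fin 2) (Fin 2) F) ≠ 1 → χ g = 1)) := by
  classical
  have hodd' := hodd
  obtain ⟨k, hk⟩ := hodd
  have hk2 : 2 ≤ k := by omega
  have hk2R : (2 : ℝ) ≤ (k : ℝ) := by exact_mod_cast hk2
  obtain ⟨c0, c1, c2⟩ := card_casts hk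
  have em : (Fintype.card F + 1) / 2 = k + 1 := by omega
  rw [c1, c2, em]
  constructor
  · intro hd h01 h10 hne
    rcases cases_odd hk hχ with ⟨h, hd'⟩ | ⟨h, hd'⟩ | ⟨⟨α, hα, h⟩, hd'⟩ | ⟨h, hd'⟩ | ⟨h, hd'⟩ | ⟨h, hd'⟩
    · exfalso
      have h3 := congrArg Complex.re (hd.symm.trans hd')
      simp at h3
      linarith
    · exfalso
      have h3 := congrArg Complex.re (hd.symm.trans hd')
      simp at h3
      linarith
    · exfalso
      have h3 := congrArg Complex.re (hd.symm.trans hd')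
      simp at h3
      linarith
    · obtain ⟨a, ha, hg⟩ := diag_eq g h01 h10
      have hval : χ g = epsC F (g.1 0 0) := by
        rw [← ha]
        conv_lhs => rw [hg]
        exact half_diag hodd' hχ h a (by rw [ha]; exact hne)
      have hg0 : g.1 0 0 ≠ 0 := by rw [← ha]; exact a.ne_zero
      rw [hval, epsC_apply]
      constructor
      · intro hsq
        rw [(quadraticChar_one_iff_isSquare hg0).mpr hsq]
        simp
      · intro hsq
        rw [quadraticChar_neg_one_iff_not_isSquare.mpr hsq]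
        simp
    · exfalso
      have h3 := congrArg Complex.re (hd.symm.trans hd')
      simp at h3
    · exfalso
      have h3 := congrArg Complex.re (hd.symm.trans hd')
      simp at h3
      linarith
  · intro hd hg
    rcases cases_odd hk hχ with ⟨h, hd'⟩ | ⟨h, hd'⟩ | ⟨⟨α, hα, h⟩, hd'⟩ | ⟨h, hd'⟩ | ⟨h, hd'⟩ | ⟨h, hd'⟩
    · exfalso
      have h3 := congrArg Complex.re (hd.symm.trans hd')
      simp at h3
      linarith
    · exfalso
      have h3 := congrArg Complex.re (hd.symm.trans hd')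
      simp at h3
      linarith
    · exfalso
      have h3 := congrArg Complex.re (hd.symm.trans hd')
      simp at h3
      linarith
    · exfalso
      have h3 := congrArg Complex.re (hd.symm.trans hd')
      simp at h3
    · obtain ⟨r1, r2⟩ := cusp_half_val hk h hd g hg
      constructor
      · intro h1
        apply r1
        apply Subtype.ext
        rw [Matrix.SpecialLinearGroup.coe_pow]
        exact h1
      · intro h1
        apply r2
        intro h2
        apply h1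
        rw [← Matrix.SpecialLinearGroup.coe_pow, h2]
        rfl
    · exfalso
      have h3 := congrArg Complex.re (hd.symm.trans hd')
      simp at h3
      linarith

end Cfsg.Agent.S2435
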