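import Cfsg.Statements.S2456
import Cfsg.Agent.S2503

set_option autoImplicit false
open Cfsg

namespace Cfsg.Agent.S2456

open Cfsg.Agent.Lib.Helper14.GL2Conj Cfsg.Agent.Lib.Helper14.ClassSize

variable {F : Type*} [Field F]

theorem exists_mid (t l : F) (hl : l * (t - l) = 1) (G : Matrix.SpecialLinearGroup (Fin 2) F)
    (hG : ¬ IsScalarMat (G : Matrix (Fin 2) (Fin 2) F)) :
    ∃ M : Matrix.SpecialLinearGroup (Fin 2) F,
      (M : Matrix (Fin 2) (Fin 2) F) 0 0 + (M : Matrix (Fin 2) (Fin 2) F) 1 1 = t ∧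
      ((M * G : Matrix.SpecialLinearGroup (Fin 2) F) : Matrix (Fin 2) (Fin 2) F) 0 0 +
        ((M * G : Matrix.SpecialLinearGroup (Fin 2) F) : Matrix (Fin 2) (Fin 2) F) 1 1 = t := by
  have hdet := G.det_coe
  rw [Matrix.det_fin_two] at hdet
  rw [isScalarMat_iff] at hG
  by_cases hr : (G : Matrix (Fin 2) (Fin 2) F) 1 0 = 0
  · by_cases hq : (G : Matrix (Fin 2) (Fin 2) F) 0 1 = 0
    · have hne : (G : Matrix (Fin 2) (Fin 2) F) 0 0 ≠ (G : Matrix (Fin 2) (Fin 2) F) 1 1 :=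
        fun h => hG ⟨hq, hr, h⟩
      have hne' : (G : Matrix (Fin 2) (Fin 2) F) 0 0 - (G : Matrix (Fin 2) (Fin 2) F) 1 1 ≠ 0 :=
        sub_ne_zero.mpr hne
      let a : F := t * (1 - (G : Matrix (Fin 2) (Fin 2) F) 1 1) /
        ((G : Matrix (Fin 2) (Fin 2) F) 0 0 - (G : Matrix (Fin 2) (Fin 2) F) 1 1)
      let d : F := t * ((G : Matrix (Fin 2) (Fin 2) F) 0 0 - 1) /
        ((G : Matrix (Fin 2) (Fin 2) F) 0 0 - (G : Matrix (Fin 2) (Fin 2) F) 1 1)
      let M : Matrix.SpecialLinearGroup (Fin 2) F := ⟨!![a, 1; a * d - 1, d], by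
        rw [Matrix.det_fin_two_of]; ring⟩
      have hM : (M : Matrix (Fin 2) (Fin 2) F) = !![a, 1; a * d - 1, d] := rfl
      refine ⟨M, ?_, ?_⟩
      · rw [hM]
        simp only [Matrix.of_apply, Matrix.cons_val_zero, Matrix.cons_val_one, Matrix.cons_val']
        simp only [a, d]
        field_simp
        ring
      · rw [Matrix.SpecialLinearGroup.coe_mul, hM]
        simp only [Matrix.mul_apply, Fin.sum_univ_two, Matrix.of_apply, Matrix.cons_val_zero,
          Matrix.cons_val_one, Matrix.cons_val', hr, hq]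
        simp only [a, d]
        field_simp
        ring
    · let c : F := (t - l * (G : Matrix (Fin 2) (Fin 2) F) 0 0 - (t - l) * (G : Matrix (Fin 2) (Fin 2) F) 1 1) /
        (G : Matrix (Fin 2) (Fin 2) F) 0 1
      let M : Matrix.SpecialLinearGroup (Fin 2) F := ⟨!![l, 0; c, t - l], by
        rw [Matrix.det_fin_two_of]; linear_combination hl⟩
      have hM : (M : Matrix (Fin 2) (Fin 2) F) = !![l, 0; c, t - l] := rfl
      refine ⟨M, ?_, ?_⟩
      · rw [hM]
        simp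
      · rw [Matrix.SpecialLinearGroup.coe_mul, hM]
        simp only [Matrix.mul_apply, Fin.sum_univ_two, Matrix.of_apply, Matrix.cons_val_zero,
          Matrix.cons_val_one, Matrix.cons_val']
        simp only [c]
        field_simp
        ring
  · let b : F := (t - l * (G : Matrix (Fin 2) (Fin 2) F) 0 0 - (t - l) * (G : Matrix (Fin 2) (Fin 2) F) 1 1) /
      (G : Matrix (Fin 2) (Fin 2) F) 1 0
    let M : Matrix.SpecialLinearGroup (Fin 2) F := ⟨!![l, b; 0, t - l], by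
      rw [Matrix.det_fin_two_of]; linear_combination hl⟩
    have hM : (M : Matrix (Fin 2) (Fin 2) F) = !![l, b; 0, t - l] := rfl
    refine ⟨M, ?_, ?_⟩
    · rw [hM]
      simp
    · rw [Matrix.SpecialLinearGroup.coe_mul, hM]
      simp only [Matrix.mul_apply, Fin.sum_univ_two, Matrix.of_apply, Matrix.cons_val_zero,
        Matrix.cons_val_one, Matrix.cons_val']
      simp only [b]
      field_simp
      ring

theorem sq_eq_one_of_trace_zero [CharP F 2] (X : Matrix.SpecialLinearGroup (Fin 2) F)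
    (ht : (X : Matrix (Fin 2) (Fin 2) F) 0 0 + (X : Matrix (Fin 2) (Fin 2) F) 1 1 = 0) : X * X = 1 := by
  have hdet := X.det_coe
  rw [Matrix.det_fin_two] at hdet
  have h2 : (2 : F) = 0 := CharTwo.two_eq_zero
  have h11 : (X : Matrix (Fin 2) (Fin 2) F) 1 1 = - (X : Matrix (Fin 2) (Fin 2) F) 0 0 := by
    linear_combination ht
  apply Subtype.ext
  rw [Matrix.SpecialLinearGroup.coe_mul, Matrix.SpecialLinearGroup.coe_one]
  ext i j
  fin_cases i <;> fin_cases j <;>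
    simp only [Matrix.mul_apply, Fin.sum_univ_two, Fin.zero_eta, Fin.mk_one, Matrix.one_apply_eq,
      Matrix.one_apply_ne, ne_eq, not_false_eq_true, zero_ne_one, one_ne_zero, Fin.isValue]
  · rw [h11] at hdet
    linear_combination (-1 : F) * hdet - h2
  · rw [h11]; ring
  · rw [h11]; ring
  · rw [h11] at hdet ⊢
    linear_combination (-1 : F) * hdet - h2

theorem split_of_order [Fintype F] [CharP F 2] (X : Matrix.SpecialLinearGroup (Fin 2) F) (hX : X ≠ 1) (t : F)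
    (ht : (X : Matrix (Fin 2) (Fin 2) F) 0 0 + (X : Matrix (Fin 2) (Fin 2) F) 1 1 = t)
    (hxq : ¬ orderOf X ∣ Fintype.card F + 1) : ∃ l : F, l * (t - l) = 1 := by
  by_contra hcon
  rw [not_exists] at hcon
  apply hxq
  have ht0 : t ≠ 0 := by
    intro h0
    apply hcon 1
    rw [h0]
    simp [CharTwo.neg_eq]
  have hg0 : Cfsg.Agent.S2503.g0 t ≠ 1 := by
    intro h
    have h1 : ((Cfsg.Agent.S2503.g0 t : Matrix.SpecialLinearGroup (Fin 2) F) : Matrix (Fin 2) (Fin 2) F) 1 0 =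
        (1 : Matrix (Fin 2) (Fin 2) F) 1 0 := by
      rw [h]; rfl
    rw [Cfsg.Agent.S2503.g0_coe] at h1
    simp [comp] at h1
  have hconj : IsConj X (Cfsg.Agent.S2503.g0 t) := by
    rw [Cfsg.Agent.S2507.conj_iff X _ hX]
    refine ⟨hg0, ?_⟩
    rw [ht, Cfsg.Agent.S2503.g0_coe]
    simp [comp]
  obtain ⟨c, hc⟩ := hconj
  rw [hc.orderOf_eq]
  have hmem : Cfsg.Agent.S2503.g0 t ∈ Cfsg.Agent.S2503.torus t := by
    unfold Cfsg.Agent.S2503.torus
    rw [Subgroup.mem_centralizer_iff]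
    intro h hh
    rw [Set.mem_singleton_iff] at hh
    rw [hh]
  have h1 : orderOf (⟨Cfsg.Agent.S2503.g0 t, hmem⟩ : Cfsg.Agent.S2503.torus t) ∣
      Nat.card (Cfsg.Agent.S2503.torus t) := orderOf_dvd_natCard _
  rw [Cfsg.Agent.S2503.card_torus t hcon, ← Subgroup.orderOf_coe] at h1
  exact h1

theorem sl_result [Fintype F] [CharP F 2] (X : Matrix.SpecialLinearGroup (Fin 2) F)
    (hx2 : 2 < orderOf X) (hxq : ¬ orderOf X ∣ Fintype.card F + 1)
    (G : Matrix.SpecialLinearGroup (Fin 2) F) (hG : G ≠ 1) :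
    ∃ u v : Matrix.SpecialLinearGroup (Fin 2) F, G = (u * X * u⁻¹) * (v * X * v⁻¹) := by
  have hX : X ≠ 1 := by
    intro h
    rw [h, orderOf_one] at hx2
    omega
  have ht0 : (X : Matrix (Fin 2) (Fin 2) F) 0 0 + (X : Matrix (Fin 2) (Fin 2) F) 1 1 ≠ 0 := by
    intro h0
    have h1 := sq_eq_one_of_trace_zero X h0
    have h2 : orderOf X ∣ 2 := by
      apply orderOf_dvd_of_pow_eq_one
      rw [pow_two, h1]
    have h3 := Nat.le_of_dvd (by norm_num) h2
    omega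
  obtain ⟨l, hl⟩ := split_of_order X hX _ rfl hxq
  have hGs : ¬ IsScalarMat (G : Matrix (Fin 2) (Fin 2) F) :=
    fun h => hG (Cfsg.Agent.S2331.eq_one_of_scalar G h)
  obtain ⟨M, hM1, hM2⟩ := exists_mid _ l hl G hGs
  have hMinv : ((M⁻¹ : Matrix.SpecialLinearGroup (Fin 2) F) : Matrix (Fin 2) (Fin 2) F) 0 0 +
      ((M⁻¹ : Matrix.SpecialLinearGroup (Fin 2) F) : Matrix (Fin 2) (Fin 2) F) 1 1 =
      (X : Matrix (Fin 2) (Fin 2) F) 0 0 + (X : Matrix (Fin 2) (Fin 2) F) 1 1 := by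
    rw [Matrix.SpecialLinearGroup.coe_inv, Matrix.adjugate_fin_two]
    simp only [Matrix.of_apply, Matrix.cons_val_zero, Matrix.cons_val_one, Matrix.cons_val']
    rw [← hM1]
    ring
  have hne1 : ∀ Y : Matrix.SpecialLinearGroup (Fin 2) F,
      (Y : Matrix (Fin 2) (Fin 2) F) 0 0 + (Y : Matrix (Fin 2) (Fin 2) F) 1 1 =
      (X : Matrix (Fin 2) (Fin 2) F) 0 0 + (X : Matrix (Fin 2) (Fin 2) F) 1 1 → Y ≠ 1 := by
    intro Y hY h1
    rw [h1] at hY
    apply ht0
    rw [← hY]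
    simp [CharTwo.add_self_eq_zero]
  have hc1 : IsConj X M⁻¹ := (Cfsg.Agent.S2507.conj_iff X _ hX).mpr ⟨hne1 _ hMinv, hMinv⟩
  have hc2 : IsConj X (M * G) := (Cfsg.Agent.S2507.conj_iff X _ hX).mpr ⟨hne1 _ hM2, hM2⟩
  obtain ⟨u, hu⟩ := isConj_iff.mp hc1
  obtain ⟨v, hv⟩ := isConj_iff.mp hc2
  refine ⟨u, v, ?_⟩
  rw [hu, hv]
  group

theorem result {F : Type*} [Field F] [Fintype F] [CharP F 2] (h4 : 4 ≤ Fintype.card F)
    (x : Matrix.ProjectiveSpecialLinearGroup (Fin 2) F) (hx2 : 2 < orderOf x) (hxq : ¬ orderOf x ∣ Fintype.card F + 1) : ∀ g : Matrix.ProjectiveSpecialLinearGroup (Fin 2) F, g ≠ 1 → ∃ u v : Matrix.ProjectiveSpecialLinearGroup (Fin 2) F, g = (u * x * u⁻¹) * (v * x * v⁻¹) := by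
  have _h4 := h4
  intro g hg
  let e : Matrix.SpecialLinearGroup (Fin 2) F ≃* Matrix.ProjectiveSpecialLinearGroup (Fin 2) F :=
    Cfsg.Agent.S2507.pslEquiv
  have ho : orderOf (e.symm x) = orderOf x := e.symm.orderOf_eq x
  have hG : e.symm g ≠ 1 := by
    intro h
    apply hg
    have := congrArg e h
    simpa using this
  obtain ⟨u, v, huv⟩ := sl_result (e.symm x) (by rw [ho]; exact hx2) (by rw [ho]; exact hxq) (e.symm g) hG
  refine ⟨e u, e v, ?_⟩
  have := congrArg e huv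
  simpa using this

end Cfsg.Agent.S2456
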