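import Cfsg.Statements.S2468
import Mathlib
import Cfsg.Agent.Lib.Helper14.PGraph2

set_option autoImplicit false
open Cfsg

namespace Cfsg.Agent.S2468

/-- Adjacency of two odd primes in the prime graph of PSL(n,q): let F be a finite field of characteristic p with q elements, n ≥ 2 with PSL(n,F) simple, and let r ≠ s be odd primes different from p dividing the order of PSL(n,F). Let k and l be the multiplicative orders of q modulo r and modulo s, and suppose 2 ≤ k ≤ l. Then PSL(n,F) has NO element of order r·s if and only if k + l > n and k does not divide l. -/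
theorem result {F : Type*} [Field F] [Fintype F] (p : ℕ) [Fact p.Prime] [CharP F p] (n : ℕ) (hn : 2 ≤ n) (hsmall : n = 2 → 4 ≤ Fintype.card F)
    (r s : ℕ) (hr : r.Prime) (hs : s.Prime) (hr2 : r ≠ 2) (hs2 : s ≠ 2) (hrp : r ≠ p) (hsp : s ≠ p) (hrs : r ≠ s)
    (hrG : r ∣ Nat.card (Matrix.ProjectiveSpecialLinearGroup (Fin n) F)) (hsG : s ∣ Nat.card (Matrix.ProjectiveSpecialLinearGroup (Fin n) F))
    (k l : ℕ) (hk : k = orderOf ((Fintype.card F : ℕ) : ZMod r)) (hl : l = orderOf ((Fintype.card F : ℕ) : ZMod s))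
    (h2k : 2 ≤ k) (hkl : k ≤ l) :
    (r * s ∉ Set.range (orderOf : Matrix.ProjectiveSpecialLinearGroup (Fin n) F → ℕ)) ↔ (n < k + l ∧ ¬ k ∣ l) := by
  subst hk hl
  constructor
  · intro hnot
    by_contra hcon
    have h : orderOf ((Fintype.card F : ℕ) : ZMod r) + orderOf ((Fintype.card F : ℕ) : ZMod s) ≤ n ∨
        orderOf ((Fintype.card F : ℕ) : ZMod r) ∣ orderOf ((Fintype.card F : ℕ) : ZMod s) := by
      by_cases hd : orderOf ((Fintype.card F : ℕ) : ZMod r) ∣ orderOf ((Fintype.card F : ℕ) : ZMod s)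
      · right
        exact hd
      · left
        by_contra h'
        exact hcon ⟨by omega, hd⟩
    obtain ⟨x, hx⟩ := Cfsg.Agent.Lib.Helper14.PGraph.psl_exist p n r s hr hs hrs h2k hkl
      (Cfsg.Agent.Lib.Helper14.PGraph.ord_le_of_dvd_card p n s hs hsp hsG) h
    exact hnot ⟨x, hx⟩
  · rintro ⟨hn', hnd⟩ ⟨x, hx⟩
    exact Cfsg.Agent.Lib.Helper14.PGraph.psl_nonexist p n r s hr hs hrp hsp hkl hn' hnd x hx

end Cfsg.Agent.S2468
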