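import Cfsg.Statements.S2477
import Mathlib

set_option autoImplicit false
open Cfsg

namespace Cfsg.Agent.S2477

theorem mem_range_iff (n k : ℕ) :
    (k ∈ Set.range (orderOf : alternatingGroup (Fin n) → ℕ)) ↔
      ∃ m : Multiset ℕ, (∀ a ∈ m, 2 ≤ a) ∧ m.sum ≤ n ∧ Even (m.sum + Multiset.card m) ∧ m.lcm = k := by
  constructor
  · rintro ⟨g, rfl⟩
    refine ⟨(g : Equiv.Perm (Fin n)).cycleType, fun a ha => Equiv.Perm.two_le_of_mem_cycleType ha, ?_, ?_, ?_⟩
    · simpa using Equiv.Perm.sum_cycleType_le (g : Equiv.Perm (Fin n))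
    · have h1 : Equiv.Perm.sign (g : Equiv.Perm (Fin n)) = 1 := Equiv.Perm.mem_alternatingGroup.mp g.2
      rw [Equiv.Perm.sign_of_cycleType] at h1
      exact (neg_one_pow_eq_one_iff_even (by decide)).mp h1
    · rw [Equiv.Perm.lcm_cycleType, Subgroup.orderOf_coe]
  · rintro ⟨m, h2, hsum, hev, rfl⟩
    obtain ⟨g, hg⟩ := (Equiv.Perm.exists_with_cycleType_iff (Fin n)).mpr ⟨by simpa using hsum, h2⟩
    have hs : Equiv.Perm.sign g = 1 := by
      rw [Equiv.Perm.sign_of_cycleType, hg]
      exact (neg_one_pow_eq_one_iff_even (by decide)).mpr hev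
    refine ⟨⟨g, Equiv.Perm.mem_alternatingGroup.mpr hs⟩, ?_⟩
    rw [← Subgroup.orderOf_coe, ← Equiv.Perm.lcm_cycleType]
    simp [hg]

set_option maxRecDepth 100000 in
theorem keyfin : ∀ D ∈ (Finset.Icc 2 10).powerset, D.sum id ≤ 10 → (9 ≤ D.sum id → Even (D.sum id + D.card)) →
    D.lcm id ∈ ({1, 2, 3, 4, 5, 6, 7, 8, 9, 10, 12, 15, 21} : Finset ℕ) := by
  decide

theorem sub_of_multiset (m : Multiset ℕ) (h2 : ∀ a ∈ m, 2 ≤ a) (hsum : m.sum ≤ 10)
    (hev : Even (m.sum + Multiset.card m)) :
    m.lcm ∈ ({1, 2, 3, 4, 5, 6, 7, 8, 9, 10, 12, 15, 21} : Finset ℕ) := by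
  obtain ⟨u, hu⟩ := Multiset.le_iff_exists_add.mp (Multiset.dedup_le m)
  have hsumeq : m.sum = m.dedup.sum + u.sum := by
    conv_lhs => rw [hu]
    rw [Multiset.sum_add]
  have hD : m.toFinset ∈ (Finset.Icc 2 10).powerset := by
    rw [Finset.mem_powerset]
    intro a ha
    rw [Multiset.mem_toFinset] at ha
    rw [Finset.mem_Icc]
    exact ⟨h2 a ha, le_trans (Multiset.le_sum_of_mem ha) hsum⟩
  have hDsum : m.toFinset.sum id = m.dedup.sum := by
    rw [Finset.sum, Multiset.map_id]; rfl
  have hDlcm : m.toFinset.lcm id = m.lcm := by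
    rw [Finset.lcm_def, Multiset.map_id]
    exact Multiset.lcm_dedup m
  have h := keyfin m.toFinset hD (by rw [hDsum]; omega) (by
    intro h9
    rw [hDsum] at h9
    have hu0 : u = 0 := by
      by_contra hne
      obtain ⟨b, hb⟩ := Multiset.exists_mem_of_ne_zero hne
      have hbm : b ∈ m := by rw [hu]; exact Multiset.mem_add.mpr (Or.inr hb)
      have := h2 b hbm
      have := Multiset.le_sum_of_mem hb
      omega
    have hmd : m = m.dedup := by
      conv_lhs => rw [hu, hu0, add_zero]
    have hcard : m.toFinset.card = Multiset.card m := by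
      rw [Multiset.card_toFinset]; exact congrArg _ hmd.symm
    rw [hDsum, hcard, ← hmd]
    exact hev)
  rwa [hDlcm] at h

theorem result : Set.range (orderOf : alternatingGroup (Fin 10) → ℕ) = {1, 2, 3, 4, 5, 6, 7, 8, 9, 10, 12, 15, 21} := by
  ext k
  rw [mem_range_iff]
  constructor
  · rintro ⟨m, h2, hsum, hev, rfl⟩
    have := sub_of_multiset m h2 hsum hev
    simpa using this
  · intro hk
    simp only [Set.mem_insert_iff, Set.mem_singleton_iff] at hk
    rcases hk with rfl | rfl | rfl | rfl | rfl | rfl | rfl | rfl | rfl | rfl | rfl | rfl | rfl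
    · exact ⟨0, by decide, by decide, by decide, by decide⟩
    · exact ⟨{2, 2}, by decide, by decide, by decide, by decide⟩
    · exact ⟨{3}, by decide, by decide, by decide, by decide⟩
    · exact ⟨{4, 2}, by decide, by decide, by decide, by decide⟩
    · exact ⟨{5}, by decide, by decide, by decide, by decide⟩
    · exact ⟨{3, 2, 2}, by decide, by decide, by decide, by decide⟩
    · exact ⟨{7}, by decide, by decide, by decide, by decide⟩
    · exact ⟨{8, 2}, by decide, by decide, by decide, by decide⟩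
    · exact ⟨{9}, by decide, by decide, by decide, by decide⟩
    · exact ⟨{5, 2, 2}, by decide, by decide, by decide, by decide⟩
    · exact ⟨{4, 3, 2}, by decide, by decide, by decide, by decide⟩
    · exact ⟨{5, 3}, by decide, by decide, by decide, by decide⟩
    · exact ⟨{7, 3}, by decide, by decide, by decide, by decide⟩

end Cfsg.Agent.S2477
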