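import Cfsg.Statements.S2530
import Mathlib

set_option autoImplicit false
open Cfsg

namespace Cfsg.Agent.S2530


variable {W : Type*} [Group W]

def e (s : ℕ → W) (n : ℕ) : ℕ → W
  | 0 => 1
  | (d + 1) => e s n d * s (n - d)

theorem c1 (s : ℕ → W) (n : ℕ)
    (hc : ∀ i j, i + 2 ≤ j → j ≤ n → s i * s j = s j * s i) (j d : ℕ) (h : j + d < n) :
    s j * e s n d = e s n d * s j := by
  induction d with
  | zero => simp [e]
  | succ d ih =>
    have h1 := ih (by omega)
    have h2 := hc j (n - d) (by omega) (by omega)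
    simp only [e]
    rw [← mul_assoc, h1, mul_assoc, h2, mul_assoc]

theorem c2 (s : ℕ → W) (n : ℕ) (hs : ∀ j, s j * s j = 1)
    (hc : ∀ i j, i + 2 ≤ j → j ≤ n → s i * s j = s j * s i)
    (hb : ∀ i, i + 1 ≤ n → s i * s (i + 1) * s i = s (i + 1) * s i * s (i + 1))
    (d : ℕ) : ∀ j, d ≤ n + 1 → n + 2 ≤ j + d → j ≤ n →
    e s n d * s j = s (j - 1) * e s n d := by
  induction d with
  | zero => intro j h1 h2 h3; omega
  | succ d ih =>
    intro j h1 h2 h3
    by_cases hcase : n + 1 = j + d
    · obtain ⟨d', rfl⟩ : ∃ d', d = d' + 1 := ⟨d - 1, by omega⟩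
      obtain ⟨j', rfl⟩ : ∃ j', j = j' + 1 := ⟨j - 1, by omega⟩
      have e1 : n - d' = j' + 1 := by omega
      have e2 : n - (d' + 1) = j' := by omega
      have h4 := c1 s n hc j' d' (by omega)
      have h5 := hb j' (by omega)
      simp only [e, e1, e2, Nat.add_sub_cancel]
      calc e s n d' * s (j' + 1) * s j' * s (j' + 1)
          = e s n d' * (s (j' + 1) * s j' * s (j' + 1)) := by group
        _ = e s n d' * (s j' * s (j' + 1) * s j') := by rw [h5]
        _ = (e s n d' * s j') * s (j' + 1) * s j' := by group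
        _ = (s j' * e s n d') * s (j' + 1) * s j' := by rw [h4]
        _ = s j' * (e s n d' * s (j' + 1) * s j') := by group
    · have h6 := ih j (by omega) (by omega) h3
      have h7 := hc (n - d) j (by omega) h3
      simp only [e]
      calc e s n d * s (n - d) * s j = e s n d * (s (n - d) * s j) := by group
        _ = e s n d * (s j * s (n - d)) := by rw [h7]
        _ = (e s n d * s j) * s (n - d) := by group
        _ = (s (j - 1) * e s n d) * s (n - d) := by rw [h6]
        _ = s (j - 1) * (e s n d * s (n - d)) := by group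

theorem step (s : ℕ → W) (n : ℕ) (hs : ∀ j, s j * s j = 1)
    (hc : ∀ i j, i + 2 ≤ j → j ≤ n → s i * s j = s j * s i)
    (hb : ∀ i, i + 1 ≤ n → s i * s (i + 1) * s i = s (i + 1) * s i * s (i + 1))
    (U : Subgroup W) (hU : ∀ j, j < n → s j ∈ U) (u : W) (hu : u ∈ U) (d : ℕ) (hd : d ≤ n + 1)
    (j : ℕ) (hj : j ≤ n) :
    ∃ u' ∈ U, ∃ d', d' ≤ n + 1 ∧ u * e s n d * s j = u' * e s n d' := by
  rcases lt_trichotomy (j + d) n with h | h | h
  · refine ⟨u * s j, U.mul_mem hu (hU j (by omega)), d, hd, ?_⟩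
    have := c1 s n hc j d h
    rw [mul_assoc, ← this, mul_assoc]
  · refine ⟨u, hu, d + 1, by omega, ?_⟩
    have : n - d = j := by omega
    simp only [e, this, mul_assoc]
  · by_cases h' : j + d = n + 1
    · obtain ⟨d', rfl⟩ : ∃ d', d = d' + 1 := ⟨d - 1, by omega⟩
      refine ⟨u, hu, d', by omega, ?_⟩
      have : n - d' = j := by omega
      simp only [e, this]
      rw [mul_assoc, mul_assoc, hs, mul_one]
    · have h2 := c2 s n hs hc hb d j hd (by omega) hj
      refine ⟨u * s (j - 1), U.mul_mem hu (hU _ (by omega)), d, hd, ?_⟩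
      rw [mul_assoc, h2, mul_assoc]

theorem cover (s : ℕ → W) (n : ℕ) (hs : ∀ j, s j * s j = 1)
    (hc : ∀ i j, i + 2 ≤ j → j ≤ n → s i * s j = s j * s i)
    (hb : ∀ i, i + 1 ≤ n → s i * s (i + 1) * s i = s (i + 1) * s i * s (i + 1))
    (U : Subgroup W) (hU : ∀ j, j < n → s j ∈ U)
    (hgen : ∀ p : W → Prop, p 1 → (∀ w j, j ≤ n → p w → p (w * s j)) → ∀ w, p w) (w : W) :
    ∃ u ∈ U, ∃ d, d ≤ n + 1 ∧ w = u * e s n d := by
  refine hgen (fun w => ∃ u ∈ U, ∃ d, d ≤ n + 1 ∧ w = u * e s n d) ?_ ?_ w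
  · exact ⟨1, U.one_mem, 0, by omega, by simp [e]⟩
  · rintro w j hj ⟨u, hu, d, hd, rfl⟩
    exact step s n hs hc hb U hU u hu d hd j hj

theorem finite_card (s : ℕ → W) (n : ℕ) (hs : ∀ j, s j * s j = 1)
    (hc : ∀ i j, i + 2 ≤ j → j ≤ n → s i * s j = s j * s i)
    (hb : ∀ i, i + 1 ≤ n → s i * s (i + 1) * s i = s (i + 1) * s i * s (i + 1))
    (U : Subgroup W) (hU : ∀ j, j < n → s j ∈ U) [Finite U]
    (hgen : ∀ p : W → Prop, p 1 → (∀ w j, j ≤ n → p w → p (w * s j)) → ∀ w, p w) :
    Finite W ∧ Nat.card W ≤ (n + 2) * Nat.card U := by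
  have hsurj : Function.Surjective (fun p : U × Fin (n + 2) => (p.1 : W) * e s n p.2) := by
    intro w
    obtain ⟨u, hu, d, hd, rfl⟩ := cover s n hs hc hb U hU hgen w
    exact ⟨(⟨u, hu⟩, ⟨d, by omega⟩), rfl⟩
  have hfin : Finite W := Finite.of_surjective _ hsurj
  refine ⟨hfin, ?_⟩
  have := Nat.card_le_card_of_surjective _ hsurj
  rw [Nat.card_prod, Nat.card_fin, mul_comm] at this
  exact this

theorem A_two (n : ℕ) (i j : Fin n) (h : (i : ℕ) + 2 ≤ j) : CoxeterMatrix.A n i j = 2 := by
  have h1 : i ≠ j := by intro h'; rw [h'] at h; omega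
  have h2 : ¬ ((j : ℕ) + 1 = i ∨ (i : ℕ) + 1 = j) := by omega
  simp [CoxeterMatrix.A, h1, h2]

theorem A_three (n : ℕ) (i j : Fin n) (h : (i : ℕ) + 1 = j) : CoxeterMatrix.A n i j = 3 := by
  have h1 : i ≠ j := by intro h'; rw [h'] at h; omega
  simp [CoxeterMatrix.A, h1, h]

theorem A_castSucc (n : ℕ) (i j : Fin n) :
    CoxeterMatrix.A (n + 1) i.castSucc j.castSucc = CoxeterMatrix.A n i j := by
  simp [CoxeterMatrix.A]

noncomputable def sg (n : ℕ) (j : ℕ) : (CoxeterMatrix.A n).Group :=
  if h : j < n then (CoxeterMatrix.A n).simple ⟨j, h⟩ else 1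

theorem sg_sq (n j : ℕ) : sg n j * sg n j = 1 := by
  unfold sg
  split_ifs with h
  · exact (CoxeterMatrix.A n).toCoxeterSystem.simple_mul_simple_self ⟨j, h⟩
  · simp

theorem comm_of_sq {G : Type*} [Group G] (a b : G) (ha : a * a = 1) (hb : b * b = 1)
    (hab : (a * b) ^ 2 = 1) : a * b = b * a := by
  have h1 : a⁻¹ = a := inv_eq_of_mul_eq_one_left ha
  have h2 : b⁻¹ = b := inv_eq_of_mul_eq_one_left hb
  have h3 : (a * b)⁻¹ = a * b := inv_eq_of_mul_eq_one_left (by rw [← pow_two]; exact hab)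
  calc a * b = (a * b)⁻¹ := h3.symm
    _ = b⁻¹ * a⁻¹ := by group
    _ = b * a := by rw [h1, h2]

theorem braid_of_cube {G : Type*} [Group G] (a b : G) (ha : a * a = 1) (hb : b * b = 1)
    (hab : (a * b) ^ 3 = 1) : a * b * a = b * a * b := by
  have h1 : a⁻¹ = a := inv_eq_of_mul_eq_one_left ha
  have h2 : b⁻¹ = b := inv_eq_of_mul_eq_one_left hb
  have h3 : a * b * a * (b * a * b) = 1 := by
    have : (a * b) ^ 3 = a * b * a * (b * a * b) := by simp [pow_succ, mul_assoc]
    rw [← this]; exact hab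
  have h4 : a * b * a = (b * a * b)⁻¹ := eq_inv_of_mul_eq_one_left h3
  calc a * b * a = (b * a * b)⁻¹ := h4
    _ = b⁻¹ * a⁻¹ * b⁻¹ := by group
    _ = b * a * b := by rw [h1, h2]

theorem sg_comm (n i j : ℕ) (h : i + 2 ≤ j) (hj : j < n) : sg n i * sg n j = sg n j * sg n i := by
  have hi : i < n := by omega
  have := (CoxeterMatrix.A n).toCoxeterSystem.simple_mul_simple_pow ⟨i, hi⟩ ⟨j, hj⟩
  rw [A_two n ⟨i, hi⟩ ⟨j, hj⟩ h] at this
  have h1 := sg_sq n i
  have h2 := sg_sq n j
  unfold sg at h1 h2 ⊢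
  rw [dif_pos hi] at h1 ⊢
  rw [dif_pos hj] at h2 ⊢
  exact comm_of_sq _ _ h1 h2 this

theorem sg_braid (n i : ℕ) (hj : i + 1 < n) :
    sg n i * sg n (i + 1) * sg n i = sg n (i + 1) * sg n i * sg n (i + 1) := by
  have hi : i < n := by omega
  have := (CoxeterMatrix.A n).toCoxeterSystem.simple_mul_simple_pow ⟨i, hi⟩ ⟨i + 1, hj⟩
  rw [A_three n ⟨i, hi⟩ ⟨i + 1, hj⟩ rfl] at this
  have h1 := sg_sq n i
  have h2 := sg_sq n (i + 1)
  unfold sg at h1 h2 ⊢
  rw [dif_pos hi] at h1 ⊢
  rw [dif_pos hj] at h2 ⊢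
  exact braid_of_cube _ _ h1 h2 this

theorem liftable_castSucc (n : ℕ) :
    (CoxeterMatrix.A n).IsLiftable (fun i : Fin n => (CoxeterMatrix.A (n + 1)).simple i.castSucc) := by
  intro i j
  have := (CoxeterMatrix.A (n + 1)).toCoxeterSystem.simple_mul_simple_pow i.castSucc j.castSucc
  rw [A_castSucc] at this
  exact this

noncomputable def iota (n : ℕ) : (CoxeterMatrix.A n).Group →* (CoxeterMatrix.A (n + 1)).Group :=
  (CoxeterMatrix.A n).toCoxeterSystem.lift ⟨_, liftable_castSucc n⟩

theorem iota_simple (n : ℕ) (i : Fin n) :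
    iota n ((CoxeterMatrix.A n).simple i) = (CoxeterMatrix.A (n + 1)).simple i.castSucc :=
  (CoxeterMatrix.A n).toCoxeterSystem.lift_apply_simple (liftable_castSucc n) i

theorem card_bound (n : ℕ) :
    Finite (CoxeterMatrix.A n).Group ∧ Nat.card (CoxeterMatrix.A n).Group ≤ (n + 1).factorial := by
  induction n with
  | zero =>
    have hsub : ∀ w : (CoxeterMatrix.A 0).Group, w = 1 := by
      intro w
      refine (CoxeterMatrix.A 0).toCoxeterSystem.simple_induction_right (p := fun w => w = 1) w rfl ?_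
      intro w i
      exact i.elim0
    have : Subsingleton (CoxeterMatrix.A 0).Group := ⟨fun a b => by rw [hsub a, hsub b]⟩
    refine ⟨inferInstance, ?_⟩
    rw [Nat.card_of_subsingleton (1 : (CoxeterMatrix.A 0).Group)]
    simp
  | succ n ih =>
    obtain ⟨hfin, hcard⟩ := ih
    have hUfin : Finite (iota n).range := by
      have : Function.Surjective (iota n).rangeRestrict := (iota n).rangeRestrict_surjective
      exact Finite.of_surjective _ this
    have hUcard : Nat.card (iota n).range ≤ Nat.card (CoxeterMatrix.A n).Group :=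
      Nat.card_le_card_of_surjective _ (iota n).rangeRestrict_surjective
    have key := finite_card (sg (n + 1)) n (sg_sq (n + 1))
      (fun i j h hj => sg_comm (n + 1) i j h (by omega))
      (fun i hi => sg_braid (n + 1) i (by omega)) (iota n).range
      (fun j hj => ⟨(CoxeterMatrix.A n).simple ⟨j, hj⟩, by
        rw [iota_simple]
        unfold sg
        rw [dif_pos (by omega)]
        rfl⟩)
      (fun p h1 hstep w => by
        refine (CoxeterMatrix.A (n + 1)).toCoxeterSystem.simple_induction_right w h1 ?_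
        intro w i hw
        have := hstep w i (by omega) hw
        unfold sg at this
        rw [dif_pos i.isLt] at this
        exact this)
    refine ⟨key.1, key.2.trans ?_⟩
    rw [Nat.factorial_succ (n + 1)]
    exact Nat.mul_le_mul le_rfl (hUcard.trans hcard)



theorem swap_pair_cube {α : Type*} [DecidableEq α] [Fintype α] (a b c : α) (ab : a ≠ b) (ac : a ≠ c)
    (bc : b ≠ c) : (Equiv.swap a b * Equiv.swap b c) ^ 3 = 1 := by
  have h := Equiv.Perm.isThreeCycle_swap_mul_swap_same (a := b) (b := a) (c := c) ab.symm bc ac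
  rw [Equiv.swap_comm b a] at h
  rw [← h.orderOf]
  exact pow_orderOf_eq_one _

theorem swap_pair_sq {α : Type*} [DecidableEq α] (a b c d : α) (h : [a, b, c, d].Nodup) :
    (Equiv.swap a b * Equiv.swap c d) ^ 2 = 1 := by
  have hc := (Equiv.Perm.disjoint_swap_swap h).commute
  rw [hc.mul_pow]
  simp [pow_two]

theorem swap_liftable (n : ℕ) :
    (CoxeterMatrix.A n).IsLiftable (fun i : Fin n => Equiv.swap i.castSucc i.succ) := by
  intro i j
  dsimp only
  by_cases hij : i = j
  · subst hij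
    simp
  · by_cases h1 : (i : ℕ) + 1 = j
    · have hm : CoxeterMatrix.A n i j = 3 := by simp [CoxeterMatrix.A, hij, h1]
      rw [hm]
      have e1 : j.castSucc = i.succ := by ext; simp [h1]
      rw [e1]
      apply swap_pair_cube
      · intro h; have := congrArg Fin.val h; simp at this
      · intro h; have := congrArg Fin.val h; simp at this; omega
      · intro h; have := congrArg Fin.val h; simp at this; omega
    · by_cases h2 : (j : ℕ) + 1 = i
      · have hm : CoxeterMatrix.A n i j = 3 := by simp [CoxeterMatrix.A, hij, h2]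
        rw [hm]
        have e1 : i.castSucc = j.succ := by ext; simp [h2]
        rw [e1, Equiv.swap_comm j.succ i.succ, Equiv.swap_comm j.castSucc j.succ]
        apply swap_pair_cube
        · intro h; have := congrArg Fin.val h; simp at this; omega
        · intro h; have := congrArg Fin.val h; simp at this; omega
        · intro h; have := congrArg Fin.val h; simp at this
      · have hm : CoxeterMatrix.A n i j = 2 := by simp [CoxeterMatrix.A, hij, h1, h2]
        rw [hm]
        apply swap_pair_sq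
        have hv : (i : ℕ) ≠ j := fun h => hij (Fin.ext h)
        simp only [List.nodup_cons, List.mem_cons, List.not_mem_nil, or_false, not_or,
          List.nodup_nil, and_true, not_false_eq_true]
        refine ⟨⟨?_, ?_, ?_⟩, ⟨?_, ?_⟩, ?_⟩ <;>
        · intro h; have := congrArg Fin.val h; simp at this <;> omega


theorem result (n : ℕ) :
    ∃ cs : CoxeterSystem (CoxeterMatrix.A n) (Equiv.Perm (Fin (n + 1))), ∀ i : Fin n, cs.simple i = Equiv.swap i.castSucc i.succ := by
  classical
  obtain ⟨hfin, hcard⟩ := card_bound n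
  let φ : (CoxeterMatrix.A n).Group →* Equiv.Perm (Fin (n + 1)) :=
    (CoxeterMatrix.A n).toCoxeterSystem.lift ⟨_, swap_liftable n⟩
  have hφ : ∀ i : Fin n, φ ((CoxeterMatrix.A n).simple i) = Equiv.swap i.castSucc i.succ :=
    fun i => (CoxeterMatrix.A n).toCoxeterSystem.lift_apply_simple (swap_liftable n) i
  have hsurj : Function.Surjective φ := by
    rw [← MonoidHom.mrange_eq_top]
    rw [eq_top_iff, ← Equiv.Perm.mclosure_swap_castSucc_succ n, Submonoid.closure_le]
    rintro _ ⟨i, rfl⟩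
    exact ⟨_, hφ i⟩
  have hbij : Function.Bijective φ := by
    rw [Nat.bijective_iff_surjective_and_card]
    refine ⟨hsurj, le_antisymm ?_ (Nat.card_le_card_of_surjective _ hsurj)⟩
    refine hcard.trans ?_
    rw [Nat.card_eq_fintype_card, Fintype.card_perm, Fintype.card_fin]
  refine ⟨⟨(MulEquiv.ofBijective φ hbij).symm⟩, ?_⟩
  intro i
  exact hφ i

end Cfsg.Agent.S2530
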