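import Mathlib
import Cfsg.Statements.S2904

set_option autoImplicit false
open Cfsg

namespace Cfsg.Agent.S2904

open Polynomial


theorem order_of_dvd (a n r : ℕ) (hr : r.Prime) (hn : 0 < n)
    (hdvd : (r : ℤ) ∣ (cyclotomic n ℤ).eval (a : ℤ)) :
    ∃ k m, n = r ^ k * m ∧ ¬ r ∣ m ∧ orderOf (a : ZMod r) = m := by
  have hfact : Fact r.Prime := ⟨hr⟩
  obtain ⟨k, m, hm, hnkm⟩ := Nat.exists_eq_pow_mul_and_not_dvd hn.ne' r hr.ne_one
  refine ⟨k, m, hnkm, hm, ?_⟩
  have hne : NeZero (m : ZMod r) := ⟨fun h => hm ((ZMod.natCast_eq_zero_iff m r).mp h)⟩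
  have hroot : (cyclotomic (r ^ k * m) (ZMod r)).IsRoot (a : ZMod r) := by
    rw [← hnkm, IsRoot.def]
    have h1 := cyclotomic.eval_apply (a : ℤ) n (Int.castRingHom (ZMod r))
    simp only [eq_intCast, Int.cast_natCast] at h1
    rw [h1]
    exact (ZMod.intCast_zmod_eq_zero_iff_dvd _ r).mpr hdvd
  have hprim := isRoot_cyclotomic_prime_pow_mul_iff_of_charP.mp hroot
  exact hprim.eq_orderOf.symm

theorem dvd_pow_sub_one_iff (a r j : ℕ) (ha : 1 ≤ a) :
    r ∣ a ^ j - 1 ↔ (a : ZMod r) ^ j = 1 := by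
  rw [← ZMod.natCast_eq_zero_iff, Nat.cast_sub (Nat.one_le_pow _ _ ha), Nat.cast_pow,
    Nat.cast_one, sub_eq_zero]



theorem cyclo_dvd_geom (a n' r : ℕ) (ha : 2 ≤ a) (hr : 2 ≤ r) (hn' : 0 < n') :
    (cyclotomic (r * n') ℤ).eval (a : ℤ) ∣ ∑ i ∈ Finset.range r, ((a : ℤ) ^ n') ^ i := by
  have hmem : n' ∈ (r * n').properDivisors := by
    rw [Nat.mem_properDivisors]
    exact ⟨Dvd.intro_left r rfl, by nlinarith⟩
  have h1 := X_pow_sub_one_mul_cyclotomic_dvd_X_pow_sub_one_of_dvd ℤ hmem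
  have h2 := eval_dvd (x := (a : ℤ)) h1
  simp only [eval_mul, eval_sub, eval_pow, eval_X, eval_one] at h2
  have h3 : (a : ℤ) ^ (r * n') - 1 = ((a : ℤ) ^ n' - 1) * ∑ i ∈ Finset.range r, ((a : ℤ) ^ n') ^ i := by
    rw [mul_comm r n', pow_mul, mul_comm, geom_sum_mul]
  rw [h3] at h2
  have hne : (a : ℤ) ^ n' - 1 ≠ 0 := by
    have h4 : (2 : ℤ) ^ n' ≤ (a : ℤ) ^ n' := pow_le_pow_left₀ (by norm_num) (by exact_mod_cast ha) n'
    have h5 : (2 : ℤ) ≤ 2 ^ n' := by
      calc (2 : ℤ) = 2 ^ 1 := by norm_num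
        _ ≤ 2 ^ n' := pow_le_pow_right₀ (by norm_num) hn'
    omega
  exact Int.dvd_of_mul_dvd_mul_left hne h2

theorem geom_not_sq_odd (b r : ℕ) (hb : 2 ≤ b) (hr : r.Prime) (hodd : Odd r)
    (hdvd : r ∣ ∑ i ∈ Finset.range r, b ^ i) : ¬ r ^ 2 ∣ ∑ i ∈ Finset.range r, b ^ i := by
  have hfact : Fact r.Prime := ⟨hr⟩
  have hgeom : (∑ i ∈ Finset.range r, b ^ i) * (b - 1) = b ^ r - 1 := by
    have h1 : (1 : ℕ) ≤ b := by omega
    have h2 : 1 ≤ b ^ r := Nat.one_le_pow _ _ h1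
    zify [h1, h2]
    exact geom_sum_mul (b : ℤ) r
  have hS0 : (∑ i ∈ Finset.range r, b ^ i) ≠ 0 := by
    intro h
    rw [h, zero_mul] at hgeom
    have : 2 ^ r ≤ b ^ r := Nat.pow_le_pow_left hb r
    have : 2 ≤ 2 ^ r := by
      calc 2 = 2 ^ 1 := by norm_num
        _ ≤ 2 ^ r := Nat.pow_le_pow_right (by norm_num) hr.pos
    omega
  have hb1 : r ∣ b - 1 := by
    have h1 : r ∣ b ^ r - 1 := hgeom ▸ Dvd.dvd.mul_right hdvd _
    have h2 : ((b : ZMod r)) ^ r = 1 := by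
      rw [← ZMod.natCast_eq_zero_iff, Nat.cast_sub (Nat.one_le_pow _ _ (by omega)), Nat.cast_pow,
        Nat.cast_one, sub_eq_zero] at h1
      exact h1
    rw [ZMod.pow_card] at h2
    rw [← ZMod.natCast_eq_zero_iff, Nat.cast_sub (by omega), Nat.cast_one, sub_eq_zero]
    exact h2
  have hbr : ¬ r ∣ b := by
    intro h
    have : r ∣ 1 := by
      have h3 : b - (b - 1) = 1 := by omega
      rw [← h3]
      exact Nat.dvd_sub h hb1
    exact hr.one_lt.ne' (Nat.dvd_one.mp this)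
  have hlte := padicValNat.pow_sub_pow hodd (x := b) (y := 1) (by omega) hb1 hbr (n := r) hr.ne_zero
  rw [one_pow, padicValNat_self] at hlte
  rw [← hgeom, padicValNat.mul hS0 (by omega)] at hlte
  have hv : padicValNat r (∑ i ∈ Finset.range r, b ^ i) = 1 := by omega
  intro h2
  have := (padicValNat_dvd_iff_le hS0).mp h2
  omega

theorem geom_not_sq_two (c : ℕ) (hdvd : 2 ∣ ∑ i ∈ Finset.range 2, (c ^ 2) ^ i) :
    ¬ 2 ^ 2 ∣ ∑ i ∈ Finset.range 2, (c ^ 2) ^ i := by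
  rw [Finset.sum_range_succ, Finset.sum_range_one] at hdvd ⊢
  simp only [pow_zero, pow_one] at hdvd ⊢
  have h4 : c % 4 = 0 ∨ c % 4 = 1 ∨ c % 4 = 2 ∨ c % 4 = 3 := by omega
  have hc2 : c ^ 2 % 4 = (c % 4) ^ 2 % 4 := Nat.pow_mod c 2 4
  rcases h4 with h | h | h | h <;> rw [h] at hc2 <;> norm_num at hc2 <;> omega



theorem bound_sq (a n' r : ℕ) (ha : 2 ≤ a) (hr : r.Prime) (hn' : 1 < n') (hdiv : r ∣ n')
    (heq : (cyclotomic (n' * r) ℤ).eval (a : ℤ) = r) : False := by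
  have h1 := cyclotomic_expand_eq_cyclotomic hr hdiv ℤ
  have h2 : (cyclotomic (n' * r) ℤ).eval (a : ℤ) = (cyclotomic n' ℤ).eval ((a : ℤ) ^ r) := by
    rw [← h1, expand_eval]
  have h3 := sub_one_lt_natAbs_cyclotomic_eval (n := n') (q := a ^ r) hn' (by
    have : 2 ^ r ≤ a ^ r := Nat.pow_le_pow_left ha r
    have : r < 2 ^ r := Nat.lt_two_pow_self
    have := hr.two_le
    omega)
  rw [Nat.cast_pow, ← h2, heq, Int.natAbs_natCast] at h3
  have : 2 ^ r ≤ a ^ r := Nat.pow_le_pow_left ha r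
  have : r < 2 ^ r := Nat.lt_two_pow_self
  omega

theorem geom_gt (a : ℕ) (ha : 2 ≤ a) (r : ℕ) : r + 2 < ∑ i ∈ Finset.range (r + 2), (a : ℤ) ^ i := by
  induction r with
  | zero =>
    rw [Finset.sum_range_succ, Finset.sum_range_one]
    have : (2 : ℤ) ≤ a := by exact_mod_cast ha
    simp
    omega
  | succ r ih =>
    rw [Finset.sum_range_succ]
    have : (1 : ℤ) ≤ (a : ℤ) ^ (r + 2) := one_le_pow₀ (by exact_mod_cast (by omega : 1 ≤ a))
    push_cast at ih ⊢
    omega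

theorem bound_prime (a r : ℕ) (ha : 2 ≤ a) (hr : r.Prime)
    (heq : (cyclotomic r ℤ).eval (a : ℤ) = r) : False := by
  have hfact : Fact r.Prime := ⟨hr⟩
  rw [cyclotomic_prime ℤ r, eval_finsetSum] at heq
  simp only [eval_pow, eval_X] at heq
  obtain ⟨s, rfl⟩ : ∃ s, r = s + 2 := ⟨r - 2, by have := hr.two_le; omega⟩
  have := geom_gt a ha s
  rw [heq] at this
  push_cast at this
  omega

theorem bound_mul (a m r : ℕ) (ha : 2 ≤ a) (hr : 1 ≤ r) (hm : 2 ≤ m)
    (hmul : (cyclotomic m ℤ).eval ((a : ℤ) ^ r) = r * (cyclotomic m ℤ).eval (a : ℤ)) :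
    a ^ r < r * (a + 1) + 1 := by
  by_contra hcon
  push Not at hcon
  have ha1 : (1 : ℝ) < (a : ℝ) := by exact_mod_cast (by omega : 1 < a)
  have har : (1 : ℝ) < (a : ℝ) ^ r := by
    have h1 : 1 < a ^ r := by
      have : 0 < r * (a + 1) := Nat.mul_pos hr (by omega)
      omega
    exact_mod_cast h1
  have e1 := cyclotomic.eval_apply (a : ℤ) m (Int.castRingHom ℝ)
  have e2 := cyclotomic.eval_apply ((a : ℤ) ^ r) m (Int.castRingHom ℝ)
  simp only [eq_intCast, Int.cast_natCast, Int.cast_pow] at e1 e2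
  have hreal : (cyclotomic m ℝ).eval ((a : ℝ) ^ r) = r * (cyclotomic m ℝ).eval (a : ℝ) := by
    rw [e1, e2, hmul]
    push_cast
    ring
  have hlow := sub_one_pow_totient_lt_cyclotomic_eval (n := m) (q := (a : ℝ) ^ r) hm har
  have hupp := cyclotomic_eval_le_add_one_pow_totient (q := (a : ℝ)) ha1 m
  have ht : 0 < Nat.totient m := Nat.totient_pos.mpr (by omega)
  have hge : ((r : ℝ) * ((a : ℝ) + 1)) ≤ (a : ℝ) ^ r - 1 := by
    have : r * (a + 1) ≤ a ^ r - 1 := by omega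
    have h2 : ((r * (a + 1) : ℕ) : ℝ) ≤ ((a ^ r - 1 : ℕ) : ℝ) := by exact_mod_cast this
    rw [Nat.cast_sub (by omega)] at h2
    push_cast at h2
    exact h2
  have hpos : (0 : ℝ) ≤ (r : ℝ) * ((a : ℝ) + 1) := by positivity
  have h3 : ((r : ℝ) * ((a : ℝ) + 1)) ^ Nat.totient m ≤ ((a : ℝ) ^ r - 1) ^ Nat.totient m :=
    pow_le_pow_left₀ hpos hge _
  have h4 : (r : ℝ) * ((a : ℝ) + 1) ^ Nat.totient m ≤ ((r : ℝ) * ((a : ℝ) + 1)) ^ Nat.totient m := by
    rw [mul_pow]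
    apply mul_le_mul_of_nonneg_right _ (by positivity)
    have hr1 : (1 : ℝ) ≤ (r : ℝ) := by exact_mod_cast hr
    calc (r : ℝ) = (r : ℝ) ^ 1 := by ring
      _ ≤ (r : ℝ) ^ Nat.totient m := pow_le_pow_right₀ hr1 ht
  have h5 : (r : ℝ) * (cyclotomic m ℝ).eval (a : ℝ) ≤ (r : ℝ) * ((a : ℝ) + 1) ^ Nat.totient m :=
    mul_le_mul_of_nonneg_left hupp (by positivity)
  linarith



theorem pow_bound (a : ℕ) (ha : 2 ≤ a) (s : ℕ) : (s + 4) * (a + 1) + 1 ≤ a ^ (s + 4) := by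
  obtain ⟨b, rfl⟩ : ∃ b, a = b + 2 := ⟨a - 2, by omega⟩
  induction s with
  | zero =>
    have h1 : 2 ^ 2 ≤ (b + 2) ^ 2 := Nat.pow_le_pow_left (by omega) 2
    have h2 : (b + 2) ^ (0 + 4) = (b + 2) ^ 2 * (b + 2) ^ 2 := by ring
    rw [h2]
    nlinarith [Nat.zero_le (b * b)]
  | succ s ih =>
    have h2 : (b + 2) ^ (s + 1 + 4) = (b + 2) ^ (s + 4) * (b + 2) := by ring
    rw [h2]
    have h3 := Nat.mul_le_mul_right (b + 2) ih
    nlinarith [Nat.zero_le (s * b), Nat.zero_le (b * b), Nat.zero_le (s * b * b)]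

theorem arith_end (a r : ℕ) (ha : 2 ≤ a) (hr : 3 ≤ r) (h : a ^ r < r * (a + 1) + 1) :
    r = 3 ∧ a = 2 := by
  have hr3 : r = 3 := by
    by_contra hne
    obtain ⟨s, rfl⟩ : ∃ s, r = s + 4 := ⟨r - 4, by omega⟩
    have := pow_bound a ha s
    omega
  subst hr3
  refine ⟨rfl, ?_⟩
  by_contra hne
  have ha3 : 3 ≤ a := by omega
  have h1 : 3 ^ 2 ≤ a ^ 2 := Nat.pow_le_pow_left ha3 2
  have h2 : a ^ 3 = a ^ 2 * a := by ring
  rw [h2] at h
  nlinarith


theorem not_sq_dvd (a n' r : ℕ) (ha : 2 ≤ a) (hr : r.Prime) (hn' : 0 < n')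
    (h2 : r = 2 → Even n')
    (hdvd : (r : ℤ) ∣ (cyclotomic (r * n') ℤ).eval (a : ℤ)) :
    ¬ ((r : ℤ) ^ 2 ∣ (cyclotomic (r * n') ℤ).eval (a : ℤ)) := by
  intro hsq
  have hS := cyclo_dvd_geom a n' r ha hr.two_le hn'
  have hcast : (∑ i ∈ Finset.range r, ((a : ℤ) ^ n') ^ i) =
      ((∑ i ∈ Finset.range r, (a ^ n') ^ i : ℕ) : ℤ) := by push_cast; rfl
  rw [hcast] at hS
  have h1 : r ∣ ∑ i ∈ Finset.range r, (a ^ n') ^ i :=
    Int.natCast_dvd_natCast.mp (hdvd.trans hS)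
  have h3 : r ^ 2 ∣ ∑ i ∈ Finset.range r, (a ^ n') ^ i := by
    have := hsq.trans hS
    exact_mod_cast this
  have hb : 2 ≤ a ^ n' := by
    calc 2 ≤ a := ha
      _ = a ^ 1 := (pow_one a).symm
      _ ≤ a ^ n' := Nat.pow_le_pow_right (by omega) hn'
  rcases hr.eq_two_or_odd' with h | h
  · subst h
    obtain ⟨c, hc⟩ := h2 rfl
    have hpow : a ^ n' = (a ^ c) ^ 2 := by rw [hc, ← pow_mul]; congr 1; omega
    rw [hpow] at h1 h3
    exact geom_not_sq_two (a ^ c) h1 h3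
  · exact geom_not_sq_odd (a ^ n') r hb hr h h1 h3

theorem result (a n : ℕ) (ha : 1 < a) (hn : 1 < n) (h6 : ¬ (a = 2 ∧ n = 6)) (h2 : ¬ (n = 2 ∧ ∃ m : ℕ, a + 1 = 2 ^ m)) : ∃ r : ℕ, r.Prime ∧ r ∣ a ^ n - 1 ∧ ∀ k : ℕ, 0 < k → k < n → ¬ r ∣ a ^ k - 1 := by
  by_contra hcon
  push Not at hcon
  rcases Nat.lt_or_ge 2 n with hn3 | hn2
  · obtain ⟨N, hN⟩ : ∃ N : ℕ, (N : ℤ) = (cyclotomic n ℤ).eval (a : ℤ) := by
      have hpos : 0 < (cyclotomic n ℤ).eval (a : ℤ) := cyclotomic_pos' n (by exact_mod_cast ha)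
      exact ⟨((cyclotomic n ℤ).eval (a : ℤ)).natAbs, Int.natAbs_of_nonneg hpos.le⟩
    have hN2 : 1 < N := by
      have h1 := sub_one_lt_natAbs_cyclotomic_eval (n := n) (q := a) hn (by omega)
      rw [← hN, Int.natAbs_natCast] at h1
      omega
    have hNdvd : N ∣ a ^ n - 1 := by
      have h1 := eval_dvd (x := (a : ℤ)) (cyclotomic.dvd_X_pow_sub_one n ℤ)
      simp only [eval_sub, eval_pow, eval_X, eval_one] at h1
      rw [← hN] at h1
      have h3 : ((a ^ n - 1 : ℕ) : ℤ) = (a : ℤ) ^ n - 1 := by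
        rw [Nat.cast_sub (Nat.one_le_pow _ _ (by omega))]
        push_cast
        ring
      rw [← h3] at h1
      exact Int.natCast_dvd_natCast.mp h1
    have key : ∀ r : ℕ, r.Prime → r ∣ N → ∃ k m, n = r ^ (k + 1) * m ∧ ¬ r ∣ m ∧ m ∣ r - 1 := by
      intro r hr hrN
      have hrZ : (r : ℤ) ∣ (cyclotomic n ℤ).eval (a : ℤ) := by
        rw [← hN]
        exact Int.natCast_dvd_natCast.mpr hrN
      obtain ⟨k, m, hnkm, hm, hord⟩ := order_of_dvd a n r hr (by omega) hrZ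
      have hfact : Fact r.Prime := ⟨hr⟩
      obtain ⟨j, hj0, hjn, hj⟩ := hcon r hr (hrN.trans hNdvd)
      rw [dvd_pow_sub_one_iff a r j (by omega)] at hj
      have hmj : m ∣ j := hord ▸ orderOf_dvd_of_pow_eq_one hj
      have hm1 : m ∣ r - 1 := by
        rw [← hord]
        have hne : (a : ZMod r) ≠ 0 := by
          intro h0
          rw [h0, zero_pow hj0.ne'] at hj
          exact zero_ne_one hj
        exact orderOf_dvd_of_pow_eq_one (ZMod.pow_card_sub_one_eq_one hne)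
      rcases Nat.eq_zero_or_pos k with rfl | hk
      · exfalso
        rw [pow_zero, one_mul] at hnkm
        have := Nat.le_of_dvd hj0 hmj
        omega
      · exact ⟨k - 1, m, by rw [Nat.sub_add_cancel hk]; exact hnkm, hm, hm1⟩
    obtain ⟨r, hrp, hrN⟩ : ∃ r : ℕ, r.Prime ∧ r ∣ N :=
      ⟨N.minFac, Nat.minFac_prime (by omega), Nat.minFac_dvd N⟩
    obtain ⟨k, m, hnkm, hm, hm1⟩ := key r hrp hrN
    have hm0 : 0 < m := by
      rcases Nat.eq_zero_or_pos m with rfl | h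
      · rw [mul_zero] at hnkm; omega
      · exact h
    have huniq : ∀ s : ℕ, s.Prime → s ∣ N → s = r := by
      intro s hs hsN
      obtain ⟨k', m', hnkm', hm', hm1'⟩ := key s hs hsN
      by_contra hne
      have h1 : s ∣ m := by
        have h3 : s ∣ r ^ (k + 1) * m := hnkm ▸ (hnkm' ▸ Dvd.dvd.mul_right (dvd_pow_self s (by omega)) m')
        rcases (Nat.Prime.dvd_mul hs).mp h3 with h | h
        · exact absurd ((Nat.prime_dvd_prime_iff_eq hs hrp).mp (hs.dvd_of_dvd_pow h)) hne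
        · exact h
      have h2' : r ∣ m' := by
        have h3 : r ∣ s ^ (k' + 1) * m' := hnkm' ▸ (hnkm ▸ Dvd.dvd.mul_right (dvd_pow_self r (by omega)) m)
        rcases (Nat.Prime.dvd_mul hrp).mp h3 with h | h
        · exact absurd ((Nat.prime_dvd_prime_iff_eq hrp hs).mp (hrp.dvd_of_dvd_pow h)).symm hne
        · exact h
      have h4 : s ≤ r - 1 := Nat.le_of_dvd (by have := hrp.two_le; omega) (h1.trans hm1)
      have h5 : r ≤ s - 1 := Nat.le_of_dvd (by have := hs.two_le; omega) (h2'.trans hm1')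
      omega
    have hNpow : N = r ^ N.primeFactorsList.length :=
      Nat.eq_prime_pow_of_unique_prime_dvd (by omega) (fun {d} hd hdN => huniq d hd hdN)
    have hn' : n = r * (r ^ k * m) := by rw [hnkm, pow_succ]; ring
    have hnsq : ¬ r ^ 2 ∣ N := by
      have hpos' : 0 < r ^ k * m := Nat.mul_pos (pow_pos hrp.pos k) hm0
      have h2e : r = 2 → Even (r ^ k * m) := by
        intro hr2
        subst hr2
        have hm1' : m = 1 := by
          have := Nat.le_of_dvd (by norm_num) hm1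
          omega
        subst hm1'
        rw [mul_one] at hn' ⊢
        rcases Nat.eq_zero_or_pos k with rfl | hk
        · simp at hn'; omega
        · exact (Nat.even_pow.mpr ⟨even_two, hk.ne'⟩)
      have hdvd' : (r : ℤ) ∣ (cyclotomic (r * (r ^ k * m)) ℤ).eval (a : ℤ) := by
        rw [← hn', ← hN]
        exact Int.natCast_dvd_natCast.mpr hrN
      have := not_sq_dvd a (r ^ k * m) r (by omega) hrp hpos' h2e hdvd'
      rw [← hn', ← hN] at this
      intro hsq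
      apply this
      exact_mod_cast hsq
    have hNr : N = r := by
      have he1 : N.primeFactorsList.length ≠ 0 := by
        intro h0
        rw [hNpow, h0] at hN2
        simp at hN2
      have he2 : N.primeFactorsList.length < 2 := by
        by_contra hge
        push Not at hge
        apply hnsq
        rw [hNpow]
        exact pow_dvd_pow r hge
      have he : N.primeFactorsList.length = 1 := by omega
      rw [hNpow, he, pow_one]
    have heq : (cyclotomic n ℤ).eval (a : ℤ) = r := by rw [← hN, hNr]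
    rcases Nat.eq_zero_or_pos k with rfl | hk
    · simp only [zero_add, pow_one] at hnkm
      rcases Nat.lt_or_ge m 2 with hm2 | hm2
      · have hm1' : m = 1 := by omega
        subst hm1'
        rw [mul_one] at hnkm
        rw [hnkm] at heq
        exact bound_prime a r (by omega) hrp heq
      · have hexp := cyclotomic_expand_eq_cyclotomic_mul hrp hm ℤ
        have hmul : (cyclotomic m ℤ).eval ((a : ℤ) ^ r) = r * (cyclotomic m ℤ).eval (a : ℤ) := by
          rw [← expand_eval, hexp, eval_mul, mul_comm m r, ← hnkm, heq]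
        have hb := bound_mul a m r (by omega) hrp.one_lt.le hm2 hmul
        have hr3 : 3 ≤ r := by
          have := Nat.le_of_dvd (by have := hrp.two_le; omega) hm1
          omega
        obtain ⟨hr3', ha2⟩ := arith_end a r (by omega) hr3 hb
        rw [hr3'] at hm1
        have hm2' : m = 2 := by
          have := Nat.le_of_dvd (by norm_num) hm1
          omega
        exact h6 ⟨ha2, by rw [hnkm, hr3', hm2']⟩
    · have hn'' : n = (r ^ k * m) * r := by rw [hn']; ring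
      have hdiv : r ∣ r ^ k * m := Dvd.dvd.mul_right (dvd_pow_self r hk.ne') m
      have hn'1 : 1 < r ^ k * m := by
        have h1 : r ^ 1 ≤ r ^ k := Nat.pow_le_pow_right hrp.pos hk
        have h2' := hrp.two_le
        rw [pow_one] at h1
        nlinarith
      exact bound_sq a (r ^ k * m) r (by omega) hrp hn'1 hdiv (hn'' ▸ heq)
  · have hn2' : n = 2 := by omega
    subst hn2'
    apply h2
    refine ⟨rfl, ?_⟩
    have huniq : ∀ {d : ℕ}, d.Prime → d ∣ a + 1 → d = 2 := by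
      intro d hd hda
      have h1 : d ∣ a ^ 2 - 1 := by
        have h3 : a ^ 2 - 1 = (a + 1) * (a - 1) := by
          obtain ⟨b, rfl⟩ : ∃ b, a = b + 1 := ⟨a - 1, by omega⟩
          simp only [Nat.add_sub_cancel]
          have : (b + 1) ^ 2 = (b + 1 + 1) * b + 1 := by ring
          omega
        rw [h3]
        exact Dvd.dvd.mul_right hda _
      obtain ⟨k, hk0, hk2, hk⟩ := hcon d hd h1
      have hk1 : k = 1 := by omega
      subst hk1
      rw [pow_one] at hk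
      have h4 : d ∣ 2 := by
        have h3 : (a + 1) - (a - 1) = 2 := by omega
        rw [← h3]
        exact Nat.dvd_sub hda hk
      exact (Nat.prime_dvd_prime_iff_eq hd Nat.prime_two).mp h4
    exact ⟨_, Nat.eq_prime_pow_of_unique_prime_dvd (by omega) huniq⟩

end Cfsg.Agent.S2904
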