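import Mathlib
import Cfsg.Statements.S5947
import Cfsg.Agent.S2904

set_option autoImplicit false
open Cfsg

namespace Cfsg.Agent.S5947


theorem geom_parity (p : ℕ) (hp : Odd p) (f : ℕ) :
    Odd (∑ i ∈ Finset.range f, (-(p : ℤ)) ^ i) ↔ Odd f := by
  induction f with
  | zero => simp
  | succ f ih =>
    have hx : Odd ((-(p : ℤ)) ^ f) := (Odd.neg (by exact_mod_cast hp)).pow
    rw [Finset.sum_range_succ, Int.odd_add, ih, Nat.odd_add_one]
    constructor
    · intro h hf
      exact (Int.not_even_iff_odd.mpr hx) (h.mp hf)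
    · intro h
      constructor
      · intro hf
        exact absurd hf h
      · intro he
        exact absurd he (Int.not_even_iff_odd.mpr hx)

theorem pp_lemma (p f m : ℕ) (hp : p.Prime) (hf : 0 < f) (h : p ^ f + 1 = 2 ^ m) : f = 1 := by
  have hpodd : Odd p := by
    rcases hp.eq_two_or_odd' with h2 | h2
    · exfalso
      subst h2
      rcases Nat.eq_zero_or_pos m with rfl | hm
      · simp at h
      · have h1 : 2 ∣ 2 ^ m := dvd_pow_self 2 hm.ne'
        have h2 : 2 ∣ 2 ^ f := dvd_pow_self 2 hf.ne'
        omega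
    · exact h2
  by_contra hf1
  rcases Nat.even_or_odd f with hev | hodd
  · obtain ⟨g, hg⟩ := hev
    have hg0 : 0 < g := by omega
    have hs : p ^ f = (p ^ g) ^ 2 := by rw [hg, ← pow_mul]; congr 1; omega
    have hsodd : Odd (p ^ g) := hpodd.pow
    have h4 : (p ^ g) ^ 2 % 4 = 1 := by
      obtain ⟨t, ht⟩ := hsodd
      rw [ht]
      have : (2 * t + 1) ^ 2 = 4 * (t * t + t) + 1 := by ring
      omega
    rw [hs] at h
    have hm1 : m = 1 := by
      rcases Nat.lt_or_ge m 2 with hm | hm
      · rcases Nat.eq_zero_or_pos m with rfl | hm0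
        · rw [pow_zero] at h
          omega
        · omega
      · exfalso
        have : 4 ∣ 2 ^ m := by
          have : (2 : ℕ) ^ 2 ∣ 2 ^ m := pow_dvd_pow 2 hm
          simpa using this
        omega
    subst hm1
    have : 2 ≤ p ^ g := by
      calc 2 ≤ p := hp.two_le
        _ = p ^ 1 := (pow_one p).symm
        _ ≤ p ^ g := Nat.pow_le_pow_right hp.pos hg0
    nlinarith
  · have hgeo := geom_sum_mul (-(p : ℤ)) f
    rw [hodd.neg_pow] at hgeo
    have hc : (∑ i ∈ Finset.range f, (-(p : ℤ)) ^ i) * ((p : ℤ) + 1) = (p : ℤ) ^ f + 1 := by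
      linear_combination -hgeo
    have hcodd : Odd (∑ i ∈ Finset.range f, (-(p : ℤ)) ^ i) := (geom_parity p hpodd f).mpr hodd
    have hdvd : (∑ i ∈ Finset.range f, (-(p : ℤ)) ^ i) ∣ (2 : ℤ) ^ m := by
      have : ((p ^ f + 1 : ℕ) : ℤ) = (2 : ℤ) ^ m := by rw [h]; push_cast; rfl
      rw [← this]
      push_cast
      rw [← hc]
      exact Dvd.intro _ rfl
    have hnat : (∑ i ∈ Finset.range f, (-(p : ℤ)) ^ i).natAbs ∣ 2 ^ m := by
      have := Int.natAbs_dvd_natAbs.mpr hdvd
      simpa [Int.natAbs_pow] using this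
    obtain ⟨j, hj, hj'⟩ := (Nat.dvd_prime_pow Nat.prime_two).mp hnat
    have hj0 : j = 0 := by
      by_contra hj0
      have h2 : 2 ∣ (∑ i ∈ Finset.range f, (-(p : ℤ)) ^ i).natAbs := by
        rw [hj']
        exact dvd_pow_self 2 hj0
      have h3 : Odd (∑ i ∈ Finset.range f, (-(p : ℤ)) ^ i).natAbs := Int.natAbs_odd.mpr hcodd
      rcases h3 with ⟨t, ht⟩
      omega
    rw [hj0, pow_zero] at hj'
    have habs := congrArg Int.natAbs hc
    rw [Int.natAbs_mul, hj', one_mul] at habs
    have h5 : ((p : ℤ) + 1).natAbs = p + 1 := by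
      have : ((p : ℤ) + 1) = ((p + 1 : ℕ) : ℤ) := by push_cast; rfl
      rw [this, Int.natAbs_natCast]
    have h6 : ((p : ℤ) ^ f + 1).natAbs = p ^ f + 1 := by
      have : ((p : ℤ) ^ f + 1) = ((p ^ f + 1 : ℕ) : ℤ) := by push_cast; rfl
      rw [this, Int.natAbs_natCast]
    rw [h5, h6] at habs
    have h7 : p ^ f = p ^ 1 := by rw [pow_one]; omega
    exact hf1 (Nat.pow_right_injective hp.two_le h7)



theorem invariant_card {F K : Type*} [Field F] [AddCommGroup K] [Module F K] [Finite K]
    (r : ℕ) (hr : r.Prime) (g : Module.End F K) (hg : g ^ r = 1) (W : Submodule F K)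
    (hW : ∀ w ∈ W, g w ∈ W) :
    Nat.card W ≡ Nat.card ↥(W ⊓ LinearMap.ker (g - 1)) [MOD r] := by
  classical
  have hfact : Fact r.Prime := ⟨hr⟩
  have hfin : Fintype W := Fintype.ofFinite W
  let f : Function.End W := fun w => ⟨g w, hW w w.2⟩
  have hpow : ∀ (k : ℕ) (w : W), (((f ^ k) w : W) : K) = (g ^ k) w.1 := by
    intro k
    induction k with
    | zero => intro w; rfl
    | succ k ih =>
      intro w
      rw [pow_succ, pow_succ]
      exact ih (f w)
  have hf : f ^ r ^ 1 = 1 := by
    rw [pow_one]
    funext w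
    apply Subtype.ext
    rw [hpow, hg]
    rfl
  have h1 := Equiv.Perm.card_fixedPoints_modEq (f := f) hf
  rw [← Nat.card_eq_fintype_card, ← Nat.card_eq_fintype_card] at h1
  have e : Function.fixedPoints f ≃ ↥(W ⊓ LinearMap.ker (g - 1)) :=
    { toFun := fun w => ⟨w.1.1, Submodule.mem_inf.mpr ⟨w.1.2, by
        rw [LinearMap.mem_ker, LinearMap.sub_apply, sub_eq_zero]
        exact congrArg Subtype.val w.2⟩⟩
      invFun := fun x => ⟨⟨x.1, (Submodule.mem_inf.mp x.2).1⟩, by
        have h2 := (Submodule.mem_inf.mp x.2).2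
        rw [LinearMap.mem_ker, LinearMap.sub_apply, sub_eq_zero] at h2
        exact Subtype.ext h2⟩
      left_inv := fun w => rfl
      right_inv := fun x => rfl }
  rw [Nat.card_congr e] at h1
  exact h1


theorem invariant_trivial {F K : Type*} [Field F] [Finite F] [AddCommGroup K] [Module F K]
    [Finite K] (n : ℕ) (hn : Module.finrank F K = n)
    (r : ℕ) (hr : r.Prime) (hrdvd : r ∣ Nat.card F ^ n - 1)
    (hprim : ∀ k, 0 < k → k < n → ¬ r ∣ Nat.card F ^ k - 1)
    (g : Module.End F K) (hg : g ^ r = 1) (hg1 : g ≠ 1) (W : Submodule F K)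
    (hW : ∀ w ∈ W, g w ∈ W) : W = ⊥ ∨ W = ⊤ := by
  have hmf : Module.Finite F K := Module.Finite.of_finite
  have hq1 : 1 ≤ Nat.card F := Nat.card_pos
  have hcard : ∀ V : Submodule F K, Nat.card V = Nat.card F ^ Module.finrank F V :=
    fun V => Module.natCard_eq_pow_finrank
  have hle : ∀ V : Submodule F K, Module.finrank F V ≤ n := fun V => hn ▸ Submodule.finrank_le V
  have hdich : ∀ V : Submodule F K, Nat.card V ≡ 1 [MOD r] → V = ⊥ ∨ V = ⊤ := by
    intro V hV
    rw [hcard V] at hV
    have hd : r ∣ Nat.card F ^ Module.finrank F V - 1 :=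
      (Nat.modEq_iff_dvd' (Nat.one_le_pow _ _ hq1)).mp hV.symm
    rcases Nat.eq_zero_or_pos (Module.finrank F V) with h0 | hpos
    · left
      exact Submodule.finrank_eq_zero.mp h0
    · right
      rcases Nat.lt_or_ge (Module.finrank F V) n with hlt | hge
      · exact absurd hd (hprim _ hpos hlt)
      · exact Submodule.eq_top_of_finrank_eq (by rw [hn]; exact le_antisymm (hle V) hge)
  have hKcard : Nat.card (⊤ : Submodule F K) ≡ 1 [MOD r] := by
    rw [hcard ⊤, finrank_top, hn]
    exact ((Nat.modEq_iff_dvd' (Nat.one_le_pow _ _ hq1)).mpr hrdvd).symm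
  have hV0 : LinearMap.ker (g - 1) = ⊥ := by
    have h1 := invariant_card r hr g hg ⊤ (fun w _ => Submodule.mem_top)
    rw [top_inf_eq] at h1
    rcases hdich _ (h1.symm.trans hKcard) with h | h
    · exact h
    · exfalso
      apply hg1
      have : g - 1 = 0 := LinearMap.ker_eq_top.mp h
      exact sub_eq_zero.mp this
  have h2 := invariant_card r hr g hg W hW
  rw [hV0, inf_bot_eq] at h2
  apply hdich W
  refine h2.trans ?_
  rw [hcard ⊥, finrank_bot, pow_zero]


open Polynomial in
theorem result {F K : Type*} [Field F] [Fintype F] [Field K] [Fintype K] [Algebra F K] (n : ℕ) (hn : 2 ≤ n) (hdim : Module.finrank F K = n)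
    (hex1 : ¬ (n = 6 ∧ Fintype.card F = 2))
    (hex2 : ¬ (n = 2 ∧ (Fintype.card F).Prime ∧ ∃ a : ℕ, Fintype.card F + 1 = 2 ^ a))
    (U : Subgroup (Module.End F K)ˣ) (hU : IsMulCommutative U) (hcard : Nat.card U = Fintype.card K - 1) :
    ∃ g : (Module.End F K)ˣ, U.map (MulAut.conj g).toMonoidHom = (Units.map ((Algebra.lmul F K : K →ₐ[F] Module.End F K) : K →* Module.End F K)).range := by
  classical
  have hq1 : 1 < Fintype.card F := Fintype.one_lt_card
  have hKcard : Fintype.card K = Fintype.card F ^ n := by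
    rw [← hdim, ← Nat.card_eq_fintype_card, ← Nat.card_eq_fintype_card]
    exact Module.natCard_eq_pow_finrank
  have hK1 : 1 < Fintype.card K := Fintype.one_lt_card
  obtain ⟨r, hr, hrdvd, hprim⟩ := Cfsg.Agent.S2904.result (Fintype.card F) n hq1 (by omega)
    (fun h => hex1 ⟨h.2, h.1⟩) (by
      rintro ⟨hn2, m, hm⟩
      apply hex2
      refine ⟨hn2, ?_, m, hm⟩
      obtain ⟨p, _, f, hp, hpf⟩ := FiniteField.card' F
      rw [hpf] at hm ⊢
      have := pp_lemma p f m hp f.pos hm
      rw [this, pow_one]
      exact hp)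
  have hfact : Fact r.Prime := ⟨hr⟩
  have hEfin : Finite (Module.End F K) :=
    Finite.of_injective (fun f : Module.End F K => (f : K → K)) DFunLike.coe_injective
  have hEufin : Finite (Module.End F K)ˣ := inferInstance
  obtain ⟨g, hg⟩ := exists_prime_orderOf_dvd_card' (G := U) r (by rw [hcard, hKcard]; exact hrdvd)
  obtain ⟨γu, hγU⟩ := g
  have hγo : orderOf γu = r := by
    rw [← hg]
    exact (Subgroup.orderOf_coe (⟨γu, hγU⟩ : U))
  have hγr : (γu : Module.End F K) ^ r = 1 := by
    have h1 : γu ^ r = 1 := by rw [← hγo]; exact pow_orderOf_eq_one γu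
    have h2 := congrArg Units.val h1
    simpa using h2
  have hγ1 : (γu : Module.End F K) ≠ 1 := by
    intro h
    have h1 : γu = 1 := Units.ext h
    rw [h1, orderOf_one] at hγo
    exact hr.one_lt.ne hγo
  have hirr : ∀ W : Submodule F K, (∀ w ∈ W, (γu : Module.End F K) w ∈ W) → W = ⊥ ∨ W = ⊤ :=
    fun W hW => invariant_trivial n hdim r hr (by rwa [Nat.card_eq_fintype_card])
      (by simpa [Nat.card_eq_fintype_card] using hprim) (γu : Module.End F K) hγr hγ1 W hW
  have hDmem : ∀ T : Module.End F K, T ∈ Subalgebra.centralizer F {(γu : Module.End F K)} ↔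
      (γu : Module.End F K) * T = T * (γu : Module.End F K) := by
    intro T
    rw [Subalgebra.mem_centralizer_iff]
    simp
  have hinj : ∀ T : Module.End F K, T ∈ Subalgebra.centralizer F {(γu : Module.End F K)} →
      T ≠ 0 → Function.Injective T := by
    intro T hT hT0
    rw [← LinearMap.ker_eq_bot]
    rcases hirr (LinearMap.ker T) (by
      intro w hw
      rw [LinearMap.mem_ker] at hw ⊢
      have h1 := (hDmem T).mp hT
      have h2 : T ((γu : Module.End F K) w) = (γu : Module.End F K) (T w) := by
        have h3 := congrArg (fun S : Module.End F K => S w) h1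
        exact h3.symm
      rw [h2, hw, map_zero]) with h | h
    · exact h
    · exact absurd (LinearMap.ker_eq_top.mp h) hT0
  have hev : Function.Injective
      (fun T : Subalgebra.centralizer F {(γu : Module.End F K)} => (T : Module.End F K) 1) := by
    intro T S hTS
    by_contra hne
    have hsub : ((T - S : Subalgebra.centralizer F {(γu : Module.End F K)}) : Module.End F K) ≠ 0 := by
      intro h
      apply hne
      have h1 : T - S = 0 := Subtype.ext h
      exact sub_eq_zero.mp h1
    have h2 := hinj _ (T - S).2 hsub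
    have h0 : ((T - S : Subalgebra.centralizer F {(γu : Module.End F K)}) : Module.End F K) 1 = 0 := by
      have h3 : (T : Module.End F K) 1 = (S : Module.End F K) 1 := hTS
      simp [h3]
    exact one_ne_zero (h2 (h0.trans (map_zero _).symm))
  have hDle : Nat.card (Subalgebra.centralizer F {(γu : Module.End F K)}) ≤ Fintype.card K := by
    rw [← Nat.card_eq_fintype_card]
    exact Nat.card_le_card_of_injective _ hev
  have hUD : ∀ u : (Module.End F K)ˣ, u ∈ U →
      (u : Module.End F K) ∈ Subalgebra.centralizer F {(γu : Module.End F K)} := by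
    intro u hu
    rw [hDmem]
    have h1 := hU.is_comm.comm (⟨γu, hγU⟩ : U) ⟨u, hu⟩
    have h2 : γu * u = u * γu := congrArg Subtype.val h1
    have h3 := congrArg Units.val h2
    simpa using h3
  let ι : U → {T : Subalgebra.centralizer F {(γu : Module.End F K)} // T ≠ 0} :=
    fun u => ⟨⟨(u.1 : Module.End F K), hUD u.1 u.2⟩, fun h => by
      have h1 : (u.1 : Module.End F K) = 0 := congrArg Subtype.val h
      exact u.1.ne_zero h1⟩
  have hιinj : Function.Injective ι := by
    intro u v huv
    have h1 : (u.1 : Module.End F K) = (v.1 : Module.End F K) :=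
      congrArg (fun T : {T : Subalgebra.centralizer F {(γu : Module.End F K)} // T ≠ 0} =>
        ((T.1 : Subalgebra.centralizer F {(γu : Module.End F K)}) : Module.End F K)) huv
    exact Subtype.ext (Units.ext h1)
  have hfinD : Fintype (Subalgebra.centralizer F {(γu : Module.End F K)}) := Fintype.ofFinite _
  have hcardeq : Nat.card {T : Subalgebra.centralizer F {(γu : Module.End F K)} // T ≠ 0} =
      Fintype.card (Subalgebra.centralizer F {(γu : Module.End F K)}) - 1 := by
    rw [Nat.card_eq_fintype_card, Fintype.card_subtype_compl, Fintype.card_subtype_eq]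
  have hDle' : Fintype.card (Subalgebra.centralizer F {(γu : Module.End F K)}) ≤ Fintype.card K := by
    rw [Nat.card_eq_fintype_card] at hDle
    exact hDle
  have hbij : Function.Bijective ι :=
    hιinj.bijective_of_nat_card_le (by rw [hcardeq, hcard]; omega)
  have hDcard : Fintype.card (Subalgebra.centralizer F {(γu : Module.End F K)}) = Fintype.card K := by
    have h1 := Nat.card_congr (Equiv.ofBijective ι hbij)
    rw [hcardeq, hcard] at h1
    have h2 : 0 < Fintype.card (Subalgebra.centralizer F {(γu : Module.End F K)}) :=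
      Fintype.card_pos_iff.mpr ⟨0⟩
    omega
  have hsurj : ∀ T : Subalgebra.centralizer F {(γu : Module.End F K)}, T ≠ 0 →
      ∃ u : (Module.End F K)ˣ, u ∈ U ∧ (u : Module.End F K) = (T : Module.End F K) := by
    intro T hT0
    obtain ⟨u, hu⟩ := hbij.2 ⟨T, hT0⟩
    refine ⟨u.1, u.2, ?_⟩
    exact congrArg (fun T : {T : Subalgebra.centralizer F {(γu : Module.End F K)} // T ≠ 0} =>
          ((T.1 : Subalgebra.centralizer F {(γu : Module.End F K)}) : Module.End F K)) hu
  have hDfield : IsField (Subalgebra.centralizer F {(γu : Module.End F K)}) :=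
    { exists_pair_ne := ⟨0, 1, zero_ne_one⟩
      mul_comm := by
        intro T S
        by_cases hT : T = 0
        · rw [hT, zero_mul, mul_zero]
        by_cases hS : S = 0
        · rw [hS, zero_mul, mul_zero]
        obtain ⟨u, hu, huT⟩ := hsurj T hT
        obtain ⟨v, hv, hvS⟩ := hsurj S hS
        apply Subtype.ext
        show (T : Module.End F K) * (S : Module.End F K) = (S : Module.End F K) * (T : Module.End F K)
        rw [← huT, ← hvS]
        have h1 := hU.is_comm.comm (⟨u, hu⟩ : U) ⟨v, hv⟩
        have h2 : u * v = v * u := congrArg Subtype.val h1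
        have h3 := congrArg Units.val h2
        simpa using h3
      mul_inv_cancel := by
        intro T hT
        obtain ⟨u, hu, huT⟩ := hsurj T hT
        refine ⟨⟨((u⁻¹ : (Module.End F K)ˣ) : Module.End F K), hUD _ (U.inv_mem hu)⟩, Subtype.ext ?_⟩
        show (T : Module.End F K) * ((u⁻¹ : (Module.End F K)ˣ) : Module.End F K) = 1
        rw [← huT]
        exact u.mul_inv }
  let hDF : Field (Subalgebra.centralizer F {(γu : Module.End F K)}) := hDfield.toField
  have s1 : IsSplittingField F K (X ^ Fintype.card K - X : F[X]) := FiniteField.isSplittingField_sub K F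
  have s2 : IsSplittingField F (Subalgebra.centralizer F {(γu : Module.End F K)})
      (X ^ Fintype.card K - X : F[X]) := by
    have := FiniteField.isSplittingField_sub (Subalgebra.centralizer F {(γu : Module.End F K)}) F
    rw [hDcard] at this
    exact this
  let σ : K ≃ₐ[F] (Subalgebra.centralizer F {(γu : Module.End F K)}) :=
    (IsSplittingField.algEquiv K (X ^ Fintype.card K - X : F[X])).trans
      (IsSplittingField.algEquiv (Subalgebra.centralizer F {(γu : Module.End F K)})
        (X ^ Fintype.card K - X : F[X])).symm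
  let T0 : Module.End F K :=
    { toFun := fun x => ((σ x : Subalgebra.centralizer F {(γu : Module.End F K)}) : Module.End F K) 1
      map_add' := fun x y => by
        rw [map_add]
        rfl
      map_smul' := fun c x => by
        rw [map_smul]
        rfl }
  have hT0mul : ∀ x y : K, T0 (x * y) =
      ((σ x : Subalgebra.centralizer F {(γu : Module.End F K)}) : Module.End F K) (T0 y) := by
    intro x y
    show ((σ (x * y) : Subalgebra.centralizer F {(γu : Module.End F K)}) : Module.End F K) 1 =
      ((σ x : Subalgebra.centralizer F {(γu : Module.End F K)}) : Module.End F K)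
        (((σ y : Subalgebra.centralizer F {(γu : Module.End F K)}) : Module.End F K) 1)
    rw [map_mul]
    rfl
  have hT0inj : Function.Injective T0 := by
    rw [← LinearMap.ker_eq_bot, LinearMap.ker_eq_bot']
    intro x hx
    by_contra hx0
    have hσx : ((σ x : Subalgebra.centralizer F {(γu : Module.End F K)}) : Module.End F K) ≠ 0 := by
      intro h
      apply hx0
      have h1 : σ x = 0 := Subtype.ext h
      exact (map_eq_zero_iff σ σ.injective).mp h1
    have h2 := hinj _ (σ x).2 hσx
    exact one_ne_zero (h2 (hx.trans (map_zero _).symm))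
  have hT0surj : Function.Surjective T0 := Finite.surjective_of_injective hT0inj
  let g0 : (Module.End F K)ˣ :=
    LinearMap.GeneralLinearGroup.ofLinearEquiv (LinearEquiv.ofBijective T0 ⟨hT0inj, hT0surj⟩)
  have hg0 : (g0 : Module.End F K) = T0 := rfl
  refine ⟨g0⁻¹, ?_⟩
  apply Subgroup.eq_of_le_of_card_ge
  · rintro _ ⟨u, hu, rfl⟩
    have hx0 : σ.symm ⟨(u : Module.End F K), hUD u hu⟩ ≠ 0 := by
      intro h
      have h1 : (⟨(u : Module.End F K), hUD u hu⟩ : Subalgebra.centralizer F {(γu : Module.End F K)}) = 0 := by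
        have := congrArg σ h
        rw [AlgEquiv.apply_symm_apply, map_zero] at this
        exact this
      exact u.ne_zero (congrArg Subtype.val h1)
    refine ⟨Units.mk0 _ hx0, ?_⟩
    apply Units.ext
    have key : (g0 : Module.End F K) * (Algebra.lmul F K (σ.symm ⟨(u : Module.End F K), hUD u hu⟩)) =
        (u : Module.End F K) * (g0 : Module.End F K) := by
      apply LinearMap.ext
      intro y
      rw [hg0]
      show T0 (σ.symm ⟨(u : Module.End F K), hUD u hu⟩ * y) = (u : Module.End F K) (T0 y)
      rw [hT0mul, AlgEquiv.apply_symm_apply]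
    show Algebra.lmul F K (σ.symm ⟨(u : Module.End F K), hUD u hu⟩) =
      ((g0⁻¹ : (Module.End F K)ˣ) : Module.End F K) * (u : Module.End F K) *
        (((g0⁻¹)⁻¹ : (Module.End F K)ˣ) : Module.End F K)
    rw [inv_inv, mul_assoc, ← key, Units.inv_mul_cancel_left]
  · have h1 : Nat.card (U.map (MulAut.conj g0⁻¹).toMonoidHom) = Nat.card U :=
      Subgroup.card_map_of_injective (MulAut.conj g0⁻¹).injective
    rw [h1, hcard]
    have h2 : Nat.card (Units.map ((Algebra.lmul F K : K →ₐ[F] Module.End F K) :
        K →* Module.End F K)).range ≤ Nat.card Kˣ :=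
      Nat.card_le_card_of_surjective _ (MonoidHom.rangeRestrict_surjective _)
    rw [Nat.card_eq_fintype_card (α := Kˣ), Fintype.card_units] at h2
    exact h2


end Cfsg.Agent.S5947
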