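import Mathlib
import Cfsg.Statements.S2638
import Cfsg.Agent.S5947

set_option autoImplicit false
open Cfsg

namespace Cfsg.Agent.S2638

theorem cent_End {F V : Type*} [Field F] [Finite F] [AddCommGroup V] [Module F V] [Finite V]
    (n : ℕ) (hn : 1 ≤ n) (hdim : Module.finrank F V = n) (r : ℕ) (hr : r.Prime)
    (hrdvd : r ∣ Nat.card F ^ n - 1)
    (hprim : ∀ k, 0 < k → k < n → ¬ r ∣ Nat.card F ^ k - 1)
    (γu : (Module.End F V)ˣ) (hγo : orderOf γu = r) :
    IsCyclic ↥(Subgroup.centralizer ({γu} : Set (Module.End F V)ˣ)) ∧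
      Nat.card ↥(Subgroup.centralizer ({γu} : Set (Module.End F V)ˣ)) = Nat.card F ^ n - 1 := by
  classical
  have hmf : Module.Finite F V := Module.Finite.of_finite
  have hEfin : Finite (Module.End F V) :=
    Finite.of_injective (fun f : Module.End F V => (f : V → V)) DFunLike.coe_injective
  have hntV : Nontrivial V := (Module.finrank_pos_iff (R := F) (M := V)).mp (by rw [hdim]; omega)
  obtain ⟨v, hv⟩ := exists_ne (0 : V)
  have hγr : (γu : Module.End F V) ^ r = 1 := by
    have h1 : γu ^ r = 1 := by rw [← hγo]; exact pow_orderOf_eq_one γu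
    have h2 := congrArg Units.val h1
    simpa using h2
  have hγ1 : (γu : Module.End F V) ≠ 1 := by
    intro h
    have h1 : γu = 1 := Units.ext h
    rw [h1, orderOf_one] at hγo
    exact hr.one_lt.ne hγo
  have hirr : ∀ W : Submodule F V, (∀ w ∈ W, (γu : Module.End F V) w ∈ W) → W = ⊥ ∨ W = ⊤ :=
    fun W hW => Cfsg.Agent.S5947.invariant_trivial n hdim r hr hrdvd hprim
      (γu : Module.End F V) hγr hγ1 W hW
  have hDmem : ∀ T : Module.End F V, T ∈ Subalgebra.centralizer F {(γu : Module.End F V)} ↔
      (γu : Module.End F V) * T = T * (γu : Module.End F V) := by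
    intro T
    rw [Subalgebra.mem_centralizer_iff]
    simp
  have hinj : ∀ T : Module.End F V, T ∈ Subalgebra.centralizer F {(γu : Module.End F V)} →
      T ≠ 0 → Function.Injective T := by
    intro T hT hT0
    rw [← LinearMap.ker_eq_bot]
    rcases hirr (LinearMap.ker T) (by
      intro w hw
      rw [LinearMap.mem_ker] at hw ⊢
      have h1 := (hDmem T).mp hT
      have h2 : T ((γu : Module.End F V) w) = (γu : Module.End F V) (T w) := by
        have h3 := congrArg (fun S : Module.End F V => S w) h1
        exact h3.symm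
      rw [h2, hw, map_zero]) with h | h
    · exact h
    · exact absurd (LinearMap.ker_eq_top.mp h) hT0
  let ev : Subalgebra.centralizer F {(γu : Module.End F V)} →ₗ[F] V :=
    { toFun := fun T => (T : Module.End F V) v
      map_add' := fun T S => rfl
      map_smul' := fun c T => rfl }
  have hevinj : Function.Injective ev := by
    rw [← LinearMap.ker_eq_bot, LinearMap.ker_eq_bot']
    intro T hT
    by_contra hT0
    have h1 : (T : Module.End F V) ≠ 0 := fun h => hT0 (Subtype.ext h)
    have h2 := hinj _ T.2 h1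
    exact hv (h2 ((show (T : Module.End F V) v = 0 from hT).trans (map_zero _).symm))
  have hevsurj : Function.Surjective ev := by
    rw [← LinearMap.range_eq_top]
    rcases hirr (LinearMap.range ev) (by
      rintro w ⟨T, rfl⟩
      refine ⟨⟨(γu : Module.End F V) * (T : Module.End F V), ?_⟩, rfl⟩
      exact Subalgebra.mul_mem _ ((hDmem _).mpr rfl) T.2) with h | h
    · exfalso
      have h1 : v ∈ LinearMap.range ev := ⟨1, rfl⟩
      rw [h] at h1
      exact hv ((Submodule.mem_bot F).mp h1)
    · exact h
  have hDcard : Nat.card (Subalgebra.centralizer F {(γu : Module.End F V)}) = Nat.card F ^ n := by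
    rw [Nat.card_congr (Equiv.ofBijective ev ⟨hevinj, hevsurj⟩), ← hdim]
    exact Module.natCard_eq_pow_finrank
  have hnt : Nontrivial (Subalgebra.centralizer F {(γu : Module.End F V)}) := by
    refine ⟨⟨0, 1, fun h => hv ?_⟩⟩
    have h1 := congrArg ev h
    exact h1.symm
  have hnzd : NoZeroDivisors (Subalgebra.centralizer F {(γu : Module.End F V)}) := by
    refine ⟨fun {T S} hTS => ?_⟩
    by_cases hT : T = 0
    · exact Or.inl hT
    · right
      have h1 : (T : Module.End F V) ≠ 0 := fun h => hT (Subtype.ext h)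
      have h2 := hinj _ T.2 h1
      apply Subtype.ext
      apply LinearMap.ext
      intro w
      apply h2
      have h3 : (T : Module.End F V) * (S : Module.End F V) = 0 := congrArg Subtype.val hTS
      have h4 := congrArg (fun R : Module.End F V => R w) h3
      simpa using h4
  have hdom : IsDomain (Subalgebra.centralizer F {(γu : Module.End F V)}) :=
    NoZeroDivisors.to_isDomain _
  have hDfield : IsField (Subalgebra.centralizer F {(γu : Module.End F V)}) :=
    Finite.isDomain_to_isField _
  let hDF : Field (Subalgebra.centralizer F {(γu : Module.End F V)}) := hDfield.toField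
  have hmemD : ∀ u : (Module.End F V)ˣ, u ∈ Subgroup.centralizer ({γu} : Set (Module.End F V)ˣ) →
      (u : Module.End F V) ∈ Subalgebra.centralizer F {(γu : Module.End F V)} := by
    intro u hu
    rw [hDmem]
    have h1 := Subgroup.mem_centralizer_iff.mp hu γu rfl
    have h2 := congrArg Units.val h1
    simpa using h2
  let φ : ↥(Subgroup.centralizer ({γu} : Set (Module.End F V)ˣ)) →*
      (Subalgebra.centralizer F {(γu : Module.End F V)})ˣ :=
    { toFun := fun u => ⟨⟨(u.1 : Module.End F V), hmemD u.1 u.2⟩,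
        ⟨((u.1⁻¹ : (Module.End F V)ˣ) : Module.End F V), hmemD _ (Subgroup.inv_mem _ u.2)⟩,
        Subtype.ext u.1.mul_inv, Subtype.ext u.1.inv_mul⟩
      map_one' := Units.ext (Subtype.ext rfl)
      map_mul' := fun u v => Units.ext (Subtype.ext rfl) }
  have hφinj : Function.Injective φ := by
    intro u w huw
    have h1 : (u.1 : Module.End F V) = (w.1 : Module.End F V) :=
      congrArg (fun d : (Subalgebra.centralizer F {(γu : Module.End F V)})ˣ =>
        ((d : Subalgebra.centralizer F {(γu : Module.End F V)}) : Module.End F V)) huw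
    exact Subtype.ext (Units.ext h1)
  have hφsurj : Function.Surjective φ := by
    intro d
    let w : (Module.End F V)ˣ :=
      ⟨((d : Subalgebra.centralizer F {(γu : Module.End F V)}) : Module.End F V),
        ((d⁻¹ : (Subalgebra.centralizer F {(γu : Module.End F V)})ˣ) :
          Subalgebra.centralizer F {(γu : Module.End F V)}),
        congrArg Subtype.val d.mul_inv, congrArg Subtype.val d.inv_mul⟩
    have hw : w ∈ Subgroup.centralizer ({γu} : Set (Module.End F V)ˣ) := by
      rw [Subgroup.mem_centralizer_iff]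
      intro h hh
      rw [Set.mem_singleton_iff] at hh
      rw [hh]
      apply Units.ext
      exact (hDmem _).mp (d : Subalgebra.centralizer F {(γu : Module.End F V)}).2
    exact ⟨⟨w, hw⟩, Units.ext (Subtype.ext rfl)⟩
  let e := MulEquiv.ofBijective φ ⟨hφinj, hφsurj⟩
  refine ⟨isCyclic_of_surjective e.symm e.symm.surjective, ?_⟩
  rw [Nat.card_congr e.toEquiv, Nat.card_units, hDcard]


theorem result {F : Type*} [Field F] [Fintype F] {p q : ℕ} [Fact p.Prime] [CharP F p] (hF : Fintype.card F = q) {n r : ℕ} (hn : 1 ≤ n) (hr : r.Prime) (hrp : r ≠ p) (hi : orderOf (q : ZMod r) = n) (x : GL (Fin n) F) (hx : orderOf x = r) : IsCyclic ↥(Subgroup.centralizer ({x} : Set (GL (Fin n) F))) ∧ Nat.card ↥(Subgroup.centralizer ({x} : Set (GL (Fin n) F))) = q ^ n - 1 := by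
  classical
  have hfact : Fact r.Prime := ⟨hr⟩
  let ψ : GL (Fin n) F ≃* (Module.End F (Fin n → F))ˣ := Matrix.GeneralLinearGroup.toLin
  have hψo : orderOf (ψ x) = r := by rw [MulEquiv.orderOf_eq, hx]
  have hq : Nat.card F = q := by rw [Nat.card_eq_fintype_card, hF]
  have hqpow : (q : ZMod r) ^ n = 1 := by rw [← hi]; exact pow_orderOf_eq_one _
  have hq1 : 1 ≤ q := by rw [← hF]; exact Fintype.card_pos
  have hrdvd : r ∣ q ^ n - 1 := by
    rw [← ZMod.natCast_eq_zero_iff, Nat.cast_sub (Nat.one_le_pow _ _ hq1), Nat.cast_pow,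
      Nat.cast_one, sub_eq_zero]
    exact hqpow
  have hprim : ∀ k, 0 < k → k < n → ¬ r ∣ q ^ k - 1 := by
    intro k hk0 hkn hd
    rw [← ZMod.natCast_eq_zero_iff, Nat.cast_sub (Nat.one_le_pow _ _ hq1), Nat.cast_pow,
      Nat.cast_one, sub_eq_zero] at hd
    have h1 := orderOf_dvd_of_pow_eq_one hd
    rw [hi] at h1
    have h2 := Nat.le_of_dvd hk0 h1
    omega
  have hdim : Module.finrank F (Fin n → F) = n := by simp
  obtain ⟨hc, hcard⟩ := cent_End n hn hdim r hr (by rw [hq]; exact hrdvd)
    (by rw [hq]; exact hprim) (ψ x) hψo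
  have emap : (Subgroup.centralizer ({x} : Set (GL (Fin n) F))).map ψ.toMonoidHom =
      Subgroup.centralizer {ψ x} := by
    ext y
    simp only [Subgroup.mem_map, Subgroup.mem_centralizer_iff, Set.mem_singleton_iff, forall_eq,
      MulEquiv.coe_toMonoidHom]
    constructor
    · rintro ⟨z, hz, rfl⟩
      rw [← map_mul, ← map_mul, hz]
    · intro hy
      refine ⟨ψ.symm y, ?_, by simp⟩
      apply ψ.injective
      simp [hy]
  let e2 : ↥(Subgroup.centralizer ({x} : Set (GL (Fin n) F))) ≃* ↥(Subgroup.centralizer {ψ x}) :=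
    (ψ.subgroupMap _).trans (MulEquiv.subgroupCongr emap)
  refine ⟨isCyclic_of_surjective e2.symm e2.symm.surjective, ?_⟩
  rw [Nat.card_congr e2.toEquiv, hcard, hq]

end Cfsg.Agent.S2638
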