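import Cfsg.Statements.S2781
import Cfsg.Agent.Lib.Helper16.Basic
import Cfsg.Agent.Lib.Helper16.CharP
import Cfsg.Agent.Lib.Helper16.Residual
import Cfsg.Agent.Lib.Helper16.PReduced2
import Cfsg.Agent.Lib.Helper16.Averaging
import Cfsg.Agent.Lib.Helper16.Avg

set_option autoImplicit false
open Cfsg

namespace Cfsg.Agent.S2781

/-- Let H act faithfully by conjugation on the elementary abelian p-subgroup V of a finite group, let O^p(H) be the subgroup of H generated by its elements of order prime to p, and T a Sylow p-subgroup of O^p(H). If V is generated by the H-conjugates of C_V(T) (V is the smallest H-invariant subgroup containing C_V(T)), then V = [V, O^p(H)]·C_V(O^p(H)). -/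
theorem result {G : Type*} [Group G] [Finite G] {p : ℕ} [Fact p.Prime] (V H : Subgroup G) (hV : Cfsg.IsElementaryAbelian p V) (hHV : H ≤ Subgroup.normalizer (V : Set G)) (hf : H ⊓ Subgroup.centralizer (V : Set G) = ⊥) (R : Subgroup G) (hR : R = (Cfsg.pResidual p ↥H).map H.subtype) (S : Sylow p ↥R) (T : Subgroup G) (hT : T = ((S : Subgroup ↥R).map R.subtype)) (hgen : ∀ W : Subgroup G, H ≤ Subgroup.normalizer (W : Set G) → (V ⊓ Subgroup.centralizer ((T : Subgroup G) : Set G)) ≤ W → V ≤ W) : ⁅V, R⁆ ⊔ (V ⊓ Subgroup.centralizer ((R : Subgroup G) : Set G)) = V := by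
  open Cfsg.Agent.Lib.Helper16.Basic Cfsg.Agent.Lib.Helper16.Avg in
  open scoped commutatorElement IsMulCommutative in
  classical
  haveI hVc : IsMulCommutative ↥V := hV.1
  have hRH : R ≤ H := by rw [hR]; exact Subgroup.map_subtype_le _
  have hRN : R ≤ Subgroup.normalizer (V : Set G) := hRH.trans hHV
  have hHR : H ≤ Subgroup.normalizer (R : Set G) := by
    rw [hR]
    haveI := Cfsg.Agent.Lib.Helper16.Residual.pResidual_normal ↥H p
    exact Cfsg.Agent.Lib.Helper16.PReduced2.le_normalizer_map_subtype _
  apply le_antisymm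
  · exact sup_le (commutator_le_left_of_le_normalizer hRN) inf_le_left
  · apply hgen
    · refine le_trans ?_ (Cfsg.Agent.Lib.Helper16.PReduced2.sup_normalizer_le _ _)
      refine le_inf ?_ ?_
      · intro h hh
        rw [← conj_eq_self_iff, conj_commutator, (conj_eq_self_iff V h).2 (hHV hh),
          (conj_eq_self_iff R h).2 (hHR hh)]
      · refine le_trans (le_inf hHV ?_) (Cfsg.Agent.Lib.Helper16.CharP.inf_normalizer_le _ _)
        exact hHR.trans (Cfsg.Agent.Lib.Helper16.CharP.normalizer_le_normalizer_centralizer R)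
    · intro z hz
      obtain ⟨hzV, hzT⟩ := Subgroup.mem_inf.1 hz
      have hzp : z ^ p = 1 := hV.2 z hzV
      let act : ↥R →* MulAut ↥V := (conjOn V).comp (Subgroup.inclusion hRN)
      have hact : ∀ (g : ↥R) (v : ↥V), ((act g v : ↥V) : G) = (g : G) * v * (g : G)⁻¹ :=
        fun g v => rfl
      obtain ⟨c', w', hc', hw', hcw⟩ := Cfsg.Agent.Lib.Helper16.Averaging.averaging (G := ↥R) (A := ↥V) act
        (S : Subgroup ↥R) (⟨z, hzV⟩ : ↥V) (by
          intro t ht
          apply Subtype.ext
          rw [hact]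
          have h1 : (t : G) ∈ T := by rw [hT]; exact ⟨t, ht, rfl⟩
          have h2 := Subgroup.mem_centralizer_iff.1 hzT (t : G) h1
          show (t : G) * z * (t : G)⁻¹ = z
          rw [h2]; group)
      have hwW : (w' : G) ∈ ⁅V, R⁆ := by
        have hle : Subgroup.closure {y : ↥V | ∃ g : ↥R, y = (⟨z, hzV⟩ : ↥V)⁻¹ *
            (act g) ⟨z, hzV⟩} ≤ (⁅V, R⁆).comap V.subtype := by
          rw [Subgroup.closure_le]
          rintro y ⟨g, rfl⟩
          have h5 : V.subtype ((⟨z, hzV⟩ : ↥V)⁻¹ * (act g) ⟨z, hzV⟩) =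
              z⁻¹ * ((g : G) * z * (g : G)⁻¹) := by
            rw [map_mul, map_inv]
            show z⁻¹ * ((act g (⟨z, hzV⟩ : ↥V) : ↥V) : G) = _
            rw [hact]
          rw [SetLike.mem_coe, Subgroup.mem_comap, h5]
          have h6 : z⁻¹ * ((g : G) * z * (g : G)⁻¹) = ⁅z⁻¹, (g : G)⁆ := by
            rw [commutatorElement_def]; group
          rw [h6]
          exact Subgroup.commutator_mem_commutator (V.inv_mem hzV) g.2
        exact hle hw'
      have hcen : (c' : G) ∈ Subgroup.centralizer (R : Set G) := by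
        rw [Subgroup.mem_centralizer_iff]
        intro g hg
        have h1 := congrArg Subtype.val (hc' ⟨g, hg⟩)
        rw [hact] at h1
        have h2 : g * (c' : G) * g⁻¹ = (c' : G) := h1
        calc g * (c' : G) = (g * (c' : G) * g⁻¹) * g := by group
          _ = (c' : G) * g := by rw [h2]
      have hcw' : (c' : G) = z ^ (S : Subgroup ↥R).index * (w' : G) := by
        have h1 := congrArg Subtype.val hcw
        exact h1
      have hcop : Nat.Coprime (S : Subgroup ↥R).index (orderOf z) := by
        have hp : p.Prime := Fact.out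
        have h1 : Nat.Coprime (S : Subgroup ↥R).index p :=
          ((Nat.Prime.coprime_iff_not_dvd hp).2 S.not_dvd_index).symm
        exact Nat.Coprime.coprime_dvd_right (orderOf_dvd_of_pow_eq_one hzp) h1
      obtain ⟨m, hm⟩ := exists_pow_eq_self_of_coprime hcop
      have hc : Commute (c' : G) ((w' : G)⁻¹) := by
        have h1 := hV.1.is_comm.comm c' (w'⁻¹)
        have h2 := congrArg Subtype.val h1
        exact h2
      have hz2 : z = ((w' : G)⁻¹) ^ m * (c' : G) ^ m := by
        rw [← hc.symm.mul_pow]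
        have h3 : (w' : G)⁻¹ * (c' : G) = z ^ (S : Subgroup ↥R).index := by
          rw [hcw']
          have h4 : Commute (z ^ (S : Subgroup ↥R).index) (w' : G) := by
            have h1 := hV.1.is_comm.comm (⟨z, hzV⟩ ^ (S : Subgroup ↥R).index : ↥V) w'
            have h2 := congrArg Subtype.val h1
            exact h2
          rw [h4.eq]; group
        rw [h3, hm]
      rw [hz2]
      exact Subgroup.mul_mem _ (le_sup_left (a := ⁅V, R⁆) (Subgroup.pow_mem _ (Subgroup.inv_mem _ hwW) m))
        (le_sup_right (a := ⁅V, R⁆) (Subgroup.pow_mem _ (Subgroup.mem_inf.2 ⟨c'.2, hcen⟩) m))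

end Cfsg.Agent.S2781
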