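import Cfsg.Statements.S2804
import Cfsg.Agent.Lib.Helper16.PReduced4

set_option autoImplicit false
open Cfsg

namespace Cfsg.Agent.S2804

/-- Let L be a finite group and p a prime with C_L(O_p(L)) ≤ O_p(L), V a p-reduced normal subgroup of L and K a subnormal subgroup of L. Then [V, O^p(K)] is contained in K and is a p-reduced normal subgroup of K, where O^p(K) is the subgroup of K generated by its elements of order prime to p. -/
theorem result {L : Type*} [Group L] [Finite L] {p : ℕ} [Fact p.Prime] (hchar : Subgroup.centralizer (Cfsg.pCore p L : Set L) ≤ Cfsg.pCore p L) (V : Subgroup L) (hV : Cfsg.IsPReducedNormal p V) (K : Subgroup L) (hK : K.IsSubnormal) : ⁅V, (Cfsg.pResidual p ↥K).map K.subtype⁆ ≤ K ∧ Cfsg.IsPReducedNormal p ((⁅V, (Cfsg.pResidual p ↥K).map K.subtype⁆).subgroupOf K) := by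
  open Cfsg.Agent.Lib.Helper16.Basic Cfsg.Agent.Lib.Helper16.Residual Cfsg.Agent.Lib.Helper16.PReduced Cfsg.Agent.Lib.Helper16.PReduced2 Cfsg.Agent.Lib.Helper16.PReduced4 Cfsg.Agent.Lib.Helper16.SylowCenter Cfsg.Agent.Lib.Helper16.WeaklyClosed in
  open scoped commutatorElement in
  have hVpr := (pr_top_iff V).1 hV
  haveI hVn : V.Normal := hV.1
  have hNV : Subgroup.normalizer (V : Set L) = ⊤ := Subgroup.normalizer_eq_top_iff.2 hVn
  have hVp : IsPGroup p V := hVpr.isPGroup
  have hVQ : V ≤ Cfsg.pCore p L := le_pCore hVn hVp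
  haveI hRn : (Cfsg.pResidual p ↥K).Normal := pResidual_normal ↥K p
  have hRsub : ((Cfsg.pResidual p ↥K).map K.subtype).IsSubnormal :=
    Subgroup.IsSubnormal.trans' (Subgroup.Normal.isSubnormal hRn) hK
  have hQR := Cfsg.Agent.Lib.Helper16.Subnormal.pCore_le_normalizer_of_subnormal hRsub
    (pResidualOf_idem K)
  have hRK : (Cfsg.pResidual p ↥K).map K.subtype ≤ K := Subgroup.map_subtype_le _
  have hWR : ⁅V, (Cfsg.pResidual p ↥K).map K.subtype⁆ ≤ (Cfsg.pResidual p ↥K).map K.subtype :=
    commutator_le_right_of_le_normalizer (hVQ.trans hQR)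
  have hWK := hWR.trans hRK
  have hWV : ⁅V, (Cfsg.pResidual p ↥K).map K.subtype⁆ ≤ V := Subgroup.commutator_le_left V _
  refine ⟨hWK, (pr_iff hWK).2 ⟨hWK, ?_, elementary_of_le hVpr.el hWV, ?_⟩⟩
  · refine (le_inf ?_ (le_normalizer_map_subtype _)).trans (commutator_normalizer_le _ _)
    rw [hNV]; exact le_top
  · intro D hDK hDn hp
    have hDsub : D.IsSubnormal := Subgroup.IsSubnormal.trans hDK
      (Subgroup.Normal.isSubnormal (Subgroup.normal_subgroupOf_of_le_normalizer hDn)) hK
    refine (red_subnormal hVpr hDsub ?_).trans (Subgroup.centralizer_le hWV)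
    apply exists_pow_mem_of_pprime_mem
    intro b hb hcop
    have hbW := pprime_mem_of_exists_pow_mem hp b hb hcop
    have hbR : b ∈ (Cfsg.pResidual p ↥K).map K.subtype := by
      rw [pResidualOf_eq_closure]; exact Subgroup.subset_closure ⟨hDK hb, hcop⟩
    apply pprime_centralizes hVp (by rw [hNV]; trivial) hcop
    intro u hu
    have h1 : ⁅u, b⁆ ∈ ⁅V, (Cfsg.pResidual p ↥K).map K.subtype⁆ :=
      Subgroup.commutator_mem_commutator hu hbR
    exact Subgroup.mem_centralizer_iff.1 hbW _ h1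

end Cfsg.Agent.S2804
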