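import Cfsg.Statements.S2809
import Cfsg.Agent.Lib.Helper16.Basic

set_option autoImplicit false
open Cfsg

namespace Cfsg.Agent.S2809

/-- Let H be a finite group, p a prime, R a p-subgroup of H with C_H(R) ≤ R, and L a subgroup of N_H(R) acting nilpotently on R (some iterated commutator [R, L, …, L] is trivial). Then L is a p-group. -/
theorem result {H : Type*} [Group H] [Finite H] {p : ℕ} [Fact p.Prime] (R : Subgroup H) (hR : IsPGroup p ↥R) (hC : Subgroup.centralizer (R : Set H) ≤ R) (L : Subgroup H) (hL : L ≤ Subgroup.normalizer (R : Set H)) (hnil : ∃ n : ℕ, Cfsg.iterCommutator R L n = ⊥) : IsPGroup p ↥L := by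
  classical
  open scoped commutatorElement in
  obtain ⟨n, hn⟩ := hnil
  have claim1 : ∀ i, Cfsg.iterCommutator R L i ≤ R := by
    intro i
    induction i with
    | zero => exact le_refl _
    | succ i ih =>
      show ⁅Cfsg.iterCommutator R L i, L⁆ ≤ R
      rw [Subgroup.commutator_le]
      intro u hu l hl
      have h1 : l * u⁻¹ * l⁻¹ ∈ R := (Subgroup.mem_normalizer_iff.1 (hL hl) _).1 (R.inv_mem (ih hu))
      have h2 : ⁅u, l⁆ = u * (l * u⁻¹ * l⁻¹) := by
        rw [commutatorElement_def]; group
      rw [h2]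
      exact R.mul_mem (ih hu) h1
  apply Cfsg.Agent.Lib.Helper16.Basic.isPGroup_sub_of_coprime_trivial
  intro y hyL hyc
  have key : ∀ j, j ≤ n → ∀ u ∈ Cfsg.iterCommutator R L (n - j), ⁅u, y⁆ = 1 := by
    intro j
    induction j with
    | zero =>
      intro _ u hu
      rw [Nat.sub_zero, hn, Subgroup.mem_bot] at hu
      subst hu
      simp [commutatorElement_def]
    | succ j ih =>
      intro hj u hu
      have h1 : n - (j + 1) + 1 = n - j := by omega
      have hc : ⁅u, y⁆ ∈ Cfsg.iterCommutator R L (n - j) := by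
        rw [← h1]
        exact Subgroup.commutator_mem_commutator hu hyL
      have h2 : ⁅⁅u, y⁆, y⁆ = 1 := ih (by omega) _ hc
      have hcomm : Commute ⁅u, y⁆ y := commutatorElement_eq_one_iff_commute.1 h2
      obtain ⟨k, hk⟩ := Cfsg.Agent.Lib.Helper16.Basic.exists_pow_eq_one_of_mem hR (claim1 _ hc)
      exact Cfsg.Agent.Lib.Helper16.Basic.commutator_eq_one_of_coprime hcomm hk hyc
  have hyC : y ∈ Subgroup.centralizer (R : Set H) := by
    rw [Subgroup.mem_centralizer_iff]
    intro u hu
    have := key n le_rfl u (by rw [Nat.sub_self]; exact hu)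
    exact (commutatorElement_eq_one_iff_commute.1 this).eq
  obtain ⟨k, hk⟩ := Cfsg.Agent.Lib.Helper16.Basic.exists_pow_eq_one_of_mem hR (hC hyC)
  exact Cfsg.Agent.Lib.Helper16.Basic.eq_one_of_pow_eq_one_of_coprime (pow_orderOf_eq_one y) hk
    (Nat.Coprime.pow_right k hyc)

end Cfsg.Agent.S2809
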