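import Cfsg.Statements.S2810
import Cfsg.Agent.Lib.Helper16.Basic

set_option autoImplicit false
open Cfsg

namespace Cfsg.Agent.S2810

/-- Let H be a finite group of characteristic p and L a subgroup of H centralizing every factor of some H-invariant chain 1 = A₀ ≤ A₁ ≤ … ≤ Aₙ = O_p(H) of normal subgroups (that is, [A_{i+1}, L] ≤ Aᵢ for each i). Then L ≤ O_p(H). -/
theorem result {H : Type*} [Group H] [Finite H] {p : ℕ} [Fact p.Prime] (hchar : Subgroup.centralizer (Cfsg.pCore p H : Set H) ≤ Cfsg.pCore p H) (L : Subgroup H) (n : ℕ) (A : Fin (n + 1) → Subgroup H) (h0 : A 0 = ⊥) (hn : A (Fin.last n) = Cfsg.pCore p H) (hmono : Monotone A) (hnorm : ∀ i, (A i).Normal) (hcent : ∀ i : Fin n, ⁅A i.succ, L⁆ ≤ A i.castSucc) : L ≤ Cfsg.pCore p H := by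
  classical
  open scoped commutatorElement in
  let C : Subgroup H :=
    { carrier := {h | ∀ i : Fin n, ∀ a ∈ A i.succ, ⁅a, h⁆ ∈ A i.castSucc}
      one_mem' := by
        intro i a _
        have : ⁅a, (1 : H)⁆ = 1 := by rw [commutatorElement_def]; group
        rw [this]
        exact (A i.castSucc).one_mem
      mul_mem' := by
        intro h k hh hk i a ha
        have : ⁅a, h * k⁆ = ⁅a, h⁆ * (h * ⁅a, k⁆ * h⁻¹) := by
          simp only [commutatorElement_def]; group
        rw [this]
        exact (A i.castSucc).mul_mem (hh i a ha) ((hnorm i.castSucc).conj_mem _ (hk i a ha) h)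
      inv_mem' := by
        intro h hh i a ha
        have : ⁅a, h⁻¹⁆ = h⁻¹ * ⁅a, h⁆⁻¹ * h⁻¹⁻¹ := by
          simp only [commutatorElement_def]; group
        rw [this]
        exact (hnorm i.castSucc).conj_mem _ ((A i.castSucc).inv_mem (hh i a ha)) h⁻¹ }
  have hCn : C.Normal := by
    refine ⟨?_⟩
    intro h hh g i a ha
    have h1 : g⁻¹ * a * g ∈ A i.succ := by
      have := (hnorm i.succ).conj_mem a ha g⁻¹
      simpa using this
    have h2 := hh i _ h1
    have : ⁅a, g * h * g⁻¹⁆ = g * ⁅g⁻¹ * a * g, h⁆ * g⁻¹ := by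
      simp only [commutatorElement_def]; group
    rw [this]
    exact (hnorm i.castSucc).conj_mem _ h2 g
  have hLC : L ≤ C := by
    intro l hl i a ha
    exact hcent i (Subgroup.commutator_mem_commutator ha hl)
  have hpc : IsPGroup p (Cfsg.pCore p H) := Cfsg.Agent.Lib.Helper16.Basic.pCore_isPGroup
  have hCp : IsPGroup p C := by
    apply Cfsg.Agent.Lib.Helper16.Basic.isPGroup_sub_of_coprime_trivial
    intro y hyC hyc
    have key : ∀ i : Fin (n + 1), ∀ a ∈ A i, ⁅a, y⁆ = 1 := by
      intro i
      induction i using Fin.induction with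
      | zero =>
        intro a ha
        rw [h0, Subgroup.mem_bot] at ha
        subst ha
        simp [commutatorElement_def]
      | succ i ih =>
        intro a ha
        have hc : ⁅a, y⁆ ∈ A i.castSucc := hyC i a ha
        have h2 : ⁅⁅a, y⁆, y⁆ = 1 := ih _ hc
        have hcomm : Commute ⁅a, y⁆ y := commutatorElement_eq_one_iff_commute.1 h2
        have hcp : ⁅a, y⁆ ∈ Cfsg.pCore p H := by
          rw [← hn]
          exact hmono (Fin.le_last _) hc
        obtain ⟨k, hk⟩ := Cfsg.Agent.Lib.Helper16.Basic.exists_pow_eq_one_of_mem hpc hcp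
        exact Cfsg.Agent.Lib.Helper16.Basic.commutator_eq_one_of_coprime hcomm hk hyc
    have hyZ : y ∈ Subgroup.centralizer (Cfsg.pCore p H : Set H) := by
      rw [Subgroup.mem_centralizer_iff]
      intro u hu
      have := key (Fin.last n) u (by rw [hn]; exact hu)
      exact (commutatorElement_eq_one_iff_commute.1 this).eq
    obtain ⟨k, hk⟩ := Cfsg.Agent.Lib.Helper16.Basic.exists_pow_eq_one_of_mem hpc (hchar hyZ)
    exact Cfsg.Agent.Lib.Helper16.Basic.eq_one_of_pow_eq_one_of_coprime (pow_orderOf_eq_one y) hk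
      (Nat.Coprime.pow_right k hyc)
  exact hLC.trans (Cfsg.Agent.Lib.Helper16.Basic.le_pCore hCn hCp)

end Cfsg.Agent.S2810
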