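import Cfsg.Statements.S2812
import Cfsg.Agent.Lib.Helper16.FStar2

set_option autoImplicit false
open Cfsg

namespace Cfsg.Agent.S2812

open Cfsg.Agent.Lib.Helper16.Basic Cfsg.Agent.Lib.Helper16.PReduced2 Cfsg.Agent.Lib.Helper16.FStar Cfsg.Agent.Lib.Helper9


/-- Let H be a subgroup of the finite group G with O_p(H) = 1, Y a p-subgroup of G normalizing H, and L a subgroup of the generalized Fitting subgroup F*(H) that is subnormal in H and normalized by Y. Then L = [L, Y]·C_L(Y) and [L, Y] = [L, Y, Y]. -/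
theorem result {G : Type*} [Group G] [Finite G] {p : ℕ} [Fact p.Prime] (H : Subgroup G) (hO : Cfsg.pCore p ↥H = ⊥) (Y : Subgroup G) (hY : IsPGroup p ↥Y) (hYH : Y ≤ Subgroup.normalizer (H : Set G)) (L : Subgroup G) (hLF : L ≤ (Cfsg.generalizedFittingSubgroup ↥H).map H.subtype) (hLsn : (L.subgroupOf H).IsSubnormal) (hYL : Y ≤ Subgroup.normalizer (L : Set G)) : ⁅L, Y⁆ ⊔ (L ⊓ Subgroup.centralizer (Y : Set G)) = L ∧ ⁅L, Y⁆ = ⁅⁅L, Y⁆, Y⁆ := by
  have hLH : L ≤ H := hLF.trans (Subgroup.map_subtype_le _)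
  have hle' : L.subgroupOf H ≤ Cfsg.generalizedFittingSubgroup ↥H := by
    intro x hx
    obtain ⟨x', hx', hxe⟩ := hLF (Subgroup.mem_subgroupOf.1 hx)
    have : x' = x := Subtype.ext hxe
    rw [← this]
    exact hx'
  obtain ⟨h1, h2⟩ := gfitting_top_of_subnormal hO hLsn hle'
  have h1' : Cfsg.generalizedFittingSubgroup ↥L = ⊤ := by
    rw [← gfitting_map_equiv (Subgroup.subgroupOfEquivOfLe hLH), h1]
    exact Subgroup.map_top_of_surjective _ (Subgroup.subgroupOfEquivOfLe hLH).surjective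
  have h2' : (Nat.card (fittingSubgroup ↥L)).Coprime p := by
    have : Nat.card (fittingSubgroup ↥L) = Nat.card (fittingSubgroup ↥(L.subgroupOf H)) := by
      rw [← fitting_map_equiv (Subgroup.subgroupOfEquivOfLe hLH)]
      exact (Nat.card_congr ((fittingSubgroup ↥(L.subgroupOf H)).equivMapOfInjective
        (Subgroup.subgroupOfEquivOfLe hLH).toMonoidHom
        (Subgroup.subgroupOfEquivOfLe hLH).injective).toEquiv).symm
    rw [this]
    exact h2
  obtain ⟨h3, h4⟩ := fstar_abs hY hYL h1' h2'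
  refine ⟨?_, h3.symm⟩
  exact le_antisymm (sup_le (commutator_le_left_of_le_normalizer hYL) inf_le_left) h4

end Cfsg.Agent.S2812
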