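import Cfsg.Statements.S2813
import Cfsg.Agent.Lib.Helper16.Basic

set_option autoImplicit false
open Cfsg

namespace Cfsg.Agent.S2813

/-- Let K be a subgroup of the finite group H with O_p(K) = 1 and Y a p-subgroup of N_H(K) with [K, Y, Y] = 1. Then [K, Y] = 1. -/
theorem result {H : Type*} [Group H] [Finite H] {p : ℕ} [Fact p.Prime] (K : Subgroup H) (hO : Cfsg.pCore p ↥K = ⊥) (Y : Subgroup H) (hY : IsPGroup p ↥Y) (hYK : Y ≤ Subgroup.normalizer (K : Set H)) (hq : ⁅⁅K, Y⁆, Y⁆ = ⊥) : ⁅K, Y⁆ = ⊥ := by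
  classical
  open scoped commutatorElement in
  have hNK : ⁅K, Y⁆ ≤ K := Cfsg.Agent.Lib.Helper16.Basic.commutator_le_left_of_le_normalizer hYK
  have hKN := Cfsg.Agent.Lib.Helper16.Basic.le_normalizer_commutator_left K Y
  have hcent : ∀ x ∈ ⁅K, Y⁆, ∀ y ∈ Y, y * x = x * y := by
    have := Subgroup.commutator_eq_bot_iff_le_centralizer.1 hq
    intro x hx y hy
    have h1 := this hx
    rw [Subgroup.mem_centralizer_iff] at h1
    exact h1 y hy
  have hgen : ∀ a ∈ {g | ∃ g₁ ∈ K, ∃ g₂ ∈ Y, ⁅g₁, g₂⁆ = g}, ∀ x ∈ ⁅K, Y⁆, a * x = x * a := by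
    rintro a ⟨k, hk, y, hy, rfl⟩ x hx
    have h1 : k⁻¹ * x * k ∈ ⁅K, Y⁆ := by
      have := (Subgroup.mem_normalizer_iff.1 (hKN (K.inv_mem hk)) x).1 hx
      simpa using this
    have h2 := hcent _ h1 y hy
    have h3 := hcent x hx y⁻¹ (Y.inv_mem hy)
    have h4 : k * y * k⁻¹ * x = x * (k * y * k⁻¹) := by
      calc k * y * k⁻¹ * x = k * (y * (k⁻¹ * x * k)) * k⁻¹ := by group
        _ = k * ((k⁻¹ * x * k) * y) * k⁻¹ := by rw [h2]
        _ = x * (k * y * k⁻¹) := by group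
    rw [commutatorElement_def]
    calc k * y * k⁻¹ * y⁻¹ * x = k * y * k⁻¹ * (y⁻¹ * x) := by group
      _ = k * y * k⁻¹ * (x * y⁻¹) := by rw [h3]
      _ = (k * y * k⁻¹ * x) * y⁻¹ := by group
      _ = x * (k * y * k⁻¹) * y⁻¹ := by rw [h4]
      _ = x * (k * y * k⁻¹ * y⁻¹) := by group
  have hNp : IsPGroup p (⁅K, Y⁆ : Subgroup H) := by
    rw [Subgroup.commutator_def]
    apply Cfsg.Agent.Lib.Helper16.Basic.isPGroup_closure_of_commute
    · intro a ha b hb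
      have hb' : b ∈ ⁅K, Y⁆ := by
        rw [Subgroup.commutator_def]
        exact Subgroup.subset_closure hb
      exact hgen a ha b hb'
    · rintro a ⟨k, hk, y, hy, rfl⟩
      have hc : Commute ⁅k, y⁆ y :=
        (hcent _ (Subgroup.commutator_mem_commutator hk hy) y hy).symm
      obtain ⟨j, hj⟩ := Cfsg.Agent.Lib.Helper16.Basic.exists_pow_eq_one_of_mem hY hy
      refine ⟨j, ?_⟩
      have := Cfsg.Agent.Lib.Helper16.Basic.conj_pow_eq k y hc (p ^ j)
      rw [hj] at this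
      simpa using this.symm
  have h5 := Cfsg.Agent.Lib.Helper16.Basic.le_pCoreOf hNK hKN hNp
  rw [hO] at h5
  simpa using h5

end Cfsg.Agent.S2813
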