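import Cfsg.Statements.S2814
import Cfsg.Agent.Lib.Helper16.FrakH2

set_option autoImplicit false
open Cfsg

namespace Cfsg.Agent.S2814

theorem subnormal_of_isPGroup {Q : Type*} [Group Q] [Finite Q] {p : ℕ} [Fact p.Prime]
    (hQ : IsPGroup p Q) (B : Subgroup Q) : B.IsSubnormal := by
  have hnc : NormalizerCondition Q := by
    haveI := hQ.isNilpotent
    exact Group.normalizerCondition_of_isNilpotent
  generalize hn : Nat.card Q - Nat.card B = n
  induction n using Nat.strong_induction_on generalizing B with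
  | _ n ih =>
    by_cases hB : B = ⊤
    · rw [hB]; exact Subgroup.IsSubnormal.top
    · have hlt : B < Subgroup.normalizer (B : Set Q) := hnc B (lt_top_iff_ne_top.2 hB)
      have hcard : Nat.card B < Nat.card (Subgroup.normalizer (B : Set Q)) :=
        Cfsg.Agent.Lib.Helper9.card_lt_of_le_of_ne hlt.le hlt.ne
      have hle : Nat.card (Subgroup.normalizer (B : Set Q)) ≤ Nat.card Q :=
        Subgroup.card_le_card_group _
      have hN := ih (Nat.card Q - Nat.card (Subgroup.normalizer (B : Set Q))) (by omega)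
        (Subgroup.normalizer (B : Set Q)) rfl
      exact Subgroup.IsSubnormal.step B _ Subgroup.le_normalizer hN Subgroup.normal_in_normalizer

open Cfsg.Agent.Lib.Helper16.Basic Cfsg.Agent.Lib.Helper16.PReduced3 Cfsg.Agent.Lib.Helper16.PReduced2 Cfsg.Agent.Lib.Helper16.FrakH in
open scoped commutatorElement in
theorem le_normalizer_commutator_sup {G : Type*} [Group G] [Finite G] (R A : Subgroup G) :
    R ≤ Subgroup.normalizer ((⁅R, A⁆ ⊔ A : Subgroup G) : Set G) := by
  intro r hr
  apply conj_eq_of_le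
  rw [conj_sup]
  apply sup_le
  · rw [(conj_eq_self_iff _ r).2 (normalizer_commutator_left R A hr)]; exact le_sup_left
  · intro z hz
    rw [mem_conj] at hz
    have hz' : z = ⁅r, r⁻¹ * z * r⁆ * (r⁻¹ * z * r) := by
      rw [commutatorElement_def]; group
    rw [hz']
    exact Subgroup.mul_mem _
      ((le_sup_left : ⁅R, A⁆ ≤ ⁅R, A⁆ ⊔ A) (Subgroup.commutator_mem_commutator hr hz))
      ((le_sup_right : A ≤ ⁅R, A⁆ ⊔ A) hz)


/-- Let A be a subgroup of the finite group H and K the subnormal closure of A (intersection of the subnormal subgroups containing A). Then K is the normal closure of A inside K and N_H(A) ≤ N_H(K); K = A·O^p(K), O^p(K) being generated by the elements of K of order prime to p; and if A is a p-group, O^p(K) = [O^p(K), A]. -/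
theorem result {H : Type*} [Group H] [Finite H] {p : ℕ} [Fact p.Prime] (A : Subgroup H) (K : Subgroup H) (hK : K = Cfsg.subnormalClosure A) : (Subgroup.normalClosure ((A.subgroupOf K : Subgroup ↥K) : Set ↥K)).map K.subtype = K ∧ Subgroup.normalizer (A : Set H) ≤ Subgroup.normalizer (K : Set H) ∧ A ⊔ (Cfsg.pResidual p ↥K).map K.subtype = K ∧ (IsPGroup p ↥A → ⁅(Cfsg.pResidual p ↥K).map K.subtype, A⁆ = (Cfsg.pResidual p ↥K).map K.subtype) := by
  open Cfsg.Agent.Lib.Helper16.Basic Cfsg.Agent.Lib.Helper16.Residual Cfsg.Agent.Lib.Helper16.PReduced2 Cfsg.Agent.Lib.Helper16.PReduced3 Cfsg.Agent.Lib.Helper16.FrakH in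
  open scoped commutatorElement in
  classical
  have hmem : A ≤ K ∧ K.IsSubnormal := by
    obtain ⟨K₁, ⟨hAK₁, hK₁s⟩, hmin⟩ := exists_minimal_of_wellFoundedLT
      (fun K : Subgroup H => A ≤ K ∧ K.IsSubnormal) ⟨⊤, le_top, Subgroup.IsSubnormal.top⟩
    have hKK : K = K₁ := by
      rw [hK]
      apply le_antisymm
      · exact sInf_le ⟨hAK₁, hK₁s⟩
      · apply le_sInf
        rintro K' ⟨hAK', hK's⟩
        have h1 := hmin ⟨le_inf hAK₁ hAK', hK₁s.inf hK's⟩ inf_le_left
        exact h1.trans inf_le_right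
    rw [hKK]; exact ⟨hAK₁, hK₁s⟩
  obtain ⟨hAK, hKs⟩ := hmem
  have hleast : ∀ K' : Subgroup H, A ≤ K' → K'.IsSubnormal → K ≤ K' := by
    intro K' h1 h2; rw [hK]; exact sInf_le ⟨h1, h2⟩
  have hsub : ∀ N : Subgroup H, N ≤ K → K ≤ Subgroup.normalizer (N : Set H) → N.IsSubnormal := by
    intro N hNK hKN
    exact Subgroup.IsSubnormal.trans hNK
      (Subgroup.normal_subgroupOf_of_le_normalizer hKN).isSubnormal hKs
  have hRK : (pResidual p ↥K).map K.subtype ≤ K := pResidualOf_le K
  have hKR : K ≤ Subgroup.normalizer (((pResidual p ↥K).map K.subtype : Subgroup H) : Set H) :=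
    le_normalizer_residual K
  have hidem := pResidualOf_idem (p := p) K
  have h3 : A ⊔ (pResidual p ↥K).map K.subtype = K := by
    apply le_antisymm (sup_le hAK hRK)
    apply hleast _ le_sup_left
    apply Subgroup.IsSubnormal.trans (sup_le hAK hRK) _ hKs
    haveI := pResidual_normal ↥K p
    have hq : IsPGroup p (↥K ⧸ pResidual p ↥K) :=
      quotient_pResidual_isPGroup (pResidual_normal ↥K p)
    have hs := (subnormal_of_isPGroup hq (((A ⊔ (pResidual p ↥K).map K.subtype).subgroupOf K).map
      (QuotientGroup.mk' (pResidual p ↥K)))).comap (QuotientGroup.mk' (pResidual p ↥K))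
    rw [Subgroup.comap_map_eq, QuotientGroup.ker_mk'] at hs
    have hle : pResidual p ↥K ≤ (A ⊔ (pResidual p ↥K).map K.subtype).subgroupOf K := by
      intro x hx
      rw [Subgroup.mem_subgroupOf]
      exact (le_sup_right : (pResidual p ↥K).map K.subtype ≤ _) ⟨x, hx, rfl⟩
    rwa [sup_of_le_left hle] at hs
  refine ⟨?_, ?_, h3, ?_⟩
  · apply le_antisymm (nc_le A K)
    apply hleast _ (le_nc hAK)
    exact hsub _ (nc_le A K) (nc_normal A K)
  · intro g hg
    rw [← conj_eq_self_iff]
    have hs : (K.map (MulAut.conj g).toMonoidHom).IsSubnormal :=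
      hKs.map (MulAut.conj g).surjective
    have hA : A ≤ K.map (MulAut.conj g).toMonoidHom := by
      have h0 := conj_mono g hAK
      rwa [(conj_eq_self_iff A g).2 hg] at h0
    have hle := hleast _ hA hs
    exact (Subgroup.eq_of_le_of_card_ge hle (le_of_eq (card_conj K g))).symm
  · intro hAp
    generalize (pResidual p ↥K).map K.subtype = R at *
    have hAR : A ≤ Subgroup.normalizer (R : Set H) := hAK.trans hKR
    apply le_antisymm (commutator_le_left_of_le_normalizer hAR)
    have hAK' : A ≤ Subgroup.normalizer ((⁅R, A⁆ : Subgroup H) : Set H) :=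
      normalizer_commutator_right R A
    have hKN : K ≤ Subgroup.normalizer ((⁅R, A⁆ ⊔ A : Subgroup H) : Set H) := by
      conv_lhs => rw [← h3]
      apply sup_le
      · exact (le_inf hAK' Subgroup.le_normalizer).trans (sup_normalizer_le _ _)
      · exact le_normalizer_commutator_sup R A
    have h4 := hleast _ le_sup_right
      (hsub _ (sup_le ((commutator_le_left_of_le_normalizer hAR).trans hRK) hAK) hKN)
    have h5 : R ≤ A ⊔ ⁅R, A⁆ := by rw [sup_comm]; exact hRK.trans h4
    have h6 := residual_le_of_le_sup hAp hAK' h5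
    rwa [hidem] at h6

end Cfsg.Agent.S2814
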