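import Cfsg.Statements.S2816
import Cfsg.Agent.Lib.Helper16.FStar2

set_option autoImplicit false
open Cfsg

namespace Cfsg.Agent.S2816

open Cfsg.Agent.Lib.Helper16.Basic Cfsg.Agent.Lib.Helper16.PReduced2 Cfsg.Agent.Lib.Helper16.FStar Cfsg.Agent.Lib.Helper9 in
theorem aux {H : Type*} [Group H] [Finite H] {p : ℕ} [Fact p.Prime] (hO : Cfsg.pCore p H = ⊥)
    (Y : Subgroup H) (hY : IsPGroup p ↥Y) :
    ⁅⁅Cfsg.generalizedFittingSubgroup H, Y⁆, Y⁆ = ⁅Cfsg.generalizedFittingSubgroup H, Y⁆ := by
  have hFn := gfitting_normal H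
  obtain ⟨h1, h2⟩ := gfitting_top_of_subnormal hO hFn.isSubnormal le_rfl
  have hYN : Y ≤ Subgroup.normalizer ((Cfsg.generalizedFittingSubgroup H : Subgroup H) : Set H) := by
    rw [Subgroup.normalizer_eq_top]
    exact le_top
  exact (fstar_abs hY hYN h1 h2).1

open Cfsg.Agent.Lib.Helper16.Basic Cfsg.Agent.Lib.Helper16.PReduced2 Cfsg.Agent.Lib.Helper16.FStar Cfsg.Agent.Lib.Helper9


/-- Let H be a finite group and p a prime with O_p(H) = 1, and Y a p-subgroup of H. Then for every subnormal subgroup K of H containing Y, [F*(H), Y] = [F*(K), Y] = [F*(K), Y, Y]; and if Y₀ ≤ Y with [F*(H), Y, Y₀] = 1 then Y₀ = 1 (in particular [F*(H), Y] = 1 forces Y = 1). -/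
theorem result {H : Type*} [Group H] [Finite H] {p : ℕ} [Fact p.Prime] (hO : Cfsg.pCore p H = ⊥) (Y : Subgroup H) (hY : IsPGroup p ↥Y) : (∀ K : Subgroup H, K.IsSubnormal → Y ≤ K → ⁅Cfsg.generalizedFittingSubgroup H, Y⁆ = ⁅(Cfsg.generalizedFittingSubgroup ↥K).map K.subtype, Y⁆ ∧ ⁅(Cfsg.generalizedFittingSubgroup ↥K).map K.subtype, Y⁆ = ⁅⁅(Cfsg.generalizedFittingSubgroup ↥K).map K.subtype, Y⁆, Y⁆) ∧ (∀ Y₀ : Subgroup H, Y₀ ≤ Y → ⁅⁅Cfsg.generalizedFittingSubgroup H, Y⁆, Y₀⁆ = ⊥ → Y₀ = ⊥) := by
  have hFn := gfitting_normal H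
  have hfc := fitting_coprime hO
  constructor
  · intro K hK hYK
    obtain ⟨FK, hFK⟩ : ∃ FK, FK = (Cfsg.generalizedFittingSubgroup ↥K).map K.subtype := ⟨_, rfl⟩
    rw [← hFK]
    have hFKsn : FK.IsSubnormal := by
      rw [hFK]
      exact (gfitting_normal ↥K).isSubnormal.trans' hK
    have hFKeq : FK = (layer ↥K).map K.subtype ⊔ (fittingSubgroup H ⊓ K) := by
      rw [hFK, ← fitting_subtype_eq_inf_of_isSubnormal hK, ← Subgroup.map_sup]
      rfl
    have hFKle : FK ≤ Cfsg.generalizedFittingSubgroup H := by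
      rw [hFKeq]
      exact sup_le_sup (layer_subtype_le hK) inf_le_left
    have hKn : K ≤ Subgroup.normalizer (FK : Set H) := by
      rw [hFK]
      have := gfitting_normal ↥K
      exact le_normalizer_map_subtype _
    obtain ⟨h1, h2⟩ := gfitting_top_of_subnormal hO hFKsn hFKle
    have hsecond := (fstar_abs hY (hYK.trans hKn) h1 h2).1
    refine ⟨?_, hsecond.symm⟩
    apply le_antisymm _ (Subgroup.commutator_mono hFKle le_rfl)
    have hK' : ⁅Cfsg.generalizedFittingSubgroup H, Y⁆ ≤ K := by
      clear hFKsn hFKeq hFKle hKn h1 h2 hsecond hFK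
      induction hK with
      | top => exact le_top
      | step K K₁ hle hsub hN ih =>
        have h3 := ih (hYK.trans hle)
        have h4 : K₁ ≤ Subgroup.normalizer (K : Set H) :=
          (Subgroup.normal_subgroupOf_iff_le_normalizer hle).1 hN
        rw [← aux hO Y hY]
        have h5 : ⁅K, K₁⁆ ≤ K := commutator_le_left_of_le_normalizer h4
        rw [Subgroup.commutator_comm] at h5
        exact (Subgroup.commutator_mono h3 hYK).trans h5
    have hS : (Cfsg.generalizedFittingSubgroup H ⊓ K).IsSubnormal := hFn.isSubnormal.inf hK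
    have h3 := subnormal_le_gfitting_decomp hS inf_le_left
    have h4 : Cfsg.generalizedFittingSubgroup H ⊓ K ≤ FK := by
      refine h3.trans ?_
      rw [hFKeq]
      apply sup_le_sup
      · refine le_trans ?_ (compIn_le_layer_subtype K)
        apply sSup_le
        intro C hC
        exact le_sSup ⟨hC.1, hC.2.trans inf_le_right⟩
      · exact inf_le_inf_left _ inf_le_right
    have h5 : ⁅Cfsg.generalizedFittingSubgroup H, Y⁆ ≤ FK :=
      (le_inf (Subgroup.commutator_le_left _ _) hK').trans h4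
    rw [← aux hO Y hY]
    exact Subgroup.commutator_mono h5 le_rfl
  · intro Y₀ hY₀ h
    have hY₀p : IsPGroup p ↥Y₀ := hY.to_le hY₀
    have h1 : ⁅Cfsg.generalizedFittingSubgroup H, Y₀⁆ = ⊥ := by
      rw [eq_bot_iff, ← h, ← aux hO Y₀ hY₀p]
      exact Subgroup.commutator_mono (Subgroup.commutator_mono le_rfl hY₀) le_rfl
    rw [Subgroup.commutator_comm, Subgroup.commutator_eq_bot_iff_le_centralizer] at h1
    have h2 : Y₀ ≤ Cfsg.generalizedFittingSubgroup H := h1.trans (centralizer_gfitting_le H)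
    have h3 : Y₀ ≤ fittingSubgroup H := by
      have hn : ((Subgroup.center (Cfsg.generalizedFittingSubgroup H)).map
          (Cfsg.generalizedFittingSubgroup H).subtype).Normal :=
        ConjAct.normal_of_characteristic_of_normal
      have hnil : Group.IsNilpotent ↥((Subgroup.center (Cfsg.generalizedFittingSubgroup H)).map
          (Cfsg.generalizedFittingSubgroup H).subtype) := by
        have h1 : Group.IsNilpotent (Subgroup.center (Cfsg.generalizedFittingSubgroup H)) :=
          isNilpotent_of_isMulCommutative _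
        exact Group.nilpotent_of_mulEquiv
          ((Subgroup.center (Cfsg.generalizedFittingSubgroup H)).equivMapOfInjective
            (Cfsg.generalizedFittingSubgroup H).subtype
            (Cfsg.generalizedFittingSubgroup H).subtype_injective)
      refine le_trans ?_ (le_fitting hn hnil)
      intro y hy
      refine ⟨⟨y, h2 hy⟩, ?_, rfl⟩
      rw [SetLike.mem_coe, Subgroup.mem_center_iff]
      intro e
      apply Subtype.ext
      have he := h1 hy
      rw [Subgroup.mem_centralizer_iff] at he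
      exact he e e.2
    rw [eq_bot_iff]
    intro y hy
    obtain ⟨k, hk⟩ := exists_pow_eq_one_of_mem hY₀p hy
    have h4 : y ^ Nat.card (fittingSubgroup H) = 1 := by
      have := pow_card_eq_one' (G := ↥(fittingSubgroup H)) (x := ⟨y, h3 hy⟩)
      exact congrArg Subtype.val this
    exact Subgroup.mem_bot.2 (eq_one_of_pow_eq_one_of_coprime h4 hk (Nat.Coprime.pow_right k hfc))

end Cfsg.Agent.S2816
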