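import Cfsg.Statements.S2818
import Cfsg.Agent.Lib.Helper16.Basic

set_option autoImplicit false
open Cfsg

namespace Cfsg.Agent.S2818

/-- Let P be a finite p-subgroup of a group G and H a subgroup of N_G(P) with [P, H] ≤ Ω₁(Z(P)) (the elements of order dividing p in the centre of P). Then H centralizes the Frattini subgroup of P. -/
theorem result {G : Type*} [Group G] [Finite G] {p : ℕ} [Fact p.Prime] (P : Subgroup G) (hP : IsPGroup p ↥P) (H : Subgroup G) (hH : H ≤ Subgroup.normalizer (P : Set G)) (h : ⁅P, H⁆ ≤ Cfsg.omegaOne p (P ⊓ Subgroup.centralizer (P : Set G))) : ⁅(frattini ↥P).map P.subtype, H⁆ = ⊥ := by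
  classical
  open scoped commutatorElement in
  have hZle : Cfsg.omegaOne p (P ⊓ Subgroup.centralizer (P : Set G)) ≤
      P ⊓ Subgroup.centralizer (P : Set G) := by
    unfold Cfsg.omegaOne
    rw [Subgroup.closure_le]
    intro x hx
    exact hx.1
  have hZcomm : ∀ a ∈ Cfsg.omegaOne p (P ⊓ Subgroup.centralizer (P : Set G)),
      ∀ b ∈ Cfsg.omegaOne p (P ⊓ Subgroup.centralizer (P : Set G)), a * b = b * a := by
    intro a ha b hb
    have h1 : a ∈ Subgroup.centralizer (P : Set G) := (Subgroup.mem_inf.1 (hZle ha)).2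
    have h2 : b ∈ P := (Subgroup.mem_inf.1 (hZle hb)).1
    rw [Subgroup.mem_centralizer_iff] at h1
    exact (h1 b h2).symm
  have hZpow : ∀ z ∈ Cfsg.omegaOne p (P ⊓ Subgroup.centralizer (P : Set G)), z ^ p = 1 := by
    intro z hz
    unfold Cfsg.omegaOne at hz
    induction hz using Subgroup.closure_induction with
    | mem a ha => exact ha.2
    | one => simp
    | mul a b ha hb iha ihb =>
      have hc : Commute a b := hZcomm a ha b hb
      rw [hc.mul_pow, iha, ihb, one_mul]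
    | inv a ha iha => rw [inv_pow, iha, inv_one]
  rw [Subgroup.commutator_eq_bot_iff_le_centralizer]
  rintro _ ⟨x, hx, rfl⟩
  rw [Subgroup.mem_centralizer_iff]
  intro t ht
  have hz : ∀ u : P, (u : G)⁻¹ * (t * u * t⁻¹) ∈
      Cfsg.omegaOne p (P ⊓ Subgroup.centralizer (P : Set G)) := by
    intro u
    have h1 : ⁅(u : G)⁻¹, t⁆ ∈ ⁅P, H⁆ :=
      Subgroup.commutator_mem_commutator (P.inv_mem u.2) ht
    have h2 := h h1
    have h3 : ⁅(u : G)⁻¹, t⁆ = (u : G)⁻¹ * (t * u * t⁻¹) := by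
      rw [commutatorElement_def]; group
    rwa [h3] at h2
  let f : P →* G := MonoidHom.mk' (fun u => (u : G)⁻¹ * (t * u * t⁻¹)) (by
    intro a b
    have hcent : (a : G)⁻¹ * (t * a * t⁻¹) ∈ Subgroup.centralizer (P : Set G) :=
      (Subgroup.mem_inf.1 (hZle (hz a))).2
    rw [Subgroup.mem_centralizer_iff] at hcent
    have h4 := hcent (b : G)⁻¹ (P.inv_mem b.2)
    simp only [Subgroup.coe_mul]
    calc ((a : G) * b)⁻¹ * (t * ((a : G) * b) * t⁻¹)
        = (b : G)⁻¹ * ((a : G)⁻¹ * (t * a * t⁻¹)) * (t * b * t⁻¹) := by group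
      _ = ((a : G)⁻¹ * (t * a * t⁻¹)) * (b : G)⁻¹ * (t * b * t⁻¹) := by rw [h4]
      _ = (a : G)⁻¹ * (t * a * t⁻¹) * ((b : G)⁻¹ * (t * b * t⁻¹)) := by group)
  have hfr := Cfsg.Agent.Lib.Helper16.Basic.frattini_le_ker_of_elementary (p := p) f
    (by intro a b; exact hZcomm _ (hz a) _ (hz b)) (by intro a; exact hZpow _ (hz a))
  have h5 := hfr hx
  rw [MonoidHom.mem_ker] at h5
  have h6 : (x : G)⁻¹ * (t * x * t⁻¹) = 1 := h5
  show t * (x : G) = (x : G) * t
  calc t * (x : G) = (x : G) * ((x : G)⁻¹ * (t * x * t⁻¹)) * t := by group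
    _ = (x : G) * t := by rw [h6]; group

end Cfsg.Agent.S2818
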