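import Cfsg.Statements.S2819
import Cfsg.Agent.Lib.Helper16.Asym5
import Cfsg.Agent.S0013

set_option autoImplicit false
open Cfsg

namespace Cfsg.Agent.S2819

open scoped commutatorElement in
def commSub {G : Type*} [Group G] (P D : Subgroup G) (y : G) : Subgroup G where
  carrier := {u | u ∈ P ∧ u ∈ Subgroup.normalizer (D : Set G) ∧ ⁅u, y⁆ ∈ D}
  one_mem' := ⟨P.one_mem, Subgroup.one_mem _, by rw [commutatorElement_one_left]; exact D.one_mem⟩
  mul_mem' := by
    rintro u v ⟨hu1, hu2, hu3⟩ ⟨hv1, hv2, hv3⟩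
    refine ⟨P.mul_mem hu1 hv1, Subgroup.mul_mem _ hu2 hv2, ?_⟩
    have e : ⁅u * v, y⁆ = u * ⁅v, y⁆ * u⁻¹ * ⁅u, y⁆ := by
      simp only [commutatorElement_def]; group
    rw [e]
    exact D.mul_mem ((Subgroup.mem_normalizer_iff.1 hu2 _).1 hv3) hu3
  inv_mem' := by
    rintro u ⟨hu1, hu2, hu3⟩
    refine ⟨P.inv_mem hu1, Subgroup.inv_mem _ hu2, ?_⟩
    have e : ⁅u⁻¹, y⁆ = u⁻¹ * ⁅u, y⁆⁻¹ * u⁻¹⁻¹ := by
      simp only [commutatorElement_def]; group
    rw [e]
    exact (Subgroup.mem_normalizer_iff.1 (Subgroup.inv_mem _ hu2) _).1 (D.inv_mem hu3)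

open scoped commutatorElement in
theorem mul_pow_mem_commutator {G : Type*} [Group G] (P : Subgroup G) {a b : G} (ha : a ∈ P)
    (hb : b ∈ P) (n : ℕ) : (a * b) ^ n * (a ^ n * b ^ n)⁻¹ ∈ ⁅P, P⁆ := by
  rw [← Subgroup.map_subtype_commutator]
  refine ⟨((⟨a, ha⟩ : ↥P) * ⟨b, hb⟩) ^ n * ((⟨a, ha⟩ : ↥P) ^ n * (⟨b, hb⟩ : ↥P) ^ n)⁻¹, ?_, by simp⟩
  rw [SetLike.mem_coe, ← Abelianization.ker_of, MonoidHom.mem_ker, map_mul, map_inv, map_mul,
    map_pow, map_pow, map_pow, map_mul, mul_pow, mul_inv_cancel]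


/-- Let P be a finite p-subgroup of a group G, H a subgroup of N_G(P), and Y a subgroup of H centralizing the derived subgroup P' such that [P, Y] is elementary abelian. Then O^p(⟨Y^H⟩), the subgroup of the normal closure of Y in H generated by its elements of order prime to p, centralizes the Frattini subgroup of P. -/
theorem result {G : Type*} [Group G] [Finite G] {p : ℕ} [Fact p.Prime] (P : Subgroup G) (hP : IsPGroup p ↥P) (H : Subgroup G) (hH : H ≤ Subgroup.normalizer (P : Set G)) (Y : Subgroup G) (hYH : Y ≤ H) (hYc : Y ≤ Subgroup.centralizer ((⁅P, P⁆ : Subgroup G) : Set G)) (hel : Cfsg.IsElementaryAbelian p ⁅P, Y⁆) (NY : Subgroup G) (hNY : NY = (Subgroup.normalClosure ((Y.subgroupOf H : Subgroup ↥H) : Set ↥H)).map H.subtype) : (Cfsg.pResidual p ↥NY).map NY.subtype ≤ Subgroup.centralizer (((frattini ↥P).map P.subtype : Subgroup G) : Set G) := by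
  open Cfsg.Agent.Lib.Helper16.Basic Cfsg.Agent.Lib.Helper16.Residual Cfsg.Agent.Lib.Helper16.PReduced2 Cfsg.Agent.Lib.Helper16.PReduced3 Cfsg.Agent.Lib.Helper16.WeaklyClosed Cfsg.Agent.Lib.Helper16.FrakH in
  open scoped commutatorElement in
  classical
  have hPP' : P ≤ Subgroup.normalizer ((⁅P, P⁆ : Subgroup G) : Set G) := by
    intro g hg
    rw [← conj_eq_self_iff, conj_commutator, conj_eq_self_of_mem hg]
  have hNP' : Subgroup.normalizer (P : Set G) ≤ Subgroup.normalizer ((⁅P, P⁆ : Subgroup G) : Set G) := by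
    intro g hg
    rw [← conj_eq_self_iff, conj_commutator, (conj_eq_self_iff P g).2 hg]
  have hFrP : (frattini ↥P).map P.subtype ≤ P := Subgroup.map_subtype_le _
  have hNFr : Subgroup.normalizer (P : Set G) ≤
      Subgroup.normalizer (((frattini ↥P).map P.subtype : Subgroup G) : Set G) := by
    intro g hg
    haveI : (frattini ↥P).Characteristic := frattini_characteristic
    have hn : ((frattini ↥P).map P.subtype).subgroupOf (Subgroup.normalizer (P : Set G)) =
        ((frattini ↥P).map P.subtype).subgroupOf (Subgroup.normalizer (P : Set G)) := rfl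
    haveI hPn : (P.subgroupOf (Subgroup.normalizer (P : Set G))).Normal :=
      Subgroup.normal_in_normalizer
    rw [Subgroup.mem_normalizer_iff]
    intro x
    have key : ∀ (g : G), g ∈ Subgroup.normalizer (P : Set G) → ∀ x : G,
        x ∈ (frattini ↥P).map P.subtype → g * x * g⁻¹ ∈ (frattini ↥P).map P.subtype := by
      intro g hg x hx
      obtain ⟨u, hu, rfl⟩ := hx
      let φ : ↥P ≃* ↥P :=
        { toFun := fun v => ⟨g * v * g⁻¹, (Subgroup.mem_normalizer_iff.1 hg v).1 v.2⟩
          invFun := fun v => ⟨g⁻¹ * v * g, by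
            have := (Subgroup.mem_normalizer_iff.1 (Subgroup.inv_mem _ hg) v).1 v.2
            rwa [inv_inv] at this⟩
          left_inv := fun v => Subtype.ext (by simp [mul_assoc])
          right_inv := fun v => Subtype.ext (by simp [mul_assoc])
          map_mul' := fun v w => Subtype.ext (by simp [mul_assoc]) }
      have h1 : φ u ∈ frattini ↥P := by
        have h2 := Subgroup.characteristic_iff_map_eq.1 (inferInstance : (frattini ↥P).Characteristic) φ
        rw [← h2]
        exact ⟨u, hu, rfl⟩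
      exact ⟨φ u, h1, rfl⟩
    constructor
    · exact key g hg x
    · intro hx
      have h3 := key g⁻¹ (Subgroup.inv_mem _ hg) _ hx
      have e : g⁻¹ * (g * x * g⁻¹) * g⁻¹⁻¹ = x := by group
      rwa [e] at h3
  have hFrp : IsPGroup p ((frattini ↥P).map P.subtype : Subgroup G) := hP.to_le hFrP
  have hconj : ∀ k : ↥H, ∀ y ∈ Y.map (MulAut.conj (k : G)).toMonoidHom,
      y ∈ Subgroup.normalizer (((frattini ↥P).map P.subtype : Subgroup G) : Set G) ∧
      y ∈ Subgroup.centralizer ((⁅P, P⁆ : Subgroup G) : Set G) ∧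
      ∀ u ∈ (frattini ↥P).map P.subtype, ⁅u, y⁆ ∈ ⁅P, P⁆ := by
    intro k y hy
    have hkN : (k : G) ∈ Subgroup.normalizer (P : Set G) := hH k.2
    have hyH : y ∈ H := by
      rw [mem_conj] at hy
      have hy' : y = k * ((k : G)⁻¹ * y * k) * (k : G)⁻¹ := by group
      rw [hy']
      exact H.mul_mem (H.mul_mem k.2 (hYH hy)) (H.inv_mem k.2)
    have hyN : y ∈ Subgroup.normalizer (P : Set G) := hH hyH
    have hyC : y ∈ Subgroup.centralizer ((⁅P, P⁆ : Subgroup G) : Set G) := by
      have h1 := conj_mono (k : G) hYc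
      rw [← centralizer_conj, (conj_eq_self_iff _ (k : G)).2 (hNP' hkN)] at h1
      exact h1 hy
    refine ⟨hNFr hyN, hyC, ?_⟩
    have hexp : ∀ c ∈ ⁅P, Y.map (MulAut.conj (k : G)).toMonoidHom⁆, c ^ p = 1 := by
      intro c hc
      have e1 := conj_commutator P Y (k : G)
      rw [(conj_eq_self_iff P (k : G)).2 hkN] at e1
      rw [← e1, mem_conj] at hc
      have h2 := hel.2 _ hc
      have e2 : ((k : G)⁻¹ * c * k) ^ p = (k : G)⁻¹ * c ^ p * k := by
        have := conj_pow (a := (k : G)⁻¹) (b := c) (i := p)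
        rw [inv_inv] at this
        exact this
      rw [e2] at h2
      have e3 : c ^ p = (k : G) * ((k : G)⁻¹ * c ^ p * k) * (k : G)⁻¹ := by group
      rw [e3, h2]; group
    have hle : (frattini ↥P).map P.subtype ≤ commSub P ⁅P, P⁆ y := by
      haveI hnorm : ((commSub P ⁅P, P⁆ y).subgroupOf P).Normal := by
        apply Subgroup.Normal.of_commutator_le
        intro u hu
        rw [Subgroup.mem_subgroupOf]
        have hu' : (u : G) ∈ ⁅P, P⁆ := by
          rw [← Subgroup.map_subtype_commutator]; exact ⟨u, hu, rfl⟩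
        refine ⟨u.2, hPP' u.2, ?_⟩
        have h1 : y * (u : G) = (u : G) * y := (Subgroup.mem_centralizer_iff.1 hyC (u : G) hu').symm
        have e : ⁅(u : G), y⁆ = 1 := by
          rw [commutatorElement_def, ← h1]; group
        rw [e]; exact Subgroup.one_mem _
      have h1 := Cfsg.Agent.S0013.result p hP ((commSub P ⁅P, P⁆ y).subgroupOf P)
        (by
          intro u hu
          rw [Subgroup.mem_subgroupOf]
          have hu' : (u : G) ∈ ⁅P, P⁆ := by
            rw [← Subgroup.map_subtype_commutator]; exact ⟨u, hu, rfl⟩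
          refine ⟨u.2, hPP' u.2, ?_⟩
          have h1 : y * (u : G) = (u : G) * y :=
            (Subgroup.mem_centralizer_iff.1 hyC (u : G) hu').symm
          have e : ⁅(u : G), y⁆ = 1 := by
            rw [commutatorElement_def, ← h1]; group
          rw [e]; exact Subgroup.one_mem _)
        (by
          intro x
          rw [Subgroup.mem_subgroupOf]
          have hxp : ((x ^ p : ↥P) : G) = (x : G) ^ p := rfl
          rw [hxp]
          refine ⟨P.pow_mem x.2 p, hPP' (P.pow_mem x.2 p), ?_⟩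
          have hc : ⁅y, (x : G)⁆ ∈ ⁅P, Y.map (MulAut.conj (k : G)).toMonoidHom⁆ := by
            rw [Subgroup.commutator_comm]
            exact Subgroup.commutator_mem_commutator hy x.2
          have hcP : ⁅y, (x : G)⁆ ∈ P := by
            rw [commutatorElement_def]
            have h2 : y * (x : G) * y⁻¹ ∈ P := (Subgroup.mem_normalizer_iff.1 hyN _).1 x.2
            exact P.mul_mem h2 (P.inv_mem x.2)
          have h3 := mul_pow_mem_commutator P hcP x.2 p
          rw [hexp _ hc, one_mul] at h3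
          have e1 : ⁅y, (x : G)⁆ * (x : G) = y * (x : G) * y⁻¹ := by
            rw [commutatorElement_def]; group
          rw [e1, conj_pow] at h3
          have e2 : ⁅(x : G) ^ p, y⁆ = (y * (x : G) ^ p * y⁻¹ * ((x : G) ^ p)⁻¹)⁻¹ := by
            rw [commutatorElement_def]; group
          rw [e2]
          exact Subgroup.inv_mem _ h3)
      rintro _ ⟨u, hu, rfl⟩
      exact Subgroup.mem_subgroupOf.1 (h1 hu)
    intro u hu
    exact (hle hu).2.2
  have hW : NY ≤ ⨆ k : ↥H, Y.map (MulAut.conj (k : G)).toMonoidHom := by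
    rw [hNY]
    apply nc_le_of _ (iSup_conj_le_normalizer Y H)
    refine le_trans ?_ (le_iSup _ (1 : ↥H))
    intro y hy
    exact ⟨y, hy, by simp⟩
  have hall : ∀ y ∈ NY,
      y ∈ Subgroup.normalizer (((frattini ↥P).map P.subtype : Subgroup G) : Set G) ∧
      y ∈ Subgroup.centralizer ((⁅P, P⁆ : Subgroup G) : Set G) ∧
      y ∈ Cfsg.Agent.Lib.Helper17.CharP3.stab ((frattini ↥P).map P.subtype) ⁅P, P⁆ := by
    have hle : (⨆ k : ↥H, Y.map (MulAut.conj (k : G)).toMonoidHom) ≤
        Subgroup.normalizer (((frattini ↥P).map P.subtype : Subgroup G) : Set G) ⊓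
        (Subgroup.centralizer ((⁅P, P⁆ : Subgroup G) : Set G) ⊓
        Cfsg.Agent.Lib.Helper17.CharP3.stab ((frattini ↥P).map P.subtype) ⁅P, P⁆) := by
      apply iSup_le
      intro k y hy
      obtain ⟨h1, h2, h3⟩ := hconj k y hy
      exact Subgroup.mem_inf.2 ⟨h1, Subgroup.mem_inf.2 ⟨h2,
        ⟨Subgroup.centralizer_le_normalizer _ h2, h3⟩⟩⟩
    intro y hy
    have h1 := hle (hW hy)
    exact ⟨(Subgroup.mem_inf.1 h1).1, (Subgroup.mem_inf.1 (Subgroup.mem_inf.1 h1).2).1,
      (Subgroup.mem_inf.1 (Subgroup.mem_inf.1 h1).2).2⟩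
  rw [pResidualOf_eq_closure, Subgroup.closure_le]
  rintro x ⟨hxN, hxc⟩
  obtain ⟨h1, h2, h3⟩ := hall x hxN
  rw [SetLike.mem_coe, Subgroup.mem_centralizer_iff]
  intro u hu
  have h4 := Cfsg.Agent.Lib.Helper9.commute_of_commute_commutator hFrp hxc h1
    (fun v hv => Subgroup.mem_centralizer_iff.1 h2 _ (h3.2 v hv) |>.symm) u hu
  exact h4.symm

end Cfsg.Agent.S2819
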