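import Cfsg.Statements.S2822
import Cfsg.Agent.Lib.Helper16.PReduced2

set_option autoImplicit false
open Cfsg

namespace Cfsg.Agent.S2822

/-- Let H be a finite group, p a prime, T a Sylow p-subgroup, and L, M subgroups of characteristic p containing T, with largest p-reduced normal subgroups Y_L, Y_M. If L·C_H(Y_M) = M·C_H(Y_M), then Y_M ≤ Y_L. -/
theorem result {H : Type*} [Group H] [Finite H] {p : ℕ} [Fact p.Prime] (T : Sylow p H) (L M : Subgroup H) (hTL : (T : Subgroup H) ≤ L) (hTM : (T : Subgroup H) ≤ M) (hL : Subgroup.centralizer (Cfsg.pCore p ↥L : Set ↥L) ≤ Cfsg.pCore p ↥L) (hM : Subgroup.centralizer (Cfsg.pCore p ↥M : Set ↥M) ≤ Cfsg.pCore p ↥M) : L ⊔ Subgroup.centralizer (((Cfsg.largestPReducedOf p M) : Subgroup H) : Set H) = M ⊔ Subgroup.centralizer (((Cfsg.largestPReducedOf p M) : Subgroup H) : Set H) → (Cfsg.largestPReducedOf p M) ≤ (Cfsg.largestPReducedOf p L) := by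
  open Cfsg.Agent.Lib.Helper16.Basic Cfsg.Agent.Lib.Helper16.PReduced Cfsg.Agent.Lib.Helper16.PReduced2 Cfsg.Agent.Lib.Helper16.CharP in
  intro hfac
  have hYM := pr_largest (p := p) M
  apply pr_le_largest
  have hCn : M ⊔ Subgroup.centralizer ((Cfsg.largestPReducedOf p M : Subgroup H) : Set H) ≤
      Subgroup.normalizer ((Cfsg.largestPReducedOf p M : Subgroup H) : Set H) :=
    sup_le hYM.norm (Subgroup.centralizer_le_normalizer _)
  have hLn : L ≤ Subgroup.normalizer ((Cfsg.largestPReducedOf p M : Subgroup H) : Set H) := by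
    have h := le_sup_left (a := L)
      (b := Subgroup.centralizer ((Cfsg.largestPReducedOf p M : Subgroup H) : Set H))
    rw [hfac] at h
    exact h.trans hCn
  have hLnC := hLn.trans (normalizer_le_normalizer_centralizer _)
  apply pr_of_sylow T hTL (hYM.le_pCoreOf.trans ((pCoreOf_le_sylow T hTM).trans hTL)) hLn hYM.el
  intro D hDL hDn hp
  have hE : (D ⊔ Subgroup.centralizer ((Cfsg.largestPReducedOf p M : Subgroup H) : Set H)) ⊓ M ≤
      Subgroup.centralizer ((Cfsg.largestPReducedOf p M : Subgroup H) : Set H) := by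
    apply hYM.red _ inf_le_right
    · refine le_trans (le_inf ?_ Subgroup.le_normalizer) (inf_normalizer_le _ _)
      have h1 : L ⊔ Subgroup.centralizer ((Cfsg.largestPReducedOf p M : Subgroup H) : Set H) ≤
          Subgroup.normalizer ((D ⊔ Subgroup.centralizer
            ((Cfsg.largestPReducedOf p M : Subgroup H) : Set H) : Subgroup H) : Set H) :=
        sup_le ((le_inf hDn hLnC).trans (sup_normalizer_le _ _))
          (le_sup_right.trans Subgroup.le_normalizer)
      have h := le_sup_left (a := M)
        (b := Subgroup.centralizer ((Cfsg.largestPReducedOf p M : Subgroup H) : Set H))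
      rw [← hfac] at h
      exact h.trans h1
    · intro e he
      exact pow_mem_of_mem_sup (hDL.trans hLnC) hp e (Subgroup.mem_inf.1 he).1
  exact (inf_le_inf le_sup_left hTM).trans hE

end Cfsg.Agent.S2822
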