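import Cfsg.Statements.S2823
import Cfsg.Agent.Lib.Helper16.SylowCenter

set_option autoImplicit false
open Cfsg

namespace Cfsg.Agent.S2823

/-- Let H be a finite group, p a prime, T a Sylow p-subgroup and L a subgroup of characteristic p containing T; let Z_L be the subgroup generated by the Ω₁(Z(S)) over the Sylow p-subgroups S of L and O^p(L) the subgroup generated by the elements of L of order prime to p. Then Z_L = Ω₁(Z(L))·[Z_L, O^p(L)] and [Z_L, L] = [Z_L, O^p(L)]. -/
theorem result {H : Type*} [Group H] [Finite H] {p : ℕ} [Fact p.Prime] (T : Sylow p H) (L : Subgroup H) (hTL : (T : Subgroup H) ≤ L) (hL : Subgroup.centralizer (Cfsg.pCore p ↥L : Set ↥L) ≤ Cfsg.pCore p ↥L) : Cfsg.sylowCenterClosure p L = (Cfsg.omegaOne p (L ⊓ Subgroup.centralizer ((L : Subgroup H) : Set H))) ⊔ ⁅Cfsg.sylowCenterClosure p L, (Cfsg.pResidual p ↥L).map L.subtype⁆ ∧ ⁅Cfsg.sylowCenterClosure p L, L⁆ = ⁅Cfsg.sylowCenterClosure p L, (Cfsg.pResidual p ↥L).map L.subtype⁆ := by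
  open Cfsg.Agent.Lib.Helper16.Basic Cfsg.Agent.Lib.Helper16.Residual Cfsg.Agent.Lib.Helper16.PReduced Cfsg.Agent.Lib.Helper16.PReduced2 Cfsg.Agent.Lib.Helper16.Averaging Cfsg.Agent.Lib.Helper16.SylowCenter in
  open scoped commutatorElement in
  have hY := pr_largest (p := p) L
  have hVY := sylowCenterClosure_le_largest L hL
  have hVL : Cfsg.sylowCenterClosure p L ≤ L := hVY.trans hY.le
  have hVcomm : ∀ a ∈ Cfsg.sylowCenterClosure p L, ∀ b ∈ Cfsg.sylowCenterClosure p L,
      a * b = b * a := by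
    intro a ha b hb
    exact Subgroup.mem_centralizer_iff.1 (hY.comm (hVY hb)) a (hVY ha)
  have hVp : ∀ v ∈ Cfsg.sylowCenterClosure p L, v ^ p = 1 := fun v hv => hY.el.2 v (hVY hv)
  have hLV := sylowCenterClosure_normal (p := p) L
  have hRL : (Cfsg.pResidual p ↥L).map L.subtype ≤ L := Subgroup.map_subtype_le _
  haveI hRn : (Cfsg.pResidual p ↥L).Normal := pResidual_normal ↥L p
  have hLR : L ≤ Subgroup.normalizer (((Cfsg.pResidual p ↥L).map L.subtype : Subgroup H) : Set H) :=
    le_normalizer_map_subtype _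
  have hWV : ⁅Cfsg.sylowCenterClosure p L, (Cfsg.pResidual p ↥L).map L.subtype⁆ ≤
      Cfsg.sylowCenterClosure p L := commutator_le_left_of_le_normalizer (hRL.trans hLV)
  have hLW : L ≤ Subgroup.normalizer
      ((⁅Cfsg.sylowCenterClosure p L, (Cfsg.pResidual p ↥L).map L.subtype⁆ : Subgroup H) : Set H) :=
    (le_inf hLV hLR).trans (commutator_normalizer_le _ _)
  have hZV : Cfsg.omegaOne p (L ⊓ Subgroup.centralizer ((L : Subgroup H) : Set H)) ≤
      Cfsg.sylowCenterClosure p L :=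
    (omegaOne_center_le_sylow T hTL).trans (omega_sylow_le_sylowCenterClosure T hTL)
  have hgen : ∀ S : Sylow p ↥L, Cfsg.omegaOne p ((S : Subgroup ↥L).map L.subtype ⊓
      Subgroup.centralizer (((S : Subgroup ↥L).map L.subtype : Subgroup H) : Set H)) ≤
      Cfsg.omegaOne p (L ⊓ Subgroup.centralizer ((L : Subgroup H) : Set H)) ⊔
        ⁅Cfsg.sylowCenterClosure p L, (Cfsg.pResidual p ↥L).map L.subtype⁆ := by
    intro S
    have hSV : Cfsg.omegaOne p ((S : Subgroup ↥L).map L.subtype ⊓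
        Subgroup.centralizer (((S : Subgroup ↥L).map L.subtype : Subgroup H) : Set H)) ≤
        Cfsg.sylowCenterClosure p L :=
      le_iSup (fun S : Sylow p ↥L => Cfsg.omegaOne p ((S : Subgroup ↥L).map L.subtype ⊓
        Subgroup.centralizer (((S : Subgroup ↥L).map L.subtype : Subgroup H) : Set H))) S
    intro z0 hz0
    have hz0V := hSV hz0
    revert hz0V
    unfold Cfsg.omegaOne at hz0
    induction hz0 using Subgroup.closure_induction with
    | one => intro _; exact Subgroup.one_mem _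
    | mul a b ha hb iha ihb =>
      intro _
      have haV := hSV (show a ∈ Cfsg.omegaOne p _ from ha)
      have hbV := hSV (show b ∈ Cfsg.omegaOne p _ from hb)
      exact Subgroup.mul_mem _ (iha haV) (ihb hbV)
    | inv a ha iha =>
      intro _
      have haV := hSV (show a ∈ Cfsg.omegaOne p _ from ha)
      exact Subgroup.inv_mem _ (iha haV)
    | mem z hz =>
      intro hzV
      obtain ⟨hzS, hzp⟩ := hz
      obtain ⟨hzS1, hzS2⟩ := Subgroup.mem_inf.1 hzS
      haveI hVn : ((Cfsg.sylowCenterClosure p L).subgroupOf L).Normal :=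
        Subgroup.normal_subgroupOf_of_le_normalizer hLV
      have hVc : IsMulCommutative ↥((Cfsg.sylowCenterClosure p L).subgroupOf L) :=
        ⟨⟨fun a b => Subtype.ext (Subtype.ext (hVcomm _ (Subgroup.mem_subgroupOf.1 a.2) _
          (Subgroup.mem_subgroupOf.1 b.2)))⟩⟩
      obtain ⟨c, w, hcV, hcen, hw, hzcw⟩ := exists_central_mul_comm S
        ((Cfsg.sylowCenterClosure p L).subgroupOf L) hVc
        (z := (⟨z, hVL hzV⟩ : ↥L)) (Subgroup.mem_subgroupOf.2 hzV)
        (Subtype.ext (by simpa using hzp))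
        (by
          intro t ht
          apply Subtype.ext
          exact Subgroup.mem_centralizer_iff.1 hzS2 (t : H) ⟨t, ht, rfl⟩)
      have hzcw' : z = (c : H) * (w : H) := congrArg Subtype.val hzcw
      have hcV' : (c : H) ∈ Cfsg.sylowCenterClosure p L := Subgroup.mem_subgroupOf.1 hcV
      have hcZ : (c : H) ∈ Cfsg.omegaOne p (L ⊓ Subgroup.centralizer ((L : Subgroup H) : Set H)) := by
        apply mem_omegaOne_center c.2
        · rw [Subgroup.mem_centralizer_iff]
          intro l hl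
          exact congrArg Subtype.val (hcen ⟨l, hl⟩)
        · exact hVp _ hcV'
      have hwW : (w : H) ∈ ⁅Cfsg.sylowCenterClosure p L, (Cfsg.pResidual p ↥L).map L.subtype⁆ := by
        have h1 : (w : H) ∈ (⁅(Cfsg.sylowCenterClosure p L).subgroupOf L,
            Cfsg.pResidual p ↥L⁆).map L.subtype := ⟨w, hw, rfl⟩
        rw [Subgroup.map_commutator, Subgroup.map_subgroupOf_eq_of_le hVL] at h1
        exact h1
      rw [hzcw']
      exact Subgroup.mul_mem _ (le_sup_left (b := ⁅Cfsg.sylowCenterClosure p L,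
        (Cfsg.pResidual p ↥L).map L.subtype⁆) hcZ)
        (le_sup_right (a := Cfsg.omegaOne p (L ⊓ Subgroup.centralizer ((L : Subgroup H) : Set H))) hwW)
  have ha : Cfsg.sylowCenterClosure p L =
      Cfsg.omegaOne p (L ⊓ Subgroup.centralizer ((L : Subgroup H) : Set H)) ⊔
        ⁅Cfsg.sylowCenterClosure p L, (Cfsg.pResidual p ↥L).map L.subtype⁆ :=
    le_antisymm (iSup_le hgen) (sup_le hZV hWV)
  refine ⟨ha, le_antisymm ?_ (Subgroup.commutator_mono le_rfl hRL)⟩
  let A : Subgroup H :=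
    { carrier := {v | v ∈ Cfsg.sylowCenterClosure p L ∧ ∀ g ∈ L, ⁅v, g⁆ ∈
        ⁅Cfsg.sylowCenterClosure p L, (Cfsg.pResidual p ↥L).map L.subtype⁆}
      one_mem' := ⟨Subgroup.one_mem _, fun g _ => by
        rw [commutatorElement_one_left]; exact Subgroup.one_mem _⟩
      mul_mem' := by
        rintro a b ⟨ha1, ha2⟩ ⟨hb1, hb2⟩
        refine ⟨Subgroup.mul_mem _ ha1 hb1, fun g hg => ?_⟩
        have h1 : ⁅a * b, g⁆ = a * ⁅b, g⁆ * a⁻¹ * ⁅a, g⁆ := by
          rw [commutatorElement_def, commutatorElement_def, commutatorElement_def]; group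
        have h2 : a * ⁅b, g⁆ * a⁻¹ = ⁅b, g⁆ := by
          rw [hVcomm a ha1 _ (hWV (hb2 g hg))]; group
        rw [h1, h2]
        exact Subgroup.mul_mem _ (hb2 g hg) (ha2 g hg)
      inv_mem' := by
        rintro a ⟨ha1, ha2⟩
        refine ⟨Subgroup.inv_mem _ ha1, fun g hg => ?_⟩
        have h1 : ⁅a⁻¹, g⁆ = a⁻¹ * ⁅a, g⁆⁻¹ * a := by
          rw [commutatorElement_def, commutatorElement_def]; group
        have h2 : a⁻¹ * ⁅a, g⁆⁻¹ * a = ⁅a, g⁆⁻¹ := by
          have h3 := hVcomm _ (Subgroup.inv_mem _ ha1) _ (Subgroup.inv_mem _ (hWV (ha2 g hg)))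
          rw [h3]; group
        rw [h1, h2]
        exact Subgroup.inv_mem _ (ha2 g hg) }
  have hZA : Cfsg.omegaOne p (L ⊓ Subgroup.centralizer ((L : Subgroup H) : Set H)) ≤ A := by
    intro x hx
    refine ⟨hZV hx, fun g hg => ?_⟩
    have hxC := (Subgroup.mem_inf.1 (omegaOne_center_le L hx)).2
    have h1 : ⁅x, g⁆ = 1 := by
      rw [commutatorElement_eq_one_iff_mul_comm]
      exact (Subgroup.mem_centralizer_iff.1 hxC g hg).symm
    rw [h1]; exact Subgroup.one_mem _
  have hWA : ⁅Cfsg.sylowCenterClosure p L, (Cfsg.pResidual p ↥L).map L.subtype⁆ ≤ A := by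
    intro w hw
    refine ⟨hWV hw, fun g hg => ?_⟩
    have h1 : ⁅w, g⁆ = w * (g * w⁻¹ * g⁻¹) := by rw [commutatorElement_def]; group
    rw [h1]
    exact Subgroup.mul_mem _ hw ((Subgroup.mem_normalizer_iff.1 (hLW hg) _).1
      (Subgroup.inv_mem _ hw))
  rw [Subgroup.commutator_le]
  intro v hv g hg
  rw [ha] at hv
  exact ((sup_le hZA hWA) hv).2 g hg

end Cfsg.Agent.S2823
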