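import Cfsg.Statements.S2825
import Cfsg.Agent.Lib.Helper16.PReduced5

set_option autoImplicit false
open Cfsg

namespace Cfsg.Agent.S2825

/-- Let L be a subnormal subgroup of the finite group H, p a prime, Y_H and Y_L the largest p-reduced normal subgroups. Then Y_H ∩ L = Y_H ∩ Y_L and this subgroup is a p-reduced normal subgroup of L; C_L(Y_L) = C_L(Y_H) = C_L(Y_H ∩ L); and if O^p(H) ≤ L, then [Y_L, L] = 1 if and only if [Y_H, H] = 1. -/
theorem result {H : Type*} [Group H] [Finite H] {p : ℕ} [Fact p.Prime] (L : Subgroup H) (hL : L.IsSubnormal) : Cfsg.largestPReduced p H ⊓ L = Cfsg.largestPReduced p H ⊓ (Cfsg.largestPReducedOf p L) ∧ Cfsg.IsPReducedNormal p ((Cfsg.largestPReduced p H ⊓ L).subgroupOf L) ∧ L ⊓ Subgroup.centralizer ((Cfsg.largestPReducedOf p L : Subgroup H) : Set H) = L ⊓ Subgroup.centralizer (Cfsg.largestPReduced p H : Set H) ∧ L ⊓ Subgroup.centralizer (Cfsg.largestPReduced p H : Set H) = L ⊓ Subgroup.centralizer ((Cfsg.largestPReduced p H ⊓ L : Subgroup H) : Set H) ∧ (Cfsg.pResidual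 p H ≤ L → (⁅(Cfsg.largestPReducedOf p L), L⁆ = ⊥ ↔ ⁅Cfsg.largestPReduced p H, (⊤ : Subgroup H)⁆ = ⊥)) := by
  open Cfsg.Agent.Lib.Helper16.Basic Cfsg.Agent.Lib.Helper16.Residual Cfsg.Agent.Lib.Helper16.PReduced Cfsg.Agent.Lib.Helper16.PReduced2 Cfsg.Agent.Lib.Helper16.PReduced4 Cfsg.Agent.Lib.Helper16.PReduced5 Cfsg.Agent.Lib.Helper16.CharP in
  open scoped commutatorElement in
  have hYH := pr_top_largest (p := p) (H := H)
  haveI hYHn : (Cfsg.largestPReduced p H).Normal := (largest_isPReduced (p := p) (L := H)).1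
  have hNYH : Subgroup.normalizer ((Cfsg.largestPReduced p H : Subgroup H) : Set H) = ⊤ :=
    Subgroup.normalizer_eq_top_iff.2 hYHn
  have hYHp : IsPGroup p (Cfsg.largestPReduced p H) := hYH.isPGroup
  have hYL := pr_largest (p := p) L
  have key : ∀ D : Subgroup H, D ≤ L → L ≤ Subgroup.normalizer (D : Set H) →
      (∀ d ∈ D, ∃ k : ℕ, d ^ p ^ k ∈
        Subgroup.centralizer ((Cfsg.largestPReduced p H ⊓ L : Subgroup H) : Set H)) →
      D ≤ Subgroup.centralizer ((Cfsg.largestPReduced p H : Subgroup H) : Set H) := by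
    intro D hDL hLD hp
    have hDsub : D.IsSubnormal := Subgroup.IsSubnormal.trans hDL
      (Subgroup.Normal.isSubnormal (Subgroup.normal_subgroupOf_of_le_normalizer hLD)) hL
    apply red_subnormal hYH hDsub
    apply exists_pow_mem_of_pprime_mem
    intro b hb hcop
    exact pprime_centralizes_of_inf hYHp hDL hDsub hb hcop
      (pprime_mem_of_exists_pow_mem hp b hb hcop)
  have hLn : L ≤ Subgroup.normalizer ((Cfsg.largestPReduced p H ⊓ L : Subgroup H) : Set H) :=
    (le_inf (by rw [hNYH]; exact le_top) Subgroup.le_normalizer).trans (inf_normalizer_le _ _)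
  have h2 : PR p L (Cfsg.largestPReduced p H ⊓ L) := by
    refine ⟨inf_le_right, hLn, elementary_of_le hYH.el inf_le_left, ?_⟩
    intro D hDL hLD hp
    exact (key D hDL hLD hp).trans (Subgroup.centralizer_le inf_le_left)
  have h4 : L ⊓ Subgroup.centralizer ((Cfsg.largestPReduced p H : Subgroup H) : Set H) =
      L ⊓ Subgroup.centralizer ((Cfsg.largestPReduced p H ⊓ L : Subgroup H) : Set H) := by
    apply le_antisymm (inf_le_inf_left _ (Subgroup.centralizer_le inf_le_left))
    refine le_inf inf_le_left ?_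
    apply key _ inf_le_left
    · exact (le_inf Subgroup.le_normalizer
        (hLn.trans (normalizer_le_normalizer_centralizer _))).trans (inf_normalizer_le _ _)
    · intro d hd
      exact ⟨0, by simpa using (Subgroup.mem_inf.1 hd).2⟩
  have hle : Cfsg.largestPReduced p H ⊓ L ≤ Cfsg.largestPReducedOf p L := pr_le_largest h2
  have h3 : L ⊓ Subgroup.centralizer ((Cfsg.largestPReducedOf p L : Subgroup H) : Set H) =
      L ⊓ Subgroup.centralizer ((Cfsg.largestPReduced p H : Subgroup H) : Set H) := by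
    apply le_antisymm
    · rw [h4]; exact inf_le_inf_left _ (Subgroup.centralizer_le hle)
    · exact le_inf inf_le_left (inf_centralizer_largest_le hL)
  refine ⟨le_antisymm (le_inf inf_le_left hle) (inf_le_inf_left _ hYL.le),
    (pr_iff inf_le_right).2 h2, h3, h4, ?_⟩
  intro hres
  rw [Subgroup.commutator_eq_bot_iff_le_centralizer, Subgroup.commutator_eq_bot_iff_le_centralizer]
  constructor
  · intro h
    have h5 : L ≤ Subgroup.centralizer ((Cfsg.largestPReducedOf p L : Subgroup H) : Set H) :=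
      Subgroup.le_centralizer_iff.1 h
    have h6 : L ≤ L ⊓ Subgroup.centralizer ((Cfsg.largestPReduced p H : Subgroup H) : Set H) := by
      rw [← h3]; exact le_inf le_rfl h5
    have h7 : (⊤ : Subgroup H) ≤
        Subgroup.centralizer ((Cfsg.largestPReduced p H : Subgroup H) : Set H) := by
      apply hYH.red ⊤ le_top Subgroup.le_normalizer
      intro d _
      obtain ⟨k, hk⟩ := exists_pow_mem_pResidual (p := p) d
      exact ⟨k, (Subgroup.mem_inf.1 (h6 (hres hk))).2⟩
    exact Subgroup.le_centralizer_iff.1 h7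
  · intro h
    have h7 : (⊤ : Subgroup H) ≤
        Subgroup.centralizer ((Cfsg.largestPReduced p H : Subgroup H) : Set H) :=
      Subgroup.le_centralizer_iff.1 h
    have h6 : L ≤ L ⊓ Subgroup.centralizer ((Cfsg.largestPReducedOf p L : Subgroup H) : Set H) := by
      rw [h3]; exact le_inf le_rfl (le_top.trans h7)
    exact Subgroup.le_centralizer_iff.1 (h6.trans inf_le_right)

end Cfsg.Agent.S2825
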