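import Cfsg.Statements.S2826
import Cfsg.Agent.Lib.Helper16.Averaging

set_option autoImplicit false
open Cfsg

namespace Cfsg.Agent.S2826

/-- Let H be a finite group of characteristic p, T a Sylow p-subgroup, and V a normal elementary abelian p-subgroup of H containing Ω₁(Z(T)). Then C_H(Ω₁(Z(T))) = C_H([V, O^p(H)] ∩ Ω₁(Z(T))), O^p(H) being generated by the elements of order prime to p. -/
theorem result {H : Type*} [Group H] [Finite H] {p : ℕ} [Fact p.Prime] (hH : Subgroup.centralizer (Cfsg.pCore p H : Set H) ≤ Cfsg.pCore p H) (T : Sylow p H) (V : Subgroup H) [V.Normal] (hV : Cfsg.IsElementaryAbelian p V) (hZV : (Cfsg.omegaOne p ((T : Subgroup H) ⊓ Subgroup.centralizer (((T : Subgroup H) : Subgroup H) : Set H))) ≤ V) : Subgroup.centralizer ((Cfsg.omegaOne p ((T : Subgroup H) ⊓ Subgroup.centralizer (((T : Subgroup H) : Subgroup H) : Set H))) : Set H) = Subgroup.centralizer (((⁅V, Cfsg.pResidual p H⁆ ⊓ (Cfsg.omegaOne p ((T : Subgroup H) ⊓ Subgroup.centralizer (((T : Subgroup H) : Subgroup H) : Set H)))) : Subgroup H) :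 Set H) := by
  open Cfsg.Agent.Lib.Helper16.Basic Cfsg.Agent.Lib.Helper16.PReduced Cfsg.Agent.Lib.Helper16.PReduced2 Cfsg.Agent.Lib.Helper16.Averaging in
  apply le_antisymm
  · exact Subgroup.centralizer_le inf_le_right
  · intro x hx
    have hZle : Cfsg.omegaOne p ((T : Subgroup H) ⊓ Subgroup.centralizer ((T : Subgroup H) : Set H)) ≤
        Subgroup.centralizer ({x} : Set H) := by
      unfold Cfsg.omegaOne
      rw [Subgroup.closure_le]
      rintro z ⟨hz, hzp⟩
      obtain ⟨hzT, hzC⟩ := Subgroup.mem_inf.1 hz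
      have hzV : z ∈ V := hZV (Subgroup.subset_closure ⟨hz, hzp⟩)
      obtain ⟨c, w, hcV, hcen, hw, hzcw⟩ := exists_central_mul_comm T V hV.1 hzV hzp
        (fun t ht => (Subgroup.mem_centralizer_iff.1 hzC t ht))
      have hwV : w ∈ V := Subgroup.commutator_le_left V _ hw
      have hVT : V ≤ (T : Subgroup H) :=
        normal_isPGroup_le_sylow inferInstance (isPGroup_of_elementary hV) T
      have hwC : w ∈ Subgroup.centralizer ((T : Subgroup H) : Set H) := by
        rw [Subgroup.mem_centralizer_iff]
        intro t ht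
        have hw' : w = c⁻¹ * z := by rw [hzcw]; group
        rw [hw']
        have h1 : Commute t z := Subgroup.mem_centralizer_iff.1 hzC t ht
        have h2 : Commute t c := hcen t
        exact (h2.inv_right.mul_right h1).eq
      have hwZ : w ∈ Cfsg.omegaOne p ((T : Subgroup H) ⊓
          Subgroup.centralizer ((T : Subgroup H) : Set H)) :=
        mem_omegaOne_center (hVT hwV) hwC (hV.2 w hwV)
      have hxw := Subgroup.mem_centralizer_iff.1 hx w (Subgroup.mem_inf.2 ⟨hw, hwZ⟩)
      rw [SetLike.mem_coe, Subgroup.mem_centralizer_iff]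
      intro y hy
      rw [Set.mem_singleton_iff] at hy
      subst hy
      rw [hzcw]
      have hc : Commute y c := hcen y
      have hw2 : Commute y w := Commute.symm hxw
      exact (hc.mul_right hw2).eq
    rw [Subgroup.mem_centralizer_iff]
    intro z hz
    exact (Subgroup.mem_centralizer_iff.1 (hZle hz) x rfl).symm

end Cfsg.Agent.S2826
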