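import Cfsg.Statements.S2827
import Cfsg.Agent.Lib.Helper16.PClosed

set_option autoImplicit false
open Cfsg

namespace Cfsg.Agent.S2827

open Cfsg.Agent.Lib.Helper16.Basic Cfsg.Agent.Lib.Helper16.PClosed Cfsg.Agent.Lib.Helper16.Residual
open scoped commutatorElement

theorem normal_of_commutator_le {H : Type*} [Group H] {K : Subgroup H} (h : commutator H ≤ K) :
    K.Normal := by
  constructor
  intro k hk g
  have h1 : ⁅g, k⁆ ∈ K := by
    apply h
    rw [commutator_def]
    exact Subgroup.commutator_mem_commutator (Subgroup.mem_top g) (Subgroup.mem_top k)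
  have e : g * k * g⁻¹ = ⁅g, k⁆ * k := by
    rw [commutatorElement_def]
    group
  rw [e]
  exact K.mul_mem h1 hk

theorem normal_of_sup_le_normalizer {H : Type*} [Group H] {A B N : Subgroup H} (h : A ⊔ B = ⊤)
    (hA : A ≤ Subgroup.normalizer (N : Set H)) (hB : B ≤ Subgroup.normalizer (N : Set H)) :
    N.Normal := by
  rw [← Subgroup.normalizer_eq_top_iff, eq_top_iff, ← h]
  exact sup_le hA hB


/-- Let H be a finite p-irreducible group (not p-closed, and O^p(H) lies in every normal subgroup that is not p-closed) and T a Sylow p-subgroup. Then H is generated by the conjugates of T and H = H'·T; O^p(H) ≤ H'; and for every normal subgroup Y of T not contained in O_p(H), O^p(H) = [O^p(H), Y] and O^p(H) is contained in the normal closure of Y in H. -/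
theorem result {H : Type*} [Group H] [Finite H] {p : ℕ} [Fact p.Prime] (hH : Cfsg.IsPIrreducible p H) (T : Sylow p H) : Subgroup.normalClosure ((T : Subgroup H) : Set H) = ⊤ ∧ commutator H ⊔ (T : Subgroup H) = ⊤ ∧ Cfsg.pResidual p H ≤ commutator H ∧ ∀ Y : Subgroup H, Y ≤ (T : Subgroup H) → (T : Subgroup H) ≤ Subgroup.normalizer (Y : Set H) → ¬ Y ≤ Cfsg.pCore p H → ⁅Cfsg.pResidual p H, Y⁆ = Cfsg.pResidual p H ∧ Cfsg.pResidual p H ≤ Subgroup.normalClosure (Y : Set H) := by
  have hp : p.Prime := Fact.out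
  have h1 : Subgroup.normalClosure ((T : Subgroup H) : Set H) = ⊤ :=
    eq_top_of_sylow_le hH T _ Subgroup.le_normalClosure
  haveI hcn : (commutator H ⊔ (T : Subgroup H)).Normal := normal_of_commutator_le le_sup_left
  have h2 : commutator H ⊔ (T : Subgroup H) = ⊤ := eq_top_of_sylow_le hH T _ le_sup_right
  have h3 : Cfsg.pResidual p H ≤ commutator H :=
    pResidual_le_of_isPGroup_quotient
      (isPGroup_quotient_of_sup_eq_top T.isPGroup' (by rw [sup_comm]; exact h2))
  refine ⟨h1, h2, h3, ?_⟩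
  intro Y hYT hTY hY
  haveI hRn : (Cfsg.pResidual p H).Normal := pResidual_normal H p
  have hTR := sylow_sup_pResidual_eq_top T
  have hsecond : Cfsg.pResidual p H ≤ Subgroup.normalClosure (Y : Set H) :=
    hH.2 _ inferInstance (not_isPClosed_of_le T _ hYT Subgroup.le_normalClosure hY)
  refine ⟨?_, hsecond⟩
  have hNR : ⁅Cfsg.pResidual p H, Y⁆ ≤ Cfsg.pResidual p H :=
    commutator_le_left_of_le_normalizer (by rw [Subgroup.normalizer_eq_top_iff.2 hRn]; exact le_top)
  have hTN : (T : Subgroup H) ≤ Subgroup.normalizer ((⁅Cfsg.pResidual p H, Y⁆ : Subgroup H) : Set H) := by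
    intro t ht
    rw [← conj_eq_self_iff, conj_commutator, conj_normal (Cfsg.pResidual p H) t,
      (conj_eq_self_iff Y t).2 (hTY ht)]
  haveI hNn : (⁅Cfsg.pResidual p H, Y⁆ : Subgroup H).Normal :=
    normal_of_sup_le_normalizer hTR hTN (le_normalizer_commutator_left _ _)
  have hTL : (T : Subgroup H) ≤ Subgroup.normalizer ((⁅Cfsg.pResidual p H, Y⁆ ⊔ Y : Subgroup H) : Set H) := by
    intro t ht
    rw [← conj_eq_self_iff, conj_sup, conj_normal (⁅Cfsg.pResidual p H, Y⁆) t,
      (conj_eq_self_iff Y t).2 (hTY ht)]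
  have hRL : Cfsg.pResidual p H ≤ Subgroup.normalizer ((⁅Cfsg.pResidual p H, Y⁆ ⊔ Y : Subgroup H) : Set H) := by
    intro r hr
    rw [← conj_eq_self_iff]
    apply Subgroup.eq_of_le_of_card_ge
    · rw [conj_sup, conj_normal (⁅Cfsg.pResidual p H, Y⁆) r]
      refine sup_le le_sup_left ?_
      rintro _ ⟨y, hy, rfl⟩
      have e : (MulAut.conj r).toMonoidHom y = ⁅r, y⁆ * y := by
        show r * y * r⁻¹ = ⁅r, y⁆ * y
        rw [commutatorElement_def]
        group
      rw [e]
      exact Subgroup.mul_mem _ (Subgroup.mem_sup_left (Subgroup.commutator_mem_commutator hr hy))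
        (Subgroup.mem_sup_right hy)
    · exact le_of_eq (card_conj _ _).symm
  haveI hLn : (⁅Cfsg.pResidual p H, Y⁆ ⊔ Y : Subgroup H).Normal :=
    normal_of_sup_le_normalizer hTR hTL hRL
  have hRL' : Cfsg.pResidual p H ≤ ⁅Cfsg.pResidual p H, Y⁆ ⊔ Y :=
    hH.2 _ hLn (not_isPClosed_of_le T _ hYT le_sup_right hY)
  have hTN' : (T : Subgroup H) ⊔ ⁅Cfsg.pResidual p H, Y⁆ = ⊤ := by
    rw [eq_top_iff, ← hTR]
    refine sup_le le_sup_left (hRL'.trans (sup_le le_sup_right (hYT.trans le_sup_left)))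
  exact le_antisymm hNR
    (pResidual_le_of_isPGroup_quotient (isPGroup_quotient_of_sup_eq_top T.isPGroup' hTN'))

end Cfsg.Agent.S2827
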