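import Cfsg.Statements.S2828
import Cfsg.Agent.Lib.Helper16.PClosed2

set_option autoImplicit false
open Cfsg

namespace Cfsg.Agent.S2828

/-- Let H be a finite group, p a prime and D a normal p-subgroup of H. Then H is p-irreducible if and only if H/D is p-irreducible, and H is strongly p-irreducible if and only if H/D is strongly p-irreducible. -/
theorem result {H : Type*} [Group H] [Finite H] {p : ℕ} [Fact p.Prime] (D : Subgroup H) [D.Normal] (hD : IsPGroup p ↥D) : (Cfsg.IsPIrreducible p H ↔ Cfsg.IsPIrreducible p (H ⧸ D)) ∧ (Cfsg.IsStronglyPIrreducible p H ↔ Cfsg.IsStronglyPIrreducible p (H ⧸ D)) := by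
  open Cfsg.Agent.Lib.Helper16.Basic Cfsg.Agent.Lib.Helper16.PClosed Cfsg.Agent.Lib.Helper16.PClosed2 in
  obtain ⟨T⟩ : Nonempty (Sylow p H) := inferInstance
  have hfs : Function.Surjective (QuotientGroup.mk' D) := QuotientGroup.mk'_surjective D
  have hker : (QuotientGroup.mk' D).ker = D := QuotientGroup.ker_mk' D
  have hDT : D ≤ T := normal_isPGroup_le_sylow inferInstance hD T
  have hTb : ((T.mapSurjective hfs : Sylow p (H ⧸ D)) : Subgroup (H ⧸ D)) =
      (T : Subgroup H).map (QuotientGroup.mk' D) := rfl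
  have hcT : ((T : Subgroup H).map (QuotientGroup.mk' D)).comap (QuotientGroup.mk' D) = T := by
    rw [Subgroup.comap_map_eq, hker, sup_of_le_left hDT]
  have Q1 : ((T : Subgroup H).map (QuotientGroup.mk' D)).Normal ↔ (T : Subgroup H).Normal := by
    constructor
    · intro h
      rw [← hcT]
      exact h.comap _
    · intro h
      exact h.map _ hfs
  have Q2 : ∀ Nb : Subgroup (H ⧸ D), (((T : Subgroup H).map (QuotientGroup.mk' D)) ⊓ Nb).Normal ↔
      ((T : Subgroup H) ⊓ Nb.comap (QuotientGroup.mk' D)).Normal := by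
    intro Nb
    have e : (((T : Subgroup H).map (QuotientGroup.mk' D)) ⊓ Nb).comap (QuotientGroup.mk' D) =
        (T : Subgroup H) ⊓ Nb.comap (QuotientGroup.mk' D) := by
      rw [Subgroup.comap_inf, hcT]
    constructor
    · intro h
      rw [← e]
      exact h.comap _
    · intro h
      rw [← Subgroup.map_comap_eq_self_of_surjective hfs (((T : Subgroup H).map (QuotientGroup.mk' D)) ⊓ Nb), e]
      exact h.map _ hfs
  have Q3 : ∀ Nb : Subgroup (H ⧸ D), ((T : Subgroup H).map (QuotientGroup.mk' D)) ⊔ Nb = ⊤ ↔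
      (T : Subgroup H) ⊔ Nb.comap (QuotientGroup.mk' D) = ⊤ := by
    intro Nb
    have e : (((T : Subgroup H).map (QuotientGroup.mk' D)) ⊔ Nb).comap (QuotientGroup.mk' D) =
        (T : Subgroup H) ⊔ Nb.comap (QuotientGroup.mk' D) := by
      rw [← Subgroup.comap_sup_eq _ _ _ hfs, hcT]
    rw [← e]
    constructor
    · intro h
      rw [h, Subgroup.comap_top]
    · intro h
      apply Subgroup.comap_injective hfs
      rw [h, Subgroup.comap_top]
  have Q5 : ∀ Nb : Subgroup (H ⧸ D), ⁅Nb, (⊤ : Subgroup (H ⧸ D))⁆ ≤ Cfsg.pCore p (H ⧸ D) ↔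
      ⁅Nb.comap (QuotientGroup.mk' D), (⊤ : Subgroup H)⁆ ≤ Cfsg.pCore p H := by
    intro Nb
    rw [pCore_quotient D hD]
    have e : ⁅Nb, (⊤ : Subgroup (H ⧸ D))⁆ =
        (⁅Nb.comap (QuotientGroup.mk' D), (⊤ : Subgroup H)⁆).map (QuotientGroup.mk' D) := by
      rw [Subgroup.map_commutator, Subgroup.map_comap_eq_self_of_surjective hfs,
        Subgroup.map_top_of_surjective _ hfs]
    rw [e, Subgroup.map_le_map_iff, hker, sup_of_le_left (le_pCore inferInstance hD)]
  have hcm : ∀ N : Subgroup H, (N.map (QuotientGroup.mk' D)).comap (QuotientGroup.mk' D) = N ⊔ D := by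
    intro N
    rw [Subgroup.comap_map_eq, hker]
  have hsup : ∀ N : Subgroup H, (T : Subgroup H) ⊔ (N ⊔ D) = (T : Subgroup H) ⊔ N := by
    intro N
    rw [sup_comm N D, ← sup_assoc, sup_of_le_left hDT]
  constructor
  · rw [isPIrreducible_iff T, isPIrreducible_iff (T.mapSurjective hfs), hTb, Q1]
    apply and_congr Iff.rfl
    constructor
    · intro h Nb hNb hn
      rw [Q3]
      apply h _ (hNb.comap _)
      rw [← Q2]
      exact hn
    · intro h N hN hn
      have h1 := h (N.map (QuotientGroup.mk' D)) (hN.map _ hfs) ?_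
      · rw [Q3, hcm, hsup] at h1
        exact h1
      · rw [Q2, hcm]
        intro hn'
        apply hn
        have e : (T : Subgroup H) ⊓ N = ((T : Subgroup H) ⊓ (N ⊔ D)) ⊓ N := by
          rw [inf_assoc, inf_of_le_right (le_sup_left : N ≤ N ⊔ D)]
        rw [e]
        exact Subgroup.normal_inf_normal _ _
  · rw [isStronglyPIrreducible_iff T, isStronglyPIrreducible_iff (T.mapSurjective hfs), hTb, Q1]
    apply and_congr Iff.rfl
    constructor
    · intro h Nb hNb hn
      rw [Q3]
      apply h _ (hNb.comap _)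
      rw [← Q5]
      exact hn
    · intro h N hN hn
      have h1 := h (N.map (QuotientGroup.mk' D)) (hN.map _ hfs) ?_
      · rw [Q3, hcm, hsup] at h1
        exact h1
      · rw [Q5, hcm]
        intro hn'
        exact hn ((Subgroup.commutator_mono le_sup_left le_rfl).trans hn')

end Cfsg.Agent.S2828
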