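import Cfsg.Statements.S2829
import Cfsg.Agent.Lib.Helper16.PClosed

set_option autoImplicit false
open Cfsg

namespace Cfsg.Agent.S2829

/-- Every strongly p-irreducible finite group is p-irreducible. -/
theorem result {H : Type*} [Group H] [Finite H] {p : ℕ} [Fact p.Prime] (hH : Cfsg.IsStronglyPIrreducible p H) : Cfsg.IsPIrreducible p H := by
  open Cfsg.Agent.Lib.Helper16.Basic Cfsg.Agent.Lib.Helper16.PClosed in
  open scoped commutatorElement in
  refine ⟨hH.1, ?_⟩
  intro N hN hNc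
  apply hH.2 N hN
  intro hle
  apply hNc
  obtain ⟨T⟩ : Nonempty (Sylow p H) := inferInstance
  haveI := hN
  rw [isPClosed_sub_iff T N]
  constructor
  intro x hx h
  have hxN := (Subgroup.mem_inf.1 hx).2
  have hxT := (Subgroup.mem_inf.1 hx).1
  refine Subgroup.mem_inf.2 ⟨?_, hN.conj_mem x hxN h⟩
  have h1 : ⁅x, h⁆ ∈ ⁅N, (⊤ : Subgroup H)⁆ :=
    Subgroup.commutator_mem_commutator hxN (Subgroup.mem_top h)
  have h2 : ⁅x, h⁆ ∈ (T : Subgroup H) := pCore_le_sylow T (hle h1)
  have e : h * x * h⁻¹ = ⁅x, h⁆⁻¹ * x := by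
    rw [commutatorElement_def]
    group
  rw [e]
  exact Subgroup.mul_mem _ (Subgroup.inv_mem _ h2) hxT

end Cfsg.Agent.S2829
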