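import Cfsg.Statements.S2830
import Cfsg.Agent.Lib.Helper16.PClosed2

set_option autoImplicit false
open Cfsg

namespace Cfsg.Agent.S2830

open Cfsg.Agent.Lib.Helper16.Basic Cfsg.Agent.Lib.Helper16.PClosed Cfsg.Agent.Lib.Helper16.PClosed2

theorem isPClosed_equiv {A B : Type*} [Group A] [Group B] [Finite A] {p : ℕ} [Fact p.Prime]
    (e : A ≃* B) (h : Cfsg.IsPClosed p A) : Cfsg.IsPClosed p B := by
  haveI : Finite B := Finite.of_equiv A e.toEquiv
  obtain ⟨P⟩ : Nonempty (Sylow p A) := inferInstance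
  have hs : Function.Surjective (e : A →* B) := e.surjective
  apply isPClosed_of_normal (P.mapSurjective hs)
  exact (h P).map _ hs

theorem main {H : Type*} [Group H] [Finite H] {p : ℕ} [Fact p.Prime]
    (hH : Cfsg.IsPIrreducible p H) (C : Subgroup H) [hn : C.Normal]
    (hRC : ¬ Cfsg.pResidual p H ≤ C) :
    Cfsg.IsPClosed p ↥C ∧
    (∀ T : Subgroup H, IsPGroup p ↥T → T ⊓ C ≤ Cfsg.pCore p H) ∧
    (Cfsg.pCore p H ≤ C → Cfsg.pCore p (H ⧸ C) = ⊥) := by
  have hCcl : Cfsg.IsPClosed p ↥C := by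
    by_contra h
    exact hRC (hH.2 C hn h)
  obtain ⟨T₀⟩ : Nonempty (Sylow p H) := inferInstance
  have hT₀C : ((T₀ : Subgroup H) ⊓ C).Normal := (isPClosed_sub_iff T₀ C).1 hCcl
  have hT₀C' : (T₀ : Subgroup H) ⊓ C ≤ Cfsg.pCore p H :=
    le_pCore hT₀C (T₀.isPGroup'.to_le inf_le_left)
  have hpn : (Cfsg.pCore p H).Normal := pCore_normal' H
  refine ⟨hCcl, ?_, ?_⟩
  · intro T hT x hx
    obtain ⟨h, hh⟩ := exists_conj_le_sylow hT T₀
    have h1 : h * x * h⁻¹ ∈ (T₀ : Subgroup H) ⊓ C :=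
      Subgroup.mem_inf.2 ⟨hh (conj_mem_conj T h (Subgroup.mem_inf.1 hx).1),
        hn.conj_mem x (Subgroup.mem_inf.1 hx).2 h⟩
    have h2 := hpn.conj_mem _ (hT₀C' h1) h⁻¹
    have e : h⁻¹ * (h * x * h⁻¹) * h⁻¹⁻¹ = x := by group
    rwa [e] at h2
  · intro hOC
    have hfs : Function.Surjective (QuotientGroup.mk' C) := QuotientGroup.mk'_surjective C
    have hker : (QuotientGroup.mk' C).ker = C := QuotientGroup.ker_mk' C
    have hDn : ((Cfsg.pCore p (H ⧸ C)).comap (QuotientGroup.mk' C)).Normal :=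
      (pCore_normal' (p := p) (H ⧸ C)).comap _
    have hDp : IsPGroup p (Cfsg.pCore p (H ⧸ C)) := pCore_isPGroup
    have hDcl : Cfsg.IsPClosed p ↥((Cfsg.pCore p (H ⧸ C)).comap (QuotientGroup.mk' C)) := by
      by_contra hcl
      have hR := hH.2 _ hDn hcl
      apply hRC
      unfold Cfsg.pResidual
      rw [Subgroup.closure_le]
      intro r hr
      have hrD : (QuotientGroup.mk' C) r ∈ Cfsg.pCore p (H ⧸ C) := hR (Subgroup.subset_closure hr)
      obtain ⟨k, hk⟩ := hDp ⟨_, hrD⟩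
      have hk' : ((QuotientGroup.mk' C) r) ^ p ^ k = 1 := congrArg Subtype.val hk
      have h1 : orderOf ((QuotientGroup.mk' C) r) ∣ p ^ k := orderOf_dvd_of_pow_eq_one hk'
      have h2 : orderOf ((QuotientGroup.mk' C) r) ∣ orderOf r := orderOf_map_dvd _ r
      have h3 : orderOf ((QuotientGroup.mk' C) r) = 1 := by
        have hc : (orderOf r).Coprime (p ^ k) := Nat.Coprime.pow_right k hr
        exact Nat.eq_one_of_dvd_one (hc ▸ Nat.dvd_gcd h2 h1)
      exact (QuotientGroup.eq_one_iff r).1 (orderOf_eq_one_iff.1 h3)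
    have hT₀D : ((T₀ : Subgroup H) ⊓ (Cfsg.pCore p (H ⧸ C)).comap (QuotientGroup.mk' C)).Normal :=
      (isPClosed_sub_iff T₀ _).1 hDcl
    have hT₀D' : (T₀ : Subgroup H) ⊓ (Cfsg.pCore p (H ⧸ C)).comap (QuotientGroup.mk' C) ≤ C :=
      (le_pCore hT₀D (T₀.isPGroup'.to_le inf_le_left)).trans hOC
    have hDT : Cfsg.pCore p (H ⧸ C) ≤ (T₀ : Subgroup H).map (QuotientGroup.mk' C) :=
      pCore_le_sylow (T₀.mapSurjective hfs)
    rw [eq_bot_iff]
    intro y hy
    obtain ⟨t, ht, rfl⟩ := hDT hy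
    have h1 : t ∈ C := hT₀D' (Subgroup.mem_inf.2 ⟨ht, hy⟩)
    rw [Subgroup.mem_bot]
    exact (QuotientGroup.eq_one_iff t).2 h1


/-- Let H act by conjugation on the elementary abelian p-subgroup V of a finite group G (H ≤ N(V)), with H p-irreducible and O^p(H) not centralizing V. Then C_H(V) is p-closed and C_T(V) ≤ O_p(H) for every p-subgroup T of H. If in addition O_p(H) centralizes V, then C_T(V) = T ∩ O_p(H) for every p-subgroup T of H, and V is p-reduced for H: O_p(H/C_H(V)) = 1. -/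
theorem result {G : Type*} [Group G] [Finite G] {p : ℕ} [Fact p.Prime] (V H : Subgroup G) (hV : Cfsg.IsElementaryAbelian p V) (hHV : H ≤ Subgroup.normalizer (V : Set G)) (hH : Cfsg.IsPIrreducible p ↥H) (hnc : ¬ (Cfsg.pResidual p ↥H).map H.subtype ≤ Subgroup.centralizer (V : Set G)) [hn : ((Subgroup.centralizer (V : Set G)).subgroupOf H).Normal] : Cfsg.IsPClosed p ↥(H ⊓ Subgroup.centralizer (V : Set G)) ∧ (∀ T : Subgroup G, T ≤ H → IsPGroup p ↥T → T ⊓ Subgroup.centralizer (V : Set G) ≤ Cfsg.pCoreOf p H) ∧ (Cfsg.pCoreOf p H ≤ Subgroup.centralizer (V : Set G) → (∀ T : Subgroup G, T ≤ H → IsPGroup p ↥T → T ⊓ Subgroup.centralizer (V : Set G) = T ⊓ Cfsg.pCoreOf p H) ∧ Cfsg.pCore p (↥H ⧸ (Subgroup.centralizer (V : Set G)).subgroupOf H) = ⊥) := by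
  have hRC : ¬ Cfsg.pResidual p ↥H ≤ (Subgroup.centralizer (V : Set G)).subgroupOf H := by
    intro h
    apply hnc
    rintro _ ⟨r, hr, rfl⟩
    exact h hr
  obtain ⟨m1, m2, m3⟩ := main hH ((Subgroup.centralizer (V : Set G)).subgroupOf H) hRC
  have e1 : ↥((Subgroup.centralizer (V : Set G)).subgroupOf H) ≃* ↥(H ⊓ Subgroup.centralizer (V : Set G)) :=
    (MulEquiv.subgroupCongr (Subgroup.inf_subgroupOf_left (Subgroup.centralizer (V : Set G)) H).symm).trans
      (Subgroup.subgroupOfEquivOfLe (inf_le_left : H ⊓ Subgroup.centralizer (V : Set G) ≤ H))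
  have hpart2 : ∀ T : Subgroup G, T ≤ H → IsPGroup p ↥T →
      T ⊓ Subgroup.centralizer (V : Set G) ≤ Cfsg.pCoreOf p H := by
    intro T hTH hT x hx
    have h1 := m2 (T.subgroupOf H) hT.comap_subtype
      (show (⟨x, hTH (Subgroup.mem_inf.1 hx).1⟩ : ↥H) ∈ T.subgroupOf H ⊓ (Subgroup.centralizer (V : Set G)).subgroupOf H from
        Subgroup.mem_inf.2 ⟨Subgroup.mem_subgroupOf.2 (Subgroup.mem_inf.1 hx).1,
          Subgroup.mem_subgroupOf.2 (Subgroup.mem_inf.1 hx).2⟩)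
    exact ⟨_, h1, rfl⟩
  refine ⟨isPClosed_equiv e1 m1, hpart2, ?_⟩
  intro hOC
  refine ⟨?_, ?_⟩
  · intro T hTH hT
    apply le_antisymm
    · exact le_inf inf_le_left (hpart2 T hTH hT)
    · exact le_inf inf_le_left (inf_le_right.trans hOC)
  · apply m3
    intro x hx
    rw [Subgroup.mem_subgroupOf]
    exact hOC ⟨x, hx, rfl⟩

end Cfsg.Agent.S2830
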