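import Cfsg.Statements.S2831
import Cfsg.Agent.Lib.Helper16.PClosed

set_option autoImplicit false
open Cfsg

namespace Cfsg.Agent.S2831

/-- Let H be a finite group with Sylow p-subgroup T such that H is T-minimal (H is generated by the conjugates of T and T lies in exactly one maximal subgroup of H). Then H is p-irreducible: H is not p-closed and O^p(H) lies in every normal subgroup of H that is not p-closed. -/
theorem result {H : Type*} [Group H] [Finite H] {p : ℕ} [Fact p.Prime] (T : Sylow p H) (hmin : Cfsg.IsMinimalOver (T : Subgroup H)) : Cfsg.IsPIrreducible p H := by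
  open Cfsg.Agent.Lib.Helper16.Basic Cfsg.Agent.Lib.Helper16.PClosed Cfsg.Agent.Lib.Helper16.Residual in
  obtain ⟨hnc, M, ⟨hMco, hTM⟩, hMuniq⟩ := hmin
  have huniq : ∀ K : Subgroup H, (T : Subgroup H) ≤ K → K ≠ ⊤ → K ≤ M := by
    intro K hTK hK
    obtain ⟨M', hM', hKM'⟩ := (eq_top_or_exists_le_coatom K).resolve_left hK
    have h0 := hMuniq M' ⟨hM', hTK.trans hKM'⟩
    rw [← h0]
    exact hKM'
  constructor
  · intro hcl
    haveI hTn : (T : Subgroup H).Normal := hcl T
    rw [Subgroup.normalClosure_eq_self] at hnc
    apply hMco.1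
    rw [eq_top_iff, ← hnc]
    exact hTM
  · intro N hN hNc
    haveI := hN
    have hfr := frattini_inf T N
    have hTnorm : (T : Subgroup H) ≤ Subgroup.normalizer (((T : Subgroup H) ⊓ N : Subgroup H) : Set H) := by
      intro t ht
      rw [← conj_eq_self_iff, conj_inf, conj_eq_self_of_mem ht, conj_normal N t]
    have hne : Subgroup.normalizer (((T : Subgroup H) ⊓ N : Subgroup H) : Set H) ≠ ⊤ := by
      intro h0
      apply hNc
      rw [isPClosed_sub_iff T N]
      exact Subgroup.normalizer_eq_top_iff.1 h0
    have h1 := huniq _ hTnorm hne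
    have h2 : (T : Subgroup H) ⊔ N = ⊤ := by
      by_contra h0
      have h3 := huniq _ le_sup_left h0
      apply hMco.1
      rw [eq_top_iff, ← hfr]
      exact sup_le h1 (le_sup_right.trans h3)
    exact pResidual_le_of_isPGroup_quotient (isPGroup_quotient_of_sup_eq_top T.isPGroup' h2)

end Cfsg.Agent.S2831
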