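import Cfsg.Statements.S2832
import Cfsg.Agent.Lib.Helper16.PClosed

set_option autoImplicit false
open Cfsg

namespace Cfsg.Agent.S2832

/-- Let H be a finite group with Sylow p-subgroup T such that H is T-minimal (generated by the conjugates of T, with T in exactly one maximal subgroup), and let N be a normal subgroup of H. Then either H/N is a p-group or H/N is minimal over the image of T in the same sense. -/
theorem result {H : Type*} [Group H] [Finite H] {p : ℕ} [Fact p.Prime] (T : Sylow p H) (hmin : Cfsg.IsMinimalOver (T : Subgroup H)) (N : Subgroup H) [N.Normal] : IsPGroup p (H ⧸ N) ∨ Cfsg.IsMinimalOver ((T : Subgroup H).map (QuotientGroup.mk' N)) := by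
  open Cfsg.Agent.Lib.Helper16.Basic Cfsg.Agent.Lib.Helper16.PClosed in
  obtain ⟨hnc, M, ⟨hMco, hTM⟩, hMuniq⟩ := hmin
  by_cases hTN : (T : Subgroup H) ⊔ N = ⊤
  · exact Or.inl (isPGroup_quotient_of_sup_eq_top T.isPGroup' hTN)
  · right
    have hfs : Function.Surjective (QuotientGroup.mk' N) := QuotientGroup.mk'_surjective N
    have hker : (QuotientGroup.mk' N).ker = N := QuotientGroup.ker_mk' N
    obtain ⟨M', hM', hKM'⟩ := (eq_top_or_exists_le_coatom _).resolve_left hTN
    have h0 := hMuniq M' ⟨hM', le_sup_left.trans hKM'⟩
    have hNM : N ≤ M := by
      rw [← h0]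
      exact le_sup_right.trans hKM'
    have hcomapM : (M.map (QuotientGroup.mk' N)).comap (QuotientGroup.mk' N) = M := by
      rw [Subgroup.comap_map_eq, hker, sup_of_le_left hNM]
    constructor
    · have h1 := Subgroup.map_normalClosure ((T : Subgroup H) : Set H) (QuotientGroup.mk' N) hfs
      rw [hnc, Subgroup.map_top_of_surjective _ hfs] at h1
      rw [Subgroup.coe_map, ← h1]
    · refine ⟨M.map (QuotientGroup.mk' N), ⟨?_, Subgroup.map_mono hTM⟩, ?_⟩
      · constructor
        · intro h1
          apply hMco.1
          rw [← hcomapM, h1, Subgroup.comap_top]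
        · intro K hK
          have h2 : M < K.comap (QuotientGroup.mk' N) := by
            rw [← hcomapM]
            exact (Subgroup.comap_lt_comap_of_surjective hfs).2 hK
          have h3 := hMco.2 _ h2
          apply Subgroup.comap_injective hfs
          rw [h3, Subgroup.comap_top]
      · rintro K ⟨hKco, hTK⟩
        have hco : IsCoatom (K.comap (QuotientGroup.mk' N)) := by
          constructor
          · intro h1
            apply hKco.1
            apply Subgroup.comap_injective hfs
            rw [h1, Subgroup.comap_top]
          · intro J hJ
            have hNJ : N ≤ J := by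
              rw [← hker]
              exact (Subgroup.ker_le_comap _ _).trans hJ.le
            have hJc : (J.map (QuotientGroup.mk' N)).comap (QuotientGroup.mk' N) = J := by
              rw [Subgroup.comap_map_eq, hker, sup_of_le_left hNJ]
            have h4 : K < J.map (QuotientGroup.mk' N) := by
              rw [← Subgroup.comap_lt_comap_of_surjective hfs, hJc]
              exact hJ
            have h5 := hKco.2 _ h4
            rw [← hJc, h5, Subgroup.comap_top]
        have hT' : (T : Subgroup H) ≤ K.comap (QuotientGroup.mk' N) := by
          rw [← Subgroup.map_le_iff_le_comap]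
          exact hTK
        have h6 := hMuniq _ ⟨hco, hT'⟩
        rw [← Subgroup.map_comap_eq_self_of_surjective hfs K, h6]

end Cfsg.Agent.S2832
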