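import Cfsg.Statements.S2833
import Cfsg.Agent.Lib.Helper16.Basic

set_option autoImplicit false
open Cfsg

namespace Cfsg.Agent.S2833

open Cfsg.Agent.Lib.Helper16.Basic
open scoped commutatorElement

theorem comm_sup_le {G : Type*} [Group G] (V W₀ X₁ X₂ : Subgroup G)
    (h1n : X₁ ≤ Subgroup.normalizer (W₀ : Set G)) (h2n : X₂ ≤ Subgroup.normalizer (W₀ : Set G))
    (h1 : ∀ v ∈ V, ∀ k ∈ X₁, ⁅v, k⁆ ∈ W₀) (h2 : ∀ v ∈ V, ∀ k ∈ X₂, ⁅v, k⁆ ∈ W₀) :
    ⁅V, X₁ ⊔ X₂⁆ ≤ W₀ := by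
  let S : Subgroup G :=
    { carrier := {l | l ∈ Subgroup.normalizer (W₀ : Set G) ∧ ∀ v ∈ V, ⁅v, l⁆ ∈ W₀}
      mul_mem' := by
        rintro l₁ l₂ ⟨hn1, hc1⟩ ⟨hn2, hc2⟩
        refine ⟨Subgroup.mul_mem _ hn1 hn2, ?_⟩
        intro v hv
        have e : ⁅v, l₁ * l₂⁆ = ⁅v, l₁⁆ * (l₁ * ⁅v, l₂⁆ * l₁⁻¹) := by
          simp only [commutatorElement_def]
          group
        rw [e]
        exact W₀.mul_mem (hc1 v hv) ((Subgroup.mem_normalizer_iff.1 hn1 _).1 (hc2 v hv))
      one_mem' := ⟨Subgroup.one_mem _, fun v _ => by simp [commutatorElement_def]⟩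
      inv_mem' := by
        rintro l ⟨hn, hc⟩
        refine ⟨Subgroup.inv_mem _ hn, ?_⟩
        intro v hv
        have e : ⁅v, l⁻¹⁆ = l⁻¹ * (⁅v, l⁆)⁻¹ * l⁻¹⁻¹ := by
          simp only [commutatorElement_def]
          group
        rw [e]
        exact (Subgroup.mem_normalizer_iff.1 (Subgroup.inv_mem _ hn) _).1 (W₀.inv_mem (hc v hv)) }
  have hS : X₁ ⊔ X₂ ≤ S := sup_le (fun x hx => ⟨h1n hx, fun v hv => h1 v hv x hx⟩)
    (fun x hx => ⟨h2n hx, fun v hv => h2 v hv x hx⟩)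
  rw [Subgroup.commutator_le]
  intro v hv l hl
  exact (hS hl).2 v hv


/-- Let V be a subgroup of a finite group G normalized by the subgroup L, let X ≤ L and g ∈ L with [V, X, X] = 1 and L generated by X and gXg⁻¹. Put W = [V, L]. Then W = [V, X]·[V, gXg⁻¹], C_W(X) = [V, X], and C_W(L) = [V, X] ∩ [V, gXg⁻¹]. -/
theorem result {G : Type*} [Group G] [Finite G] (V L : Subgroup G) (hLV : L ≤ Subgroup.normalizer (V : Set G)) (X : Subgroup G) (hX : X ≤ L) (g : G) (hg : g ∈ L) (hq : ⁅⁅V, X⁆, X⁆ = ⊥) (hgen : X ⊔ X.map (MulAut.conj g).toMonoidHom = L) (W : Subgroup G) (hW : W = ⁅V, L⁆) : ⁅V, X⁆ ⊔ ⁅V, X.map (MulAut.conj g).toMonoidHom⁆ = W ∧ W ⊓ Subgroup.centralizer (X : Set G) = ⁅V, X⁆ ∧ W ⊓ Subgroup.centralizer (L : Set G) = ⁅V, X⁆ ⊓ ⁅V, X.map (MulAut.conj g).toMonoidHom⁆ := by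
  have hXgL : X.map (MulAut.conj g).toMonoidHom ≤ L := by
    rw [← hgen]
    exact le_sup_right
  have hgV : V.map (MulAut.conj g).toMonoidHom = V := (conj_eq_self_iff V g).2 (hLV hg)
  have hB : ⁅V, X.map (MulAut.conj g).toMonoidHom⁆ = (⁅V, X⁆).map (MulAut.conj g).toMonoidHom := by
    rw [conj_commutator, hgV]
  have hAV : ⁅V, X⁆ ≤ V := commutator_le_left_of_le_normalizer (hX.trans hLV)
  have hBV : ⁅V, X.map (MulAut.conj g).toMonoidHom⁆ ≤ V :=
    commutator_le_left_of_le_normalizer (hXgL.trans hLV)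
  have hAc : ⁅V, X⁆ ≤ Subgroup.centralizer (X : Set G) :=
    Subgroup.commutator_eq_bot_iff_le_centralizer.1 hq
  have hBc : ⁅V, X.map (MulAut.conj g).toMonoidHom⁆ ≤
      Subgroup.centralizer ((X.map (MulAut.conj g).toMonoidHom : Subgroup G) : Set G) := by
    apply Subgroup.commutator_eq_bot_iff_le_centralizer.1
    rw [hB, ← conj_commutator, hq, Subgroup.map_bot]
  have hXA : X ≤ Subgroup.normalizer ((⁅V, X⁆ : Subgroup G) : Set G) := le_normalizer_commutator_right V X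
  have hXgB : X.map (MulAut.conj g).toMonoidHom ≤
      Subgroup.normalizer ((⁅V, X.map (MulAut.conj g).toMonoidHom⁆ : Subgroup G) : Set G) :=
    le_normalizer_commutator_right V _
  have hnorm : ∀ (X₁ X₂ : Subgroup G), X₁ ≤ Subgroup.normalizer ((⁅V, X₁⁆ : Subgroup G) : Set G) →
      ⁅V, X₂⁆ ≤ V →
      X₁ ≤ Subgroup.normalizer ((⁅V, X₁⁆ ⊔ ⁅V, X₂⁆ : Subgroup G) : Set G) := by
    intro X₁ X₂ h1 h2 x hx
    rw [← conj_eq_self_iff]
    apply Subgroup.eq_of_le_of_card_ge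
    · rw [conj_sup, (conj_eq_self_iff _ x).2 (h1 hx)]
      refine sup_le le_sup_left ?_
      rintro _ ⟨b, hb, rfl⟩
      have e : (MulAut.conj x).toMonoidHom b = (⁅b, x⁆)⁻¹ * b := by
        show x * b * x⁻¹ = (⁅b, x⁆)⁻¹ * b
        rw [commutatorElement_def]
        group
      rw [e]
      exact Subgroup.mul_mem _ (Subgroup.mem_sup_left (Subgroup.inv_mem _
        (Subgroup.commutator_mem_commutator (h2 hb) hx))) (Subgroup.mem_sup_right hb)
    · exact le_of_eq (card_conj _ _).symm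
  have hXW : X ≤ Subgroup.normalizer ((⁅V, X⁆ ⊔ ⁅V, X.map (MulAut.conj g).toMonoidHom⁆ : Subgroup G) : Set G) :=
    hnorm X _ hXA hBV
  have hXgW : X.map (MulAut.conj g).toMonoidHom ≤
      Subgroup.normalizer ((⁅V, X⁆ ⊔ ⁅V, X.map (MulAut.conj g).toMonoidHom⁆ : Subgroup G) : Set G) := by
    have := hnorm (X.map (MulAut.conj g).toMonoidHom) X hXgB hAV
    rwa [sup_comm] at this
  have h1 : ⁅V, X⁆ ⊔ ⁅V, X.map (MulAut.conj g).toMonoidHom⁆ = W := by
    rw [hW]
    apply le_antisymm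
    · exact sup_le (Subgroup.commutator_mono le_rfl hX) (Subgroup.commutator_mono le_rfl hXgL)
    · rw [← hgen]
      exact comm_sup_le V _ X _ hXW hXgW
        (fun v hv k hk => Subgroup.mem_sup_left (Subgroup.commutator_mem_commutator hv hk))
        (fun v hv k hk => Subgroup.mem_sup_right (Subgroup.commutator_mem_commutator hv hk))
  have hsupc : ∀ w : G, w ∈ Subgroup.centralizer (X : Set G) →
      w ∈ Subgroup.centralizer ((X.map (MulAut.conj g).toMonoidHom : Subgroup G) : Set G) →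
      w ∈ Subgroup.centralizer (L : Set G) := by
    intro w hw1 hw2
    have hle : X ⊔ X.map (MulAut.conj g).toMonoidHom ≤ Subgroup.centralizer ({w} : Set G) := by
      rw [sup_le_iff]
      constructor
      · intro x hx
        rw [Subgroup.mem_centralizer_iff]
        intro h hh
        rw [Set.mem_singleton_iff] at hh
        subst hh
        exact ((Subgroup.mem_centralizer_iff.1 hw1) x hx).symm
      · intro x hx
        rw [Subgroup.mem_centralizer_iff]
        intro h hh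
        rw [Set.mem_singleton_iff] at hh
        subst hh
        exact ((Subgroup.mem_centralizer_iff.1 hw2) x hx).symm
    rw [hgen] at hle
    rw [Subgroup.mem_centralizer_iff]
    intro l hl
    exact ((Subgroup.mem_centralizer_iff.1 (hle hl)) w rfl).symm
  have hcentL : ∀ w : G, w ∈ Subgroup.centralizer (L : Set G) →
      w ∈ ⁅V, X.map (MulAut.conj g).toMonoidHom⁆ → w ∈ ⁅V, X⁆ := by
    intro w hw hwB
    rw [hB, mem_conj] at hwB
    have h0 : g * w = w * g := (Subgroup.mem_centralizer_iff.1 hw) g hg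
    have e : g⁻¹ * w * g = w := by
      rw [mul_assoc, ← h0, inv_mul_cancel_left]
    rwa [e] at hwB
  have hcentL' : ∀ w : G, w ∈ Subgroup.centralizer (L : Set G) →
      w ∈ ⁅V, X⁆ → w ∈ ⁅V, X.map (MulAut.conj g).toMonoidHom⁆ := by
    intro w hw hwA
    rw [hB, mem_conj]
    have h0 : g * w = w * g := (Subgroup.mem_centralizer_iff.1 hw) g hg
    have e : g⁻¹ * w * g = w := by
      rw [mul_assoc, ← h0, inv_mul_cancel_left]
    rwa [e]
  have h2 : W ⊓ Subgroup.centralizer (X : Set G) = ⁅V, X⁆ := by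
    apply le_antisymm
    · intro w hw
      have hwW := (Subgroup.mem_inf.1 hw).1
      have hwC := (Subgroup.mem_inf.1 hw).2
      rw [← h1, ← SetLike.mem_coe,
        Subgroup.coe_mul_of_right_le_normalizer_left _ _ (hBV.trans (le_normalizer_commutator_left V X))] at hwW
      obtain ⟨u, hu, b, hb, rfl⟩ := hwW
      have hbC : b ∈ Subgroup.centralizer (X : Set G) := by
        have e : b = u⁻¹ * (u * b) := by group
        rw [e]
        exact Subgroup.mul_mem _ (Subgroup.inv_mem _ (hAc hu)) hwC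
      have hbL := hsupc b hbC (hBc hb)
      exact Subgroup.mul_mem _ hu (hcentL b hbL hb)
    · rw [← h1]
      exact le_inf le_sup_left hAc
  refine ⟨h1, h2, ?_⟩
  apply le_antisymm
  · intro w hw
    have hwW := (Subgroup.mem_inf.1 hw).1
    have hwC := (Subgroup.mem_inf.1 hw).2
    have hwA : w ∈ ⁅V, X⁆ := by
      rw [← h2]
      exact Subgroup.mem_inf.2 ⟨hwW, Subgroup.centralizer_le (by exact_mod_cast hX) hwC⟩
    exact Subgroup.mem_inf.2 ⟨hwA, hcentL' w hwC hwA⟩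
  · intro w hw
    have hwA := (Subgroup.mem_inf.1 hw).1
    have hwB := (Subgroup.mem_inf.1 hw).2
    refine Subgroup.mem_inf.2 ⟨?_, hsupc w (hAc hwA) (hBc hwB)⟩
    rw [← h1]
    exact Subgroup.mem_sup_left hwA

end Cfsg.Agent.S2833
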