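import Cfsg.Statements.S2835
import Cfsg.Agent.Lib.Helper16.Basic

set_option autoImplicit false
open Cfsg

namespace Cfsg.Agent.S2835

/-- Let L be a finite group, L₀ a maximal subgroup, T a Sylow p-subgroup of L₀ and Y ≤ T, and suppose L is Y-minimal (generated by the conjugates of Y, with Y in exactly one maximal subgroup, necessarily L₀). Then N_L(T) ≤ L₀, O_p(L) ≤ L₀ and T is a Sylow p-subgroup of L; N_L(L₀) = L₀; L = ⟨Y, gYg⁻¹⟩ for each g ∈ L outside L₀; and if Y is abelian then Y ∩ gYg⁻¹ = C_Y(L) for each such g. -/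
theorem result {L : Type*} [Group L] [Finite L] {p : ℕ} [Fact p.Prime] (L₀ : Subgroup L) (hL₀ : IsCoatom L₀) (T : Sylow p ↥L₀) (Y : Subgroup L) (hYT : Y ≤ (T : Subgroup ↥L₀).map L₀.subtype) (hmin : Cfsg.IsMinimalOver Y) : Subgroup.normalizer (((T : Subgroup ↥L₀).map L₀.subtype : Subgroup L) : Set L) ≤ L₀ ∧ Cfsg.pCore p L ≤ L₀ ∧ (∃ P : Sylow p L, (P : Subgroup L) = (T : Subgroup ↥L₀).map L₀.subtype) ∧ Subgroup.normalizer (L₀ : Set L) = L₀ ∧ (∀ g : L, g ∉ L₀ → Y ⊔ Y.map (MulAut.conj g).toMonoidHom = ⊤) ∧ (IsMulCommutative ↥Y → ∀ g : L, g ∉ L₀ → Y ⊓ Y.map (MulAut.conj g).toMonoidHom = Y ⊓ Subgroup.center L) := by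
  open Cfsg.Agent.Lib.Helper16.Basic in
  obtain ⟨hnc, M, ⟨hMco, hYM⟩, hMuniq⟩ := hmin
  have hT'L₀ : (T : Subgroup ↥L₀).map L₀.subtype ≤ L₀ := Subgroup.map_subtype_le _
  have hYL₀ : Y ≤ L₀ := hYT.trans hT'L₀
  have hML₀ : L₀ = M := hMuniq L₀ ⟨hL₀, hYL₀⟩
  have hU : ∀ K : Subgroup L, Y ≤ K → K ≠ ⊤ → K ≤ L₀ := by
    intro K hYK hK
    obtain ⟨M', hM', hKM'⟩ := (eq_top_or_exists_le_coatom K).resolve_left hK
    have h0 := hMuniq M' ⟨hM', hYK.trans hKM'⟩
    rw [hML₀, ← h0]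
    exact hKM'
  have hnn : ∀ K : Subgroup L, K.Normal → Y ≤ K → K = ⊤ := by
    intro K hK hYK
    rw [eq_top_iff, ← hnc]
    exact Subgroup.normalClosure_le_normal hYK
  have h4 : Subgroup.normalizer (L₀ : Set L) = L₀ := by
    by_contra hne
    have hlt : L₀ < Subgroup.normalizer (L₀ : Set L) :=
      lt_of_le_of_ne Subgroup.le_normalizer (Ne.symm hne)
    have htop := hL₀.2 _ hlt
    exact hL₀.1 (hnn L₀ (Subgroup.normalizer_eq_top_iff.1 htop) hYL₀)
  have h1 : Subgroup.normalizer (((T : Subgroup ↥L₀).map L₀.subtype : Subgroup L) : Set L) ≤ L₀ := by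
    apply hU _ (hYT.trans Subgroup.le_normalizer)
    intro htop
    have h0 := hnn _ (Subgroup.normalizer_eq_top_iff.1 htop) hYT
    apply hL₀.1
    rw [eq_top_iff, ← h0]
    exact hT'L₀
  have hT'p : IsPGroup p ((T : Subgroup ↥L₀).map L₀.subtype) := T.isPGroup'.map _
  obtain ⟨P, hP⟩ := hT'p.exists_le_sylow
  have h3 : (P : Subgroup L) = (T : Subgroup ↥L₀).map L₀.subtype := by
    by_contra hne
    have hlt : (T : Subgroup ↥L₀).map L₀.subtype < P := lt_of_le_of_ne hP (Ne.symm hne)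
    obtain ⟨x, hxP, hxN, hxT⟩ := exists_mem_normalizer_not_mem P.isPGroup' hlt
    have hD : IsPGroup p ((P : Subgroup L) ⊓ Subgroup.normalizer (((T : Subgroup ↥L₀).map L₀.subtype : Subgroup L) : Set L) : Subgroup L) :=
      P.isPGroup'.to_le inf_le_left
    have hD' := hD.comap_subtype (K := L₀)
    have hle : (T : Subgroup L₀) ≤ ((P : Subgroup L) ⊓ Subgroup.normalizer (((T : Subgroup ↥L₀).map L₀.subtype : Subgroup L) : Set L) : Subgroup L).subgroupOf L₀ := by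
      intro y hy
      rw [Subgroup.mem_subgroupOf]
      have hy' : (y : L) ∈ (T : Subgroup ↥L₀).map L₀.subtype := ⟨y, hy, rfl⟩
      exact Subgroup.mem_inf.2 ⟨hP hy', Subgroup.le_normalizer hy'⟩
    have heq := sylow_eq_of_le T hD' hle
    apply hxT
    have hxL₀ : x ∈ L₀ := h1 hxN
    have hxT' : (⟨x, hxL₀⟩ : L₀) ∈ (T : Subgroup L₀) := by
      rw [← heq]
      exact Subgroup.mem_comap.2 (Subgroup.mem_inf.2 ⟨hxP, hxN⟩)
    exact ⟨⟨x, hxL₀⟩, hxT', rfl⟩
  have h2 : Cfsg.pCore p L ≤ L₀ := (pCore_le_sylow P).trans (h3.le.trans hT'L₀)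
  have h5 : ∀ g : L, g ∉ L₀ → Y ⊔ Y.map (MulAut.conj g).toMonoidHom = ⊤ := by
    intro g hg
    by_contra hne
    have hle := hU _ le_sup_left hne
    have hYg : Y.map (MulAut.conj g).toMonoidHom ≤ L₀ := le_sup_right.trans hle
    have hY' : Y ≤ L₀.map (MulAut.conj g⁻¹).toMonoidHom := by
      have h0 := conj_mono g⁻¹ hYg
      rwa [conj_inv_conj] at h0
    have hco : IsCoatom (L₀.map (MulAut.conj g⁻¹).toMonoidHom) :=
      (OrderIso.isCoatom_iff (MulAut.conj g⁻¹).mapSubgroup L₀).2 hL₀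
    have h0 := hMuniq _ ⟨hco, hY'⟩
    rw [← hML₀, conj_eq_self_iff, h4] at h0
    exact hg (by simpa using L₀.inv_mem h0)
  refine ⟨h1, h2, ⟨P, h3⟩, h4, h5, ?_⟩
  intro hYc g hg
  haveI := hYc
  apply le_antisymm
  · intro x hx
    have hxY := (Subgroup.mem_inf.1 hx).1
    have hxYg := (Subgroup.mem_inf.1 hx).2
    refine Subgroup.mem_inf.2 ⟨hxY, ?_⟩
    have hcent : Y ⊔ Y.map (MulAut.conj g).toMonoidHom ≤ Subgroup.centralizer {x} := by
      rw [sup_le_iff]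
      constructor
      · intro y hy
        rw [Subgroup.mem_centralizer_iff]
        intro z hz
        rw [Set.mem_singleton_iff] at hz
        subst hz
        exact congrArg Subtype.val (mul_comm' (⟨z, hxY⟩ : Y) ⟨y, hy⟩)
      · rintro _ ⟨y, hy, rfl⟩
        rw [Subgroup.mem_centralizer_iff]
        intro z hz
        rw [Set.mem_singleton_iff] at hz
        subst hz
        obtain ⟨w, hw, rfl⟩ := hxYg
        have h0 : w * y = y * w := congrArg Subtype.val (mul_comm' (⟨w, hw⟩ : Y) ⟨y, hy⟩)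
        show g * w * g⁻¹ * (g * y * g⁻¹) = g * y * g⁻¹ * (g * w * g⁻¹)
        calc g * w * g⁻¹ * (g * y * g⁻¹) = g * (w * y) * g⁻¹ := by group
          _ = g * (y * w) * g⁻¹ := by rw [h0]
          _ = g * y * g⁻¹ * (g * w * g⁻¹) := by group
    rw [h5 g hg] at hcent
    rw [Subgroup.mem_center_iff]
    intro h
    exact (Subgroup.mem_centralizer_iff.1 (hcent (Subgroup.mem_top h)) x rfl).symm
  · intro x hx
    have hxY := (Subgroup.mem_inf.1 hx).1
    have hxZ := (Subgroup.mem_inf.1 hx).2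
    refine Subgroup.mem_inf.2 ⟨hxY, ⟨x, hxY, ?_⟩⟩
    show g * x * g⁻¹ = x
    rw [Subgroup.mem_center_iff.1 hxZ g, mul_inv_cancel_right]

end Cfsg.Agent.S2835
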