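import Cfsg.Statements.S2836
import Cfsg.Agent.Lib.Helper16.YMinimal
import Cfsg.Agent.S2835

set_option autoImplicit false
open Cfsg

namespace Cfsg.Agent.S2836

open Cfsg.Agent.Lib.Helper16.Basic Cfsg.Agent.Lib.Helper16.PClosed Cfsg.Agent.Lib.Helper16.YMinimal

theorem ym_of_hyp {L : Type*} [Group L] [Finite L] {p : ℕ} [Fact p.Prime] (L₀ : Subgroup L)
    (hL₀ : IsCoatom L₀) (T : Sylow p ↥L₀) (Y : Subgroup L)
    (hYT : Y ≤ (T : Subgroup ↥L₀).map L₀.subtype) (hmin : Cfsg.IsMinimalOver Y) :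
    ∃ P : Sylow p L, YM p L₀ Y P := by
  obtain ⟨-, -, ⟨P, hP⟩, -, -, -⟩ := Cfsg.Agent.S2835.result L₀ hL₀ T Y hYT hmin
  obtain ⟨hnc, M, ⟨hMco, hYM⟩, hMuniq⟩ := hmin
  have hT'L₀ : (T : Subgroup ↥L₀).map L₀.subtype ≤ L₀ := Subgroup.map_subtype_le _
  have hYL₀ : Y ≤ L₀ := hYT.trans hT'L₀
  have hML₀ : L₀ = M := hMuniq L₀ ⟨hL₀, hYL₀⟩
  refine ⟨P, hL₀, ?_, ?_, ?_⟩
  · rw [hP]
    exact hYT
  · rw [hP]
    exact hT'L₀
  · intro K hYK hK
    obtain ⟨M', hM', hKM'⟩ := (eq_top_or_exists_le_coatom K).resolve_left hK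
    have h0 := hMuniq M' ⟨hM', hYK.trans hKM'⟩
    rw [hML₀, ← h0]
    exact hKM'


/-- Let L be a finite group, L₀ a maximal subgroup, T a Sylow p-subgroup of L₀, Y ≤ T, and suppose L is Y-minimal. Let D be the intersection of the conjugates of L₀ (the core of L₀). Then D contains O_p(L) and D/O_p(L) is the Frattini subgroup of L/O_p(L), so D is p-closed; and every normal subgroup N of L contained in L₀ is p-closed with N/O_p(N) a nilpotent group of order prime to p. -/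
theorem result {L : Type*} [Group L] [Finite L] {p : ℕ} [Fact p.Prime] (L₀ : Subgroup L) (hL₀ : IsCoatom L₀) (T : Sylow p ↥L₀) (Y : Subgroup L) (hYT : Y ≤ (T : Subgroup ↥L₀).map L₀.subtype) (hmin : Cfsg.IsMinimalOver Y) : (Cfsg.pCore p L ≤ L₀.normalCore ∧ (L₀.normalCore).map (QuotientGroup.mk' (Cfsg.pCore p L)) = frattini (L ⧸ Cfsg.pCore p L) ∧ Cfsg.IsPClosed p ↥(L₀.normalCore)) ∧ ∀ (N : Subgroup L) [N.Normal], N ≤ L₀ → Cfsg.IsPClosed p ↥N ∧ Group.IsNilpotent (↥N ⧸ Cfsg.pCore p ↥N) ∧ (Nat.card (↥N ⧸ Cfsg.pCore p ↥N)).Coprime p := by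
  obtain ⟨P, hym⟩ := ym_of_hyp L₀ hL₀ T Y hYT hmin
  refine ⟨⟨?_, hym.core_frattini, ?_⟩, ?_⟩
  · rw [Subgroup.normal_le_normalCore]
    exact (pCore_le_sylow P).trans hym.sylow_le
  · exact (hym.structure_normal L₀.normalCore (Subgroup.normalCore_le L₀)).1
  · intro N hN hNL
    exact hym.structure_normal N hNL

end Cfsg.Agent.S2836
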