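import Cfsg.Statements.S2837
import Cfsg.Agent.S2835
import Cfsg.Agent.S2833
import Cfsg.Agent.Lib.Helper16.Basic
import Cfsg.Agent.Lib.Helper16.WeaklyClosed
import Cfsg.Agent.Lib.Helper16.Generation

set_option autoImplicit false
open Cfsg

namespace Cfsg.Agent.S2837

open scoped commutatorElement Pointwise in
theorem core {L : Type*} [Group L] [Finite L] {p : ℕ} [Fact p.Prime] (Q Y Yg : Subgroup L)
    [hQn : Q.Normal] (hQp : IsPGroup p Q)
    (hYc : ∀ a ∈ Y, ∀ b ∈ Y, a * b = b * a) (hYgc : ∀ a ∈ Yg, ∀ b ∈ Yg, a * b = b * a)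
    (hYp : ∀ a ∈ Y, a ^ p = 1)
    (hQY : Q ≤ Subgroup.normalizer (Y : Set L)) (hQYg : Q ≤ Subgroup.normalizer (Yg : Set L))
    (htop : Y ⊔ Yg = ⊤) (hint : Y ⊓ Yg = Y ⊓ Subgroup.center L)
    (hcen : Y ⊓ Subgroup.center L ≤ Q) (hcen' : Yg ⊓ Subgroup.center L ≤ Y)
    (A : Subgroup L) (hA : A = Subgroup.normalClosure ((Q ⊓ Y : Subgroup L) : Set L))
    (hZg : Q ⊓ Yg ≤ A) :
    (frattini ↥A).map A.subtype = ⁅A, A⁆ ∧ ⁅A, A⁆ = ⁅A ⊓ Y, A⁆ ∧
      ⁅A ⊓ Y, A⁆ = ⁅A ⊓ Y, A ⊓ Yg⁆ ∧ ⁅A ⊓ Y, A⁆ ≤ Y ⊓ Subgroup.center L ∧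
      (A ⊓ Y) ⊓ (A ⊓ Yg) = Y ⊓ Subgroup.center L ∧
      A ⊓ Subgroup.center L = Y ⊓ Subgroup.center L := by
  open Cfsg.Agent.Lib.Helper16.Basic Cfsg.Agent.Lib.Helper16.WeaklyClosed in
  have hQYZ : ⁅Q, Y⁆ ≤ Q ⊓ Y := le_inf (Subgroup.commutator_le_left Q Y) (by
    rw [Subgroup.commutator_comm]; exact commutator_le_left_of_le_normalizer hQY)
  have hQYgZ : ⁅Q, Yg⁆ ≤ Q ⊓ Yg := le_inf (Subgroup.commutator_le_left Q Yg) (by
    rw [Subgroup.commutator_comm]; exact commutator_le_left_of_le_normalizer hQYg)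
  have hZA : Q ⊓ Y ≤ A := by rw [hA]; exact Subgroup.le_normalClosure
  have hn1 : Y ≤ Subgroup.normalizer (((Q ⊓ Y) ⊔ (Q ⊓ Yg) : Subgroup L) : Set L) := by
    apply le_normalizer_of_commutator_le
    calc ⁅Y, (Q ⊓ Y) ⊔ (Q ⊓ Yg)⁆ ≤ ⁅Y, Q⁆ :=
          Subgroup.commutator_mono le_rfl (sup_le inf_le_left inf_le_left)
      _ = ⁅Q, Y⁆ := Subgroup.commutator_comm _ _
      _ ≤ Q ⊓ Y := hQYZ
      _ ≤ _ := le_sup_left
  have hn2 : Yg ≤ Subgroup.normalizer (((Q ⊓ Y) ⊔ (Q ⊓ Yg) : Subgroup L) : Set L) := by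
    apply le_normalizer_of_commutator_le
    calc ⁅Yg, (Q ⊓ Y) ⊔ (Q ⊓ Yg)⁆ ≤ ⁅Yg, Q⁆ :=
          Subgroup.commutator_mono le_rfl (sup_le inf_le_left inf_le_left)
      _ = ⁅Q, Yg⁆ := Subgroup.commutator_comm _ _
      _ ≤ Q ⊓ Yg := hQYgZ
      _ ≤ _ := le_sup_right
  have hnorm : ((Q ⊓ Y) ⊔ (Q ⊓ Yg) : Subgroup L).Normal := by
    rw [← Subgroup.normalizer_eq_top_iff, eq_top_iff, ← htop]
    exact sup_le hn1 hn2
  have hAeq : A = (Q ⊓ Y) ⊔ (Q ⊓ Yg) := by
    apply le_antisymm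
    · rw [hA]
      exact Subgroup.normalClosure_le_normal (by
        intro x hx
        exact (le_sup_left : Q ⊓ Y ≤ (Q ⊓ Y) ⊔ (Q ⊓ Yg)) hx)
    · exact sup_le hZA hZg
  have hAQ : A ≤ Q := by rw [hAeq]; exact sup_le inf_le_left inf_le_left
  have hAY : A ⊓ Y = Q ⊓ Y := le_antisymm (inf_le_inf_right _ hAQ) (le_inf hZA inf_le_right)
  have hAYg : A ⊓ Yg = Q ⊓ Yg := le_antisymm (inf_le_inf_right _ hAQ) (le_inf hZg inf_le_right)
  have hC : ⁅Q ⊓ Y, Q ⊓ Yg⁆ ≤ Y ⊓ Subgroup.center L := by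
    rw [← hint]
    apply le_inf
    · calc ⁅Q ⊓ Y, Q ⊓ Yg⁆ ≤ ⁅Y, Q⁆ := Subgroup.commutator_mono inf_le_right inf_le_left
        _ = ⁅Q, Y⁆ := Subgroup.commutator_comm _ _
        _ ≤ Q ⊓ Y := hQYZ
        _ ≤ Y := inf_le_right
    · calc ⁅Q ⊓ Y, Q ⊓ Yg⁆ ≤ ⁅Q, Yg⁆ := Subgroup.commutator_mono inf_le_left inf_le_right
        _ ≤ Q ⊓ Yg := hQYgZ
        _ ≤ Yg := inf_le_right
  have hCnorm : (⁅Q ⊓ Y, Q ⊓ Yg⁆ : Subgroup L).Normal := by
    constructor
    intro c hc x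
    have hcc : c ∈ Subgroup.center L := (Subgroup.mem_inf.1 (hC hc)).2
    rw [Subgroup.mem_center_iff] at hcc
    have : x * c * x⁻¹ = c := by rw [hcc x]; group
    rw [this]; exact hc
  have hCtop : Subgroup.normalizer ((⁅Q ⊓ Y, Q ⊓ Yg⁆ : Subgroup L) : Set L) = ⊤ :=
    Subgroup.normalizer_eq_top_iff.2 hCnorm
  have hZc : ∀ a ∈ Q ⊓ Y, ∀ b ∈ Q ⊓ Y, ⁅a, b⁆ = 1 := by
    intro a ha b hb
    rw [commutatorElement_eq_one_iff_mul_comm]
    exact hYc a (Subgroup.mem_inf.1 ha).2 b (Subgroup.mem_inf.1 hb).2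
  have hZgc : ∀ a ∈ Q ⊓ Yg, ∀ b ∈ Q ⊓ Yg, ⁅a, b⁆ = 1 := by
    intro a ha b hb
    rw [commutatorElement_eq_one_iff_mul_comm]
    exact hYgc a (Subgroup.mem_inf.1 ha).2 b (Subgroup.mem_inf.1 hb).2
  have hAA : ⁅A, A⁆ ≤ ⁅Q ⊓ Y, Q ⊓ Yg⁆ := by
    have h1 : ⁅Q ⊓ Y, (Q ⊓ Y) ⊔ (Q ⊓ Yg)⁆ ≤ ⁅Q ⊓ Y, Q ⊓ Yg⁆ := by
      apply Cfsg.Agent.S2833.comm_sup_le _ _ _ _ (by rw [hCtop]; exact le_top)
        (by rw [hCtop]; exact le_top)
      · intro v hv k hk
        rw [hZc v hv k hk]; exact Subgroup.one_mem _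
      · intro v hv k hk
        exact Subgroup.commutator_mem_commutator hv hk
    have h2 : ⁅Q ⊓ Yg, (Q ⊓ Y) ⊔ (Q ⊓ Yg)⁆ ≤ ⁅Q ⊓ Y, Q ⊓ Yg⁆ := by
      apply Cfsg.Agent.S2833.comm_sup_le _ _ _ _ (by rw [hCtop]; exact le_top)
        (by rw [hCtop]; exact le_top)
      · intro v hv k hk
        rw [← commutatorElement_inv]
        exact Subgroup.inv_mem _ (Subgroup.commutator_mem_commutator hk hv)
      · intro v hv k hk
        rw [hZgc v hv k hk]; exact Subgroup.one_mem _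
    rw [hAeq]
    apply Cfsg.Agent.S2833.comm_sup_le _ _ _ _ (by rw [hCtop]; exact le_top)
      (by rw [hCtop]; exact le_top)
    · intro v hv k hk
      rw [← commutatorElement_inv]
      exact Subgroup.inv_mem _ (h1 (Subgroup.commutator_mem_commutator hk hv))
    · intro v hv k hk
      rw [← commutatorElement_inv]
      exact Subgroup.inv_mem _ (h2 (Subgroup.commutator_mem_commutator hk hv))
  have hAA' : ⁅A, A⁆ = ⁅Q ⊓ Y, Q ⊓ Yg⁆ := le_antisymm hAA (Subgroup.commutator_mono hZA hZg)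
  have hcenZ : Y ⊓ Subgroup.center L ≤ Q ⊓ Y := le_inf hcen inf_le_left
  have hcenZg : Y ⊓ Subgroup.center L ≤ Q ⊓ Yg := le_inf hcen (by rw [← hint]; exact inf_le_right)
  refine ⟨?_, ?_, ?_, ?_, ?_, ?_⟩
  · rw [← Subgroup.map_subtype_commutator]
    congr 1
    apply le_antisymm
    · rw [← Abelianization.ker_of (G := ↥A)]
      apply frattini_le_ker_of_elementary (p := p)
      · intro x y; exact mul_comm _ _
      · intro x
        let K : Subgroup ↥A :=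
          (powMonoidHom p : Abelianization ↥A →* Abelianization ↥A).ker.comap Abelianization.of
        have hK : A ≤ K.map A.subtype := by
          conv_lhs => rw [hA]
          rw [Subgroup.normalClosure, Subgroup.closure_le]
          intro w hw
          have hwA : w ∈ A := by rw [hA]; exact Subgroup.conjugatesOfSet_subset_normalClosure hw
          obtain ⟨z, hz, hzw⟩ := Group.mem_conjugatesOfSet_iff.1 hw
          obtain ⟨c, hc⟩ := isConj_iff.1 hzw
          have hwp : w ^ p = 1 := by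
            rw [← hc, conj_pow, hYp z (Subgroup.mem_inf.1 hz).2]; group
          refine ⟨⟨w, hwA⟩, ?_, rfl⟩
          show Abelianization.of (⟨w, hwA⟩ : ↥A) ∈ (powMonoidHom p).ker
          rw [MonoidHom.mem_ker, powMonoidHom_apply, ← map_pow]
          have : (⟨w, hwA⟩ : ↥A) ^ p = 1 := Subtype.ext (by simpa using hwp)
          rw [this, map_one]
        obtain ⟨x', hx', hxx⟩ := hK x.2
        have hxe : x' = x := Subtype.ext hxx
        rw [← hxe]
        have h0 : Abelianization.of x' ∈ (powMonoidHom p : Abelianization ↥A →* Abelianization ↥A).ker := hx'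
        rwa [MonoidHom.mem_ker, powMonoidHom_apply] at h0
    · have hAp : IsPGroup p A := hQp.to_le hAQ
      haveI : Group.IsNilpotent ↥A := hAp.isNilpotent
      unfold frattini Order.radical
      apply le_iInf₂
      intro C hC
      by_contra hne
      have hlt : C < C ⊔ commutator ↥A :=
        lt_of_le_of_ne le_sup_left (fun h => hne (by rw [h]; exact le_sup_right))
      have htop' := hC.2 _ hlt
      have h0 := Cfsg.Agent.Lib.Helper16.Generation.nilpotent_frattini (⊤ : Subgroup ↥A) C le_top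
        (by rw [← commutator_def, htop'])
      exact hC.1 (top_le_iff.1 h0)
  · rw [hAY]
    exact le_antisymm (by rw [hAA']; exact Subgroup.commutator_mono le_rfl hZg)
      (Subgroup.commutator_mono hZA le_rfl)
  · rw [hAY, hAYg]
    exact le_antisymm (by rw [← hAA']; exact Subgroup.commutator_mono hZA le_rfl)
      (Subgroup.commutator_mono le_rfl hZg)
  · rw [hAY]; exact (Subgroup.commutator_mono hZA le_rfl).trans (hAA.trans hC)
  · rw [hAY, hAYg]
    apply le_antisymm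
    · rw [← hint]; exact inf_le_inf inf_le_right inf_le_right
    · exact le_inf hcenZ hcenZg
  · apply le_antisymm
    · intro a ha
      have haA := (Subgroup.mem_inf.1 ha).1
      have hac := (Subgroup.mem_inf.1 ha).2
      rw [hAeq] at haA
      have hZgN : Q ⊓ Yg ≤ Subgroup.normalizer ((Q ⊓ Y : Subgroup L) : Set L) := by
        apply le_normalizer_of_commutator_le
        calc ⁅Q ⊓ Yg, Q ⊓ Y⁆ ≤ ⁅Q, Y⁆ := Subgroup.commutator_mono inf_le_left inf_le_right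
          _ ≤ Q ⊓ Y := hQYZ
      have hmem : a ∈ ((Q ⊓ Y : Subgroup L) : Set L) * ((Q ⊓ Yg : Subgroup L) : Set L) := by
        rw [← Subgroup.coe_mul_of_right_le_normalizer_left _ _ hZgN]
        exact haA
      obtain ⟨z1, hz1, z2, hz2, hmul⟩ := hmem
      have hmul' : z1 * z2 = a := hmul
      subst hmul'
      have hz1Y : z1 ∈ Y := (Subgroup.mem_inf.1 hz1).2
      have hz2Yg : z2 ∈ Yg := (Subgroup.mem_inf.1 hz2).2
      rw [Subgroup.mem_center_iff] at hac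
      have h1 : Y ≤ Subgroup.centralizer ({z2} : Set L) := by
        intro y hy
        rw [Subgroup.mem_centralizer_iff]
        intro h hh
        rw [Set.mem_singleton_iff] at hh
        subst hh
        have e1 := hac y
        have e2 := hYc y hy z1 hz1Y
        have e4 : z1 * (h * y) = z1 * (y * h) := by
          calc z1 * (h * y) = (z1 * h) * y := (mul_assoc _ _ _).symm
            _ = y * (z1 * h) := e1.symm
            _ = (y * z1) * h := (mul_assoc _ _ _).symm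
            _ = (z1 * y) * h := by rw [e2]
            _ = z1 * (y * h) := mul_assoc _ _ _
        exact mul_left_cancel e4
      have h2 : Yg ≤ Subgroup.centralizer ({z2} : Set L) := by
        intro y hy
        rw [Subgroup.mem_centralizer_iff]
        intro h hh
        rw [Set.mem_singleton_iff] at hh
        subst hh
        exact hYgc h hz2Yg y hy
      have h3 : z2 ∈ Subgroup.center L := by
        rw [Subgroup.mem_center_iff]
        intro x
        have hx : x ∈ Subgroup.centralizer ({z2} : Set L) := by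
          have : x ∈ Y ⊔ Yg := by rw [htop]; exact Subgroup.mem_top x
          exact (sup_le h1 h2) this
        rw [Subgroup.mem_centralizer_iff] at hx
        exact (hx z2 rfl).symm
      have hz2Y : z2 ∈ Y := hcen' (Subgroup.mem_inf.2 ⟨hz2Yg, h3⟩)
      exact Subgroup.mem_inf.2 ⟨Y.mul_mem hz1Y hz2Y, Subgroup.mem_center_iff.2 hac⟩
    · exact le_inf (hcenZ.trans hZA) inf_le_right

/-- Let L be a finite group of characteristic p, L₀ a maximal subgroup, Y an elementary abelian p-subgroup of L₀ with L Y-minimal and O_p(L) ≤ N_L(Y). Put A = the normal closure of O_p(L) ∩ Y in L. Then for every g ∈ L outside L₀: Φ(A) = A' = [A ∩ Y, A] = [A ∩ Y, A ∩ gYg⁻¹] ≤ C_Y(L), and Y ∩ gYg⁻¹ = (A ∩ Y) ∩ (A ∩ gYg⁻¹) = C_Y(L) = C_A(L). -/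
theorem result {L : Type*} [Group L] [Finite L] {p : ℕ} [Fact p.Prime] (hchar : Subgroup.centralizer (Cfsg.pCore p L : Set L) ≤ Cfsg.pCore p L) (L₀ : Subgroup L) (hL₀ : IsCoatom L₀) (Y : Subgroup L) (hYL₀ : Y ≤ L₀) (hYel : Cfsg.IsElementaryAbelian p Y) (hmin : Cfsg.IsMinimalOver Y) (hOY : Cfsg.pCore p L ≤ Subgroup.normalizer (Y : Set L)) (A : Subgroup L) (hA : A = Subgroup.normalClosure (((Cfsg.pCore p L ⊓ Y : Subgroup L)) : Set L)) (g : L) (hg : g ∉ L₀) : (frattini ↥A).map A.subtype = ⁅A, A⁆ ∧ ⁅A, A⁆ = ⁅A ⊓ Y, A⁆ ∧ ⁅A ⊓ Y, A⁆ = ⁅A ⊓ Y, A ⊓ Y.map (MulAut.conj g).toMonoidHom⁆ ∧ ⁅A ⊓ Y, A⁆ ≤ Y ⊓ Subgroup.center L ∧ Y ⊓ Y.map (MulAut.conj g).toMonoidHom = Y ⊓ Subgroup.center L ∧ (A ⊓ Y) ⊓ (A ⊓ Y.map (MulAut.conj g).toMonoidHom) = Y ⊓ Subgroup.center L ∧ A ⊓ Subgroup.center L = Y ⊓ Subgroup.center L := by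
  open Cfsg.Agent.Lib.Helper16.Basic Cfsg.Agent.Lib.Helper16.WeaklyClosed in
  have hYp : IsPGroup p Y := by
    intro a
    exact ⟨1, Subtype.ext (by simpa using hYel.2 a.1 a.2)⟩
  obtain ⟨T, hT⟩ := exists_sylow_sub_ge hYp hYL₀
  obtain ⟨-, -, -, -, h5, h6⟩ := Cfsg.Agent.S2835.result L₀ hL₀ T Y hT hmin
  have htop := h5 g hg
  have hint := h6 hYel.1 g hg
  haveI : (Cfsg.pCore p L).Normal := pCore_normal' L
  have hYc : ∀ a ∈ Y, ∀ b ∈ Y, a * b = b * a := by
    intro a ha b hb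
    haveI := hYel.1
    have := mul_comm' (⟨a, ha⟩ : ↥Y) ⟨b, hb⟩
    exact congrArg Subtype.val this
  have hYgc : ∀ a ∈ Y.map (MulAut.conj g).toMonoidHom,
      ∀ b ∈ Y.map (MulAut.conj g).toMonoidHom, a * b = b * a := by
    rintro _ ⟨a, ha, rfl⟩ _ ⟨b, hb, rfl⟩
    rw [← map_mul, ← map_mul, hYc a ha b hb]
  have hQYg : Cfsg.pCore p L ≤
      Subgroup.normalizer ((Y.map (MulAut.conj g).toMonoidHom : Subgroup L) : Set L) := by
    rw [normalizer_conj]
    have := conj_mono g hOY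
    rwa [conj_normal (Cfsg.pCore p L) g] at this
  have hcen : Y ⊓ Subgroup.center L ≤ Cfsg.pCore p L := by
    apply le_pCore
    · constructor
      intro c hc x
      have hcc := (Subgroup.mem_inf.1 hc).2
      rw [Subgroup.mem_center_iff] at hcc
      have : x * c * x⁻¹ = c := by rw [hcc x]; group
      rw [this]; exact hc
    · exact hYp.to_le inf_le_left
  have hcen' : Y.map (MulAut.conj g).toMonoidHom ⊓ Subgroup.center L ≤ Y := by
    intro x hx
    obtain ⟨y, hy, hyx⟩ := (Subgroup.mem_inf.1 hx).1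
    have hcc := (Subgroup.mem_inf.1 hx).2
    rw [Subgroup.mem_center_iff] at hcc
    have h1 : g * y * g⁻¹ = x := by simpa using hyx
    have h3 : y = g⁻¹ * x * g := by rw [← h1]; group
    have : y = x := by rw [h3, hcc g⁻¹]; group
    rw [← this]; exact hy
  have hZg : Cfsg.pCore p L ⊓ Y.map (MulAut.conj g).toMonoidHom ≤ A := by
    have h1 : (Cfsg.pCore p L ⊓ Y).map (MulAut.conj g).toMonoidHom ≤
        A.map (MulAut.conj g).toMonoidHom :=
      conj_mono g (by rw [hA]; exact Subgroup.le_normalClosure)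
    haveI : A.Normal := by rw [hA]; exact Subgroup.normalClosure_normal
    rwa [conj_inf, conj_normal (Cfsg.pCore p L) g, conj_normal A g] at h1
  obtain ⟨c1, c2, c3, c4, c6, c7⟩ := core (Cfsg.pCore p L) Y (Y.map (MulAut.conj g).toMonoidHom)
    pCore_isPGroup hYc hYgc hYel.2 hOY hQYg htop hint hcen hcen' A hA hZg
  exact ⟨c1, c2, c3, c4, hint, c6, c7⟩

end Cfsg.Agent.S2837
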