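import Cfsg.Statements.S2839
import Cfsg.Agent.Lib.Helper16.WeaklyClosed
import Cfsg.Agent.Lib.Helper16.Residual

set_option autoImplicit false
open Cfsg

namespace Cfsg.Agent.S2839

open Cfsg.Agent.Lib.Helper16.Basic Cfsg.Agent.Lib.Helper16.WeaklyClosed
  Cfsg.Agent.Lib.Helper16.Residual in
theorem part3 {H : Type*} [Group H] [Finite H] {p : ℕ} [Fact p.Prime] (Q : Subgroup H)
    (hQp : IsPGroup p ↥Q) (hwc : Cfsg.IsWeaklyClosedSubgroup p Q) (K : Subgroup H) (hQK : Q ≤ K) :
    Cfsg.IsParabolic p ((Subgroup.normalizer ((Q : Subgroup H) : Set H)).subgroupOf K) := by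
  obtain ⟨S, hQR⟩ := exists_sylow_sub_ge hQp hQK
  have hR : IsPGroup p ((S : Subgroup K).map K.subtype) := S.isPGroup'.map _
  refine ⟨S, ?_⟩
  intro y hy
  rw [Subgroup.mem_subgroupOf]
  apply wc_normalizer_le hwc hR hQR
  apply Subgroup.le_normalizer
  exact ⟨y, hy, rfl⟩

open Cfsg.Agent.Lib.Helper16.Basic Cfsg.Agent.Lib.Helper16.WeaklyClosed
  Cfsg.Agent.Lib.Helper16.Residual in
theorem part4 {H : Type*} [Group H] [Finite H] {p : ℕ} [Fact p.Prime] (Q : Subgroup H)
    (hQp : IsPGroup p ↥Q) (hwc : Cfsg.IsWeaklyClosedSubgroup p Q) (N' : Subgroup H) [N'.Normal] :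
    (N' ⊓ Subgroup.normalizer ((Q : Subgroup H) : Set H)) ⊔
      (Cfsg.pResidual p ↥N').map N'.subtype = N' := by
  apply le_antisymm
  · exact sup_le inf_le_left (pResidualOf_le N')
  · intro n hn
    have hDn : ((Cfsg.pResidual p ↥N').map N'.subtype).Normal := by
      rw [← Subgroup.normalizer_eq_top_iff]
      have := normalizer_le_normalizer_pResidualOf (p := p) N'
      rw [Subgroup.normalizer_eq_top] at this
      exact top_le_iff.1 this
    have hpow : ∀ w ∈ N' ⊔ Q, ∃ m : ℕ, w ^ p ^ m ∈ (Cfsg.pResidual p ↥N').map N'.subtype := by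
      intro w hw
      have h1 : ∃ j : ℕ, w ^ p ^ j ∈ N' := by
        rw [← SetLike.mem_coe, Subgroup.normal_mul, Set.mem_mul] at hw
        obtain ⟨a, ha, q, hq, rfl⟩ := hw
        obtain ⟨j, hj⟩ := exists_pow_eq_one_of_mem hQp hq
        refine ⟨j, ?_⟩
        rw [← QuotientGroup.eq_one_iff (N := N'), QuotientGroup.mk_pow, QuotientGroup.mk_mul,
          (QuotientGroup.eq_one_iff a).2 ha, one_mul, ← QuotientGroup.mk_pow, hj]
        rfl
      obtain ⟨j, hj⟩ := h1
      obtain ⟨k, hk⟩ := exists_pow_mem_pResidualOf (p := p) hj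
      exact ⟨j + k, by rw [pow_add, pow_mul]; exact hk⟩
    obtain ⟨S, hQR⟩ := exists_sylow_sub_ge hQp (le_sup_right : Q ≤ N' ⊔ Q)
    have hR : IsPGroup p ((S : Subgroup ↥(N' ⊔ Q)).map (N' ⊔ Q).subtype) := S.isPGroup'.map _
    haveI hDWn : (((Cfsg.pResidual p ↥N').map N'.subtype).subgroupOf (N' ⊔ Q)).Normal :=
      hDn.subgroupOf _
    have hquot : IsPGroup p (↥(N' ⊔ Q) ⧸ ((Cfsg.pResidual p ↥N').map N'.subtype).subgroupOf (N' ⊔ Q)) := by
      intro x
      induction x using QuotientGroup.induction_on with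
      | H w =>
        obtain ⟨m, hm⟩ := hpow w.1 w.2
        refine ⟨m, ?_⟩
        rw [← QuotientGroup.mk_pow]
        apply (QuotientGroup.eq_one_iff _).2
        rw [Subgroup.mem_subgroupOf]
        simpa using hm
    have htop := sylow_sup_eq_top_of_isPGroup_quotient S _ hquot
    have hnW : n ∈ N' ⊔ Q := (le_sup_left : N' ≤ N' ⊔ Q) hn
    have hmem : (⟨n, hnW⟩ : ↥(N' ⊔ Q)) ∈ (S : Subgroup ↥(N' ⊔ Q)) ⊔
        ((Cfsg.pResidual p ↥N').map N'.subtype).subgroupOf (N' ⊔ Q) := by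
      rw [htop]
      exact Subgroup.mem_top _
    rw [← SetLike.mem_coe, Subgroup.mul_normal, Set.mem_mul] at hmem
    obtain ⟨s, hs, d, hd, hsd⟩ := hmem
    have hsd' : (s : H) * (d : H) = n := congrArg Subtype.val hsd
    have hdD : (d : H) ∈ (Cfsg.pResidual p ↥N').map N'.subtype := by
      rw [SetLike.mem_coe, Subgroup.mem_subgroupOf] at hd
      exact hd
    have hsN : (s : H) ∈ Subgroup.normalizer ((Q : Subgroup H) : Set H) := by
      apply wc_normalizer_le hwc hR hQR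
      apply Subgroup.le_normalizer
      exact ⟨s, hs, rfl⟩
    have hsN' : (s : H) ∈ N' := by
      have : (s : H) = n * (d : H)⁻¹ := by rw [← hsd']; group
      rw [this]
      exact N'.mul_mem hn (N'.inv_mem (pResidualOf_le N' hdD))
    rw [← hsd']
    exact Subgroup.mul_mem_sup ⟨hsN', hsN⟩ hdD

open Cfsg.Agent.Lib.Helper16.Basic Cfsg.Agent.Lib.Helper16.WeaklyClosed
  Cfsg.Agent.Lib.Helper16.Residual in
theorem part5 {H : Type*} [Group H] [Finite H] {p : ℕ} [Fact p.Prime] (Q : Subgroup H)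
    (hQp : IsPGroup p ↥Q) (hwc : Cfsg.IsWeaklyClosedSubgroup p Q) (N' : Subgroup H) [N'.Normal] :
    Cfsg.IsWeaklyClosedSubgroup p (Q.map (QuotientGroup.mk' N')) := by
  obtain ⟨T, hQT⟩ := hQp.exists_le_sylow
  have hwcT := wc_of_le_sylow hwc T hQT
  refine ⟨T.mapSurjective (QuotientGroup.mk'_surjective N'), ?_, ?_⟩
  · rw [Sylow.coe_mapSurjective]
    exact Subgroup.map_mono hQT
  · intro gbar hg
    obtain ⟨g, rfl⟩ := QuotientGroup.mk'_surjective N' gbar
    rw [Sylow.coe_mapSurjective, ← map_conj] at hg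
    have h1 : Q.map (MulAut.conj g).toMonoidHom ≤ (T : Subgroup H) ⊔ N' := by
      intro x hx
      obtain ⟨t, ht, hte⟩ := hg ⟨x, hx, rfl⟩
      have hte' : (QuotientGroup.mk t : H ⧸ N') = QuotientGroup.mk x := hte
      have h2 : t⁻¹ * x ∈ N' := by
        rw [← QuotientGroup.eq_one_iff (N := N'), QuotientGroup.mk_mul, QuotientGroup.mk_inv, hte']
        simp
      have hx' : x = t * (t⁻¹ * x) := by group
      rw [hx']
      exact Subgroup.mul_mem_sup ht h2
    obtain ⟨y, hy, hyle⟩ := exists_conj_le_of_sylow_le T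
      (le_sup_left : (T : Subgroup H) ≤ (T : Subgroup H) ⊔ N') h1 (isPGroup_conj hQp g)
    rw [conj_conj] at hyle
    have h2 := hwcT.2 (y * g) hyle
    rw [← SetLike.mem_coe, Subgroup.mul_normal, Set.mem_mul] at hy
    obtain ⟨t, ht, n, hn, rfl⟩ := hy
    have ht' : t ∈ Subgroup.normalizer ((Q : Subgroup H) : Set H) :=
      wc_normalizer_le hwc T.isPGroup' hQT (Subgroup.le_normalizer ht)
    have h3 := (conj_eq_self_iff Q t).2 ht'
    have h4 := congrArg (fun K : Subgroup H => K.map (QuotientGroup.mk' N')) h2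
    simp only [map_conj] at h4
    have h5 : (QuotientGroup.mk' N') (t * n * g) =
        (QuotientGroup.mk' N') t * (QuotientGroup.mk' N') g := by
      have hn1 : (QuotientGroup.mk' N') n = 1 := (QuotientGroup.eq_one_iff n).2 hn
      rw [map_mul, map_mul, hn1, mul_one]
    rw [h5, ← conj_conj] at h4
    have h6 := congrArg (fun K : Subgroup H => K.map (QuotientGroup.mk' N')) h3
    simp only [map_conj] at h6
    rw [conj_eq_iff] at h4 h6
    exact h4.trans h6.symm

/-- Let Q be a nontrivial p-subgroup of the finite group H that is a weakly closed subgroup, K a subgroup containing Q and N a normal subgroup of H. Then Q is a weakly closed subgroup of K; every H-conjugate of Q contained in K is a K-conjugate of Q; N_K(Q) contains a Sylow p-subgroup of K; N = N_N(Q)·O^p(N); and QN/N is a weakly closed subgroup of H/N. -/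
theorem result {H : Type*} [Group H] [Finite H] {p : ℕ} [Fact p.Prime] (Q : Subgroup H) (hQp : IsPGroup p ↥Q) (hQ1 : Q ≠ ⊥) (hwc : Cfsg.IsWeaklyClosedSubgroup p Q) (K : Subgroup H) (hQK : Q ≤ K) (N' : Subgroup H) [N'.Normal] : Cfsg.IsWeaklyClosedSubgroup p (Q.subgroupOf K) ∧ (∀ g : H, ((Q : Subgroup H).map (MulAut.conj (g : H)).toMonoidHom) ≤ K → ∃ k ∈ K, ((Q : Subgroup H).map (MulAut.conj (g : H)).toMonoidHom) = ((Q : Subgroup H).map (MulAut.conj (k : H)).toMonoidHom)) ∧ Cfsg.IsParabolic p ((Subgroup.normalizer ((Q : Subgroup H) : Set H)).subgroupOf K) ∧ (N' ⊓ Subgroup.normalizer ((Q : Subgroup H) : Set H)) ⊔ (Cfsg.pResidual p ↥N').map N'.subtype = N' ∧ Cfsg.IsWeaklyClosedSubgroup p (Q.map (QuotientGroup.mk' N')) := by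
  exact ⟨Cfsg.Agent.Lib.Helper16.WeaklyClosed.wc_sub hwc hQK,
    fun g hg => Cfsg.Agent.Lib.Helper16.WeaklyClosed.wc_conj_in_sub hwc hQK hg,
    part3 Q hQp hwc K hQK, part4 Q hQp hwc N', part5 Q hQp hwc N'⟩

end Cfsg.Agent.S2839
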