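import Cfsg.Statements.S2840
import Cfsg.Agent.Lib.Helper16.WeaklyClosed

set_option autoImplicit false
open Cfsg

namespace Cfsg.Agent.S2840

/-- Let Q be a nontrivial p-subgroup of the finite group H that is a weakly closed subgroup and K a subgroup containing Q; let K° be the weak closure of Q in K (generated by the H-conjugates of Q inside K). Then K° is generated by the K-conjugates of Q, and K° is the subnormal closure of Q in K. -/
theorem result {H : Type*} [Group H] [Finite H] {p : ℕ} [Fact p.Prime] (Q : Subgroup H) (hQp : IsPGroup p ↥Q) (hQ1 : Q ≠ ⊥) (hwc : Cfsg.IsWeaklyClosedSubgroup p Q) (K : Subgroup H) (hQK : Q ≤ K) (Kc : Subgroup H) (hKc : Kc = Cfsg.weakClosure Q K) : Kc = ⨆ k : ↥K, ((Q : Subgroup H).map (MulAut.conj ((k : H) : H)).toMonoidHom) ∧ Kc = (Cfsg.subnormalClosure (Q.subgroupOf K)).map K.subtype := by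
  open Cfsg.Agent.Lib.Helper16.Basic Cfsg.Agent.Lib.Helper16.WeaklyClosed in
  have h1 := weakClosure_eq_iSup_conj hwc hQK
  rw [hKc]
  refine ⟨h1, ?_⟩
  rw [h1]
  apply le_antisymm
  · intro x hx
    have hxK : x ∈ K := iSup_conj_le Q K hQK hx
    refine ⟨⟨x, hxK⟩, ?_, rfl⟩
    unfold Cfsg.subnormalClosure
    rw [SetLike.mem_coe, Subgroup.mem_sInf]
    rintro L ⟨hQL, hLsn⟩
    have hwc' := wc_sub hwc hQK
    have hle : (⨆ k : ↥K, Q.map (MulAut.conj (k : H)).toMonoidHom) ≤ L.map K.subtype := by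
      apply iSup_le
      intro k y hy
      rw [mem_conj] at hy
      have hyK : y ∈ K := by
        have h2 : y = k * ((k : H)⁻¹ * y * k) * (k : H)⁻¹ := by group
        rw [h2]
        exact K.mul_mem (K.mul_mem k.2 (hQK hy)) (K.inv_mem k.2)
      refine ⟨⟨y, hyK⟩, ?_, rfl⟩
      apply wc_conj_le_of_subnormal hwc' hLsn hQL k
      rw [mem_conj, Subgroup.mem_subgroupOf]
      exact hy
    obtain ⟨z, hz, hzx⟩ := hle hx
    have hzeq : z = ⟨x, hxK⟩ := Subtype.ext hzx
    rw [← hzeq]
    exact hz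
  · have hmem : (⨆ k : ↥K, Q.map (MulAut.conj (k : H)).toMonoidHom).subgroupOf K ∈
        {L : Subgroup ↥K | Q.subgroupOf K ≤ L ∧ L.IsSubnormal} := by
      refine ⟨?_, ?_⟩
      · intro y hy
        rw [Subgroup.mem_subgroupOf] at hy ⊢
        exact le_iSup_conj Q K hy
      · have hn : ((⨆ k : ↥K, Q.map (MulAut.conj (k : H)).toMonoidHom).subgroupOf K).Normal :=
          Subgroup.normal_subgroupOf_of_le_normalizer (iSup_conj_le_normalizer Q K)
        exact hn.isSubnormal
    rintro x ⟨y, hy, rfl⟩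
    have h3 := (sInf_le hmem) hy
    rw [Subgroup.mem_subgroupOf] at h3
    exact h3

end Cfsg.Agent.S2840
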