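import Cfsg.Statements.S2841
import Cfsg.Agent.Lib.Helper16.WeaklyClosed

set_option autoImplicit false
open Cfsg

namespace Cfsg.Agent.S2841

open scoped commutatorElement in
open Cfsg.Agent.Lib.Helper16.Basic Cfsg.Agent.Lib.Helper16.WeaklyClosed in
theorem lemA {H : Type*} [Group H] (M Q : Subgroup H) {m : H} (hm : m ∈ M) :
    Q.map (MulAut.conj m).toMonoidHom ≤ ⁅M, Q⁆ ⊔ Q := by
  intro x hx
  rw [mem_conj] at hx
  have h1 : x = ⁅m, m⁻¹ * x * m⁆ * (m⁻¹ * x * m) := by rw [commutatorElement_def]; group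
  rw [h1]
  exact Subgroup.mul_mem_sup (Subgroup.commutator_mem_commutator hm hx) hx

open scoped commutatorElement in
open Cfsg.Agent.Lib.Helper16.Basic Cfsg.Agent.Lib.Helper16.WeaklyClosed in
theorem lemB {H : Type*} [Group H] [Finite H] {p : ℕ} [Fact p.Prime] (Q : Subgroup H)
    (hwc : Cfsg.IsWeaklyClosedSubgroup p Q) (M : Subgroup H) {m : H} (hm : m ∈ M) :
    ∃ b ∈ ⁅M, Q⁆, Q.map (MulAut.conj m).toMonoidHom = Q.map (MulAut.conj b).toMonoidHom := by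
  obtain ⟨d, hd, hdeq⟩ := wc_conj_in_sub hwc (le_sup_right : Q ≤ ⁅M, Q⁆ ⊔ Q) (lemA M Q hm)
  rw [← SetLike.mem_coe, Subgroup.coe_mul_of_right_le_normalizer_left _ _
    (le_normalizer_commutator_right M Q), Set.mem_mul] at hd
  obtain ⟨b, hb, q, hq, rfl⟩ := hd
  refine ⟨b, hb, ?_⟩
  rw [hdeq, ← conj_conj, conj_eq_self_of_mem hq]

/-- Let Q be a nontrivial p-subgroup of the finite group H that is a weakly closed subgroup and N a normal subgroup of H. Then N = N_N(Q)·[N, Q] and [N, Q] = (Q ∩ [N, Q])·[N, Q, Q]. -/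
theorem result {H : Type*} [Group H] [Finite H] {p : ℕ} [Fact p.Prime] (Q : Subgroup H) (hQp : IsPGroup p ↥Q) (hQ1 : Q ≠ ⊥) (hwc : Cfsg.IsWeaklyClosedSubgroup p Q) (N' : Subgroup H) [N'.Normal] : (∀ n : H, n ∈ N' → ∃ a ∈ N' ⊓ Subgroup.normalizer ((Q : Subgroup H) : Set H), ∃ b ∈ ⁅N', Q⁆, n = a * b) ∧ (∀ c : H, c ∈ ⁅N', Q⁆ → ∃ a ∈ Q ⊓ ⁅N', Q⁆, ∃ b ∈ ⁅⁅N', Q⁆, Q⁆, c = a * b) := by
  open scoped commutatorElement in
  open Cfsg.Agent.Lib.Helper16.Basic Cfsg.Agent.Lib.Helper16.WeaklyClosed in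
  have hQN : Q ≤ Subgroup.normalizer (N' : Set H) := by
    rw [Subgroup.normalizer_eq_top]
    exact le_top
  have hN1 : ⁅N', Q⁆ ≤ N' := commutator_le_left_of_le_normalizer hQN
  refine ⟨?_, ?_⟩
  · intro n hn
    obtain ⟨b, hb, hbeq⟩ := lemB Q hwc N' (N'.inv_mem hn)
    have h2 : Q.map (MulAut.conj (b⁻¹ * n⁻¹)).toMonoidHom = Q := by
      rw [← conj_conj, hbeq, conj_inv_conj]
    have h3 : b⁻¹ * n⁻¹ ∈ Subgroup.normalizer ((Q : Subgroup H) : Set H) := (conj_eq_self_iff _ _).1 h2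
    have h4 : n * b ∈ Subgroup.normalizer ((Q : Subgroup H) : Set H) := by
      have := Subgroup.inv_mem _ h3
      simpa using this
    exact ⟨n * b, ⟨N'.mul_mem hn (hN1 hb), h4⟩, b⁻¹, Subgroup.inv_mem _ hb, by group⟩
  · intro c hc
    have hQN1 : Q ≤ Subgroup.normalizer ((⁅N', Q⁆ : Subgroup H) : Set H) :=
      le_normalizer_commutator_right N' Q
    have hN2 : ⁅⁅N', Q⁆, Q⁆ ≤ ⁅N', Q⁆ := commutator_le_left_of_le_normalizer hQN1
    have hclaim : ⁅N', Q⁆ ≤ Q ⊔ ⁅⁅N', Q⁆, Q⁆ := by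
      rw [Subgroup.commutator_le]
      intro n hn q hq
      obtain ⟨b, hb, hbeq⟩ := lemB Q hwc N' hn
      have h1 : n * q * n⁻¹ ∈ Q.map (MulAut.conj n).toMonoidHom := conj_mem_conj Q n hq
      rw [hbeq] at h1
      have h2 := lemA ⁅N', Q⁆ Q hb h1
      rw [sup_comm] at h2
      have h3 : ⁅n, q⁆ = (n * q * n⁻¹) * q⁻¹ := by rw [commutatorElement_def]
      rw [h3]
      exact Subgroup.mul_mem _ h2 (Subgroup.mem_sup_left (Q.inv_mem hq))
    have hc' := hclaim hc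
    rw [← SetLike.mem_coe, Subgroup.coe_mul_of_left_le_normalizer_right _ _
      (le_normalizer_commutator_right ⁅N', Q⁆ Q), Set.mem_mul] at hc'
    obtain ⟨q, hq, b, hb, rfl⟩ := hc'
    refine ⟨q, ⟨hq, ?_⟩, b, hb, rfl⟩
    have h5 : q = (q * b) * b⁻¹ := by group
    rw [h5]
    exact Subgroup.mul_mem _ hc (Subgroup.inv_mem _ (hN2 hb))

end Cfsg.Agent.S2841
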