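import Cfsg.Statements.S2844
import Cfsg.Agent.Lib.Helper16.Large

set_option autoImplicit false
open Cfsg

namespace Cfsg.Agent.S2844

/-- Let Q be a nontrivial large p-subgroup of the finite group H and Q• = O_p(N_H(Q)). Then for every g ∈ H outside N_H(Q): C_H(Q) ∩ C_H(gQg⁻¹) = 1, C_H(Q•) ∩ C_H(gQ•g⁻¹) = 1, Z(Q) ∩ Z(gQg⁻¹) = 1 and Z(Q•) ∩ Z(gQ•g⁻¹) = 1; moreover N_H(Q) = N_H(Q•) and Q• is large in H. -/
theorem result {H : Type*} [Group H] [Finite H] {p : ℕ} [Fact p.Prime] (Q : Subgroup H) (hQp : IsPGroup p ↥Q) (hQ1 : Q ≠ ⊥) (hL : Cfsg.IsLarge Q) (Qb : Subgroup H) (hQb : Qb = Cfsg.largeBullet p Q) : (∀ g : H, g ∉ Subgroup.normalizer ((Q : Subgroup H) : Set H) → Subgroup.centralizer ((Q : Subgroup H) : Set H) ⊓ Subgroup.centralizer ((((Q : Subgroup H).map (MulAut.conj (g : H)).toMonoidHom) : Subgroup H) : Set H) = ⊥ ∧ Subgroup.centralizer ((Qb : Subgroup H) : Set H) ⊓ Subgroup.centralizer ((((Qb : Subgroup H).map (MulAut.conj (g : H)).toMonoidHom)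 : Subgroup H) : Set H) = ⊥ ∧ (Q ⊓ Subgroup.centralizer ((Q : Subgroup H) : Set H)) ⊓ (((Q : Subgroup H).map (MulAut.conj (g : H)).toMonoidHom) ⊓ Subgroup.centralizer ((((Q : Subgroup H).map (MulAut.conj (g : H)).toMonoidHom) : Subgroup H) : Set H)) = ⊥ ∧ (Qb ⊓ Subgroup.centralizer ((Qb : Subgroup H) : Set H)) ⊓ (((Qb : Subgroup H).map (MulAut.conj (g : H)).toMonoidHom) ⊓ Subgroup.centralizer ((((Qb : Subgroup H).map (MulAut.conj (g : H)).toMonoidHom) : Subgroup H) : Set H)) = ⊥) ∧ Subgroup.normalizer ((Q : Subgroup H) : Set H) = Subgroup.normalizer ((Qb : Subgroup H) : Set H) ∧ Cfsg.IsLarge Qb := by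
  open Cfsg.Agent.Lib.Helper16.Basic Cfsg.Agent.Lib.Helper16.WeaklyClosed
    Cfsg.Agent.Lib.Helper16.Large in
  have hQQb : Q ≤ Qb := by
    rw [hQb]
    exact le_pCoreOf Subgroup.le_normalizer (le_refl _) hQp
  have hQbp : IsPGroup p Qb := by
    rw [hQb]
    exact pCoreOf_isPGroup
  have hN : Subgroup.normalizer ((Q : Subgroup H) : Set H) = Subgroup.normalizer ((Qb : Subgroup H) : Set H) := by
    apply le_antisymm
    · rw [hQb]
      exact le_normalizer_pCoreOf _
    · exact large_normalizer_le hQ1 hL hQbp hQQb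
  have hCQb : Subgroup.centralizer ((Qb : Subgroup H) : Set H) ≤ Subgroup.centralizer ((Q : Subgroup H) : Set H) :=
    Subgroup.centralizer_le hQQb
  refine ⟨?_, hN, ?_⟩
  · intro g hg
    have h1 := large_centralizer_inf hQp hQ1 hL hg
    have hCQbg : Subgroup.centralizer (((Qb : Subgroup H).map (MulAut.conj (g : H)).toMonoidHom : Subgroup H) : Set H) ≤
        Subgroup.centralizer (((Q : Subgroup H).map (MulAut.conj (g : H)).toMonoidHom : Subgroup H) : Set H) :=
      Subgroup.centralizer_le (conj_mono g hQQb)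
    have h2 : Subgroup.centralizer ((Qb : Subgroup H) : Set H) ⊓
        Subgroup.centralizer (((Qb : Subgroup H).map (MulAut.conj (g : H)).toMonoidHom : Subgroup H) : Set H) = ⊥ := by
      rw [eq_bot_iff, ← h1]
      exact inf_le_inf hCQb hCQbg
    refine ⟨h1, h2, ?_, ?_⟩
    · rw [eq_bot_iff, ← h1]
      exact inf_le_inf inf_le_right inf_le_right
    · rw [eq_bot_iff, ← h2]
      exact inf_le_inf inf_le_right inf_le_right
  · refine ⟨(hCQb.trans hL.1).trans hQQb, ?_⟩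
    intro U hU hU1
    rw [← hN]
    exact hL.2 U (hU.trans hCQb) hU1

end Cfsg.Agent.S2844
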