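import Cfsg.Statements.S2845
import Cfsg.Agent.Lib.Helper16.Large2

set_option autoImplicit false
open Cfsg

namespace Cfsg.Agent.S2845

/-- Let Q be a nontrivial large p-subgroup of the finite group H. Then for every subgroup L ≥ Q with O_p(L) ≠ 1, C_H(O_p(L)) is a p-group and L has characteristic p, and either the weak closure L° of Q in L equals Q or C_H(L°) = 1; for every subgroup R of H containing a Sylow p-subgroup of H with O_p(R) ≠ 1, C_H(O_p(R)) ≤ O_p(R); and H has parabolic characteristic p. -/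
theorem result {H : Type*} [Group H] [Finite H] {p : ℕ} [Fact p.Prime] (Q : Subgroup H) (hQp : IsPGroup p ↥Q) (hQ1 : Q ≠ ⊥) (hL : Cfsg.IsLarge Q) : (∀ L : Subgroup H, Q ≤ L → Cfsg.pCore p ↥L ≠ ⊥ → IsPGroup p ↥(Subgroup.centralizer (((Cfsg.pCoreOf p L) : Subgroup H) : Set H)) ∧ Subgroup.centralizer (Cfsg.pCore p ↥L : Set ↥L) ≤ Cfsg.pCore p ↥L ∧ (Cfsg.weakClosure Q L = Q ∨ Subgroup.centralizer (((Cfsg.weakClosure Q L) : Subgroup H) : Set H) = ⊥)) ∧ (∀ R : Subgroup H, Cfsg.IsParabolic p R → Cfsg.pCore p ↥R ≠ ⊥ → Subgroup.centralizer (((Cfsg.pCoreOf p R) : Subgroup H) : Set H) ≤ (Cfsg.pCoreOf p R)) ∧ Cfsg.IsOfParabolicCharacteristic p H := by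
  open Cfsg.Agent.Lib.Helper16.Basic Cfsg.Agent.Lib.Helper16.WeaklyClosed Cfsg.Agent.Lib.Helper16.CharP Cfsg.Agent.Lib.Helper16.Large Cfsg.Agent.Lib.Helper16.Large2 in
  refine ⟨?_, ?_, ?_⟩
  · intro L hQL hne
    obtain ⟨h1, h2⟩ := large_char hQp hQ1 hL hQL hne
    refine ⟨h1, h2, ?_⟩
    by_cases hw : Cfsg.weakClosure Q L = Q
    · exact Or.inl hw
    · right
      have hmem : ∀ g : H, Q.map (MulAut.conj g).toMonoidHom ≤ L →
          Q.map (MulAut.conj g).toMonoidHom ≤ Cfsg.weakClosure Q L := by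
        intro g hgL
        unfold Cfsg.weakClosure
        exact le_iSup (fun g : {g : H // Q.map (MulAut.conj g).toMonoidHom ≤ L} =>
          Q.map (MulAut.conj (g : H)).toMonoidHom) ⟨g, hgL⟩
      have hQw : Q ≤ Cfsg.weakClosure Q L := by
        have h0 : Q.map (MulAut.conj (1 : H)).toMonoidHom ≤ L := by rw [conj_one]; exact hQL
        have := hmem 1 h0
        rwa [conj_one] at this
      obtain ⟨g, hgL, hgne⟩ : ∃ g : H, Q.map (MulAut.conj g).toMonoidHom ≤ L ∧
          Q.map (MulAut.conj g).toMonoidHom ≠ Q := by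
        by_contra hcon
        apply hw
        apply le_antisymm _ hQw
        unfold Cfsg.weakClosure
        apply iSup_le
        rintro ⟨g, hg⟩
        by_contra hne'
        apply hcon
        refine ⟨g, hg, ?_⟩
        intro heq
        apply hne'
        show Q.map (MulAut.conj g).toMonoidHom ≤ Q
        rw [heq]
      have hgN : g ∉ Subgroup.normalizer (Q : Set H) :=
        fun h => hgne ((conj_eq_self_iff Q g).2 h)
      have hinf := large_centralizer_inf hQp hQ1 hL hgN
      rw [eq_bot_iff, ← hinf]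
      exact le_inf (Subgroup.centralizer_le hQw) (Subgroup.centralizer_le (hmem g hgL))
  · intro R hR hne
    obtain ⟨T, hT⟩ := hR
    obtain ⟨g, hg⟩ := exists_conj_le_sylow hQp T
    have hLg := isLarge_conj hL g
    obtain ⟨hCp, -⟩ := large_char (isPGroup_conj hQp g) (conj_ne_bot hQ1 g) hLg (hg.trans hT) hne
    have hRC : R ≤ Subgroup.normalizer ((Subgroup.centralizer
        ((Cfsg.pCoreOf p R : Subgroup H) : Set H) : Subgroup H) : Set H) :=
      (le_normalizer_pCoreOf R).trans (normalizer_le_normalizer_centralizer _)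
    have hp : IsPGroup p ((T : Subgroup H) ⊔ Subgroup.centralizer
        ((Cfsg.pCoreOf p R : Subgroup H) : Set H) : Subgroup H) :=
      IsPGroup.to_sup_of_normal_right' T.isPGroup' hCp (hT.trans hRC)
    have h6 := T.is_maximal' hp le_sup_left
    have hCT : Subgroup.centralizer ((Cfsg.pCoreOf p R : Subgroup H) : Set H) ≤ T := by
      rw [← h6]; exact le_sup_right
    exact le_pCoreOf (hCT.trans hT) hRC hCp
  · intro R hRp hR1 hpar
    obtain ⟨T, hT⟩ := hpar
    obtain ⟨g, hg⟩ := exists_conj_le_sylow hQp T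
    have hLg := isLarge_conj hL g
    have hne : Cfsg.pCore p ↥(Subgroup.normalizer (R : Set H)) ≠ ⊥ := by
      intro h
      apply hR1
      have hle : R ≤ Cfsg.pCoreOf p (Subgroup.normalizer (R : Set H)) :=
        le_pCoreOf Subgroup.le_normalizer le_rfl hRp
      unfold Cfsg.pCoreOf at hle
      rw [h, Subgroup.map_bot] at hle
      exact le_bot_iff.1 hle
    exact (large_char (isPGroup_conj hQp g) (conj_ne_bot hQ1 g) hLg (hg.trans hT) hne).2

end Cfsg.Agent.S2845
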