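import Cfsg.Statements.S2846
import Cfsg.Agent.Lib.Helper16.BasicProperty2
import Cfsg.Agent.Lib.Helper16.Large2

set_option autoImplicit false
open Cfsg

namespace Cfsg.Agent.S2846

/-- Let Q be a nontrivial large p-subgroup of the finite group H, S a Sylow p-subgroup containing Q, and L a subgroup containing S with O_p(L) ≠ 1 and C_H(O_p(L)) ≤ O_p(L). Then there are a subgroup M containing S having the basic property (M ∈ 𝔐_H, writing Y_X for the largest p-reduced normal subgroup of X and 𝓛_H for the set of subgroups X with O_p(X) ≠ 1 and C_H(O_p(X)) ≤ O_p(X): M ∈ 𝓛_H, M·C_H(Y_M) is the only maximal member of 𝓛_H containing M and its largest p-reduced normal subgroup is again Y_M, C_M(Y_M) is p-closed, and the image of C_M(Y_M) in M/O_p(M) lies in the Frattini subgroup of M/O_p(M)) and a subgroup L* with S ≤ L* ≤ M, O_p(L*) ≠ 1, C_H(O_p(L*)) ≤ O_p(L*), such that L·C_H(Y_L) = L*·C_H(Y_L), the weak closures of Q in L and in L* agree and lie in that of M, and Y_L = Y_{L*} ≤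 Y_M. If moreover Q is not normal in L, then Q is normal in neither L* nor M. -/
theorem result {H : Type*} [Group H] [Finite H] {p : ℕ} [Fact p.Prime] (Q : Subgroup H) (hQp : IsPGroup p ↥Q) (hQ1 : Q ≠ ⊥) (hLg : Cfsg.IsLarge Q) (S : Sylow p H) (hQS : Q ≤ (S : Subgroup H)) (L : Subgroup H) (hSL : (S : Subgroup H) ≤ L) (hL : L ∈ Cfsg.charPSubgroups p H) : ∃ M Ls : Subgroup H, (S : Subgroup H) ≤ M ∧ Cfsg.IsInFrakM p M ∧ (S : Subgroup H) ≤ Ls ∧ Ls ≤ M ∧ Ls ∈ Cfsg.charPSubgroups p H ∧ L ⊔ Subgroup.centralizer (((Cfsg.largestPReducedOf p L) : Subgroup H) : Set H) = Ls ⊔ Subgroup.centralizer (((Cfsg.largestPReducedOf p L) : Subgroup H) : Set H) ∧ Cfsg.weakClosure Q L = Cfsg.weakClosure Q Ls ∧ Cfsg.weakClosure Q Ls ≤ Cfsg.weakClosure Q M ∧ (Cfsg.largestPReducedOf p L) = (Cfsg.largestPReducedOf p Ls) ∧ (Cfsg.largestPReducedOf p Ls) ≤ (Cfsg.largestPReducedOf p M) ∧ (¬ L ≤ Subgroup.normalizer ((Q : Subgroup H) : Set H) → ¬ Ls ≤ Subgroup.normalizer ((Q : Subgroup H) : Set H) ∧ ¬ M ≤ Subgroup.normalizer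 ((Q : Subgroup H) : Set H)) := by
  open Cfsg.Agent.Lib.Helper16.Basic Cfsg.Agent.Lib.Helper16.BasicProperty Cfsg.Agent.Lib.Helper16.WeaklyClosed Cfsg.Agent.Lib.Helper16.PReduced2 in
  classical
  have hstar : ∀ X : Subgroup H, (S : Subgroup H) ≤ X → pCore p ↥X ≠ ⊥ →
      X ∈ charPSubgroups p H := by
    intro X hSX hXne
    refine ⟨hXne, ?_⟩
    have hlc := (Cfsg.Agent.Lib.Helper16.Large2.large_char hQp hQ1 hLg (hQS.trans hSX) hXne).1
    have hXNC : X ≤ Subgroup.normalizer ((Subgroup.centralizer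
        ((pCoreOf p X : Subgroup H) : Set H) : Subgroup H) : Set H) :=
      (le_normalizer_pCoreOf X).trans
        (Cfsg.Agent.Lib.Helper16.CharP.normalizer_le_normalizer_centralizer _)
    have hsup : IsPGroup p ↥((S : Subgroup H) ⊔
        Subgroup.centralizer ((pCoreOf p X : Subgroup H) : Set H)) :=
      IsPGroup.to_sup_of_normal_right' S.isPGroup' hlc (hSX.trans hXNC)
    have heq := sylow_eq_of_le S hsup le_sup_left
    have hCS : Subgroup.centralizer ((pCoreOf p X : Subgroup H) : Set H) ≤ (S : Subgroup H) := by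
      have h := le_sup_right (a := (S : Subgroup H))
        (b := Subgroup.centralizer ((pCoreOf p X : Subgroup H) : Set H))
      rwa [heq] at h
    exact le_pCoreOf (hCS.trans hSX) hXNC hlc
  obtain ⟨M, Ls, hSM, hfrak, hSLs, hLsM, hLschar, hYeq, hYle, hfac⟩ :=
    Cfsg.Agent.Lib.Helper16.BasicProperty2.basic_property S hstar L hSL hL
  have hLpr := pr_largest (p := p) L
  have hCN : Subgroup.centralizer ((largestPReducedOf p L : Subgroup H) : Set H) ≤
      Subgroup.normalizer (Q : Set H) := by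
    have h := Cfsg.Agent.S2821.result S L hSL (charp_type hL) _ rfl
    have h1 := h.2.2.2.1.trans h.2.2.2.2.1
    have hS1 : (S : Subgroup H) ≠ ⊥ := by
      intro h0
      apply hQ1
      rw [h0] at hQS
      exact eq_bot_iff.2 hQS
    have hZ1 := Cfsg.Agent.Lib.Helper16.Large.center_ne_bot S.isPGroup' hS1
    obtain ⟨w, hw, hw1, hwp⟩ := exists_order_p (S.isPGroup'.to_le inf_le_left) hZ1
    have hU1 : omegaOne p ((S : Subgroup H) ⊓
        Subgroup.centralizer ((S : Subgroup H) : Set H)) ≠ ⊥ := by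
      intro h0
      apply hw1
      have h4 := mem_omegaOne_center (p := p) (Subgroup.mem_inf.1 hw).1
        (Subgroup.mem_inf.1 hw).2 hwp
      rw [h0] at h4
      exact Subgroup.mem_bot.1 h4
    have hUC : omegaOne p ((S : Subgroup H) ⊓
        Subgroup.centralizer ((S : Subgroup H) : Set H)) ≤ Subgroup.centralizer (Q : Set H) :=
      (omegaOne_center_le _).trans (inf_le_right.trans (Subgroup.centralizer_le hQS))
    have hNN := hLg.2 _ hUC hU1
    exact (Subgroup.centralizer_le h1).trans ((Subgroup.centralizer_le_normalizer _).trans hNN)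
  generalize hCL : Subgroup.centralizer ((largestPReducedOf p L : Subgroup H) : Set H) = CL at *
  have hwc := Cfsg.Agent.Lib.Helper16.Large.large_wc hQp hQ1 hLg
  have hLNY : L ⊔ CL ≤ Subgroup.normalizer ((largestPReducedOf p L : Subgroup H) : Set H) := by
    rw [← hCL]; exact sup_le hLpr.norm (Subgroup.centralizer_le_normalizer _)
  have hLNC : L ⊔ CL ≤ Subgroup.normalizer (CL : Set H) := by
    rw [← hCL] at hLNY ⊢
    exact hLNY.trans (Cfsg.Agent.Lib.Helper16.CharP.normalizer_le_normalizer_centralizer _)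
  have key : ∀ K : Subgroup H, K ≤ Subgroup.normalizer (CL : Set H) →
      (⨆ k : ↥K, Q.map (MulAut.conj (k : H)).toMonoidHom) =
        ⨆ g : ↥(K ⊔ CL), Q.map (MulAut.conj (g : H)).toMonoidHom := by
    intro K hK
    apply le_antisymm
    · apply iSup_le
      intro k
      exact le_iSup (fun g : ↥(K ⊔ CL) => Q.map (MulAut.conj (g : H)).toMonoidHom)
        ⟨k, le_sup_left (a := K) k.2⟩
    · apply iSup_le
      intro g
      have hg : (g : H) ∈ ((K ⊔ CL : Subgroup H) : Set H) := g.2
      rw [Subgroup.coe_mul_of_left_le_normalizer_right K _ hK] at hg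
      obtain ⟨k, hk, c, hc, hkc⟩ := Set.mem_mul.1 hg
      have h1 : Q.map (MulAut.conj (g : H)).toMonoidHom = Q.map (MulAut.conj k).toMonoidHom := by
        rw [← hkc, ← conj_conj, (conj_eq_self_iff Q c).2 (hCN hc)]
      rw [h1]
      exact le_iSup (fun k : ↥K => Q.map (MulAut.conj (k : H)).toMonoidHom) ⟨k, hk⟩
  have hwcL : Cfsg.weakClosure Q L = Cfsg.weakClosure Q Ls := by
    rw [weakClosure_eq_iSup_conj hwc (hQS.trans hSL), weakClosure_eq_iSup_conj hwc (hQS.trans hSLs),
      key L (le_sup_left.trans hLNC), key Ls (by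
        have h := le_sup_left (a := Ls) (b := CL)
        rw [← hfac] at h
        exact h.trans hLNC)]
    rw [hfac]
  have hwcM : Cfsg.weakClosure Q Ls ≤ Cfsg.weakClosure Q M := by
    unfold weakClosure
    apply iSup_le
    intro g
    exact le_iSup (fun g : {g : H // Q.map (MulAut.conj g).toMonoidHom ≤ M} =>
      Q.map (MulAut.conj (g : H)).toMonoidHom) ⟨g.1, g.2.trans hLsM⟩
  refine ⟨M, Ls, hSM, hfrak, hSLs, hLsM, hLschar, hfac, hwcL, hwcM, hYeq, ?_, ?_⟩
  · rw [← hYeq]; exact hYle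
  · intro hnot
    have h1 : ¬ Ls ≤ Subgroup.normalizer (Q : Set H) := by
      intro h
      apply hnot
      have h2 := le_sup_left (a := L) (b := CL)
      rw [hfac] at h2
      exact h2.trans (sup_le h hCN)
    exact ⟨h1, fun h => h1 (hLsM.trans h)⟩

end Cfsg.Agent.S2846
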