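import Cfsg.Statements.S2847
import Cfsg.Agent.Lib.Helper16.BasicProperty2

set_option autoImplicit false
open Cfsg

namespace Cfsg.Agent.S2847

/-- Let H be a finite group of parabolic characteristic p, T a Sylow p-subgroup and L a subgroup containing T with O_p(L) ≠ 1 and C_H(O_p(L)) ≤ O_p(L). Then there are M ≥ T with the basic property (M ∈ 𝔐_H) and L* with T ≤ L* ≤ M, O_p(L*) ≠ 1, C_H(O_p(L*)) ≤ O_p(L*), such that Y_L = Y_{L*} ≤ Y_M and L·C_H(Y_L) = L*·C_H(Y_L), Y denoting largest p-reduced normal subgroups. -/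
theorem result {H : Type*} [Group H] [Finite H] {p : ℕ} [Fact p.Prime] (hH : Cfsg.IsOfParabolicCharacteristic p H) (T : Sylow p H) (L : Subgroup H) (hTL : (T : Subgroup H) ≤ L) (hL : L ∈ Cfsg.charPSubgroups p H) : ∃ M Ls : Subgroup H, (T : Subgroup H) ≤ M ∧ Cfsg.IsInFrakM p M ∧ (T : Subgroup H) ≤ Ls ∧ Ls ≤ M ∧ Ls ∈ Cfsg.charPSubgroups p H ∧ (Cfsg.largestPReducedOf p L) = (Cfsg.largestPReducedOf p Ls) ∧ (Cfsg.largestPReducedOf p L) ≤ (Cfsg.largestPReducedOf p M) ∧ L ⊔ Subgroup.centralizer (((Cfsg.largestPReducedOf p L) : Subgroup H) : Set H) = Ls ⊔ Subgroup.centralizer (((Cfsg.largestPReducedOf p L) : Subgroup H) : Set H) := by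
  open Cfsg.Agent.Lib.Helper16.Basic Cfsg.Agent.Lib.Helper16.BasicProperty in
  apply Cfsg.Agent.Lib.Helper16.BasicProperty2.basic_property T ?_ L hTL hL
  intro X hTX hXne
  refine ⟨hXne, ?_⟩
  have hR1 : pCoreOf p X ≠ ⊥ := by
    intro h
    apply hXne
    rw [eq_bot_iff]
    intro x hx
    have h3 : (x : H) ∈ pCoreOf p X := ⟨x, hx, rfl⟩
    rw [h] at h3
    exact Subgroup.mem_bot.2 (Subtype.ext (Subgroup.mem_bot.1 h3))
  have hXN : X ≤ Subgroup.normalizer ((pCoreOf p X : Subgroup H) : Set H) :=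
    le_normalizer_pCoreOf X
  have hchar := hH (pCoreOf p X) pCoreOf_isPGroup hR1 ⟨T, hTX.trans hXN⟩
  have hanti := pCoreOf_anti T hTX hXN
  intro c hc
  have hcN : c ∈ Subgroup.normalizer ((pCoreOf p X : Subgroup H) : Set H) :=
    Subgroup.centralizer_le_normalizer _ hc
  have h1 : (⟨c, hcN⟩ : ↥(Subgroup.normalizer ((pCoreOf p X : Subgroup H) : Set H))) ∈
      Subgroup.centralizer (pCore p ↥(Subgroup.normalizer ((pCoreOf p X : Subgroup H) : Set H)) :
        Set ↥(Subgroup.normalizer ((pCoreOf p X : Subgroup H) : Set H))) := by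
    rw [Subgroup.mem_centralizer_iff]
    intro d hd
    have h2 : (d : H) ∈ pCoreOf p X := hanti ⟨d, hd, rfl⟩
    have h3 := Subgroup.mem_centralizer_iff.1 hc (d : H) h2
    exact Subtype.ext h3
  have h4 := hchar h1
  exact hanti ⟨_, h4, rfl⟩

end Cfsg.Agent.S2847
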