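import Cfsg.Statements.S2848
import Cfsg.Agent.Lib.Helper16.Basic
import Cfsg.Agent.Lib.Helper16.CharP
import Cfsg.Agent.Lib.Helper16.PReduced2
import Cfsg.Agent.Lib.Helper16.PReduced3

set_option autoImplicit false
open Cfsg

namespace Cfsg.Agent.S2848

/-- Standing hypotheses: G a finite group, S a Sylow p-subgroup, Q a nontrivial large p-subgroup of G contained in S (C_G(Q) ≤ Q and N_G(U) ≤ N_G(Q) for all nontrivial U ≤ C_G(Q)), and M a subgroup containing S with the basic property (M ∈ 𝔐_G(S)); Y_M denotes the largest p-reduced normal subgroup of M and M† = M·C_G(Y_M). Then O_p(M) is a weakly closed subgroup of M† (for p): it is the only M†-conjugate of itself inside some Sylow p-subgroup of M† containing it. -/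
theorem result {G : Type*} [Group G] [Finite G] {p : ℕ} [Fact p.Prime] (S : Sylow p G) (Q : Subgroup G) (hQp : IsPGroup p ↥Q) (hQ1 : Q ≠ ⊥) (hQS : Q ≤ (S : Subgroup G)) (hQ : Cfsg.IsLarge Q) (M : Subgroup G) (hSM : (S : Subgroup G) ≤ M) (hM : Cfsg.IsInFrakM p M) : Cfsg.IsWeaklyClosedSubgroup p (((Cfsg.pCoreOf p M)).subgroupOf (M ⊔ Subgroup.centralizer (((Cfsg.largestPReducedOf p M) : Subgroup G) : Set G))) := by
  open Cfsg.Agent.Lib.Helper16.Basic Cfsg.Agent.Lib.Helper16.PReduced2 Cfsg.Agent.Lib.Helper16.PReduced3 in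
  classical
  have hpr := pr_largest (p := p) M
  obtain ⟨-, -, -, -, hclosed, -⟩ := hM
  generalize Cfsg.largestPReducedOf p M = Y at *
  generalize hC : Subgroup.centralizer (Y : Set G) = C at *
  generalize hMd : M ⊔ C = Md
  have hMdN : Md ≤ Subgroup.normalizer (Y : Set G) := by
    rw [← hMd, ← hC]
    exact sup_le hpr.norm (Subgroup.centralizer_le_normalizer _)
  have hMMd : M ≤ Md := by rw [← hMd]; exact le_sup_left
  have hSMd : (S : Subgroup G) ≤ Md := hSM.trans hMMd
  have hQS' : pCoreOf p M ≤ (S : Subgroup G) := pCoreOf_le_sylow S hSM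
  have hQC : pCoreOf p M ≤ C := by rw [← hC]; exact hpr.pCoreOf_le_centralizer
  have hMNC : M ≤ Subgroup.normalizer ((M ⊓ C : Subgroup G) : Set G) := by
    refine le_trans (le_inf Subgroup.le_normalizer ?_)
      (Cfsg.Agent.Lib.Helper16.CharP.inf_normalizer_le _ _)
    rw [← hC]
    exact hpr.norm.trans (Cfsg.Agent.Lib.Helper16.CharP.normalizer_le_normalizer_centralizer Y)
  obtain ⟨Q₀, hQ₀⟩ := sylow_inf_of_le_normalizer S (M ⊓ C) (hSM.trans hMNC)
  have hQ₀n : (Q₀ : Subgroup ↥(M ⊓ C)).Normal := hclosed Q₀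
  have hSC : (S : Subgroup G) ⊓ C ≤ pCoreOf p M := by
    have h1 : (S : Subgroup G) ⊓ C = (S : Subgroup G) ⊓ (M ⊓ C) := by
      apply le_antisymm
      · exact le_inf inf_le_left (le_inf (inf_le_left.trans hSM) inf_le_right)
      · exact le_inf inf_le_left (inf_le_right.trans inf_le_right)
    rw [h1]
    refine le_pCoreOf (inf_le_right.trans inf_le_left) ?_ (S.isPGroup'.to_le inf_le_left)
    intro m hm
    apply conj_eq_of_le
    intro x hx
    have hxMC : x ∈ M ⊓ C := by
      have := conj_mono m (inf_le_right : (S : Subgroup G) ⊓ (M ⊓ C) ≤ M ⊓ C) hx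
      rwa [(conj_eq_self_iff _ m).2 (hMNC hm)] at this
    have hP : IsPGroup p ((((S : Subgroup G) ⊓ (M ⊓ C)).map (MulAut.conj m).toMonoidHom : Subgroup G)) :=
      isPGroup_conj (S.isPGroup'.to_le inf_le_left) m
    have hP' := hP.comap_subtype (K := M ⊓ C)
    obtain ⟨Q₁, hQ₁⟩ := hP'.exists_le_sylow
    have hQ₁₀ : Q₁ = Q₀ := by
      obtain ⟨g, hg⟩ := MulAction.exists_smul_eq ↥(M ⊓ C) Q₀ Q₁
      rw [← hg]
      exact Sylow.smul_eq_of_normal
    have hx1 : (⟨x, hxMC⟩ : ↥(M ⊓ C)) ∈ (Q₁ : Subgroup ↥(M ⊓ C)) := hQ₁ (by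
      rw [Subgroup.mem_comap]; exact hx)
    rw [hQ₁₀, hQ₀, Subgroup.mem_subgroupOf] at hx1
    exact hx1
  have hQeq : pCoreOf p M = (S : Subgroup G) ⊓ C := le_antisymm (le_inf hQS' hQC) hSC
  have key : ∀ g ∈ Md, (pCoreOf p M).map (MulAut.conj g).toMonoidHom ≤ (S : Subgroup G) →
      (pCoreOf p M).map (MulAut.conj g).toMonoidHom = pCoreOf p M := by
    intro g hg hle
    rw [conj_eq_self_iff]
    apply conj_eq_of_le
    have h1 := conj_mono g hQC
    have h2 : C.map (MulAut.conj g).toMonoidHom = C := by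
      rw [← hC, ← centralizer_conj, (conj_eq_self_iff Y g).2 (hMdN hg)]
    rw [h2] at h1
    exact (le_inf hle h1).trans hSC
  refine ⟨S.subtype hSMd, ?_, ?_⟩
  · intro y hy
    rw [Subgroup.mem_subgroupOf] at hy
    show y ∈ ((S.subtype hSMd : Sylow p ↥Md) : Subgroup ↥Md)
    rw [Sylow.coe_subtype, Subgroup.mem_subgroupOf]
    exact hQS' hy
  · intro k hk
    have h1 : (pCoreOf p M).map (MulAut.conj (k : G)).toMonoidHom ≤ (S : Subgroup G) := by
      intro x hx
      rw [mem_conj] at hx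
      have hxK : x ∈ Md := by
        have h2 : x = k * ((k : G)⁻¹ * x * k) * (k : G)⁻¹ := by group
        rw [h2]
        exact Md.mul_mem (Md.mul_mem k.2 (hMMd (pCoreOf_le M hx))) (Md.inv_mem k.2)
      have h3 : (⟨x, hxK⟩ : ↥Md) ∈ ((S.subtype hSMd : Sylow p ↥Md) : Subgroup ↥Md) := hk (by
        rw [mem_conj, Subgroup.mem_subgroupOf]; exact hx)
      rw [Sylow.coe_subtype, Subgroup.mem_subgroupOf] at h3
      exact h3
    have h2 := key k k.2 h1
    ext y
    rw [mem_conj, Subgroup.mem_subgroupOf, Subgroup.mem_subgroupOf]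
    have h3 := mem_conj (pCoreOf p M) (k : G) (y : G)
    rw [h2] at h3
    simpa using h3.symm

end Cfsg.Agent.S2848
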