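import Cfsg.Statements.S2849
import Cfsg.Agent.Lib.Helper16.Basic
import Cfsg.Agent.Lib.Helper16.WeaklyClosed
import Cfsg.Agent.Lib.Helper16.PReduced2
import Cfsg.Agent.Lib.Helper16.PReduced4

set_option autoImplicit false
open Cfsg

namespace Cfsg.Agent.S2849

/-- Standing hypotheses: G a finite group, S a Sylow p-subgroup, Q a nontrivial large p-subgroup of G contained in S (C_G(Q) ≤ Q and N_G(U) ≤ N_G(Q) for all nontrivial U ≤ C_G(Q)), and M a subgroup containing S with the basic property (M ∈ 𝔐_G(S)); Y_M denotes the largest p-reduced normal subgroup of M and M† = M·C_G(Y_M). Suppose Y_M is asymmetric in G. Then for every subgroup R with Y_M ≤ R ≤ M†, the normal closure of Y_M in N_G(R) is elementary abelian. -/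
theorem result {G : Type*} [Group G] [Finite G] {p : ℕ} [Fact p.Prime] (S : Sylow p G) (Q : Subgroup G) (hQp : IsPGroup p ↥Q) (hQ1 : Q ≠ ⊥) (hQS : Q ≤ (S : Subgroup G)) (hQ : Cfsg.IsLarge Q) (M : Subgroup G) (hSM : (S : Subgroup G) ≤ M) (hM : Cfsg.IsInFrakM p M) (hasym : ¬ Cfsg.IsSymmetricIn (Cfsg.largestPReducedOf p M)) (R : Subgroup G) (hYR : (Cfsg.largestPReducedOf p M) ≤ R) (hRM : R ≤ (M ⊔ Subgroup.centralizer (((Cfsg.largestPReducedOf p M) : Subgroup G) : Set G))) : Cfsg.IsElementaryAbelian p ((Subgroup.normalClosure ((((Cfsg.largestPReducedOf p M)).subgroupOf (Subgroup.normalizer ((R : Subgroup G) : Set G)) : Subgroup ↥(Subgroup.normalizer ((R : Subgroup G) : Set G))) : Set ↥(Subgroup.normalizer ((R : Subgroup G) : Set G)))).map (Subgroup.normalizer ((R : Subgroup G) : Set G)).subtype) := by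
  open Cfsg.Agent.Lib.Helper16.Basic Cfsg.Agent.Lib.Helper16.PReduced2 Cfsg.Agent.Lib.Helper16.WeaklyClosed in
  open scoped commutatorElement in
  classical
  have hpr := pr_largest (p := p) M
  generalize Cfsg.largestPReducedOf p M = Y at *
  generalize hN : Subgroup.normalizer (R : Set G) = N
  have hMd : M ⊔ Subgroup.centralizer (Y : Set G) ≤ Subgroup.normalizer (Y : Set G) :=
    sup_le hpr.norm (Subgroup.centralizer_le_normalizer _)
  have hRN : R ≤ Subgroup.normalizer (Y : Set G) := hRM.trans hMd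
  have hcomm : ∀ g ∈ N, ⁅Y, Y.map (MulAut.conj g).toMonoidHom⁆ = ⊥ := by
    intro g hg
    by_contra hcon
    apply hasym
    refine ⟨g, hcon, le_inf ?_ ?_⟩
    · apply commutator_le_left_of_le_normalizer
      have h1 : Y.map (MulAut.conj g).toMonoidHom ≤ R.map (MulAut.conj g).toMonoidHom :=
        conj_mono g hYR
      have h2 : R.map (MulAut.conj g).toMonoidHom = R := by
        rw [conj_eq_self_iff, hN]; exact hg
      rw [h2] at h1
      exact h1.trans hRN
    · apply commutator_le_right_of_le_normalizer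
      rw [normalizer_conj]
      have h2 : R.map (MulAut.conj g).toMonoidHom = R := by
        rw [conj_eq_self_iff, hN]; exact hg
      have h3 : R.map (MulAut.conj g).toMonoidHom ≤
          (Subgroup.normalizer (Y : Set G)).map (MulAut.conj g).toMonoidHom := conj_mono g hRN
      rw [h2] at h3
      exact hYR.trans h3
  have hcomm2 : ∀ g ∈ N, ∀ a ∈ Y, ∀ b ∈ Y, a * (g * b * g⁻¹) = (g * b * g⁻¹) * a := by
    intro g hg a ha b hb
    have h1 : ⁅a, g * b * g⁻¹⁆ ∈ ⁅Y, Y.map (MulAut.conj g).toMonoidHom⁆ :=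
      Subgroup.commutator_mem_commutator ha (conj_mem_conj Y g hb)
    rw [hcomm g hg, Subgroup.mem_bot, commutatorElement_eq_one_iff_mul_comm] at h1
    exact h1
  set Sset : Set G := {x | ∃ n ∈ N, ∃ y ∈ Y, x = n * y * n⁻¹} with hSset
  have hS1 : ∀ a ∈ Sset, ∀ b ∈ Sset, a * b = b * a := by
    rintro a ⟨n, hn, y, hy, rfl⟩ b ⟨m, hm, z, hz, rfl⟩
    have h1 := hcomm2 (n⁻¹ * m) (N.mul_mem (N.inv_mem hn) hm) y hy z hz
    have h2 : n * (y * (n⁻¹ * m * z * (n⁻¹ * m)⁻¹)) * n⁻¹ =
        n * ((n⁻¹ * m * z * (n⁻¹ * m)⁻¹) * y) * n⁻¹ := by rw [h1]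
    simp only [mul_inv_rev, inv_inv] at h2
    calc n * y * n⁻¹ * (m * z * m⁻¹) = n * (y * (n⁻¹ * m * z * (m⁻¹ * n))) * n⁻¹ := by group
      _ = n * (n⁻¹ * m * z * (m⁻¹ * n) * y) * n⁻¹ := h2
      _ = m * z * m⁻¹ * (n * y * n⁻¹) := by group
  have hS2 := closure_commute hS1
  have hS3 : ∀ x ∈ Subgroup.closure Sset, x ^ p = 1 := by
    intro x hx
    have key : ∀ y ∈ Subgroup.closure Sset, y ∈ Subgroup.closure Sset ∧ y ^ p = 1 := by
      intro y hy
      induction hy using Subgroup.closure_induction with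
      | mem a ha =>
        refine ⟨Subgroup.subset_closure ha, ?_⟩
        obtain ⟨n, hn, y, hy, rfl⟩ := ha
        rw [conj_pow, hpr.el.2 y hy]
        group
      | one => exact ⟨Subgroup.one_mem _, one_pow _⟩
      | mul a b _ _ iha ihb =>
        refine ⟨Subgroup.mul_mem _ iha.1 ihb.1, ?_⟩
        have hc : Commute a b := hS2 a iha.1 b ihb.1
        rw [hc.mul_pow, iha.2, ihb.2, one_mul]
      | inv a _ iha =>
        exact ⟨Subgroup.inv_mem _ iha.1, by rw [inv_pow, iha.2, inv_one]⟩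
    exact (key x hx).2
  have hel : IsElementaryAbelian p (Subgroup.closure Sset) :=
    ⟨⟨⟨fun a b => Subtype.ext (hS2 a.1 a.2 b.1 b.2)⟩⟩, hS3⟩
  apply Cfsg.Agent.Lib.Helper16.PReduced4.elementary_of_le hel
  rw [Subgroup.normalClosure, MonoidHom.map_closure, Subgroup.closure_le]
  rintro _ ⟨x, hx, rfl⟩
  rw [Group.mem_conjugatesOfSet_iff] at hx
  obtain ⟨a, ha, hax⟩ := hx
  rw [isConj_iff] at hax
  obtain ⟨c, rfl⟩ := hax
  apply Subgroup.subset_closure
  refine ⟨(c : G), c.2, (a : G), Subgroup.mem_subgroupOf.1 ha, ?_⟩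
  simp

end Cfsg.Agent.S2849
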