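import Cfsg.Statements.S2850
import Cfsg.Agent.Lib.Helper16.Asym2

set_option autoImplicit false
open Cfsg

namespace Cfsg.Agent.S2850

/-- Standing hypotheses: G a finite group, S a Sylow p-subgroup, Q a nontrivial large p-subgroup of G contained in S (C_G(Q) ≤ Q and N_G(U) ≤ N_G(Q) for all nontrivial U ≤ C_G(Q)), and M a subgroup containing S with the basic property (M ∈ 𝔐_G(S)); Y_M denotes the largest p-reduced normal subgroup of M and M† = M·C_G(Y_M). Suppose Y_M is asymmetric in G. Then N_G(L) ≤ N_G(O_p(M)) ≤ M† for every p-subgroup L containing O_p(M); O_p(M) is a weakly closed subgroup of G; for every subgroup L containing O_p(M), L ∩ M† contains a Sylow p-subgroup of L; and two elements of Y_M conjugate in G are conjugate in M. -/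
theorem result {G : Type*} [Group G] [Finite G] {p : ℕ} [Fact p.Prime] (S : Sylow p G) (Q : Subgroup G) (hQp : IsPGroup p ↥Q) (hQ1 : Q ≠ ⊥) (hQS : Q ≤ (S : Subgroup G)) (hQ : Cfsg.IsLarge Q) (M : Subgroup G) (hSM : (S : Subgroup G) ≤ M) (hM : Cfsg.IsInFrakM p M) (hasym : ¬ Cfsg.IsSymmetricIn (Cfsg.largestPReducedOf p M)) : (∀ L : Subgroup G, IsPGroup p ↥L → (Cfsg.pCoreOf p M) ≤ L → Subgroup.normalizer ((L : Subgroup G) : Set G) ≤ Subgroup.normalizer (((Cfsg.pCoreOf p M) : Subgroup G) : Set G) ∧ Subgroup.normalizer (((Cfsg.pCoreOf p M) : Subgroup G) : Set G) ≤ (M ⊔ Subgroup.centralizer (((Cfsg.largestPReducedOf p M) : Subgroup G) : Set G))) ∧ Cfsg.IsWeaklyClosedSubgroup p (Cfsg.pCoreOf p M) ∧ (∀ L : Subgroup G, (Cfsg.pCoreOf p M) ≤ L → Cfsg.IsParabolic p ((L ⊓ (M ⊔ Subgroup.centralizer (((Cfsg.largestPReducedOf p M) : Subgroup G) : Set G))).subgroupOf L)) ∧ (∀ x ∈ (Cfsg.largestPReducedOf p M), ∀ g : G, g * x * g⁻¹ ∈ (Cfsg.largestPReducedOf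 p M) → ∃ m ∈ M, m * x * m⁻¹ = g * x * g⁻¹) := by
  open Cfsg.Agent.Lib.Helper16.Basic Cfsg.Agent.Lib.Helper16.BasicProperty Cfsg.Agent.Lib.Helper16.WeaklyClosed Cfsg.Agent.Lib.Helper16.PReduced2 Cfsg.Agent.Lib.Helper16.Asym Cfsg.Agent.Lib.Helper16.Asym2 in
  classical
  have hstar := large_star hQp hQ1 hQ S hQS
  have hwc := wc S hstar hSM hM hasym
  have hNP := normalizer_pCoreOf_le S hstar hSM hM
  have hpr := pr_largest (p := p) M
  refine ⟨fun L hL hPL => ⟨normalizer_le_normalizer_pCoreOf S hstar hSM hM hasym hL hPL, hNP⟩,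
    hwc, ?_, ?_⟩
  · intro L hPL
    obtain ⟨T, hT⟩ := exists_sylow_sub_ge (pCoreOf_isPGroup (p := p) (K := M)) hPL
    have hTM := pgroup_le_dagger S hstar hSM hM hasym (T.isPGroup'.map L.subtype) hT
    refine ⟨T, ?_⟩
    intro y hy
    rw [Subgroup.mem_subgroupOf]
    exact Subgroup.mem_inf.2 ⟨y.2, hTM ⟨y, hy, rfl⟩⟩
  · intro x hx g hgx
    have hPC : pCoreOf p M ≤ Subgroup.centralizer ({g * x * g⁻¹} : Set G) := by
      intro d hd
      rw [Subgroup.mem_centralizer_iff]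
      intro h hh
      rw [Set.mem_singleton_iff] at hh
      subst hh
      exact Subgroup.mem_centralizer_iff.1 (hpr.pCoreOf_le_centralizer hd) _ hgx
    have hPgC : (pCoreOf p M).map (MulAut.conj g).toMonoidHom ≤
        Subgroup.centralizer ({g * x * g⁻¹} : Set G) := by
      rintro _ ⟨d, hd, rfl⟩
      rw [Subgroup.mem_centralizer_iff]
      intro h hh
      rw [Set.mem_singleton_iff] at hh
      subst hh
      have h1 := Subgroup.mem_centralizer_iff.1 (hpr.pCoreOf_le_centralizer hd) x hx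
      show g * x * g⁻¹ * (g * d * g⁻¹) = g * d * g⁻¹ * (g * x * g⁻¹)
      calc g * x * g⁻¹ * (g * d * g⁻¹) = g * (x * d) * g⁻¹ := by group
        _ = g * (d * x) * g⁻¹ := by rw [h1]
        _ = g * d * g⁻¹ * (g * x * g⁻¹) := by group
    obtain ⟨T₁, hT₁⟩ := exists_sylow_sub_ge (pCoreOf_isPGroup (p := p) (K := M)) hPC
    obtain ⟨k, hk, hle⟩ := exists_conj_le_sylow_sub T₁ hPgC
      (isPGroup_conj (pCoreOf_isPGroup (p := p) (K := M)) g)
    rw [conj_conj] at hle
    have h2 := wc_conj_eq_of_le_pgroup hwc (T₁.isPGroup'.map _) hT₁ hle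
    have h3 : k * g ∈ M ⊔ Subgroup.centralizer ((largestPReducedOf p M : Subgroup G) : Set G) :=
      hNP ((conj_eq_self_iff _ _).1 h2)
    have h4 : k * g ∈ ((M ⊔ Subgroup.centralizer ((largestPReducedOf p M : Subgroup G) : Set G) :
        Subgroup G) : Set G) := h3
    rw [Subgroup.coe_mul_of_left_le_normalizer_right M _ (hpr.norm.trans
      (Cfsg.Agent.Lib.Helper16.CharP.normalizer_le_normalizer_centralizer _))] at h4
    obtain ⟨m, hm, c, hc, hmc⟩ := Set.mem_mul.1 h4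
    refine ⟨m, hm, ?_⟩
    have h5 : c * x * c⁻¹ = x := by
      have h6 := Subgroup.mem_centralizer_iff.1 hc x hx
      rw [← h6]; group
    have h7 : k * (g * x * g⁻¹) * k⁻¹ = g * x * g⁻¹ := by
      have h8 := Subgroup.mem_centralizer_iff.1 hk (g * x * g⁻¹) (Set.mem_singleton _)
      rw [← h8]; group
    calc m * x * m⁻¹ = m * (c * x * c⁻¹) * m⁻¹ := by rw [h5]
      _ = (m * c) * x * (m * c)⁻¹ := by group
      _ = (k * g) * x * (k * g)⁻¹ := by rw [hmc]
      _ = k * (g * x * g⁻¹) * k⁻¹ := by group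
      _ = g * x * g⁻¹ := h7

end Cfsg.Agent.S2850
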