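import Cfsg.Statements.S2851
import Cfsg.Agent.Lib.Helper16.Asym3

set_option autoImplicit false
open Cfsg

namespace Cfsg.Agent.S2851

open Cfsg.Agent.Lib.Helper16.Basic Cfsg.Agent.Lib.Helper16.BasicProperty Cfsg.Agent.Lib.Helper16.WeaklyClosed Cfsg.Agent.Lib.Helper16.PReduced Cfsg.Agent.Lib.Helper16.PReduced2 Cfsg.Agent.Lib.Helper16.PReduced4 Cfsg.Agent.Lib.Helper16.CharP Cfsg.Agent.Lib.Helper16.Asym Cfsg.Agent.Lib.Helper16.Asym2 Cfsg.Agent.Lib.Helper16.Asym3 Cfsg.Agent.Lib.Helper16.Kieler in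
theorem core_transport {X : Type*} [Group X] {p : ℕ} (N₁ N₂ : Subgroup X) [h1 : N₁.Normal]
    [h2 : N₂.Normal] (h : N₁ = N₂) (hc : pCore p (X ⧸ N₁) = ⊥) : pCore p (X ⧸ N₂) = ⊥ := by
  subst h
  exact hc

open Cfsg.Agent.Lib.Helper16.Basic Cfsg.Agent.Lib.Helper16.BasicProperty Cfsg.Agent.Lib.Helper16.WeaklyClosed Cfsg.Agent.Lib.Helper16.PReduced Cfsg.Agent.Lib.Helper16.PReduced2 Cfsg.Agent.Lib.Helper16.PReduced4 Cfsg.Agent.Lib.Helper16.CharP Cfsg.Agent.Lib.Helper16.Asym Cfsg.Agent.Lib.Helper16.Asym2 Cfsg.Agent.Lib.Helper16.Asym3 Cfsg.Agent.Lib.Helper16.Kieler in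
theorem core_bot {G : Type*} [Group G] [Finite G] {p : ℕ} [Fact p.Prime] (L V : Subgroup G)
    (hV : V = largestPReducedOf p L)
    [hn : ((Subgroup.centralizer (V : Set G)).subgroupOf L).Normal] :
    pCore p (↥L ⧸ (Subgroup.centralizer (V : Set G)).subgroupOf L) = ⊥ := by
  subst hV
  obtain ⟨-, -, hCn, hcore'⟩ := largest_isPReduced (L := ↥L) (p := p)
  have h1 : (largestPReducedOf p L).subgroupOf L = largestPReduced p ↥L :=
    Subgroup.comap_map_eq_self_of_injective L.subtype_injective _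
  have hEq : Subgroup.centralizer ((largestPReduced p ↥L : Subgroup ↥L) : Set ↥L) =
      (Subgroup.centralizer ((largestPReducedOf p L : Subgroup G) : Set G)).subgroupOf L := by
    ext n
    rw [← h1, mem_centralizer_subgroupOf (show largestPReducedOf p L ≤ L from Subgroup.map_subtype_le _), Subgroup.mem_subgroupOf]
  exact core_transport _ _ hEq hcore'

open Cfsg.Agent.Lib.Helper16.Basic Cfsg.Agent.Lib.Helper16.BasicProperty Cfsg.Agent.Lib.Helper16.WeaklyClosed Cfsg.Agent.Lib.Helper16.PReduced Cfsg.Agent.Lib.Helper16.PReduced2 Cfsg.Agent.Lib.Helper16.PReduced4 Cfsg.Agent.Lib.Helper16.CharP Cfsg.Agent.Lib.Helper16.Asym Cfsg.Agent.Lib.Helper16.Asym2 Cfsg.Agent.Lib.Helper16.Asym3 Cfsg.Agent.Lib.Helper16.Kieler in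
open scoped commutatorElement in
theorem aux {G : Type*} [Group G] [Finite G] {p : ℕ} [Fact p.Prime] (Y Md P F H : Subgroup G)
    (hprd : PR p Md Y) (hCMd : Subgroup.centralizer (Y : Set G) ≤ Md)
    [hn : ((Subgroup.centralizer (Y : Set G)).subgroupOf Md).Normal]
    (hcore : pCore p (↥Md ⧸ (Subgroup.centralizer (Y : Set G)).subgroupOf Md) = ⊥)
    (hF : F = ((generalizedFittingSubgroup
      (↥Md ⧸ (Subgroup.centralizer (Y : Set G)).subgroupOf Md)).comap
        (QuotientGroup.mk' ((Subgroup.centralizer (Y : Set G)).subgroupOf Md))).map Md.subtype)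
    (hPp : IsPGroup p P) (hPC : P ≤ Subgroup.centralizer (Y : Set G))
    (hPle : ∀ L : Subgroup G, IsPGroup p L → P ≤ L → L ≤ Md)
    (hFH : F ≤ H) (hH : Subgroup.centralizer (pCore p ↥H : Set ↥H) ≤ pCore p ↥H) :
    Y ≤ largestPReducedOf p H := by
  classical
  have hMdN : Md ≤ Subgroup.normalizer (Y : Set G) := hprd.norm
  have hYC : Y ≤ Subgroup.centralizer (Y : Set G) := hprd.comm
  haveI hF'n : ((generalizedFittingSubgroup
      (↥Md ⧸ (Subgroup.centralizer (Y : Set G)).subgroupOf Md)).comap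
        (QuotientGroup.mk' ((Subgroup.centralizer (Y : Set G)).subgroupOf Md))).Normal :=
    (Cfsg.Agent.Lib.Helper9.gfitting_normal _).comap _
  have hFMd : F ≤ Md := by rw [hF]; exact Subgroup.map_subtype_le _
  have hMdF : Md ≤ Subgroup.normalizer (F : Set G) := by
    rw [hF]; exact le_normalizer_map_subtype _
  have hFsub : F.subgroupOf Md = (generalizedFittingSubgroup
      (↥Md ⧸ (Subgroup.centralizer (Y : Set G)).subgroupOf Md)).comap
        (QuotientGroup.mk' ((Subgroup.centralizer (Y : Set G)).subgroupOf Md)) := by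
    rw [hF]; exact Subgroup.comap_map_eq_self_of_injective Md.subtype_injective _
  have hCF : Subgroup.centralizer (Y : Set G) ≤ F := by
    intro c hc
    rw [hF]
    refine ⟨⟨c, hCMd hc⟩, ?_, rfl⟩
    rw [SetLike.mem_coe, Subgroup.mem_comap]
    have h0 : QuotientGroup.mk' ((Subgroup.centralizer (Y : Set G)).subgroupOf Md)
        ⟨c, hCMd hc⟩ = 1 :=
      (QuotientGroup.eq_one_iff _).2 (Subgroup.mem_subgroupOf.2 hc)
    rw [h0]; exact Subgroup.one_mem _
  have L1 : ∀ D : Subgroup G, D ≤ F → F ≤ Subgroup.normalizer (D : Set G) →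
      (∀ d ∈ D, ∃ k : ℕ, d ^ p ^ k ∈ Subgroup.centralizer (Y : Set G)) →
      D ≤ Subgroup.centralizer (Y : Set G) := by
    intro D hDF hFD hp
    have h1 := gf1 ((Subgroup.centralizer (Y : Set G)).subgroupOf Md) hcore (D.subgroupOf Md)
      (by
        rw [← hFsub]; intro x hx
        exact Subgroup.mem_subgroupOf.2 (hDF (Subgroup.mem_subgroupOf.1 hx)))
      (by
        rw [← hFsub]
        intro f hf
        rw [Subgroup.mem_subgroupOf] at hf
        have h0 := hFD hf
        rw [Subgroup.mem_normalizer_iff] at h0 ⊢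
        intro x
        rw [Subgroup.mem_subgroupOf, Subgroup.mem_subgroupOf]
        exact h0 x)
      (by
        intro d hd
        obtain ⟨k, hk⟩ := hp d (Subgroup.mem_subgroupOf.1 hd)
        exact ⟨k, Subgroup.mem_subgroupOf.2 (by simpa using hk)⟩)
    intro d hd
    exact Subgroup.mem_subgroupOf.1
      (h1 (Subgroup.mem_subgroupOf.2 hd : (⟨d, hFMd (hDF hd)⟩ : ↥Md) ∈ D.subgroupOf Md))
  have L2 : ∀ a ∈ Md, (∃ j : ℕ, a ^ p ^ j = 1) → (∀ f ∈ F, ⁅a, f⁆ ∈
      Subgroup.centralizer (Y : Set G)) → a ∈ Subgroup.centralizer (Y : Set G) := by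
    rintro a haM ⟨j, hj⟩ hc
    have h1 := gf2 ((Subgroup.centralizer (Y : Set G)).subgroupOf Md) hcore (⟨a, haM⟩ : ↥Md)
      ⟨j, by
        rw [Subgroup.mem_subgroupOf]
        simp [hj]⟩
      (by
        intro f hf
        rw [← hFsub, Subgroup.mem_subgroupOf] at hf
        rw [Subgroup.mem_subgroupOf]
        have h0 := hc (f : G) hf
        simpa [commutatorElement_def] using h0)
    exact Subgroup.mem_subgroupOf.1 h1
  have hPH : P ≤ H := (hPC.trans hCF).trans hFH
  obtain ⟨TH, hTH⟩ := exists_sylow_sub_ge hPp hPH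
  have hTHp : IsPGroup p ((TH : Subgroup ↥H).map H.subtype) := TH.isPGroup'.map _
  have hTHM : (TH : Subgroup ↥H).map H.subtype ≤ Md := hPle _ hTHp hTH
  have hSyl : SylIn p ((TH : Subgroup ↥H).map H.subtype) H := ⟨TH, rfl⟩
  have hOH : pCoreOf p H ≤ (TH : Subgroup ↥H).map H.subtype := hSyl.pCoreOf_le
  have hHO : H ≤ Subgroup.normalizer ((pCoreOf p H : Subgroup G) : Set G) :=
    le_normalizer_pCoreOf H
  have hcomm1 : ∀ (D : Subgroup G), H ≤ Subgroup.normalizer (D : Set G) → ∀ a ∈ D, ∀ f ∈ F,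
      ⁅a, f⁆ ∈ D := by
    intro D hHD a ha f hf
    have h2 := (Subgroup.mem_normalizer_iff.1 (hHD (hFH hf)) a⁻¹).1 (D.inv_mem ha)
    rw [commutatorElement_def]
    have h3 : a * f * a⁻¹ * f⁻¹ = a * (f * a⁻¹ * f⁻¹) := by group
    rw [h3]; exact D.mul_mem ha h2
  have hcomm2 : ∀ a ∈ Md, ∀ f ∈ F, ⁅a, f⁆ ∈ F := by
    intro a ha f hf
    have h2 := (Subgroup.mem_normalizer_iff.1 (hMdF ha) f).1 hf
    rw [commutatorElement_def]
    exact F.mul_mem h2 (F.inv_mem hf)
  have hOHC : pCoreOf p H ≤ Subgroup.centralizer (Y : Set G) := by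
    intro a ha
    obtain ⟨j, hj⟩ := exists_pow_eq_one_of_mem (pCoreOf_isPGroup (p := p) (K := H)) ha
    apply L2 a (hTHM (hOH ha)) ⟨j, hj⟩
    intro f hf
    have h1 : ⁅a, f⁆ ∈ pCoreOf p H ⊓ F :=
      Subgroup.mem_inf.2 ⟨hcomm1 _ hHO a ha f hf, hcomm2 a (hTHM (hOH ha)) f hf⟩
    exact L1 (pCoreOf p H ⊓ F) inf_le_right
      ((le_inf (hFH.trans hHO) Subgroup.le_normalizer).trans (inf_normalizer_le _ _))
      (fun d hd => by
        obtain ⟨k, hk⟩ := exists_pow_eq_one_of_mem (pCoreOf_isPGroup (p := p) (K := H))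
          (Subgroup.mem_inf.1 hd).1
        exact ⟨k, by rw [hk]; exact Subgroup.one_mem _⟩) h1
  have hYH : Y ≤ H := (hYC.trans hCF).trans hFH
  have hYcOH : Y ≤ Subgroup.centralizer ((pCoreOf p H : Subgroup G) : Set G) :=
    Subgroup.le_centralizer_iff.1 hOHC
  have hYOH : Y ≤ pCoreOf p H := by
    intro y hy
    have h1 : (⟨y, hYH hy⟩ : ↥H) ∈ Subgroup.centralizer (pCore p ↥H : Set ↥H) := by
      rw [Subgroup.mem_centralizer_iff]
      intro d hd
      have h0 := Subgroup.mem_centralizer_iff.1 (hYcOH hy) (d : G) ⟨d, hd, rfl⟩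
      exact Subtype.ext h0
    exact ⟨_, hH h1, rfl⟩
  have hYV : Y ≤ ⨆ x : ↥H, Y.map (MulAut.conj (x : G)).toMonoidHom := by
    have h1 := le_iSup (fun x : ↥H => Y.map (MulAut.conj (x : G)).toMonoidHom) 1
    simp only [OneMemClass.coe_one] at h1
    rwa [conj_one] at h1
  generalize hV : (⨆ x : ↥H, Y.map (MulAut.conj (x : G)).toMonoidHom) = V at hYV
  suffices hprV : PR p H V from hYV.trans (pr_le_largest hprV)
  have hYZ : Y ≤ omegaOne p (pCoreOf p H ⊓
      Subgroup.centralizer ((pCoreOf p H : Subgroup G) : Set G)) := fun y hy =>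
    mem_omegaOne_center (hYOH hy) (hYcOH hy) (hprd.el.2 y hy)
  have hHZ : H ≤ Subgroup.normalizer ((omegaOne p (pCoreOf p H ⊓
      Subgroup.centralizer ((pCoreOf p H : Subgroup G) : Set G)) : Subgroup G) : Set G) :=
    (le_normalizer_pCoreOf H).trans (normalizer_le_normalizer_omegaOne_center _)
  have hVZ : V ≤ omegaOne p (pCoreOf p H ⊓
      Subgroup.centralizer ((pCoreOf p H : Subgroup G) : Set G)) := by
    rw [← hV]
    apply iSup_le
    intro x
    have h1 := conj_mono (x : G) hYZ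
    rwa [(conj_eq_self_iff _ (x : G)).2 (hHZ x.2)] at h1
  have hVel : IsElementaryAbelian p V := elementary_of_le (omegaOne_center_el _) hVZ
  have hVH : V ≤ H := by
    rw [← hV]
    apply iSup_le
    intro x
    have h1 := conj_mono (x : G) hYH
    rwa [conj_eq_self_of_mem x.2] at h1
  have hHV : H ≤ Subgroup.normalizer (V : Set G) := by
    rw [← hV]; exact iSup_conj_le_normalizer Y H
  refine ⟨hVH, hHV, hVel, ?_⟩
  intro D hDH hHD hp
  have hCVY : Subgroup.centralizer (V : Set G) ≤ Subgroup.centralizer (Y : Set G) :=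
    Subgroup.centralizer_le hYV
  have hD3 : D ⊓ F ≤ Subgroup.centralizer (Y : Set G) :=
    L1 (D ⊓ F) inf_le_right
      ((le_inf (hFH.trans hHD) Subgroup.le_normalizer).trans (inf_normalizer_le _ _))
      (fun d hd => by
        obtain ⟨k, hk⟩ := hp d (Subgroup.mem_inf.1 hd).1
        exact ⟨k, hCVY hk⟩)
  have hDT : (TH : Subgroup ↥H).map H.subtype ⊓ D ≤ Subgroup.centralizer (Y : Set G) := by
    intro a ha
    obtain ⟨haT, haD⟩ := Subgroup.mem_inf.1 ha
    obtain ⟨j, hj⟩ := exists_pow_eq_one_of_mem hTHp haT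
    apply L2 a (hTHM haT) ⟨j, hj⟩
    intro f hf
    exact hD3 (Subgroup.mem_inf.2 ⟨hcomm1 D hHD a haD f hf, hcomm2 a (hTHM haT) f hf⟩)
  have hD1 : D ≤ Subgroup.centralizer (Y : Set G) := by
    have h1 := sylow_inf_sup' (sylIn_inf_of_normal hSyl hDH hHD)
      (K := D ⊓ Subgroup.centralizer (V : Set G)) inf_le_left
      ((le_inf Subgroup.le_normalizer (hDH.trans (hHV.trans
        (normalizer_le_normalizer_centralizer V)))).trans (inf_normalizer_le _ _))
      (fun d hd => by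
        obtain ⟨k, hk⟩ := hp d hd
        exact ⟨k, Subgroup.mem_inf.2 ⟨D.pow_mem hd _, hk⟩⟩)
    exact h1.trans (sup_le hDT (inf_le_right.trans hCVY))
  rw [Subgroup.le_centralizer_iff, ← hV]
  apply iSup_le
  intro x
  rw [← Subgroup.le_centralizer_iff]
  have h2 := conj_mono (x : G) hD1
  rwa [(conj_eq_self_iff D (x : G)).2 (hHD x.2), ← centralizer_conj] at h2


/-- Standing hypotheses: G a finite group, S a Sylow p-subgroup, Q a nontrivial large p-subgroup of G contained in S, M a subgroup containing S with the basic property (M ∈ 𝔐_G(S)); Y_M the largest p-reduced normal subgroup of M and M† = M·C_G(Y_M). Let F be the preimage in M† of the generalized Fitting subgroup of M†/C_{M†}(Y_M). If Y_M is asymmetric in G and H is a subgroup of characteristic p containing F, then Y_M ≤ Y_H. -/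
theorem result {G : Type*} [Group G] [Finite G] {p : ℕ} [Fact p.Prime] (S : Sylow p G) (Q : Subgroup G) (hQp : IsPGroup p ↥Q) (hQ1 : Q ≠ ⊥) (hQS : Q ≤ (S : Subgroup G)) (hQ : Cfsg.IsLarge Q) (M : Subgroup G) (hSM : (S : Subgroup G) ≤ M) (hM : Cfsg.IsInFrakM p M) (hasym : ¬ Cfsg.IsSymmetricIn (Cfsg.largestPReducedOf p M)) [hn : ((Subgroup.centralizer (((Cfsg.largestPReducedOf p M) : Subgroup G) : Set G)).subgroupOf (M ⊔ Subgroup.centralizer (((Cfsg.largestPReducedOf p M) : Subgroup G) : Set G))).Normal] (F : Subgroup G) (hF : F = ((Cfsg.generalizedFittingSubgroup (↥(M ⊔ Subgroup.centralizer (((Cfsg.largestPReducedOf p M) : Subgroup G) : Set G)) ⧸ (Subgroup.centralizer (((Cfsg.largestPReducedOf p M) : Subgroup G) : Set G)).subgroupOf (M ⊔ Subgroup.centralizer (((Cfsg.largestPReducedOf p M) : Subgroup G) : Set G)))).comap (QuotientGroup.mk' ((Subgroup.centralizer (((Cfsg.largestPReducedOf p M) : Subgroup G) : Set G)).subgroupOf (M ⊔ Subgroup.centralizer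 (((Cfsg.largestPReducedOf p M) : Subgroup G) : Set G))))).map ((M ⊔ Subgroup.centralizer (((Cfsg.largestPReducedOf p M) : Subgroup G) : Set G))).subtype) (H : Subgroup G) (hFH : F ≤ H) (hH : Subgroup.centralizer (Cfsg.pCore p ↥H : Set ↥H) ≤ Cfsg.pCore p ↥H) : (Cfsg.largestPReducedOf p M) ≤ Cfsg.largestPReducedOf p H := by
  open Cfsg.Agent.Lib.Helper16.Basic Cfsg.Agent.Lib.Helper16.PReduced2 Cfsg.Agent.Lib.Helper16.Asym Cfsg.Agent.Lib.Helper16.Asym2 in
  have hstar := large_star hQp hQ1 hQ S hQS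
  have hYeq := hM.2.2.2.1
  have hprd := pr_largest (p := p)
    (M ⊔ Subgroup.centralizer ((largestPReducedOf p M : Subgroup G) : Set G))
  rw [← hYeq] at hprd
  exact aux (largestPReducedOf p M) _ (pCoreOf p M) F H hprd le_sup_right
    (core_bot _ _ hYeq) hF pCoreOf_isPGroup (pr_largest (p := p) M).pCoreOf_le_centralizer
    (fun L hL hPL => pgroup_le_dagger S hstar hSM hM hasym hL hPL) hFH hH

end Cfsg.Agent.S2851
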