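import Cfsg.Statements.S2852
import Cfsg.Agent.Lib.Helper16.Asym4

set_option autoImplicit false
open Cfsg

namespace Cfsg.Agent.S2852

/-- Standing hypotheses: G a finite group, S a Sylow p-subgroup, Q a nontrivial large p-subgroup of G contained in S, M a subgroup containing S with the basic property (M ∈ 𝔐_G(S)); Y_M the largest p-reduced normal subgroup of M. If Y_M is char-p-tall and asymmetric in G, then some subgroup H of G lies in ℌ_G(O_p(M)): H has characteristic p, O_p(M) ≤ H, Y_M ≰ O_p(H), and Y_M ≤ O_p(P) for every proper subgroup P of H containing O_p(M). -/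
theorem result {G : Type*} [Group G] [Finite G] {p : ℕ} [Fact p.Prime] (S : Sylow p G) (Q : Subgroup G) (hQp : IsPGroup p ↥Q) (hQ1 : Q ≠ ⊥) (hQS : Q ≤ (S : Subgroup G)) (hQ : Cfsg.IsLarge Q) (M : Subgroup G) (hSM : (S : Subgroup G) ≤ M) (hM : Cfsg.IsInFrakM p M) (htall : Cfsg.IsCharPTall p (Cfsg.largestPReducedOf p M)) (hasym : ¬ Cfsg.IsSymmetricIn (Cfsg.largestPReducedOf p M)) : ∃ H : Subgroup G, Cfsg.IsInFrakH p M H := by
  open Cfsg.Agent.Lib.Helper16.Basic Cfsg.Agent.Lib.Helper16.BasicProperty Cfsg.Agent.Lib.Helper16.PReduced Cfsg.Agent.Lib.Helper16.PReduced2 Cfsg.Agent.Lib.Helper16.Asym Cfsg.Agent.Lib.Helper16.Asym2 Cfsg.Agent.Lib.Helper16.Asym4 in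
  classical
  have hstar := large_star hQp hQ1 hQ S hQS
  have hpr := pr_largest (p := p) M
  obtain ⟨T, L, hTL, hLchar, hYL⟩ := htall
  have hPC : pCoreOf p M ≤ Subgroup.centralizer ((largestPReducedOf p M : Subgroup G) : Set G) :=
    hpr.pCoreOf_le_centralizer
  obtain ⟨k, hk, hle⟩ := exists_conj_le_sylow_sub T hPC (pCoreOf_isPGroup (p := p) (K := M))
  have hkN : k ∈ Subgroup.normalizer ((largestPReducedOf p M : Subgroup G) : Set G) :=
    Subgroup.centralizer_le_normalizer _ hk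
  have hPL1 : pCoreOf p M ≤ L.map (MulAut.conj k⁻¹).toMonoidHom := by
    have h1 := conj_mono k⁻¹ (hle.trans hTL)
    rwa [conj_inv_conj] at h1
  have hchar1 := charp_conj (p := p) k⁻¹ hLchar
  have hYL1 : ¬ largestPReducedOf p M ≤ pCoreOf p (L.map (MulAut.conj k⁻¹).toMonoidHom) := by
    intro hcon
    apply hYL
    rw [pCoreOf_conj] at hcon
    have h1 := conj_mono k hcon
    rw [conj_conj_inv, (conj_eq_self_iff _ k).2 hkN] at h1
    exact h1
  obtain ⟨H, hPH, -, hchar, hYH, hiii⟩ := minimal_charp (pCoreOf p M) (largestPReducedOf p M)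
    (L.map (MulAut.conj k⁻¹).toMonoidHom) pCoreOf_isPGroup hpr.le_pCoreOf hpr.comm hPC
    (fun B hB hBC hPB => sylow_cent S hSM hM hB hBC hPB)
    (fun R hR hPR => (pgroup_le_dagger S hstar hSM hM hasym hR hPR).trans (dagger_le_normalizer M))
    hchar1 hPL1 hYL1
  exact ⟨H, hchar, hPH, hYH, hiii⟩

end Cfsg.Agent.S2852
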