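import Cfsg.Statements.S2853
import Cfsg.Agent.Lib.Helper16.FrakH

set_option autoImplicit false
open Cfsg

namespace Cfsg.Agent.S2853

/-- Standing hypotheses: G a finite group, S a Sylow p-subgroup, Q a nontrivial large p-subgroup of G contained in S, M a subgroup containing S with the basic property (M ∈ 𝔐_G(S)); Y_M the largest p-reduced normal subgroup of M and M† = M·C_G(Y_M). Suppose Y_M is char-p-tall and asymmetric in G and H ∈ ℌ_G(O_p(M)). Then every Sylow p-subgroup of H ∩ M† is a Sylow p-subgroup of H; O_p(H) normalizes O_p(M) and Y_M; O^p(H) = [O^p(H), Y_M] and H = O^p(H)·O_p(M); O^p(H)·Y_M is the normal closure of Y_M in H; and H is the normal closure of O_p(M) in H. Here O^p(H) is the subgroup generated by the elements of H of order prime to p. -/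
theorem result {G : Type*} [Group G] [Finite G] {p : ℕ} [Fact p.Prime] (S : Sylow p G) (Q : Subgroup G) (hQp : IsPGroup p ↥Q) (hQ1 : Q ≠ ⊥) (hQS : Q ≤ (S : Subgroup G)) (hQ : Cfsg.IsLarge Q) (M : Subgroup G) (hSM : (S : Subgroup G) ≤ M) (hM : Cfsg.IsInFrakM p M) (htall : Cfsg.IsCharPTall p (Cfsg.largestPReducedOf p M)) (hasym : ¬ Cfsg.IsSymmetricIn (Cfsg.largestPReducedOf p M)) (H : Subgroup G) (hH : Cfsg.IsInFrakH p M H) (R : Subgroup G) (hR : R = (Cfsg.pResidual p ↥H).map H.subtype) : (∀ T : Sylow p ↥(H ⊓ (M ⊔ Subgroup.centralizer (((Cfsg.largestPReducedOf p M) : Subgroup G) : Set G))), ∃ P : Sylow p ↥H, ((P : Subgroup ↥H).map H.subtype) = (T : Subgroup ↥(H ⊓ (M ⊔ Subgroup.centralizer (((Cfsg.largestPReducedOf p M) : Subgroup G) : Set G)))).map (H ⊓ (M ⊔ Subgroup.centralizer (((Cfsg.largestPReducedOf p M) : Subgroup G) : Set G))).subtype) ∧ Cfsg.pCoreOf p H ≤ Subgroup.normalizer (((Cfsg.pCoreOf p M) : Subgroup G) : Set G) ⊓ Subgroup.normalizer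 (((Cfsg.largestPReducedOf p M) : Subgroup G) : Set G) ∧ ⁅R, (Cfsg.largestPReducedOf p M)⁆ = R ∧ R ⊔ (Cfsg.pCoreOf p M) = H ∧ R ⊔ (Cfsg.largestPReducedOf p M) = (Subgroup.normalClosure ((((Cfsg.largestPReducedOf p M)).subgroupOf H : Subgroup ↥H) : Set ↥H)).map H.subtype ∧ (Subgroup.normalClosure ((((Cfsg.pCoreOf p M)).subgroupOf H : Subgroup ↥H) : Set ↥H)).map H.subtype = H := by
  open Cfsg.Agent.Lib.Helper16.Basic Cfsg.Agent.Lib.Helper16.BasicProperty Cfsg.Agent.Lib.Helper16.PReduced Cfsg.Agent.Lib.Helper16.PReduced2 Cfsg.Agent.Lib.Helper16.Asym Cfsg.Agent.Lib.Helper16.Asym2 Cfsg.Agent.Lib.Helper16.FrakH in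
  classical
  have hstar := large_star hQp hQ1 hQ S hQS
  have hpr := pr_largest (p := p) M
  obtain ⟨hchar, hPH, hYH, hiii⟩ := hH
  have hfh : FH p (pCoreOf p M) (largestPReducedOf p M) H :=
    ⟨pCoreOf_isPGroup, hpr.le_pCoreOf, hPH, hYH, hiii⟩
  have hPY : pCoreOf p M ≤ Subgroup.normalizer ((largestPReducedOf p M : Subgroup G) : Set G) :=
    (pCoreOf_le M).trans hpr.norm
  have hle : ∀ L : Subgroup G, IsPGroup p L → pCoreOf p M ≤ L →
      L ≤ M ⊔ Subgroup.centralizer ((largestPReducedOf p M : Subgroup G) : Set G) :=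
    fun L hL hPL => pgroup_le_dagger S hstar hSM hM hasym hL hPL
  subst hR
  refine ⟨fun T => sylow_inf_dagger pCoreOf_isPGroup hPH ((pCoreOf_le M).trans le_sup_left) hle T,
    ?_, hfh.comm hPY, hfh.residual_sup, hfh.residual_sup_Y hPY, hfh.nc_P⟩
  have hLp : IsPGroup p (pCoreOf p M ⊔ pCoreOf p H : Subgroup G) :=
    IsPGroup.to_sup_of_normal_right' pCoreOf_isPGroup pCoreOf_isPGroup
      (hPH.trans (le_normalizer_pCoreOf H))
  have h1 := hle _ hLp le_sup_left
  have h2 := Cfsg.Agent.Lib.Helper16.Asym2.normalizer_le_normalizer_pCoreOf S hstar hSM hM hasym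
    hLp le_sup_left
  exact le_inf ((le_sup_right.trans Subgroup.le_normalizer).trans h2)
    (le_sup_right.trans (h1.trans (dagger_le_normalizer M)))

end Cfsg.Agent.S2853
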