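import Cfsg.Statements.S2854
import Cfsg.Agent.Lib.Helper16.FrakH2

set_option autoImplicit false
open Cfsg

namespace Cfsg.Agent.S2854

/-- Standing hypotheses: G a finite group, S a Sylow p-subgroup, Q a nontrivial large p-subgroup of G contained in S, M a subgroup containing S with the basic property (M ∈ 𝔐_G(S)); Y_M the largest p-reduced normal subgroup of M and M† = M·C_G(Y_M). Suppose Y_M is asymmetric in G, H ∈ ℌ_G(O_p(M)), and H ≤ N_G(gQg⁻¹) for some g ∈ G. Then gQg⁻¹ ≤ O_p(H·gQg⁻¹) ≤ N_G(O_p(M)) ≤ N_G(Y_M) = M†; H is normal in H·gQg⁻¹ with O^p(H) = O^p(H·gQg⁻¹); and H·gQg⁻¹ is p-irreducible. -/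
theorem result {G : Type*} [Group G] [Finite G] {p : ℕ} [Fact p.Prime] (S : Sylow p G) (Q : Subgroup G) (hQp : IsPGroup p ↥Q) (hQ1 : Q ≠ ⊥) (hQS : Q ≤ (S : Subgroup G)) (hQ : Cfsg.IsLarge Q) (M : Subgroup G) (hSM : (S : Subgroup G) ≤ M) (hM : Cfsg.IsInFrakM p M) (hasym : ¬ Cfsg.IsSymmetricIn (Cfsg.largestPReducedOf p M)) (H : Subgroup G) (hH : Cfsg.IsInFrakH p M H) (g : G) (hHQ : H ≤ Subgroup.normalizer ((((Q : Subgroup G).map (MulAut.conj (g : G)).toMonoidHom) : Subgroup G) : Set G)) : ((Q : Subgroup G).map (MulAut.conj (g : G)).toMonoidHom) ≤ Cfsg.pCoreOf p (H ⊔ ((Q : Subgroup G).map (MulAut.conj (g : G)).toMonoidHom)) ∧ Cfsg.pCoreOf p (H ⊔ ((Q : Subgroup G).map (MulAut.conj (g : G)).toMonoidHom)) ≤ Subgroup.normalizer (((Cfsg.pCoreOf p M) : Subgroup G) : Set G) ∧ Subgroup.normalizer (((Cfsg.pCoreOf p M) : Subgroup G) : Set G) ≤ Subgroup.normalizer (((Cfsg.largestPReducedOf p M) : Subgroup G) : Set G) ∧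 Subgroup.normalizer (((Cfsg.largestPReducedOf p M) : Subgroup G) : Set G) = (M ⊔ Subgroup.centralizer (((Cfsg.largestPReducedOf p M) : Subgroup G) : Set G)) ∧ (H.subgroupOf (H ⊔ ((Q : Subgroup G).map (MulAut.conj (g : G)).toMonoidHom))).Normal ∧ (Cfsg.pResidual p ↥H).map H.subtype = (Cfsg.pResidual p ↥(H ⊔ ((Q : Subgroup G).map (MulAut.conj (g : G)).toMonoidHom))).map (H ⊔ ((Q : Subgroup G).map (MulAut.conj (g : G)).toMonoidHom)).subtype ∧ Cfsg.IsPIrreducible p ↥(H ⊔ ((Q : Subgroup G).map (MulAut.conj (g : G)).toMonoidHom)) := by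
  open Cfsg.Agent.Lib.Helper16.Basic Cfsg.Agent.Lib.Helper16.BasicProperty Cfsg.Agent.Lib.Helper16.PReduced Cfsg.Agent.Lib.Helper16.PReduced2 Cfsg.Agent.Lib.Helper16.Asym Cfsg.Agent.Lib.Helper16.Asym2 Cfsg.Agent.Lib.Helper16.FrakH in
  classical
  have hstar := large_star hQp hQ1 hQ S hQS
  have hpr := pr_largest (p := p) M
  obtain ⟨hchar, hPH, hYH, hiii⟩ := hH
  have hfh : FH p (pCoreOf p M) (largestPReducedOf p M) H :=
    ⟨pCoreOf_isPGroup, hpr.le_pCoreOf, hPH, hYH, hiii⟩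
  have hQ1p : IsPGroup p (Q.map (MulAut.conj g).toMonoidHom) := isPGroup_conj hQp g
  generalize Q.map (MulAut.conj g).toMonoidHom = Q₁ at *
  have h1 : Q₁ ≤ pCoreOf p (H ⊔ Q₁) :=
    le_pCoreOf le_sup_right (sup_le hHQ Subgroup.le_normalizer) hQ1p
  have hLp : IsPGroup p (pCoreOf p M ⊔ pCoreOf p (H ⊔ Q₁) : Subgroup G) :=
    IsPGroup.to_sup_of_normal_right' pCoreOf_isPGroup pCoreOf_isPGroup
      ((hPH.trans le_sup_left).trans (le_normalizer_pCoreOf (H ⊔ Q₁)))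
  have h2 : pCoreOf p (H ⊔ Q₁) ≤ Subgroup.normalizer ((pCoreOf p M : Subgroup G) : Set G) :=
    (le_sup_right.trans Subgroup.le_normalizer).trans
      (Cfsg.Agent.Lib.Helper16.Asym2.normalizer_le_normalizer_pCoreOf S hstar hSM hM hasym hLp
        le_sup_left)
  have h3 : Subgroup.normalizer ((pCoreOf p M : Subgroup G) : Set G) ≤
      Subgroup.normalizer ((largestPReducedOf p M : Subgroup G) : Set G) :=
    (normalizer_pCoreOf_le S hstar hSM hM).trans (dagger_le_normalizer M)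
  have h4 := normalizer_eq_dagger S hstar hSM hM
  have hQH : Q₁ ≤ Subgroup.normalizer (H : Set G) := hfh.normalizes hHQ (h1.trans h2)
  exact ⟨h1, h2, h3, h4,
    Subgroup.normal_subgroupOf_of_le_normalizer (sup_le Subgroup.le_normalizer hQH),
    residual_sup_eq hQ1p hQH, (hfh.sup hQ1p hHQ hQH).irred⟩

end Cfsg.Agent.S2854
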