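import Cfsg.Statements.S2864
import Cfsg.Agent.Lib.Helper16.Asym5

set_option autoImplicit false
open Cfsg

namespace Cfsg.Agent.S2864

/-- Standing hypotheses: G a finite group, S a Sylow p-subgroup, Q a nontrivial large p-subgroup of G contained in S, M a subgroup containing S with the basic property (M ∈ 𝔐_G(S)); Y_M the largest p-reduced normal subgroup of M and M† = M·C_G(Y_M). Let I be a nontrivial normal p-subgroup of M and Y ≤ O_p(M†); let L be a subgroup of G containing Y and A a normal p-subgroup of L with I ≤ A ≤ M. If [Y, A] ≤ [I, A], then Y ≤ O_p(L). -/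
theorem result {G : Type*} [Group G] [Finite G] {p : ℕ} [Fact p.Prime] (S : Sylow p G) (Q : Subgroup G) (hQp : IsPGroup p ↥Q) (hQ1 : Q ≠ ⊥) (hQS : Q ≤ (S : Subgroup G)) (hQ : Cfsg.IsLarge Q) (M : Subgroup G) (hSM : (S : Subgroup G) ≤ M) (hM : Cfsg.IsInFrakM p M) (I : Subgroup G) (hI1 : I ≠ ⊥) (hIp : IsPGroup p ↥I) (hIM : I ≤ M ∧ M ≤ Subgroup.normalizer ((I : Subgroup G) : Set G)) (Y : Subgroup G) (hY : Y ≤ (Cfsg.pCoreOf p (M ⊔ Subgroup.centralizer (((Cfsg.largestPReducedOf p M) : Subgroup G) : Set G)))) (L : Subgroup G) (hYL : Y ≤ L) (A : Subgroup G) (hAp : IsPGroup p ↥A) (hAL : A ≤ L ∧ L ≤ Subgroup.normalizer ((A : Subgroup G) : Set G)) (hIA : I ≤ A) (hAM : A ≤ M) (hc : ⁅Y, A⁆ ≤ ⁅I, A⁆) : Y ≤ (Cfsg.pCoreOf p L) := by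
  open Cfsg.Agent.Lib.Helper16.Basic Cfsg.Agent.Lib.Helper16.BasicProperty Cfsg.Agent.Lib.Helper16.PReduced Cfsg.Agent.Lib.Helper16.PReduced2 Cfsg.Agent.Lib.Helper16.Asym Cfsg.Agent.Lib.Helper16.Asym5 Cfsg.Agent.Lib.Helper17.CharP3 in
  open scoped commutatorElement in
  classical
  have hstar := large_star hQp hQ1 hQ S hQS
  obtain ⟨hIM, hMI⟩ := hIM
  obtain ⟨hAL, hLA⟩ := hAL
  have hCI : Subgroup.centralizer (I : Set G) ≤
      M ⊔ Subgroup.centralizer ((largestPReducedOf p M : Subgroup G) : Set G) := by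
    have hX : pCore p ↥(M ⊔ Subgroup.centralizer (I : Set G)) ≠ ⊥ :=
      pCore_ne_bot_of_normal (hIM.trans le_sup_left)
        (sup_le hMI (Subgroup.centralizer_le_normalizer _)) hIp hI1
    exact le_sup_right.trans (le_dagger S hstar hSM hM le_sup_left hX)
  apply le_pCoreOf_of_coprime_mem hYL (pCoreOf_isPGroup (p := p)
    (K := M ⊔ Subgroup.centralizer ((largestPReducedOf p M : Subgroup G) : Set G))) hY
    (le_normalizer_pCoreOf _)
  intro x hxD hxc
  apply hCI
  have hDst : (⨆ l : ↥L, Y.map (MulAut.conj (l : G)).toMonoidHom) ≤ stab A ⁅A, A⁆ ⊓ L := by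
    apply iSup_le
    intro l y hy
    have hyL : y ∈ L := by
      rw [mem_conj] at hy
      have hy' : y = l * ((l : G)⁻¹ * y * l) * (l : G)⁻¹ := by group
      rw [hy']
      exact L.mul_mem (L.mul_mem l.2 (hYL hy)) (L.inv_mem l.2)
    refine Subgroup.mem_inf.2 ⟨⟨?_, fun u hu => ?_⟩, hyL⟩
    · rw [← conj_eq_self_iff, conj_commutator, (conj_eq_self_iff A y).2 (hLA hyL)]
    · have e1 := conj_commutator Y A (l : G)
      rw [(conj_eq_self_iff A (l : G)).2 (hLA l.2)] at e1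
      have e2 := conj_mono (l : G) (hc.trans (Subgroup.commutator_mono hIA le_rfl))
      rw [e1, conj_commutator, (conj_eq_self_iff A (l : G)).2 (hLA l.2)] at e2
      have h3 : ⁅u, y⁆ ∈ ⁅A, Y.map (MulAut.conj (l : G)).toMonoidHom⁆ :=
        Subgroup.commutator_mem_commutator hu hy
      rw [Subgroup.commutator_comm] at h3
      exact e2 h3
  have hx1 := hDst hxD
  have hxcent := coprime_centralizes hAp (hLA (Subgroup.mem_inf.1 hx1).2) hxc
    (Subgroup.mem_inf.1 hx1).1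
  exact Subgroup.centralizer_le (by exact_mod_cast hIA) hxcent

end Cfsg.Agent.S2864
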