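import Cfsg.Statements.S2872
import Cfsg.Agent.Lib.Helper16.PReduced3
import Cfsg.Agent.S0012

set_option autoImplicit false
open Cfsg

namespace Cfsg.Agent.S2872

open Cfsg.Agent.Lib.Helper16.Basic Cfsg.Agent.Lib.Helper16.PReduced3 in
theorem transfer_key {G : Type*} [Group G] [Finite G] (S : Sylow 2 G) {C : Type*} [CommGroup C]
    (ϕ : ↥(S : Subgroup G) →* C) (z : G) (hzS : z ∈ (S : Subgroup G)) (hz2 : z ^ 2 = 1)
    (hzc : ∀ s ∈ (S : Subgroup G), s * z = z * s)
    (hN : ∀ g ∈ Subgroup.normalizer ((S : Subgroup G) : Set G), g⁻¹ * z * g = z)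
    (t : C) (ht : ϕ ⟨z, hzS⟩ = t) (ht1 : t ≠ 1) (ht2 : t ^ 2 = 1) (hC : ∀ a : C, a = 1 ∨ a = t) :
    MonoidHom.transfer ϕ z = t := by
  classical
  haveI : Fintype (Quotient (MulAction.orbitRel (Subgroup.zpowers z) (G ⧸ (S : Subgroup G)))) :=
    Fintype.ofFinite _
  rw [MonoidHom.transfer_eq_prod_quotient_orbitRel_zpowers_quot]
  obtain ⟨F₁, hF₁⟩ : ∃ F₁ : Set (G ⧸ (S : Subgroup G)), F₁ = {c | ∃ x : G,
      (x : G ⧸ (S : Subgroup G)) = c ∧ ∃ h : x⁻¹ * z * x ∈ (S : Subgroup G),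
        ϕ ⟨x⁻¹ * z * x, h⟩ = t} := ⟨_, rfl⟩
  have hrep : ∀ (x y : G), (x : G ⧸ (S : Subgroup G)) = (y : G ⧸ (S : Subgroup G)) →
      ∀ (hx : x⁻¹ * z * x ∈ (S : Subgroup G)), ∃ hy : y⁻¹ * z * y ∈ (S : Subgroup G),
        ϕ ⟨y⁻¹ * z * y, hy⟩ = ϕ ⟨x⁻¹ * z * x, hx⟩ := by
    intro x y hxy hx
    have hs : x⁻¹ * y ∈ (S : Subgroup G) := QuotientGroup.eq.1 hxy
    have e : y⁻¹ * z * y = (x⁻¹ * y)⁻¹ * (x⁻¹ * z * x) * (x⁻¹ * y) := by group
    have hy : y⁻¹ * z * y ∈ (S : Subgroup G) := by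
      rw [e]
      exact Subgroup.mul_mem _ (Subgroup.mul_mem _ (Subgroup.inv_mem _ hs) hx) hs
    refine ⟨hy, ?_⟩
    have e' : (⟨y⁻¹ * z * y, hy⟩ : ↥(S : Subgroup G)) =
        (⟨x⁻¹ * y, hs⟩ : ↥(S : Subgroup G))⁻¹ * ⟨x⁻¹ * z * x, hx⟩ * ⟨x⁻¹ * y, hs⟩ :=
      Subtype.ext e
    rw [e', map_mul, map_mul, map_inv, mul_right_comm, inv_mul_cancel, one_mul]
  have hfix : ∀ x : G, z • (x : G ⧸ (S : Subgroup G)) = (x : G ⧸ (S : Subgroup G)) ↔
      x⁻¹ * z * x ∈ (S : Subgroup G) := by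
    intro x
    rw [show z • (x : G ⧸ (S : Subgroup G)) = ((z * x : G) : G ⧸ (S : Subgroup G)) from rfl,
      eq_comm, QuotientGroup.eq, ← mul_assoc]
  have key : ∀ (c : G ⧸ (S : Subgroup G)) (n : ℕ) (hn : n = Function.minimalPeriod (z • ·) c)
      (hmem : c.out⁻¹ * z ^ n * c.out ∈ (S : Subgroup G)),
      ϕ ⟨c.out⁻¹ * z ^ n * c.out, hmem⟩ = if c ∈ F₁ then t else 1 := by
    intro c n hn hmem
    by_cases hc : z • c = c
    · have h1 : n = 1 := by
        rw [hn]; exact Function.minimalPeriod_eq_one_iff_isFixedPt.2 hc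
      subst h1
      have hmem' : c.out⁻¹ * z * c.out ∈ (S : Subgroup G) := by simpa using hmem
      have e : (⟨c.out⁻¹ * z ^ 1 * c.out, hmem⟩ : ↥(S : Subgroup G)) =
          ⟨c.out⁻¹ * z * c.out, hmem'⟩ :=
        Subtype.ext (by show c.out⁻¹ * z ^ 1 * c.out = c.out⁻¹ * z * c.out; rw [pow_one])
      rw [e]
      rcases hC (ϕ ⟨_, hmem'⟩) with h | h
      · rw [h, if_neg]
        rw [hF₁]
        rintro ⟨x', hx', hx'S, hx't⟩
        obtain ⟨hy, hyeq⟩ := hrep x' c.out (by rw [hx', QuotientGroup.out_eq']) hx'S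
        apply ht1
        rw [← hx't, ← hyeq]
        exact h
      · rw [h, if_pos]
        rw [hF₁]
        exact ⟨c.out, QuotientGroup.out_eq' c, hmem', h⟩
    · have hdvd : n ∣ 2 := by
        rw [hn, ← MulAction.pow_smul_eq_iff_minimalPeriod_dvd, hz2, one_smul]
      have hn1 : n ≠ 1 := by
        intro h1
        rw [h1] at hn
        exact hc (Function.minimalPeriod_eq_one_iff_isFixedPt.1 hn.symm)
      have hn2 : n = 2 := by
        rcases (Nat.dvd_prime Nat.prime_two).1 hdvd with h | h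
        · exact absurd h hn1
        · exact h
      subst hn2
      have e : (⟨c.out⁻¹ * z ^ 2 * c.out, hmem⟩ : ↥(S : Subgroup G)) = 1 :=
        Subtype.ext (by show c.out⁻¹ * z ^ 2 * c.out = 1; rw [hz2]; group)
      rw [e, map_one, if_neg]
      rw [hF₁]
      rintro ⟨x', hx', hx'S, -⟩
      exact hc (by rw [← hx']; exact (hfix x').2 hx'S)
  rw [Finset.prod_congr rfl (fun q _ => key q.out _ rfl _)]
  rw [Finset.prod_ite, Finset.prod_const, Finset.prod_const_one, mul_one]
  have hinv : ∀ s : ↥(S : Subgroup G), ∀ c ∈ F₁, s • c ∈ F₁ := by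
    intro s c hc
    rw [hF₁] at hc ⊢
    obtain ⟨x, hx, hxS, hxt⟩ := hc
    have e : ((s : G) * x)⁻¹ * z * ((s : G) * x) = x⁻¹ * z * x := by
      have h1 := hzc s s.2
      calc ((s : G) * x)⁻¹ * z * ((s : G) * x) = x⁻¹ * ((s : G)⁻¹ * ((s : G) * z)) * x := by
            rw [h1]; group
        _ = x⁻¹ * z * x := by rw [inv_mul_cancel_left]
    refine ⟨(s : G) * x, ?_, ?_⟩
    · rw [← hx]; rfl
    · refine ⟨by rw [e]; exact hxS, ?_⟩
      rw [← hxt]
      congr 1
      exact Subtype.ext e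
  have hcard : (Finset.univ.filter (fun q : Quotient (MulAction.orbitRel (Subgroup.zpowers z)
      (G ⧸ (S : Subgroup G))) => q.out ∈ F₁)).card = F₁.ncard := by
    have himg : (fun q : Quotient (MulAction.orbitRel (Subgroup.zpowers z)
        (G ⧸ (S : Subgroup G))) => q.out) '' {q | q.out ∈ F₁} = F₁ := by
      ext c
      constructor
      · rintro ⟨q, hq, rfl⟩
        exact hq
      · intro hc
        have hcfix : z • c = c := by
          rw [hF₁] at hc
          obtain ⟨x, hx, hxS, -⟩ := hc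
          rw [← hx]; exact (hfix x).2 hxS
        have hout : (Quotient.mk'' c : Quotient (MulAction.orbitRel (Subgroup.zpowers z)
            (G ⧸ (S : Subgroup G)))).out = c := by
          have h1 := Quotient.exact (Quotient.out_eq (Quotient.mk'' c : Quotient
            (MulAction.orbitRel (Subgroup.zpowers z) (G ⧸ (S : Subgroup G)))))
          obtain ⟨g, hg⟩ := h1
          obtain ⟨k, hk⟩ := Subgroup.mem_zpowers_iff.1 g.2
          have h2 : ∀ k : ℤ, z ^ k • c = c := by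
            intro k
            have hmem : z ∈ MulAction.stabilizer G c := hcfix
            exact (Subgroup.zpow_mem _ hmem k)
          rw [← hg]
          have h3 : (g : G) • c = c := by rw [← hk]; exact h2 k
          exact h3
        exact ⟨Quotient.mk'' c, by rw [Set.mem_ofPred_eq, hout]; exact hc, hout⟩
    conv_rhs => rw [← himg]
    rw [Set.ncard_image_of_injective _ Quotient.out_injective,
      Set.ncard_eq_toFinset_card', Set.toFinset_ofPred]
  rw [hcard]
  let sub : SubMulAction ↥(S : Subgroup G) (G ⧸ (S : Subgroup G)) :=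
    { carrier := F₁ᶜ
      smul_mem' := by
        intro s c hc hsc
        apply hc
        have h1 := hinv s⁻¹ _ hsc
        rwa [inv_smul_smul] at h1 }
  haveI : Fact (Nat.Prime 2) := ⟨Nat.prime_two⟩
  have hmod := IsPGroup.card_modEq_card_fixedPoints (p := 2) S.isPGroup' (α := ↥sub)
  have hempty : IsEmpty (MulAction.fixedPoints ↥(S : Subgroup G) ↥sub) := by
    constructor
    rintro ⟨⟨c, hc⟩, hfixed⟩
    apply hc
    have hfixed' : ∀ s : ↥(S : Subgroup G), s • c = c := by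
      intro s
      have := hfixed s
      exact congrArg Subtype.val this
    have hx : c.out⁻¹ ∈ Subgroup.normalizer ((S : Subgroup G) : Set G) := by
      apply conj_eq_of_le
      intro y hy
      rw [mem_conj, inv_inv] at hy
      have h1 := hfixed' ⟨_, hy⟩
      have h1' : (⟨c.out * y * c.out⁻¹, hy⟩ : ↥(S : Subgroup G)) •
          ((c.out : G) : G ⧸ (S : Subgroup G)) = ((c.out : G) : G ⧸ (S : Subgroup G)) := by
        rw [QuotientGroup.out_eq']; exact h1
      have h2 : ((c.out * y * c.out⁻¹ * c.out : G) : G ⧸ (S : Subgroup G)) =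
          (c.out : G ⧸ (S : Subgroup G)) := h1'
      have h4 := QuotientGroup.eq.1 h2
      have e : (c.out * y * c.out⁻¹ * c.out)⁻¹ * c.out = y⁻¹ := by group
      rw [e] at h4
      have := Subgroup.inv_mem _ h4
      rwa [inv_inv] at this
    have hx' : c.out ∈ Subgroup.normalizer ((S : Subgroup G) : Set G) := by
      have := Subgroup.inv_mem _ hx
      rwa [inv_inv] at this
    have hz := hN c.out hx'
    rw [hF₁]
    refine ⟨c.out, QuotientGroup.out_eq' c, by rw [hz]; exact hzS, ?_⟩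
    rw [← ht]
    congr 1
    exact Subtype.ext hz
  have h0 : Nat.card (MulAction.fixedPoints ↥(S : Subgroup G) ↥sub) = 0 := by
    haveI := hempty
    exact Nat.card_of_isEmpty
  rw [h0] at hmod
  have hsub : Nat.card ↥sub = (F₁ᶜ).ncard := Nat.card_coe_set_eq F₁ᶜ
  rw [hsub] at hmod
  have hsum : F₁.ncard + (F₁ᶜ).ncard = (S : Subgroup G).index := by
    rw [Set.ncard_add_ncard_compl, Subgroup.index_eq_card]
  have hodd : ¬ 2 ∣ (S : Subgroup G).index := S.not_dvd_index
  have h2 : 2 ∣ (F₁ᶜ).ncard := (Nat.modEq_zero_iff_dvd).1 hmod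
  obtain ⟨k, hk⟩ : ∃ k, F₁.ncard = 2 * k + 1 := by
    have : ¬ 2 ∣ F₁.ncard := by
      intro h
      exact hodd (by rw [← hsum]; exact Nat.dvd_add h h2)
    exact ⟨F₁.ncard / 2, by omega⟩
  rw [hk, pow_succ, pow_mul, ht2, one_pow, one_mul]


/-- Let S be a Sylow 2-subgroup of the finite group G. Then G has a proper normal subgroup of 2-power index (O²(G) ≠ G), or Ω₁(Z(S)) is contained in the Frattini subgroup of S, or N_G(S) acts nontrivially on Ω₁(Z(S)) by conjugation. -/
theorem result {G : Type*} [Group G] [Finite G] (S : Sylow 2 G) : Cfsg.pResidual 2 G ≠ ⊤ ∨ Cfsg.omegaOne 2 ((S : Subgroup G) ⊓ Subgroup.centralizer ((S : Subgroup G) : Set G)) ≤ (frattini ↥(S : Subgroup G)).map (S : Subgroup G).subtype ∨ ∃ g ∈ Subgroup.normalizer ((S : Subgroup G) : Set G), ∃ z ∈ Cfsg.omegaOne 2 ((S : Subgroup G) ⊓ Subgroup.centralizer ((S : Subgroup G) : Set G)), g * z * g⁻¹ ≠ z := by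
  classical
  by_contra hcon
  push_neg at hcon
  obtain ⟨h1, h2, h3⟩ := hcon
  have hex : ∃ z, z ∈ (S : Subgroup G) ⊓ Subgroup.centralizer ((S : Subgroup G) : Set G) ∧
      z ^ 2 = 1 ∧ z ∉ (frattini ↥(S : Subgroup G)).map (S : Subgroup G).subtype := by
    by_contra hne
    push_neg at hne
    apply h2
    unfold omegaOne
    rw [Subgroup.closure_le]
    rintro x ⟨hx1, hx2⟩
    exact hne x hx1 hx2
  obtain ⟨z, hzSC, hz2, hzF⟩ := hex
  have hzS : z ∈ (S : Subgroup G) := (Subgroup.mem_inf.1 hzSC).1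
  have hzΩ : z ∈ omegaOne 2 ((S : Subgroup G) ⊓ Subgroup.centralizer ((S : Subgroup G) : Set G)) :=
    Subgroup.subset_closure ⟨hzSC, hz2⟩
  have hzc : ∀ s ∈ (S : Subgroup G), s * z = z * s := fun s hs =>
    Subgroup.mem_centralizer_iff.1 (Subgroup.mem_inf.1 hzSC).2 s hs
  have hzF' : (⟨z, hzS⟩ : ↥(S : Subgroup G)) ∉ frattini ↥(S : Subgroup G) := by
    intro h
    exact hzF ⟨_, h, rfl⟩
  obtain ⟨M', hM', hzM'⟩ : ∃ M' : Subgroup ↥(S : Subgroup G), IsCoatom M' ∧
      (⟨z, hzS⟩ : ↥(S : Subgroup G)) ∉ M' := by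
    by_contra hne
    push_neg at hne
    apply hzF'
    unfold frattini Order.radical
    rw [Subgroup.mem_iInf]
    intro M
    rw [Subgroup.mem_iInf]
    intro hM
    exact hne M hM
  haveI : Fact (Nat.Prime 2) := ⟨Nat.prime_two⟩
  obtain ⟨hMn, hMc, hMp⟩ := Cfsg.Agent.S0012.coatom_pgroup 2 S.isPGroup' M' hM'
  haveI := hMn
  haveI hcm : IsMulCommutative (↥(S : Subgroup G) ⧸ M') := by
    rw [Subgroup.Normal.quotient_commutative_iff_commutator_le]
    exact hMc
  letI : CommGroup (↥(S : Subgroup G) ⧸ M') :=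
    { (inferInstance : Group (↥(S : Subgroup G) ⧸ M')) with mul_comm := hcm.is_comm.comm }
  have ht1 : (QuotientGroup.mk' M') ⟨z, hzS⟩ ≠ 1 := by
    rw [QuotientGroup.mk'_apply, Ne, QuotientGroup.eq_one_iff]
    exact hzM'
  have hsq : ∀ a : ↥(S : Subgroup G) ⧸ M', a ^ 2 = 1 := by
    intro a
    induction a using QuotientGroup.induction_on with
    | H s =>
      rw [← QuotientGroup.mk_pow, QuotientGroup.eq_one_iff]
      exact hMp s
  have hC : ∀ a : ↥(S : Subgroup G) ⧸ M', a = 1 ∨ a = (QuotientGroup.mk' M') ⟨z, hzS⟩ := by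
    intro a
    induction a using QuotientGroup.induction_on with
    | H s =>
      by_cases hs : s ∈ M'
      · left; exact (QuotientGroup.eq_one_iff s).2 hs
      · right
        have htop : M' ⊔ Subgroup.zpowers (⟨z, hzS⟩ : ↥(S : Subgroup G)) = ⊤ := by
          apply hM'.2
          apply lt_of_le_of_ne le_sup_left
          intro h
          apply hzM'
          rw [h]
          exact (le_sup_right : Subgroup.zpowers (⟨z, hzS⟩ : ↥(S : Subgroup G)) ≤ _)
            (Subgroup.mem_zpowers _)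
        have hsm : s ∈ ((M' ⊔ Subgroup.zpowers (⟨z, hzS⟩ : ↥(S : Subgroup G)) :
            Subgroup ↥(S : Subgroup G)) : Set ↥(S : Subgroup G)) := by
          rw [htop]; exact Subgroup.mem_top s
        rw [Subgroup.normal_mul] at hsm
        obtain ⟨m, hm, w, hw, hmw⟩ := Set.mem_mul.1 hsm
        obtain ⟨k, rfl⟩ := Subgroup.mem_zpowers_iff.1 hw
        have e1 : (QuotientGroup.mk s : ↥(S : Subgroup G) ⧸ M') =
            (QuotientGroup.mk' M') ⟨z, hzS⟩ ^ k := by
          rw [← hmw]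
          show (QuotientGroup.mk' M') (m * (⟨z, hzS⟩ : ↥(S : Subgroup G)) ^ k) = _
          have hm1 : (QuotientGroup.mk' M') m = 1 := (QuotientGroup.eq_one_iff m).2 hm
          rw [map_mul, map_zpow, hm1, one_mul]
        rcases Int.even_or_odd k with ⟨j, hj⟩ | ⟨j, hj⟩
        · exfalso
          apply hs
          rw [← QuotientGroup.eq_one_iff, e1, hj, ← two_mul, zpow_mul, zpow_ofNat, hsq, one_zpow]
        · rw [e1, hj, zpow_add, zpow_mul, zpow_ofNat, hsq, one_zpow, one_mul, zpow_one]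
  have hV := transfer_key S (QuotientGroup.mk' M') z hzS hz2 hzc
    (fun g hg => by
      have h4 := h3 g⁻¹ (Subgroup.inv_mem _ hg) z hzΩ
      rwa [inv_inv] at h4)
    _ rfl ht1 (hsq _) hC
  have hker : pResidual 2 G ≤ (MonoidHom.transfer (QuotientGroup.mk' M')).ker := by
    unfold pResidual
    rw [Subgroup.closure_le]
    intro g hg
    have hg' : (orderOf g).Coprime 2 := hg
    rw [SetLike.mem_coe, MonoidHom.mem_ker]
    have e1 : (MonoidHom.transfer (QuotientGroup.mk' M') g) ^ orderOf g = 1 := by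
      rw [← map_pow, pow_orderOf_eq_one, map_one]
    exact Cfsg.Agent.Lib.Helper16.Basic.eq_one_of_pow_eq_one_of_coprime e1 (hsq _) hg'
  rw [h1] at hker
  have hz1 : z ∈ (MonoidHom.transfer (QuotientGroup.mk' M')).ker := hker (Subgroup.mem_top z)
  rw [MonoidHom.mem_ker, hV] at hz1
  exact ht1 hz1

end Cfsg.Agent.S2872
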