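import Cfsg.Statements.S2873
import Cfsg.Agent.Lib.Helper9.Cores
import Cfsg.Agent.Lib.Helper21.BaerSuzuki

set_option autoImplicit false
open Cfsg

namespace Cfsg.Agent.S2873

theorem two_ne_zero_zmod {r : ℕ} [Fact r.Prime] (hr : r ≠ 2) : (2 : ZMod r) ≠ 0 := by
  intro h
  have h1 : ((2 : ℕ) : ZMod r) = 0 := by exact_mod_cast h
  rw [ZMod.natCast_eq_zero_iff] at h1
  have h2 := (Nat.prime_dvd_prime_iff_eq (Fact.out : r.Prime) Nat.prime_two).mp h1
  exact hr h2

theorem dih_cases {r : ℕ} [Fact r.Prime] (hr : r ≠ 2) (u : DihedralGroup r) (hu : orderOf u = 2) :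
    ∃ i, u = DihedralGroup.sr i := by
  cases u with
  | sr i => exact ⟨i, rfl⟩
  | r i =>
    exfalso
    have h1 : (DihedralGroup.r i) ^ 2 = 1 := by rw [← hu]; exact pow_orderOf_eq_one _
    rw [pow_two, DihedralGroup.r_mul_r, DihedralGroup.one_def] at h1
    have h2 : i + i = 0 := by injection h1
    have h3 : (2 : ZMod r) * i = 0 := by rw [two_mul]; exact h2
    haveI : Fact r.Prime := inferInstance
    have h4 : i = 0 := by
      rcases mul_eq_zero.mp h3 with h | h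
      · exact absurd h (two_ne_zero_zmod hr)
      · exact h
    rw [h4, ← DihedralGroup.one_def, orderOf_one] at hu
    omega

theorem dih_conj {r : ℕ} [Fact r.Prime] (hr : r ≠ 2) (u v : DihedralGroup r) (hu : orderOf u = 2)
    (hv : orderOf v = 2) : ∃ w, w * u * w⁻¹ = v := by
  obtain ⟨i, rfl⟩ := dih_cases hr u hu
  obtain ⟨j, rfl⟩ := dih_cases hr v hv
  refine ⟨DihedralGroup.r ((2 : ZMod r)⁻¹ * (i - j)), ?_⟩
  rw [mul_inv_eq_iff_eq_mul, DihedralGroup.r_mul_sr, DihedralGroup.sr_mul_r]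
  congr 1
  have h2 := two_ne_zero_zmod hr
  field_simp
  ring

theorem dih_inv {r : ℕ} [Fact r.Prime] (hr : r ≠ 2) (u y : DihedralGroup r) (hu : orderOf u = 2)
    (hy : y ^ r = 1) : u * y * u * y = 1 := by
  obtain ⟨i, rfl⟩ := dih_cases hr u hu
  cases y with
  | r j =>
    rw [DihedralGroup.sr_mul_r, DihedralGroup.sr_mul_sr, DihedralGroup.r_mul_r,
      DihedralGroup.one_def]
    congr 1
    ring
  | sr j =>
    exfalso
    rcases Nat.Prime.eq_two_or_odd' (Fact.out : r.Prime) with h | h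
    · exact hr h
    · have key : ∀ n : ℕ, Odd n →
          (DihedralGroup.sr j : DihedralGroup r) ^ n = DihedralGroup.sr j := by
        rintro n ⟨m, rfl⟩
        rw [pow_succ, pow_mul, pow_two, DihedralGroup.sr_mul_self, one_pow, one_mul]
      rw [key r h, DihedralGroup.one_def] at hy
      cases hy

theorem card_eq_prime_of {X : Type*} [Group X] [Finite X] {r : ℕ} [Fact r.Prime] (hr : r ≠ 2)
    (H : Subgroup X) (hH : IsPGroup r H) (hne : H ≠ ⊥) (m : ℕ) (hX : Nat.card X = 2 ^ m * r) :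
    Nat.card H = r := by
  obtain ⟨j, hj⟩ := hH.exists_card_eq
  have hrp : r.Prime := Fact.out
  have hdvd : r ^ j ∣ 2 ^ m * r := by
    rw [← hj, ← hX]; exact Subgroup.card_subgroup_dvd_card H
  have hcop : Nat.Coprime (r ^ j) (2 ^ m) := by
    apply Nat.Coprime.pow
    exact (Nat.coprime_primes hrp Nat.prime_two).mpr hr
  have h1 : r ^ j ∣ r := hcop.dvd_of_dvd_mul_left hdvd
  have hj1 : j ≤ 1 := by
    have : r ^ j ∣ r ^ 1 := by simpa using h1
    exact (Nat.pow_dvd_pow_iff_le_right hrp.one_lt).mp this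
  have hj0 : j ≠ 0 := by
    rintro rfl
    rw [pow_zero] at hj
    exact hne (Subgroup.card_eq_one.mp hj)
  have : j = 1 := by omega
  rw [hj, this, pow_one]

theorem arith (n i₁ i₂ c₁ c₂ : ℕ) (hn : 0 < n) (hq1 : n = i₁ * c₁) (hq2 : n = i₂ * c₂)
    (hβ : c₂ = c₁) (hα : c₁ * c₂ ≤ n) (hγ : i₁ * i₂ ≤ n) : c₁ ^ 2 = n := by
  subst hβ
  have h1 : n * n ≤ n * (c₂ * c₂) := by
    calc n * n = (i₁ * c₂) * (i₂ * c₂) := by rw [← hq1, ← hq2]
      _ = (i₁ * i₂) * (c₂ * c₂) := by ring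
      _ ≤ n * (c₂ * c₂) := Nat.mul_le_mul_right _ hγ
  have h2 : n ≤ c₂ * c₂ := Nat.le_of_mul_le_mul_left h1 hn
  rw [pow_two]
  exact le_antisymm hα h2

theorem aux {G : Type*} [Group G] [Finite G] {r : ℕ} [Fact r.Prime] (hr : r ≠ 2) (Q : Subgroup G)
    [hN : Q.Normal] (hQ2 : IsPGroup 2 Q) (e : G ⧸ Q ≃* DihedralGroup r) (R : Sylow r G)
    (hC : Q ⊓ Subgroup.centralizer ((R : Subgroup G) : Set G) = ⊥) :
    Nonempty (↥(Subgroup.normalizer ((R : Subgroup G) : Set G)) ≃* DihedralGroup r) ∧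
      ∀ a : G, a ∈ Subgroup.normalizer ((R : Subgroup G) : Set G) → orderOf a = 2 →
        (∀ b : G, orderOf b = 2 → b ∉ Q → ∃ g : G, g * a * g⁻¹ = b) ∧
          Nat.card ↥(Q ⊓ Subgroup.centralizer ({a} : Set G)) ^ 2 = Nat.card ↥Q := by
  classical
  have hrp : r.Prime := Fact.out
  haveI : Fact (Nat.Prime 2) := ⟨Nat.prime_two⟩
  obtain ⟨π, hπdef⟩ : ∃ π : G →* G ⧸ Q, π = QuotientGroup.mk' Q := ⟨_, rfl⟩
  have hπ : ∀ g, π g = 1 ↔ g ∈ Q := by
    intro g; rw [hπdef]; exact QuotientGroup.eq_one_iff g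
  have hπs : Function.Surjective π := by rw [hπdef]; exact QuotientGroup.mk'_surjective Q
  have hπker : π.ker = Q := by rw [hπdef]; exact QuotientGroup.ker_mk' Q
  obtain ⟨k, hk⟩ := hQ2.exists_card_eq
  have hcq : Nat.card (G ⧸ Q) = 2 * r := by
    rw [Nat.card_congr e.toEquiv, DihedralGroup.nat_card]
  have hcG : Nat.card G = 2 ^ (k + 1) * r := by
    rw [Subgroup.card_eq_card_quotient_mul_card_subgroup Q, hcq, hk]; ring
  have hcop2 : Nat.Coprime 2 r := (Nat.coprime_primes Nat.prime_two hrp).mpr (Ne.symm hr)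
  have hcop : Nat.Coprime (2 ^ k) r := Nat.Coprime.pow_left k hcop2
  have hRne : (R : Subgroup G) ≠ ⊥ := R.ne_bot_of_dvd_card (by rw [hcG]; exact dvd_mul_left _ _)
  have hRc : Nat.card (R : Subgroup G) = r := card_eq_prime_of hr _ R.isPGroup' hRne (k + 1) hcG
  have hRQ : ∀ x ∈ (R : Subgroup G), x ∈ Q → x = 1 := by
    intro x hxR hxQ
    have hd := IsPGroup.disjoint_of_ne r 2 hr (R : Subgroup G) Q R.isPGroup' hQ2
    exact Subgroup.disjoint_def.mp hd hxR hxQ
  have hRpow : ∀ x ∈ (R : Subgroup G), x ^ r = 1 := by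
    intro x hx
    have h1 : (⟨x, hx⟩ : (R : Subgroup G)) ^ Nat.card (R : Subgroup G) = 1 := pow_card_eq_one'
    rw [hRc] at h1
    exact congrArg Subtype.val h1
  have L1 : ∀ t : G, t ≠ 1 → t ^ r = 1 → ∀ u ∈ Q, u * t = t * u → u = 1 := by
    intro t ht1 htr u huQ hut
    have hot : orderOf t = r := orderOf_eq_prime htr ht1
    have hz : IsPGroup r (Subgroup.zpowers t) := by
      apply IsPGroup.of_card (n := 1)
      rw [Nat.card_zpowers, hot, pow_one]
    obtain ⟨S, hS⟩ := hz.exists_le_sylow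
    obtain ⟨g, hg⟩ := MulAction.exists_smul_eq G R S
    have htS : t ∈ (S : Subgroup G) := hS (Subgroup.mem_zpowers t)
    rw [← hg] at htS
    have htS' : g⁻¹ * t * g ∈ R :=
      (Cfsg.Agent.Lib.Helper21.BaerSuzuki.mem_smul_sylow g t R).mp htS
    have hx1 : g⁻¹ * t * g ≠ 1 := by
      intro h
      apply ht1
      have : t = g * (g⁻¹ * t * g) * g⁻¹ := by group
      rw [this, h]; group
    have hxr : (g⁻¹ * t * g) ^ r = 1 := by
      have h : g⁻¹ * t * g = g⁻¹ * t * g⁻¹⁻¹ := by rw [inv_inv]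
      rw [h, conj_pow, htr]; group
    have hzx : Subgroup.zpowers (g⁻¹ * t * g) = (R : Subgroup G) := by
      apply Subgroup.eq_of_le_of_card_ge
      · exact Subgroup.zpowers_le.mpr htS'
      · rw [Nat.card_zpowers, orderOf_eq_prime hxr hx1, hRc]
    have hu' : g⁻¹ * u * g ∈ Q ⊓ Subgroup.centralizer ((R : Subgroup G) : Set G) := by
      rw [Subgroup.mem_inf]
      refine ⟨?_, ?_⟩
      · have := hN.conj_mem u huQ g⁻¹
        rwa [inv_inv] at this
      · rw [← hzx, Subgroup.mem_centralizer_iff]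
        intro y hy
        obtain ⟨n, rfl⟩ := Subgroup.mem_zpowers_iff.mp hy
        have hc : Commute (g⁻¹ * t * g) (g⁻¹ * u * g) := by
          show g⁻¹ * t * g * (g⁻¹ * u * g) = g⁻¹ * u * g * (g⁻¹ * t * g)
          have e1 : g⁻¹ * t * g * (g⁻¹ * u * g) = g⁻¹ * (t * u) * g := by group
          have e2 : g⁻¹ * u * g * (g⁻¹ * t * g) = g⁻¹ * (u * t) * g := by group
          rw [e1, e2, hut]
        exact (hc.zpow_left n).eq
    rw [hC, Subgroup.mem_bot] at hu'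
    have : u = g * (g⁻¹ * u * g) * g⁻¹ := by group
    rw [this, hu']; group
  have L2 : ∀ t : G, t ∉ Q → t ^ r ∈ Q → t ^ r = 1 := by
    intro t htQ htr
    have hw1 : (t ^ 2 ^ k) ^ r = 1 := by
      rw [← pow_mul, mul_comm, pow_mul]
      have h1 : (⟨t ^ r, htr⟩ : Q) ^ Nat.card Q = 1 := pow_card_eq_one'
      rw [hk] at h1
      exact congrArg Subtype.val h1
    have hw2 : t ^ 2 ^ k ≠ 1 := by
      intro h
      apply htQ
      rw [← hπ]
      have h3 : orderOf (π t) ∣ 2 ^ k :=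
        orderOf_dvd_of_pow_eq_one (by rw [← map_pow, h, map_one])
      have h4 : orderOf (π t) ∣ r :=
        orderOf_dvd_of_pow_eq_one (by rw [← map_pow]; exact (hπ _).mpr htr)
      have h5 : orderOf (π t) = 1 := Nat.eq_one_of_dvd_coprimes hcop h3 h4
      exact orderOf_eq_one_iff.mp h5
    apply L1 (t ^ 2 ^ k) hw2 hw1 (t ^ r) htr
    rw [← pow_add, ← pow_add, add_comm]
  obtain ⟨N, hNdef⟩ : ∃ N : Subgroup G, N = Subgroup.normalizer ((R : Subgroup G) : Set G) :=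
    ⟨_, rfl⟩
  have hRN : (R : Subgroup G) ≤ N := by rw [hNdef]; exact Subgroup.le_normalizer
  have hNQ1 : ∀ z ∈ N, z ∈ Q → z = 1 := by
    intro z hzN hzQ
    have hmem : z ∈ Q ⊓ Subgroup.centralizer ((R : Subgroup G) : Set G) := by
      rw [Subgroup.mem_inf]
      refine ⟨hzQ, ?_⟩
      rw [Subgroup.mem_centralizer_iff]
      intro y hy
      have h1 : z * y * z⁻¹ ∈ (R : Subgroup G) := by
        rw [hNdef] at hzN
        exact (Subgroup.mem_normalizer_iff.mp hzN y).mp hy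
      have h2 : z * y * z⁻¹ * y⁻¹ ∈ Q := by
        have : z * y * z⁻¹ * y⁻¹ = z * (y * z⁻¹ * y⁻¹) := by group
        rw [this]
        exact Q.mul_mem hzQ (hN.conj_mem _ (Q.inv_mem hzQ) y)
      have h3 := hRQ _ ((R : Subgroup G).mul_mem h1 ((R : Subgroup G).inv_mem hy)) h2
      have : y * z = (z * y * z⁻¹ * y⁻¹)⁻¹ * (z * y) := by group
      rw [this, h3]; group
    rw [hC, Subgroup.mem_bot] at hmem
    exact hmem
  have hRbar : Nat.card ((R : Subgroup G).map π) = r := by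
    apply card_eq_prime_of hr _ (R.isPGroup'.map π) _ 1
    · rw [hcq]; ring
    · intro h
      obtain ⟨⟨y, hy⟩, hy1⟩ := Subgroup.ne_bot_iff_exists_ne_one.mp hRne
      apply hy1
      apply Subtype.ext
      apply hRQ y hy
      rw [← hπ]
      have : π y ∈ (R : Subgroup G).map π := Subgroup.mem_map_of_mem π hy
      rw [h, Subgroup.mem_bot] at this
      exact this
  have hidx : ((R : Subgroup G).map π).index = 2 := by
    have h1 := Subgroup.card_mul_index ((R : Subgroup G).map π)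
    rw [hRbar, hcq, mul_comm 2 r] at h1
    exact Nat.eq_of_mul_eq_mul_left hrp.pos h1
  haveI hMbar : ((R : Subgroup G).map π).Normal := Subgroup.normal_of_index_eq_two hidx
  obtain ⟨M, hMdef⟩ : ∃ M : Subgroup G, M = ((R : Subgroup G).map π).comap π := ⟨_, rfl⟩
  haveI hMn : M.Normal := by rw [hMdef]; exact hMbar.comap π
  have hMeq : M = (R : Subgroup G) ⊔ Q := by rw [hMdef, Subgroup.comap_map_eq, hπker]
  have hRM : (R : Subgroup G) ≤ M := by rw [hMeq]; exact le_sup_left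
  have hfr := Sylow.normalizer_sup_eq_top (R.subtype hRM)
  rw [Sylow.coe_subtype, Subgroup.subgroupOf_map_subtype, inf_eq_left.mpr hRM, ← hNdef] at hfr
  have hNQtop : N ⊔ Q = ⊤ := by
    rw [← hfr, hMeq, ← sup_assoc, sup_eq_left.mpr hRN]
  have hφinj : Function.Injective (π.comp N.subtype) := by
    rw [injective_iff_map_eq_one]
    intro z hz
    apply Subtype.ext
    exact hNQ1 z z.2 ((hπ _).mp hz)
  have hφsurj : Function.Surjective (π.comp N.subtype) := by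
    intro y
    obtain ⟨g, rfl⟩ := hπs y
    have hg : g ∈ N ⊔ Q := by rw [hNQtop]; exact Subgroup.mem_top g
    obtain ⟨n, hn, q, hq, rfl⟩ := Subgroup.mem_sup_of_normal_right.mp hg
    refine ⟨⟨n, hn⟩, ?_⟩
    show π n = π (n * q)
    rw [map_mul, (hπ q).mpr hq, mul_one]
  subst hNdef
  refine ⟨⟨(MulEquiv.ofBijective (π.comp _) ⟨hφinj, hφsurj⟩).trans e⟩, ?_⟩
  intro a haN ha2
  have ha1 : a ≠ 1 := by
    intro h; rw [h, orderOf_one] at ha2; omega
  have hasq : a * a = 1 := by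
    have := pow_orderOf_eq_one a
    rw [ha2, pow_two] at this; exact this
  have hainv : a⁻¹ = a := inv_eq_of_mul_eq_one_left hasq
  have haQ : a ∉ Q := fun h => ha1 (hNQ1 a haN h)
  have hπa : orderOf (e (π a)) = 2 := by
    apply orderOf_eq_prime
    · rw [← map_pow, ← map_pow, pow_two, hasq, map_one, map_one]
    · intro h
      apply haQ
      rw [← hπ]
      exact (EmbeddingLike.map_eq_one_iff (f := e)).mp h
  have hinv : ∀ y ∈ (R : Subgroup G), a * y * a = y⁻¹ := by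
    intro y hy
    have h1 : (e (π y)) ^ r = 1 := by rw [← map_pow, ← map_pow, hRpow y hy, map_one, map_one]
    have h2 := dih_inv hr (e (π a)) (e (π y)) hπa h1
    have h3 : π (a * y * a * y) = 1 := by
      apply e.injective
      simp only [map_mul, map_one]
      exact h2
    have h4 : a * y * a * y ∈ Q := (hπ _).mp h3
    have h5 : a * y * a ∈ (R : Subgroup G) := by
      have := (Subgroup.mem_normalizer_iff.mp haN y).mp hy
      rwa [hainv] at this
    have h6 := hRQ _ ((R : Subgroup G).mul_mem h5 hy) h4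
    exact eq_inv_of_mul_eq_one_left h6
  obtain ⟨⟨y₀, hy₀⟩, hy₀1⟩ := Subgroup.ne_bot_iff_exists_ne_one.mp hRne
  have hy₀1' : y₀ ≠ 1 := fun h => hy₀1 (Subtype.ext h)
  obtain ⟨a', ha'def⟩ : ∃ a' : G, a' = y₀ * a * y₀⁻¹ := ⟨_, rfl⟩
  obtain ⟨x, hxdef⟩ : ∃ x : G, x = y₀⁻¹ * y₀⁻¹ := ⟨_, rfl⟩
  have hxa : a * a' = x := by
    rw [ha'def, hxdef]
    have := hinv y₀ hy₀
    calc a * (y₀ * a * y₀⁻¹) = (a * y₀ * a) * y₀⁻¹ := by group
      _ = y₀⁻¹ * y₀⁻¹ := by rw [this]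
  have hxR : x ∈ (R : Subgroup G) := by
    rw [hxdef]; exact (R : Subgroup G).mul_mem (inv_mem hy₀) (inv_mem hy₀)
  have hx1 : x ≠ 1 := by
    intro h
    apply hy₀1'
    have h2 : y₀ ^ 2 = 1 := by
      rw [hxdef] at h
      have : y₀ ^ 2 = (y₀⁻¹ * y₀⁻¹)⁻¹ := by group
      rw [this, h, inv_one]
    have h3 : orderOf y₀ ∣ 2 := orderOf_dvd_of_pow_eq_one h2
    have h4 : orderOf y₀ ∣ r := orderOf_dvd_of_pow_eq_one (hRpow y₀ hy₀)
    have h5 : orderOf y₀ = 1 := Nat.eq_one_of_dvd_coprimes hcop2 h3 h4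
    exact orderOf_eq_one_iff.mp h5
  have hxQ : x ∉ Q := fun h => hx1 (hRQ x hxR h)
  have hxr : x ^ r = 1 := hRpow x hxR
  have ha'sq : a' * a' = 1 := by
    rw [ha'def]
    calc y₀ * a * y₀⁻¹ * (y₀ * a * y₀⁻¹) = y₀ * (a * a) * y₀⁻¹ := by group
      _ = 1 := by rw [hasq]; group
  have ha'inv : a'⁻¹ = a' := inv_eq_of_mul_eq_one_left ha'sq
  have K : ∀ b b' : G, π b = π a → π b' = π a' → b * b' ∉ Q ∧ (b * b') ^ r = 1 := by
    intro b b' hb hb'
    have h1 : π (b * b') = π x := by rw [map_mul, hb, hb', ← map_mul, hxa]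
    have h2 : b * b' ∉ Q := by
      intro h
      apply hxQ
      rw [← hπ, ← h1]; exact (hπ _).mpr h
    refine ⟨h2, L2 _ h2 ?_⟩
    rw [← hπ, map_pow, h1, ← map_pow, hxr, map_one]
  have conjQa : ∀ b : G, b * b = 1 → π b = π a → ∃ g : G, g * a * g⁻¹ = b := by
    intro b hbsq hb
    obtain ⟨htQ, htr⟩ := K b a' hb rfl
    obtain ⟨t, htdef⟩ : ∃ t : G, t = b * a' := ⟨_, rfl⟩
    rw [← htdef] at htr
    have hbinv : b⁻¹ = b := inv_eq_of_mul_eq_one_left hbsq
    have h1 : a' * t * a' = t⁻¹ := by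
      rw [htdef]
      calc a' * (b * a') * a' = a' * b * (a' * a') := by group
        _ = a'⁻¹ * b⁻¹ := by rw [ha'sq, mul_one, ha'inv, hbinv]
        _ = (b * a')⁻¹ := by group
    have h2 : ∀ n : ℕ, a' * t ^ n * a' = (t ^ n)⁻¹ := by
      intro n
      induction n with
      | zero => simp [ha'sq]
      | succ n ih =>
        calc a' * t ^ (n + 1) * a' = (a' * t ^ n * a') * (a' * t * a') := by
              rw [pow_succ]
              calc a' * (t ^ n * t) * a' = a' * t ^ n * 1 * t * a' := by group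
                _ = a' * t ^ n * (a' * a') * t * a' := by rw [ha'sq]
                _ = (a' * t ^ n * a') * (a' * t * a') := by group
          _ = (t ^ n)⁻¹ * t⁻¹ := by rw [ih, h1]
          _ = (t ^ (n + 1))⁻¹ := by rw [pow_succ', mul_inv_rev]
    obtain ⟨m, hm⟩ : ∃ m, r = 2 * m + 1 := by
      rcases Nat.Prime.eq_two_or_odd' hrp with h | h
      · exact absurd h hr
      · exact h
    have h3 : a' * (t ^ (m + 1))⁻¹ * a' = t ^ (m + 1) := by
      have h4 : (a' * t ^ (m + 1) * a')⁻¹ = t ^ (m + 1) := by rw [h2 (m + 1), inv_inv]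
      rw [mul_inv_rev, mul_inv_rev, ha'inv, ← mul_assoc] at h4
      exact h4
    refine ⟨t ^ (m + 1) * y₀, ?_⟩
    calc t ^ (m + 1) * y₀ * a * (t ^ (m + 1) * y₀)⁻¹
        = t ^ (m + 1) * (y₀ * a * y₀⁻¹) * (t ^ (m + 1))⁻¹ := by group
      _ = t ^ (m + 1) * a' * (t ^ (m + 1))⁻¹ := by rw [← ha'def]
      _ = t ^ (m + 1) * (a' * (t ^ (m + 1))⁻¹ * a') * a' := by
          calc t ^ (m + 1) * a' * (t ^ (m + 1))⁻¹
              = t ^ (m + 1) * a' * (t ^ (m + 1))⁻¹ * 1 := by rw [mul_one]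
            _ = t ^ (m + 1) * a' * (t ^ (m + 1))⁻¹ * (a' * a') := by rw [ha'sq]
            _ = t ^ (m + 1) * (a' * (t ^ (m + 1))⁻¹ * a') * a' := by
                simp only [mul_assoc]
      _ = t ^ (m + 1) * t ^ (m + 1) * a' := by rw [h3]
      _ = t ^ r * t * a' := by
          rw [← pow_add, ← pow_succ, hm]
          congr 2
          ring
      _ = b := by rw [htr, one_mul, htdef, mul_assoc, ha'sq, mul_one]
  refine ⟨?_, ?_⟩
  · intro b hb2 hbQ
    have hbsq : b * b = 1 := by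
      have := pow_orderOf_eq_one b
      rw [hb2, pow_two] at this; exact this
    have hπb : orderOf (e (π b)) = 2 := by
      apply orderOf_eq_prime
      · rw [← map_pow, ← map_pow, pow_two, hbsq, map_one, map_one]
      · intro h
        apply hbQ
        rw [← hπ]
        exact (EmbeddingLike.map_eq_one_iff (f := e)).mp h
    obtain ⟨w, hw⟩ := dih_conj hr (e (π a)) (e (π b)) hπa hπb
    obtain ⟨g₀, hg₀⟩ := hπs (e.symm w)
    have h1 : π (g₀ * a * g₀⁻¹) = π b := by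
      apply e.injective
      rw [map_mul, map_mul, map_inv, map_mul, map_mul, map_inv, hg₀, e.apply_symm_apply]
      exact hw
    have h2 : π (g₀⁻¹ * b * g₀) = π a := by
      rw [map_mul, map_mul, ← h1, map_mul, map_mul, map_inv]; group
    have h3 : (g₀⁻¹ * b * g₀) * (g₀⁻¹ * b * g₀) = 1 := by
      calc (g₀⁻¹ * b * g₀) * (g₀⁻¹ * b * g₀) = g₀⁻¹ * (b * b) * g₀ := by group
        _ = 1 := by rw [hbsq]; group
    obtain ⟨g, hg⟩ := conjQa _ h3 h2
    refine ⟨g₀ * g, ?_⟩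
    calc g₀ * g * a * (g₀ * g)⁻¹ = g₀ * (g * a * g⁻¹) * g₀⁻¹ := by group
      _ = b := by rw [hg]; group
  · obtain ⟨C₁, hC₁⟩ : ∃ C₁ : Subgroup G, C₁ = Q ⊓ Subgroup.centralizer ({a} : Set G) :=
      ⟨_, rfl⟩
    obtain ⟨C₂, hC₂⟩ : ∃ C₂ : Subgroup G, C₂ = Q ⊓ Subgroup.centralizer ({a'} : Set G) :=
      ⟨_, rfl⟩
    rw [← hC₁]
    have hmemC₁ : ∀ z, z ∈ C₁ ↔ z ∈ Q ∧ z * a = a * z := by
      intro z; rw [hC₁, Subgroup.mem_inf, Subgroup.mem_centralizer_iff]
      constructor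
      · rintro ⟨h1, h2⟩; exact ⟨h1, (h2 a rfl).symm⟩
      · rintro ⟨h1, h2⟩
        exact ⟨h1, fun h hh => by rw [Set.mem_singleton_iff.mp hh]; exact h2.symm⟩
    have hmemC₂ : ∀ z, z ∈ C₂ ↔ z ∈ Q ∧ z * a' = a' * z := by
      intro z; rw [hC₂, Subgroup.mem_inf, Subgroup.mem_centralizer_iff]
      constructor
      · rintro ⟨h1, h2⟩; exact ⟨h1, (h2 a' rfl).symm⟩
      · rintro ⟨h1, h2⟩
        exact ⟨h1, fun h hh => by rw [Set.mem_singleton_iff.mp hh]; exact h2.symm⟩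
    have hβ : Nat.card C₂ = Nat.card C₁ := by
      have hmap : C₂ = C₁.map (MulAut.conj y₀).toMonoidHom := by
        ext z
        rw [Subgroup.mem_map, hmemC₂]
        constructor
        · rintro ⟨hzQ, hz⟩
          refine ⟨y₀⁻¹ * z * y₀, (hmemC₁ _).mpr ⟨?_, ?_⟩, ?_⟩
          · have := hN.conj_mem z hzQ y₀⁻¹; rwa [inv_inv] at this
          · rw [ha'def] at hz
            calc y₀⁻¹ * z * y₀ * a = y₀⁻¹ * (z * (y₀ * a * y₀⁻¹)) * y₀ := by group
              _ = y₀⁻¹ * ((y₀ * a * y₀⁻¹) * z) * y₀ := by rw [hz]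
              _ = a * (y₀⁻¹ * z * y₀) := by group
          · show y₀ * (y₀⁻¹ * z * y₀) * y₀⁻¹ = z
            group
        · rintro ⟨w, hw, rfl⟩
          obtain ⟨hwQ, hwa⟩ := (hmemC₁ w).mp hw
          refine ⟨hN.conj_mem w hwQ y₀, ?_⟩
          show y₀ * w * y₀⁻¹ * a' = a' * (y₀ * w * y₀⁻¹)
          rw [ha'def]
          calc y₀ * w * y₀⁻¹ * (y₀ * a * y₀⁻¹) = y₀ * (w * a) * y₀⁻¹ := by group
            _ = y₀ * (a * w) * y₀⁻¹ := by rw [hwa]
            _ = y₀ * a * y₀⁻¹ * (y₀ * w * y₀⁻¹) := by group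
      rw [hmap]
      exact Subgroup.card_map_of_injective (MulAut.conj y₀).injective
    have hα : Nat.card C₁ * Nat.card C₂ ≤ Nat.card Q := by
      rw [← Nat.card_prod]
      apply Nat.card_le_card_of_injective (fun z : C₁ × C₂ => (⟨(z.1 : G) * (z.2 : G),
        Q.mul_mem ((hmemC₁ _).mp z.1.2).1 ((hmemC₂ _).mp z.2.2).1⟩ : Q))
      rintro ⟨⟨u, hu⟩, ⟨v, hv⟩⟩ ⟨⟨u₁, hu₁⟩, ⟨v₁, hv₁⟩⟩ h
      have h1 : u * v = u₁ * v₁ := congrArg Subtype.val h
      have hd : u₁⁻¹ * u = v₁ * v⁻¹ := by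
        calc u₁⁻¹ * u = u₁⁻¹ * (u * v) * v⁻¹ := by group
          _ = u₁⁻¹ * (u₁ * v₁) * v⁻¹ := by rw [h1]
          _ = v₁ * v⁻¹ := by group
      have hd1 : u₁⁻¹ * u ∈ C₁ := C₁.mul_mem (C₁.inv_mem hu₁) hu
      have hd2 : u₁⁻¹ * u ∈ C₂ := by rw [hd]; exact C₂.mul_mem hv₁ (C₂.inv_mem hv)
      have hd3 : u₁⁻¹ * u = 1 := by
        apply L1 x hx1 hxr _ ((hmemC₁ _).mp hd1).1
        rw [← hxa]
        have e1 := ((hmemC₁ _).mp hd1).2
        have e2 := ((hmemC₂ _).mp hd2).2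
        calc u₁⁻¹ * u * (a * a') = (u₁⁻¹ * u * a) * a' := by group
          _ = a * (u₁⁻¹ * u * a') := by rw [e1]; group
          _ = a * a' * (u₁⁻¹ * u) := by rw [e2]; group
      have hu_eq : u = u₁ := by
        have : u = u₁ * (u₁⁻¹ * u) := by group
        rw [this, hd3, mul_one]
      have hv_eq : v = v₁ := by
        rw [hu_eq] at h1
        exact mul_left_cancel h1
      subst hu_eq; subst hv_eq; rfl
    have core : ∀ u v u₁ v₁ : G, u ∈ Q → v ∈ Q → u₁ ∈ Q → v₁ ∈ Q →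
        (u * a * u⁻¹) * (v * a' * v⁻¹) = (u₁ * a * u₁⁻¹) * (v₁ * a' * v₁⁻¹) →
        u⁻¹ * u₁ ∈ C₁ ∧ v⁻¹ * v₁ ∈ C₂ := by
      intro u v u₁ v₁ hu hv hu₁ hv₁ h
      have hconj : ∀ (w c : G), w ∈ Q → π (w * c * w⁻¹) = π c := by
        intro w c hw
        rw [map_mul, map_mul, map_inv, (hπ w).mpr hw]; group
      have hsq : ∀ (w c : G), c * c = 1 → (w * c * w⁻¹) * (w * c * w⁻¹) = 1 := by
        intro w c hc
        calc (w * c * w⁻¹) * (w * c * w⁻¹) = w * (c * c) * w⁻¹ := by group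
          _ = 1 := by rw [hc]; group
      obtain ⟨b, hb⟩ : ∃ b : G, b = u * a * u⁻¹ := ⟨_, rfl⟩
      obtain ⟨b', hb'⟩ : ∃ b' : G, b' = v * a' * v⁻¹ := ⟨_, rfl⟩
      obtain ⟨b₁, hb₁⟩ : ∃ b₁ : G, b₁ = u₁ * a * u₁⁻¹ := ⟨_, rfl⟩
      obtain ⟨b₁', hb₁'⟩ : ∃ b₁' : G, b₁' = v₁ * a' * v₁⁻¹ := ⟨_, rfl⟩
      rw [← hb, ← hb', ← hb₁, ← hb₁'] at h
      have hbπ : π b = π a := by rw [hb]; exact hconj u a hu
      have hb'π : π b' = π a' := by rw [hb']; exact hconj v a' hv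
      have hb₁π : π b₁ = π a := by rw [hb₁]; exact hconj u₁ a hu₁
      have hbsq : b * b = 1 := by rw [hb]; exact hsq u a hasq
      have hb'sq : b' * b' = 1 := by rw [hb']; exact hsq v a' ha'sq
      have hb₁sq : b₁ * b₁ = 1 := by rw [hb₁]; exact hsq u₁ a hasq
      have hb₁'sq : b₁' * b₁' = 1 := by rw [hb₁']; exact hsq v₁ a' ha'sq
      obtain ⟨htQ, htr⟩ := K b b' hbπ hb'π
      obtain ⟨t, htdef⟩ : ∃ t : G, t = b * b' := ⟨_, rfl⟩
      rw [← htdef] at htQ htr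
      have ht1 : t ≠ 1 := by
        intro h1; apply htQ; rw [h1]; exact Q.one_mem
      have e1 : b * t * b = t⁻¹ := by
        rw [htdef]
        calc b * (b * b') * b = (b * b) * b' * b := by group
          _ = b'⁻¹ * b⁻¹ := by
              rw [hbsq, one_mul, inv_eq_of_mul_eq_one_left hb'sq, inv_eq_of_mul_eq_one_left hbsq]
          _ = (b * b')⁻¹ := by group
      have e2 : b₁ * t * b₁ = t⁻¹ := by
        rw [htdef, h]
        calc b₁ * (b₁ * b₁') * b₁ = (b₁ * b₁) * b₁' * b₁ := by group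
          _ = b₁'⁻¹ * b₁⁻¹ := by
              rw [hb₁sq, one_mul, inv_eq_of_mul_eq_one_left hb₁'sq,
                inv_eq_of_mul_eq_one_left hb₁sq]
          _ = (b₁ * b₁')⁻¹ := by group
      have hzQ : b * b₁ ∈ Q := by
        rw [← hπ, map_mul, hbπ, hb₁π, ← map_mul, hasq, map_one]
      have hzt : b * b₁ * t = t * (b * b₁) := by
        have s1 : b * b₁ * t = b * t⁻¹ * b₁ := by
          have : b₁ * t = t⁻¹ * b₁ := by
            calc b₁ * t = b₁ * t * (b₁ * b₁) := by rw [hb₁sq, mul_one]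
              _ = (b₁ * t * b₁) * b₁ := by group
              _ = t⁻¹ * b₁ := by rw [e2]
          rw [mul_assoc, this, mul_assoc]
        have s2 : t * (b * b₁) = b * t⁻¹ * b₁ := by
          have : t * b = b * t⁻¹ := by
            calc t * b = (b * b) * t * b := by rw [hbsq, one_mul]
              _ = b * (b * t * b) := by group
              _ = b * t⁻¹ := by rw [e1]
          rw [← mul_assoc, this]
        rw [s1, s2]
      have hz1 : b * b₁ = 1 := L1 t ht1 htr _ hzQ hzt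
      have hbb₁ : b₁ = b := by
        have : b₁ = b⁻¹ := eq_inv_of_mul_eq_one_right hz1
        rw [this, inv_eq_of_mul_eq_one_left hbsq]
      have hb'b₁' : b₁' = b' := by
        rw [hbb₁] at h
        exact (mul_left_cancel h).symm
      refine ⟨(hmemC₁ _).mpr ⟨Q.mul_mem (Q.inv_mem hu) hu₁, ?_⟩,
        (hmemC₂ _).mpr ⟨Q.mul_mem (Q.inv_mem hv) hv₁, ?_⟩⟩
      · rw [hb, hb₁] at hbb₁
        calc u⁻¹ * u₁ * a = u⁻¹ * (u₁ * a * u₁⁻¹) * u₁ := by group
          _ = u⁻¹ * (u * a * u⁻¹) * u₁ := by rw [hbb₁]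
          _ = a * (u⁻¹ * u₁) := by group
      · rw [hb', hb₁'] at hb'b₁'
        calc v⁻¹ * v₁ * a' = v⁻¹ * (v₁ * a' * v₁⁻¹) * v₁ := by group
          _ = v⁻¹ * (v * a' * v⁻¹) * v₁ := by rw [hb'b₁']
          _ = a' * (v⁻¹ * v₁) := by group
    have hγ : Nat.card (Q ⧸ C₁.subgroupOf Q) * Nat.card (Q ⧸ C₂.subgroupOf Q) ≤ Nat.card Q := by
      rw [← Nat.card_prod]
      have hval : ∀ z : (Q ⧸ C₁.subgroupOf Q) × (Q ⧸ C₂.subgroupOf Q),
          ((z.1.out : Q) : G) * a * ((z.1.out : Q) : G)⁻¹ *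
            (((z.2.out : Q) : G) * a' * ((z.2.out : Q) : G)⁻¹) * x⁻¹ ∈ Q := by
        intro z
        rw [← hπ, ← hxa]
        simp only [map_mul, map_inv]
        rw [(hπ _).mpr (z.1.out).2, (hπ _).mpr (z.2.out).2]
        group
      apply Nat.card_le_card_of_injective (fun z => (⟨_, hval z⟩ : Q))
      intro z z' h
      have h0 : ((z.1.out : Q) : G) * a * ((z.1.out : Q) : G)⁻¹ *
            (((z.2.out : Q) : G) * a' * ((z.2.out : Q) : G)⁻¹) * x⁻¹ =
          ((z'.1.out : Q) : G) * a * ((z'.1.out : Q) : G)⁻¹ *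
            (((z'.2.out : Q) : G) * a' * ((z'.2.out : Q) : G)⁻¹) * x⁻¹ := congrArg Subtype.val h
      have h1 := mul_right_cancel h0
      obtain ⟨k1, k2⟩ := core _ _ _ _ (z.1.out).2 (z.2.out).2 (z'.1.out).2 (z'.2.out).2 h1
      have r1 : z.1 = z'.1 := by
        rw [← QuotientGroup.out_eq' z.1, ← QuotientGroup.out_eq' z'.1, QuotientGroup.eq,
          Subgroup.mem_subgroupOf]
        exact k1
      have r2 : z.2 = z'.2 := by
        rw [← QuotientGroup.out_eq' z.2, ← QuotientGroup.out_eq' z'.2, QuotientGroup.eq,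
          Subgroup.mem_subgroupOf]
        exact k2
      exact Prod.ext r1 r2
    have hq1 := Subgroup.card_eq_card_quotient_mul_card_subgroup (C₁.subgroupOf Q)
    have hq2 := Subgroup.card_eq_card_quotient_mul_card_subgroup (C₂.subgroupOf Q)
    have hs1 : Nat.card (C₁.subgroupOf Q) = Nat.card C₁ :=
      Nat.card_congr (Subgroup.subgroupOfEquivOfLe (by rw [hC₁]; exact inf_le_left)).toEquiv
    have hs2 : Nat.card (C₂.subgroupOf Q) = Nat.card C₂ :=
      Nat.card_congr (Subgroup.subgroupOfEquivOfLe (by rw [hC₂]; exact inf_le_left)).toEquiv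
    rw [hs1] at hq1
    rw [hs2] at hq2
    exact arith _ _ _ _ _ Nat.card_pos hq1 hq2 hβ hα hγ

open Cfsg

/-- Let G be a finite group and r an odd prime such that G ⧸ O₂(G) is dihedral of order 2r, and let R be a Sylow r-subgroup of G with C_{O₂(G)}(R) = 1. Then N_G(R) is dihedral of order 2r; for any involution a of N_G(R), every involution of G outside O₂(G) is conjugate to a; and |C_{O₂(G)}(a)|² = |O₂(G)|. -/
theorem result {G : Type*} [Group G] [Finite G] {r : ℕ} [Fact r.Prime] (hr : r ≠ 2) [hN : (Cfsg.pCore 2 G).Normal] (hquot : Nonempty (G ⧸ Cfsg.pCore 2 G ≃* DihedralGroup r)) (R : Sylow r G) (hC : Cfsg.pCore 2 G ⊓ Subgroup.centralizer ((R : Subgroup G) : Set G) = ⊥) : Nonempty (↥(Subgroup.normalizer ((R : Subgroup G) : Set G)) ≃* DihedralGroup r) ∧ ∀ a : G, a ∈ Subgroup.normalizer ((R : Subgroup G) : Set G) → orderOf a = 2 → (∀ b : G, orderOf b = 2 → b ∉ Cfsg.pCore 2 G → ∃ g : G, g * a * g⁻¹ = b) ∧ Nat.card ↥(Cfsg.pCore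 2 G ⊓ Subgroup.centralizer ({a} : Set G)) ^ 2 = Nat.card ↥(Cfsg.pCore 2 G) := by
  exact aux hr (Cfsg.pCore 2 G) (Cfsg.Agent.Lib.Helper9.pCore_isPGroup 2 G) hquot.some R hC

end Cfsg.Agent.S2873
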