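import Cfsg.Statements.S2874
import Cfsg.Agent.Lib.Helper16.A4GL2c

set_option autoImplicit false
open Cfsg

namespace Cfsg.Agent.S2874

/-- For k ≥ 2, any two subgroups of GL₂(ℤ/2ᵏℤ) (the automorphism group of the homocyclic group ℤ/2ᵏ × ℤ/2ᵏ) that are isomorphic to the alternating group of degree 4 are conjugate. -/
theorem result (k : ℕ) (hk : 2 ≤ k) (H₁ H₂ : Subgroup (GL (Fin 2) (ZMod (2 ^ k)))) (h₁ : Nonempty (↥H₁ ≃* ↥(alternatingGroup (Fin 4)))) (h₂ : Nonempty (↥H₂ ≃* ↥(alternatingGroup (Fin 4)))) : ∃ g : GL (Fin 2) (ZMod (2 ^ k)), H₂ = H₁.map (MulAut.conj g).toMonoidHom := by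
  obtain ⟨e₁⟩ := h₁
  obtain ⟨e₂⟩ := h₂
  obtain ⟨γ₁, h1⟩ := Cfsg.Agent.Lib.Helper16.A4GL2.key hk H₁ e₁
  obtain ⟨γ₂, h2⟩ := Cfsg.Agent.Lib.Helper16.A4GL2.key hk H₂ e₂
  refine ⟨γ₂ * γ₁⁻¹, ?_⟩
  ext x
  rw [Subgroup.mem_map, h2]
  constructor
  · intro hx
    refine ⟨γ₁ * γ₂⁻¹ * x * γ₂ * γ₁⁻¹, ?_, ?_⟩
    · rw [h1]
      have e : γ₁⁻¹ * (γ₁ * γ₂⁻¹ * x * γ₂ * γ₁⁻¹) * γ₁ = γ₂⁻¹ * x * γ₂ := by group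
      rw [e]
      exact hx
    · show MulAut.conj (γ₂ * γ₁⁻¹) (γ₁ * γ₂⁻¹ * x * γ₂ * γ₁⁻¹) = x
      rw [MulAut.conj_apply]
      group
  · rintro ⟨y, hy, rfl⟩
    rw [h1] at hy
    have e : γ₂⁻¹ * ((MulAut.conj (γ₂ * γ₁⁻¹)).toMonoidHom y) * γ₂ = γ₁⁻¹ * y * γ₁ := by
      show γ₂⁻¹ * (MulAut.conj (γ₂ * γ₁⁻¹) y) * γ₂ = _
      rw [MulAut.conj_apply]
      group
    rw [e]
    exact hy

end Cfsg.Agent.S2874
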