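import Cfsg.Statements.S3215
import Mathlib
import Cfsg.Agent.S0041
import Cfsg.Agent.S0044
import Cfsg.Agent.Lib.Helper9.Coprime
import Cfsg.Agent.Lib.Helper9.Cores
import Cfsg.Agent.Lib.Lead.Cores
import Cfsg.Agent.Lib.Helper19.RelIndex
import Cfsg.Agent.Lib.Helper18.UniqueInvolution

set_option autoImplicit false
open Cfsg

namespace Cfsg.Agent.S3215


theorem eq_one_of_odd_of_two_pow {K : Type*} [Group K] {x : K} (hx : Odd (orderOf x)) {k : ℕ}
    (h : x ^ (2 ^ k) = 1) : x = 1 := by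
  have h1 : orderOf x ∣ 2 ^ k := orderOf_dvd_of_pow_eq_one h
  have h2 : (orderOf x).Coprime (2 ^ k) := Nat.Coprime.pow_right k (Nat.coprime_two_right.2 hx)
  exact orderOf_eq_one_iff.1 (Nat.Coprime.eq_one_of_dvd h2 h1)

section
variable {H : Type*} [Group H] [Finite H]

theorem comm_of_npc (Y : Subgroup H) [hYn : Y.Normal] (hY : IsPGroup 2 Y) (t : H)
    (hnpc : Cfsg.HasNormalPComplement 2 ↥(Subgroup.centralizer ({t} : Set H)))
    (x : H) (hx : Odd (orderOf x)) (hxt : x * t = t * x) (u : H) (hu : u ∈ Y)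
    (hut : u * t = t * u) : x * u = u * x := by
  obtain ⟨P, N, hNn, hNP⟩ := hnpc
  have hxC : x ∈ Subgroup.centralizer ({t} : Set H) := by
    rw [Subgroup.mem_centralizer_iff]
    intro h hh
    rw [Set.mem_singleton_iff] at hh
    rw [hh]; exact hxt.symm
  have huC : u ∈ Subgroup.centralizer ({t} : Set H) := by
    rw [Subgroup.mem_centralizer_iff]
    intro h hh
    rw [Set.mem_singleton_iff] at hh
    rw [hh]; exact hut.symm
  obtain ⟨m, hm⟩ := P.isPGroup'.exists_card_eq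
  have hNi : N.index = 2 ^ m := by rw [hNP.symm.index_eq_card, hm]
  have hNodd : Odd (Nat.card N) := by
    rw [← hNP.index_eq_card]
    exact Nat.odd_iff.2 (Nat.two_dvd_ne_zero.1 P.not_dvd_index)
  have hxN : (⟨x, hxC⟩ : Subgroup.centralizer ({t} : Set H)) ∈ N := by
    have h1 : (⟨x, hxC⟩ : Subgroup.centralizer ({t} : Set H)) ^ (2 ^ m) ∈ N := by
      rw [← hNi]; exact Subgroup.pow_index_mem N _
    have h2 : (2 ^ m).Coprime (orderOf (⟨x, hxC⟩ : Subgroup.centralizer ({t} : Set H))) := by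
      rw [Subgroup.orderOf_mk]
      exact Nat.Coprime.pow_left m (Nat.coprime_two_left.2 hx)
    obtain ⟨j, hj⟩ := exists_pow_eq_self_of_coprime h2
    rw [← hj]
    exact N.pow_mem h1 j
  obtain ⟨c, hc⟩ : ∃ c : Subgroup.centralizer ({t} : Set H),
      c = ⟨x, hxC⟩ * ⟨u, huC⟩ * ⟨x, hxC⟩⁻¹ * ⟨u, huC⟩⁻¹ := ⟨_, rfl⟩
  have hcN : c ∈ N := by
    have h1 := hNn.conj_mem _ (N.inv_mem hxN) ⟨u, huC⟩
    have h2 := N.mul_mem hxN h1
    have h3 : c = ⟨x, hxC⟩ * (⟨u, huC⟩ * ⟨x, hxC⟩⁻¹ * ⟨u, huC⟩⁻¹) := by rw [hc]; group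
    rw [h3]; exact h2
  have hcval : (c : H) = x * u * x⁻¹ * u⁻¹ := by rw [hc]; rfl
  have hcY : x * u * x⁻¹ * u⁻¹ ∈ Y := Y.mul_mem (hYn.conj_mem u hu x) (Y.inv_mem hu)
  have hco : Odd (orderOf c) := by
    have h1 : orderOf (⟨c, hcN⟩ : N) ∣ Nat.card N := orderOf_dvd_natCard _
    rw [Subgroup.orderOf_mk] at h1
    exact Odd.of_dvd_nat hNodd h1
  obtain ⟨k, hk⟩ := hY ⟨x * u * x⁻¹ * u⁻¹, hcY⟩
  have hk' : c ^ (2 ^ k) = 1 := by
    apply Subtype.ext
    rw [Subgroup.coe_pow, hcval]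
    exact congrArg Subtype.val hk
  have hc1 : c = 1 := eq_one_of_odd_of_two_pow hco hk'
  have hc1' : x * u * x⁻¹ * u⁻¹ = 1 := by rw [← hcval, hc1]; rfl
  calc x * u = (x * u * x⁻¹ * u⁻¹) * (u * x) := by group
    _ = u * x := by rw [hc1', one_mul]

theorem centralizer_pCore_le (hsol : Group.IsSolvable H) (hO : Cfsg.oddCore H = ⊥) :
    Subgroup.centralizer (Cfsg.pCore 2 H : Set H) ≤ Cfsg.pCore 2 H := by
  have := hsol
  have h1 : Cfsg.fittingSubgroup H ≤ Cfsg.pCore 2 H := by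
    have h := Cfsg.Agent.Lib.Lead.Cores.fittingSubgroup_le_sup (G := H) 2
    have hO' : Cfsg.pPrimeCore 2 H = ⊥ := hO
    rw [hO', sup_bot_eq] at h
    exact h
  have h2 : Cfsg.pCore 2 H ≤ Cfsg.fittingSubgroup H :=
    Cfsg.Agent.Lib.Lead.Cores.pCore_le_fittingSubgroup 2
  have h3 : Cfsg.fittingSubgroup H = Cfsg.pCore 2 H := le_antisymm h1 h2
  have h4 := Cfsg.Agent.S0044.result (G := H)
  rw [h3] at h4
  exact h4

theorem fpf_core (hsol : Group.IsSolvable H) (hO : Cfsg.oddCore H = ⊥)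
    (hI : ∀ t : H, orderOf t = 2 →
      Cfsg.HasNormalPComplement 2 ↥(Subgroup.centralizer ({t} : Set H)))
    (x : H) (hx : Odd (orderOf x)) (y : H) (hy : y ∈ Cfsg.pCore 2 H) (hy1 : y ≠ 1)
    (hxy : x * y = y * x) : x = 1 := by
  have hYp : IsPGroup 2 (Cfsg.pCore 2 H) := Cfsg.Agent.Lib.Lead.Cores.pCore_isPGroup 2
  obtain ⟨k, hk⟩ := hYp ⟨y, hy⟩
  have hk' : y ^ (2 ^ k) = 1 := congrArg Subtype.val hk
  obtain ⟨j, -, hj⟩ := (Nat.dvd_prime_pow Nat.prime_two).1 (orderOf_dvd_of_pow_eq_one hk')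
  have hj0 : j ≠ 0 := by
    rintro rfl
    rw [pow_zero, orderOf_eq_one_iff] at hj
    exact hy1 hj
  obtain ⟨i, rfl⟩ := Nat.exists_eq_succ_of_ne_zero hj0
  obtain ⟨t, ht⟩ : ∃ t : H, t = y ^ (2 ^ i) := ⟨_, rfl⟩
  have ht2 : orderOf t = 2 := by
    apply orderOf_eq_prime
    · rw [ht, ← pow_mul, ← pow_succ, ← hj, pow_orderOf_eq_one]
    · rw [ht]
      apply pow_ne_one_of_lt_orderOf (pow_ne_zero i two_ne_zero)
      rw [hj]
      exact Nat.pow_lt_pow_right (by norm_num) (Nat.lt_succ_self i)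
  have htY : t ∈ Cfsg.pCore 2 H := by rw [ht]; exact Subgroup.pow_mem _ hy _
  have hxt : x * t = t * x := by
    rw [ht]
    exact ((show Commute x y from hxy).pow_right _)
  have hB : IsPGroup 2 (Subgroup.zpowers t) := by
    apply IsPGroup.of_card (n := 1)
    rw [Nat.card_zpowers, ht2, pow_one]
  have hcoprime : (orderOf x).Coprime 2 := Nat.coprime_two_right.2 hx
  have hall := Cfsg.Agent.Lib.Helper9.thompson_AxB (G := H) (p := 2) hcoprime hB hYp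
    (by
      intro b hb
      obtain ⟨n, rfl⟩ := Subgroup.mem_zpowers_iff.1 hb
      exact ((show Commute x t from hxt).zpow_right n))
    (by
      rw [Subgroup.mem_normalizer_iff]
      intro h
      exact ⟨fun hh => (Cfsg.pCore_normal 2 H).conj_mem h hh x,
        fun hh => by
          have := (Cfsg.pCore_normal 2 H).conj_mem _ hh x⁻¹
          have e : x⁻¹ * (x * h * x⁻¹) * x⁻¹⁻¹ = h := by group
          rwa [e] at this⟩)
    (by
      intro b _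
      rw [Subgroup.mem_normalizer_iff]
      intro h
      exact ⟨fun hh => (Cfsg.pCore_normal 2 H).conj_mem h hh b,
        fun hh => by
          have := (Cfsg.pCore_normal 2 H).conj_mem _ hh b⁻¹
          have e : b⁻¹ * (b * h * b⁻¹) * b⁻¹⁻¹ = h := by group
          rwa [e] at this⟩)
    (by
      intro u hu hub
      exact comm_of_npc (Cfsg.pCore 2 H) hYp t (hI t ht2) x hx hxt u hu
        (hub t (Subgroup.mem_zpowers t)).symm)
  have hxC : x ∈ Subgroup.centralizer (Cfsg.pCore 2 H : Set H) := by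
    rw [Subgroup.mem_centralizer_iff]
    intro h hh
    exact (hall h hh).symm
  have hxY := centralizer_pCore_le hsol hO hxC
  obtain ⟨k', hk'⟩ := hYp ⟨x, hxY⟩
  exact eq_one_of_odd_of_two_pow hx (congrArg Subtype.val hk')

theorem pCore_ne_bot (hsol : Group.IsSolvable H) (hO : Cfsg.oddCore H = ⊥) (x : H) (hx1 : x ≠ 1) :
    Cfsg.pCore 2 H ≠ ⊥ := by
  intro h
  have h1 := centralizer_pCore_le hsol hO
  rw [h] at h1
  have h2 : x ∈ Subgroup.centralizer (((⊥ : Subgroup H)) : Set H) := by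
    rw [Subgroup.mem_centralizer_iff]
    intro h hh
    rw [Subgroup.coe_bot, Set.mem_singleton_iff] at hh
    rw [hh, one_mul, mul_one]
  exact hx1 (Subgroup.mem_bot.1 (h1 h2))

theorem fpf_invol (hsol : Group.IsSolvable H) (hO : Cfsg.oddCore H = ⊥)
    (hI : ∀ t : H, orderOf t = 2 →
      Cfsg.HasNormalPComplement 2 ↥(Subgroup.centralizer ({t} : Set H)))
    (x : H) (hx : Odd (orderOf x)) (u : H) (hu : orderOf u = 2) (hxu : x * u = u * x) : x = 1 := by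
  classical
  by_contra hx1
  have hYp : IsPGroup 2 (Cfsg.pCore 2 H) := Cfsg.Agent.Lib.Lead.Cores.pCore_isPGroup 2
  have hYne := pCore_ne_bot hsol hO x hx1
  have huu : u * u = 1 := by rw [← pow_two, ← hu, pow_orderOf_eq_one]
  have huinv : u⁻¹ = u := inv_eq_of_mul_eq_one_left huu
  obtain ⟨y, hy, hy1, hyu⟩ : ∃ y ∈ Cfsg.pCore 2 H, y ≠ 1 ∧ u * y = y * u := by
    let _ : Fintype (Cfsg.pCore 2 H) := Fintype.ofFinite _
    let σ : Equiv.Perm (Cfsg.pCore 2 H) :=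
      { toFun := fun y => ⟨u * y * u⁻¹, (Cfsg.pCore_normal 2 H).conj_mem y y.2 u⟩
        invFun := fun y => ⟨u⁻¹ * y * u, by
          have := (Cfsg.pCore_normal 2 H).conj_mem y y.2 u⁻¹
          rwa [inv_inv] at this⟩
        left_inv := fun y => by
          apply Subtype.ext
          show u⁻¹ * (u * y * u⁻¹) * u = y
          group
        right_inv := fun y => by
          apply Subtype.ext
          show u * (u⁻¹ * y * u) * u⁻¹ = y
          group }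
    have hσ : σ ^ 2 ^ 1 = 1 := by
      apply Equiv.Perm.ext
      intro y
      apply Subtype.ext
      rw [pow_one, pow_two, Equiv.Perm.mul_apply, Equiv.Perm.one_apply]
      show u * (u * y * u⁻¹) * u⁻¹ = y
      rw [huinv]
      calc u * (u * ↑y * u) * u = (u * u) * y * (u * u) := by group
        _ = y := by rw [huu, one_mul, mul_one]
    have hdvd : 2 ∣ Fintype.card (Cfsg.pCore 2 H) := by
      obtain ⟨n, hn⟩ := hYp.exists_card_eq
      rw [← Nat.card_eq_fintype_card, hn]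
      have hn0 : n ≠ 0 := by
        rintro rfl
        rw [pow_zero] at hn
        exact hYne ((Subgroup.card_eq_one).1 hn)
      exact dvd_pow_self 2 hn0
    have h1 : σ 1 = 1 := by
      apply Subtype.ext
      show u * ((1 : Cfsg.pCore 2 H) : H) * u⁻¹ = ((1 : Cfsg.pCore 2 H) : H)
      rw [Subgroup.coe_one, mul_one, mul_inv_cancel]
    obtain ⟨b, hb, hb1⟩ := Equiv.Perm.exists_fixed_point_of_prime' (p := 2) hdvd hσ h1
    refine ⟨b, b.2, fun h => hb1 (Subtype.ext h), ?_⟩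
    have h2 : u * (b : H) * u⁻¹ = b := congrArg Subtype.val hb
    calc u * (b : H) = (u * b * u⁻¹) * u := by group
      _ = b * u := by rw [h2]
  have h1 : x * y = y * x :=
    comm_of_npc (Cfsg.pCore 2 H) hYp u (hI u hu) x hx hxu y hy hyu.symm
  exact hx1 (fpf_core hsol hO hI x hx y hy hy1 h1)

theorem odd_pgroup_cyclic (hsol : Group.IsSolvable H) (hO : Cfsg.oddCore H = ⊥)
    (hI : ∀ t : H, orderOf t = 2 →
      Cfsg.HasNormalPComplement 2 ↥(Subgroup.centralizer ({t} : Set H)))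
    (p : ℕ) [Fact p.Prime] (hp2 : p ≠ 2) (P : Subgroup H) (hP : IsPGroup p P) : IsCyclic P := by
  classical
  by_contra hnc
  have hpp := (Fact.out : p.Prime)
  have hpodd : Odd p := hpp.odd_of_ne_two hp2
  have hE : ¬ (Set.ncard {g : P | g ^ p = 1} ≤ p) := fun h =>
    hnc (Cfsg.Agent.Lib.Helper18.UniqueInvolution.isCyclic_of_odd p hp2 _ P rfl hP h)
  have hnt : Nontrivial P := by
    by_contra h
    rw [not_nontrivial_iff_subsingleton] at h
    exact hnc inferInstance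
  have hcnt : Nontrivial (Subgroup.center P) := hP.center_nontrivial
  obtain ⟨z₀, hz₀⟩ := exists_ne (1 : Subgroup.center P)
  obtain ⟨z, hzc, hzp, hz1⟩ : ∃ z : P, (∀ g : P, g * z = z * g) ∧ z ^ p = 1 ∧ z ≠ 1 := by
    obtain ⟨k, hk⟩ := (IsPGroup.iff_orderOf.1 hP) (z₀ : P)
    have hk0 : k ≠ 0 := by
      rintro rfl
      rw [pow_zero, orderOf_eq_one_iff] at hk
      exact hz₀ (Subtype.ext hk)
    obtain ⟨i, rfl⟩ := Nat.exists_eq_succ_of_ne_zero hk0
    refine ⟨(z₀ : P) ^ (p ^ i), ?_, ?_, ?_⟩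
    · intro g
      have h1 : g * (z₀ : P) = (z₀ : P) * g := Subgroup.mem_center_iff.1 z₀.2 g
      exact ((show Commute g (z₀ : P) from h1).pow_right _)
    · rw [← pow_mul, ← pow_succ, ← hk, pow_orderOf_eq_one]
    · apply pow_ne_one_of_lt_orderOf (pow_ne_zero i hpp.ne_zero)
      rw [hk]
      exact Nat.pow_lt_pow_right hpp.one_lt (Nat.lt_succ_self i)
  have hzo : orderOf z = p := orderOf_eq_prime hzp hz1
  obtain ⟨w, hwp, hwz⟩ : ∃ w : P, w ^ p = 1 ∧ w ∉ Subgroup.zpowers z := by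
    by_contra hcon
    push Not at hcon
    apply hE
    have hsub : {g : P | g ^ p = 1} ⊆ (Subgroup.zpowers z : Set P) := fun g hg => hcon g hg
    calc Set.ncard {g : P | g ^ p = 1} ≤ Set.ncard (Subgroup.zpowers z : Set P) :=
          Set.ncard_le_ncard hsub (Set.toFinite _)
      _ = Nat.card (Subgroup.zpowers z) := (Nat.card_coe_set_eq _).symm
      _ = p := by rw [Nat.card_zpowers, hzo]
  -- the subgroup generated by `z` and `w`
  obtain ⟨E, hEdef⟩ : ∃ E : Subgroup H, E = Subgroup.closure {(z : H), (w : H)} := ⟨_, rfl⟩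
  have hEc : IsMulCommutative E := by
    rw [hEdef]
    apply Subgroup.isMulCommutative_closure
    have hwz' : (w : H) * (z : H) = (z : H) * (w : H) := congrArg Subtype.val (hzc w)
    intro a ha b hb
    rcases ha with rfl | rfl <;> rcases hb with rfl | rfl
    · rfl
    · exact hwz'.symm
    · exact hwz'
    · rfl
  have hEP : E ≤ P := by
    rw [hEdef, Subgroup.closure_le]
    intro a ha
    rcases ha with rfl | rfl
    · exact z.2
    · exact w.2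
  have hzE : (z : H) ∈ E := by rw [hEdef]; exact Subgroup.subset_closure (Set.mem_insert _ _)
  have hwE : (w : H) ∈ E := by
    rw [hEdef]; exact Subgroup.subset_closure (Set.mem_insert_of_mem _ rfl)
  have hz1' : (z : H) ≠ 1 := fun h => hz1 (Subtype.ext h)
  have hYne := pCore_ne_bot hsol hO (z : H) hz1'
  have hYp : IsPGroup 2 (Cfsg.pCore 2 H) := Cfsg.Agent.Lib.Lead.Cores.pCore_isPGroup 2
  -- the centre of `O_2(H)`
  obtain ⟨V, hVdef⟩ : ∃ V : Subgroup H,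
      V = (Subgroup.center (Cfsg.pCore 2 H)).map (Cfsg.pCore 2 H).subtype := ⟨_, rfl⟩
  have hVc : IsMulCommutative V := by rw [hVdef]; infer_instance
  have hVn : V.Normal := by
    have := Cfsg.pCore_normal 2 H
    rw [hVdef]; infer_instance
  have hVY : V ≤ Cfsg.pCore 2 H := by rw [hVdef]; exact Subgroup.map_subtype_le _
  have hVne : V ≠ ⊥ := by
    have h1 : Nontrivial (Cfsg.pCore 2 H) := (Subgroup.nontrivial_iff_ne_bot _).2 hYne
    have h2 : Nontrivial (Subgroup.center (Cfsg.pCore 2 H)) := hYp.center_nontrivial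
    have h3 : Subgroup.center (Cfsg.pCore 2 H) ≠ ⊥ := (Subgroup.nontrivial_iff_ne_bot _).1 h2
    rw [hVdef]
    intro h
    exact h3 ((Subgroup.map_eq_bot_iff_of_injective _ (Subgroup.subtype_injective _)).1 h)
  have hAV : E ≤ Subgroup.normalizer (V : Set H) := by
    intro a _
    rw [Subgroup.mem_normalizer_iff]
    intro h
    exact ⟨fun hh => hVn.conj_mem h hh a,
      fun hh => by
        have := hVn.conj_mem _ hh a⁻¹
        have e : a⁻¹ * (a * h * a⁻¹) * a⁻¹⁻¹ = h := by group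
        rwa [e] at this⟩
  have hfpf : ∀ a ∈ E, a ≠ 1 → V ⊓ Subgroup.centralizer {a} = ⊥ := by
    intro a ha ha1
    rw [eq_bot_iff]
    intro v hv
    rw [Subgroup.mem_bot]
    by_contra hv1
    apply ha1
    have hao : Odd (orderOf a) := by
      obtain ⟨k, hk⟩ := (IsPGroup.iff_orderOf.1 hP) ⟨a, hEP ha⟩
      rw [Subgroup.orderOf_mk] at hk
      rw [hk]
      exact hpodd.pow
    have hav : a * v = v * a :=
      Subgroup.mem_centralizer_iff.1 hv.2 a (Set.mem_singleton a)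
    exact fpf_core hsol hO hI a hao v (hVY hv.1) hv1 hav
  have hcyc : IsCyclic E := Cfsg.Agent.S0041.result E V hVne hAV hfpf (Or.inl hEc)
  -- contradiction
  have hS : Set.ncard {a : E | a ^ p = 1} ≤ p := by
    let _ : Fintype E := Fintype.ofFinite E
    have h := IsCyclic.card_pow_eq_one_le (α := E) hpp.pos
    rw [← Set.ncard_coe_finset] at h
    convert h using 2
    ext a
    simp
  obtain ⟨zE, hzE'⟩ : ∃ zE : E, (zE : H) = z := ⟨⟨_, hzE⟩, rfl⟩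
  obtain ⟨wE, hwE'⟩ : ∃ wE : E, (wE : H) = w := ⟨⟨_, hwE⟩, rfl⟩
  have hzEo : orderOf zE = p := by
    rw [← Subgroup.orderOf_coe, hzE', Subgroup.orderOf_coe, hzo]
  have hsub : (Subgroup.zpowers zE : Set E) ⊆ {a : E | a ^ p = 1} := by
    intro a ha
    obtain ⟨n, rfl⟩ := Subgroup.mem_zpowers_iff.1 ha
    show (zE ^ n) ^ p = 1
    rw [← zpow_natCast, ← zpow_mul, mul_comm, zpow_mul, zpow_natCast, ← hzEo, pow_orderOf_eq_one,
      one_zpow]
  have hcard : Set.ncard {a : E | a ^ p = 1} ≤ Set.ncard (Subgroup.zpowers zE : Set E) := by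
    rw [← Nat.card_coe_set_eq (Subgroup.zpowers zE : Set E)]
    show _ ≤ Nat.card (Subgroup.zpowers zE)
    rw [Nat.card_zpowers, hzEo]
    exact hS
  have heq := Set.eq_of_subset_of_ncard_le hsub hcard (Set.toFinite _)
  have hwmem : wE ∈ (Subgroup.zpowers zE : Set E) := by
    rw [heq]
    show wE ^ p = 1
    apply Subtype.ext
    rw [Subgroup.coe_pow, hwE', ← Subgroup.coe_pow, hwp]
    rfl
  obtain ⟨n, hn⟩ := Subgroup.mem_zpowers_iff.1 hwmem
  apply hwz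
  rw [Subgroup.mem_zpowers_iff]
  refine ⟨n, ?_⟩
  apply Subtype.ext
  have h1 : ((zE ^ n : E) : H) = wE := congrArg Subtype.val hn
  rw [Subgroup.coe_zpow, hzE', hwE'] at h1
  rw [Subgroup.coe_zpow]
  exact h1

theorem le_of_odd_of_index {K : Type*} [Group K] [Finite K] (X N : Subgroup K) [hNn : N.Normal]
    (hN : Odd (Nat.card N)) (hX : ∃ k : ℕ, X.index = 2 ^ k) : N ≤ X := by
  obtain ⟨k, hk⟩ := hX
  have h1 : X.relIndex (N ⊔ X) = X.relIndex N :=
    Cfsg.Agent.Lib.Helper19.relIndex_sup_of_le_normalizer N X (by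
      intro x _
      rw [Subgroup.mem_normalizer_iff]
      intro h
      exact ⟨fun hh => hNn.conj_mem h hh x,
        fun hh => by
          have := hNn.conj_mem _ hh x⁻¹
          have e : x⁻¹ * (x * h * x⁻¹) * x⁻¹⁻¹ = h := by group
          rwa [e] at this⟩)
  have h2 : X.relIndex (N ⊔ X) ∣ X.index := Subgroup.relIndex_dvd_index_of_le le_sup_right
  have h3 : X.relIndex N ∣ Nat.card N := Subgroup.relIndex_dvd_card X N
  rw [h1, hk] at h2
  obtain ⟨j, -, hj⟩ := (Nat.dvd_prime_pow Nat.prime_two).1 h2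
  have h4 : Odd (X.relIndex N) := Odd.of_dvd_nat hN h3
  have hj0 : j = 0 := by
    by_contra hj0
    rw [hj] at h4
    exact (Nat.not_even_iff_odd.2 h4) ((Nat.even_pow).2 ⟨even_two, hj0⟩)
  rw [hj0, pow_zero] at hj
  exact Subgroup.relIndex_eq_one.1 hj

theorem quot_fpf (hsol : Group.IsSolvable H) (hO : Cfsg.oddCore H = ⊥)
    (hI : ∀ t : H, orderOf t = 2 →
      Cfsg.HasNormalPComplement 2 ↥(Subgroup.centralizer ({t} : Set H)))
    (τ : H ⧸ Cfsg.pCore 2 H) (hτ1 : τ ≠ 1) (hττ : τ * τ = 1)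
    (f : H ⧸ Cfsg.pCore 2 H) (hf : Odd (orderOf f)) (hτf : τ * f = f * τ) : f = 1 := by
  classical
  by_contra hf1
  have hYp : IsPGroup 2 (Cfsg.pCore 2 H) := Cfsg.Agent.Lib.Lead.Cores.pCore_isPGroup 2
  have hYn := Cfsg.pCore_normal 2 H
  have hfo1 : orderOf f ≠ 1 := fun h => hf1 (orderOf_eq_one_iff.1 h)
  obtain ⟨r, hr, hrf⟩ := Nat.exists_prime_and_dvd hfo1
  have hr2 : r ≠ 2 := by
    rintro rfl
    exact (Nat.not_even_iff_odd.2 hf) (even_iff_two_dvd.2 hrf)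
  have : Fact r.Prime := ⟨hr⟩
  obtain ⟨f', hf'⟩ : ∃ f' : H ⧸ Cfsg.pCore 2 H, f' = f ^ (orderOf f / r) := ⟨_, rfl⟩
  have hf'o : orderOf f' = r := by
    rw [hf']; exact orderOf_pow_orderOf_div (orderOf_pos f).ne' hrf
  have hτf' : τ * f' = f' * τ := by
    rw [hf']; exact ((show Commute τ f from hτf).pow_right _)
  obtain ⟨g', hg'⟩ := QuotientGroup.mk'_surjective (Cfsg.pCore 2 H) f'
  obtain ⟨n, hn⟩ : ∃ n, n = orderOf g' := ⟨_, rfl⟩
  have hn0 : n ≠ 0 := by rw [hn]; exact (orderOf_pos g').ne'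
  obtain ⟨g₀, hg₀⟩ : ∃ g₀ : H, g₀ = g' ^ (n / r ^ n.factorization r) := ⟨_, rfl⟩
  have hg₀pow : g₀ ^ (r ^ n.factorization r) = 1 := by
    rw [hg₀, ← pow_mul, Nat.div_mul_cancel (Nat.ordProj_dvd n r), hn, pow_orderOf_eq_one]
  obtain ⟨γ, hγ⟩ : ∃ γ, γ = QuotientGroup.mk' (Cfsg.pCore 2 H) g₀ := ⟨_, rfl⟩
  have hγ' : γ = f' ^ (n / r ^ n.factorization r) := by
    rw [hγ, hg₀, map_pow, hg']
  have hγ1 : γ ≠ 1 := by
    rw [hγ']
    intro h
    have h1 : orderOf f' ∣ n / r ^ n.factorization r := orderOf_dvd_of_pow_eq_one h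
    rw [hf'o] at h1
    exact Nat.not_dvd_ordCompl hr hn0 h1
  have hg₀1 : g₀ ≠ 1 := by
    intro h
    apply hγ1
    rw [hγ, h, map_one]
  have hg₀odd : Odd (orderOf g₀) := by
    obtain ⟨j, -, hj⟩ := (Nat.dvd_prime_pow hr).1 (orderOf_dvd_of_pow_eq_one hg₀pow)
    rw [hj]
    exact (hr.odd_of_ne_two hr2).pow
  have hτγ : τ * γ = γ * τ := by
    rw [hγ']; exact ((show Commute τ f' from hτf').pow_right _)
  obtain ⟨u, hu⟩ := QuotientGroup.mk'_surjective (Cfsg.pCore 2 H) τ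
  have hmem : ∀ a : H, QuotientGroup.mk' (Cfsg.pCore 2 H) a = 1 → a ∈ Cfsg.pCore 2 H :=
    fun a ha => (QuotientGroup.eq_one_iff a).1 ha
  have hw1 : u⁻¹ * g₀ * u * g₀⁻¹ ∈ Cfsg.pCore 2 H := by
    apply hmem
    rw [map_mul, map_mul, map_mul, map_inv, map_inv, hu, ← hγ]
    calc τ⁻¹ * γ * τ * γ⁻¹ = τ⁻¹ * (γ * τ) * γ⁻¹ := by group
      _ = τ⁻¹ * (τ * γ) * γ⁻¹ := by rw [hτγ]
      _ = 1 := by group
  have hw2 : u⁻¹ * g₀⁻¹ * u * g₀ ∈ Cfsg.pCore 2 H := by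
    apply hmem
    rw [map_mul, map_mul, map_mul, map_inv, map_inv, hu, ← hγ]
    calc τ⁻¹ * γ⁻¹ * τ * γ = τ⁻¹ * γ⁻¹ * (τ * γ) := by group
      _ = τ⁻¹ * γ⁻¹ * (γ * τ) := by rw [hτγ]
      _ = 1 := by group
  let _ : Fintype (Cfsg.pCore 2 H) := Fintype.ofFinite _
  let σ : Equiv.Perm (Cfsg.pCore 2 H) :=
    { toFun := fun y => ⟨u⁻¹ * g₀ * u * y * g₀⁻¹, by
        have h1 : u⁻¹ * g₀ * u * y * g₀⁻¹ = (u⁻¹ * g₀ * u * g₀⁻¹) * (g₀ * y * g₀⁻¹) := by group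
        rw [h1]
        exact Subgroup.mul_mem _ hw1 (hYn.conj_mem y y.2 g₀)⟩
      invFun := fun y => ⟨u⁻¹ * g₀⁻¹ * u * y * g₀, by
        have h1 : u⁻¹ * g₀⁻¹ * u * y * g₀ = (u⁻¹ * g₀⁻¹ * u * g₀) * (g₀⁻¹ * y * g₀⁻¹⁻¹) := by
          group
        rw [h1]
        exact Subgroup.mul_mem _ hw2 (hYn.conj_mem y y.2 g₀⁻¹)⟩
      left_inv := fun y => by
        apply Subtype.ext
        show u⁻¹ * g₀⁻¹ * u * (u⁻¹ * g₀ * u * y * g₀⁻¹) * g₀ = y
        group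
      right_inv := fun y => by
        apply Subtype.ext
        show u⁻¹ * g₀ * u * (u⁻¹ * g₀⁻¹ * u * y * g₀) * g₀⁻¹ = y
        group }
  have hσ1 : ∀ y : Cfsg.pCore 2 H, ((σ y : Cfsg.pCore 2 H) : H) = u⁻¹ * g₀ * u * y * g₀⁻¹ :=
    fun y => rfl
  have hσk : ∀ (k : ℕ) (y : Cfsg.pCore 2 H),
      (((σ ^ k) y : Cfsg.pCore 2 H) : H) = u⁻¹ * g₀ ^ k * u * y * (g₀ ^ k)⁻¹ := by
    intro k
    induction k with
    | zero =>
      intro y
      rw [pow_zero, pow_zero, Equiv.Perm.one_apply]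
      group
    | succ k ih =>
      intro y
      rw [pow_succ', Equiv.Perm.mul_apply, hσ1, ih y, pow_succ']
      group
  have hσpow : σ ^ r ^ (n.factorization r) = 1 := by
    apply Equiv.Perm.ext
    intro y
    apply Subtype.ext
    rw [hσk, hg₀pow, Equiv.Perm.one_apply]
    group
  have hnd : ¬ r ∣ Fintype.card (Cfsg.pCore 2 H) := by
    obtain ⟨a, ha⟩ := hYp.exists_card_eq
    rw [← Nat.card_eq_fintype_card, ha]
    intro h
    have h1 : r ∣ 2 := hr.dvd_of_dvd_pow h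
    exact hr2 ((Nat.prime_dvd_prime_iff_eq hr Nat.prime_two).1 h1)
  obtain ⟨y, hy⟩ := Equiv.Perm.exists_fixed_point_of_prime (p := r) hnd hσpow
  have hy' : u⁻¹ * g₀ * u * (y : H) * g₀⁻¹ = y := congrArg Subtype.val hy
  have hcomm : g₀ * (u * y) = (u * y) * g₀ := by
    calc g₀ * (u * y) = u * (u⁻¹ * g₀ * u * y * g₀⁻¹) * g₀ := by group
      _ = u * y * g₀ := by rw [hy']
  have hπu₁ : QuotientGroup.mk' (Cfsg.pCore 2 H) (u * y) = τ := by
    have hy1 : QuotientGroup.mk' (Cfsg.pCore 2 H) (y : H) = 1 :=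
      (QuotientGroup.eq_one_iff (y : H)).2 y.2
    rw [map_mul, hu, hy1, mul_one]
  have hsq : (u * y) * (u * y) ∈ Cfsg.pCore 2 H := by
    apply hmem
    rw [map_mul, hπu₁, hττ]
  have hcomm2 : g₀ * ((u * y) * (u * y)) = ((u * y) * (u * y)) * g₀ :=
    ((show Commute g₀ (u * y) from hcomm).mul_right hcomm)
  by_cases hsq1 : (u * y) * (u * y) = 1
  · have hu1ne : u * (y : H) ≠ 1 := by
      intro h
      apply hτ1
      rw [← hπu₁, h, map_one]
    have ho : orderOf (u * (y : H)) = 2 :=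
      orderOf_eq_prime (by rw [pow_two]; exact hsq1) hu1ne
    exact hg₀1 (fpf_invol hsol hO hI g₀ hg₀odd (u * y) ho hcomm)
  · exact hg₀1 (fpf_core hsol hO hI g₀ hg₀odd _ hsq hsq1 hcomm2)

theorem struct (hsol : Group.IsSolvable H) (hO : Cfsg.oddCore H = ⊥)
    (hI : ∀ t : H, orderOf t = 2 →
      Cfsg.HasNormalPComplement 2 ↥(Subgroup.centralizer ({t} : Set H)))
    (X : Subgroup H) (hXodd : Odd (Nat.card X)) (hXidx : ∃ k : ℕ, X.index = 2 ^ k)
    (hZ : IsZGroup X) :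
    (∀ a b : H ⧸ Cfsg.pCore 2 H,
      a * b * a⁻¹ * b⁻¹ ∈ X.map (QuotientGroup.mk' (Cfsg.pCore 2 H))) ∧
    (∀ a b : H ⧸ Cfsg.pCore 2 H, a * a = 1 →
      a ∉ X.map (QuotientGroup.mk' (Cfsg.pCore 2 H)) → b * b = 1 →
      b ∉ X.map (QuotientGroup.mk' (Cfsg.pCore 2 H)) →
      a * b ∈ X.map (QuotientGroup.mk' (Cfsg.pCore 2 H))) ∧
    Odd (Nat.card (X.map (QuotientGroup.mk' (Cfsg.pCore 2 H)))) := by
  classical
  have := hsol
  obtain ⟨π, hπ⟩ : ∃ π : H →* H ⧸ Cfsg.pCore 2 H, π = QuotientGroup.mk' (Cfsg.pCore 2 H) :=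
    ⟨_, rfl⟩
  have hπs : Function.Surjective π := hπ ▸ QuotientGroup.mk'_surjective _
  rw [← hπ]
  obtain ⟨Xb, hXb⟩ : ∃ Xb, Xb = X.map π := ⟨_, rfl⟩
  rw [← hXb]
  obtain ⟨Fb, hFb⟩ : ∃ Fb, Fb = Cfsg.fittingSubgroup (H ⧸ Cfsg.pCore 2 H) := ⟨_, rfl⟩
  have hFbn : Fb.Normal := hFb ▸ Cfsg.Agent.Lib.Lead.Cores.fittingSubgroup_normal
  have hOb : Cfsg.pCore 2 (H ⧸ Cfsg.pCore 2 H) = ⊥ :=
    Cfsg.Agent.Lib.Helper9.pCore_quotient_eq_bot 2 H
  have hFO : Fb ≤ Cfsg.pPrimeCore 2 (H ⧸ Cfsg.pCore 2 H) := by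
    have h := Cfsg.Agent.Lib.Lead.Cores.fittingSubgroup_le_sup (G := H ⧸ Cfsg.pCore 2 H) 2
    rw [hOb, bot_sup_eq] at h
    rw [hFb]; exact h
  have hXbidx : ∃ k, Xb.index = 2 ^ k := by
    obtain ⟨k, hk⟩ := hXidx
    have h1 : Xb.index ∣ X.index := hXb ▸ Subgroup.index_map_dvd X hπs
    rw [hk] at h1
    obtain ⟨j, -, hj⟩ := (Nat.dvd_prime_pow Nat.prime_two).1 h1
    exact ⟨j, hj⟩
  have hOodd : Odd (Nat.card (Cfsg.pPrimeCore 2 (H ⧸ Cfsg.pCore 2 H))) :=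
    Nat.coprime_two_right.1 (Cfsg.Agent.Lib.Lead.Cores.pPrimeCore_card_coprime 2)
  have hOX : Cfsg.pPrimeCore 2 (H ⧸ Cfsg.pCore 2 H) ≤ Xb :=
    le_of_odd_of_index Xb _ hOodd hXbidx
  have hFX : Fb ≤ Xb := hFO.trans hOX
  have hXbodd : Odd (Nat.card Xb) := by
    have h1 : Nat.card Xb ∣ Nat.card X := hXb ▸ Subgroup.card_map_dvd X π
    exact Odd.of_dvd_nat hXodd h1
  have hZb : IsZGroup Xb := by
    rw [hXb]
    exact IsZGroup.of_surjective (f := π.subgroupMap X) (π.subgroupMap_surjective X)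
  have hZF : IsZGroup Fb :=
    IsZGroup.of_injective (f := Subgroup.inclusion hFX) (Subgroup.inclusion_injective hFX)
  have hFnil : Group.IsNilpotent Fb :=
    hFb ▸ Cfsg.Agent.Lib.Lead.Cores.fittingSubgroup_isNilpotent
  have hFcyc : IsCyclic Fb := inferInstance
  have hCF : Subgroup.centralizer (Fb : Set (H ⧸ Cfsg.pCore 2 H)) ≤ Fb :=
    hFb ▸ Cfsg.Agent.S0044.result
  have hFodd : ∀ f ∈ Fb, Odd (orderOf f) := by
    intro f hf
    have h1 : orderOf (⟨f, hFO hf⟩ : Cfsg.pPrimeCore 2 (H ⧸ Cfsg.pCore 2 H)) ∣ _ :=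
      orderOf_dvd_natCard _
    rw [Subgroup.orderOf_mk] at h1
    exact Odd.of_dvd_nat hOodd h1
  have hFcomm : ∀ f₁ ∈ Fb, ∀ f₂ ∈ Fb, f₁ * f₂ = f₂ * f₁ := by
    intro f₁ h₁ f₂ h₂
    obtain ⟨g, hg⟩ := IsCyclic.exists_generator (α := Fb)
    obtain ⟨m₁, hm₁⟩ := Subgroup.mem_zpowers_iff.1 (hg ⟨f₁, h₁⟩)
    obtain ⟨m₂, hm₂⟩ := Subgroup.mem_zpowers_iff.1 (hg ⟨f₂, h₂⟩)
    have h3 : (⟨f₁, h₁⟩ : Fb) * ⟨f₂, h₂⟩ = ⟨f₂, h₂⟩ * ⟨f₁, h₁⟩ := by
      rw [← hm₁, ← hm₂, ← zpow_add, ← zpow_add, add_comm]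
    exact congrArg Subtype.val h3
  have hcomm : ∀ a b : H ⧸ Cfsg.pCore 2 H,
      a * b * a⁻¹ * b⁻¹ ∈ Subgroup.centralizer (Fb : Set (H ⧸ Cfsg.pCore 2 H)) := by
    intro a b
    let θ : (H ⧸ Cfsg.pCore 2 H) →* MulAut Fb := MulAut.conjNormal
    have h1 : θ a * θ b = θ b * θ a := by
      apply (IsCyclic.mulAutMulEquiv Fb).injective
      rw [map_mul, map_mul, mul_comm]
    have h2 : θ (a * b * a⁻¹ * b⁻¹) = 1 := by
      rw [map_mul, map_mul, map_mul, map_inv, map_inv, h1]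
      group
    rw [Subgroup.mem_centralizer_iff]
    intro f hf
    have h3 : θ (a * b * a⁻¹ * b⁻¹) ⟨f, hf⟩ = ⟨f, hf⟩ := by rw [h2]; rfl
    have h4 : (a * b * a⁻¹ * b⁻¹) * f * (a * b * a⁻¹ * b⁻¹)⁻¹ = f := congrArg Subtype.val h3
    calc f * (a * b * a⁻¹ * b⁻¹)
        = ((a * b * a⁻¹ * b⁻¹) * f * (a * b * a⁻¹ * b⁻¹)⁻¹) * (a * b * a⁻¹ * b⁻¹) := by rw [h4]
      _ = a * b * a⁻¹ * b⁻¹ * f := by group
  have hinv : ∀ τ : H ⧸ Cfsg.pCore 2 H, τ * τ = 1 → τ ≠ 1 → ∀ f ∈ Fb, τ * f * τ⁻¹ = f⁻¹ := by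
    intro τ hττ hτ1 f hf
    have hτinv : τ⁻¹ = τ := inv_eq_of_mul_eq_one_left hττ
    have hf' : τ * f * τ⁻¹ ∈ Fb := hFbn.conj_mem f hf τ
    have hcF : f * (τ * f * τ⁻¹) = (τ * f * τ⁻¹) * f := hFcomm f hf _ hf'
    have hg : τ * (f * (τ * f * τ⁻¹)) = (f * (τ * f * τ⁻¹)) * τ := by
      rw [hτinv] at hcF ⊢
      calc τ * (f * (τ * f * τ)) = (τ * f * τ) * f * τ := by group
        _ = f * (τ * f * τ) * τ := by rw [← hcF]
    have hgo : Odd (orderOf (f * (τ * f * τ⁻¹))) := hFodd _ (Fb.mul_mem hf hf')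
    have hg1 := quot_fpf hsol hO hI τ hτ1 hττ _ hgo hg
    exact eq_inv_of_mul_eq_one_right hg1
  refine ⟨fun a b => hFX (hCF (hcomm a b)), ?_, hXbodd⟩
  intro a b haa ha hbb hb
  have ha1 : a ≠ 1 := fun h => ha (h ▸ Xb.one_mem)
  have hb1 : b ≠ 1 := fun h => hb (h ▸ Xb.one_mem)
  apply hFX
  apply hCF
  rw [Subgroup.mem_centralizer_iff]
  intro f hf
  have h1 := hinv b hbb hb1 f hf
  have h2 := hinv a haa ha1 f⁻¹ (Fb.inv_mem hf)
  have h3 : a * b * f * (a * b)⁻¹ = f := by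
    calc a * b * f * (a * b)⁻¹ = a * (b * f * b⁻¹) * a⁻¹ := by group
      _ = a * f⁻¹ * a⁻¹ := by rw [h1]
      _ = f := by rw [h2, inv_inv]
  calc f * (a * b) = (a * b * f * (a * b)⁻¹) * (a * b) := by rw [h3]
    _ = a * b * f := by group

end

/-- Let H be a finite solvable group with no nontrivial normal subgroup of odd order in which the centralizer of every involution has a normal 2-complement. Let X be a Hall 2'-subgroup of H (odd order, index a power of 2) and Y = O₂(H). Then no non-identity element of X commutes with a non-identity element of Y (so for X ≠ 1 the group XY is a Frobenius group with kernel Y), every Sylow subgroup of X is cyclic, XY is normal in H, and H/XY is a cyclic 2-group. -/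
theorem result {H : Type*} [Group H] [Finite H] (hsol : Group.IsSolvable H)
    (hO : Cfsg.oddCore H = ⊥)
    (hI : ∀ t : H, orderOf t = 2 → Cfsg.HasNormalPComplement 2 ↥(Subgroup.centralizer ({t} : Set H)))
    (X : Subgroup H) (hXodd : Odd (Nat.card X)) (hXidx : ∃ k : ℕ, X.index = 2 ^ k) :
    (∀ x ∈ X, x ≠ 1 → ∀ y ∈ Cfsg.pCore 2 H, y ≠ 1 → x * y ≠ y * x) ∧
      (∀ (p : ℕ) [Fact p.Prime] (P : Sylow p ↥X), IsCyclic ↥(P : Subgroup ↥X)) ∧
      (X ⊔ Cfsg.pCore 2 H).Normal ∧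
      ∀ hN : (X ⊔ Cfsg.pCore 2 H).Normal, IsCyclic (H ⧸ (X ⊔ Cfsg.pCore 2 H)) ∧ IsPGroup 2 (H ⧸ (X ⊔ Cfsg.pCore 2 H)) := by
  classical
  have hYp : IsPGroup 2 (Cfsg.pCore 2 H) := Cfsg.Agent.Lib.Lead.Cores.pCore_isPGroup 2
  have hXo : ∀ x ∈ X, Odd (orderOf x) := by
    intro x hx
    have h1 : orderOf (⟨x, hx⟩ : X) ∣ Nat.card X := orderOf_dvd_natCard _
    rw [Subgroup.orderOf_mk] at h1
    exact Odd.of_dvd_nat hXodd h1
  have part1 : ∀ x ∈ X, x ≠ 1 → ∀ y ∈ Cfsg.pCore 2 H, y ≠ 1 → x * y ≠ y * x :=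
    fun x hx hx1 y hy hy1 hxy => hx1 (fpf_core hsol hO hI x (hXo x hx) y hy hy1 hxy)
  have part2 : ∀ (p : ℕ) [Fact p.Prime] (P : Sylow p ↥X), IsCyclic ↥(P : Subgroup ↥X) := by
    intro p _ P
    by_cases hp2 : p = 2
    · subst hp2
      have hall : ∀ c : (P : Subgroup X), c = 1 := by
        intro c
        obtain ⟨k, hk⟩ := P.isPGroup' c
        have hco : Odd (orderOf c) := by
          rw [← Subgroup.orderOf_coe, ← Subgroup.orderOf_coe]
          exact hXo _ (c : X).2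
        exact eq_one_of_odd_of_two_pow hco hk
      have hsub : Subsingleton (P : Subgroup X) := ⟨fun a b => (hall a).trans (hall b).symm⟩
      exact isCyclic_of_subsingleton
    · have hP' : IsPGroup p ((P : Subgroup X).map X.subtype) := P.isPGroup'.map _
      have hc := odd_pgroup_cyclic hsol hO hI p hp2 _ hP'
      exact isCyclic_of_surjective
        ((P : Subgroup X).equivMapOfInjective X.subtype X.subtype_injective).symm
        ((P : Subgroup X).equivMapOfInjective X.subtype X.subtype_injective).symm.surjective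
  have hZ : IsZGroup X := ⟨fun p hp P => by
    have := Fact.mk hp
    exact part2 p P⟩
  obtain ⟨hc, hinvs, hXbodd⟩ := struct hsol hO hI X hXodd hXidx hZ
  have hM : X ⊔ Cfsg.pCore 2 H = (X.map (QuotientGroup.mk' (Cfsg.pCore 2 H))).comap
      (QuotientGroup.mk' (Cfsg.pCore 2 H)) := by
    rw [Subgroup.comap_map_eq, QuotientGroup.ker_mk']
  have hXbn : (X.map (QuotientGroup.mk' (Cfsg.pCore 2 H))).Normal := by
    constructor
    intro x hx a
    have h1 := hc a x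
    have h2 : a * x * a⁻¹ = (a * x * a⁻¹ * x⁻¹) * x := by group
    rw [h2]
    exact Subgroup.mul_mem _ h1 hx
  have hMn : (X ⊔ Cfsg.pCore 2 H).Normal := by rw [hM]; exact hXbn.comap _
  refine ⟨part1, part2, hMn, ?_⟩
  intro hN
  have hmemM : ∀ h : H, h ∈ X ⊔ Cfsg.pCore 2 H ↔
      QuotientGroup.mk' (Cfsg.pCore 2 H) h ∈ X.map (QuotientGroup.mk' (Cfsg.pCore 2 H)) := by
    intro h
    rw [hM]
    exact Subgroup.mem_comap
  have hQ2 : IsPGroup 2 (H ⧸ (X ⊔ Cfsg.pCore 2 H)) := by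
    obtain ⟨k, hk⟩ := hXidx
    have h1 : (X ⊔ Cfsg.pCore 2 H).index ∣ X.index := Subgroup.index_dvd_of_le le_sup_left
    rw [hk] at h1
    obtain ⟨j, -, hj⟩ := (Nat.dvd_prime_pow Nat.prime_two).1 h1
    apply IsPGroup.of_card (n := j)
    rw [← Subgroup.index_eq_card, hj]
  have hQc : ∀ a b : H ⧸ (X ⊔ Cfsg.pCore 2 H), a * b = b * a := by
    intro a b
    obtain ⟨h, rfl⟩ := QuotientGroup.mk_surjective a
    obtain ⟨k, rfl⟩ := QuotientGroup.mk_surjective b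
    rw [← QuotientGroup.mk_mul, ← QuotientGroup.mk_mul, QuotientGroup.eq, hmemM]
    have h1 := hc (QuotientGroup.mk' (Cfsg.pCore 2 H) k)⁻¹ (QuotientGroup.mk' (Cfsg.pCore 2 H) h)⁻¹
    have h2 : QuotientGroup.mk' (Cfsg.pCore 2 H) ((h * k)⁻¹ * (k * h)) =
        (QuotientGroup.mk' (Cfsg.pCore 2 H) k)⁻¹ * (QuotientGroup.mk' (Cfsg.pCore 2 H) h)⁻¹ *
          ((QuotientGroup.mk' (Cfsg.pCore 2 H) k)⁻¹)⁻¹ *
          ((QuotientGroup.mk' (Cfsg.pCore 2 H) h)⁻¹)⁻¹ := by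
      rw [map_mul, map_inv, map_mul, map_mul]
      group
    rw [h2]
    exact h1
  have lift : ∀ a : H ⧸ (X ⊔ Cfsg.pCore 2 H), a ^ 2 = 1 → a ≠ 1 →
      ∃ h : H, (h : H ⧸ (X ⊔ Cfsg.pCore 2 H)) = a ∧
        QuotientGroup.mk' (Cfsg.pCore 2 H) h * QuotientGroup.mk' (Cfsg.pCore 2 H) h = 1 ∧
        QuotientGroup.mk' (Cfsg.pCore 2 H) h ∉ X.map (QuotientGroup.mk' (Cfsg.pCore 2 H)) := by
    intro a ha2 ha1
    obtain ⟨h, rfl⟩ := QuotientGroup.mk_surjective a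
    obtain ⟨n, hn⟩ : ∃ n, n = orderOf h := ⟨_, rfl⟩
    have hn0 : n ≠ 0 := by rw [hn]; exact (orderOf_pos h).ne'
    obtain ⟨m, hm⟩ : ∃ m, m = n / 2 ^ n.factorization 2 := ⟨_, rfl⟩
    have hmodd : Odd m := by
      rw [hm]
      exact Nat.odd_iff.2 (Nat.two_dvd_ne_zero.1 (Nat.not_dvd_ordCompl Nat.prime_two hn0))
    have hmn : m * 2 ^ n.factorization 2 = n := by
      rw [hm]; exact Nat.div_mul_cancel (Nat.ordProj_dvd n 2)
    have hpow : ((h ^ m : H) : H ⧸ (X ⊔ Cfsg.pCore 2 H)) = (h : H ⧸ (X ⊔ Cfsg.pCore 2 H)) := by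
      obtain ⟨j, hj⟩ := hmodd
      rw [QuotientGroup.mk_pow, hj, pow_add, pow_mul, ha2, one_pow, one_mul, pow_one]
    refine ⟨h ^ m, hpow, ?_, ?_⟩
    · have h1 : h ^ m * h ^ m ∈ X ⊔ Cfsg.pCore 2 H := by
        rw [← QuotientGroup.eq_one_iff, QuotientGroup.mk_mul, hpow, ← pow_two, ha2]
      have h2 : QuotientGroup.mk' (Cfsg.pCore 2 H) (h ^ m * h ^ m) ∈
          X.map (QuotientGroup.mk' (Cfsg.pCore 2 H)) := (hmemM _).1 h1
      have h3 : Odd (orderOf (QuotientGroup.mk' (Cfsg.pCore 2 H) (h ^ m * h ^ m))) := by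
        have h4 : orderOf (⟨_, h2⟩ : X.map (QuotientGroup.mk' (Cfsg.pCore 2 H))) ∣
            Nat.card (X.map (QuotientGroup.mk' (Cfsg.pCore 2 H))) := orderOf_dvd_natCard _
        rw [Subgroup.orderOf_mk] at h4
        exact Odd.of_dvd_nat hXbodd h4
      have h5 : QuotientGroup.mk' (Cfsg.pCore 2 H) (h ^ m * h ^ m) ^ (2 ^ n.factorization 2) = 1 := by
        rw [← map_pow]
        have h6 : (h ^ m * h ^ m) ^ (2 ^ n.factorization 2) = 1 := by
          rw [← pow_add, ← pow_mul, add_mul, hmn, pow_add, hn, pow_orderOf_eq_one, one_mul]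
        rw [h6, map_one]
      have h7 := eq_one_of_odd_of_two_pow h3 h5
      rw [map_mul] at h7
      exact h7
    · intro hmem
      apply ha1
      have h1 : h ^ m ∈ X ⊔ Cfsg.pCore 2 H := (hmemM _).2 hmem
      rw [← hpow]
      exact (QuotientGroup.eq_one_iff _).2 h1
  have hinvQ : ∀ a b : H ⧸ (X ⊔ Cfsg.pCore 2 H), a ^ 2 = 1 → a ≠ 1 → b ^ 2 = 1 → b ≠ 1 →
      a = b := by
    intro a b ha2 ha1 hb2 hb1
    obtain ⟨h, rfl, hh2, hhX⟩ := lift a ha2 ha1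
    obtain ⟨k, rfl, hk2, hkX⟩ := lift b hb2 hb1
    have h1 := hinvs _ _ hh2 hhX hk2 hkX
    have h2 : h * k ∈ X ⊔ Cfsg.pCore 2 H := (hmemM _).2 (by rw [map_mul]; exact h1)
    have h3 : ((h * k : H) : H ⧸ (X ⊔ Cfsg.pCore 2 H)) = 1 := (QuotientGroup.eq_one_iff _).2 h2
    rw [QuotientGroup.mk_mul] at h3
    have h4 : (h : H ⧸ (X ⊔ Cfsg.pCore 2 H)) = (k : H ⧸ (X ⊔ Cfsg.pCore 2 H))⁻¹ :=
      eq_inv_of_mul_eq_one_left h3
    rw [h4]
    exact inv_eq_of_mul_eq_one_left (by rw [← pow_two]; exact hb2)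
  have hE : Set.ncard {g : H ⧸ (X ⊔ Cfsg.pCore 2 H) | g ^ 2 = 1} ≤ 2 := by
    by_cases hex : ∃ a : H ⧸ (X ⊔ Cfsg.pCore 2 H), a ^ 2 = 1 ∧ a ≠ 1
    · obtain ⟨a, ha2, ha1⟩ := hex
      have hsub : {g : H ⧸ (X ⊔ Cfsg.pCore 2 H) | g ^ 2 = 1} ⊆ {1, a} := by
        intro g hg
        by_cases hg1 : g = 1
        · left; exact hg1
        · right; exact hinvQ g a hg hg1 ha2 ha1
      calc Set.ncard {g : H ⧸ (X ⊔ Cfsg.pCore 2 H) | g ^ 2 = 1}
          ≤ Set.ncard ({1, a} : Set (H ⧸ (X ⊔ Cfsg.pCore 2 H))) :=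
            Set.ncard_le_ncard hsub (Set.toFinite _)
        _ ≤ Set.ncard ({a} : Set (H ⧸ (X ⊔ Cfsg.pCore 2 H))) + 1 := Set.ncard_insert_le _ _
        _ = 2 := by rw [Set.ncard_singleton]
    · push Not at hex
      have hsub : {g : H ⧸ (X ⊔ Cfsg.pCore 2 H) | g ^ 2 = 1} ⊆ {1} := by
        intro g hg
        exact hex g hg
      calc Set.ncard {g : H ⧸ (X ⊔ Cfsg.pCore 2 H) | g ^ 2 = 1}
          ≤ Set.ncard ({1} : Set (H ⧸ (X ⊔ Cfsg.pCore 2 H))) :=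
            Set.ncard_le_ncard hsub (Set.toFinite _)
        _ = 1 := Set.ncard_singleton _
        _ ≤ 2 := by norm_num
  exact ⟨Cfsg.Agent.Lib.Helper18.UniqueInvolution.isCyclic_of_comm 2 hQ2 hQc hE, hQ2⟩

end Cfsg.Agent.S3215
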