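import Cfsg.Statements.S2880
import Mathlib
import Cfsg.Agent.Lib.Helper20.ESpecial

set_option autoImplicit false
open Cfsg

namespace Cfsg.Agent.S2880

/-- Double counting. -/
theorem dc {α β : Type*} [Fintype α] [Fintype β] (R : α → β → Prop) :
    ∑ a, Nat.card {b // R a b} = ∑ b, Nat.card {a // R a b} := by
  classical
  simp only [Nat.card_eq_fintype_card, Fintype.card_subtype, Finset.card_filter]
  exact Finset.sum_comm

/-- The commutator homomorphism into the centre, when all commutators are central. -/
noncomputable def commHom {E : Type*} [Group E]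
    (hc : ∀ x y : E, x * y * x⁻¹ * y⁻¹ ∈ Subgroup.center E) (g : E) : E →* Subgroup.center E where
  toFun x := ⟨x * g * x⁻¹ * g⁻¹, hc x g⟩
  map_one' := by ext; simp
  map_mul' x y := by
    ext
    simp only [Subgroup.coe_mul]
    have h := hc y g
    rw [Subgroup.mem_center_iff] at h
    calc x * y * g * (x * y)⁻¹ * g⁻¹ = x * (y * g * y⁻¹ * g⁻¹) * (g * x⁻¹ * g⁻¹) := by group
      _ = (y * g * y⁻¹ * g⁻¹) * x * (g * x⁻¹ * g⁻¹) := by rw [h x]
      _ = (y * g * y⁻¹ * g⁻¹) * (x * g * x⁻¹ * g⁻¹) := by group
      _ = (x * g * x⁻¹ * g⁻¹) * (y * g * y⁻¹ * g⁻¹) := (h _).symm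

theorem commHom_apply {E : Type*} [Group E]
    (hc : ∀ x y : E, x * y * x⁻¹ * y⁻¹ ∈ Subgroup.center E) (g x : E) :
    ((commHom hc g x : Subgroup.center E) : E) = x * g * x⁻¹ * g⁻¹ := rfl

theorem card_ker_two {H Z : Type*} [Group H] [Group Z] [Finite H] (hZ : Nat.card Z = 2)
    (f : H →* Z) (hf : f ≠ 1) : 2 * Nat.card f.ker = Nat.card H ∧ Function.Surjective f := by
  have h1 := Subgroup.card_mul_index f.ker
  rw [Subgroup.index_ker] at h1
  have hfin : Finite Z := Nat.finite_of_card_ne_zero (by rw [hZ]; norm_num)
  have h2 : Nat.card f.range ∣ 2 := hZ ▸ Subgroup.card_subgroup_dvd_card f.range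
  have h3 : Nat.card f.range ≠ 1 := by
    intro h
    rw [Subgroup.card_eq_one] at h
    apply hf
    ext x
    have : f x ∈ f.range := ⟨x, rfl⟩
    rw [h, Subgroup.mem_bot] at this
    simpa using this
  have h4 : Nat.card f.range = 2 := by
    rcases (Nat.dvd_prime Nat.prime_two).mp h2 with h | h
    · exact absurd h h3
    · exact h
  refine ⟨by rw [← h1, h4, mul_comm], ?_⟩
  rw [← MonoidHom.range_eq_top]
  apply Subgroup.eq_top_of_card_eq
  rw [h4, hZ]

theorem card_fiber_two {H Z : Type*} [Group H] [Group Z] [Finite H] (hZ : Nat.card Z = 2)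
    (f : H →* Z) (hf : f ≠ 1) (t : Z) : 2 * Nat.card {h : H // f h = t} = Nat.card H := by
  obtain ⟨h1, hs⟩ := card_ker_two hZ f hf
  obtain ⟨h₀, rfl⟩ := hs t
  rw [← h1]
  congr 1
  apply Nat.card_congr
  refine ⟨fun h => ⟨h₀⁻¹ * h.1, ?_⟩, fun k => ⟨h₀ * k.1, ?_⟩, ?_, ?_⟩
  · rw [MonoidHom.mem_ker, map_mul, map_inv, h.2, inv_mul_cancel]
  · rw [map_mul, MonoidHom.mem_ker.mp k.2, mul_one]
  · intro h; ext; simp
  · intro k; ext; simp

theorem sum_ite_card {α : Type*} [Fintype α] (p : α → Prop) [DecidablePred p] (c d : ℕ) :
    ∑ x : α, (if p x then c + d else d) = d * Nat.card α + c * Nat.card {x // p x} := by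
  have : ∀ x, (if p x then c + d else d) = d + (if p x then c else 0) := by
    intro x; split_ifs <;> simp [add_comm]
  simp only [this, Finset.sum_add_distrib, Finset.sum_const, Finset.card_univ, smul_eq_mul,
    Finset.sum_ite, Finset.sum_const_zero, add_zero, Nat.card_eq_fintype_card, Fintype.card_subtype]
  ring

theorem result {E : Type*} [Group E] [Finite E] (m : ℕ) (hm : 1 ≤ m) (hE : Cfsg.IsExtraspecial 2 E) (hcard : Nat.card E = 2 ^ (2 * m + 1)) (hplus : ∃ A : Subgroup E, Cfsg.IsElementaryAbelian 2 A ∧ Nat.card A = 2 ^ (m + 1)) : Nat.card {x : E // orderOf x = 4} = 2 ^ (2 * m) - 2 ^ m := by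
  classical
  obtain ⟨A, ⟨hAc, hA2⟩, hAcard⟩ := hplus
  obtain ⟨⟨hp, hfr, hcomm⟩, hZ⟩ := hE
  have : Fintype E := Fintype.ofFinite E
  have : Fintype A := Fintype.ofFinite A
  have hc : ∀ x y : E, x * y * x⁻¹ * y⁻¹ ∈ Subgroup.center E := by
    intro x y
    rw [← hcomm]
    exact Subgroup.commutator_mem_commutator (Subgroup.mem_top x) (Subgroup.mem_top y)
  have hsq : ∀ x : E, x * x ∈ Subgroup.center E := by
    intro x
    rw [← hfr, ← pow_two]
    exact Cfsg.Agent.Lib.Helper20.ESpecial.pow_mem_frattini hp x
  -- the nontrivial central element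
  obtain ⟨z, hz1, hzu⟩ := (Nat.card_eq_two_iff' (1 : Subgroup.center E)).mp hZ
  have hzz : ∀ w : Subgroup.center E, w = 1 ∨ w = z := by
    intro w
    by_cases h : w = 1
    · exact Or.inl h
    · exact Or.inr (hzu w h)
  have hz2 : (z : E) * z = 1 := by
    have : z ^ Nat.card (Subgroup.center E) = 1 := pow_card_eq_one'
    rw [hZ, pow_two] at this
    exact congrArg Subtype.val this
  have hzne : (z : E) ≠ 1 := fun h => hz1 (Subtype.ext h)
  have hAcomm : ∀ a ∈ A, ∀ b ∈ A, a * b = b * a := by
    intro a ha b hb
    have := hAc.is_comm.comm (⟨a, ha⟩ : A) ⟨b, hb⟩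
    exact congrArg Subtype.val this
  -- Step 1: the centralizer of A is A
  have hCA : Subgroup.centralizer (A : Set E) = A := by
    symm
    apply Subgroup.eq_of_le_of_card_ge
    · intro a ha
      rw [Subgroup.mem_centralizer_iff]
      intro b hb
      exact hAcomm b hb a ha
    · -- double counting
      have h1 := dc (fun (x : E) (a : A) => x * (a : E) = a * x)
      -- left side
      have hL : ∀ x : E, 2 * Nat.card {a : A // x * (a : E) = a * x}
          = if x ∈ Subgroup.centralizer (A : Set E) then 2 * Nat.card A else Nat.card A := by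
        intro x
        split_ifs with hx
        · congr 1
          rw [Subgroup.mem_centralizer_iff] at hx
          apply Nat.card_congr
          exact Equiv.subtypeUnivEquiv (fun a => (hx a a.2).symm)
        · set f : A →* Subgroup.center E := (commHom hc x).comp A.subtype with hf
          have hf1 : f ≠ 1 := by
            intro h
            apply hx
            rw [Subgroup.mem_centralizer_iff]
            intro a ha
            have := congrArg Subtype.val (DFunLike.congr_fun h ⟨a, ha⟩)
            simp only [hf, MonoidHom.comp_apply, Subgroup.coe_subtype, commHom_apply,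
              MonoidHom.one_apply, OneMemClass.coe_one] at this
            have h2 : a * x = x * a := by
              calc a * x = (a * x * a⁻¹ * x⁻¹) * x * a := by group
                _ = x * a := by rw [this, one_mul]
            exact h2
          rw [← card_fiber_two hZ f hf1 1]
          congr 1
          apply Nat.card_congr
          apply Equiv.subtypeEquivRight
          intro a
          constructor
          · intro h
            apply Subtype.ext
            simp only [hf, MonoidHom.comp_apply, Subgroup.coe_subtype, commHom_apply, OneMemClass.coe_one]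
            rw [← h]; group
          · intro h
            have := congrArg Subtype.val h
            simp only [hf, MonoidHom.comp_apply, Subgroup.coe_subtype, commHom_apply, OneMemClass.coe_one] at this
            calc x * (a : E) = ((a : E) * x * (a : E)⁻¹ * x⁻¹)⁻¹ * (a : E) * x := by group
              _ = a * x := by rw [this, inv_one, one_mul]
      have hR : ∀ a : A, 2 * Nat.card {x : E // x * (a : E) = a * x} =
          (if (a : E) ∈ Subgroup.center E then Nat.card E + Nat.card E else Nat.card E) := by
        intro a
        split_ifs with ha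
        · rw [← two_mul]
          congr 1
          rw [Subgroup.mem_center_iff] at ha
          apply Nat.card_congr
          exact Equiv.subtypeUnivEquiv (fun x => ha x)
        · set f : E →* Subgroup.center E := commHom hc (a : E) with hf
          have hf1 : f ≠ 1 := by
            intro h
            apply ha
            rw [Subgroup.mem_center_iff]
            intro x
            have := congrArg Subtype.val (DFunLike.congr_fun h x)
            simp only [hf, commHom_apply, MonoidHom.one_apply, OneMemClass.coe_one] at this
            calc x * (a : E) = (x * a * x⁻¹ * (a : E)⁻¹) * a * x := by group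
              _ = a * x := by rw [this, one_mul]
          rw [← card_fiber_two hZ f hf1 1]
          congr 1
          apply Nat.card_congr
          apply Equiv.subtypeEquivRight
          intro x
          constructor
          · intro h
            apply Subtype.ext
            simp only [hf, commHom_apply, OneMemClass.coe_one]
            rw [h]; group
          · intro h
            have := congrArg Subtype.val h
            simp only [hf, commHom_apply, OneMemClass.coe_one] at this
            calc x * (a : E) = (x * a * x⁻¹ * (a : E)⁻¹) * a * x := by group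
              _ = a * x := by rw [this, one_mul]
      have h2 : ∑ x : E, 2 * Nat.card {a : A // x * (a : E) = a * x}
          = ∑ a : A, 2 * Nat.card {x : E // x * (a : E) = a * x} := by
        rw [← Finset.mul_sum, ← Finset.mul_sum, h1]
      simp only [hL, hR] at h2
      have hL' : ∀ x : E, (if x ∈ Subgroup.centralizer (A : Set E) then 2 * Nat.card A else Nat.card A)
          = (if x ∈ Subgroup.centralizer (A : Set E) then Nat.card A + Nat.card A else Nat.card A) := by
        intro x; rw [two_mul]
      simp only [hL'] at h2
      rw [sum_ite_card, sum_ite_card] at h2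
      have h3 : Nat.card {a : A // (a : E) ∈ Subgroup.center E} ≤ 2 := by
        rw [← hZ]
        apply Nat.card_le_card_of_injective (fun a => (⟨a.1.1, a.2⟩ : Subgroup.center E))
        intro a b h
        simp only [Subtype.mk.injEq] at h
        exact Subtype.ext (Subtype.ext h)
      have h4 : Nat.card A * Nat.card (Subgroup.centralizer (A : Set E)) ≤ Nat.card E * 2 := by
        have := Nat.mul_le_mul_left (Nat.card E) h3
        have e : Nat.card {x : E // x ∈ Subgroup.centralizer (A : Set E)} = Nat.card (Subgroup.centralizer (A : Set E)) := rfl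
        rw [e] at h2
        nlinarith
      rw [hAcard, hcard] at h4
      have h5 : (2 : ℕ) ^ (2 * m + 1) * 2 = 2 ^ (m + 1) * 2 ^ (m + 1) := by ring
      rw [h5] at h4
      rw [hAcard]
      exact Nat.le_of_mul_le_mul_left h4 (by positivity)
  -- Step 2: elements of order 4 are those squaring to z
  have hord : ∀ y : E, orderOf y = 4 ↔ y * y = (z : E) := by
    intro y
    constructor
    · intro h
      rcases hzz ⟨y * y, hsq y⟩ with h1 | h1
      · exfalso
        have h2 : y ^ 2 = 1 := by rw [pow_two]; exact congrArg Subtype.val h1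
        have := orderOf_dvd_of_pow_eq_one h2
        rw [h] at this
        omega
      · exact congrArg Subtype.val h1
    · intro h
      have h1 : ¬ y ^ 2 ^ 1 = 1 := by
        rw [pow_one, pow_two, h]; exact hzne
      have h2 : y ^ 2 ^ (1 + 1) = 1 := by
        have : y ^ 2 ^ (1 + 1) = (y * y) * (y * y) := by
          norm_num; rw [show (4 : ℕ) = 2 + 2 from rfl, pow_add, pow_two]
        rw [this, h, hz2]
      exact orderOf_eq_prime_pow h1 h2
  have hS : Nat.card {x : E // orderOf x = 4} = Nat.card {y : E // y * y = (z : E)} :=
    Nat.card_congr (Equiv.subtypeEquivRight hord)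
  rw [hS]
  -- Step 3: double counting
  have h1 := dc (fun (x : E) (a : A) => (x * (a : E)) * (x * (a : E)) = (z : E))
  have hR : ∀ a : A, Nat.card {x : E // (x * (a : E)) * (x * (a : E)) = (z : E)}
      = Nat.card {y : E // y * y = (z : E)} := by
    intro a
    apply Nat.card_congr
    exact Equiv.subtypeEquiv (Equiv.mulRight (a : E)) (fun x => by simp)
  have hL : ∀ x : E, 2 * Nat.card {a : A // (x * (a : E)) * (x * (a : E)) = (z : E)}
      = if x ∉ A then Nat.card A + 0 else 0 := by
    intro x
    split_ifs with hx
    · -- x ∈ A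
      have : IsEmpty {a : A // (x * (a : E)) * (x * (a : E)) = (z : E)} := by
        constructor
        rintro ⟨a, h⟩
        have := hA2 (x * a) (mul_mem hx a.2)
        rw [pow_two, h] at this
        exact hzne this
      rw [Nat.card_of_isEmpty]
    · -- x ∉ A
      set f : A →* Subgroup.center E := (commHom hc x).comp A.subtype with hf
      have hf1 : f ≠ 1 := by
        intro h
        apply hx
        rw [← hCA, Subgroup.mem_centralizer_iff]
        intro a ha
        have := congrArg Subtype.val (DFunLike.congr_fun h ⟨a, ha⟩)
        simp only [hf, MonoidHom.comp_apply, Subgroup.coe_subtype, commHom_apply,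
          MonoidHom.one_apply, OneMemClass.coe_one] at this
        calc a * x = (a * x * a⁻¹ * x⁻¹) * x * a := by group
          _ = x * a := by rw [this, one_mul]
      rw [add_zero, ← card_fiber_two hZ f hf1 ⟨(z : E) * (x * x)⁻¹, mul_mem z.2 (inv_mem (hsq x))⟩]
      congr 1
      apply Nat.card_congr
      apply Equiv.subtypeEquivRight
      intro a
      have hcen := hc (a : E) x
      rw [Subgroup.mem_center_iff] at hcen
      have ha2 : (a : E) * a = 1 := by
        have := hA2 a a.2
        rwa [pow_two] at this
      have key : x * (a : E) * (x * a) = ((a : E) * x * (a : E)⁻¹ * x⁻¹) * (x * x) := by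
        calc x * (a : E) * (x * a) = x * ((a : E) * x * (a : E)⁻¹ * x⁻¹) * x * ((a : E) * a) := by group
          _ = ((a : E) * x * (a : E)⁻¹ * x⁻¹) * x * x * 1 := by rw [hcen x, ha2]
          _ = ((a : E) * x * (a : E)⁻¹ * x⁻¹) * (x * x) := by group
      rw [key]
      constructor
      · intro h
        apply Subtype.ext
        simp only [hf, MonoidHom.comp_apply, Subgroup.coe_subtype, commHom_apply]
        rw [eq_mul_inv_iff_mul_eq]; exact h
      · intro h
        have := congrArg Subtype.val h
        simp only [hf, MonoidHom.comp_apply, Subgroup.coe_subtype, commHom_apply] at this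
        rw [eq_mul_inv_iff_mul_eq] at this; exact this
  have h2 : ∑ x : E, 2 * Nat.card {a : A // (x * (a : E)) * (x * (a : E)) = (z : E)}
      = ∑ a : A, 2 * Nat.card {x : E // (x * (a : E)) * (x * (a : E)) = (z : E)} := by
    rw [← Finset.mul_sum, ← Finset.mul_sum, h1]
  simp only [hL, hR] at h2
  rw [sum_ite_card, Finset.sum_const, Finset.card_univ, smul_eq_mul, zero_mul, zero_add,
    ← Nat.card_eq_fintype_card] at h2
  have h3 : Nat.card {x : E // x ∉ A} = Nat.card E - Nat.card A := by
    rw [Nat.card_eq_fintype_card, Nat.card_eq_fintype_card, Nat.card_eq_fintype_card]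
    exact Fintype.card_subtype_compl _
  rw [h3, hAcard, hcard] at h2
  have h4 : 2 ^ (2 * m + 1) - 2 ^ (m + 1) = 2 * Nat.card {y : E // y * y = (z : E)} :=
    Nat.eq_of_mul_eq_mul_left (by positivity : 0 < 2 ^ (m + 1)) h2
  have e1 : (2 : ℕ) ^ (2 * m + 1) = 2 * 2 ^ (2 * m) := by ring
  have e2 : (2 : ℕ) ^ (m + 1) = 2 * 2 ^ m := by ring
  omega

end Cfsg.Agent.S2880
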