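import Mathlib
import Cfsg.Statements.S2881
import Cfsg.Agent.S2880

set_option autoImplicit false
open Cfsg

namespace Cfsg.Agent.S2881

theorem arith (m : ℕ) (h : 5 ∣ 2 ^ (2 * m) - 2 ^ m) : 4 ∣ m := by
  have h1 : 2 ^ (2 * m) - 2 ^ m = 2 ^ m * (2 ^ m - 1) := by
    rw [Nat.mul_sub, mul_one, ← pow_add]
    congr 2
    ring
  rw [h1] at h
  have h2 : Nat.Coprime 5 (2 ^ m) := Nat.Coprime.pow_right m (by norm_num)
  have h3 : 5 ∣ 2 ^ m - 1 := h2.dvd_of_dvd_mul_left h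
  have h4 : 2 ^ m % 5 = 1 := by
    have hpos : 1 ≤ 2 ^ m := Nat.one_le_two_pow
    omega
  have h5 : 2 ^ m % 5 = 2 ^ (m % 4) % 5 := by
    conv_lhs => rw [← Nat.div_add_mod m 4, pow_add, pow_mul]
    simp [Nat.mul_mod, Nat.pow_mod]
  rw [h5] at h4
  have h6 : m % 4 < 4 := Nat.mod_lt _ (by norm_num)
  have h7 : m % 4 = 0 := by
    interval_cases m % 4
    · rfl
    · norm_num at h4
    · norm_num at h4
    · norm_num at h4
  exact Nat.dvd_of_mod_eq_zero h7

theorem result {E : Type*} [Group E] [Finite E] (m : ℕ) (hm : 1 ≤ m) (hE : Cfsg.IsExtraspecial 2 E) (hcard : Nat.card E = 2 ^ (2 * m + 1)) (hplus : ∃ A : Subgroup E, Cfsg.IsElementaryAbelian 2 A ∧ Nat.card A = 2 ^ (m + 1)) (ω : E ≃* E) (hω : orderOf ω = 5) (hfix : ∀ x : E, ω x = x ↔ x ∈ Subgroup.center E) : 4 ∣ m := by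
  classical
  have hcount := Cfsg.Agent.S2880.result m hm hE hcard hplus
  apply arith
  rw [← hcount]
  haveI : Fintype {x : E // orderOf x = 4} := Fintype.ofFinite _
  rw [Nat.card_eq_fintype_card]
  by_contra hnd
  let σ : Equiv.Perm {x : E // orderOf x = 4} :=
    ω.toEquiv.subtypeEquiv (fun a => by
      change orderOf a = 4 ↔ orderOf (ω a) = 4
      rw [MulEquiv.orderOf_eq])
  have hσ1 : ∀ x : {x : E // orderOf x = 4}, ((σ x : {x : E // orderOf x = 4}) : E) = ω (x : E) :=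
    fun x => rfl
  have hσ : ∀ (n : ℕ) (x : {x : E // orderOf x = 4}),
      (((σ ^ n) x : {x : E // orderOf x = 4}) : E) = (ω ^ n) (x : E) := by
    intro n
    induction n with
    | zero => intro x; simp
    | succ n ih =>
      intro x
      rw [pow_succ, pow_succ, Equiv.Perm.mul_apply, ih, hσ1, MulAut.mul_apply]
  have hω5 : ω ^ 5 = 1 := by rw [← hω]; exact pow_orderOf_eq_one ω
  have hσ5 : σ ^ 5 ^ 1 = 1 := by
    ext x
    rw [pow_one, hσ 5 x, hω5]
    rfl
  haveI : Fact (Nat.Prime 5) := ⟨by norm_num⟩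
  obtain ⟨a, ha⟩ := Equiv.Perm.exists_fixed_point_of_prime hnd hσ5
  have h1 : ω (a : E) = (a : E) := by
    rw [← hσ1, ha]
  have h2 := (hfix _).1 h1
  have hZ : Nat.card (Subgroup.center E) = 2 := hE.2
  have h3 : (a : E) ^ 2 = 1 := by
    have h4 : (⟨(a : E), h2⟩ : Subgroup.center E) ^ Nat.card (Subgroup.center E) = 1 :=
      pow_card_eq_one'
    rw [hZ] at h4
    have h5 := congrArg Subtype.val h4
    simpa using h5
  have h6 : orderOf (a : E) ∣ 2 := orderOf_dvd_of_pow_eq_one h3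
  have h7 := a.2
  rw [h7] at h6
  norm_num at h6

end Cfsg.Agent.S2881
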