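import Cfsg.Statements.S3056
import Cfsg.Agent.Lib.Helper12.SylowBasic
import Cfsg.Agent.Lib.Helper16.StronglyEmbedded

set_option autoImplicit false
open Cfsg

namespace Cfsg.Agent.S3056

section aux

open Relation

variable {G : Type*} [Group G] {p : ℕ}

def adj (S T : Sylow p G) : Prop := S ≠ T ∧ (S : Subgroup G) ⊓ (T : Subgroup G) ≠ ⊥

theorem adj_symm {S T : Sylow p G} (h : adj S T) : adj T S :=
  ⟨h.1.symm, by rw [inf_comm]; exact h.2⟩

theorem adj_smul (g : G) {S T : Sylow p G} (h : adj S T) : adj (g • S) (g • T) := by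
  refine ⟨fun he => h.1 (smul_left_cancel g he), ?_⟩
  intro h0
  apply h.2
  rw [eq_bot_iff]
  intro x hx
  have hx1 : g * x * g⁻¹ ∈ ((g • S : Sylow p G) : Subgroup G) ⊓ ((g • T : Sylow p G) : Subgroup G) := by
    have e : g⁻¹ * (g * x * g⁻¹) * g = x := by group
    refine Subgroup.mem_inf.2 ⟨?_, ?_⟩
    · rw [Cfsg.Agent.Lib.Helper12.SylowBasic.mem_smul_sylow_iff, e]
      exact (Subgroup.mem_inf.1 hx).1
    · rw [Cfsg.Agent.Lib.Helper12.SylowBasic.mem_smul_sylow_iff, e]
      exact (Subgroup.mem_inf.1 hx).2
  rw [h0, Subgroup.mem_bot] at hx1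
  rw [Subgroup.mem_bot]
  have e2 : x = g⁻¹ * (g * x * g⁻¹) * g := by group
  rw [e2, hx1]; group

theorem rtg_symm {S T : Sylow p G} (h : ReflTransGen adj S T) : ReflTransGen adj T S := by
  induction h with
  | refl => exact .refl
  | tail _ hbc ih => exact ReflTransGen.head (adj_symm hbc) ih

theorem rtg_smul (g : G) {S T : Sylow p G} (h : ReflTransGen adj S T) :
    ReflTransGen adj (g • S) (g • T) := by
  induction h with
  | refl => exact .refl
  | tail _ hbc ih => exact ih.tail (adj_smul g hbc)

theorem chain_of_rtg {S T : Sylow p G} (h : ReflTransGen adj S T) :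
    ∃ (n : ℕ) (c : Fin (n + 1) → Sylow p G), c 0 = S ∧ c (Fin.last n) = T ∧
      ∀ i : Fin n, adj (c i.castSucc) (c i.succ) := by
  induction h using ReflTransGen.head_induction_on with
  | refl => exact ⟨0, fun _ => T, rfl, rfl, fun i => i.elim0⟩
  | @head a b hab _ ih =>
    obtain ⟨n, c, h0, hl, hc⟩ := ih
    refine ⟨n + 1, Fin.cons a c, rfl, ?_, ?_⟩
    · rw [← Fin.succ_last, Fin.cons_succ]; exact hl
    · intro i
      refine Fin.cases ?_ (fun j => ?_) i
      · rw [Fin.castSucc_zero, Fin.cons_zero, Fin.cons_succ, h0]; exact hab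
      · rw [← Fin.succ_castSucc, Fin.cons_succ, Fin.cons_succ]; exact hc j

theorem rtg_of_chain {n : ℕ} (c : Fin (n + 1) → Sylow p G)
    (hc : ∀ i : Fin n, adj (c i.castSucc) (c i.succ)) :
    ∀ i : Fin (n + 1), ReflTransGen adj (c 0) (c i) := by
  intro i
  induction i using Fin.induction with
  | zero => exact .refl
  | succ i ih => exact ih.tail (hc i)

theorem connected_iff :
    Cfsg.IsSylowChainConnected p G ↔ ∀ S T : Sylow p G, ReflTransGen adj S T := by
  constructor
  · intro h S T
    obtain ⟨n, c, h0, hl, -, hc⟩ := h S T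
    have := rtg_of_chain c hc (Fin.last n)
    rwa [h0, hl] at this
  · intro h S T
    by_cases hST : S = T
    · subst hST
      exact ⟨0, fun _ => S, rfl, rfl, fun _ => inf_le_left, fun i => i.elim0⟩
    · by_cases hb : (S : Subgroup G) ⊓ (T : Subgroup G) = ⊥
      · obtain ⟨n, c, h0, hl, hc⟩ := chain_of_rtg (h S T)
        exact ⟨n, c, h0, hl, fun i => by rw [hb]; exact bot_le, hc⟩
      · refine ⟨1, ![S, T], rfl, rfl, ?_, ?_⟩
        · intro i
          fin_cases i
          · exact inf_le_left
          · exact inf_le_right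
        · intro i
          fin_cases i
          exact ⟨hST, hb⟩

end aux

/-- Let G be a finite group and p a prime. Join two Sylow p-subgroups when they are distinct and meet nontrivially. This graph on the Sylow p-subgroups is disconnected (the Sylow p-subgroups are not chain-connected through nontrivial intersections) if and only if G has a strongly p-embedded subgroup in the classical sense: a proper subgroup H of order divisible by p such that H ∩ gHg⁻¹ has order prime to p for every g outside H. -/
theorem result {G : Type*} [Group G] [Finite G]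
    (p : ℕ) [Fact p.Prime] :
    ¬ Cfsg.IsSylowChainConnected p G ↔
      ∃ H : Subgroup G, H ≠ ⊤ ∧ p ∣ Nat.card H ∧
        ∀ g : G, g ∉ H → ¬ p ∣ Nat.card ↥(H ⊓ H.map (MulAut.conj g).toMonoidHom) := by
  classical
  rw [connected_iff]
  constructor
  · intro hnc
    obtain ⟨S, hS⟩ := not_forall.1 hnc
    obtain ⟨T, hST⟩ := not_forall.1 hS
    let H : Subgroup G :=
      { carrier := {g | Relation.ReflTransGen adj S (g • S)}
        one_mem' := by
          show Relation.ReflTransGen adj S ((1 : G) • S)
          rw [one_smul]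
        mul_mem' := by
          intro a b ha hb
          show Relation.ReflTransGen adj S ((a * b) • S)
          rw [mul_smul]
          exact Relation.ReflTransGen.trans ha (rtg_smul a hb)
        inv_mem' := by
          intro a ha
          show Relation.ReflTransGen adj S (a⁻¹ • S)
          have := rtg_smul a⁻¹ ha
          rw [inv_smul_smul] at this
          exact rtg_symm this }
    have hHmem : ∀ g, g ∈ H ↔ Relation.ReflTransGen adj S (g • S) := fun g => Iff.rfl
    have hSH : (S : Subgroup G) ≤ H := by
      intro s hs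
      rw [hHmem]
      have : s • S = S := Sylow.smul_eq_iff_mem_normalizer.2 (Subgroup.le_normalizer hs)
      rw [this]
    obtain ⟨g0, hg0⟩ := MulAction.exists_smul_eq G S T
    have hSne : (S : Subgroup G) ≠ ⊥ := by
      intro h0
      apply hST
      have hTS : T = S := by
        apply Sylow.ext
        rw [← hg0]
        ext x
        rw [Cfsg.Agent.Lib.Helper12.SylowBasic.mem_smul_sylow_iff, h0, Subgroup.mem_bot,
          Subgroup.mem_bot]
        constructor
        · intro h
          have e2 : x = g0 * (g0⁻¹ * x * g0) * g0⁻¹ := by group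
          rw [e2, h]; group
        · intro h
          rw [h]; group
      rw [hTS]
    have hH_ne_top : H ≠ ⊤ := by
      intro h0
      have : g0 ∈ H := by rw [h0]; exact Subgroup.mem_top _
      rw [hHmem, hg0] at this
      exact hST this
    have hpH : p ∣ Nat.card H :=
      (Cfsg.Agent.Lib.Helper16.StronglyEmbedded.dvd_card_of_ne_bot S.isPGroup' hSne).trans
        (Subgroup.card_dvd_of_le hSH)
    have hNP : Cfsg.Agent.Lib.Helper16.StronglyEmbedded.NormProp p H := by
      intro A hAH hA hAne g hg
      obtain ⟨c, hcH, hc⟩ :=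
        Cfsg.Agent.Lib.Helper12.SylowBasic.exists_conj_le_of_le S H hSH A hAH hA
      have hAU : ∀ x ∈ A, x ∈ ((c⁻¹ • S : Sylow p G) : Subgroup G) := by
        intro x hx
        rw [Cfsg.Agent.Lib.Helper12.SylowBasic.mem_smul_sylow_iff]
        simpa using hc x hx
      have hAgU : ∀ x ∈ A, x ∈ ((g • c⁻¹ • S : Sylow p G) : Subgroup G) := by
        intro x hx
        rw [Cfsg.Agent.Lib.Helper12.SylowBasic.mem_smul_sylow_iff]
        apply hAU
        have := (Subgroup.mem_normalizer_iff.1 (inv_mem hg) x).1 hx
        simpa using this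
      have hR : Relation.ReflTransGen adj (c⁻¹ • S) (g • c⁻¹ • S) := by
        by_cases he : c⁻¹ • S = g • c⁻¹ • S
        · rw [← he]
        · refine Relation.ReflTransGen.single ⟨he, ?_⟩
          intro h0
          apply hAne
          rw [eq_bot_iff, ← h0]
          intro x hx
          exact Subgroup.mem_inf.2 ⟨hAU x hx, hAgU x hx⟩
      have h1 : Relation.ReflTransGen adj S (c⁻¹ • S) := (hHmem _).1 (inv_mem hcH)
      have h2 : g * c⁻¹ ∈ H := by
        rw [hHmem, mul_smul]
        exact Relation.ReflTransGen.trans h1 hR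
      have e : g = (g * c⁻¹) * c := by group
      rw [e]
      exact mul_mem h2 hcH
    exact ⟨H, hH_ne_top, hpH, fun g hg =>
      Cfsg.Agent.Lib.Helper16.StronglyEmbedded.classical_of_normProp hNP g hg⟩
  · rintro ⟨H, hH, hpH, hse⟩ hconn
    have hNP := Cfsg.Agent.Lib.Helper16.StronglyEmbedded.normProp_of_classical hse
    obtain ⟨S0⟩ : Nonempty (Sylow p H) := inferInstance
    obtain ⟨P, hP⟩ := Cfsg.Agent.Lib.Helper16.StronglyEmbedded.sylow_of_normProp hNP hpH S0
    have hPH : (P : Subgroup G) ≤ H := by rw [hP]; exact Subgroup.map_subtype_le _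
    have hPne : (P : Subgroup G) ≠ ⊥ :=
      Cfsg.Agent.Lib.Helper16.StronglyEmbedded.sylow_ne_bot_of_dvd
        (hpH.trans (Subgroup.card_subgroup_dvd_card H)) P
    have key : ∀ T : Sylow p G, Relation.ReflTransGen adj P T → (T : Subgroup G) ≤ H := by
      intro T hT
      induction hT with
      | refl => exact hPH
      | tail _ hbc ih =>
        apply Cfsg.Agent.Lib.Helper16.StronglyEmbedded.le_of_inf_ne_bot hNP (Sylow.isPGroup' _)
        intro h0
        apply hbc.2
        rw [eq_bot_iff, ← h0]
        exact le_inf inf_le_right (inf_le_left.trans ih)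
    apply hH
    rw [eq_top_iff]
    intro g _
    have h1 := key (g • P) (hconn P (g • P))
    exact Cfsg.Agent.Lib.Helper16.StronglyEmbedded.mem_of_conj_le hNP P.isPGroup' hPH hPne h1

end Cfsg.Agent.S3056
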