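import Cfsg.Statements.S2955
import Cfsg.Agent.S3056
import Cfsg.Agent.Lib.Helper17.SylCtrl

set_option autoImplicit false
open Cfsg

namespace Cfsg.Agent.S2955


open Cfsg.Agent.Lib.Helper17.SylCtrl

/-- Let p be a prime dividing the order of the finite group G and 𝓕 a conjugation-closed family of subgroups that controls Sylow p-intersections in G. Suppose the Sylow p-subgroups of G are chain-connected: any two of them are joined by a chain of Sylow p-subgroups, consecutive ones distinct with nontrivial intersection, all containing the intersection of the two ends (equivalently, the graph on the Sylow p-subgroups whose edges are the distinct pairs meeting nontrivially is connected). Then for every Sylow p-subgroup S, G is generated by N_G(S) together with the members of 𝓕 that meet S in a Sylow p-subgroup of themselves. -/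
theorem result {G : Type*} [Group G] [Finite G] (p : ℕ) [Fact p.Prime] (hdiv : p ∣ Nat.card G)
    (𝓕 : Set (Subgroup G)) (h𝓕 : Cfsg.IsNormalSet 𝓕) (hc : Cfsg.ControlsSylowIntersections p 𝓕)
    (hconn : Cfsg.IsSylowChainConnected p G) (S : Sylow p G) :
    (⨆ X ∈ Cfsg.sylowMembers p 𝓕 (S : Subgroup G), X) ⊔ Subgroup.normalizer ((S : Subgroup G) : Set G) = ⊤ := by
  classical
  obtain ⟨L, hLdef⟩ : ∃ L : Subgroup G, L = (⨆ X ∈ Cfsg.sylowMembers p 𝓕 (S : Subgroup G), X) ⊔ Subgroup.normalizer ((S : Subgroup G) : Set G) := ⟨_, rfl⟩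
  rw [← hLdef]
  have hL : ∀ X ∈ Cfsg.sylowMembers p 𝓕 (S : Subgroup G), X ≤ L := by
    intro X hX
    rw [hLdef]
    exact le_trans (le_iSup₂ (f := fun (X : Subgroup G) (_ : X ∈ Cfsg.sylowMembers p 𝓕 (S : Subgroup G)) => X) X hX) le_sup_left
  have hN : Subgroup.normalizer ((S : Subgroup G) : Set G) ≤ L := by rw [hLdef]; exact le_sup_right
  have hchain : ∀ (n : ℕ) (c : Fin (n + 1) → Sylow p G) (X : Fin n → Subgroup G) (x : Fin n → G),
      (∀ i : Fin n, X i ∈ Cfsg.sylowMembers p 𝓕 (c i.castSucc : Subgroup G) ∧ x i ∈ X i ∧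
        Cfsg.subgroupConjRight (x i) (c i.succ : Subgroup G) = (c i.castSucc : Subgroup G)) →
      ∀ i : Fin (n + 1), (∃ l ∈ L, c 0 = l • S) → ∃ l ∈ L, c i = l • S := by
    intro n c X x h i h0
    induction i using Fin.induction with
    | zero => exact h0
    | succ i ih =>
      obtain ⟨l, hl, hcl⟩ := ih
      obtain ⟨h1, h2, h3⟩ := h i
      rw [hcl] at h1
      have hXL : X i ≤ L := le_of_mem_sylowMembers_smul h𝓕 S L hL hl h1
      have h4 := eq_smul_of_subgroupConjRight h3
      refine ⟨x i * l, L.mul_mem (hXL h2) hl, ?_⟩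
      rw [h4, hcl, mul_smul]
  have hadj : ∀ S₁ S₂ : Sylow p G, Cfsg.Agent.S3056.adj S₁ S₂ → (∃ l ∈ L, S₁ = l • S) →
      ∃ l ∈ L, S₂ = l • S := by
    intro S₁ S₂ h12 h1
    obtain ⟨n, c, X, x, h0, hl, hi⟩ := hc S₁ S₂ h12.1 h12.2
    have := hchain n c X x (fun i => ⟨(hi i).1, (hi i).2.2.1, (hi i).2.2.2.1⟩) (Fin.last n)
      (by rw [h0]; exact h1)
    rwa [hl] at this
  have hall : ∀ T : Sylow p G, ∃ l ∈ L, T = l • S := by
    intro T
    have hr := Cfsg.Agent.S3056.connected_iff.1 hconn S T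
    induction hr with
    | refl => exact ⟨1, L.one_mem, (one_smul _ _).symm⟩
    | tail _ hbc ih => exact hadj _ _ hbc ih
  rw [eq_top_iff]
  intro g _
  obtain ⟨l, hl, hgl⟩ := hall (g • S)
  have h1 : (l⁻¹ * g) • S = S := by
    rw [mul_smul, hgl, smul_smul, inv_mul_cancel, one_smul]
  have h2 : l⁻¹ * g ∈ Subgroup.normalizer ((S : Subgroup G) : Set G) :=
    Sylow.smul_eq_iff_mem_normalizer.1 h1
  have e : g = l * (l⁻¹ * g) := by group
  rw [e]
  exact L.mul_mem hl (hN h2)

end Cfsg.Agent.S2955
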