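import Cfsg.Statements.S2968
import Cfsg.Agent.Lib.Helper17.Iso

set_option autoImplicit false
open Cfsg

namespace Cfsg.Agent.S2968

/-- Let G be a finite group, p a prime, P a Sylow p-subgroup of G and x ∈ P an element of p-power order which is isolated in G (the only conjugate of x commuting with x is x itself). Then x lies in the centre of P, and the subgroup generated by x is both strongly closed and weakly closed in P with respect to G. -/
theorem result {G : Type*} [Group G] [Finite G] {p : ℕ} [Fact p.Prime] (P : Sylow p G) (x : G) (hxP : x ∈ (P : Subgroup G)) (hx : ∃ k : ℕ, orderOf x = p ^ k) (hiso : Cfsg.IsIsolated x) : x ∈ (P : Subgroup G) ⊓ Subgroup.centralizer ((P : Subgroup G) : Set G) ∧ Cfsg.IsStronglyClosed (Subgroup.zpowers x) (P : Subgroup G) ∧ Cfsg.IsWeaklyClosed (Subgroup.zpowers x) (P : Subgroup G) := by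
  have hcen : x ∈ Subgroup.centralizer ((P : Subgroup G) : Set G) := by
    rw [Subgroup.mem_centralizer_iff]
    intro h hh
    have := Cfsg.Agent.Lib.Helper17.Iso.conj_eq_of_mem_pGroup hiso P.2 hxP hh
    calc h * x = (h * x * h⁻¹) * h := by group
      _ = x * h := by rw [this]
  have hzP : Subgroup.zpowers x ≤ (P : Subgroup G) := (Subgroup.zpowers_le).2 hxP
  refine ⟨⟨hxP, hcen⟩, ⟨hzP, ?_⟩, ⟨hzP, ?_⟩⟩
  · intro y hy g hgy
    obtain ⟨k, rfl⟩ := Subgroup.mem_zpowers_iff.1 hy
    have hx₁ : g * x * g⁻¹ ∈ Subgroup.centralizer ({g * x ^ k * g⁻¹} : Set G) := by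
      rw [Subgroup.mem_centralizer_iff]
      intro h hh
      rw [Set.mem_singleton_iff] at hh
      rw [hh, ← conj_zpow]
      exact ((Commute.refl (g * x * g⁻¹)).zpow_left k).eq
    have hx0 : x ∈ Subgroup.centralizer ({g * x ^ k * g⁻¹} : Set G) := by
      rw [Subgroup.mem_centralizer_iff]
      intro h hh
      rw [Set.mem_singleton_iff] at hh
      rw [hh]
      exact Subgroup.mem_centralizer_iff.1 hcen _ hgy
    obtain ⟨c, hc, hcx⟩ := Cfsg.Agent.Lib.Helper17.Iso.exists_conj_in_subgroup hiso hx hx0 hx₁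
    have h1 : c * x ^ k * c⁻¹ = g * x ^ k * g⁻¹ := by
      rw [← conj_zpow, hcx, conj_zpow]
    have h2 := Subgroup.mem_centralizer_iff.1 hc (g * x ^ k * g⁻¹) rfl
    have h3 : g * x ^ k * g⁻¹ = x ^ k := by
      have e : c * x ^ k = g * x ^ k * g⁻¹ * c := by
        rw [← h1]; group
      rw [h2] at e
      exact (mul_left_cancel e).symm
    rw [h3]
    exact hy
  · intro g hg
    have hgx : g * x * g⁻¹ ∈ (P : Subgroup G) :=
      hg (Subgroup.mem_map.2 ⟨x, Subgroup.mem_zpowers x, rfl⟩)
    have hcomm : Commute x (g * x * g⁻¹) := (Subgroup.mem_centralizer_iff.1 hcen _ hgx).symm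
    have h := hiso g hcomm
    rw [MonoidHom.map_zpowers]
    show Subgroup.zpowers (g * x * g⁻¹) = Subgroup.zpowers x
    rw [h]

end Cfsg.Agent.S2968
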