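import Cfsg.Statements.S2969
import Cfsg.Agent.Lib.Helper17.Iso

set_option autoImplicit false
open Cfsg

namespace Cfsg.Agent.S2969

/-- Let G be a finite group, p a prime and x ∈ G an element of p-power order which is isolated in G. If R is a p-subgroup of G containing x, then N_G(R) ≤ C_G(x); in particular x lies in the centre of R. Moreover, if x lies in a normal subgroup N of a subgroup H of G, then H = N·C_H(x). -/
theorem result {G : Type*} [Group G] [Finite G] {p : ℕ} [Fact p.Prime] (x : G) (hx : ∃ k : ℕ, orderOf x = p ^ k) (hiso : Cfsg.IsIsolated x) : (∀ R : Subgroup G, IsPGroup p ↥R → x ∈ R → Subgroup.normalizer (R : Set G) ≤ Subgroup.centralizer ({x} : Set G)) ∧ (∀ H N : Subgroup G, N ≤ H → H ≤ Subgroup.normalizer (N : Set G) → x ∈ N → N ⊔ (H ⊓ Subgroup.centralizer ({x} : Set G)) = H) := by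
  refine ⟨?_, ?_⟩
  · intro R hR hxR n hn
    have hnx : n * x * n⁻¹ ∈ R := (Subgroup.mem_normalizer_iff.1 hn x).1 hxR
    have h1 := Cfsg.Agent.Lib.Helper17.Iso.conj_eq_of_mem_pGroup hiso hR hxR hnx
    have hcomm : Commute x (n * x * n⁻¹) := by
      show x * (n * x * n⁻¹) = n * x * n⁻¹ * x
      calc x * (n * x * n⁻¹) = ((n * x * n⁻¹) * x * (n * x * n⁻¹)⁻¹) * (n * x * n⁻¹) := by rw [h1]
        _ = _ := by group
    have h2 := hiso n hcomm
    rw [Subgroup.mem_centralizer_iff]
    intro h hh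
    rw [Set.mem_singleton_iff] at hh
    rw [hh]
    calc x * n = (n * x * n⁻¹) * n := by rw [h2]
      _ = n * x := by group
  · intro H N hNH hHN hxN
    apply le_antisymm (sup_le hNH inf_le_left)
    intro h hh
    have hx₁ : h * x * h⁻¹ ∈ N := (Subgroup.mem_normalizer_iff.1 (hHN hh) x).1 hxN
    obtain ⟨c, hc, hcx⟩ := Cfsg.Agent.Lib.Helper17.Iso.exists_conj_in_subgroup hiso hx hxN hx₁
    have hmem : c⁻¹ * h ∈ H ⊓ Subgroup.centralizer ({x} : Set G) := by
      refine ⟨H.mul_mem (H.inv_mem (hNH hc)) hh, ?_⟩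
      show c⁻¹ * h ∈ Subgroup.centralizer ({x} : Set G)
      rw [Subgroup.mem_centralizer_iff]
      intro y hy
      rw [Set.mem_singleton_iff] at hy
      rw [hy]
      have e : x = c⁻¹ * (h * x * h⁻¹) * c := by rw [← hcx]; group
      calc x * (c⁻¹ * h) = c⁻¹ * (h * x * h⁻¹) * c * (c⁻¹ * h) := by rw [← e]
        _ = c⁻¹ * h * x := by group
    have : h = c * (c⁻¹ * h) := by group
    rw [this]
    exact Subgroup.mul_mem _ (Subgroup.mem_sup_left hc) (Subgroup.mem_sup_right hmem)

end Cfsg.Agent.S2969
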