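import Cfsg.Statements.S2970
import Cfsg.Agent.Lib.Helper17.Iso

set_option autoImplicit false
open Cfsg

namespace Cfsg.Agent.S2970

/-- Let G be a finite group, p a prime and x ∈ G an element of p-power order which is isolated in G. Then the image of x in any quotient G ⧸ N is isolated in G ⧸ N; and if x ≠ 1 and the Sylow p-subgroups of G are cyclic, then G has a normal p-complement. -/
theorem conj_pow_eq {G : Type*} [Group G] {n u : G} {a : ℕ} (h : n * u * n⁻¹ = u ^ a) (j : ℕ) :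
    n ^ j * u * (n ^ j)⁻¹ = u ^ (a ^ j) := by
  induction j with
  | zero => simp
  | succ j ih =>
    have e : n ^ (j + 1) * u * (n ^ (j + 1))⁻¹ = n * (n ^ j * u * (n ^ j)⁻¹) * n⁻¹ := by
      rw [pow_succ']; group
    rw [e, ih, ← conj_pow, h, ← pow_mul, pow_succ']

theorem cyclic_sylow_aux {G : Type*} [Group G] [Finite G] {p : ℕ} [Fact p.Prime] (P : Sylow p G)
    (hcyc : IsCyclic ↥(P : Subgroup G)) {x : G} (hxP : x ∈ (P : Subgroup G)) (hx1 : x ≠ 1)
    (hN : Subgroup.normalizer ((P : Subgroup G) : Set G) ≤ Subgroup.centralizer ({x} : Set G)) :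
    Subgroup.normalizer ((P : Subgroup G) : Set G) ≤ Subgroup.centralizer ((P : Subgroup G) : Set G) := by
  classical
  have hp : p.Prime := Fact.out
  obtain ⟨u, hu⟩ := hcyc.exists_generator
  -- every element of P is a natural power of u
  have hpow : ∀ y ∈ (P : Subgroup G), ∃ k : ℕ, (u : G) ^ k = y := by
    intro y hy
    have h1 : (⟨y, hy⟩ : ↥(P : Subgroup G)) ∈ Submonoid.powers u :=
      mem_powers_iff_mem_zpowers.2 (hu ⟨y, hy⟩)
    obtain ⟨k, hk⟩ := h1
    exact ⟨k, by have := congrArg Subtype.val hk; simpa using this⟩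
  have hord : orderOf (u : G) = Nat.card ↥(P : Subgroup G) := by
    rw [Subgroup.orderOf_coe]
    exact orderOf_eq_card_of_forall_mem_zpowers hu
  obtain ⟨e, he⟩ := P.2.exists_card_eq
  rw [he] at hord
  obtain ⟨k, hk⟩ := hpow x hxP
  have hk0 : ¬ orderOf (u : G) ∣ k := by
    intro hdvd
    apply hx1
    rw [← hk]
    exact orderOf_dvd_iff_pow_eq_one.1 hdvd
  have hcomm : ∀ y ∈ (P : Subgroup G), ∀ z ∈ (P : Subgroup G), y * z = z * y := by
    intro y hy z hz
    obtain ⟨i, rfl⟩ := hpow y hy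
    obtain ⟨j, rfl⟩ := hpow z hz
    rw [← pow_add, ← pow_add, add_comm]
  intro n hn
  have hnu : n * (u : G) * n⁻¹ ∈ (P : Subgroup G) := (Subgroup.mem_normalizer_iff.1 hn _).1 u.2
  obtain ⟨a, ha⟩ := hpow _ hnu
  have hnx : n * x * n⁻¹ = x := by
    have := Subgroup.mem_centralizer_iff.1 (hN hn) x rfl
    rw [← this]; group
  -- u^(a*k) = u^k
  have h1 : (u : G) ^ (a * k) = (u : G) ^ k := by
    rw [pow_mul, ha, conj_pow, hk, hnx]
  have h2 : a * k ≡ k [MOD orderOf (u : G)] := pow_eq_pow_iff_modEq.1 h1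
  have h3 : ((p : ℤ) ^ e) ∣ (k : ℤ) * (1 - (a : ℤ)) := by
    have := (Nat.modEq_iff_dvd.1 h2)
    rw [hord] at this
    have e2 : ((k : ℕ) : ℤ) - ((a * k : ℕ) : ℤ) = (k : ℤ) * (1 - (a : ℤ)) := by push_cast; ring
    rw [e2] at this
    exact_mod_cast this
  have h4 : (p : ℤ) ∣ (a : ℤ) - 1 := by
    by_contra hnd
    have hnd' : ¬ (p : ℤ) ∣ 1 - (a : ℤ) := by
      intro h; apply hnd
      have := dvd_neg.2 h
      rwa [neg_sub] at this
    have hcop : IsCoprime ((p : ℤ) ^ e) (1 - (a : ℤ)) :=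
      IsCoprime.pow_left ((Nat.prime_iff_prime_int.1 hp).coprime_iff_not_dvd.2 hnd')
    have h5 : ((p : ℤ) ^ e) ∣ (k : ℤ) := hcop.dvd_of_dvd_mul_right h3
    apply hk0
    rw [hord]
    exact_mod_cast h5
  have he1 : 1 ≤ e := by
    rcases Nat.eq_zero_or_pos e with h0 | h0
    · exfalso; apply hk0; rw [hord, h0, pow_zero]; exact one_dvd _
    · exact h0
  have h6 : ((p : ℤ) ^ e) ∣ (a : ℤ) ^ p ^ (e - 1) - 1 := by
    have := dvd_sub_pow_of_dvd_sub (R := ℤ) (p := p) (a := (a : ℤ)) (b := 1) h4 (e - 1)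
    rw [Nat.sub_add_cancel he1, one_pow] at this
    exact this
  have h7 : a ^ p ^ (e - 1) ≡ 1 [MOD orderOf (u : G)] := by
    rw [hord]
    apply Nat.ModEq.symm
    rw [Nat.modEq_iff_dvd]
    push_cast
    exact h6
  -- n^q centralizes u
  have h8 : n ^ p ^ (e - 1) * (u : G) * (n ^ p ^ (e - 1))⁻¹ = (u : G) := by
    rw [conj_pow_eq ha.symm]
    have := pow_eq_pow_iff_modEq.2 h7
    rw [this, pow_one]
  have hq : n ^ p ^ (e - 1) ∈ Subgroup.centralizer ((P : Subgroup G) : Set G) := by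
    rw [Subgroup.mem_centralizer_iff]
    intro y hy
    obtain ⟨i, rfl⟩ := hpow y hy
    have h9 : n ^ p ^ (e - 1) * (u : G) ^ i * (n ^ p ^ (e - 1))⁻¹ = (u : G) ^ i := by
      rw [← conj_pow, h8]
    calc (u : G) ^ i * n ^ p ^ (e - 1)
        = (n ^ p ^ (e - 1) * (u : G) ^ i * (n ^ p ^ (e - 1))⁻¹) * n ^ p ^ (e - 1) := by rw [h9]
      _ = n ^ p ^ (e - 1) * (u : G) ^ i := by group
  -- n^(relIndex) ∈ P ≤ centralizer
  have hPc : (P : Subgroup G) ≤ Subgroup.centralizer ((P : Subgroup G) : Set G) := by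
    intro y hy
    rw [Subgroup.mem_centralizer_iff]
    intro z hz
    exact hcomm z hz y hy
  have hnorm : ((P : Subgroup G).subgroupOf (Subgroup.normalizer ((P : Subgroup G) : Set G))).Normal :=
    Subgroup.normal_in_normalizer
  have hr : n ^ (P : Subgroup G).relIndex (Subgroup.normalizer ((P : Subgroup G) : Set G)) ∈
      Subgroup.centralizer ((P : Subgroup G) : Set G) := by
    apply hPc
    have := Subgroup.pow_index_mem
      ((P : Subgroup G).subgroupOf (Subgroup.normalizer ((P : Subgroup G) : Set G)))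
      (⟨n, hn⟩ : ↥(Subgroup.normalizer ((P : Subgroup G) : Set G)))
    rw [Subgroup.mem_subgroupOf] at this
    exact this
  have hcop : Nat.Coprime ((P : Subgroup G).relIndex (Subgroup.normalizer ((P : Subgroup G) : Set G)))
      (p ^ (e - 1)) := by
    apply Nat.Coprime.pow_right
    apply Nat.Coprime.symm
    rw [Nat.Prime.coprime_iff_not_dvd hp]
    intro hdvd
    exact P.not_dvd_index (hdvd.trans (Subgroup.relIndex_dvd_index_of_le Subgroup.le_normalizer))
  have hbez := Nat.isCoprime_iff_coprime.2 hcop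
  obtain ⟨s, t, hst⟩ := hbez
  have hfin : n = (n ^ (P : Subgroup G).relIndex (Subgroup.normalizer ((P : Subgroup G) : Set G))) ^ s *
      (n ^ p ^ (e - 1)) ^ t := by
    rw [← zpow_natCast, ← zpow_natCast, ← zpow_mul, ← zpow_mul, ← zpow_add]
    have : (((P : Subgroup G).relIndex (Subgroup.normalizer ((P : Subgroup G) : Set G)) : ℕ) : ℤ) * s +
        ((p ^ (e - 1) : ℕ) : ℤ) * t = 1 := by
      rw [mul_comm _ s, mul_comm _ t]; exact hst
    rw [this, zpow_one]
  rw [hfin]
  exact Subgroup.mul_mem _ (Subgroup.zpow_mem _ hr s) (Subgroup.zpow_mem _ hq t)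

theorem result {G : Type*} [Group G] [Finite G] {p : ℕ} [Fact p.Prime] (x : G) (hx : ∃ k : ℕ, orderOf x = p ^ k) (hiso : Cfsg.IsIsolated x) : (∀ (N : Subgroup G) [N.Normal], Cfsg.IsIsolated (QuotientGroup.mk x : G ⧸ N)) ∧ (x ≠ 1 → (∀ P : Sylow p G, IsCyclic ↥(P : Subgroup G)) → Cfsg.HasNormalPComplement p G) := by
  refine ⟨?_, ?_⟩
  · intro N _ q hq
    obtain ⟨g, rfl⟩ := QuotientGroup.mk_surjective q
    have hx0 : x ∈ (Subgroup.centralizer ({(QuotientGroup.mk x : G ⧸ N)} : Set (G ⧸ N))).comap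
        (QuotientGroup.mk' N) := by
      rw [Subgroup.mem_comap, Subgroup.mem_centralizer_iff]
      intro h hh
      rw [Set.mem_singleton_iff] at hh
      rw [hh]; rfl
    have hx₁ : g * x * g⁻¹ ∈ (Subgroup.centralizer ({(QuotientGroup.mk x : G ⧸ N)} : Set (G ⧸ N))).comap
        (QuotientGroup.mk' N) := by
      rw [Subgroup.mem_comap, Subgroup.mem_centralizer_iff]
      intro h hh
      rw [Set.mem_singleton_iff] at hh
      rw [hh]
      exact hq
    obtain ⟨c, hc, hcx⟩ := Cfsg.Agent.Lib.Helper17.Iso.exists_conj_in_subgroup hiso hx hx0 hx₁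
    rw [Subgroup.mem_comap, Subgroup.mem_centralizer_iff] at hc
    have h1 := hc _ rfl
    have h2 : (QuotientGroup.mk g : G ⧸ N) * QuotientGroup.mk x * (QuotientGroup.mk g)⁻¹ =
        (QuotientGroup.mk c : G ⧸ N) * QuotientGroup.mk x * (QuotientGroup.mk c)⁻¹ := by
      have := congrArg (QuotientGroup.mk : G → G ⧸ N) hcx
      simpa using this.symm
    rw [h2]
    have h1' : (QuotientGroup.mk x : G ⧸ N) * QuotientGroup.mk c = QuotientGroup.mk c * QuotientGroup.mk x := h1
    rw [← h1']; group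
  · intro hx1 hcyc
    obtain ⟨P, hP⟩ := (Cfsg.Agent.Lib.Helper17.Iso.isPGroup_zpowers hx).exists_le_sylow
    have hxP : x ∈ (P : Subgroup G) := hP (Subgroup.mem_zpowers x)
    have hN : Subgroup.normalizer ((P : Subgroup G) : Set G) ≤ Subgroup.centralizer ({x} : Set G) := by
      intro n hn
      have hnx : n * x * n⁻¹ ∈ (P : Subgroup G) := (Subgroup.mem_normalizer_iff.1 hn x).1 hxP
      have h1 := Cfsg.Agent.Lib.Helper17.Iso.conj_eq_of_mem_pGroup hiso P.2 hxP hnx
      have hcomm : Commute x (n * x * n⁻¹) := by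
        show x * (n * x * n⁻¹) = n * x * n⁻¹ * x
        calc x * (n * x * n⁻¹) = ((n * x * n⁻¹) * x * (n * x * n⁻¹)⁻¹) * (n * x * n⁻¹) := by rw [h1]
          _ = _ := by group
      have h2 := hiso n hcomm
      rw [Subgroup.mem_centralizer_iff]
      intro h hh
      rw [Set.mem_singleton_iff] at hh
      rw [hh]
      calc x * n = (n * x * n⁻¹) * n := by rw [h2]
        _ = n * x := by group
    have hNC := cyclic_sylow_aux P (hcyc P) hxP hx1 hN
    exact ⟨P, (MonoidHom.transferSylow P hNC).ker, inferInstance,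
      MonoidHom.ker_transferSylow_isComplement' P hNC⟩

end Cfsg.Agent.S2970
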