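import Cfsg.Statements.S2975
import Cfsg.Agent.Lib.Helper12.SylowBasic
import Cfsg.Agent.Lib.Helper16.Basic
import Cfsg.Agent.Lib.Helper16.Generation
import Cfsg.Agent.Lib.Helper17.Syl
import Cfsg.Agent.Lib.Helper17.SylCtrl
import Cfsg.Agent.Lib.Helper9.Cores
import Cfsg.Agent.Lib.Lead.Cores

set_option autoImplicit false
open Cfsg

namespace Cfsg.Agent.S2975


section aux

open Cfsg.Agent.Lib.Helper12.SylowBasic

variable {G : Type*} [Group G]

/-- an isolated element of a `p`-subgroup is central in it -/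
theorem comm_of_isolated [Finite G] {p : ℕ} [Fact p.Prime] {x : G} (hiso : Cfsg.IsIsolated x)
    {P : Subgroup G} (hP : IsPGroup p ↥P) (hxP : x ∈ P) : ∀ y ∈ P, y * x = x * y := by
  by_contra hcon
  push Not at hcon
  obtain ⟨y, hyP, hy⟩ := hcon
  have hlt : P ⊓ Subgroup.centralizer ({x} : Set G) < P := by
    refine lt_of_le_of_ne inf_le_left (fun h => hy ?_)
    have h1 : y ∈ P ⊓ Subgroup.centralizer ({x} : Set G) := by rw [h]; exact hyP
    have h2 := (Subgroup.mem_inf.1 h1).2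
    rw [Subgroup.mem_centralizer_iff] at h2
    exact (h2 x rfl).symm
  obtain ⟨s, hsP, hsN, hsn⟩ := Cfsg.Agent.Lib.Helper16.Basic.exists_mem_normalizer_not_mem hP hlt
  have hxC : x ∈ P ⊓ Subgroup.centralizer ({x} : Set G) := by
    refine Subgroup.mem_inf.2 ⟨hxP, ?_⟩
    rw [Subgroup.mem_centralizer_iff]
    intro h hh
    rw [Set.mem_singleton_iff.1 hh]
  have h1 : s * x * s⁻¹ ∈ P ⊓ Subgroup.centralizer ({x} : Set G) :=
    (Subgroup.mem_normalizer_iff.1 hsN x).1 hxC
  have h2 := (Subgroup.mem_inf.1 h1).2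
  rw [Subgroup.mem_centralizer_iff] at h2
  have h3 : x * (s * x * s⁻¹) = (s * x * s⁻¹) * x := h2 x rfl
  have h4 : s * x * s⁻¹ = x := hiso s h3
  apply hsn
  refine Subgroup.mem_inf.2 ⟨hsP, ?_⟩
  rw [Subgroup.mem_centralizer_iff]
  intro h hh
  rw [Set.mem_singleton_iff.1 hh]
  have h5 : s * x = x * s := by
    calc s * x = (s * x * s⁻¹) * s := by group
      _ = x * s := by rw [h4]
  exact h5.symm

/-- a conjugate of an isolated element of order `p` lying in a subgroup `M ∋ x` is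
`M`-conjugate to `x` -/
theorem conj_in_subgroup [Finite G] {p : ℕ} [Fact p.Prime] {x : G} (hx : orderOf x = p)
    (hiso : Cfsg.IsIsolated x) {M : Subgroup G} (hxM : x ∈ M) {g : G} (hy : g * x * g⁻¹ ∈ M) :
    ∃ m ∈ M, m * (g * x * g⁻¹) * m⁻¹ = x := by
  have hpx : IsPGroup p ↥(Subgroup.zpowers (⟨x, hxM⟩ : ↥M)) :=
    IsPGroup.of_card (n := 1) (by rw [Nat.card_zpowers, Subgroup.orderOf_mk, hx, pow_one])
  have hoy : orderOf (g * x * g⁻¹) = p := by
    have h1 := MulEquiv.orderOf_eq (MulAut.conj g) x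
    rw [MulAut.conj_apply] at h1
    rw [h1, hx]
  have hpy : IsPGroup p ↥(Subgroup.zpowers (⟨g * x * g⁻¹, hy⟩ : ↥M)) :=
    IsPGroup.of_card (n := 1) (by rw [Nat.card_zpowers, Subgroup.orderOf_mk, hoy, pow_one])
  obtain ⟨P, hP⟩ := hpx.exists_le_sylow
  obtain ⟨P', hP'⟩ := hpy.exists_le_sylow
  obtain ⟨m, hm⟩ := MulAction.exists_smul_eq ↥M P' P
  have h1 : m * ⟨g * x * g⁻¹, hy⟩ * m⁻¹ ∈ (P : Subgroup ↥M) := by
    rw [← hm, mem_smul_sylow_iff]
    have e : m⁻¹ * (m * ⟨g * x * g⁻¹, hy⟩ * m⁻¹) * m = ⟨g * x * g⁻¹, hy⟩ := by group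
    rw [e]; exact hP' (Subgroup.mem_zpowers _)
  have hxP : (⟨x, hxM⟩ : ↥M) ∈ (P : Subgroup ↥M) := hP (Subgroup.mem_zpowers _)
  have hPG : IsPGroup p ↥((P : Subgroup ↥M).map M.subtype) := P.isPGroup'.map _
  have hc : (m : G) * (g * x * g⁻¹) * (m : G)⁻¹ * x = x * ((m : G) * (g * x * g⁻¹) * (m : G)⁻¹) :=
    comm_of_isolated hiso hPG (Subgroup.mem_map_of_mem M.subtype hxP) _
      (Subgroup.mem_map_of_mem M.subtype h1)
  refine ⟨m.1, m.2, ?_⟩
  have e : (m : G) * g * x * ((m : G) * g)⁻¹ = (m : G) * (g * x * g⁻¹) * (m : G)⁻¹ := by group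
  have h2 := hiso ((m : G) * g) (by
    show x * ((m : G) * g * x * ((m : G) * g)⁻¹) = ((m : G) * g * x * ((m : G) * g)⁻¹) * x
    rw [e]; exact hc.symm)
  rw [← e]; exact h2

/-- if `x` of order `p` is central modulo `O_{p'}(H)`, then `H` has an `x`-invariant Sylow
`q`-subgroup for every prime `q ≠ p`. -/
theorem exists_invariant_sylow_of_zstar {H : Type*} [Group H] [Finite H] {p q : ℕ} [Fact p.Prime]
    [Fact q.Prime] (hpq : q ≠ p) {x : H} (hx : orderOf x = p) (hz : Cfsg.InZStar p x) :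
    ∃ R : Sylow q H, x ∈ Subgroup.normalizer ((R : Subgroup H) : Set H) := by
  obtain ⟨R₀⟩ : Nonempty (Sylow q H) := inferInstance
  obtain ⟨O, hOdef⟩ : ∃ O : Subgroup H, O = Cfsg.pPrimeCore p H := ⟨_, rfl⟩
  have hOn : O.Normal := by rw [hOdef]; exact Cfsg.Agent.Lib.Lead.Cores.pPrimeCore_normal p
  have hOc : (Nat.card ↥O).Coprime p := by
    rw [hOdef]; exact Cfsg.Agent.Lib.Helper9.pPrimeCore_coprime p H
  obtain ⟨Y, hYdef⟩ : ∃ Y : Subgroup H, Y = O ⊔ (R₀ : Subgroup H) := ⟨_, rfl⟩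
  have hR₀Y : (R₀ : Subgroup H) ≤ Y := by rw [hYdef]; exact le_sup_right
  have hOY : O ≤ Y := by rw [hYdef]; exact le_sup_left
  have hYc : (Nat.card ↥Y).Coprime p := by
    have h1 : Nat.card ↥O * O.relIndex Y = Nat.card ↥Y :=
      Cfsg.Agent.Lib.Helper17.Syl.card_mul_relIndex_le hOY
    have h2 : O.relIndex Y = O.relIndex (R₀ : Subgroup H) := by
      rw [hYdef]; exact Subgroup.relIndex_sup_left (H := (R₀ : Subgroup H)) (K := O)
    have h3 : O.relIndex (R₀ : Subgroup H) ∣ Nat.card ↥(R₀ : Subgroup H) :=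
      Subgroup.relIndex_dvd_card _ _
    obtain ⟨k, hk⟩ := IsPGroup.iff_card.1 R₀.isPGroup'
    rw [← h1, h2]
    refine Nat.Coprime.mul_left hOc ?_
    refine Nat.Coprime.coprime_dvd_left h3 ?_
    rw [hk]
    exact Nat.Coprime.pow_left k ((Nat.coprime_primes Fact.out Fact.out).2 hpq)
  have hxY : x ∈ Subgroup.normalizer (Y : Set H) := by
    apply Cfsg.Agent.Lib.Helper17.Syl.mem_normalizer_of_conj_mem
    intro y hy
    have hle : O ⊔ (R₀ : Subgroup H) ≤ (O ⊔ (R₀ : Subgroup H)).map (MulAut.conj x⁻¹).toMonoidHom := by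
      refine sup_le ?_ ?_
      · intro o ho
        rw [mem_map_conj_iff, inv_inv]
        exact (le_sup_left : O ≤ O ⊔ (R₀ : Subgroup H)) (hOn.conj_mem o ho x)
      · intro r hr
        rw [mem_map_conj_iff, inv_inv]
        have h1 : r⁻¹ * x * r⁻¹⁻¹ * x⁻¹ ∈ O := by rw [hOdef]; exact hz r⁻¹
        have e : x * r * x⁻¹ = r * (r⁻¹ * x * r⁻¹⁻¹ * x⁻¹) := by group
        rw [e]
        exact (O ⊔ (R₀ : Subgroup H)).mul_mem
          ((le_sup_right : (R₀ : Subgroup H) ≤ O ⊔ (R₀ : Subgroup H)) hr)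
          ((le_sup_left : O ≤ O ⊔ (R₀ : Subgroup H)) h1)
    rw [hYdef] at hy ⊢
    have h5 := hle hy
    rwa [mem_map_conj_iff, inv_inv] at h5
  have hB : IsPGroup p ↥(Subgroup.zpowers x) :=
    IsPGroup.of_card (n := 1) (by rw [Nat.card_zpowers, hx, pow_one])
  obtain ⟨Q, hQ⟩ := Cfsg.Agent.Lib.Helper16.Generation.exists_invariant_sylow q hYc hB
    (by rw [Subgroup.zpowers_le]; exact hxY)
  have hQp : IsPGroup q ↥((Q : Subgroup ↥Y).map Y.subtype) := Q.isPGroup'.map _
  have hcard : Nat.card ↥(R₀ : Subgroup H) ≤ Nat.card ↥((Q : Subgroup ↥Y).map Y.subtype) := by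
    have hR' : IsPGroup q ↥((R₀ : Subgroup H).subgroupOf Y) := R₀.isPGroup'.comap_subtype
    obtain ⟨Q', hQ'⟩ := hR'.exists_le_sylow
    have h1 : Nat.card ↥((R₀ : Subgroup H).subgroupOf Y) ≤ Nat.card ↥(Q' : Subgroup ↥Y) :=
      Subgroup.card_le_of_le hQ'
    have h2 : Nat.card ↥(Q' : Subgroup ↥Y) = Nat.card ↥(Q : Subgroup ↥Y) := by
      rw [Sylow.card_eq_multiplicity, Sylow.card_eq_multiplicity]
    have h3 : Nat.card ↥((R₀ : Subgroup H).subgroupOf Y) = Nat.card ↥(R₀ : Subgroup H) :=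
      Nat.card_congr (Subgroup.subgroupOfEquivOfLe hR₀Y).toEquiv
    have h4 : Nat.card ↥((Q : Subgroup ↥Y).map Y.subtype) = Nat.card ↥(Q : Subgroup ↥Y) :=
      Subgroup.card_map_of_injective Y.subtype_injective
    omega
  obtain ⟨R₁, hR₁⟩ := hQp.exists_le_sylow
  have heq : (Q : Subgroup ↥Y).map Y.subtype = (R₁ : Subgroup H) := by
    apply Subgroup.eq_of_le_of_card_ge hR₁
    have h5 : Nat.card ↥(R₁ : Subgroup H) = Nat.card ↥(R₀ : Subgroup H) := by
      rw [Sylow.card_eq_multiplicity, Sylow.card_eq_multiplicity]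
    omega
  refine ⟨R₁, ?_⟩
  rw [← heq]
  exact hQ (Subgroup.mem_zpowers x)

end aux

open Cfsg.Agent.Lib.Helper12.SylowBasic in

/-- Let G be a finite group, p a prime and x ∈ G an isolated element of order p (the only conjugate of x commuting with x is x) which is not central modulo the largest normal subgroup of order prime to p, while x is central modulo the largest normal subgroup of order prime to p in every proper subgroup containing x, and the image of x is so in every quotient of G by a nontrivial normal subgroup (a minimal counterexample to the Z*_p statement). Then for every prime q, every q-subgroup of G that is normalized by x and maximal among the q-subgroups normalized by x is either trivial or a Sylow q-subgroup of G; and C_G(x) permutes the x-invariant Sylow q-subgroups of G transitively by conjugation. -/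
theorem result {G : Type*} [Group G] [Finite G] {p : ℕ} [Fact p.Prime] (x : G) (hx : orderOf x = p) (hiso : Cfsg.IsIsolated x) (hnz : ¬ Cfsg.InZStar p x) (hmin : ∀ (H : Subgroup G) (hxH : x ∈ H), H ≠ ⊤ → Cfsg.InZStar p (⟨x, hxH⟩ : ↥H)) (hquot : ∀ (N : Subgroup G) [N.Normal], N ≠ ⊥ → Cfsg.InZStar p (QuotientGroup.mk x : G ⧸ N)) (q : ℕ) [Fact q.Prime] : (∀ Q : Subgroup G, IsPGroup q ↥Q → x ∈ Subgroup.normalizer (Q : Set G) → (∀ R : Subgroup G, IsPGroup q ↥R → x ∈ Subgroup.normalizer (R : Set G) → Q ≤ R → R = Q) → Q = ⊥ ∨ ∃ S : Sylow q G, (S : Subgroup G) = Q) ∧ (∀ S₁ S₂ : Sylow q G, x ∈ Subgroup.normalizer ((S₁ : Subgroup G) : Set G) → x ∈ Subgroup.normalizer ((S₂ : Subgroup G) : Set G) → ∃ c ∈ Subgroup.centralizer ({x} : Set G), (S₁ : Subgroup G).map (MulAut.conj c).toMonoidHom = (S₂ : Subgroup G)) := by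
  classical
  have hpp : p.Prime := Fact.out
  have hqp : q.Prime := Fact.out
  have hxp : IsPGroup p ↥(Subgroup.zpowers x) :=
    IsPGroup.of_card (n := 1) (by rw [Nat.card_zpowers, hx, pow_one])
  refine ⟨?_, ?_⟩
  · intro Q hQ hxQ hmax
    by_cases hqeq : q = p
    · subst hqeq
      right
      have hQx : IsPGroup q ↥(Q ⊔ Subgroup.zpowers x) := by
        have h0 := IsPGroup.to_sup_of_normal_right' hxp hQ (by rw [Subgroup.zpowers_le]; exact hxQ)
        rwa [sup_comm] at h0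
      have hxN : x ∈ Subgroup.normalizer ((Q ⊔ Subgroup.zpowers x : Subgroup G) : Set G) :=
        Subgroup.le_normalizer
          ((le_sup_right : Subgroup.zpowers x ≤ Q ⊔ Subgroup.zpowers x) (Subgroup.mem_zpowers x))
      have h1 := hmax _ hQx hxN le_sup_left
      have hxQ' : x ∈ Q := by
        rw [← h1]
        exact (le_sup_right : Subgroup.zpowers x ≤ Q ⊔ Subgroup.zpowers x) (Subgroup.mem_zpowers x)
      obtain ⟨S, hS⟩ := hQ.exists_le_sylow
      exact ⟨S, hmax _ S.isPGroup' (Subgroup.le_normalizer (hS hxQ')) hS⟩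
    · by_cases hQ1 : Q = ⊥
      · left; exact hQ1
      · right
        obtain ⟨N, hNdef⟩ : ∃ N : Subgroup G, N = Subgroup.normalizer (Q : Set G) := ⟨_, rfl⟩
        have hQN : Q ≤ N := by rw [hNdef]; exact Subgroup.le_normalizer
        have hxN : x ∈ N := by rw [hNdef]; exact hxQ
        have hNtop : N ≠ ⊤ := by
          intro htop
          have hQn : Q.Normal := by rw [← Subgroup.normalizer_eq_top_iff, ← hNdef, htop]
          apply hnz
          have hq := hquot Q hQ1
          intro g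
          have hY : (Subgroup.comap (QuotientGroup.mk' Q) (Cfsg.pPrimeCore p (G ⧸ Q)))
              ≤ Cfsg.pPrimeCore p G := by
            apply Cfsg.Agent.Lib.Lead.Cores.le_pPrimeCore
            · exact Subgroup.Normal.comap (Cfsg.Agent.Lib.Lead.Cores.pPrimeCore_normal p) _
            · rw [Cfsg.Agent.Lib.Helper9.card_comap_mk']
              refine Nat.Coprime.mul_left ?_ (Cfsg.Agent.Lib.Helper9.pPrimeCore_coprime p (G ⧸ Q))
              obtain ⟨k, hk⟩ := IsPGroup.iff_card.1 hQ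
              rw [hk]
              exact Nat.Coprime.pow_left k ((Nat.coprime_primes hqp hpp).2 hqeq)
          apply hY
          rw [Subgroup.mem_comap]
          have h1 := hq (QuotientGroup.mk g)
          simpa using h1
        have hz : Cfsg.InZStar p (⟨x, hxN⟩ : ↥N) := hmin N hxN hNtop
        have hx' : orderOf (⟨x, hxN⟩ : ↥N) = p := by rw [Subgroup.orderOf_mk]; exact hx
        obtain ⟨R, hR⟩ := exists_invariant_sylow_of_zstar hqeq hx' hz
        have hQR : Q.subgroupOf N ≤ (R : Subgroup ↥N) := by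
          have hn : (Q.subgroupOf N).Normal := by
            rw [hNdef]; exact Subgroup.normal_in_normalizer
          have hq' : IsPGroup q ↥(Q.subgroupOf N) := hQ.comap_subtype
          exact le_trans (Cfsg.Agent.Lib.Lead.Cores.le_pCore hn hq') (pCore_le_sylow R)
        have hRG : IsPGroup q ↥((R : Subgroup ↥N).map N.subtype) := R.isPGroup'.map _
        have hxRG : x ∈ Subgroup.normalizer (((R : Subgroup ↥N).map N.subtype : Subgroup G) : Set G) := by
          apply Cfsg.Agent.Lib.Helper17.Syl.mem_normalizer_of_conj_mem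
          rintro _ ⟨r, hr, rfl⟩
          exact ⟨⟨x, hxN⟩ * r * ⟨x, hxN⟩⁻¹, (Subgroup.mem_normalizer_iff.1 hR r).1 hr, rfl⟩
        have hQRG : Q ≤ (R : Subgroup ↥N).map N.subtype := by
          intro y hy
          exact ⟨⟨y, hQN hy⟩, hQR (by rw [Subgroup.mem_subgroupOf]; exact hy), rfl⟩
        have hRQ : (R : Subgroup ↥N).map N.subtype = Q := hmax _ hRG hxRG hQRG
        obtain ⟨S, hS⟩ := hQ.exists_le_sylow
        refine ⟨S, ?_⟩
        by_contra hne
        have hlt : Q < (S : Subgroup G) := lt_of_le_of_ne hS (fun h => hne h.symm)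
        obtain ⟨s, hsS, hsN, hsn⟩ :=
          Cfsg.Agent.Lib.Helper16.Basic.exists_mem_normalizer_not_mem S.isPGroup' hlt
        have hsN' : s ∈ N := by rw [hNdef]; exact hsN
        have hVS : Q ⊔ Subgroup.zpowers s ≤ (S : Subgroup G) :=
          sup_le hS (by rw [Subgroup.zpowers_le]; exact hsS)
        have hVq : IsPGroup q ↥((Q ⊔ Subgroup.zpowers s).subgroupOf N) :=
          (S.isPGroup'.to_le hVS).comap_subtype
        have hRV : (R : Subgroup ↥N) ≤ (Q ⊔ Subgroup.zpowers s).subgroupOf N := by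
          intro r hr
          rw [Subgroup.mem_subgroupOf]
          have h1 : (r : G) ∈ (R : Subgroup ↥N).map N.subtype := ⟨r, hr, rfl⟩
          rw [hRQ] at h1
          exact (le_sup_left : Q ≤ Q ⊔ Subgroup.zpowers s) h1
        have hVR := R.is_maximal' hVq hRV
        apply hsn
        have hs1 : (⟨s, hsN'⟩ : ↥N) ∈ (R : Subgroup ↥N) := by
          rw [← hVR, Subgroup.mem_subgroupOf]
          exact (le_sup_right : Subgroup.zpowers s ≤ Q ⊔ Subgroup.zpowers s) (Subgroup.mem_zpowers s)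
        have hs2 : s ∈ (R : Subgroup ↥N).map N.subtype := ⟨_, hs1, rfl⟩
        rwa [hRQ] at hs2
  · intro S₁ S₂ h1 h2
    obtain ⟨g, hg⟩ := MulAction.exists_smul_eq G S₁ S₂
    have hy : g⁻¹ * x * g⁻¹⁻¹ ∈ Subgroup.normalizer ((S₁ : Subgroup G) : Set G) := by
      rw [← hg] at h2
      apply Sylow.smul_eq_iff_mem_normalizer.1
      have h3 : x • (g • S₁) = g • S₁ := Sylow.smul_eq_iff_mem_normalizer.2 h2
      rw [mul_smul, mul_smul, inv_inv, h3, smul_smul, inv_mul_cancel, one_smul]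
    obtain ⟨m, hm, hmx⟩ := conj_in_subgroup hx hiso h1 hy
    refine ⟨g * m⁻¹, ?_, ?_⟩
    · rw [Subgroup.mem_centralizer_iff]
      intro h hh
      rw [Set.mem_singleton_iff.1 hh]
      calc x * (g * m⁻¹) = (g * m⁻¹) * (m * (g⁻¹ * x * g⁻¹⁻¹) * m⁻¹) := by group
        _ = g * m⁻¹ * x := by rw [hmx]
    · rw [← hg, ← Cfsg.Agent.Lib.Helper17.SylCtrl.coe_smul_sylow, mul_smul,
        Sylow.smul_eq_iff_mem_normalizer.2 (Subgroup.inv_mem _ hm)]

end Cfsg.Agent.S2975
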