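import Cfsg.Statements.S2972
import Cfsg.Agent.S2975
import Cfsg.Agent.Lib.Helper19.RelIndex

set_option autoImplicit false
open Cfsg

namespace Cfsg.Agent.S2972


open scoped commutatorElement in
open Cfsg.Agent.Lib.Helper12.SylowBasic in

/-- Let G be a finite group, p a prime and x ∈ G an isolated element of order p (the only conjugate of x commuting with x is x) which is not central modulo the largest normal subgroup of order prime to p, while x is central modulo the largest normal subgroup of order prime to p in every proper subgroup containing x, and the image of x is so in every quotient of G by a nontrivial normal subgroup (a minimal counterexample to the Z*_p statement). Then the derived subgroup G' is a non-abelian simple group and G = G'⟨x⟩. -/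
theorem result {G : Type*} [Group G] [Finite G] {p : ℕ} [Fact p.Prime] (x : G) (hx : orderOf x = p) (hiso : Cfsg.IsIsolated x) (hnz : ¬ Cfsg.InZStar p x) (hmin : ∀ (H : Subgroup G) (hxH : x ∈ H), H ≠ ⊤ → Cfsg.InZStar p (⟨x, hxH⟩ : ↥H)) (hquot : ∀ (N : Subgroup G) [N.Normal], N ≠ ⊥ → Cfsg.InZStar p (QuotientGroup.mk x : G ⧸ N)) : IsSimpleGroup ↥(commutator G) ∧ ¬ IsMulCommutative ↥(commutator G) ∧ commutator G ⊔ Subgroup.zpowers x = ⊤ := by
  classical
  have hpp : p.Prime := Fact.out
  obtain ⟨M, hMdef⟩ : ∃ M : Subgroup G, M = commutator G := ⟨_, rfl⟩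
  rw [← hMdef]
  have hMn : M.Normal := by rw [hMdef]; infer_instance
  have hxp : IsPGroup p ↥(Subgroup.zpowers x) :=
    IsPGroup.of_card (n := 1) (by rw [Nat.card_zpowers, hx, pow_one])
  have hcentral : (∀ g : G, g * x * g⁻¹ = x) → False := by
    intro h
    apply hnz
    intro g
    rw [h g, mul_inv_cancel]
    exact Subgroup.one_mem _
  have hNc : ∀ N : Subgroup G, N.Normal → x ∈ N → (∀ n ∈ N, n * x = x * n) → False := by
    intro N hN hxN hc
    apply hcentral
    intro g
    exact hiso g (hc _ (hN.conj_mem x hxN g)).symm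
  have hO : Cfsg.pPrimeCore p G = ⊥ := by
    by_contra hne
    have hq := hquot (Cfsg.pPrimeCore p G) hne
    apply hnz
    intro g
    have h1 := hq (QuotientGroup.mk g)
    rw [Cfsg.Agent.Lib.Helper9.pPrimeCore_quotient_eq_bot p G, Subgroup.mem_bot] at h1
    have h2 : (QuotientGroup.mk (g * x * g⁻¹ * x⁻¹) : G ⧸ Cfsg.pPrimeCore p G) = 1 := by
      simpa using h1
    exact (QuotientGroup.eq_one_iff _).1 h2
  have hsub : ∀ D K : Subgroup G, K.Normal → D ≤ K → K ≤ Subgroup.normalizer (D : Set G) →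
      (Nat.card ↥D).Coprime p → D = ⊥ := by
    intro D K hK hDK hKD hc
    have h1 : D.IsSubnormal := Subgroup.IsSubnormal.step D K hDK hK.isSubnormal
      ((Subgroup.normal_subgroupOf_iff_le_normalizer hDK).2 hKD)
    have h2 := Cfsg.Agent.Lib.Helper9.le_pPrimeCore_of_isSubnormal h1 hc
    rw [hO] at h2
    exact eq_bot_iff.2 h2
  have hL4 : ∀ N : Subgroup G, N.Normal → x ∈ N → N = ⊤ := by
    intro N hN hxN
    by_contra hne
    have hz := hmin N hxN hne
    have h1 : (Cfsg.pPrimeCore p ↥N).map N.subtype ≤ Cfsg.pPrimeCore p G := by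
      haveI := hN
      exact Cfsg.Agent.Lib.Helper9.pPrimeCore_subtype_le p N
    rw [hO] at h1
    apply hNc N hN hxN
    intro n hn
    have h2 := hz ⟨n, hn⟩
    have h3 : n * x * n⁻¹ * x⁻¹ ∈ (Cfsg.pPrimeCore p ↥N).map N.subtype := ⟨_, h2, rfl⟩
    have h4 := h1 h3
    rw [Subgroup.mem_bot] at h4
    calc n * x = (n * x * n⁻¹ * x⁻¹) * (x * n) := by group
      _ = x * n := by rw [h4, one_mul]
  have hZ : Subgroup.center G = ⊥ := by
    by_contra hZne
    by_cases hpz : p ∣ Nat.card ↥(Subgroup.center G)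
    · obtain ⟨z, hz⟩ := exists_prime_orderOf_dvd_card' p hpz
      have hzo : orderOf (z : G) = p := by rw [Subgroup.orderOf_coe]; exact hz
      obtain ⟨N, hNdef⟩ : ∃ N : Subgroup G, N = Subgroup.zpowers (z : G) := ⟨_, rfl⟩
      have hNZ : N ≤ Subgroup.center G := by rw [hNdef, Subgroup.zpowers_le]; exact z.2
      have hNn : N.Normal := by
        constructor
        intro n hn g
        have h1 := Subgroup.mem_center_iff.1 (hNZ hn) g
        have e : g * n * g⁻¹ = n := by rw [h1]; group
        rw [e]; exact hn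
      have hN1 : N ≠ ⊥ := by
        intro h
        have h1 : (z : G) ∈ N := by rw [hNdef]; exact Subgroup.mem_zpowers _
        rw [h, Subgroup.mem_bot] at h1
        rw [h1, orderOf_one] at hzo
        exact hpp.one_lt.ne hzo
      have hNcard : Nat.card ↥N = p := by rw [hNdef, Nat.card_zpowers, hzo]
      haveI := hNn
      have hq := hquot N hN1
      obtain ⟨Y, hYdef⟩ : ∃ Y : Subgroup G,
          Y = Subgroup.comap (QuotientGroup.mk' N) (Cfsg.pPrimeCore p (G ⧸ N)) := ⟨_, rfl⟩
      have hYn : Y.Normal := by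
        rw [hYdef]
        exact Subgroup.Normal.comap (Cfsg.Agent.Lib.Lead.Cores.pPrimeCore_normal p) _
      have hNY : N ≤ Y := by
        intro n hn
        rw [hYdef, Subgroup.mem_comap]
        have h1 : QuotientGroup.mk' N n = 1 := (QuotientGroup.eq_one_iff n).2 hn
        rw [h1]; exact Subgroup.one_mem _
      have hYcard : Nat.card ↥Y = p * Nat.card ↥(Cfsg.pPrimeCore p (G ⧸ N)) := by
        rw [hYdef, Cfsg.Agent.Lib.Helper9.card_comap_mk', hNcard]
      have hmc : (Nat.card ↥(Cfsg.pPrimeCore p (G ⧸ N))).Coprime p :=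
        Cfsg.Agent.Lib.Helper9.pPrimeCore_coprime p (G ⧸ N)
      have hxY : ∀ g : G, g * x * g⁻¹ * x⁻¹ ∈ Y := by
        intro g
        rw [hYdef, Subgroup.mem_comap]
        have h1 := hq (QuotientGroup.mk g)
        simpa using h1
      have hYN : Y ≤ N := by
        have hNp : IsPGroup p ↥N := IsPGroup.of_card (n := 1) (by rw [hNcard, pow_one])
        have hN' : IsPGroup p ↥(N.subgroupOf Y) := hNp.comap_subtype
        have hidx : ¬ p ∣ (N.subgroupOf Y).index := by
          have h1 : Nat.card ↥N * N.relIndex Y = Nat.card ↥Y :=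
            Cfsg.Agent.Lib.Helper17.Syl.card_mul_relIndex_le hNY
          rw [hNcard, hYcard] at h1
          have h2 : N.relIndex Y = Nat.card ↥(Cfsg.pPrimeCore p (G ⧸ N)) :=
            Nat.eq_of_mul_eq_mul_left hpp.pos h1
          show ¬ p ∣ N.relIndex Y
          rw [h2]
          intro hd
          exact hpp.one_lt.ne' (Nat.Coprime.eq_one_of_dvd hmc.symm hd)
        obtain ⟨P', hP'⟩ : ∃ P' : Sylow p ↥Y, (P' : Subgroup ↥Y) = N.subgroupOf Y :=
          ⟨IsPGroup.toSylow hN' hidx, IsPGroup.toSylow_coe hN' hidx⟩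
        have hPc : Subgroup.normalizer ((P' : Subgroup ↥Y) : Set ↥Y)
            ≤ Subgroup.centralizer ((P' : Subgroup ↥Y) : Set ↥Y) := by
          intro y _
          rw [Subgroup.mem_centralizer_iff]
          intro n hn
          have hn' : n ∈ N.subgroupOf Y := by rw [← hP']; exact hn
          rw [Subgroup.mem_subgroupOf] at hn'
          apply Subtype.ext
          have h1 := Subgroup.mem_center_iff.1 (hNZ hn') (y : G)
          exact h1.symm
        have hKp := MonoidHom.not_dvd_card_ker_transferSylow P' hPc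
        have hcompl := MonoidHom.ker_transferSylow_isComplement' P' hPc
        obtain ⟨K, hKdef⟩ : ∃ K : Subgroup ↥Y, K = (MonoidHom.transferSylow P' hPc).ker :=
          ⟨_, rfl⟩
        rw [← hKdef] at hKp hcompl
        have hKn : K.Normal := by rw [hKdef]; infer_instance
        have hKbot : K.map Y.subtype = ⊥ := by
          apply hsub (K.map Y.subtype) Y hYn (Subgroup.map_subtype_le K)
          · intro y hy
            apply Cfsg.Agent.Lib.Helper17.Syl.mem_normalizer_of_conj_mem
            rintro _ ⟨k, hk, rfl⟩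
            exact ⟨⟨y, hy⟩ * k * ⟨y, hy⟩⁻¹, hKn.conj_mem k hk ⟨y, hy⟩, rfl⟩
          · rw [Subgroup.card_map_of_injective Y.subtype_injective]
            exact ((Nat.Prime.coprime_iff_not_dvd hpp).2 hKp).symm
        have hK1 : K = ⊥ := (Subgroup.map_eq_bot_iff_of_injective K Y.subtype_injective).1 hKbot
        rw [hK1, Subgroup.isComplement'_bot_left, hP', Subgroup.subgroupOf_eq_top] at hcompl
        exact hcompl
      apply hcentral
      intro g
      have h1 := Subgroup.mem_center_iff.1 (hNZ (hYN (hxY g)))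
      apply hiso g
      show x * (g * x * g⁻¹) = (g * x * g⁻¹) * x
      have e : g * x * g⁻¹ = (g * x * g⁻¹ * x⁻¹) * x := by group
      rw [e, ← mul_assoc, h1 x]
    · have h1 : Subgroup.center G ≤ Cfsg.pPrimeCore p G :=
        Cfsg.Agent.Lib.Lead.Cores.le_pPrimeCore inferInstance
          (((Nat.Prime.coprime_iff_not_dvd hpp).2 hpz).symm)
      rw [hO] at h1
      exact hZne (eq_bot_iff.2 h1)
  have hL6 : ∀ N : Subgroup G, N.Normal → N ≠ ⊥ → N ⊔ Subgroup.zpowers x = ⊤ := by
    intro N hN hN1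
    by_contra hne
    obtain ⟨H, hHdef⟩ : ∃ H : Subgroup G, H = N ⊔ Subgroup.zpowers x := ⟨_, rfl⟩
    rw [← hHdef] at hne
    have hNH : N ≤ H := by rw [hHdef]; exact le_sup_left
    have hxH : x ∈ H := by
      rw [hHdef]
      exact (le_sup_right : Subgroup.zpowers x ≤ N ⊔ Subgroup.zpowers x) (Subgroup.mem_zpowers x)
    have hz := hmin H hxH hne
    obtain ⟨D, hDdef⟩ : ∃ D : Subgroup G, D = N ⊓ (Cfsg.pPrimeCore p ↥H).map H.subtype :=
      ⟨_, rfl⟩
    have hD : D = ⊥ := by
      apply hsub D N hN (by rw [hDdef]; exact inf_le_left)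
      · intro n hn
        apply Cfsg.Agent.Lib.Helper17.Syl.mem_normalizer_of_conj_mem
        intro d hd
        rw [hDdef] at hd ⊢
        obtain ⟨d', hd', hdd⟩ := (Subgroup.mem_inf.1 hd).2
        refine Subgroup.mem_inf.2 ⟨hN.conj_mem _ (Subgroup.mem_inf.1 hd).1 n,
          ⟨⟨n, hNH hn⟩ * d' * ⟨n, hNH hn⟩⁻¹,
            (Cfsg.Agent.Lib.Lead.Cores.pPrimeCore_normal p).conj_mem d' hd' _, ?_⟩⟩
        rw [← hdd]; rfl
      · have h1 : Nat.card ↥D ∣ Nat.card ↥((Cfsg.pPrimeCore p ↥H).map H.subtype) :=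
          Subgroup.card_dvd_of_le (by rw [hDdef]; exact inf_le_right)
        rw [Subgroup.card_map_of_injective H.subtype_injective] at h1
        exact Nat.Coprime.coprime_dvd_left h1 (Cfsg.Agent.Lib.Helper9.pPrimeCore_coprime p ↥H)
    have hcomm : ∀ n ∈ N, n * x = x * n := by
      intro n hn
      have h2 := hz ⟨n, hNH hn⟩
      have h3 : n * x * n⁻¹ * x⁻¹ ∈ D := by
        rw [hDdef]
        refine Subgroup.mem_inf.2 ⟨?_, ⟨_, h2, rfl⟩⟩
        have e : n * x * n⁻¹ * x⁻¹ = n * (x * n⁻¹ * x⁻¹) := by group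
        rw [e]
        exact N.mul_mem hn (hN.conj_mem _ (N.inv_mem hn) x)
      rw [hD, Subgroup.mem_bot] at h3
      calc n * x = (n * x * n⁻¹ * x⁻¹) * (x * n) := by group
        _ = x * n := by rw [h3, one_mul]
    haveI := hN
    have hC : Subgroup.centralizer (N : Set G) = ⊤ := by
      apply hL4 _ inferInstance
      rw [Subgroup.mem_centralizer_iff]
      intro n hn
      exact hcomm n hn
    rw [Subgroup.centralizer_eq_top_iff_subset] at hC
    apply hN1
    rw [eq_bot_iff, ← hZ]
    exact hC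
  have hL7 : ∀ N : Subgroup G, N.Normal → N ≠ ⊥ → M ≤ N := by
    intro N hN hN1
    have htop := hL6 N hN hN1
    have hnorm : Subgroup.zpowers x ≤ Subgroup.normalizer (N : Set G) := by
      rw [Subgroup.normalizer_eq_top_iff.2 hN]; exact le_top
    rw [hMdef, commutator_def, Subgroup.commutator_le]
    intro a _ b _
    obtain ⟨m₁, hm₁, u, hu, rfl⟩ := Cfsg.Agent.Lib.Helper19.exists_mul_of_mem_sup N
      (Subgroup.zpowers x) hnorm a (by rw [htop]; exact Subgroup.mem_top a)
    obtain ⟨m₂, hm₂, v, hv, rfl⟩ := Cfsg.Agent.Lib.Helper19.exists_mul_of_mem_sup N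
      (Subgroup.zpowers x) hnorm b (by rw [htop]; exact Subgroup.mem_top b)
    obtain ⟨i, rfl⟩ := Subgroup.mem_zpowers_iff.1 hu
    obtain ⟨j, rfl⟩ := Subgroup.mem_zpowers_iff.1 hv
    have huv : x ^ i * x ^ j * (x ^ i)⁻¹ * (x ^ j)⁻¹ = 1 := by
      rw [← zpow_add, add_comm, zpow_add]; group
    have e : ⁅m₁ * x ^ i, m₂ * x ^ j⁆ = m₁ * (x ^ i * m₂ * (x ^ i)⁻¹)
        * (x ^ i * x ^ j * (x ^ i)⁻¹ * (x ^ j)⁻¹) * (x ^ j * m₁⁻¹ * (x ^ j)⁻¹) * m₂⁻¹ := by
      rw [commutatorElement_def]; group
    rw [e, huv, mul_one]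
    exact N.mul_mem (N.mul_mem (N.mul_mem hm₁ (hN.conj_mem _ hm₂ _))
      (hN.conj_mem _ (N.inv_mem hm₁) _)) (N.inv_mem hm₂)
  have hM1 : M ≠ ⊥ := by
    intro h
    apply hcentral
    intro g
    have h1 : ⁅g, x⁆ ∈ M := by
      rw [hMdef, commutator_def]
      exact Subgroup.commutator_mem_commutator (Subgroup.mem_top g) (Subgroup.mem_top x)
    rw [h, Subgroup.mem_bot, commutatorElement_def] at h1
    calc g * x * g⁻¹ = (g * x * g⁻¹ * x⁻¹) * x := by group
      _ = x := by rw [h1, one_mul]
  have htop : M ⊔ Subgroup.zpowers x = ⊤ := hL6 M hMn hM1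
  have hna : ¬ IsMulCommutative ↥M := by
    intro hc
    have hMc : M ≤ Subgroup.centralizer (M : Set G) :=
      Subgroup.le_centralizer_iff_isMulCommutative.2 hc
    have hCM : ∀ y ∈ M, y * x = x * y → y = 1 := by
      intro y hy hyx
      have h1 : y ∈ Subgroup.center G := by
        have h2 : M ⊔ Subgroup.zpowers x ≤ Subgroup.centralizer ({y} : Set G) := by
          refine sup_le ?_ ?_
          · intro m hm
            rw [Subgroup.mem_centralizer_iff]
            intro h hh
            rw [Set.mem_singleton_iff.1 hh]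
            exact Subgroup.mem_centralizer_iff.1 (hMc hm) y hy
          · rw [Subgroup.zpowers_le, Subgroup.mem_centralizer_iff]
            intro h hh
            rw [Set.mem_singleton_iff.1 hh]
            exact hyx
        rw [htop] at h2
        rw [Subgroup.mem_center_iff]
        intro g
        have h3 := Subgroup.mem_centralizer_iff.1 (h2 (Subgroup.mem_top g)) y rfl
        exact h3.symm
      rw [hZ, Subgroup.mem_bot] at h1
      exact h1
    have hMp : (Nat.card ↥M).Coprime p := by
      rw [Nat.coprime_comm, Nat.Prime.coprime_iff_not_dvd hpp]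
      intro hd
      obtain ⟨y, hy⟩ := exists_prime_orderOf_dvd_card' p hd
      have hyo : orderOf (y : G) = p := by rw [Subgroup.orderOf_coe]; exact hy
      have hyp : IsPGroup p ↥(Subgroup.zpowers (y : G)) :=
        IsPGroup.of_card (n := 1) (by rw [Nat.card_zpowers, hyo, pow_one])
      obtain ⟨P', hP'⟩ := hyp.exists_le_sylow
      obtain ⟨P, hP⟩ := hxp.exists_le_sylow
      obtain ⟨g, hg⟩ := MulAction.exists_smul_eq G P' P
      have hy1 : g * (y : G) * g⁻¹ ∈ (P : Subgroup G) := by
        rw [← hg, mem_smul_sylow_iff]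
        have e : g⁻¹ * (g * (y : G) * g⁻¹) * g = (y : G) := by group
        rw [e]; exact hP' (Subgroup.mem_zpowers _)
      have hc1 := Cfsg.Agent.S2975.comm_of_isolated hiso P.isPGroup'
        (hP (Subgroup.mem_zpowers x)) _ hy1
      have h2 := hCM _ (hMn.conj_mem _ y.2 g) hc1
      have h3 : (y : G) = 1 := by
        calc (y : G) = g⁻¹ * (g * (y : G) * g⁻¹) * g := by group
          _ = 1 := by rw [h2]; group
      rw [h3, orderOf_one] at hyo
      exact hpp.one_lt.ne hyo
    have h1 := Cfsg.Agent.Lib.Lead.Cores.le_pPrimeCore hMn hMp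
    rw [hO] at h1
    exact hM1 (eq_bot_iff.2 h1)
  refine ⟨?_, hna, htop⟩
  rw [Subgroup.isSimpleGroup_iff]
  refine ⟨hM1, ?_⟩
  have key : ∀ n : ℕ, ∀ T : Subgroup G, Nat.card ↥T = n → T ≤ M → T ≠ ⊥ →
      M ≤ Subgroup.normalizer (T : Set G) → T = M := by
    intro n
    induction n using Nat.strong_induction_on with
    | _ n ih =>
      intro T hn hTM hT1 hMT
      obtain ⟨T₁, hT₁def⟩ : ∃ T₁ : Subgroup G, T₁ = T.map (MulAut.conj x).toMonoidHom :=
        ⟨_, rfl⟩
      have hT₁mem : ∀ y, y ∈ T₁ ↔ x⁻¹ * y * x ∈ T := by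
        intro y; rw [hT₁def, mem_map_conj_iff]
      have hT₁M : T₁ ≤ M := by
        intro y hy
        have h1 := hTM ((hT₁mem y).1 hy)
        have e : y = x * (x⁻¹ * y * x) * x⁻¹ := by group
        rw [e]; exact hMn.conj_mem _ h1 x
      have hMT₁ : M ≤ Subgroup.normalizer (T₁ : Set G) := by
        intro m hm
        apply Cfsg.Agent.Lib.Helper17.Syl.mem_normalizer_of_conj_mem
        intro y hy
        rw [hT₁mem] at hy ⊢
        have hm' : x⁻¹ * m * x ∈ M := by
          have h0 := hMn.conj_mem m hm x⁻¹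
          rwa [inv_inv] at h0
        have h2 := (Subgroup.mem_normalizer_iff.1 (hMT hm') _).1 hy
        have e : x⁻¹ * (m * y * m⁻¹) * x
            = (x⁻¹ * m * x) * (x⁻¹ * y * x) * (x⁻¹ * m * x)⁻¹ := by group
        rw [e]; exact h2
      have hMD : M ≤ Subgroup.normalizer ((T ⊓ T₁ : Subgroup G) : Set G) := by
        intro m hm
        apply Cfsg.Agent.Lib.Helper17.Syl.mem_normalizer_of_conj_mem
        intro y hy
        exact Subgroup.mem_inf.2
          ⟨(Subgroup.mem_normalizer_iff.1 (hMT hm) _).1 (Subgroup.mem_inf.1 hy).1,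
            (Subgroup.mem_normalizer_iff.1 (hMT₁ hm) _).1 (Subgroup.mem_inf.1 hy).2⟩
      by_cases hD : T ⊓ T₁ = ⊥
      · exfalso
        have hpT : p ∣ Nat.card ↥T := by
          by_contra hnd
          exact hT1 (hsub T M hMn hTM hMT ((Nat.Prime.coprime_iff_not_dvd hpp).2 hnd).symm)
        obtain ⟨d, hd⟩ := exists_prime_orderOf_dvd_card' p hpT
        have hdo : orderOf (d : G) = p := by rw [Subgroup.orderOf_coe]; exact hd
        have hdp : IsPGroup p ↥(Subgroup.zpowers (d : G)) :=
          IsPGroup.of_card (n := 1) (by rw [Nat.card_zpowers, hdo, pow_one])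
        obtain ⟨P', hP'⟩ := hdp.exists_le_sylow
        obtain ⟨P, hP⟩ := hxp.exists_le_sylow
        obtain ⟨g, hg⟩ := MulAction.exists_smul_eq G P' P
        have hd1 : g * (d : G) * g⁻¹ ∈ (P : Subgroup G) := by
          rw [← hg, mem_smul_sylow_iff]
          have e : g⁻¹ * (g * (d : G) * g⁻¹) * g = (d : G) := by group
          rw [e]; exact hP' (Subgroup.mem_zpowers _)
        have hc1 := Cfsg.Agent.S2975.comm_of_isolated hiso P.isPGroup'
          (hP (Subgroup.mem_zpowers x)) _ hd1
        have hcM : g⁻¹ * x * g * x⁻¹ ∈ M := by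
          have h1 : ⁅g⁻¹, x⁆ ∈ M := by
            rw [hMdef, commutator_def]
            exact Subgroup.commutator_mem_commutator (Subgroup.mem_top _) (Subgroup.mem_top x)
          rw [commutatorElement_def, inv_inv] at h1
          exact h1
        have hxd : x * (d : G) * x⁻¹
            = (g⁻¹ * x * g * x⁻¹)⁻¹ * (d : G) * (g⁻¹ * x * g * x⁻¹)⁻¹⁻¹ := by
          have e1 : (g⁻¹ * x * g * x⁻¹)⁻¹ * (d : G) * (g⁻¹ * x * g * x⁻¹)⁻¹⁻¹
              = x * (g⁻¹ * (x⁻¹ * (g * (d : G) * g⁻¹ * x)) * g) * x⁻¹ := by group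
          rw [e1, hc1]; group
        have h5 : x * (d : G) * x⁻¹ ∈ T ⊓ T₁ := by
          refine Subgroup.mem_inf.2 ⟨?_, ?_⟩
          · rw [hxd]
            exact (Subgroup.mem_normalizer_iff.1 (hMT (M.inv_mem hcM)) _).1 d.2
          · rw [hT₁mem]
            have e : x⁻¹ * (x * (d : G) * x⁻¹) * x = (d : G) := by group
            rw [e]; exact d.2
        rw [hD, Subgroup.mem_bot] at h5
        have h6 : (d : G) = 1 := by
          calc (d : G) = x⁻¹ * (x * (d : G) * x⁻¹) * x := by group
            _ = 1 := by rw [h5]; group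
        rw [h6, orderOf_one] at hdo
        exact hpp.one_lt.ne hdo
      · rcases Nat.lt_or_ge (Nat.card ↥(T ⊓ T₁ : Subgroup G)) (Nat.card ↥T) with hlt | hge
        · have h1 := ih _ (hn ▸ hlt) (T ⊓ T₁) rfl (le_trans inf_le_left hTM) hD hMD
          exact le_antisymm hTM (h1 ▸ inf_le_left)
        · have h1 : T ⊓ T₁ = T := Subgroup.eq_of_le_of_card_ge inf_le_left hge
          have h2 : T ≤ T₁ := by rw [← h1]; exact inf_le_right
          have hxT : x ∈ Subgroup.normalizer (T : Set G) := by
            have hc : Nat.card ↥T₁ = Nat.card ↥T := by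
              rw [hT₁def]; exact Subgroup.card_map_of_injective (MulAut.conj x).injective
            have h3 : T = T₁ := Subgroup.eq_of_le_of_card_ge h2 hc.le
            apply Cfsg.Agent.Lib.Helper17.Syl.mem_normalizer_of_conj_mem
            intro t ht
            have h4 : x * t * x⁻¹ ∈ T₁ := by
              rw [hT₁mem]
              have e : x⁻¹ * (x * t * x⁻¹) * x = t := by group
              rw [e]; exact ht
            rwa [← h3] at h4
          have hTn : T.Normal := by
            rw [← Subgroup.normalizer_eq_top_iff, eq_top_iff, ← htop]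
            exact sup_le hMT (by rw [Subgroup.zpowers_le]; exact hxT)
          exact le_antisymm hTM (hL7 T hTn hT1)
  intro H' hH'M hH'n
  by_cases h1 : H' = ⊥
  · left; exact h1
  · right
    exact key _ H' rfl hH'M h1 ((Subgroup.normal_subgroupOf_iff_le_normalizer hH'M).1 hH'n)

end Cfsg.Agent.S2972
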