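import Cfsg.Statements.S3014
import Mathlib
import Cfsg.Agent.Lib.Helper17.Syl
import Cfsg.Agent.Lib.Helper16.Basic

set_option autoImplicit false
open Cfsg

namespace Cfsg.Agent.S3014

section aux

open Cfsg.Agent.Lib.Helper16.Basic

variable {G : Type*} [Group G]

theorem le_of_coatom {H M L : Subgroup G} (hmax : IsCoatom (H.subgroupOf M)) (hHL : H ≤ L)
    (hne : ∃ l ∈ L, l ∈ M ∧ l ∉ H) : M ≤ L := by
  obtain ⟨l, hlL, hlM, hlH⟩ := hne
  have hlt : H.subgroupOf M < L.subgroupOf M := by
    rw [SetLike.lt_iff_le_and_exists]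
    refine ⟨fun x hx => ?_, ⟨⟨l, hlM⟩, ?_, ?_⟩⟩
    · exact Subgroup.mem_subgroupOf.2 (hHL (Subgroup.mem_subgroupOf.1 hx))
    · exact Subgroup.mem_subgroupOf.2 hlL
    · intro h; exact hlH (Subgroup.mem_subgroupOf.1 h)
  exact Subgroup.subgroupOf_eq_top.1 (hmax.2 _ hlt)

theorem isCyclic_quotient_of_coatom {M : Type*} [Group M] (N : Subgroup M) [N.Normal]
    (hmax : IsCoatom N) : IsCyclic (M ⧸ N) := by
  have hnt : Nontrivial (M ⧸ N) := QuotientGroup.nontrivial_iff.2 hmax.1
  obtain ⟨x, hx⟩ := exists_ne (1 : M ⧸ N)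
  rw [isCyclic_iff_exists_zpowers_eq_top]
  refine ⟨x, ?_⟩
  by_contra hK
  have h1 : N ≤ (Subgroup.zpowers x).comap (QuotientGroup.mk' N) := by
    intro n hn
    rw [Subgroup.mem_comap]
    have : QuotientGroup.mk' N n = 1 := (QuotientGroup.eq_one_iff n).2 hn
    rw [this]; exact one_mem _
  have h2 : (Subgroup.zpowers x).comap (QuotientGroup.mk' N) ≠ ⊤ := by
    intro h
    apply hK
    rw [eq_top_iff]
    intro y _
    obtain ⟨m, rfl⟩ := QuotientGroup.mk'_surjective N y
    have : m ∈ (Subgroup.zpowers x).comap (QuotientGroup.mk' N) := by rw [h]; exact Subgroup.mem_top m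
    exact this
  have h3 : (Subgroup.zpowers x).comap (QuotientGroup.mk' N) = N := (hmax.le_iff_eq h2).1 h1
  apply hx
  obtain ⟨m, rfl⟩ := QuotientGroup.mk'_surjective N x
  have h4 : m ∈ (Subgroup.zpowers (QuotientGroup.mk' N m)).comap (QuotientGroup.mk' N) :=
    Subgroup.mem_zpowers _
  rw [h3] at h4
  exact (QuotientGroup.eq_one_iff m).2 h4

theorem transfer_apply_of_mem [Finite G] {M : Subgroup G} {A : Type*} [CommGroup A] (ϕ : M →* A)
    (hker : ∀ (x : G) (y : M), x ∉ M → x * (y : G) * x⁻¹ ∈ M → ϕ y = 1) (m : M) :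
    MonoidHom.transfer ϕ (m : G) = ϕ m := by
  classical
  letI : Fintype (Quotient (MulAction.orbitRel (Subgroup.zpowers (m : G)) (G ⧸ M))) :=
    Fintype.ofFinite _
  rw [MonoidHom.transfer_eq_prod_quotient_orbitRel_zpowers_quot]
  have key : ∀ q : Quotient (MulAction.orbitRel (Subgroup.zpowers (m : G)) (G ⧸ M)),
      (q.out.out : G) ∈ M → q.out = ((1 : G) : G ⧸ M) := by
    intro q hxM
    rw [← QuotientGroup.out_eq' q.out, QuotientGroup.eq]
    simpa using hxM
  rw [Fintype.prod_eq_single (Quotient.mk _ ((1 : G) : G ⧸ M))]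
  · set q₀ : Quotient (MulAction.orbitRel (Subgroup.zpowers (m : G)) (G ⧸ M)) :=
      Quotient.mk _ ((1 : G) : G ⧸ M) with hq₀
    have hc : q₀.out = ((1 : G) : G ⧸ M) := by
      have h1 : Quotient.mk _ q₀.out = Quotient.mk (MulAction.orbitRel (Subgroup.zpowers (m : G)) (G ⧸ M))
          ((1 : G) : G ⧸ M) := Quotient.out_eq q₀
      have h2 := Quotient.exact h1
      obtain ⟨z, hz⟩ := h2
      rw [← hz]
      have hzM : ((z : G)) ∈ M := (Subgroup.zpowers_le.2 m.2) z.2
      show (z : G) • ((1 : G) : G ⧸ M) = ((1 : G) : G ⧸ M)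
      rw [MulAction.Quotient.smul_mk, QuotientGroup.eq]
      simpa using hzM
    have hx₀ : (q₀.out.out : G) ∈ M := by
      have h3 : ((q₀.out.out : G) : G ⧸ M) = ((1 : G) : G ⧸ M) :=
        (QuotientGroup.out_eq' _).trans hc
      rw [QuotientGroup.eq] at h3
      simpa using h3
    have hn : Function.minimalPeriod ((m : G) • ·) q₀.out = 1 := by
      rw [Function.minimalPeriod_eq_one_iff_isFixedPt]
      show (m : G) • q₀.out = q₀.out
      rw [hc, MulAction.Quotient.smul_mk, QuotientGroup.eq]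
      simp
    have e : (⟨q₀.out.out⁻¹ * (m : G) ^ Function.minimalPeriod ((m : G) • ·) q₀.out * q₀.out.out,
        QuotientGroup.out_conj_pow_minimalPeriod_mem M (m : G) q₀.out⟩ : M) =
        (⟨q₀.out.out, hx₀⟩ : M)⁻¹ * m * ⟨q₀.out.out, hx₀⟩ := by
      apply Subtype.ext
      simp [hn]
    rw [e, map_mul, map_mul, map_inv, mul_comm, mul_inv_cancel_left]
  · intro q hq
    have hx : (q.out.out : G) ∉ M := by
      intro hxM
      apply hq
      calc q = Quotient.mk _ q.out := (Quotient.out_eq q).symm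
        _ = _ := by rw [key q hxM]
    refine hker _ _ hx ?_
    have e : q.out.out * (q.out.out⁻¹ * (m : G) ^ Function.minimalPeriod ((m : G) • ·) q.out *
        q.out.out) * q.out.out⁻¹ = (m : G) ^ Function.minimalPeriod ((m : G) • ·) q.out := by group
    show q.out.out * (q.out.out⁻¹ * (m : G) ^ Function.minimalPeriod ((m : G) • ·) q.out *
        q.out.out) * q.out.out⁻¹ ∈ M
    rw [e]
    exact pow_mem m.2 _

end aux

/-- Let G be a finite group and H ≤ M ≤ G subgroups such that for every g ∈ G the subgroup generated by H and g H g⁻¹ meets M exactly in H. If H is a maximal subgroup of M and M is a maximal subgroup of G, then the normal closure of H in G meets M exactly in H. -/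
theorem result {G : Type*} [Group G] [Finite G] (H M : Subgroup G) (hHM : H ≤ M) (hcl : ∀ g : G, (H ⊔ H.map (MulAut.conj g).toMonoidHom) ⊓ M = H) (hmaxH : IsCoatom (H.subgroupOf M)) (hmaxM : IsCoatom M) : Subgroup.normalClosure (H : Set G) ⊓ M = H := by
  classical
  apply le_antisymm _ (le_inf Subgroup.le_normalClosure hHM)
  -- `M` normalizes `H`
  have hMN : M ≤ Subgroup.normalizer (H : Set G) := by
    intro m hm
    apply Cfsg.Agent.Lib.Helper17.Syl.mem_normalizer_of_conj_mem
    intro r hr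
    have h1 : H ⊔ H.map (MulAut.conj m).toMonoidHom ≤ M := by
      refine sup_le hHM ?_
      rintro _ ⟨y, hy, rfl⟩
      exact mul_mem (mul_mem hm (hHM hy)) (inv_mem hm)
    have h2 := hcl m
    rw [inf_eq_left.2 h1] at h2
    have h3 : m * r * m⁻¹ ∈ H ⊔ H.map (MulAut.conj m).toMonoidHom :=
      Subgroup.mem_sup_right (Cfsg.Agent.Lib.Helper16.Basic.conj_mem_conj H m hr)
    rw [h2] at h3
    exact h3
  by_cases hNtop : Subgroup.normalizer (H : Set G) = ⊤
  · have hn : H.Normal := Subgroup.normalizer_eq_top_iff.1 hNtop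
    rw [Subgroup.normalClosure_eq_self]
    exact inf_le_left
  have hNM : Subgroup.normalizer (H : Set G) = M := (hmaxM.le_iff_eq hNtop).1 hMN
  by_cases hcase : ∃ g : G, g ∉ M ∧ ¬ (M ⊓ M.map (MulAut.conj g).toMonoidHom ≤ H)
  · -- linked case
    obtain ⟨g, hgM, hg⟩ := hcase
    have hL : M ≤ H ⊔ (M ⊓ M.map (MulAut.conj g).toMonoidHom) := by
      apply le_of_coatom hmaxH le_sup_left
      obtain ⟨l, hl, hlH⟩ := SetLike.not_le_iff_exists.1 hg
      exact ⟨l, Subgroup.mem_sup_right hl, (Subgroup.mem_inf.1 hl).1, hlH⟩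
    have hXN : M ≤ Subgroup.normalizer ((H ⊔ H.map (MulAut.conj g).toMonoidHom : Subgroup G) : Set G) := by
      refine hL.trans (sup_le (le_sup_left.trans Subgroup.le_normalizer) ?_)
      intro y hy
      obtain ⟨hy1, hy2⟩ := Subgroup.mem_inf.1 hy
      rw [← Cfsg.Agent.Lib.Helper16.Basic.conj_eq_self_iff, Subgroup.map_sup]
      have e1 : H.map (MulAut.conj y).toMonoidHom = H :=
        (Cfsg.Agent.Lib.Helper16.Basic.conj_eq_self_iff H y).2 (hMN hy1)
      have e2 : (H.map (MulAut.conj g).toMonoidHom).map (MulAut.conj y).toMonoidHom =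
          H.map (MulAut.conj g).toMonoidHom := by
        rw [Cfsg.Agent.Lib.Helper16.Basic.conj_eq_self_iff,
          Cfsg.Agent.Lib.Helper16.Basic.normalizer_conj]
        exact Cfsg.Agent.Lib.Helper16.Basic.conj_mono g hMN hy2
      rw [e1, e2]
    have hXM : ¬ (H ⊔ H.map (MulAut.conj g).toMonoidHom ≤ M) := by
      intro h1
      apply hgM
      rw [← hNM]
      apply Cfsg.Agent.Lib.Helper17.Syl.mem_normalizer_of_conj_mem
      intro r hr
      have h2 := hcl g
      rw [inf_eq_left.2 h1] at h2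
      have h3 : g * r * g⁻¹ ∈ H ⊔ H.map (MulAut.conj g).toMonoidHom :=
        Subgroup.mem_sup_right (Cfsg.Agent.Lib.Helper16.Basic.conj_mem_conj H g hr)
      rw [h2] at h3
      exact h3
    have hXtop : Subgroup.normalizer
        ((H ⊔ H.map (MulAut.conj g).toMonoidHom : Subgroup G) : Set G) = ⊤ := by
      by_contra hne
      have h1 := (hmaxM.le_iff_eq hne).1 hXN
      exact hXM (h1 ▸ Subgroup.le_normalizer)
    have hXn : (H ⊔ H.map (MulAut.conj g).toMonoidHom).Normal :=
      Subgroup.normalizer_eq_top_iff.1 hXtop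
    have h1 : Subgroup.normalClosure (H : Set G) ≤ H ⊔ H.map (MulAut.conj g).toMonoidHom :=
      Subgroup.normalClosure_le_normal (SetLike.coe_subset_coe.2 le_sup_left)
    calc Subgroup.normalClosure (H : Set G) ⊓ M ≤ (H ⊔ H.map (MulAut.conj g).toMonoidHom) ⊓ M :=
          inf_le_inf_right M h1
      _ = H := hcl g
  · -- unlinked case: transfer
    have hB : ∀ g : G, g ∉ M → M ⊓ M.map (MulAut.conj g).toMonoidHom ≤ H := by
      intro g hg
      by_contra h
      exact hcase ⟨g, hg, h⟩
    haveI hn : (H.subgroupOf M).Normal := Subgroup.normal_subgroupOf_of_le_normalizer hMN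
    haveI hcyc : IsCyclic (↥M ⧸ H.subgroupOf M) := isCyclic_quotient_of_coatom _ hmaxH
    letI : CommGroup (↥M ⧸ H.subgroupOf M) := IsCyclic.commGroup
    have hker : ∀ (x : G) (y : M), x ∉ M → x * (y : G) * x⁻¹ ∈ M →
        (QuotientGroup.mk' (H.subgroupOf M)) y = 1 := by
      intro x y hx hxy
      rw [QuotientGroup.mk'_apply, QuotientGroup.eq_one_iff, Subgroup.mem_subgroupOf]
      apply hB x⁻¹ (fun h => hx (by simpa using inv_mem h))
      refine Subgroup.mem_inf.2 ⟨y.2, ?_⟩
      rw [Cfsg.Agent.Lib.Helper16.Basic.mem_conj]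
      simpa using hxy
    have hV := transfer_apply_of_mem (QuotientGroup.mk' (H.subgroupOf M)) hker
    have hHker : H ≤ (MonoidHom.transfer (QuotientGroup.mk' (H.subgroupOf M))).ker := by
      intro h hh
      rw [MonoidHom.mem_ker]
      have := hV ⟨h, hHM hh⟩
      rw [this, QuotientGroup.mk'_apply, QuotientGroup.eq_one_iff, Subgroup.mem_subgroupOf]
      exact hh
    have hNker : Subgroup.normalClosure (H : Set G) ≤
        (MonoidHom.transfer (QuotientGroup.mk' (H.subgroupOf M))).ker :=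
      Subgroup.normalClosure_le_normal (SetLike.coe_subset_coe.2 hHker)
    intro m hm
    obtain ⟨hm1, hm2⟩ := Subgroup.mem_inf.1 hm
    have h1 := hNker hm1
    rw [MonoidHom.mem_ker] at h1
    have h2 := hV ⟨m, hm2⟩
    rw [h1] at h2
    have h3 := h2.symm
    rw [QuotientGroup.mk'_apply, QuotientGroup.eq_one_iff, Subgroup.mem_subgroupOf] at h3
    exact h3

end Cfsg.Agent.S3014
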