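import Cfsg.Statements.S3015
import Mathlib
import Cfsg.Agent.S3014
import Cfsg.Agent.Lib.Helper16.Residual

set_option autoImplicit false
open Cfsg

namespace Cfsg.Agent.S3015

section aux

open Cfsg.Agent.Lib.Helper16.Basic

variable {G : Type*} [Group G]

theorem isCoatom_of_prime_relIndex {H M : Subgroup G} (hidx : (H.relIndex M).Prime) :
    IsCoatom (H.subgroupOf M) := by
  constructor
  · intro h
    have h1 : H.relIndex M = 1 := by
      unfold Subgroup.relIndex
      rw [h, Subgroup.index_top]
    rw [h1] at hidx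
    exact Nat.not_prime_one hidx
  · intro K hK
    have h1 := Subgroup.relIndex_mul_index hK.le
    have h2 : (H.subgroupOf M).index = H.relIndex M := rfl
    rw [h2] at h1
    rcases (Nat.dvd_prime hidx).1 (Dvd.intro_left _ h1) with h3 | h3
    · exact Subgroup.index_eq_one.1 h3
    · exfalso
      rw [h3] at h1
      have h4 : (H.subgroupOf M).relIndex K = 1 := by
        have hpos : 0 < H.relIndex M := hidx.pos
        have : (H.subgroupOf M).relIndex K * H.relIndex M = 1 * H.relIndex M := by rw [h1, one_mul]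
        exact Nat.eq_of_mul_eq_mul_right hpos this
      rw [Subgroup.relIndex_eq_one] at h4
      exact (not_le_of_gt hK) h4

end aux

/-- Let G be a finite non-abelian simple group, M a maximal subgroup of G and H a normal subgroup of M of prime index in M. Then G is generated by H together with one of its conjugates. -/
theorem result {G : Type*} [Group G] [Finite G] [IsSimpleGroup G] (hG : ¬ IsMulCommutative G) (M H : Subgroup G) (hmaxM : IsCoatom M) (hHM : H ≤ M) (hHn : (H.subgroupOf M).Normal) (hidx : (H.relIndex M).Prime) : ∃ g : G, H ⊔ H.map (MulAut.conj g).toMonoidHom = ⊤ := by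
  classical
  by_contra hcon0
  have hcon : ∀ g : G, H ⊔ H.map (MulAut.conj g).toMonoidHom ≠ ⊤ := fun g h => hcon0 ⟨g, h⟩
  haveI hpF : Fact (H.relIndex M).Prime := ⟨hidx⟩
  have hmaxH : IsCoatom (H.subgroupOf M) := isCoatom_of_prime_relIndex hidx
  have hMN : M ≤ Subgroup.normalizer (H : Set G) :=
    (Subgroup.normal_subgroupOf_iff_le_normalizer hHM).1 hHn
  have hcardM : Nat.card ↥H * H.relIndex M = Nat.card ↥M :=
    Cfsg.Agent.Lib.Helper17.Syl.card_mul_relIndex_le hHM
  have hMbot : M ≠ ⊥ := by
    intro h0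
    have h1 : H = ⊥ := by rw [eq_bot_iff, ← h0]; exact hHM
    rw [h0, h1, Subgroup.relIndex_bot_left, Subgroup.card_bot] at hidx
    exact Nat.not_prime_one hidx
  -- `M` is self-normalizing
  have hNM : Subgroup.normalizer (M : Set G) = M := by
    apply (hmaxM.le_iff_eq _).1 Subgroup.le_normalizer
    intro htop
    have hn : M.Normal := Subgroup.normalizer_eq_top_iff.1 htop
    rcases hn.eq_bot_or_eq_top with h | h
    · exact hMbot h
    · exact hmaxM.1 h
  -- conjugates of `M` other than `M` are not contained in `M`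
  have hMconj : ∀ g : G, g ∉ M → ¬ (M.map (MulAut.conj g).toMonoidHom ≤ M) := by
    intro g hg hle
    apply hg
    rw [← hNM]
    apply Cfsg.Agent.Lib.Helper17.Syl.mem_normalizer_of_conj_mem
    intro r hr
    exact hle (Cfsg.Agent.Lib.Helper16.Basic.conj_mem_conj M g hr)
  -- `H ≠ ⊥`
  have hHbot : H ≠ ⊥ := by
    intro h0
    rw [h0, Subgroup.relIndex_bot_left] at hidx
    have hMp : IsPGroup (Nat.card ↥M) ↥M := by
      haveI : Fact (Nat.card ↥M).Prime := ⟨hidx⟩
      exact IsPGroup.of_card (n := 1) (pow_one _).symm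
    haveI : Fact (Nat.card ↥M).Prime := ⟨hidx⟩
    obtain ⟨P, hP⟩ := hMp.exists_le_sylow
    by_cases hPtop : (P : Subgroup G) = ⊤
    · -- `G` is a `p`-group
      have hGp : IsPGroup (Nat.card ↥M) G := by
        have h1 := P.isPGroup'
        rw [hPtop] at h1
        exact IsPGroup.of_equiv h1 Subgroup.topEquiv
      have hZ := hGp.center_nontrivial
      have hZn : (Subgroup.center G).Normal := inferInstance
      rcases hZn.eq_bot_or_eq_top with h | h
      · have := (Subgroup.nontrivial_iff_ne_bot _).1 hZ
        exact this h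
      · apply hG
        refine ⟨⟨fun a b => ?_⟩⟩
        have ha : a ∈ Subgroup.center G := by rw [h]; exact Subgroup.mem_top a
        exact (Subgroup.mem_center_iff.1 ha b).symm
    · have hPM : (P : Subgroup G) = M := (hmaxM.le_iff_eq hPtop).1 hP
      haveI : IsCyclic ↥M := isCyclic_of_prime_card (p := Nat.card ↥M) rfl
      have hMab : ∀ a ∈ M, ∀ b ∈ M, a * b = b * a := by
        intro a ha b hb
        haveI : IsMulCommutative ↥M := IsCyclic.isMulCommutative
        exact setLike_mul_comm ha hb
      have hPN : Subgroup.normalizer ((P : Subgroup G) : Set G) ≤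
          Subgroup.centralizer ((P : Subgroup G) : Set G) := by
        rw [hPM, hNM]
        intro a ha
        rw [Subgroup.mem_centralizer_iff]
        intro b hb
        exact hMab b hb a ha
      have hcompl := MonoidHom.ker_transferSylow_isComplement' P hPN
      have hcard := hcompl.card_mul_card
      rcases (inferInstance : (MonoidHom.transferSylow P hPN).ker.Normal).eq_bot_or_eq_top with h | h
      · rw [h, Subgroup.card_bot, one_mul] at hcard
        apply hPtop
        exact Subgroup.eq_top_of_card_eq _ hcard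
      · rw [h, Subgroup.card_top] at hcard
        have hGpos : 0 < Nat.card G := Nat.card_pos
        have h1 : Nat.card ↥(P : Subgroup G) = 1 := by
          have : Nat.card G * Nat.card ↥(P : Subgroup G) = Nat.card G * 1 := by rw [hcard, mul_one]
          exact Nat.eq_of_mul_eq_mul_left hGpos this
        rw [hPM] at h1
        rw [h1] at hidx
        exact Nat.not_prime_one hidx
  -- the key condition of S3014
  have hcl : ∀ g : G, (H ⊔ H.map (MulAut.conj g).toMonoidHom) ⊓ M = H := by
    intro g
    by_contra hne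
    have hle : H ≤ (H ⊔ H.map (MulAut.conj g).toMonoidHom) ⊓ M := le_inf le_sup_left hHM
    have hnle : ¬ ((H ⊔ H.map (MulAut.conj g).toMonoidHom) ⊓ M ≤ H) :=
      fun h => hne (le_antisymm h hle)
    obtain ⟨l, hl, hlH⟩ := SetLike.not_le_iff_exists.1 hnle
    have hMX : M ≤ (H ⊔ H.map (MulAut.conj g).toMonoidHom) ⊓ M :=
      Cfsg.Agent.S3014.le_of_coatom hmaxH hle ⟨l, hl, (Subgroup.mem_inf.1 hl).2, hlH⟩
    have hX : H ⊔ H.map (MulAut.conj g).toMonoidHom = M :=
      (hmaxM.le_iff_eq (hcon g)).1 (hMX.trans inf_le_left)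
    have hKM : H.map (MulAut.conj g).toMonoidHom ≤ M := by rw [← hX]; exact le_sup_right
    have hgM : g ∉ M := by
      intro hg
      have h1 : H.map (MulAut.conj g).toMonoidHom = H :=
        (Cfsg.Agent.Lib.Helper16.Basic.conj_eq_self_iff H g).2 (hMN hg)
      rw [h1, sup_idem] at hX
      rw [hX] at hidx
      rw [(Subgroup.relIndex_eq_one).2 le_rfl] at hidx
      exact Nat.not_prime_one hidx
    have hginvM : g⁻¹ ∉ M := fun h => hgM (by simpa using inv_mem h)
    -- `H ≤ M^{g⁻¹}`
    have hHM' : H ≤ M.map (MulAut.conj g⁻¹).toMonoidHom := by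
      have h1 := Cfsg.Agent.Lib.Helper16.Basic.conj_mono g⁻¹ hKM
      rw [Cfsg.Agent.Lib.Helper16.Basic.conj_inv_conj] at h1
      exact h1
    -- `p'`-elements of `M` lie in `H`
    have hcop : ∀ x : G, x ∈ M → (orderOf x).Coprime (H.relIndex M) → x ∈ H := by
      intro x hx hc
      have h1 : (⟨x, hx⟩ : M) ^ (H.subgroupOf M).index ∈ H.subgroupOf M :=
        Subgroup.pow_index_mem (H.subgroupOf M) ⟨x, hx⟩
      have h2 : x ^ H.relIndex M ∈ H := h1
      obtain ⟨k, hk⟩ := exists_pow_eq_self_of_coprime (x := x) hc.symm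
      rw [← hk]
      exact pow_mem h2 k
    -- the residual of `M`
    have hR1 : (Cfsg.pResidual (H.relIndex M) ↥M).map M.subtype ≤ H := by
      rw [Cfsg.Agent.Lib.Helper16.Residual.pResidualOf_eq_closure, Subgroup.closure_le]
      rintro x ⟨hx, hc⟩
      exact hcop x hx hc
    have hR2 : (Cfsg.pResidual (H.relIndex M) ↥M).map M.subtype ≤
        (Cfsg.pResidual (H.relIndex M) ↥(M.map (MulAut.conj g⁻¹).toMonoidHom)).map
          (M.map (MulAut.conj g⁻¹).toMonoidHom).subtype := by
      rw [Cfsg.Agent.Lib.Helper16.Residual.pResidualOf_eq_closure,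
        Cfsg.Agent.Lib.Helper16.Residual.pResidualOf_eq_closure]
      apply Subgroup.closure_mono
      rintro x ⟨hx, hc⟩
      exact ⟨hHM' (hcop x hx hc), hc⟩
    have hR3 : (Cfsg.pResidual (H.relIndex M) ↥M).map M.subtype =
        (Cfsg.pResidual (H.relIndex M) ↥(M.map (MulAut.conj g⁻¹).toMonoidHom)).map
          (M.map (MulAut.conj g⁻¹).toMonoidHom).subtype := by
      apply Subgroup.eq_of_le_of_card_ge hR2
      rw [← Cfsg.Agent.Lib.Helper16.Residual.pResidualOf_conj,
        Cfsg.Agent.Lib.Helper16.Basic.card_conj]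
    have hRN : Subgroup.normalizer
        ((((Cfsg.pResidual (H.relIndex M) ↥M).map M.subtype : Subgroup G)) : Set G) = ⊤ := by
      by_contra hne'
      have h1 : M ≤ Subgroup.normalizer
          ((((Cfsg.pResidual (H.relIndex M) ↥M).map M.subtype : Subgroup G)) : Set G) :=
        Subgroup.le_normalizer.trans
          (Cfsg.Agent.Lib.Helper16.Residual.normalizer_le_normalizer_pResidualOf M)
      have h2 : M.map (MulAut.conj g⁻¹).toMonoidHom ≤ Subgroup.normalizer
          ((((Cfsg.pResidual (H.relIndex M) ↥M).map M.subtype : Subgroup G)) : Set G) := by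
        rw [hR3]
        exact Subgroup.le_normalizer.trans
          (Cfsg.Agent.Lib.Helper16.Residual.normalizer_le_normalizer_pResidualOf _)
      have h3 := (hmaxM.le_iff_eq hne').1 h1
      rw [h3] at h2
      exact hMconj g⁻¹ hginvM h2
    have hRn : ((Cfsg.pResidual (H.relIndex M) ↥M).map M.subtype).Normal :=
      Subgroup.normalizer_eq_top_iff.1 hRN
    have hRbot : (Cfsg.pResidual (H.relIndex M) ↥M).map M.subtype = ⊥ := by
      rcases hRn.eq_bot_or_eq_top with h | h
      · exact h
      · exfalso
        apply hmaxM.1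
        rw [eq_top_iff, ← h]
        exact hR1.trans hHM
    have hMp : IsPGroup (H.relIndex M) ↥M := by
      apply Cfsg.Agent.Lib.Helper16.Basic.isPGroup_sub_of_coprime_trivial
      intro y hy hc
      have h1 : y ∈ (Cfsg.pResidual (H.relIndex M) ↥M).map M.subtype := by
        rw [Cfsg.Agent.Lib.Helper16.Residual.pResidualOf_eq_closure]
        exact Subgroup.subset_closure ⟨hy, hc⟩
      rw [hRbot, Subgroup.mem_bot] at h1
      exact h1
    -- `M` normalizes `H^g`
    have hcardK : Nat.card ↥(H.map (MulAut.conj g).toMonoidHom) = Nat.card ↥H :=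
      Cfsg.Agent.Lib.Helper16.Basic.card_conj H g
    have hidxK : (H.map (MulAut.conj g).toMonoidHom).relIndex M = H.relIndex M := by
      have h1 := Cfsg.Agent.Lib.Helper17.Syl.card_mul_relIndex_le hKM
      rw [hcardK, ← hcardM] at h1
      exact Nat.eq_of_mul_eq_mul_left Nat.card_pos h1
    have hmaxK : IsCoatom ((H.map (MulAut.conj g).toMonoidHom).subgroupOf M) :=
      isCoatom_of_prime_relIndex (hidxK ▸ hidx)
    have hKlt : H.map (MulAut.conj g).toMonoidHom < M := by
      refine lt_of_le_of_ne hKM ?_
      intro h0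
      rw [h0, (Subgroup.relIndex_eq_one).2 le_rfl] at hidxK
      rw [← hidxK] at hidx
      exact Nat.not_prime_one hidx
    obtain ⟨x, hxM, hxN, hxK⟩ :=
      Cfsg.Agent.Lib.Helper16.Basic.exists_mem_normalizer_not_mem hMp hKlt
    have hMNK : M ≤ M ⊓ Subgroup.normalizer
        ((H.map (MulAut.conj g).toMonoidHom : Subgroup G) : Set G) :=
      Cfsg.Agent.S3014.le_of_coatom hmaxK (le_inf hKM Subgroup.le_normalizer)
        ⟨x, Subgroup.mem_inf.2 ⟨hxM, hxN⟩, hxM, hxK⟩
    have hKNtop : Subgroup.normalizer
        ((H.map (MulAut.conj g).toMonoidHom : Subgroup G) : Set G) = ⊤ := by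
      by_contra hne'
      have h3 := (hmaxM.le_iff_eq hne').1 (hMNK.trans inf_le_right)
      have h4 : M.map (MulAut.conj g).toMonoidHom ≤ Subgroup.normalizer
          ((H.map (MulAut.conj g).toMonoidHom : Subgroup G) : Set G) := by
        rw [Cfsg.Agent.Lib.Helper16.Basic.normalizer_conj]
        exact Cfsg.Agent.Lib.Helper16.Basic.conj_mono g hMN
      rw [h3] at h4
      exact hMconj g hgM h4
    have hKn : (H.map (MulAut.conj g).toMonoidHom).Normal :=
      Subgroup.normalizer_eq_top_iff.1 hKNtop
    rcases hKn.eq_bot_or_eq_top with h | h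
    · apply hHbot
      rw [Subgroup.map_eq_bot_iff_of_injective _ (MulAut.conj g).injective] at h
      exact h
    · apply hmaxM.1
      rw [eq_top_iff, ← h]
      exact hKM
  have hfinal := Cfsg.Agent.S3014.result H M hHM hcl hmaxH hmaxM
  rcases (Subgroup.normalClosure_normal (s := (H : Set G))).eq_bot_or_eq_top with h | h
  · apply hHbot
    rw [eq_bot_iff, ← h]
    exact Subgroup.le_normalClosure
  · rw [h, top_inf_eq] at hfinal
    rw [hfinal, (Subgroup.relIndex_eq_one).2 le_rfl] at hidx
    exact Nat.not_prime_one hidx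

end Cfsg.Agent.S3015
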