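import Cfsg.Statements.S3003
import Cfsg.Agent.Lib.Helper17.Syl2
import Cfsg.Agent.Lib.Helper9.Hyperplane
import Cfsg.Agent.S3015

set_option autoImplicit false
open Cfsg

namespace Cfsg.Agent.S3003

section aux

variable {G : Type*} [Group G] [Finite G] {p : ℕ} [Fact p.Prime]

theorem part_one (Q : Subgroup G) (hQp : IsPGroup p ↥Q) (hlarge : Cfsg.IsLarge Q)
    (G₁ : Subgroup G) (hQG : Q ≤ G₁) (R : Subgroup G) (hR : (Nat.card ↥R).Coprime p)
    (hGR : G₁ ≤ Subgroup.normalizer (R : Set G)) (U : Subgroup G)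
    (h : ∃ x ∈ U, x ≠ 1 ∧ ∃ g ∈ G₁, g * x * g⁻¹ ∈ Q ⊓ Subgroup.centralizer (Q : Set G)) :
    R ⊓ Subgroup.centralizer (U : Set G) = ⊥ := by
  obtain ⟨x, hxU, hx1, g, hg, hz⟩ := h
  set z := g * x * g⁻¹ with hzdef
  have hz1 : z ≠ 1 := by
    intro h1
    apply hx1
    have : x = g⁻¹ * z * g := by rw [hzdef]; group
    rw [this, h1]; group
  have hRQ : R ⊓ Q = ⊥ := by
    obtain ⟨n, hn⟩ := IsPGroup.iff_card.1 hQp
    refine (Subgroup.disjoint_of_coprime_natCard ?_).eq_bot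
    rw [hn]
    exact Nat.Coprime.pow_right n hR
  -- D = R ⊓ C(z) is trivial
  have hzQ : ∀ q ∈ Q, q * z = z * q := fun q hq =>
    Subgroup.mem_centralizer_iff.1 hz.2 q hq
  have hD : ∀ d ∈ R, d * z = z * d → d = 1 := by
    have hDnorm : ∀ d ∈ R, d * z = z * d → d ∈ Subgroup.normalizer (Q : Set G) := by
      intro d _ hdz
      have hzp : Subgroup.zpowers z ≤ Subgroup.centralizer (Q : Set G) := by
        rw [Subgroup.zpowers_le]; exact hz.2
      have hzne : Subgroup.zpowers z ≠ ⊥ := by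
        intro h0
        apply hz1
        have : z ∈ Subgroup.zpowers z := Subgroup.mem_zpowers z
        rw [h0] at this
        exact Subgroup.mem_bot.1 this
      apply hlarge.2 _ hzp hzne
      apply Cfsg.Agent.Lib.Helper17.Syl2.centralizer_singleton_le_normalizer_zpowers
      rw [Subgroup.mem_centralizer_iff]
      intro y hy
      rw [Set.mem_singleton_iff] at hy
      rw [hy]; exact hdz.symm
    intro d hdR hdz
    have hcomm : ∀ q ∈ Q, d * q = q * d := by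
      intro q hq
      have hc1 : d * q * d⁻¹ * q⁻¹ ∈ Q := by
        have := (Subgroup.mem_normalizer_iff.1 (hDnorm d hdR hdz) q).1 hq
        exact Q.mul_mem this (Q.inv_mem hq)
      have hc2 : d * q * d⁻¹ * q⁻¹ ∈ R := by
        have hqR : q ∈ Subgroup.normalizer (R : Set G) := hGR (hQG hq)
        have := (Subgroup.mem_normalizer_iff.1 hqR d⁻¹).1 (R.inv_mem hdR)
        have e : d * q * d⁻¹ * q⁻¹ = d * (q * d⁻¹ * q⁻¹) := by group
        rw [e]
        exact R.mul_mem hdR this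
      have hc : d * q * d⁻¹ * q⁻¹ ∈ R ⊓ Q := ⟨hc2, hc1⟩
      rw [hRQ, Subgroup.mem_bot] at hc
      calc d * q = (d * q * d⁻¹ * q⁻¹) * (q * d) := by group
        _ = q * d := by rw [hc, one_mul]
    have hdC : d ∈ Subgroup.centralizer (Q : Set G) := by
      rw [Subgroup.mem_centralizer_iff]
      intro q hq
      exact (hcomm q hq).symm
    have hdQ : d ∈ R ⊓ Q := ⟨hdR, hlarge.1 hdC⟩
    rw [hRQ, Subgroup.mem_bot] at hdQ
    exact hdQ
  rw [eq_bot_iff]
  intro r hr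
  rw [Subgroup.mem_bot]
  have hrx : x * r = r * x := Subgroup.mem_centralizer_iff.1 hr.2 x hxU
  have h1 : g * r * g⁻¹ ∈ R := (Subgroup.mem_normalizer_iff.1 (hGR hg) r).1 hr.1
  have h2 : g * r * g⁻¹ * z = z * (g * r * g⁻¹) := by
    rw [hzdef]
    calc g * r * g⁻¹ * (g * x * g⁻¹) = g * (r * x) * g⁻¹ := by group
      _ = g * (x * r) * g⁻¹ := by rw [hrx]
      _ = g * x * g⁻¹ * (g * r * g⁻¹) := by group
  have h3 := hD _ h1 h2
  calc r = g⁻¹ * (g * r * g⁻¹) * g := by group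
    _ = 1 := by rw [h3]; group

end aux

/-- Let G be a finite group, p a prime and Q a large p-subgroup of G: C_G(Q) ≤ Q and N_G(U) ≤ N_G(Q) for every nontrivial subgroup U of C_G(Q). Let Q ≤ G₁ ≤ G, let R be a subgroup of order prime to p normalized by G₁, and let U ≤ G₁ be a p-subgroup. If U contains a nontrivial element which is G₁-conjugate to an element of Z(Q), then C_R(U) = 1. In particular, if U is elementary abelian of order at least p² and every maximal subgroup of U contains a nontrivial element G₁-conjugate into Z(Q), then R = 1. -/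
theorem result {G : Type*} [Group G] [Finite G] {p : ℕ} [Fact p.Prime] (Q : Subgroup G) (hQp : IsPGroup p ↥Q) (hlarge : Cfsg.IsLarge Q) (G₁ : Subgroup G) (hQG : Q ≤ G₁) (R : Subgroup G) (hR : (Nat.card ↥R).Coprime p) (hGR : G₁ ≤ Subgroup.normalizer (R : Set G)) (U : Subgroup G) (hUG : U ≤ G₁) (hUp : IsPGroup p ↥U) : ((∃ x ∈ U, x ≠ 1 ∧ ∃ g ∈ G₁, g * x * g⁻¹ ∈ Q ⊓ Subgroup.centralizer (Q : Set G)) → R ⊓ Subgroup.centralizer (U : Set G) = ⊥) ∧ (Cfsg.IsElementaryAbelian p U → p ^ 2 ≤ Nat.card ↥U → (∀ U₀ : Subgroup G, U₀ ≤ U → IsCoatom (U₀.subgroupOf U) → ∃ x ∈ U₀, x ≠ 1 ∧ ∃ g ∈ G₁, g * x * g⁻¹ ∈ Q ⊓ Subgroup.centralizer (Q : Set G)) → R = ⊥) := by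
  refine ⟨fun h => part_one Q hQp hlarge G₁ hQG R hR hGR U h, ?_⟩
  intro hU hcard hmax
  have hpp : p.Prime := Fact.out
  have hRp : ¬ p ∣ Nat.card ↥R := fun hd =>
    hpp.one_lt.ne' (Nat.Coprime.eq_one_of_dvd hR.symm hd)
  have hUR : U ≤ Subgroup.normalizer (R : Set G) := hUG.trans hGR
  have hU1 : U ≠ ⊥ := by
    intro h0
    rw [h0, Subgroup.card_bot] at hcard
    have : 1 < p ^ 2 := Nat.one_lt_pow (by norm_num) hpp.one_lt
    omega
  have key := Cfsg.Agent.Lib.Helper9.eq_iSup_centralizer_hyperplane hU hRp hUR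
  rw [key, eq_bot_iff]
  apply iSup_le
  rintro ⟨B, hBU, hBidx⟩
  show R ⊓ Subgroup.centralizer (B : Set G) ≤ ⊥
  rcases Cfsg.Agent.Lib.Helper9.relIndex_eq_or_le_of_relIndex_le hUp hBidx with hidx | hle
  · have hco : IsCoatom (B.subgroupOf U) :=
      Cfsg.Agent.S3015.isCoatom_of_prime_relIndex (hidx ▸ hpp)
    have := part_one Q hQp hlarge G₁ hQG R hR hGR B (hmax B hBU hco)
    rw [this]
  · obtain ⟨D, hDU, hDidx⟩ := Cfsg.Agent.Lib.Helper9.exists_hyperplane hUp hU1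
    have hco : IsCoatom (D.subgroupOf U) :=
      Cfsg.Agent.S3015.isCoatom_of_prime_relIndex (hDidx ▸ hpp)
    obtain ⟨x, hxD, hx1, hx⟩ := hmax D hDU hco
    have := part_one Q hQp hlarge G₁ hQG R hR hGR B ⟨x, hle (hDU hxD), hx1, hx⟩
    rw [this]

end Cfsg.Agent.S3003
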