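import Cfsg.Statements.S3053
import Cfsg.Agent.S0097
import Cfsg.Agent.S2947
import Cfsg.Agent.Lib.Helper20.ESpecial
import Cfsg.Agent.Lib.Helper19.RelIndex
import Cfsg.Agent.Lib.Helper17.Syl
import Cfsg.Agent.Lib.Helper12.SylowBasic

set_option autoImplicit false
open Cfsg

namespace Cfsg.Agent.S3053


open scoped commutatorElement in
open Cfsg.Agent.Lib.Helper12.SylowBasic in

/-- Let p be an odd prime and G a finite group with a Sylow p-subgroup P that is extraspecial of order p³ and exponent p². Then the centre of P is strongly closed in P with respect to G: a G-conjugate of an element of Z(P) that lies in P already lies in Z(P). In particular a nontrivial central element of P is conjugate in G to no noncentral element of P. -/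
theorem result {G : Type*} [Group G] [Finite G]
    {p : ℕ} [Fact p.Prime] (hp : p ≠ 2) (P : Sylow p G) (hE : Cfsg.IsExtraspecial p ↥P)
    (hcard : Nat.card P = p ^ 3) (hexp : Monoid.exponent ↥P = p ^ 2) :
    Cfsg.IsStronglyClosed ((Subgroup.center ↥P).map (P : Subgroup G).subtype) (P : Subgroup G) := by
  classical
  have hpp : p.Prime := Fact.out
  have hE' := hE
  obtain ⟨⟨hPp, hfr, hcm⟩, hZc⟩ := hE
  obtain ⟨Z, hZdef⟩ : ∃ Z : Subgroup G,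
      Z = (Subgroup.center ↥P).map (P : Subgroup G).subtype := ⟨_, rfl⟩
  rw [← hZdef]
  have hZmem : ∀ y : G, y ∈ Z ↔ y ∈ (P : Subgroup G) ∧ ∀ a ∈ (P : Subgroup G), a * y = y * a := by
    intro y
    rw [hZdef]
    constructor
    · rintro ⟨y', hy', rfl⟩
      refine ⟨y'.2, fun a ha => ?_⟩
      have h0 := Subgroup.mem_center_iff.1 hy' ⟨a, ha⟩
      exact congrArg Subtype.val h0
    · rintro ⟨hy, h⟩
      exact ⟨⟨y, hy⟩, Subgroup.mem_center_iff.2 (fun a => Subtype.ext (h a a.2)), rfl⟩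
  have hZP : Z ≤ (P : Subgroup G) := fun y hy => ((hZmem y).1 hy).1
  have hZcomm : ∀ y ∈ Z, ∀ a ∈ (P : Subgroup G), a * y = y * a := fun y hy => ((hZmem y).1 hy).2
  have hcomm : ∀ a ∈ (P : Subgroup G), ∀ b ∈ (P : Subgroup G), a * b * a⁻¹ * b⁻¹ ∈ Z := by
    intro a ha b hb
    have h1 : ⁅(⟨a, ha⟩ : ↥P), ⟨b, hb⟩⁆ ∈ commutator ↥P := by
      rw [commutator_def]
      exact Subgroup.commutator_mem_commutator (Subgroup.mem_top _) (Subgroup.mem_top _)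
    rw [hcm] at h1
    rw [hZdef]
    exact ⟨_, h1, rfl⟩
  have hpow : ∀ a ∈ (P : Subgroup G), a ^ p ∈ Z := by
    intro a ha
    have h1 := Cfsg.Agent.Lib.Helper20.ESpecial.pow_mem_frattini hPp (⟨a, ha⟩ : ↥P)
    rw [hfr] at h1
    rw [hZdef]
    exact ⟨_, h1, rfl⟩
  have hmulpow : ∀ a ∈ (P : Subgroup G), ∀ b ∈ (P : Subgroup G),
      (a * b) ^ p = a ^ p * b ^ p := by
    intro a ha b hb
    have h1 := Cfsg.Agent.S0097.mul_pow_of_extraspecial hp hE' (⟨a, ha⟩ : ↥P) ⟨b, hb⟩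
    exact congrArg Subtype.val h1
  have hZcard : Nat.card ↥Z = p := by
    rw [hZdef, Subgroup.card_map_of_injective (Subgroup.subtype_injective _)]
    exact hZc
  have hZp : ∀ y ∈ Z, y ^ p = 1 := by
    intro y hy
    have h1 : (⟨y, hy⟩ : ↥Z) ^ Nat.card ↥Z = 1 := pow_card_eq_one'
    rw [hZcard] at h1
    exact congrArg Subtype.val h1
  have hord : ∀ y : G, y ^ p = 1 → y ≠ 1 → orderOf y = p := by
    intro y hy hy1
    rcases (Nat.dvd_prime hpp).1 (orderOf_dvd_of_pow_eq_one hy) with h | h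
    · exact absurd (orderOf_eq_one_iff.1 h) hy1
    · exact h
  have hZcyc : ∀ z₀ ∈ Z, z₀ ≠ 1 → ∀ y ∈ Z, ∃ i : ℕ, y = z₀ ^ i := by
    intro z₀ hz₀ hz₀1 y hy
    have h1 : Subgroup.zpowers z₀ = Z := by
      apply Subgroup.eq_of_le_of_card_ge (by rw [Subgroup.zpowers_le]; exact hz₀)
      rw [Nat.card_zpowers, hord z₀ (hZp z₀ hz₀) hz₀1, hZcard]
    have h2 : y ∈ Subgroup.zpowers z₀ := by rw [h1]; exact hy
    rw [← mem_powers_iff_mem_zpowers] at h2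
    obtain ⟨i, hi⟩ := (Submonoid.mem_powers_iff _ _).1 h2
    exact ⟨i, hi.symm⟩
  obtain ⟨x₀, hx₀P, hx₀⟩ : ∃ x₀ ∈ (P : Subgroup G), x₀ ^ p ≠ 1 := by
    by_contra hcon
    have hcon' : ∀ x₀ ∈ (P : Subgroup G), x₀ ^ p = 1 := fun x hx => by
      by_contra h
      exact hcon ⟨x, hx, h⟩
    have h1 : Monoid.exponent ↥P ∣ p := by
      rw [Monoid.exponent_dvd_iff_forall_pow_eq_one]
      intro a
      apply Subtype.ext
      exact hcon' a a.2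
    rw [hexp] at h1
    have h2 := Nat.le_of_dvd hpp.pos h1
    nlinarith [hpp.two_le]
  obtain ⟨K, hKmem⟩ : ∃ K : Subgroup G, ∀ k, k ∈ K ↔ k ∈ (P : Subgroup G) ∧ k ^ p = 1 :=
    ⟨{ carrier := {k | k ∈ (P : Subgroup G) ∧ k ^ p = 1}
       mul_mem' := fun {a b} ha hb => ⟨(P : Subgroup G).mul_mem ha.1 hb.1, by
         rw [hmulpow a ha.1 b hb.1, ha.2, hb.2, one_mul]⟩
       one_mem' := ⟨(P : Subgroup G).one_mem, one_pow p⟩
       inv_mem' := fun {a} ha => ⟨(P : Subgroup G).inv_mem ha.1, by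
         rw [inv_pow, ha.2, inv_one]⟩ }, fun k => Iff.rfl⟩
  have hKP : K ≤ (P : Subgroup G) := fun k hk => ((hKmem k).1 hk).1
  have hZK : Z ≤ K := fun y hy => (hKmem y).2 ⟨hZP hy, hZp y hy⟩
  have hKconj : ∀ x ∈ (P : Subgroup G), ∀ k ∈ K, x * k * x⁻¹ ∈ K := by
    intro x hx k hk
    obtain ⟨hkP, hkp⟩ := (hKmem k).1 hk
    refine (hKmem _).2 ⟨(P : Subgroup G).mul_mem ((P : Subgroup G).mul_mem hx hkP)
      ((P : Subgroup G).inv_mem hx), ?_⟩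
    rw [conj_pow, hkp, mul_one, mul_inv_cancel]
  have hKcard_dvd : Nat.card ↥K ∣ p ^ 2 := by
    have h1 : Nat.card ↥K ∣ p ^ 3 := by rw [← hcard]; exact Subgroup.card_dvd_of_le hKP
    obtain ⟨j, hj, hjc⟩ := (Nat.dvd_prime_pow hpp).1 h1
    have hj3 : j ≠ 3 := by
      intro e
      have h2 : K = (P : Subgroup G) :=
        Subgroup.eq_of_le_of_card_ge hKP (by rw [hjc, e]; exact hcard.le)
      have h3 : x₀ ∈ K := by rw [h2]; exact hx₀P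
      exact hx₀ ((hKmem x₀).1 h3).2
    rw [hjc]
    exact pow_dvd_pow p (by omega)
  refine ⟨hZP, ?_⟩
  intro z hzZ g hgP
  by_contra hnZ
  obtain ⟨z', hz'def⟩ : ∃ z' : G, z' = g * z * g⁻¹ := ⟨_, rfl⟩
  rw [← hz'def] at hgP hnZ
  have hz1 : z ≠ 1 := by
    intro e
    apply hnZ
    have e2 : z' = 1 := by rw [hz'def, e]; group
    rw [e2]; exact Z.one_mem
  have hzK : z ∈ K := hZK hzZ
  have hz'p : z' ^ p = 1 := by rw [hz'def, conj_pow, hZp z hzZ]; group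
  have hz'K : z' ∈ K := (hKmem z').2 ⟨hgP, hz'p⟩
  have hzo : orderOf z = p := hord z (hZp z hzZ) hz1
  have hK0 : Subgroup.zpowers z ⊔ Subgroup.zpowers z' ≤ K :=
    sup_le (by rw [Subgroup.zpowers_le]; exact hzK) (by rw [Subgroup.zpowers_le]; exact hz'K)
  have hzz' : Subgroup.zpowers z < Subgroup.zpowers z ⊔ Subgroup.zpowers z' := by
    refine lt_of_le_of_ne le_sup_left (fun e => hnZ ?_)
    have h1 : z' ∈ Subgroup.zpowers z := by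
      rw [e]
      exact (le_sup_right : Subgroup.zpowers z' ≤ Subgroup.zpowers z ⊔ Subgroup.zpowers z')
        (Subgroup.mem_zpowers z')
    have h2 : Subgroup.zpowers z ≤ Z := by rw [Subgroup.zpowers_le]; exact hzZ
    exact h2 h1
  have hK0card : Nat.card ↥(Subgroup.zpowers z ⊔ Subgroup.zpowers z' : Subgroup G) = p ^ 2 := by
    have h1 : Nat.card ↥(Subgroup.zpowers z ⊔ Subgroup.zpowers z' : Subgroup G) ∣ p ^ 2 :=
      (Subgroup.card_dvd_of_le hK0).trans hKcard_dvd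
    obtain ⟨j, hj, hjc⟩ := (Nat.dvd_prime_pow hpp).1 h1
    have h2 : p < Nat.card ↥(Subgroup.zpowers z ⊔ Subgroup.zpowers z' : Subgroup G) := by
      by_contra hle
      have h3 := Subgroup.eq_of_le_of_card_ge hzz'.le
        (by rw [Nat.card_zpowers, hzo]; exact not_lt.1 hle)
      exact hzz'.ne h3
    rw [hjc] at h2 ⊢
    have hj2 : j = 2 := by
      have hp2 := hpp.two_le
      interval_cases j
      · simp at h2; omega
      · simp at h2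
      · rfl
    rw [hj2]
  have hKcard : Nat.card ↥K = p ^ 2 := by
    apply Nat.dvd_antisymm hKcard_dvd
    rw [← hK0card]; exact Subgroup.card_dvd_of_le hK0
  have hKeq : Subgroup.zpowers z ⊔ Subgroup.zpowers z' = K :=
    Subgroup.eq_of_le_of_card_ge hK0 (by rw [hKcard, hK0card])
  have hKab : ∀ a ∈ K, ∀ b ∈ K, a * b = b * a := by
    intro a ha b hb
    have := IsPGroup.isMulCommutative_of_card_eq_prime_sq (p := p) hKcard
    exact setLike_mul_comm ha hb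
  obtain ⟨g', hg'z, hg'K⟩ : ∃ g' : G, g' * z * g'⁻¹ = z' ∧
      ∀ k ∈ K, g'⁻¹ * k * g' ∈ (P : Subgroup G) := by
    have hSM : ((g • P : Sylow p G) : Subgroup G) ≤ Subgroup.centralizer ({z'} : Set G) := by
      intro y hy
      rw [mem_smul_sylow_iff] at hy
      rw [Subgroup.mem_centralizer_iff]
      intro w hw
      rw [Set.mem_singleton_iff.1 hw, hz'def]
      have h1 := hZcomm z hzZ _ hy
      calc g * z * g⁻¹ * y = g * (z * (g⁻¹ * y * g)) * g⁻¹ := by group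
        _ = g * ((g⁻¹ * y * g) * z) * g⁻¹ := by rw [h1]
        _ = y * (g * z * g⁻¹) := by group
    have hKM : K ≤ Subgroup.centralizer ({z'} : Set G) := by
      intro k hk
      rw [Subgroup.mem_centralizer_iff]
      intro w hw
      rw [Set.mem_singleton_iff.1 hw]
      exact hKab z' hz'K k hk
    have hKp : IsPGroup p ↥K := P.isPGroup'.to_le hKP
    obtain ⟨m, hm, hKm⟩ := Cfsg.Agent.S2947.exists_smul_ge (g • P) hSM hKp hKM
    refine ⟨m * g, ?_, ?_⟩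
    · rw [Subgroup.mem_centralizer_iff] at hm
      have h1 := hm z' rfl
      calc m * g * z * (m * g)⁻¹ = m * (g * z * g⁻¹) * m⁻¹ := by group
        _ = m * z' * m⁻¹ := by rw [hz'def]
        _ = z' := by rw [← h1]; group
    · intro k hk
      have h1 := hKm hk
      rw [← mul_smul, mem_smul_sylow_iff] at h1
      exact h1
  have hg'Kmem : ∀ k ∈ K, g'⁻¹ * k * g' ∈ K := by
    intro k hk
    refine (hKmem _).2 ⟨hg'K k hk, ?_⟩
    have e : g'⁻¹ * k * g' = g'⁻¹ * k * g'⁻¹⁻¹ := by rw [inv_inv]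
    rw [e, conj_pow, ((hKmem k).1 hk).2]; group
  have hg'N : g'⁻¹ ∈ Subgroup.normalizer (K : Set G) := by
    apply Cfsg.Agent.Lib.Helper17.Syl.mem_normalizer_of_conj_mem
    intro k hk
    rw [inv_inv]; exact hg'Kmem k hk
  obtain ⟨k₀, hk₀def⟩ : ∃ k₀ : G, k₀ = g'⁻¹ * z * g' := ⟨_, rfl⟩
  have hk₀K : k₀ ∈ K := by rw [hk₀def]; exact hg'Kmem z hzK
  have hk₀z : g' * k₀ * g'⁻¹ = z := by rw [hk₀def]; group
  have hk₀Z : k₀ ∉ Z := by
    intro hk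
    obtain ⟨j, hj⟩ := hZcyc z hzZ hz1 k₀ hk
    have h1 : z = z' ^ j := by
      rw [← hk₀z, hj, ← hg'z, conj_pow]
    apply hnZ
    have hz'1 : z' ≠ 1 := by
      intro e; rw [e, one_pow] at h1; exact hz1 h1
    have hz'o : orderOf z' = p := hord z' hz'p hz'1
    have hcop : Nat.Coprime j (orderOf z') := by
      rw [hz'o, Nat.coprime_comm, Nat.Prime.coprime_iff_not_dvd hpp]
      rintro ⟨q, rfl⟩
      rw [pow_mul, hz'p, one_pow] at h1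
      exact hz1 h1
    obtain ⟨m, hm⟩ := exists_pow_eq_self_of_coprime hcop
    rw [← hm, ← h1]
    exact Z.pow_mem hzZ m
  have hF9 : ∀ k ∈ (P : Subgroup G), k ∉ Z → ∀ ζ ∈ Z,
      ∃ a ∈ (P : Subgroup G), a * k * a⁻¹ = k * ζ := by
    intro k hkP hkZ ζ hζ
    have h1 : ∃ x ∈ (P : Subgroup G), x * k ≠ k * x := by
      by_contra hcon
      push Not at hcon
      exact hkZ ((hZmem k).2 ⟨hkP, hcon⟩)
    obtain ⟨x, hxP, hxk⟩ := h1
    obtain ⟨c, hcdef⟩ : ∃ c : G, c = x * k * x⁻¹ * k⁻¹ := ⟨_, rfl⟩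
    have hcZ : c ∈ Z := by rw [hcdef]; exact hcomm x hxP k hkP
    have hc1 : c ≠ 1 := by
      intro e
      apply hxk
      calc x * k = (x * k * x⁻¹ * k⁻¹) * (k * x) := by group
        _ = k * x := by rw [← hcdef, e, one_mul]
    obtain ⟨i, hi⟩ := hZcyc c hcZ hc1 ζ hζ
    refine ⟨x ^ i, (P : Subgroup G).pow_mem hxP i, ?_⟩
    rw [hi]
    have hxc : x * k * x⁻¹ = k * c := by
      have h2 := hZcomm c hcZ k hkP
      rw [h2, hcdef]; group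
    clear hi
    induction i with
    | zero => simp
    | succ i ih =>
      have h3 := hZcomm (c ^ i) (Z.pow_mem hcZ i) x hxP
      calc x ^ (i + 1) * k * (x ^ (i + 1))⁻¹ = x * (x ^ i * k * (x ^ i)⁻¹) * x⁻¹ := by
            rw [pow_succ']; group
        _ = x * (k * c ^ i) * x⁻¹ := by rw [ih]
        _ = (x * k * x⁻¹) * (x * c ^ i) * x⁻¹ := by group
        _ = (k * c) * (c ^ i * x) * x⁻¹ := by rw [hxc, h3]
        _ = k * c ^ (i + 1) := by rw [pow_succ']; group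
  obtain ⟨x₁, hx₁P, hx₁⟩ := hF9 z' hgP hnZ z hzZ
  obtain ⟨a, haP, ha⟩ := hF9 k₀ (hKP hk₀K) hk₀Z z⁻¹ (Z.inv_mem hzZ)
  obtain ⟨y₂, hy₂def⟩ : ∃ y₂ : G, y₂ = g' * a * g'⁻¹ := ⟨_, rfl⟩
  have hy₂z : y₂ * z * y₂⁻¹ = z * z'⁻¹ := by
    calc y₂ * z * y₂⁻¹ = g' * (a * (g'⁻¹ * z * g') * a⁻¹) * g'⁻¹ := by rw [hy₂def]; group
      _ = g' * (k₀ * z⁻¹) * g'⁻¹ := by rw [← hk₀def, ha]
      _ = (g' * k₀ * g'⁻¹) * (g' * z * g'⁻¹)⁻¹ := by group
      _ = z * z'⁻¹ := by rw [hk₀z, hg'z]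
  have hg'z' : g'⁻¹ * z' * g' = z := by rw [← hg'z]; group
  have hy₂z' : y₂ * z' * y₂⁻¹ = z' := by
    have h1 : a * z * a⁻¹ = z := by
      have h0 := hZcomm z hzZ a haP
      rw [h0]; group
    calc y₂ * z' * y₂⁻¹ = g' * (a * (g'⁻¹ * z' * g') * a⁻¹) * g'⁻¹ := by rw [hy₂def]; group
      _ = g' * z * g'⁻¹ := by rw [hg'z', h1]
      _ = z' := hg'z
  have hzz'c : z * z' = z' * z := hKab z hzK z' hz'K
  have hx₁z : x₁ * z * x₁⁻¹ = z := by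
    have h0 := hZcomm z hzZ x₁ hx₁P
    rw [h0]; group
  obtain ⟨s, hsdef⟩ : ∃ s : G, s = x₁ * y₂ * x₁ := ⟨_, rfl⟩
  have hsz : s * z * s⁻¹ = z'⁻¹ := by
    calc s * z * s⁻¹ = x₁ * (y₂ * (x₁ * z * x₁⁻¹) * y₂⁻¹) * x₁⁻¹ := by rw [hsdef]; group
      _ = x₁ * (z * z'⁻¹) * x₁⁻¹ := by rw [hx₁z, hy₂z]
      _ = (x₁ * z * x₁⁻¹) * (x₁ * z' * x₁⁻¹)⁻¹ := by group
      _ = z * (z' * z)⁻¹ := by rw [hx₁z, hx₁]
      _ = z'⁻¹ := by group
  have hsz' : s * z' * s⁻¹ = z := by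
    calc s * z' * s⁻¹ = x₁ * (y₂ * (x₁ * z' * x₁⁻¹) * y₂⁻¹) * x₁⁻¹ := by rw [hsdef]; group
      _ = x₁ * ((y₂ * z' * y₂⁻¹) * (y₂ * z * y₂⁻¹)) * x₁⁻¹ := by rw [hx₁]; group
      _ = x₁ * (z' * (z * z'⁻¹)) * x₁⁻¹ := by rw [hy₂z', hy₂z]
      _ = x₁ * ((z' * z) * z'⁻¹) * x₁⁻¹ := by group
      _ = x₁ * ((z * z') * z'⁻¹) * x₁⁻¹ := by rw [hzz'c]
      _ = x₁ * z * x₁⁻¹ := by group
      _ = z := hx₁z
  obtain ⟨t, htdef⟩ : ∃ t : G, t = s * s := ⟨_, rfl⟩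
  have htz : t * z * t⁻¹ = z⁻¹ := by
    calc t * z * t⁻¹ = s * (s * z * s⁻¹) * s⁻¹ := by rw [htdef]; group
      _ = (s * z' * s⁻¹)⁻¹ := by rw [hsz]; group
      _ = z⁻¹ := by rw [hsz']
  have htz' : t * z' * t⁻¹ = z'⁻¹ := by
    calc t * z' * t⁻¹ = s * (s * z' * s⁻¹) * s⁻¹ := by rw [htdef]; group
      _ = z'⁻¹ := by rw [hsz', hsz]
  have htK : ∀ k ∈ K, t * k * t⁻¹ = k⁻¹ := by
    obtain ⟨L, hLmem⟩ : ∃ L : Subgroup G, ∀ k, k ∈ L ↔ k ∈ K ∧ t * k * t⁻¹ = k⁻¹ :=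
      ⟨{ carrier := {k | k ∈ K ∧ t * k * t⁻¹ = k⁻¹}
         mul_mem' := fun {a b} ha hb => ⟨K.mul_mem ha.1 hb.1, by
           have e : t * (a * b) * t⁻¹ = (t * a * t⁻¹) * (t * b * t⁻¹) := by group
           rw [e, ha.2, hb.2, hKab a ha.1 b hb.1, mul_inv_rev]⟩
         one_mem' := ⟨K.one_mem, by group⟩
         inv_mem' := fun {a} ha => ⟨K.inv_mem ha.1, by
           have e : t * a⁻¹ * t⁻¹ = (t * a * t⁻¹)⁻¹ := by group
           rw [e, ha.2]⟩ }, fun k => Iff.rfl⟩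
    have hL : Subgroup.zpowers z ⊔ Subgroup.zpowers z' ≤ L :=
      sup_le (by rw [Subgroup.zpowers_le]; exact (hLmem z).2 ⟨hzK, htz⟩)
        (by rw [Subgroup.zpowers_le]; exact (hLmem z').2 ⟨hz'K, htz'⟩)
    rw [hKeq] at hL
    intro k hk
    exact ((hLmem k).1 (hL hk)).2
  obtain ⟨C, hCdef⟩ : ∃ C : Subgroup G, C = Subgroup.centralizer (K : Set G) := ⟨_, rfl⟩
  have hCmem : ∀ c ∈ C, ∀ k ∈ K, k * c = c * k := by
    intro c hc k hk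
    rw [hCdef, Subgroup.mem_centralizer_iff] at hc
    exact hc k hk
  have hPC : (P : Subgroup G) ≤ Subgroup.normalizer (C : Set G) := by
    intro x hx
    apply Cfsg.Agent.Lib.Helper17.Syl.mem_normalizer_of_conj_mem
    intro c hc
    rw [hCdef, Subgroup.mem_centralizer_iff]
    intro k hk
    have h1 : x⁻¹ * k * x ∈ K := by
      have h0 := hKconj x⁻¹ ((P : Subgroup G).inv_mem hx) k hk
      rwa [inv_inv] at h0
    have h2 := hCmem c hc _ h1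
    calc k * (x * c * x⁻¹) = x * ((x⁻¹ * k * x) * c) * x⁻¹ := by group
      _ = x * (c * (x⁻¹ * k * x)) * x⁻¹ := by rw [h2]
      _ = x * c * x⁻¹ * k := by group
  have htinv : ∀ k ∈ K, t⁻¹ * k * t = k⁻¹ := by
    intro k hk
    have h1 := htK k⁻¹ (K.inv_mem hk)
    rw [inv_inv] at h1
    calc t⁻¹ * k * t = t⁻¹ * (t * k⁻¹ * t⁻¹) * t := by rw [h1]
      _ = k⁻¹ := by group
  have htP : ((t • P : Sylow p G) : Subgroup G) ≤ C ⊔ (P : Subgroup G) := by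
    intro y hy
    rw [mem_smul_sylow_iff] at hy
    obtain ⟨x, hxdef⟩ : ∃ x : G, x = t⁻¹ * y * t := ⟨_, rfl⟩
    rw [← hxdef] at hy
    have hy' : y = (t * x * t⁻¹ * x⁻¹) * x := by rw [hxdef]; group
    rw [hy']
    refine Subgroup.mul_mem _ ((le_sup_left : C ≤ C ⊔ (P : Subgroup G)) ?_)
      ((le_sup_right : (P : Subgroup G) ≤ C ⊔ (P : Subgroup G)) hy)
    rw [hCdef, Subgroup.mem_centralizer_iff]
    intro k hk
    have h1 : x⁻¹ * k * x ∈ K := by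
      have h0 := hKconj x⁻¹ ((P : Subgroup G).inv_mem hy) k hk
      rwa [inv_inv] at h0
    have h2 := htinv _ h1
    have h3 := htK k⁻¹ (K.inv_mem hk)
    rw [inv_inv] at h3
    symm
    calc (t * x * t⁻¹ * x⁻¹) * k = t * x * (t⁻¹ * (x⁻¹ * k * x) * t) * t⁻¹ * x⁻¹ := by group
      _ = t * x * (x⁻¹ * k * x)⁻¹ * t⁻¹ * x⁻¹ := by rw [h2]
      _ = (t * k⁻¹ * t⁻¹) * (t * x * t⁻¹ * x⁻¹) := by group
      _ = k * (t * x * t⁻¹ * x⁻¹) := by rw [h3]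
  obtain ⟨m, hm, hmP⟩ := Cfsg.Agent.S2947.exists_smul_ge P
    (le_sup_right : (P : Subgroup G) ≤ C ⊔ (P : Subgroup G)) (t • P : Sylow p G).isPGroup' htP
  have hmt : (m • P : Sylow p G) = t • P := by
    apply Sylow.ext
    exact (t • P : Sylow p G).is_maximal' (m • P : Sylow p G).isPGroup' hmP
  obtain ⟨c, hc, x, hx, hmcx⟩ :=
    Cfsg.Agent.Lib.Helper19.exists_mul_of_mem_sup C (P : Subgroup G) hPC m hm
  obtain ⟨t₂, ht₂def⟩ : ∃ t₂ : G, t₂ = c⁻¹ * t := ⟨_, rfl⟩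
  have ht₂N : t₂ ∈ Subgroup.normalizer ((P : Subgroup G) : Set G) := by
    apply Sylow.smul_eq_iff_mem_normalizer.1
    rw [ht₂def, mul_smul, ← hmt, hmcx, mul_smul, smul_smul, inv_mul_cancel, one_smul]
    exact Sylow.smul_eq_iff_mem_normalizer.2 (Subgroup.le_normalizer hx)
  have ht₂K : ∀ k ∈ K, t₂ * k * t₂⁻¹ = k⁻¹ := by
    intro k hk
    have h1 := hCmem c hc k⁻¹ (K.inv_mem hk)
    calc t₂ * k * t₂⁻¹ = c⁻¹ * (t * k * t⁻¹) * c := by rw [ht₂def]; group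
      _ = c⁻¹ * (k⁻¹ * c) := by rw [htK k hk]; group
      _ = k⁻¹ := by rw [h1]; group
  have hx₀Z : x₀ ∉ Z := fun h => hx₀ (hZp x₀ h)
  obtain ⟨g₀, hg₀P, hg₀⟩ : ∃ g₀ ∈ (P : Subgroup G), g₀ * x₀ ≠ x₀ * g₀ := by
    by_contra hcon
    push Not at hcon
    exact hx₀Z ((hZmem x₀).2 ⟨hx₀P, hcon⟩)
  obtain ⟨j, hj⟩ := hZcyc (x₀ ^ p) (hpow x₀ hx₀P) hx₀ (g₀ ^ p) (hpow g₀ hg₀P)
  obtain ⟨e, hedef⟩ : ∃ e : G, e = g₀ * (x₀ ^ j)⁻¹ := ⟨_, rfl⟩
  have hxjP : (x₀ ^ j)⁻¹ ∈ (P : Subgroup G) :=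
    (P : Subgroup G).inv_mem ((P : Subgroup G).pow_mem hx₀P j)
  have heP : e ∈ (P : Subgroup G) := by
    rw [hedef]; exact (P : Subgroup G).mul_mem hg₀P hxjP
  have heK : e ∈ K := by
    refine (hKmem e).2 ⟨heP, ?_⟩
    rw [hedef, hmulpow g₀ hg₀P _ hxjP, hj, inv_pow, ← pow_mul, ← pow_mul, mul_comm j p,
      mul_inv_cancel]
  have hxe : x₀ * e ≠ e * x₀ := by
    intro h
    apply hg₀
    have h1 : (x₀ ^ j)⁻¹ * x₀ = x₀ * (x₀ ^ j)⁻¹ := by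
      have h0 : Commute x₀ (x₀ ^ j) := (Commute.refl x₀).pow_right j
      exact (h0.inv_right).eq.symm
    rw [hedef] at h
    have h2 : x₀ * g₀ = g₀ * x₀ := by
      calc x₀ * g₀ = (x₀ * (g₀ * (x₀ ^ j)⁻¹)) * x₀ ^ j := by group
        _ = (g₀ * (x₀ ^ j)⁻¹ * x₀) * x₀ ^ j := by rw [h]
        _ = g₀ * ((x₀ ^ j)⁻¹ * x₀) * x₀ ^ j := by group
        _ = g₀ * (x₀ * (x₀ ^ j)⁻¹) * x₀ ^ j := by rw [h1]
        _ = g₀ * x₀ := by group
    exact h2.symm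
  obtain ⟨c₁, hc₁def⟩ : ∃ c₁ : G, c₁ = x₀ * e * x₀⁻¹ * e⁻¹ := ⟨_, rfl⟩
  have hc₁Z : c₁ ∈ Z := by rw [hc₁def]; exact hcomm x₀ hx₀P e heP
  have hc₁1 : c₁ ≠ 1 := by
    intro h
    apply hxe
    calc x₀ * e = (x₀ * e * x₀⁻¹ * e⁻¹) * (e * x₀) := by group
      _ = e * x₀ := by rw [← hc₁def, h, one_mul]
  obtain ⟨x', hx'def⟩ : ∃ x' : G, x' = t₂ * x₀ * t₂⁻¹ := ⟨_, rfl⟩
  have hx'P : x' ∈ (P : Subgroup G) := by
    rw [hx'def]; exact (Subgroup.mem_normalizer_iff.1 ht₂N x₀).1 hx₀P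
  have hx'p : x' ^ p = (x₀ ^ p)⁻¹ := by
    rw [hx'def, conj_pow]; exact ht₂K _ (hZK (hpow x₀ hx₀P))
  obtain ⟨y, hydef⟩ : ∃ y : G, y = x' * x₀ := ⟨_, rfl⟩
  have hyK : y ∈ K := by
    refine (hKmem y).2 ⟨by rw [hydef]; exact (P : Subgroup G).mul_mem hx'P hx₀P, ?_⟩
    rw [hydef, hmulpow x' hx'P x₀ hx₀P, hx'p, inv_mul_cancel]
  have h1 : t₂ * c₁ * t₂⁻¹ = c₁⁻¹ := ht₂K c₁ (hZK hc₁Z)
  have h2 : t₂ * c₁ * t₂⁻¹ = x' * e⁻¹ * x'⁻¹ * e := by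
    have he := ht₂K e heK
    calc t₂ * c₁ * t₂⁻¹ = (t₂ * x₀ * t₂⁻¹) * (t₂ * e * t₂⁻¹) * (t₂ * x₀ * t₂⁻¹)⁻¹
          * (t₂ * e * t₂⁻¹)⁻¹ := by rw [hc₁def]; group
      _ = x' * e⁻¹ * x'⁻¹ * e := by rw [← hx'def, he, inv_inv]
  have h3 : x₀⁻¹ * e⁻¹ * x₀ = e⁻¹ * c₁ := by
    have hcx : x₀⁻¹ * c₁ = c₁ * x₀⁻¹ := hZcomm c₁ hc₁Z x₀⁻¹ ((P : Subgroup G).inv_mem hx₀P)
    have h4 : c₁ = e * (x₀⁻¹ * e⁻¹ * x₀) := by
      calc c₁ = (c₁ * x₀⁻¹) * x₀ := by group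
        _ = (x₀⁻¹ * c₁) * x₀ := by rw [hcx]
        _ = e * (x₀⁻¹ * e⁻¹ * x₀) := by rw [hc₁def]; group
    rw [h4]; group
  have h5 : x' = y * x₀⁻¹ := by rw [hydef]; group
  have hyc : y * c₁ = c₁ * y := hZcomm c₁ hc₁Z y (hKP hyK)
  have hye : y * e⁻¹ = e⁻¹ * y := hKab y hyK e⁻¹ (K.inv_mem heK)
  have hec : e * c₁ = c₁ * e := hZcomm c₁ hc₁Z e heP
  have h6 : x' * e⁻¹ * x'⁻¹ * e = c₁ := by
    calc x' * e⁻¹ * x'⁻¹ * e = y * (x₀⁻¹ * e⁻¹ * x₀) * y⁻¹ * e := by rw [h5]; group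
      _ = y * (e⁻¹ * c₁) * y⁻¹ * e := by rw [h3]
      _ = (y * e⁻¹) * (c₁ * y⁻¹) * e := by group
      _ = (e⁻¹ * y) * (c₁ * y⁻¹) * e := by rw [hye]
      _ = e⁻¹ * (y * c₁) * y⁻¹ * e := by group
      _ = e⁻¹ * (c₁ * y) * y⁻¹ * e := by rw [hyc]
      _ = e⁻¹ * (c₁ * e) := by group
      _ = e⁻¹ * (e * c₁) := by rw [hec]
      _ = c₁ := by group
  have h7 : c₁⁻¹ = c₁ := by rw [← h1, h2, h6]
  have h8 : c₁ ^ 2 = 1 := by
    rw [pow_two]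
    calc c₁ * c₁ = c₁⁻¹ * c₁ := by rw [h7]
      _ = 1 := inv_mul_cancel c₁
  have h9 : orderOf c₁ ∣ 2 := orderOf_dvd_of_pow_eq_one h8
  have h10 : orderOf c₁ = p := hord c₁ (hZp c₁ hc₁Z) hc₁1
  rw [h10] at h9
  exact hp ((Nat.prime_dvd_prime_iff_eq hpp Nat.prime_two).1 h9)

end Cfsg.Agent.S3053
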