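import Cfsg.Statements.S3060
import Mathlib
import Cfsg.Agent.Lib.Helper5.ZJMap
import Cfsg.Agent.Lib.Helper17.DStar2

set_option autoImplicit false
open Cfsg

namespace Cfsg.Agent.S3060

open Cfsg.Agent.Lib.Helper5
open scoped commutatorElement Pointwise

/-- The D*-Theorem. For a finite p-group S let D*(S) be the subgroup generated by the abelian subgroups A of S such that every x ∈ S with ⟨A, x⟩ of nilpotency class at most two centralizes A. Let p be an odd prime and H a finite p-stable group with Sylow p-subgroup S. Here H is p-stable in the following sense: the largest normal p-subgroup O_p(H) contains its centralizer in H, and for every normal p-subgroup P of H, every element acting quadratically on P has image in O_p(H/C_H(P)). Then D*(S) is a normal subgroup of H. -/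
theorem result {G : Type*} [Group G] [Finite G] {p : ℕ} [Fact p.Prime] (hp : p ≠ 2)
    (hc : Subgroup.centralizer (Cfsg.pCore p G : Set G) ≤ Cfsg.pCore p G)
    (hst : ∀ (P : Subgroup G) [P.Normal], IsPGroup p P → Cfsg.IsPStableOn p P) (S : Sylow p G) :
    (Cfsg.dStarOf (S : Subgroup G)).Normal := by
  classical
  obtain ⟨S₀, hS₀⟩ : ∃ S₀ : Subgroup G, S₀ = (S : Subgroup G) := ⟨_, rfl⟩
  rw [← hS₀]
  have hS₀p : IsPGroup p ↥S₀ := by rw [hS₀]; exact S.isPGroup'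
  have hQn := ZJ.pCore_normal (G := G) p
  have hQp := ZJ.pCore_isPGroup (G := G) p
  have hQS : pCore p G ≤ S₀ := by rw [hS₀]; exact hQp.le_sylow_of_normal S
  have hD'c := Cfsg.Agent.Lib.Helper17.DStar.dStar_isMulCommutative hS₀p
  have hD'n := Cfsg.Agent.Lib.Helper17.DStar2.dStar_normal ↥S₀
  have hD'm := Cfsg.Agent.Lib.Helper17.DStar.dStar_mem hS₀p
  obtain ⟨D, hD⟩ : ∃ D : Subgroup G, D = Cfsg.dStarOf S₀ := ⟨_, rfl⟩
  rw [← hD]
  have hDmem : ∀ x : G, x ∈ D ↔ ∃ x' ∈ Cfsg.dStar ↥S₀, (x' : G) = x := by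
    intro x
    rw [hD]
    exact Iff.rfl
  have hDS : D ≤ S₀ := by
    intro x hx
    obtain ⟨x', -, rfl⟩ := (hDmem x).mp hx
    exact x'.2
  have hDc : ∀ x ∈ D, ∀ y ∈ D, x * y = y * x := by
    intro x hx y hy
    obtain ⟨x', hx', rfl⟩ := (hDmem x).mp hx
    obtain ⟨y', hy', rfl⟩ := (hDmem y).mp hy
    exact congrArg Subtype.val (ZJFam.comm_of hD'c x' hx' y' hy')
  have hDn : ∀ s ∈ S₀, ∀ x ∈ D, s * x * s⁻¹ ∈ D := by
    intro s hs x hx
    obtain ⟨x', hx', rfl⟩ := (hDmem x).mp hx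
    exact (hDmem _).mpr ⟨⟨s, hs⟩ * x' * ⟨s, hs⟩⁻¹, hD'n.conj_mem x' hx' ⟨s, hs⟩, rfl⟩
  -- D ≤ O_p(G)
  have hDQ : D ≤ pCore p G := by
    intro d hd
    have hq := ZJ.quad_of_normalizes (pCore p G) D (fun b hb a ha => hDn b (hQS hb) a ha) hDc hd
    have h1 := hst (pCore p G) hQp d hq
    exact ZJ.KK_le hc (ZJ.mem_KK.mpr h1)
  -- D commutes with all its conjugates
  have hcomm : ∀ g : G, ∀ a ∈ D, ∀ d ∈ D, d * (g * a * g⁻¹) = g * a * g⁻¹ * d := by
    intro g a ha d hd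
    have hA : IsMulCommutative ↥((D.map (MulAut.conj g).toMonoidHom).subgroupOf S₀) := by
      apply ZJFam.isComm_of
      intro x hx y hy
      rw [Subgroup.mem_subgroupOf] at hx hy
      obtain ⟨u, hu, hux⟩ := hx
      obtain ⟨v, hv, hvy⟩ := hy
      apply Subtype.ext
      show (x : G) * (y : G) = (y : G) * (x : G)
      rw [← hux, ← hvy]
      show g * u * g⁻¹ * (g * v * g⁻¹) = g * v * g⁻¹ * (g * u * g⁻¹)
      have e1 : g * u * g⁻¹ * (g * v * g⁻¹) = g * (u * v) * g⁻¹ := by group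
      have e2 : g * v * g⁻¹ * (g * u * g⁻¹) = g * (v * u) * g⁻¹ := by group
      rw [e1, e2, hDc u hu v hv]
    have hDA : Cfsg.dStar ↥S₀ ≤ Subgroup.normalizer
        (((D.map (MulAut.conj g).toMonoidHom).subgroupOf S₀ : Subgroup ↥S₀) : Set ↥S₀) := by
      intro d' hd'
      apply Cfsg.Agent.S0650.mem_normalizer_fin
      intro r hr
      rw [Subgroup.mem_subgroupOf] at hr ⊢
      obtain ⟨u, hu, hur⟩ := hr
      have hdD : (d' : G) ∈ D := (hDmem _).mpr ⟨d', hd', rfl⟩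
      have hconj : g⁻¹ * (d' : G) * g ∈ pCore p G := by
        have h := hQn.conj_mem _ (hDQ hdD) g⁻¹
        rwa [inv_inv] at h
      have h2 := hDn _ (hQS hconj) u hu
      refine ⟨g⁻¹ * (d' : G) * g * u * (g⁻¹ * (d' : G) * g)⁻¹, h2, ?_⟩
      show g * (g⁻¹ * (d' : G) * g * u * (g⁻¹ * (d' : G) * g)⁻¹) * g⁻¹ = (d' : G) * (r : G) * (d' : G)⁻¹
      rw [← hur]
      show _ = (d' : G) * (g * u * g⁻¹) * (d' : G)⁻¹
      group
    have h := Cfsg.Agent.Lib.Helper17.DStar2.dStar_commute_of_le_normalizer hS₀p hA hDA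
    obtain ⟨d', hd', rfl⟩ := (hDmem d).mp hd
    have hgS : g * a * g⁻¹ ∈ S₀ := hQS (hQn.conj_mem _ (hDQ ha) g)
    have h3 := h ⟨g * a * g⁻¹, hgS⟩ (Subgroup.mem_subgroupOf.mpr ⟨a, ha, rfl⟩) d' hd'
    exact congrArg Subtype.val h3
  -- the normal closure
  obtain ⟨L, hL⟩ : ∃ L : Subgroup G, L = Subgroup.normalClosure (D : Set G) := ⟨_, rfl⟩
  have hLn : L.Normal := by rw [hL]; exact Subgroup.normalClosure_normal
  have hDL : D ≤ L := by rw [hL]; exact Subgroup.subset_normalClosure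
  have hLQ : L ≤ pCore p G := by rw [hL]; exact Subgroup.normalClosure_le_normal hDQ
  have hLS : L ≤ S₀ := hLQ.trans hQS
  have hLp : IsPGroup p L := hQp.to_le hLQ
  have hk : ∀ u ∈ Group.conjugatesOfSet (D : Set G), ∀ v ∈ Group.conjugatesOfSet (D : Set G),
      u * v = v * u := by
    intro u hu v hv
    obtain ⟨a, ha, hau⟩ := Group.mem_conjugatesOfSet_iff.mp hu
    obtain ⟨b, hb, hbv⟩ := Group.mem_conjugatesOfSet_iff.mp hv
    obtain ⟨g, rfl⟩ := isConj_iff.mp hau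
    obtain ⟨h, rfl⟩ := isConj_iff.mp hbv
    have h1 := hcomm (g⁻¹ * h) b hb a ha
    have e1 : g * a * g⁻¹ * (h * b * h⁻¹) = g * (a * (g⁻¹ * h * b * (g⁻¹ * h)⁻¹)) * g⁻¹ := by group
    have e2 : h * b * h⁻¹ * (g * a * g⁻¹) = g * (g⁻¹ * h * b * (g⁻¹ * h)⁻¹ * a) * g⁻¹ := by group
    rw [e1, e2, h1]
  have hLc : ∀ x ∈ L, ∀ y ∈ L, x * y = y * x := by
    rw [hL]
    exact ZJFam.closure_comm hk
  -- key claim
  have hKey : ∀ y : G, (∃ k : ℕ, y ^ p ^ k = 1) →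
      ⁅⁅L, Subgroup.zpowers y⁆, Subgroup.zpowers y⁆ = ⊥ → ∀ d ∈ D, d * y = y * d := by
    intro y ⟨k, hyk⟩ hq
    have hyK : y ∈ ZJ.KK p L := ZJ.mem_KK.mpr (hst L hLp y hq)
    have hXK : Subgroup.zpowers y ≤ ZJ.KK p L := Subgroup.zpowers_le.mpr hyK
    obtain ⟨c, hc', hcX⟩ := ZJ.exists_conj_le_sylow S L (Subgroup.zpowers y)
      (ZJMap.isPGroup_zpowers hyk) hXK
    have hs : c⁻¹ * y * c ∈ S₀ := by rw [hS₀]; exact hcX y (Subgroup.mem_zpowers y)
    have hcl : ∀ l ∈ L, l * c = c * l := fun l hl => Subgroup.mem_centralizer_iff.mp hc' l hl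
    have hcl' : ∀ l ∈ L, l * c⁻¹ = c⁻¹ * l := by
      intro l hl
      have h := hcl l hl
      calc l * c⁻¹ = c⁻¹ * (c * l) * c⁻¹ := by group
        _ = c⁻¹ * (l * c) * c⁻¹ := by rw [h]
        _ = c⁻¹ * l := by group
    -- commutators with s agree with commutators with y
    have hw : ∀ d ∈ D, d * (c⁻¹ * y * c) * d⁻¹ * (c⁻¹ * y * c)⁻¹ = d * y * d⁻¹ * y⁻¹ := by
      intro d hd
      have hd1 : d⁻¹ ∈ L := L.inv_mem (hDL hd)
      have hyd : y * d⁻¹ * y⁻¹ ∈ L := hLn.conj_mem _ hd1 y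
      calc d * (c⁻¹ * y * c) * d⁻¹ * (c⁻¹ * y * c)⁻¹
          = d * c⁻¹ * y * (c * d⁻¹) * c⁻¹ * y⁻¹ * c := by group
        _ = d * c⁻¹ * y * (d⁻¹ * c) * c⁻¹ * y⁻¹ * c := by rw [hcl d⁻¹ hd1]
        _ = d * (c⁻¹ * (y * d⁻¹ * y⁻¹)) * c := by group
        _ = d * ((y * d⁻¹ * y⁻¹) * c⁻¹) * c := by rw [hcl' _ hyd]
        _ = d * y * d⁻¹ * y⁻¹ := by group
    have hwL : ∀ d ∈ D, d * y * d⁻¹ * y⁻¹ ∈ L := by
      intro d hd
      have h : d * y * d⁻¹ * y⁻¹ = d * (y * d⁻¹ * y⁻¹) := by group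
      rw [h]
      exact L.mul_mem (hDL hd) (hLn.conj_mem _ (L.inv_mem (hDL hd)) y)
    have hwy : ∀ d ∈ D, (d * y * d⁻¹ * y⁻¹) * y = y * (d * y * d⁻¹ * y⁻¹) := by
      intro d hd
      have h1 : ⁅d, y⁆ ∈ ⁅L, Subgroup.zpowers y⁆ :=
        Subgroup.commutator_mem_commutator (hDL hd) (Subgroup.mem_zpowers y)
      have h2 := Subgroup.commutator_mem_commutator h1 (Subgroup.mem_zpowers y)
      rw [hq, Subgroup.mem_bot] at h2
      have h3 := commutatorElement_eq_one_iff_mul_comm.mp h2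
      rw [commutatorElement_def] at h3
      exact h3
    have hclass : ⁅⁅Cfsg.dStar ↥S₀ ⊔ Subgroup.zpowers (⟨c⁻¹ * y * c, hs⟩ : ↥S₀),
        Cfsg.dStar ↥S₀ ⊔ Subgroup.zpowers (⟨c⁻¹ * y * c, hs⟩ : ↥S₀)⁆,
        Cfsg.dStar ↥S₀ ⊔ Subgroup.zpowers (⟨c⁻¹ * y * c, hs⟩ : ↥S₀)⁆ = ⊥ := by
      apply Cfsg.Agent.Lib.Helper17.DStar2.class_two_sup_zpowers hD'c
      · intro d' hd'
        have hdD : (d' : G) ∈ D := (hDmem _).mpr ⟨d', hd', rfl⟩
        rw [Subgroup.mem_centralizer_iff]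
        intro e' he'
        have heD : (e' : G) ∈ D := (hDmem _).mpr ⟨e', he', rfl⟩
        apply Subtype.ext
        show (e' : G) * ((d' : G) * (c⁻¹ * y * c) * (d' : G)⁻¹ * (c⁻¹ * y * c)⁻¹) =
          ((d' : G) * (c⁻¹ * y * c) * (d' : G)⁻¹ * (c⁻¹ * y * c)⁻¹) * (e' : G)
        rw [hw _ hdD]
        exact hLc _ (hDL heD) _ (hwL _ hdD)
      · intro d' hd'
        have hdD : (d' : G) ∈ D := (hDmem _).mpr ⟨d', hd', rfl⟩
        apply Subtype.ext
        show ((d' : G) * (c⁻¹ * y * c) * (d' : G)⁻¹ * (c⁻¹ * y * c)⁻¹) * (c⁻¹ * y * c) =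
          (c⁻¹ * y * c) * ((d' : G) * (c⁻¹ * y * c) * (d' : G)⁻¹ * (c⁻¹ * y * c)⁻¹)
        rw [hw _ hdD]
        have hwl := hwL _ hdD
        calc (d' : G) * y * (d' : G)⁻¹ * y⁻¹ * (c⁻¹ * y * c)
            = ((d' : G) * y * (d' : G)⁻¹ * y⁻¹ * c⁻¹) * y * c := by group
          _ = (c⁻¹ * ((d' : G) * y * (d' : G)⁻¹ * y⁻¹)) * y * c := by rw [hcl' _ hwl]
          _ = c⁻¹ * (((d' : G) * y * (d' : G)⁻¹ * y⁻¹) * y) * c := by group
          _ = c⁻¹ * (y * ((d' : G) * y * (d' : G)⁻¹ * y⁻¹)) * c := by rw [hwy _ hdD]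
          _ = c⁻¹ * y * (((d' : G) * y * (d' : G)⁻¹ * y⁻¹) * c) := by group
          _ = c⁻¹ * y * (c * ((d' : G) * y * (d' : G)⁻¹ * y⁻¹)) := by rw [hcl _ hwl]
          _ = c⁻¹ * y * c * ((d' : G) * y * (d' : G)⁻¹ * y⁻¹) := by group
    have hcs := hD'm.2 ⟨c⁻¹ * y * c, hs⟩ hclass
    intro d hd
    obtain ⟨d', hd', rfl⟩ := (hDmem d).mp hd
    have h1 : (d' : G) * (c⁻¹ * y * c) = (c⁻¹ * y * c) * (d' : G) :=
      congrArg Subtype.val (hcs d' hd')
    have hdL : (d' : G) ∈ L := hDL ((hDmem _).mpr ⟨d', hd', rfl⟩)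
    calc (d' : G) * y = ((d' : G) * c) * (c⁻¹ * y * c) * c⁻¹ := by group
      _ = (c * (d' : G)) * (c⁻¹ * y * c) * c⁻¹ := by rw [hcl _ hdL]
      _ = c * ((d' : G) * (c⁻¹ * y * c)) * c⁻¹ := by group
      _ = c * ((c⁻¹ * y * c) * (d' : G)) * c⁻¹ := by rw [h1]
      _ = y * (c * (d' : G)) * c⁻¹ := by group
      _ = y * ((d' : G) * c) * c⁻¹ := by rw [hcl _ hdL]
      _ = y * (d' : G) := by group
  -- L belongs to the family
  have hLfam : L.subgroupOf S₀ ∈ Cfsg.dStarFamily ↥S₀ := by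
    refine ⟨ZJFam.isComm_of (fun x hx y hy => Subtype.ext (hLc _ hx _ hy)), ?_⟩
    intro x hx a ha
    have hq : ⁅⁅L, Subgroup.zpowers (x : G)⁆, Subgroup.zpowers (x : G)⁆ = ⊥ := by
      have h1 := congrArg (Subgroup.map S₀.subtype) hx
      rw [Subgroup.map_commutator, Subgroup.map_commutator, Subgroup.map_sup,
        Subgroup.map_subgroupOf_eq_of_le hLS, MonoidHom.map_zpowers, Subgroup.map_bot] at h1
      rw [eq_bot_iff, ← h1]
      exact Subgroup.commutator_mono (Subgroup.commutator_mono le_sup_left le_sup_right)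
        le_sup_right
    obtain ⟨k, hk'⟩ := hS₀p x
    have hxk : (x : G) ^ p ^ k = 1 := by
      have h := congrArg Subtype.val hk'
      rwa [Subgroup.coe_pow] at h
    have hcen : ∀ g : G, ∀ d ∈ D, (g * d * g⁻¹) * (x : G) = (x : G) * (g * d * g⁻¹) := by
      intro g d hd
      have hyk : (g⁻¹ * (x : G) * g) ^ p ^ k = 1 := by
        have e : g⁻¹ * (x : G) * g = g⁻¹ * (x : G) * g⁻¹⁻¹ := by rw [inv_inv]
        rw [e, conj_pow, hxk, mul_one, mul_inv_cancel]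
      have hLg : L.map (MulAut.conj g⁻¹).toMonoidHom = L := Subgroup.Normal.map_conj_eq (H := L) g⁻¹
      have hval : (MulAut.conj g⁻¹).toMonoidHom (x : G) = g⁻¹ * (x : G) * g := by
        show g⁻¹ * (x : G) * g⁻¹⁻¹ = _
        rw [inv_inv]
      have hq2 : ⁅⁅L, Subgroup.zpowers (g⁻¹ * (x : G) * g)⁆,
          Subgroup.zpowers (g⁻¹ * (x : G) * g)⁆ = ⊥ := by
        have h2 := congrArg (Subgroup.map (MulAut.conj g⁻¹).toMonoidHom) hq
        rw [Subgroup.map_commutator, Subgroup.map_commutator, hLg, MonoidHom.map_zpowers,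
          Subgroup.map_bot, hval] at h2
        exact h2
      have hy := hKey (g⁻¹ * (x : G) * g) ⟨k, hyk⟩ hq2 d hd
      calc g * d * g⁻¹ * (x : G) = g * (d * (g⁻¹ * (x : G) * g)) * g⁻¹ := by group
        _ = g * ((g⁻¹ * (x : G) * g) * d) * g⁻¹ := by rw [hy]
        _ = (x : G) * (g * d * g⁻¹) := by group
    have hLx : L ≤ Subgroup.centralizer ({(x : G)} : Set G) := by
      rw [hL]
      unfold Subgroup.normalClosure
      rw [Subgroup.closure_le]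
      intro u hu
      obtain ⟨d, hd, hconj⟩ := Group.mem_conjugatesOfSet_iff.mp hu
      obtain ⟨g, rfl⟩ := isConj_iff.mp hconj
      rw [SetLike.mem_coe, Subgroup.mem_centralizer_iff]
      intro h hh
      rw [Set.mem_singleton_iff] at hh
      rw [hh]
      exact (hcen g d hd).symm
    apply Subtype.ext
    show (a : G) * (x : G) = (x : G) * (a : G)
    exact (Subgroup.mem_centralizer_iff.mp (hLx (Subgroup.mem_subgroupOf.mp ha)) (x : G) rfl).symm
  have hLD : L ≤ D := by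
    intro l hl
    have h1 := Cfsg.Agent.Lib.Helper17.DStar.le_dStar hLfam
    exact (hDmem l).mpr ⟨⟨l, hLS hl⟩, h1 (Subgroup.mem_subgroupOf.mpr hl), rfl⟩
  have hDeq : D = L := le_antisymm hDL hLD
  rw [hDeq]
  exact hLn

end Cfsg.Agent.S3060
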