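import Cfsg.Statements.S3179
import Mathlib
import Cfsg.Agent.S2475
import Cfsg.Agent.S1163
import Cfsg.Agent.S0280

set_option autoImplicit false
open Cfsg

namespace Cfsg.Agent.S3179

/-- A permutation of order 9: the points moved by its cube come in orbits of size 9. -/
theorem perm_nine {X : Type*} [Finite X] (σ : Equiv.Perm X) (h9 : orderOf σ = 9) :
    9 ∣ Nat.card {x : X // (σ ^ 3) x ≠ x} := by
  classical
  let S : SubMulAction (Subgroup.zpowers σ) X :=
    { carrier := {x | (σ ^ 3) x ≠ x}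
      smul_mem' := by
        rintro ⟨z, hz⟩ x hx
        obtain ⟨j, rfl⟩ := Subgroup.mem_zpowers_iff.mp hz
        show (σ ^ 3) ((σ ^ j) x) ≠ (σ ^ j) x
        intro h
        apply hx
        have hc : σ ^ 3 * σ ^ j = σ ^ j * σ ^ 3 :=
          ((Commute.refl σ).pow_left 3).zpow_right j
        have h2 : (σ ^ j) ((σ ^ 3) x) = (σ ^ j) x := by
          rw [← h, ← Equiv.Perm.mul_apply, ← Equiv.Perm.mul_apply, hc]
        exact (σ ^ j).injective h2 }
  have hfree : ∀ b : S, MulAction.stabilizer (Subgroup.zpowers σ) b = ⊥ := by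
    intro b
    rw [Subgroup.eq_bot_iff_forall]
    rintro ⟨z, hz⟩ hzb
    have hb : (σ ^ 3) b.1 ≠ b.1 := b.2
    have hzb' : z b.1 = b.1 := congrArg Subtype.val hzb
    rw [mem_zpowers_iff_mem_range_orderOf, h9] at hz
    obtain ⟨k, hk, rfl⟩ := Finset.mem_image.mp hz
    rw [Finset.mem_range] at hk
    have key : ∀ k m : ℕ, (k * m) % 9 = 3 → (σ ^ k) b.1 = b.1 → (σ ^ 3) b.1 = b.1 := by
      intro k m hkm h
      have h1 := Equiv.Perm.pow_apply_eq_self_of_apply_eq_self h m
      rw [← pow_mul] at h1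
      have h2 : σ ^ (k * m) = σ ^ 3 := by
        rw [← pow_mod_orderOf, h9, hkm]
      rwa [h2] at h1
    have hzb'' : (σ ^ k) b.1 = b.1 := hzb'
    interval_cases k
    · rfl
    · exact absurd (key 1 3 (by norm_num) hzb'') hb
    · exact absurd (key 2 6 (by norm_num) hzb'') hb
    · exact absurd (key 3 1 (by norm_num) hzb'') hb
    · exact absurd (key 4 3 (by norm_num) hzb'') hb
    · exact absurd (key 5 6 (by norm_num) hzb'') hb
    · exact absurd (key 6 2 (by norm_num) hzb'') hb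
    · exact absurd (key 7 3 (by norm_num) hzb'') hb
    · exact absurd (key 8 6 (by norm_num) hzb'') hb
  have e := MulAction.selfEquivOrbitsQuotientProd hfree
  have hcard : Nat.card S
      = Nat.card (Quotient (MulAction.orbitRel (Subgroup.zpowers σ) S))
        * Nat.card (Subgroup.zpowers σ) := by
    rw [Nat.card_congr e, Nat.card_prod]
  have hZ : Nat.card (Subgroup.zpowers σ) = 9 := by
    rw [Nat.card_zpowers, h9]
  have hS : Nat.card S = Nat.card {x : X // (σ ^ 3) x ≠ x} := rfl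
  rw [← hS, hcard, hZ]
  exact Dvd.intro_left _ rfl

section

open Matrix

/-- The permutation representation of `GL₅(2)` on vectors. -/
def permHom : GL (Fin 5) (ZMod 2) →* Equiv.Perm (Fin 5 → ZMod 2) where
  toFun g :=
    { toFun := fun v => (g : Matrix (Fin 5) (Fin 5) (ZMod 2)) *ᵥ v
      invFun := fun v => ((g⁻¹ : GL (Fin 5) (ZMod 2)) : Matrix (Fin 5) (Fin 5) (ZMod 2)) *ᵥ v
      left_inv := by
        intro v
        show ((g⁻¹ : GL (Fin 5) (ZMod 2)) : Matrix (Fin 5) (Fin 5) (ZMod 2)) *ᵥ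
          ((g : Matrix (Fin 5) (Fin 5) (ZMod 2)) *ᵥ v) = v
        rw [Matrix.mulVec_mulVec, ← Units.val_mul, inv_mul_cancel, Units.val_one, Matrix.one_mulVec]
      right_inv := by
        intro v
        show (g : Matrix (Fin 5) (Fin 5) (ZMod 2)) *ᵥ
          (((g⁻¹ : GL (Fin 5) (ZMod 2)) : Matrix (Fin 5) (Fin 5) (ZMod 2)) *ᵥ v) = v
        rw [Matrix.mulVec_mulVec, ← Units.val_mul, mul_inv_cancel, Units.val_one,
          Matrix.one_mulVec] }
  map_one' := by
    ext v : 1
    show ((1 : GL (Fin 5) (ZMod 2)) : Matrix (Fin 5) (Fin 5) (ZMod 2)) *ᵥ v = v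
    rw [Units.val_one, Matrix.one_mulVec]
  map_mul' g h := by
    ext v : 1
    show ((g * h : GL (Fin 5) (ZMod 2)) : Matrix (Fin 5) (Fin 5) (ZMod 2)) *ᵥ v
      = (g : Matrix (Fin 5) (Fin 5) (ZMod 2)) *ᵥ ((h : Matrix (Fin 5) (Fin 5) (ZMod 2)) *ᵥ v)
    rw [Matrix.mulVec_mulVec, Units.val_mul]

theorem permHom_apply (g : GL (Fin 5) (ZMod 2)) (v : Fin 5 → ZMod 2) :
    permHom g v = (g : Matrix (Fin 5) (Fin 5) (ZMod 2)) *ᵥ v := rfl

theorem permHom_injective : Function.Injective permHom := by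
  rw [injective_iff_map_eq_one]
  intro g hg
  apply Units.ext
  rw [Units.val_one, Matrix.ext_iff_mulVec]
  intro v
  rw [Matrix.one_mulVec, ← permHom_apply, hg]
  rfl

/-- `GL₅(2)` has no element of order 9. -/
theorem no_order9 (g : GL (Fin 5) (ZMod 2)) : orderOf g ≠ 9 := by
  intro h9
  have hσ : orderOf (permHom g) = 9 := by
    rw [orderOf_injective permHom permHom_injective g, h9]
  have h1 := perm_nine (permHom g) hσ
  let C : AddSubgroup (Fin 5 → ZMod 2) :=
    { carrier := {v | (permHom g ^ 3) v = v}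
      zero_mem' := by
        show (permHom g ^ 3) 0 = 0
        rw [← map_pow, permHom_apply, Matrix.mulVec_zero]
      add_mem' := by
        intro a b ha hb
        have ha' : (permHom g ^ 3) a = a := ha
        have hb' : (permHom g ^ 3) b = b := hb
        show (permHom g ^ 3) (a + b) = a + b
        rw [← map_pow, permHom_apply] at ha' hb' ⊢
        rw [Matrix.mulVec_add, ha', hb']
      neg_mem' := by
        intro a ha
        have ha' : (permHom g ^ 3) a = a := ha
        show (permHom g ^ 3) (-a) = -a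
        rw [← map_pow, permHom_apply] at ha' ⊢
        rw [Matrix.mulVec_neg, ha'] }
  have hV : Nat.card (Fin 5 → ZMod 2) = 32 := by
    rw [Nat.card_eq_fintype_card]
    simp
  have hC : Nat.card C ∣ 2 ^ 5 := by
    have h32 : (2 : ℕ) ^ 5 = 32 := by norm_num
    rw [h32, ← hV]
    exact AddSubgroup.card_addSubgroup_dvd_card C
  obtain ⟨k, hk, hCk⟩ := (Nat.dvd_prime_pow Nat.prime_two (m := 5)).mp hC
  have hS : Nat.card {x : Fin 5 → ZMod 2 // (permHom g ^ 3) x ≠ x} = 32 - Nat.card C := by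
    have e1 : Nat.card {x : Fin 5 → ZMod 2 // (permHom g ^ 3) x ≠ x}
        = Nat.card ↥(({v | (permHom g ^ 3) v = v} : Set (Fin 5 → ZMod 2))ᶜ) := rfl
    have e2 : Nat.card C
        = Nat.card ↥({v | (permHom g ^ 3) v = v} : Set (Fin 5 → ZMod 2)) := rfl
    rw [e1, e2, Nat.card_coe_set_eq, Nat.card_coe_set_eq, Set.ncard_compl, hV]
  rw [hS, hCk] at h1
  have hk5 : k = 5 := by
    interval_cases k <;> first | rfl | (exfalso; norm_num at h1; done)
  rw [hk5] at hCk
  have htop : C = ⊤ := by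
    rw [← AddSubgroup.card_eq_iff_eq_top, hCk, hV]
    norm_num
  have h3 : permHom g ^ 3 = 1 := by
    ext v : 1
    have : v ∈ C := by rw [htop]; exact AddSubgroup.mem_top v
    exact this
  have := orderOf_dvd_of_pow_eq_one h3
  rw [hσ] at this
  norm_num at this

theorem card_GL52 : Nat.card (GL (Fin 5) (ZMod 2)) = 9999360 := by
  rw [Matrix.card_GL_field]
  simp [Fin.prod_univ_five]

end

/-- Let X be a section of the general linear group GL(5, 2), that is, a quotient of a subgroup of it. If X is isomorphic to PSL(2, 2^n) for some n ≥ 2, to a Suzuki group over the field with 2^(2m+1) elements for some m ≥ 1, or to PSU(3, 2^n) for some n ≥ 2, then X is isomorphic to PSL(2, 4). -/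
theorem result {H : Subgroup (GL (Fin 5) (ZMod 2))}
    {K : Subgroup ↥H} [K.Normal]
    (hX : (∃ (n : ℕ) (F : Type) (_ : Field F) (_ : Fintype F), 2 ≤ n ∧ Fintype.card F = 2 ^ n ∧
        Nonempty (↥H ⧸ K ≃* Matrix.ProjectiveSpecialLinearGroup (Fin 2) F)) ∨
      (∃ (m : ℕ) (F : Type) (_ : Field F) (_ : Fintype F), 1 ≤ m ∧ Fintype.card F = 2 ^ (2 * m + 1) ∧
        Nonempty (↥H ⧸ K ≃* ↥(Cfsg.Lie.Sz F (2 ^ (m + 1))))) ∨
      (∃ (n : ℕ) (F : Type) (_ : Field F) (_ : Fintype F), 2 ≤ n ∧ Fintype.card F = 4 ^ n ∧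
        Nonempty (↥H ⧸ K ≃* Cfsg.PSU 3 F (2 ^ n)))) :
    ∃ (F : Type) (_ : Field F) (_ : Fintype F), Fintype.card F = 4 ∧
      Nonempty (↥H ⧸ K ≃* Matrix.ProjectiveSpecialLinearGroup (Fin 2) F) := by
  classical
  have hdvdH : Nat.card (↥H ⧸ K) ∣ 9999360 := by
    rw [← card_GL52]
    exact dvd_trans (Subgroup.card_quotient_dvd_card K) (Subgroup.card_subgroup_dvd_card H)
  have hdiv : ∀ x : ↥H ⧸ K, orderOf x ∣ 9999360 := fun x =>
    dvd_trans (orderOf_dvd_natCard x) hdvdH
  have hno9 : ∀ x : ↥H ⧸ K, orderOf x ≠ 9 := by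
    intro x hx
    obtain ⟨h, rfl⟩ := QuotientGroup.mk_surjective x
    have h1 : orderOf (QuotientGroup.mk' K h) ∣ orderOf h := orderOf_map_dvd (QuotientGroup.mk' K) h
    have hx' : orderOf (QuotientGroup.mk' K h) = 9 := hx
    rw [hx'] at h1
    have hpos : 0 < orderOf h := orderOf_pos h
    have h2 : orderOf (h ^ (orderOf h / 9)) = 9 := orderOf_pow_orderOf_div hpos.ne' h1
    refine no_order9 ((h ^ (orderOf h / 9) : ↥H) : GL (Fin 5) (ZMod 2)) ?_
    rw [Subgroup.orderOf_coe]
    exact h2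
  rcases hX with ⟨n, F, _, _, hn, hF, ⟨e⟩⟩ | ⟨m, F, _, _, hm, hF, ⟨e⟩⟩ | ⟨n, F, _, _, hn, hF, ⟨e⟩⟩
  · -- PSL₂
    obtain ⟨p, hp⟩ := CharP.exists F
    have := hp
    obtain ⟨k, hpprime, hk⟩ := FiniteField.card F p
    have hp2 : p = 2 := by
      have h1 : p ∣ 2 ^ n := by
        rw [← hF, hk]
        exact dvd_pow_self p k.ne_zero
      exact (Nat.prime_dvd_prime_iff_eq hpprime Nat.prime_two).mp (hpprime.dvd_of_dvd_pow h1)
    subst hp2
    have : Fact (Nat.Prime 2) := ⟨Nat.prime_two⟩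
    have h4 : 4 ≤ Fintype.card F := by
      rw [hF]
      calc 4 = 2 ^ 2 := rfl
        _ ≤ 2 ^ n := Nat.pow_le_pow_right (by norm_num) hn
    have hspec := Cfsg.Agent.S2475.result (F := F) 2 h4
    have hodd : Odd (2 ^ n - 1) := by
      have h1 : 1 ≤ 2 ^ n := Nat.one_le_two_pow
      have h2 : Even (2 ^ n) := (Nat.even_pow' (by omega)).mpr even_two
      exact Nat.Even.sub_odd h1 h2 odd_one
    have hgcd : Nat.gcd 2 (Fintype.card F - 1) = 1 := by
      rw [hF]
      exact Nat.coprime_two_left.mpr hodd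
    have hm1 : (2 ^ n + 1) ∈
        Set.range (orderOf : Matrix.ProjectiveSpecialLinearGroup (Fin 2) F → ℕ) := by
      rw [hspec]
      right; right
      rw [hgcd, hF, Nat.div_one]
    have hm2 : (2 ^ n - 1) ∈
        Set.range (orderOf : Matrix.ProjectiveSpecialLinearGroup (Fin 2) F → ℕ) := by
      rw [hspec]
      right; left
      rw [hgcd, hF, Nat.div_one]
    obtain ⟨y1, hy1⟩ := hm1
    obtain ⟨y2, hy2⟩ := hm2
    have o1 : orderOf (e.symm y1) = 2 ^ n + 1 := by rw [MulEquiv.orderOf_eq, hy1]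
    have o2 : orderOf (e.symm y2) = 2 ^ n - 1 := by rw [MulEquiv.orderOf_eq, hy2]
    have d1 : 2 ^ n + 1 ∣ 9999360 := by
      rw [← o1]
      exact hdiv _
    have d2 : 2 ^ n - 1 ∣ 9999360 := by
      rw [← o2]
      exact hdiv _
    have hn24 : n < 24 := by
      by_contra hcon
      push Not at hcon
      have h1 : 2 ^ 24 ≤ 2 ^ n := Nat.pow_le_pow_right (by norm_num) hcon
      have h2 := Nat.le_of_dvd (by norm_num) d1
      norm_num at h1
      omega
    have hn' : n = 2 ∨ n = 3 := by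
      interval_cases n <;>
        first
        | (left; rfl)
        | (right; rfl)
        | (exfalso; norm_num at d1; done)
        | (exfalso; norm_num at d2; done)
    rcases hn' with rfl | rfl
    · exact ⟨F, inferInstance, inferInstance, by rw [hF]; norm_num, ⟨e⟩⟩
    · exfalso
      exact hno9 (e.symm y1) (by rw [o1]; norm_num)
  · -- Suzuki
    exfalso
    have hcard := (Cfsg.Agent.S1163.result (F := F) hm hF).1
    rw [Nat.card_congr e.toEquiv, hcard] at hdvdH
    have hm3 : m < 3 := by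
      by_contra hcon
      push Not at hcon
      have h1 : 2 ^ 11 ∣ (2 ^ (2 * m + 1)) ^ 2 := by
        rw [← pow_mul]
        exact pow_dvd_pow 2 (by omega)
      have h2 : 2 ^ 11 ∣ 9999360 :=
        dvd_trans (dvd_trans h1 (dvd_mul_of_dvd_left (dvd_mul_right _ _) _)) hdvdH
      norm_num at h2
    interval_cases m
    · norm_num at hdvdH
    · norm_num at hdvdH
  · -- PSU₃
    exfalso
    have hF' : Fintype.card F = (2 ^ n) ^ 2 := by
      rw [hF, ← pow_mul, mul_comm, pow_mul]
      norm_num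
    have hcard := Cfsg.Agent.S0280.result (F := F) (q := 2 ^ n) hF' 3 (by norm_num)
    rw [Nat.card_congr e.toEquiv] at hdvdH
    obtain ⟨N, hN⟩ : ∃ N, N = Nat.card (Cfsg.PSU 3 F (2 ^ n)) := ⟨_, rfl⟩
    rw [← hN] at hcard hdvdH
    clear hN
    have hn4 : n < 4 := by
      by_contra hcon
      push Not at hcon
      have hodd1 : Odd (2 ^ n + 1) := by
        have h2 : Even (2 ^ n) := (Nat.even_pow' (by omega)).mpr even_two
        exact Even.add_one h2
      have hodd2 : Odd (Nat.gcd 3 (2 ^ n + 1)) := by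
        have h3 : Nat.gcd 3 (2 ^ n + 1) ∣ 3 := Nat.gcd_dvd_left _ _
        rcases (Nat.dvd_prime Nat.prime_three).mp h3 with h | h <;> rw [h] <;> decide
      have hcop : Nat.Coprime ((2 ^ n) ^ (3 * (3 - 1) / 2)) (Nat.gcd 3 (2 ^ n + 1) * (2 ^ n + 1)) := by
        apply Nat.Coprime.pow_left
        apply Nat.Coprime.pow_left
        exact Nat.coprime_two_left.mpr (hodd2.mul hodd1)
      have h5 : (2 ^ n) ^ (3 * (3 - 1) / 2) ∣ Nat.gcd 3 (2 ^ n + 1) * (2 ^ n + 1) * N := by
        rw [mul_assoc, hcard]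
        exact dvd_mul_right _ _
      have h6 : (2 ^ n) ^ (3 * (3 - 1) / 2) ∣ N :=
        hcop.dvd_of_dvd_mul_left h5
      have h7 : 2 ^ 11 ∣ (2 ^ n) ^ (3 * (3 - 1) / 2) := by
        rw [← pow_mul]
        exact pow_dvd_pow 2 (by omega)
      have h8 : 2 ^ 11 ∣ 9999360 := dvd_trans (dvd_trans h7 h6) hdvdH
      norm_num at h8
    interval_cases n
    · norm_num [Finset.prod_range_succ] at hcard
      have hN : N = 62400 := by omega
      rw [hN] at hdvdH
      norm_num at hdvdH
    · norm_num [Finset.prod_range_succ] at hcard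
      have hN : N = 5515776 := by omega
      rw [hN] at hdvdH
      norm_num at hdvdH

end Cfsg.Agent.S3179
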