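import Cfsg.Statements.S3224
import Mathlib
import Cfsg.Agent.Lib.Helper18.UniqueInvolution
import Cfsg.Agent.Lib.Helper18.DihedralEquiv
import Cfsg.Agent.Lib.Helper17.Syl

set_option autoImplicit false
open Cfsg

namespace Cfsg.Agent.S3224

theorem mem_zpowers_invol {G : Type*} [Group G] (z u : G) (hz : z ^ 2 = 1)
    (hu : u ∈ Subgroup.zpowers z) : u = 1 ∨ u = z := by
  obtain ⟨k, rfl⟩ := Subgroup.mem_zpowers_iff.1 hu
  rcases Int.even_or_odd' k with ⟨m, rfl | rfl⟩
  · left
    rw [zpow_mul, zpow_ofNat, hz, one_zpow]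
  · right
    rw [zpow_add, zpow_mul, zpow_ofNat, hz, one_zpow, one_mul, zpow_one]

theorem invol_central {G : Type*} [Group G] [Finite G] (a x : G)
    (hn : (Subgroup.zpowers a).Normal)
    (hxa : x ∈ Subgroup.zpowers a) (hx : x ^ 2 = 1) (g : G) : g * x * g⁻¹ = x := by
  have : Fact (Nat.Prime 2) := ⟨Nat.prime_two⟩
  by_cases hx1 : x = 1
  · rw [hx1]; group
  have ho : orderOf x = 2 := orderOf_eq_prime hx hx1
  have h1 : g * x * g⁻¹ ∈ Subgroup.zpowers a := hn.conj_mem x hxa g
  have h2 : (g * x * g⁻¹) ^ orderOf x = 1 := by rw [ho, conj_pow, hx]; group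
  have h3 := Cfsg.Agent.Lib.Helper18.UniqueInvolution.mem_zpowers_of_pow_orderOf a
    (g * x * g⁻¹) x h1 hxa h2
  rcases mem_zpowers_invol x _ hx h3 with h4 | h4
  · exfalso; apply hx1
    have : x = g⁻¹ * (g * x * g⁻¹) * g := by group
    rw [this, h4]; group
  · exact h4

theorem ncard_four_le {α : Type*} (a b c d : α) : ({a, b, c, d} : Set α).ncard ≤ 4 := by
  have h1 := Set.ncard_insert_le a ({b, c, d} : Set α)
  have h2 := Set.ncard_insert_le b ({c, d} : Set α)
  have h3 := Set.ncard_insert_le c ({d} : Set α)
  have h4 := Set.ncard_singleton d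
  omega

theorem cent_eq {S : Type*} [Group S] [Finite S] (x z : S) (hx2 : x ^ 2 = 1) (hx1 : x ≠ 1)
    (hz2 : z ^ 2 = 1) (hz1 : z ≠ 1) (hzx : z ≠ x)
    (hzc : ∀ g : S, g * z = z * g)
    (hC : Nat.card ↥(Subgroup.centralizer ({x} : Set S)) ≤ 4) :
    ∀ g : S, g * x = x * g → g = 1 ∨ g = x ∨ g = z ∨ g = x * z := by
  have hsub : ({1, x, z, x * z} : Set S) ⊆ (Subgroup.centralizer ({x} : Set S) : Set S) := by
    intro g hg
    simp only [Set.mem_insert_iff, Set.mem_singleton_iff] at hg
    rw [SetLike.mem_coe, Subgroup.mem_centralizer_iff]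
    intro h hh
    rw [Set.mem_singleton_iff] at hh
    subst hh
    rcases hg with rfl | rfl | rfl | rfl
    · simp
    · rfl
    · exact hzc h
    · rw [mul_assoc, hzc h]
  have hzinv : z⁻¹ = z := inv_eq_of_mul_eq_one_left (by rw [← pow_two]; exact hz2)
  have hcard : ({1, x, z, x * z} : Set S).ncard = 4 := by
    rw [Set.ncard_insert_of_notMem, Set.ncard_insert_of_notMem, Set.ncard_pair]
    · intro h
      apply hx1
      calc x = x * z * z⁻¹ := by group
        _ = 1 := by rw [← h]; group
    · simp only [Set.mem_insert_iff, Set.mem_singleton_iff, not_or]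
      refine ⟨fun h => hzx h.symm, fun h => hz1 ?_⟩
      calc z = x⁻¹ * (x * z) := by group
        _ = 1 := by rw [← h]; group
    · simp only [Set.mem_insert_iff, Set.mem_singleton_iff, not_or]
      refine ⟨fun h => hx1 h.symm, fun h => hz1 h.symm, fun h => hzx ?_⟩
      calc z = (x * z)⁻¹ * x := by rw [mul_inv_rev, hzinv]; group
        _ = x := by rw [← h]; group
  have heq := Set.eq_of_subset_of_ncard_le hsub (by
    rw [hcard]
    calc (Subgroup.centralizer ({x} : Set S) : Set S).ncard
        = Nat.card ↥(Subgroup.centralizer ({x} : Set S)) := (Nat.card_coe_set_eq _).symm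
      _ ≤ 4 := hC) (Set.toFinite _)
  intro g hg
  have hgC : g ∈ (Subgroup.centralizer ({x} : Set S) : Set S) := by
    rw [SetLike.mem_coe, Subgroup.mem_centralizer_iff]
    intro h hh
    rw [Set.mem_singleton_iff] at hh
    rw [hh]; exact hg.symm
  rw [← heq] at hgC
  simpa only [Set.mem_insert_iff, Set.mem_singleton_iff] using hgC

theorem cyclic_max.{u} : ∀ (n : ℕ) (S : Type u) [Group S] [Finite S], IsPGroup 2 S →
    Nat.card S = n → 8 ≤ n →
    ∀ x : S, x ^ 2 = 1 → x ≠ 1 → Nat.card ↥(Subgroup.centralizer ({x} : Set S)) ≤ 4 →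
    ∃ a : S, (Subgroup.zpowers a).index = 2 ∧ x ∉ Subgroup.zpowers a := by
  intro n
  induction n using Nat.strong_induction_on with
  | _ n ih =>
  intro S _ _ hS hcard hn x hx2 hx1 hC
  have : Fact (Nat.Prime 2) := ⟨Nat.prime_two⟩
  have hnc : ¬ ∀ g : S, g * x = x * g := by
    intro h
    have h1 : Subgroup.centralizer ({x} : Set S) = ⊤ := by
      rw [eq_top_iff]
      intro g _
      rw [Subgroup.mem_centralizer_iff]
      intro y hy
      rw [Set.mem_singleton_iff] at hy
      rw [hy]
      exact (h g).symm
    rw [h1, Subgroup.card_top, hcard] at hC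
    omega
  obtain ⟨t, ht⟩ := IsPGroup.iff_card.1 hS
  rw [hcard] at ht
  have ht3 : 3 ≤ t := by
    by_contra hlt
    have h1 : t ≤ 2 := by omega
    have h2 : 2 ^ t ≤ 2 ^ 2 := Nat.pow_le_pow_right (by norm_num) h1
    omega
  rcases Nat.lt_or_ge t 4 with ht4 | ht4
  · -- base case, n = 8
    have ht' : t = 3 := by omega
    subst ht'
    have hn8 : n = 8 := by rw [ht]; norm_num
    have hex : ∃ a : S, a ^ 2 ≠ 1 := by
      by_contra hall
      push Not at hall
      apply hnc
      intro g
      have h1 := hall (g * x)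
      have h2 := hall g
      have h3 : g⁻¹ = g := inv_eq_of_mul_eq_one_left (by rw [← pow_two]; exact h2)
      have h4 : x⁻¹ = x := inv_eq_of_mul_eq_one_left (by rw [← pow_two]; exact hx2)
      have h5 : g * x = x⁻¹ * g⁻¹ := by
        rw [← mul_inv_rev, eq_inv_iff_mul_eq_one, ← pow_two]; exact h1
      rw [h5, h3, h4]
    obtain ⟨a, ha⟩ := hex
    have hao : orderOf a ∣ 2 ^ 3 := by rw [← ht, ← hcard]; exact orderOf_dvd_natCard a
    obtain ⟨k, hk, hak⟩ := (Nat.dvd_prime_pow Nat.prime_two).1 hao
    have hk2 : 2 ≤ k := by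
      by_contra hlt
      apply ha
      have hk' : k < 2 := by omega
      have : orderOf a ∣ 2 := by
        rw [hak]
        interval_cases k <;> norm_num
      exact orderOf_dvd_iff_pow_eq_one.1 this
    have hidx : (Subgroup.zpowers a).index = 2 ∨ (Subgroup.zpowers a).index = 1 := by
      have h1 := Subgroup.card_mul_index (Subgroup.zpowers a)
      rw [Nat.card_zpowers, hak, hcard, hn8] at h1
      interval_cases k
      · left; omega
      · right; omega
    have hnorm : (Subgroup.zpowers a).Normal := by
      rcases hidx with h | h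
      · exact Subgroup.normal_of_index_eq_two h
      · rw [Subgroup.index_eq_one.1 h]; infer_instance
    have hxa : x ∉ Subgroup.zpowers a := by
      intro hxa
      apply hnc
      intro g
      have := invol_central a x hnorm hxa hx2 g
      calc g * x = (g * x * g⁻¹) * g := by group
        _ = x * g := by rw [this]
    rcases hidx with h | h
    · exact ⟨a, h, hxa⟩
    · exfalso
      apply hxa
      rw [Subgroup.index_eq_one.1 h]
      exact Subgroup.mem_top x
  · have hn16 : 16 ≤ n := by
      rw [ht]
      calc 16 = 2 ^ 4 := by norm_num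
        _ ≤ 2 ^ t := Nat.pow_le_pow_right (by norm_num) ht4
    have : Nontrivial S := by
      rw [← Finite.one_lt_card_iff_nontrivial, hcard]; omega
    have := hS.center_nontrivial
    have hZ : IsPGroup 2 ↥(Subgroup.center S) := hS.to_subgroup _
    obtain ⟨s, hs⟩ := IsPGroup.iff_card.1 hZ
    have hs1 : s ≠ 0 := by
      rintro rfl
      have := Finite.one_lt_card (α := ↥(Subgroup.center S))
      rw [hs] at this
      omega
    obtain ⟨z0, hz0⟩ := exists_prime_orderOf_dvd_card' (G := ↥(Subgroup.center S)) 2
      (by rw [hs]; exact dvd_pow_self 2 hs1)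
    obtain ⟨z, hzdef⟩ : ∃ z : S, z = (z0 : S) := ⟨_, rfl⟩
    have hzo : orderOf z = 2 := by rw [hzdef, Subgroup.orderOf_coe, hz0]
    have hzc : ∀ g : S, g * z = z * g := by
      rw [hzdef]; exact Subgroup.mem_center_iff.1 z0.2
    have hz2 : z ^ 2 = 1 := by rw [← hzo]; exact pow_orderOf_eq_one z
    have hz1 : z ≠ 1 := by
      intro h
      rw [h, orderOf_one] at hzo
      omega
    have hzx : z ≠ x := by
      intro h
      apply hnc
      rw [← h]; exact hzc
    have hCset := cent_eq x z hx2 hx1 hz2 hz1 hzx hzc hC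
    obtain ⟨N, hNdef⟩ : ∃ N : Subgroup S, N = Subgroup.zpowers z := ⟨_, rfl⟩
    have hNmem : ∀ g : S, g ∈ N → g = 1 ∨ g = z := by
      intro g hg
      rw [hNdef] at hg
      exact mem_zpowers_invol z g hz2 hg
    have hzN : z ∈ N := by rw [hNdef]; exact Subgroup.mem_zpowers z
    have hNn : N.Normal := by
      constructor
      intro g hg h
      rcases hNmem g hg with rfl | rfl
      · simp
      · rw [hzc h, mul_inv_cancel_right]; exact hzN
    have hNcard : Nat.card ↥N = 2 := by rw [hNdef, Nat.card_zpowers, hzo]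
    have hQcard : Nat.card (S ⧸ N) * 2 = n := by
      rw [← hNcard, ← hcard]; exact (Subgroup.card_eq_card_quotient_mul_card_subgroup N).symm
    have hQp : IsPGroup 2 (S ⧸ N) := hS.to_quotient N
    have hxN : x ∉ N := by
      intro h
      rcases hNmem x h with h | h
      · exact hx1 h
      · exact hzx h.symm
    have hxbar1 : (QuotientGroup.mk x : S ⧸ N) ≠ 1 := by
      intro h
      exact hxN ((QuotientGroup.eq_one_iff x).1 h)
    have hxbar2 : (QuotientGroup.mk x : S ⧸ N) ^ 2 = 1 := by
      rw [← QuotientGroup.mk_pow, hx2]; rfl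
    have hCbar : Nat.card ↥(Subgroup.centralizer
        ({(QuotientGroup.mk x : S ⧸ N)} : Set (S ⧸ N))) ≤ 4 := by
      have hz1' : (QuotientGroup.mk z : S ⧸ N) = 1 := (QuotientGroup.eq_one_iff z).2 hzN
      have key : ∃ T : Set (S ⧸ N), T.ncard ≤ 4 ∧ ∀ g : S,
          (g * x * g⁻¹ = x ∨ g * x * g⁻¹ = x * z) → (QuotientGroup.mk g : S ⧸ N) ∈ T := by
        have hcase1 : ∀ g : S, g * x * g⁻¹ = x →
            (QuotientGroup.mk g : S ⧸ N) = 1 ∨
              (QuotientGroup.mk g : S ⧸ N) = QuotientGroup.mk x := by
          intro g hg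
          have : g * x = x * g := by
            calc g * x = (g * x * g⁻¹) * g := by group
              _ = x * g := by rw [hg]
          rcases hCset g this with rfl | rfl | rfl | rfl
          · left; rfl
          · right; rfl
          · left; exact hz1'
          · right; rw [QuotientGroup.mk_mul, hz1', mul_one]
        by_cases hex : ∃ g₀ : S, g₀ * x * g₀⁻¹ = x * z
        · obtain ⟨g₀, hg₀⟩ := hex
          refine ⟨{1, QuotientGroup.mk x, QuotientGroup.mk g₀, QuotientGroup.mk (g₀ * x)},
            ncard_four_le _ _ _ _, ?_⟩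
          intro g hg
          rcases hg with hg | hg
          · rcases hcase1 g hg with h | h
            · left; exact h
            · right; left; exact h
          · have e1 : g * x = x * z * g := by
              calc g * x = (g * x * g⁻¹) * g := by group
                _ = x * z * g := by rw [hg]
            have e2 : x * g₀⁻¹ = g₀⁻¹ * (x * z) := by
              rw [← hg₀]; group
            have h1 : (g₀⁻¹ * g) * x = x * (g₀⁻¹ * g) := by
              calc (g₀⁻¹ * g) * x = g₀⁻¹ * (g * x) := by group
                _ = g₀⁻¹ * (x * z) * g := by rw [e1]; group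
                _ = x * (g₀⁻¹ * g) := by rw [← e2]; group
            rcases hCset _ h1 with h | h | h | h
            · have : g = g₀ := by
                calc g = g₀ * (g₀⁻¹ * g) := by group
                  _ = g₀ := by rw [h, mul_one]
              right; right; left; rw [this]
            · have : g = g₀ * x := by
                calc g = g₀ * (g₀⁻¹ * g) := by group
                  _ = g₀ * x := by rw [h]
              right; right; right; rw [this]; rfl
            · have : g = g₀ * z := by
                calc g = g₀ * (g₀⁻¹ * g) := by group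
                  _ = g₀ * z := by rw [h]
              right; right; left; rw [this, QuotientGroup.mk_mul, hz1', mul_one]
            · have : g = g₀ * x * z := by
                calc g = g₀ * (g₀⁻¹ * g) := by group
                  _ = g₀ * x * z := by rw [h, mul_assoc]
              have e : (QuotientGroup.mk (g₀ * x * z) : S ⧸ N) = QuotientGroup.mk (g₀ * x) := by
                rw [QuotientGroup.mk_mul, hz1', mul_one]
              right; right; right
              rw [this]; exact e
        · refine ⟨{1, QuotientGroup.mk x, 1, QuotientGroup.mk x}, ncard_four_le _ _ _ _, ?_⟩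
          intro g hg
          rcases hg with hg | hg
          · rcases hcase1 g hg with h | h
            · left; exact h
            · right; left; exact h
          · exact absurd ⟨g, hg⟩ hex
      obtain ⟨T, hT, hTmem⟩ := key
      have hsub : (Subgroup.centralizer ({(QuotientGroup.mk x : S ⧸ N)} : Set (S ⧸ N)) :
          Set (S ⧸ N)) ⊆ T := by
        intro q hq
        obtain ⟨g, rfl⟩ := QuotientGroup.mk_surjective q
        apply hTmem
        rw [SetLike.mem_coe, Subgroup.mem_centralizer_iff] at hq
        have h1 := hq _ (Set.mem_singleton _)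
        rw [← QuotientGroup.mk_mul, ← QuotientGroup.mk_mul, QuotientGroup.eq] at h1
        rcases hNmem _ h1 with h | h
        · left
          have : g * x = x * g := by
            calc g * x = (x * g) * ((x * g)⁻¹ * (g * x)) := by group
              _ = x * g := by rw [h, mul_one]
          rw [this]; group
        · right
          have : g * x = x * g * z := by
            calc g * x = (x * g) * ((x * g)⁻¹ * (g * x)) := by group
              _ = x * g * z := by rw [h]
          rw [this, mul_assoc x g z, hzc g]; group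
      calc Nat.card ↥(Subgroup.centralizer ({(QuotientGroup.mk x : S ⧸ N)} : Set (S ⧸ N)))
          = Set.ncard (Subgroup.centralizer ({(QuotientGroup.mk x : S ⧸ N)} : Set (S ⧸ N)) :
              Set (S ⧸ N)) := (Nat.card_coe_set_eq _)
        _ ≤ T.ncard := Set.ncard_le_ncard hsub (Set.toFinite T)
        _ ≤ 4 := hT
    obtain ⟨abar, habar, hxabar⟩ := ih (Nat.card (S ⧸ N)) (by omega) (S ⧸ N) hQp rfl (by omega)
      (QuotientGroup.mk x) hxbar2 hxbar1 hCbar
    obtain ⟨a, rfl⟩ := QuotientGroup.mk_surjective abar
    obtain ⟨B, hBdef⟩ : ∃ B : Subgroup S, B = Subgroup.zpowers a ⊔ N := ⟨_, rfl⟩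
    have hBcomap : B = Subgroup.comap (QuotientGroup.mk' N)
        (Subgroup.zpowers (QuotientGroup.mk a : S ⧸ N)) := by
      rw [hBdef]
      have h1 := Subgroup.comap_map_eq (QuotientGroup.mk' N) (Subgroup.zpowers a)
      rw [MonoidHom.map_zpowers, QuotientGroup.ker_mk'] at h1
      exact h1.symm
    have hBidx : B.index = 2 := by
      rw [hBcomap, Subgroup.index_comap_of_surjective _ (QuotientGroup.mk'_surjective N)]
      exact habar
    have hxB : x ∉ B := by
      intro h
      rw [hBcomap, Subgroup.mem_comap] at h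
      exact hxabar h
    have haB : Subgroup.zpowers a ≤ B := by rw [hBdef]; exact le_sup_left
    have hNB : N ≤ B := by rw [hBdef]; exact le_sup_right
    have hBn : B.Normal := Subgroup.normal_of_index_eq_two hBidx
    have hza : z ∈ Subgroup.zpowers a := by
      by_contra hza
      have hao : orderOf a ∣ 2 ^ t := by rw [← ht, ← hcard]; exact orderOf_dvd_natCard a
      obtain ⟨k, hk, hak⟩ := (Nat.dvd_prime_pow Nat.prime_two).1 hao
      have hk2 : 2 ≤ k := by
        by_contra hlt
        have hk' : k < 2 := by omega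
        have h1 : orderOf (QuotientGroup.mk a : S ⧸ N) ∣ orderOf a :=
          orderOf_map_dvd (QuotientGroup.mk' N) a
        have h2 : orderOf a ∣ 2 := by
          rw [hak]; interval_cases k <;> norm_num
        have h3 : orderOf (QuotientGroup.mk a : S ⧸ N) ≤ 2 :=
          Nat.le_of_dvd (by norm_num) (h1.trans h2)
        have h4 := Subgroup.card_mul_index (Subgroup.zpowers (QuotientGroup.mk a : S ⧸ N))
        rw [Nat.card_zpowers, habar] at h4
        omega
      obtain ⟨w, hwdef⟩ : ∃ w : S, w = a ^ (2 ^ (k - 1)) := ⟨_, rfl⟩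
      have hw2 : w ^ 2 = 1 := by
        rw [hwdef, ← pow_mul, ← pow_succ, Nat.sub_add_cancel (by omega), ← hak]
        exact pow_orderOf_eq_one a
      have hw1 : w ≠ 1 := by
        intro h
        rw [hwdef] at h
        have h1 := orderOf_dvd_of_pow_eq_one h
        rw [hak] at h1
        have h2 := Nat.le_of_dvd (by positivity) h1
        have h3 : 2 ^ (k - 1) < 2 ^ k := Nat.pow_lt_pow_right (by norm_num) (by omega)
        omega
      have hwo : orderOf w = 2 := orderOf_eq_prime hw2 hw1
      have hwa : w ∈ Subgroup.zpowers a := by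
        rw [hwdef]; exact Subgroup.pow_mem _ (Subgroup.mem_zpowers a) _
      have h1 : x * a * x⁻¹ ∈ B := hBn.conj_mem a (haB (Subgroup.mem_zpowers a)) x
      have h2 : x * a * x⁻¹ ∈ ((Subgroup.zpowers a ⊔ N : Subgroup S) : Set S) := by
        rw [← hBdef]; exact h1
      rw [Subgroup.mul_normal, Set.mem_mul] at h2
      obtain ⟨a', ha', n', hn', hprod⟩ := h2
      have hn'2 : n' ^ 2 = 1 := by
        rcases hNmem n' hn' with rfl | rfl
        · simp
        · exact hz2
      have hn'c : Commute a' n' := by
        rcases hNmem n' hn' with rfl | rfl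
        · exact Commute.one_right _
        · exact hzc a'
      have h3 : x * w * x⁻¹ = a' ^ (2 ^ (k - 1)) := by
        rw [hwdef, ← conj_pow, ← hprod, hn'c.mul_pow]
        have : n' ^ (2 ^ (k - 1)) = 1 := by
          obtain ⟨d, hd⟩ : ∃ d, k - 1 = d + 1 := ⟨k - 2, by omega⟩
          rw [hd, pow_succ', pow_mul, hn'2, one_pow]
        rw [this, mul_one]
      have h4 : x * w * x⁻¹ ∈ Subgroup.zpowers a := by
        rw [h3]; exact Subgroup.pow_mem _ ha' _
      have h5 : (x * w * x⁻¹) ^ orderOf w = 1 := by
        rw [hwo, conj_pow, hw2]; group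
      have h6 := Cfsg.Agent.Lib.Helper18.UniqueInvolution.mem_zpowers_of_pow_orderOf a _ w
        h4 hwa h5
      have h7 : x * w * x⁻¹ = w := by
        rcases mem_zpowers_invol w _ hw2 h6 with h | h
        · exfalso; apply hw1
          have : w = x⁻¹ * (x * w * x⁻¹) * x := by group
          rw [this, h]; group
        · exact h
      have h8 : w * x = x * w := by
        have : x * w = (x * w * x⁻¹) * x := by group
        rw [this, h7]
      rcases hCset w h8 with h | h | h | h
      · exact hw1 h
      · exact hxB (haB (h ▸ hwa))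
      · exact hza (h ▸ hwa)
      · apply hxB
        have : x = w * z⁻¹ := by rw [h]; group
        rw [this]
        exact Subgroup.mul_mem _ (haB hwa) (Subgroup.inv_mem _ (hNB hzN))
    refine ⟨a, ?_, ?_⟩
    · have : B = Subgroup.zpowers a := by
        rw [hBdef, sup_eq_left, hNdef, Subgroup.zpowers_le]; exact hza
      rw [← this]; exact hBidx
    · intro h; exact hxB (haB h)

/-- A finite 2-group containing an involution whose centralizer has order 4 is dihedral, quasi-dihedral (semidihedral), or of order 4. -/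
theorem result {S : Type*} [Group S] [Finite S] (hS : IsPGroup 2 S)
    (x : S) (hx : orderOf x = 2) (hC : Nat.card ↥(Subgroup.centralizer ({x} : Set S)) = 4) :
    (∃ n : ℕ, Nonempty (S ≃* DihedralGroup n)) ∨ Cfsg.IsQuasiDihedral S ∨ Nat.card S = 4 := by
  have : Fact (Nat.Prime 2) := ⟨Nat.prime_two⟩
  obtain ⟨t, ht⟩ := IsPGroup.iff_card.1 hS
  have hx2 : x ^ 2 = 1 := by rw [← hx]; exact pow_orderOf_eq_one x
  have hx1 : x ≠ 1 := by
    intro h; rw [h, orderOf_one] at hx; omega
  have h4dvd : 4 ∣ 2 ^ t := by
    rw [← ht, ← hC]; exact Subgroup.card_subgroup_dvd_card _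
  have ht2 : 2 ≤ t := by
    by_contra hlt
    have : t < 2 := by omega
    interval_cases t <;> omega
  rcases Nat.lt_or_ge t 3 with ht3 | ht3
  · right; right
    have : t = 2 := by omega
    rw [ht, this]; norm_num
  · have h8 : 8 ≤ Nat.card S := by
      rw [ht]
      calc 8 = 2 ^ 3 := by norm_num
        _ ≤ 2 ^ t := Nat.pow_le_pow_right (by norm_num) ht3
    obtain ⟨a, haidx, hxa⟩ := cyclic_max (Nat.card S) S hS rfl h8 x hx2 hx1 hC.le
    obtain ⟨n, hn⟩ : ∃ n, t = n + 1 := ⟨t - 1, by omega⟩
    subst hn
    have hao : orderOf a = 2 ^ n := by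
      have h1 := Subgroup.card_mul_index (Subgroup.zpowers a)
      rw [Nat.card_zpowers, haidx, ht, pow_succ] at h1
      exact Nat.eq_of_mul_eq_mul_right (by norm_num) h1
    have hn2 : 2 ≤ n := by omega
    have hAn : (Subgroup.zpowers a).Normal := Subgroup.normal_of_index_eq_two haidx
    obtain ⟨z, hzdef⟩ : ∃ z : S, z = a ^ (2 ^ (n - 1)) := ⟨_, rfl⟩
    have hz2 : z ^ 2 = 1 := by
      rw [hzdef, ← pow_mul, ← pow_succ, Nat.sub_add_cancel (by omega), ← hao]
      exact pow_orderOf_eq_one a
    have hz1 : z ≠ 1 := by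
      intro h
      rw [hzdef] at h
      have h1 := orderOf_dvd_of_pow_eq_one h
      rw [hao] at h1
      have h2 := Nat.le_of_dvd (by positivity) h1
      have h3 : 2 ^ (n - 1) < 2 ^ n := Nat.pow_lt_pow_right (by norm_num) (by omega)
      omega
    have hzo : orderOf z = 2 := orderOf_eq_prime hz2 hz1
    have hza : z ∈ Subgroup.zpowers a := by
      rw [hzdef]; exact Subgroup.pow_mem _ (Subgroup.mem_zpowers a) _
    obtain ⟨u, hudef⟩ : ∃ u : S, u = a * (x * a * x⁻¹) := ⟨_, rfl⟩
    have hconj : x * a * x⁻¹ ∈ Subgroup.zpowers a := hAn.conj_mem a (Subgroup.mem_zpowers a) x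
    have hua : u ∈ Subgroup.zpowers a := by
      rw [hudef]; exact Subgroup.mul_mem _ (Subgroup.mem_zpowers a) hconj
    have hcomm : a * (x * a * x⁻¹) = (x * a * x⁻¹) * a := by
      obtain ⟨i, hi⟩ := Subgroup.mem_zpowers_iff.1 hconj
      rw [← hi]
      exact ((Commute.refl a).zpow_right i).eq
    have hxinv : x⁻¹ = x := inv_eq_of_mul_eq_one_left (by rw [← pow_two]; exact hx2)
    have hux : x * u = u * x := by
      have e : x * (a * (x * a * x⁻¹)) = x * a * x⁻¹ * a * x := by
        rw [hxinv]; group
      calc x * u = (x * a * x⁻¹) * a * x := by rw [hudef]; exact e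
        _ = a * (x * a * x⁻¹) * x := by rw [hcomm]
        _ = u * x := by rw [hudef]
    have huC : u ∈ Subgroup.centralizer ({x} : Set S) := by
      rw [Subgroup.mem_centralizer_iff]
      intro y hy
      rw [Set.mem_singleton_iff] at hy
      rw [hy]; exact hux
    have hT := Cfsg.Agent.Lib.Helper17.Syl.relIndex_mul_card_inf (Subgroup.zpowers a)
      (Subgroup.centralizer ({x} : Set S))
    rw [hC] at hT
    have hrel : (Subgroup.zpowers a).relIndex (Subgroup.centralizer ({x} : Set S)) ≠ 1 := by
      intro h
      rw [Subgroup.relIndex_eq_one] at h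
      apply hxa
      apply h
      rw [Subgroup.mem_centralizer_iff]
      intro y hy
      rw [Set.mem_singleton_iff] at hy
      rw [hy]
    have hTcard : Nat.card ↥(Subgroup.zpowers a ⊓ Subgroup.centralizer ({x} : Set S)) ∣ 2 := by
      obtain ⟨r, hr⟩ : ∃ r, r = (Subgroup.zpowers a).relIndex
        (Subgroup.centralizer ({x} : Set S)) := ⟨_, rfl⟩
      obtain ⟨c, hc⟩ : ∃ c, c = Nat.card ↥(Subgroup.zpowers a ⊓
        Subgroup.centralizer ({x} : Set S)) := ⟨_, rfl⟩
      rw [← hr] at hT hrel
      rw [← hc] at hT ⊢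
      have hc4 : c ≤ 4 := Nat.le_of_dvd (by norm_num) (Dvd.intro_left r hT)
      have hr4 : r ≤ 4 := Nat.le_of_dvd (by norm_num) (Dvd.intro c hT)
      have hc12 : c = 1 ∨ c = 2 := by
        have h1 : c ≠ 0 := by rintro rfl; omega
        have h2 : c ≠ 3 := by rintro rfl; omega
        have h3 : c ≠ 4 := by rintro rfl; apply hrel; omega
        omega
      rcases hc12 with h | h <;> rw [h] <;> norm_num
    have hu2 : u ^ 2 = 1 := by
      have h1 := Subgroup.orderOf_dvd_natCard _ (Subgroup.mem_inf.2 ⟨hua, huC⟩)
      exact orderOf_dvd_iff_pow_eq_one.1 (h1.trans hTcard)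
    have hu' := Cfsg.Agent.Lib.Helper18.UniqueInvolution.mem_zpowers_of_pow_orderOf a u z
      hua hza (by rw [hzo]; exact hu2)
    rcases mem_zpowers_invol z u hz2 hu' with hu1 | huz
    · left
      refine ⟨2 ^ n, ?_⟩
      apply Cfsg.Agent.Lib.Helper18.DihedralEquiv.dihedral_equiv (2 ^ n) (by positivity) a x
        hao hx2 ?_ hxa ?_
      · rw [hudef] at hu1
        exact eq_inv_of_mul_eq_one_right hu1
      · rw [ht, pow_succ, mul_comm]
    · right; left
      have hconj' : x * a * x⁻¹ = a ^ (2 ^ (n - 1) - 1) := by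
        rw [hudef, hzdef] at huz
        have hpos : 0 < 2 ^ (n - 1) := by positivity
        obtain ⟨d, hd⟩ : ∃ d, 2 ^ (n - 1) = d + 1 := ⟨2 ^ (n - 1) - 1, by omega⟩
        rw [hd, pow_succ'] at huz
        rw [hd, Nat.add_sub_cancel]
        exact mul_left_cancel huz
      have hn3 : 3 ≤ n := by
        by_contra hlt
        have hn' : n = 2 := by omega
        subst hn'
        have h1 : x * a * x⁻¹ = a := by
          rw [hconj']; norm_num
        have haC : a ∈ Subgroup.centralizer ({x} : Set S) := by
          rw [Subgroup.mem_centralizer_iff]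
          intro y hy
          rw [Set.mem_singleton_iff] at hy
          rw [hy]
          calc x * a = (x * a * x⁻¹) * x := by group
            _ = a * x := by rw [h1]
        have h2 := Subgroup.orderOf_dvd_natCard _
          (Subgroup.mem_inf.2 ⟨Subgroup.mem_zpowers a, haC⟩)
        have h3 := h2.trans hTcard
        rw [hao] at h3
        norm_num at h3
      exact ⟨n, hn3, ht, a, x, hao, hx, hconj'⟩

end Cfsg.Agent.S3224
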