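import Cfsg.Statements.S3247
import Mathlib
import Cfsg.Agent.S0631

set_option autoImplicit false
open Cfsg

namespace Cfsg.Agent.S3247

universe u

variable {p : ℕ} [Fact p.Prime]

/-- `p`-constraint is invariant under isomorphism -/
theorem constrained_of_equiv {A B : Type u} [Group A] [Group B] [Finite A] (e : A ≃* B)
    (hB : IsPConstrained p B) : IsPConstrained p A := by
  haveI : Finite B := Finite.of_surjective e e.surjective
  have hbot := Cfsg.Agent.Lib.Helper9.pPrimeCore_quotient_eq_bot p B
  have hgood := Cfsg.Agent.S0631.good_of_constrained hbot (Cfsg.Agent.S0630.result.mp hB)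
  have hsurj : Function.Surjective ((QuotientGroup.mk' (pPrimeCore p B)).comp e.toMonoidHom) :=
    (QuotientGroup.mk'_surjective _).comp e.surjective
  refine Cfsg.Agent.S0631.lemmaT ((QuotientGroup.mk' (pPrimeCore p B)).comp e.toMonoidHom) hsurj
    ?_ hbot hgood
  have hdvd : Nat.card ((QuotientGroup.mk' (pPrimeCore p B)).comp e.toMonoidHom).ker ∣
      Nat.card (pPrimeCore p B) := by
    let j : ((QuotientGroup.mk' (pPrimeCore p B)).comp e.toMonoidHom).ker →* pPrimeCore p B :=
      (e.toMonoidHom.comp (Subgroup.subtype _)).codRestrict (pPrimeCore p B) (fun c => by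
        have h1 : QuotientGroup.mk' (pPrimeCore p B) (e (c : A)) = 1 := MonoidHom.mem_ker.1 c.2
        exact (QuotientGroup.eq_one_iff _).1 h1)
    exact Subgroup.card_dvd_of_injective j (by
      intro a b hab
      have h2 : e (a : A) = e (b : A) := congrArg Subtype.val hab
      exact Subtype.ext (e.injective h2))
  exact Nat.Coprime.coprime_dvd_left hdvd (Cfsg.Agent.Lib.Helper9.pPrimeCore_coprime p B)

/-- a quotient of a `p`-constrained group by a `p'`-kernel, with trivial `p'`-core, has
`C(O_p) ≤ O_p` -/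
theorem good_of_surj {A B : Type u} [Group A] [Group B] [Finite A] (f : A →* B)
    (hf : Function.Surjective f) (hker : (Nat.card f.ker).Coprime p) (hA : IsPConstrained p A)
    (hBO : pPrimeCore p B = ⊥) :
    Subgroup.centralizer (pCore p B : Set B) ≤ pCore p B := by
  haveI : Finite B := Finite.of_surjective f hf
  have h1 : f.ker ≤ pPrimeCore p A :=
    Cfsg.Agent.Lib.Helper9.le_pPrimeCore (MonoidHom.normal_ker f) hker
  have h2 : pPrimeCore p A ≤ f.ker := by
    have hn : ((pPrimeCore p A).map f).Normal := (Cfsg.pPrimeCore_normal p A).map f hf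
    have hc : (Nat.card ((pPrimeCore p A).map f)).Coprime p :=
      Nat.Coprime.coprime_dvd_left (Subgroup.card_map_dvd _ f)
        (Cfsg.Agent.Lib.Helper9.pPrimeCore_coprime p A)
    have hle := Cfsg.Agent.Lib.Helper9.le_pPrimeCore hn hc
    rw [hBO] at hle
    intro x hx
    rw [MonoidHom.mem_ker]
    have h3 := hle (Subgroup.mem_map_of_mem f hx)
    rwa [Subgroup.mem_bot] at h3
  let φ : A ⧸ pPrimeCore p A →* B := QuotientGroup.lift (pPrimeCore p A) f h2
  have hφ : ∀ x : A, φ (QuotientGroup.mk' (pPrimeCore p A) x) = f x := fun x => rfl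
  have hφinj : Function.Injective φ := by
    rw [injective_iff_map_eq_one]
    intro y hy
    obtain ⟨x, rfl⟩ := QuotientGroup.mk'_surjective _ y
    rw [hφ] at hy
    exact (QuotientGroup.eq_one_iff x).mpr (h1 (MonoidHom.mem_ker.mpr hy))
  have hφsurj : Function.Surjective φ := fun b => by
    obtain ⟨a, rfl⟩ := hf b
    exact ⟨QuotientGroup.mk' _ a, hφ a⟩
  let e : A ⧸ pPrimeCore p A ≃* B := MulEquiv.ofBijective φ ⟨hφinj, hφsurj⟩
  have hB : IsPConstrained p B := constrained_of_equiv e.symm (Cfsg.Agent.S0630.result.mp hA)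
  exact Cfsg.Agent.S0631.good_of_constrained hBO hB

omit [Fact p.Prime] in
theorem lift₀ {M : Type u} [Group M] [Finite M] (C : Subgroup M) [C.Normal]
    (hle : Subgroup.centralizer (pCore p M : Set M) ≤ C)
    (hC : Subgroup.centralizer (pCore p ↥C : Set ↥C) ≤ pCore p ↥C) :
    Subgroup.centralizer (pCore p M : Set M) ≤ pCore p M := by
  intro g hg
  have hgC := hle hg
  have hmem : (⟨g, hgC⟩ : C) ∈ Subgroup.centralizer (pCore p ↥C : Set ↥C) := by
    rw [Subgroup.mem_centralizer_iff]
    intro y hy
    have hy' : (y : M) ∈ pCore p M :=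
      Cfsg.Agent.Lib.Helper9.pCore_subtype_le p C ⟨y, hy, rfl⟩
    exact Subtype.ext (Subgroup.mem_centralizer_iff.1 hg _ hy')
  exact Cfsg.Agent.Lib.Helper9.pCore_subtype_le p C ⟨_, hC hmem, rfl⟩

/-- if the centralizer of a normal `p`-subgroup is `p`-constrained, so is the group -/
theorem lift {N : Type u} [Group N] [Finite N] (X : Subgroup N) [hXn : X.Normal]
    (hX : IsPGroup p X) (hC : IsPConstrained p ↥(Subgroup.centralizer (X : Set N))) :
    IsPConstrained p N := by
  have hOc : (Nat.card (pPrimeCore p N)).Coprime p :=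
    Cfsg.Agent.Lib.Helper9.pPrimeCore_coprime p N
  have hbot : pPrimeCore p (N ⧸ pPrimeCore p N) = ⊥ :=
    Cfsg.Agent.Lib.Helper9.pPrimeCore_quotient_eq_bot p N
  have hXbn : (X.map (QuotientGroup.mk' (pPrimeCore p N))).Normal :=
    hXn.map _ (QuotientGroup.mk'_surjective _)
  have hXbp : IsPGroup p (X.map (QuotientGroup.mk' (pPrimeCore p N))) := hX.map _
  have hXb_le : X.map (QuotientGroup.mk' (pPrimeCore p N)) ≤ pCore p (N ⧸ pPrimeCore p N) :=
    Cfsg.Agent.Lib.Helper9.le_pCore hXbn hXbp
  have hle : Subgroup.centralizer (pCore p (N ⧸ pPrimeCore p N) : Set (N ⧸ pPrimeCore p N)) ≤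
      Subgroup.centralizer ((X.map (QuotientGroup.mk' (pPrimeCore p N)) : Subgroup _) : Set _) :=
    Subgroup.centralizer_le hXb_le
  let f : ↥(Subgroup.centralizer (X : Set N)) →*
      ↥(Subgroup.centralizer ((X.map (QuotientGroup.mk' (pPrimeCore p N)) : Subgroup _) :
        Set (N ⧸ pPrimeCore p N))) :=
    ((QuotientGroup.mk' (pPrimeCore p N)).comp
      (Subgroup.centralizer (X : Set N)).subtype).codRestrict _
      (fun c => Cfsg.Agent.Lib.Helper4.PPrimeQuot.cent_map _ X c.2)
  have hf : Function.Surjective f := by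
    rintro ⟨cb, hcb⟩
    obtain ⟨g, rfl⟩ := QuotientGroup.mk'_surjective (pPrimeCore p N) cb
    obtain ⟨u, hu, hug⟩ := Cfsg.Agent.Lib.Helper4.PPrimeQuot.cent_lift hOc hX g hcb
    refine ⟨⟨u * g, hug⟩, Subtype.ext ?_⟩
    show QuotientGroup.mk' (pPrimeCore p N) (u * g) = QuotientGroup.mk' (pPrimeCore p N) g
    have hu1 : QuotientGroup.mk' (pPrimeCore p N) u = 1 := (QuotientGroup.eq_one_iff u).mpr hu
    rw [map_mul, hu1, one_mul]
  have hker : (Nat.card f.ker).Coprime p := by
    have hdvd : Nat.card f.ker ∣ Nat.card (pPrimeCore p N) := by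
      let j : f.ker →* pPrimeCore p N :=
        ((Subgroup.centralizer (X : Set N)).subtype.comp f.ker.subtype).codRestrict
          (pPrimeCore p N) (fun c => by
            have h1 : QuotientGroup.mk' (pPrimeCore p N) ((c : ↥(Subgroup.centralizer (X : Set N))) : N) = 1 :=
              congrArg Subtype.val (MonoidHom.mem_ker.1 c.2)
            exact (QuotientGroup.eq_one_iff _).1 h1)
      exact Subgroup.card_dvd_of_injective j (by
        intro a b hab
        have h2 : ((j a : pPrimeCore p N) : N) = ((j b : pPrimeCore p N) : N) :=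
          congrArg Subtype.val hab
        exact Subtype.ext (Subtype.ext h2))
    exact Nat.Coprime.coprime_dvd_left hdvd hOc
  have hCbO : pPrimeCore p ↥(Subgroup.centralizer
      ((X.map (QuotientGroup.mk' (pPrimeCore p N)) : Subgroup _) : Set (N ⧸ pPrimeCore p N))) = ⊥ := by
    have h1 := Cfsg.Agent.Lib.Helper9.pPrimeCore_subtype_le p (Subgroup.centralizer
      ((X.map (QuotientGroup.mk' (pPrimeCore p N)) : Subgroup _) : Set (N ⧸ pPrimeCore p N)))
    rw [hbot] at h1
    exact (Subgroup.map_eq_bot_iff_of_injective _ (Subgroup.subtype_injective _)).1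
      (le_bot_iff.1 h1)
  have hCb_good := good_of_surj f hf hker hC hCbO
  have hgood := lift₀ _ hle hCb_good
  exact Cfsg.Agent.S0631.lemmaT (QuotientGroup.mk' (pPrimeCore p N))
    (QuotientGroup.mk'_surjective _) (by rw [QuotientGroup.ker_mk']; exact hOc) hbot hgood

theorem cent_subgroupOf {G : Type u} [Group G] (H T : Subgroup G) (hT : T ≤ H) :
    Subgroup.centralizer ((T.subgroupOf H : Subgroup H) : Set H) =
      (Subgroup.centralizer (T : Set G)).subgroupOf H := by
  ext ⟨g, hg⟩
  rw [Subgroup.mem_centralizer_iff, Subgroup.mem_subgroupOf, Subgroup.mem_centralizer_iff]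
  constructor
  · intro h t ht
    have := h ⟨t, hT ht⟩ (Subgroup.mem_subgroupOf.2 ht)
    exact congrArg Subtype.val this
  · intro h t ht
    exact Subtype.ext (h t.1 (Subgroup.mem_subgroupOf.1 ht))

/-- Let G be a finite group and p a prime; here a p-local subgroup means the normalizer of a nontrivial p-subgroup, other than G itself. If every p-local subgroup of G that is maximal among p-local subgroups is p-constrained, or if the centralizer of every element of order p of G is p-constrained, then every p-local subgroup of G is p-constrained. -/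
theorem result {G : Type*} [Group G] [Finite G] (p : ℕ) [hp : Fact p.Prime]
    (h : (∀ M : Subgroup G, (∃ T : Subgroup G, IsPGroup p ↥T ∧ T ≠ ⊥ ∧ M = Subgroup.normalizer (T : Set G)) → M ≠ ⊤ →
        (∀ M' : Subgroup G, (∃ T' : Subgroup G, IsPGroup p ↥T' ∧ T' ≠ ⊥ ∧ M' = Subgroup.normalizer (T' : Set G)) → M' ≠ ⊤ → M ≤ M' → M = M') →
        Cfsg.IsPConstrained p ↥M) ∨
      (∀ x : G, orderOf x = p → Cfsg.IsPConstrained p ↥(Subgroup.centralizer ({x} : Set G))))
    (T : Subgroup G) (hT : IsPGroup p ↥T) (hT1 : T ≠ ⊥) (hTG : Subgroup.normalizer (T : Set G) ≠ ⊤) :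
    Cfsg.IsPConstrained p ↥(Subgroup.normalizer (T : Set G)) := by
  rcases h with h | h
  · -- maximal p-locals
    obtain ⟨M, hNM, hMmax⟩ := Finite.exists_le_maximal
      (p := fun M : Subgroup G => (∃ T : Subgroup G, IsPGroup p ↥T ∧ T ≠ ⊥ ∧
        M = Subgroup.normalizer (T : Set G)) ∧ M ≠ ⊤)
      (a := Subgroup.normalizer (T : Set G)) ⟨⟨T, hT, hT1, rfl⟩, hTG⟩
    have hM : IsPConstrained p ↥M := h M hMmax.1.1 hMmax.1.2 (fun M' hM' hM'top hle =>
      le_antisymm hle (hMmax.2 ⟨hM', hM'top⟩ hle))
    have hTM : T ≤ M := Subgroup.le_normalizer.trans hNM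
    have h1 := (Cfsg.Agent.S0631.result hM (T.subgroupOf M) hT.comap_subtype).1
    rw [← Subgroup.subgroupOf_normalizer_eq hTM] at h1
    exact constrained_of_equiv (Subgroup.subgroupOfEquivOfLe hNM).symm h1
  · -- centralizers of elements of order p
    haveI : Nontrivial T := (Subgroup.nontrivial_iff_ne_bot T).2 hT1
    haveI : Nontrivial (Subgroup.center T) := hT.center_nontrivial
    have hZp : IsPGroup p (Subgroup.center T) := hT.to_subgroup _
    have hdvd : p ∣ Nat.card (Subgroup.center T) := by
      rcases hZp.card_eq_or_dvd with h1 | h1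
      · exact absurd h1 (Nat.ne_of_gt Finite.one_lt_card)
      · exact h1
    obtain ⟨z, hz⟩ := exists_prime_orderOf_dvd_card' p hdvd
    have hxord : orderOf (((z : T) : G)) = p := by
      rw [Subgroup.orderOf_coe, Subgroup.orderOf_coe]; exact hz
    have hxT : ((z : T) : G) ∈ T := (z : T).2
    have hxc : ∀ t ∈ T, t * ((z : T) : G) = ((z : T) : G) * t := by
      intro t ht
      have := Subgroup.mem_center_iff.1 z.2 ⟨t, ht⟩
      exact congrArg Subtype.val this
    have hA := h _ hxord
    have hTA : T ≤ Subgroup.centralizer ({((z : T) : G)} : Set G) := by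
      intro t ht
      rw [Subgroup.mem_centralizer_iff]
      intro y hy
      rw [Set.mem_singleton_iff] at hy
      rw [hy]; exact (hxc t ht).symm
    have hCA : Subgroup.centralizer (T : Set G) ≤ Subgroup.centralizer ({((z : T) : G)} : Set G) :=
      Subgroup.centralizer_le (Set.singleton_subset_iff.2 hxT)
    have h1 := (Cfsg.Agent.S0631.result hA (T.subgroupOf _) hT.comap_subtype).2
    rw [cent_subgroupOf _ T hTA] at h1
    have h2 : IsPConstrained p ↥(Subgroup.centralizer (T : Set G)) :=
      constrained_of_equiv (Subgroup.subgroupOfEquivOfLe hCA).symm h1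
    have hCN : Subgroup.centralizer (T : Set G) ≤ Subgroup.normalizer (T : Set G) :=
      Subgroup.centralizer_le_normalizer _
    have h3 : IsPConstrained p ↥((Subgroup.centralizer (T : Set G)).subgroupOf
        (Subgroup.normalizer (T : Set G))) :=
      constrained_of_equiv (Subgroup.subgroupOfEquivOfLe hCN) h2
    rw [← cent_subgroupOf _ T Subgroup.le_normalizer] at h3
    exact lift (T.subgroupOf (Subgroup.normalizer (T : Set G))) hT.comap_subtype h3

end Cfsg.Agent.S3247
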