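import Cfsg.Statements.S3246
import Mathlib
import Cfsg.Agent.S3247
import Cfsg.Agent.S0661
import Cfsg.Agent.S1337
import Cfsg.Agent.Lib.Helper18.UniqueInvolution
import Cfsg.Agent.Lib.Helper19.RelIndex
import Cfsg.Agent.Lib.Lead.Cores

set_option autoImplicit false
open Cfsg

namespace Cfsg.Agent.S3246

universe u

/-- `2`-constrained with trivial odd core -/
def Good2 {G : Type u} [Group G] (K : Subgroup G) : Prop :=
  IsPConstrained 2 ↥K ∧ oddCore ↥K = ⊥

theorem good2_congr {G : Type u} [Group G] {K K' : Subgroup G} (h : K = K') (hK : Good2 K) :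
    Good2 K' := by
  subst h; exact hK

theorem con_congr {G : Type u} [Group G] {K K' : Subgroup G} (h : K = K')
    (hK : IsPConstrained 2 ↥K) : IsPConstrained 2 ↥K' := by
  subst h; exact hK

theorem core_of_equiv {A B : Type u} [Group A] [Group B] (e : A ≃* B)
    (hB : pPrimeCore 2 B = ⊥) : pPrimeCore 2 A = ⊥ := by
  have h := Cfsg.Agent.Lib.Helper9.pPrimeCore_map_equiv 2 e
  rw [hB] at h
  exact (Subgroup.map_eq_bot_iff_of_injective _ e.injective).1 h

theorem normalizer_zpowers {G : Type u} [Group G] (t : G) (ht : orderOf t = 2) :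
    Subgroup.normalizer (Subgroup.zpowers t : Set G) = Subgroup.centralizer ({t} : Set G) := by
  have ht2 : t ^ 2 = 1 := by rw [← ht]; exact pow_orderOf_eq_one t
  have ht1 : t ≠ 1 := by
    intro h; rw [h, orderOf_one] at ht; omega
  ext g
  constructor
  · intro hg
    rw [Subgroup.mem_centralizer_iff]
    intro y hy
    rw [Set.mem_singleton_iff] at hy
    subst hy
    have h1 : g * y * g⁻¹ ∈ Subgroup.zpowers y :=
      (Subgroup.mem_normalizer_iff.1 hg y).1 (Subgroup.mem_zpowers y)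
    obtain ⟨k, hk⟩ := Subgroup.mem_zpowers_iff.1 h1
    have h2 : y ^ k = 1 ∨ y ^ k = y := by
      rcases Int.emod_two_eq_zero_or_one k with h | h
      · left
        have : k = 2 * (k / 2) := by omega
        rw [this, zpow_mul, zpow_ofNat, ht2, one_zpow]
      · right
        have : k = 2 * (k / 2) + 1 := by omega
        rw [this, zpow_add, zpow_mul, zpow_ofNat, ht2, one_zpow, one_mul, zpow_one]
    rcases h2 with h2 | h2
    · exfalso
      rw [h2] at hk
      apply ht1
      have : y = g⁻¹ * (g * y * g⁻¹) * g := by group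
      rw [this, ← hk]; group
    · rw [h2] at hk
      calc y * g = (g * y * g⁻¹) * g := by rw [← hk]
        _ = g * y := by group
  · intro hg
    have hc : g * t = t * g := by
      have := Subgroup.mem_centralizer_iff.1 hg t (Set.mem_singleton t)
      exact this.symm
    have hck : ∀ k : ℤ, g * t ^ k * g⁻¹ = t ^ k := by
      intro k
      have : Commute g (t ^ k) := (show Commute g t from hc).zpow_right k
      rw [this.eq, mul_inv_cancel_right]
    rw [Subgroup.mem_normalizer_iff]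
    intro h
    constructor
    · rintro ⟨k, rfl⟩
      rw [hck]; exact ⟨k, rfl⟩
    · rintro ⟨k, hk⟩
      have hk' : g * h * g⁻¹ = t ^ k := hk.symm
      have : h = g⁻¹ * (g * h * g⁻¹) * g := by group
      rw [this, hk']
      have h3 := hck k
      have : g⁻¹ * t ^ k * g = t ^ k := by
        calc g⁻¹ * t ^ k * g = g⁻¹ * (g * t ^ k * g⁻¹) * g := by rw [h3]
          _ = t ^ k := by group
      rw [this]; exact ⟨k, rfl⟩

/-- the first alternative implies the second -/
theorem alt {G : Type u} [Group G] [Finite G]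
    (h1 : ∀ M : Subgroup G, Cfsg.IsMaximalTwoLocal M → Cfsg.IsPConstrained 2 ↥M ∧ Cfsg.oddCore ↥M = ⊥)
    (t : G) (ht : orderOf t = 2) : Good2 (Subgroup.centralizer ({t} : Set G)) := by
  haveI : Fact (Nat.Prime 2) := ⟨Nat.prime_two⟩
  have hT2 : IsPGroup 2 (Subgroup.zpowers t) :=
    IsPGroup.of_card (n := 1) (by rw [Nat.card_zpowers, ht, pow_one])
  have hT1 : Subgroup.zpowers t ≠ ⊥ := by
    intro h
    have := Subgroup.zpowers_eq_bot.1 h
    rw [this, orderOf_one] at ht; omega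
  obtain ⟨M, hNM, hMmax⟩ := Finite.exists_le_maximal (p := fun M : Subgroup G => Cfsg.IsTwoLocal M)
    (a := Subgroup.normalizer (Subgroup.zpowers t : Set G)) ⟨_, hT2, hT1, rfl⟩
  obtain ⟨hM, hMO⟩ := h1 M ⟨hMmax.1, fun N hN hle => le_antisymm (hMmax.2 hN hle) hle⟩
  have hTM : Subgroup.zpowers t ≤ M := Subgroup.le_normalizer.trans hNM
  have hc1 := (Cfsg.Agent.S0631.result hM ((Subgroup.zpowers t).subgroupOf M) hT2.comap_subtype).1
  have hgoodM := Cfsg.Agent.S0631.good_of_constrained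
    (Cfsg.Agent.Lib.Helper9.pPrimeCore_quotient_eq_bot 2 ↥M) (Cfsg.Agent.S0630.result.mp hM)
  have ho1 := Cfsg.Agent.S0661.result hgoodM ((Subgroup.zpowers t).subgroupOf M) hT2.comap_subtype
  have hMO' : pPrimeCore 2 ↥M = ⊥ := hMO
  rw [hMO', bot_inf_eq] at ho1
  have ho2 : pPrimeCore 2 ↥(Subgroup.normalizer
      (((Subgroup.zpowers t).subgroupOf M : Subgroup ↥M) : Set ↥M)) = ⊥ :=
    (Subgroup.map_eq_bot_iff_of_injective _ (Subgroup.subtype_injective _)).1 ho1
  have hg1 : Good2 (Subgroup.normalizer (((Subgroup.zpowers t).subgroupOf M : Subgroup ↥M) : Set ↥M)) :=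
    ⟨hc1, ho2⟩
  have hg2 : Good2 ((Subgroup.normalizer (Subgroup.zpowers t : Set G)).subgroupOf M) :=
    good2_congr (Subgroup.subgroupOf_normalizer_eq hTM).symm hg1
  have hg3 : Good2 (Subgroup.normalizer (Subgroup.zpowers t : Set G)) :=
    ⟨Cfsg.Agent.S3247.constrained_of_equiv (Subgroup.subgroupOfEquivOfLe hNM).symm hg2.1,
      core_of_equiv (Subgroup.subgroupOfEquivOfLe hNM).symm hg2.2⟩
  exact good2_congr (normalizer_zpowers t ht) hg3

/-- every `2`-local is `2`-constrained when involution centralizers are -/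
theorem locals {G : Type u} [Group G] [Finite G]
    (h : ∀ x : G, orderOf x = 2 → Cfsg.IsPConstrained 2 ↥(Subgroup.centralizer ({x} : Set G)))
    (T : Subgroup G) (hT : IsPGroup 2 ↥T) (hT1 : T ≠ ⊥) :
    Cfsg.IsPConstrained 2 ↥(Subgroup.normalizer (T : Set G)) := by
  haveI : Fact (Nat.Prime 2) := ⟨Nat.prime_two⟩
  haveI : Nontrivial T := (Subgroup.nontrivial_iff_ne_bot T).2 hT1
  haveI : Nontrivial (Subgroup.center T) := hT.center_nontrivial
  have hZp : IsPGroup 2 (Subgroup.center T) := hT.to_subgroup _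
  have hdvd : 2 ∣ Nat.card (Subgroup.center T) := by
    rcases hZp.card_eq_or_dvd with h1 | h1
    · exact absurd h1 (Nat.ne_of_gt Finite.one_lt_card)
    · exact h1
  obtain ⟨z, hz⟩ := exists_prime_orderOf_dvd_card' 2 hdvd
  have hxord : orderOf (((z : T) : G)) = 2 := by
    rw [Subgroup.orderOf_coe, Subgroup.orderOf_coe]; exact hz
  have hxT : ((z : T) : G) ∈ T := (z : T).2
  have hxc : ∀ t ∈ T, t * ((z : T) : G) = ((z : T) : G) * t := by
    intro t ht
    have := Subgroup.mem_center_iff.1 z.2 ⟨t, ht⟩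
    exact congrArg Subtype.val this
  have hA := h _ hxord
  have hTA : T ≤ Subgroup.centralizer ({((z : T) : G)} : Set G) := by
    intro t ht
    rw [Subgroup.mem_centralizer_iff]
    intro y hy
    rw [Set.mem_singleton_iff] at hy
    rw [hy]; exact (hxc t ht).symm
  have hCA : Subgroup.centralizer (T : Set G) ≤ Subgroup.centralizer ({((z : T) : G)} : Set G) :=
    Subgroup.centralizer_le (Set.singleton_subset_iff.2 hxT)
  have h1 := (Cfsg.Agent.S0631.result hA (T.subgroupOf _) hT.comap_subtype).2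
  rw [Cfsg.Agent.S3247.cent_subgroupOf _ T hTA] at h1
  have h2 : IsPConstrained 2 ↥(Subgroup.centralizer (T : Set G)) :=
    Cfsg.Agent.S3247.constrained_of_equiv (Subgroup.subgroupOfEquivOfLe hCA).symm h1
  have hCN : Subgroup.centralizer (T : Set G) ≤ Subgroup.normalizer (T : Set G) :=
    Subgroup.centralizer_le_normalizer _
  have h3 : IsPConstrained 2 ↥((Subgroup.centralizer (T : Set G)).subgroupOf
      (Subgroup.normalizer (T : Set G))) :=
    Cfsg.Agent.S3247.constrained_of_equiv (Subgroup.subgroupOfEquivOfLe hCN) h2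
  rw [← Cfsg.Agent.S3247.cent_subgroupOf _ T Subgroup.le_normalizer] at h3
  exact Cfsg.Agent.S3247.lift (T.subgroupOf (Subgroup.normalizer (T : Set G))) hT.comap_subtype h3

theorem fix_trivial {G : Type u} [Group G] [Finite G] (S : Sylow 2 G) (X : Subgroup G)
    (hXodd : Odd (Nat.card X)) (hSX : (S : Subgroup G) ≤ Subgroup.normalizer (X : Set G))
    (b : G) (hgood : Good2 (Subgroup.centralizer ({b} : Set G)))
    (hidx : Nat.card (S : Subgroup G) ≤
      2 * Nat.card ↥((S : Subgroup G) ⊓ Subgroup.centralizer ({b} : Set G))) :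
    X ⊓ Subgroup.centralizer ({b} : Set G) = ⊥ := by
  haveI : Fact (Nat.Prime 2) := ⟨Nat.prime_two⟩
  obtain ⟨hcon, hO⟩ := hgood
  obtain ⟨H, hH⟩ : ∃ H : Subgroup G, H = Subgroup.centralizer ({b} : Set G) := ⟨_, rfl⟩
  rw [← hH] at hcon hO hidx ⊢
  have hgoodH : Subgroup.centralizer (pCore 2 ↥H : Set ↥H) ≤ pCore 2 ↥H :=
    Cfsg.Agent.S0631.good_of_constrained hO hcon
  obtain ⟨Q, hQ⟩ : ∃ Q : Subgroup G, Q = (pCore 2 ↥H).map H.subtype := ⟨_, rfl⟩
  have hQp : IsPGroup 2 Q := by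
    rw [hQ]; exact (Cfsg.Agent.Lib.Helper9.pCore_isPGroup 2 ↥H).map _
  have hQn : ∀ g ∈ H, ∀ m ∈ Q, g * m * g⁻¹ ∈ Q := by
    intro g hg m hm
    rw [hQ] at hm ⊢
    exact Cfsg.Agent.S0631.conj_mem_map_subtype _ hg hm
  have hXc : (Nat.card X).Coprime 2 := Nat.Coprime.symm (Nat.coprime_two_left.2 hXodd)
  have hCQ : ∀ g ∈ H, (∀ q ∈ Q, q * g = g * q) → g ∈ Q := by
    intro g hg hcomm
    have hmem : (⟨g, hg⟩ : H) ∈ Subgroup.centralizer (pCore 2 ↥H : Set ↥H) := by
      rw [Subgroup.mem_centralizer_iff]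
      intro y hy
      exact Subtype.ext (hcomm y.1 (by rw [hQ]; exact ⟨y, hy, rfl⟩))
    rw [hQ]
    exact ⟨⟨g, hg⟩, hgoodH hmem, rfl⟩
  have ha : ∀ y ∈ X ⊓ H, ∀ q ∈ Q ⊓ (S : Subgroup G), q * y = y * q := by
    intro y hy q hq
    have hyX := (Subgroup.mem_inf.1 hy).1
    have hyH := (Subgroup.mem_inf.1 hy).2
    have hqQ := (Subgroup.mem_inf.1 hq).1
    have hqS := (Subgroup.mem_inf.1 hq).2
    have h1 : q * y * q⁻¹ * y⁻¹ ∈ X :=
      mul_mem ((Subgroup.mem_normalizer_iff.1 (hSX hqS) y).1 hyX) (inv_mem hyX)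
    have h2 : q * y * q⁻¹ * y⁻¹ ∈ Q := by
      have e : q * y * q⁻¹ * y⁻¹ = q * (y * q⁻¹ * y⁻¹) := by group
      rw [e]; exact mul_mem hqQ (hQn y hyH _ (inv_mem hqQ))
    have h3 := Cfsg.Agent.Lib.Helper4.PPrimeQuot.eq_one_of_mem hXc hQp h2 h1
    calc q * y = (q * y * q⁻¹ * y⁻¹) * (y * q) := by group
      _ = y * q := by rw [h3, one_mul]
  have hb : (((S : Subgroup G) ⊓ H) ⊓ Q).relIndex Q ≤ 2 := by
    have hS₁n : (S : Subgroup G) ⊓ H ≤ Subgroup.normalizer (Q : Set G) := by
      intro g hg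
      exact Subgroup.mem_normalizer_fintype (fun n hn => hQn g (Subgroup.mem_inf.1 hg).2 n hn)
    have hS₁p : IsPGroup 2 ((S : Subgroup G) ⊓ H : Subgroup G) := S.isPGroup'.to_le inf_le_left
    have hD : IsPGroup 2 (Q ⊔ ((S : Subgroup G) ⊓ H) : Subgroup G) :=
      IsPGroup.to_sup_of_normal_left' hQp hS₁p hS₁n
    obtain ⟨S', hS'⟩ := hD.exists_le_sylow
    have hcard : Nat.card (Q ⊔ ((S : Subgroup G) ⊓ H) : Subgroup G) ≤ Nat.card (S : Subgroup G) := by
      have h1 := Subgroup.card_le_of_le hS'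
      have h2 : Nat.card (S' : Subgroup G) = Nat.card (S : Subgroup G) := by
        rw [Sylow.card_eq_multiplicity, Sylow.card_eq_multiplicity]
      rwa [h2] at h1
    have h1 := Cfsg.Agent.Lib.Helper19.relIndex_sup_of_le_normalizer Q ((S : Subgroup G) ⊓ H) hS₁n
    have h2 := Cfsg.Agent.Lib.Lead.Cores.card_mul_relIndex_of_le
      (le_sup_right : (S : Subgroup G) ⊓ H ≤ Q ⊔ ((S : Subgroup G) ⊓ H))
    rw [Subgroup.inf_relIndex_right, ← h1]
    have hpos : 0 < Nat.card ((S : Subgroup G) ⊓ H : Subgroup G) := Nat.card_pos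
    by_contra hgt
    push Not at hgt
    nlinarith
  rw [eq_bot_iff]
  intro y hy
  rw [Subgroup.mem_bot]
  have hyX := (Subgroup.mem_inf.1 hy).1
  have hyH := (Subgroup.mem_inf.1 hy).2
  have hyodd : Odd (orderOf y) := Odd.of_dvd_nat hXodd (Subgroup.orderOf_dvd_natCard X hyX)
  have hyQ : y ∈ Q := by
    apply hCQ y hyH
    intro q hq
    by_cases hqS : q ∈ (S : Subgroup G)
    · exact ha y hy q (Subgroup.mem_inf.2 ⟨hq, hqS⟩)
    · -- index two argument
      have hq' : y * q * y⁻¹ ∈ Q := hQn y hyH q hq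
      have hq'S : y * q * y⁻¹ ∉ (S : Subgroup G) := by
        intro h
        have hc := ha y hy _ (Subgroup.mem_inf.2 ⟨hq', h⟩)
        apply hqS
        have e : q = y⁻¹ * ((y * q * y⁻¹) * y) := by group
        rw [e, hc]
        have e2 : y⁻¹ * (y * (y * q * y⁻¹)) = y * q * y⁻¹ := by group
        rw [e2]; exact h
      have hidx2 : ((((S : Subgroup G) ⊓ H) ⊓ Q).subgroupOf Q).index = 2 := by
        have h1 : ((((S : Subgroup G) ⊓ H) ⊓ Q).subgroupOf Q).index ≤ 2 := hb
        have h2 : ((((S : Subgroup G) ⊓ H) ⊓ Q).subgroupOf Q).index ≠ 1 := by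
          intro h
          rw [Subgroup.index_eq_one] at h
          have : (⟨q, hq⟩ : Q) ∈ (((S : Subgroup G) ⊓ H) ⊓ Q).subgroupOf Q := by
            rw [h]; exact Subgroup.mem_top _
          rw [Subgroup.mem_subgroupOf] at this
          exact hqS (Subgroup.mem_inf.1 (Subgroup.mem_inf.1 this).1).1
        have h3 : ((((S : Subgroup G) ⊓ H) ⊓ Q).subgroupOf Q).index ≠ 0 :=
          Subgroup.index_ne_zero_of_finite
        omega
      have hmem := (Subgroup.mul_mem_iff_of_index_two hidx2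
        (a := (⟨q, hq⟩ : Q)⁻¹) (b := (⟨y * q * y⁻¹, hq'⟩ : Q))).2 (by
          constructor
          · intro h
            exfalso
            rw [inv_mem_iff, Subgroup.mem_subgroupOf] at h
            exact hqS (Subgroup.mem_inf.1 (Subgroup.mem_inf.1 h).1).1
          · intro h
            exfalso
            rw [Subgroup.mem_subgroupOf] at h
            exact hq'S (Subgroup.mem_inf.1 (Subgroup.mem_inf.1 h).1).1)
      rw [Subgroup.mem_subgroupOf] at hmem
      have hq₁ : q⁻¹ * (y * q * y⁻¹) ∈ Q ⊓ (S : Subgroup G) :=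
        Subgroup.mem_inf.2 ⟨(Subgroup.mem_inf.1 hmem).2,
          (Subgroup.mem_inf.1 (Subgroup.mem_inf.1 hmem).1).1⟩
      have hc₁ := ha y hy _ hq₁
      have hpow : ∀ k : ℕ, y ^ k * q * (y ^ k)⁻¹ = q * (q⁻¹ * (y * q * y⁻¹)) ^ k := by
        intro k
        induction k with
        | zero => simp
        | succ k ih =>
          have hck : y * (q⁻¹ * (y * q * y⁻¹)) ^ k * y⁻¹ = (q⁻¹ * (y * q * y⁻¹)) ^ k := by
            have : Commute y ((q⁻¹ * (y * q * y⁻¹)) ^ k) :=
              (show Commute y (q⁻¹ * (y * q * y⁻¹)) from hc₁.symm).pow_right k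
            rw [this.eq, mul_inv_cancel_right]
          calc y ^ (k+1) * q * (y ^ (k+1))⁻¹ = y * (y ^ k * q * (y ^ k)⁻¹) * y⁻¹ := by
                rw [pow_succ']; group
            _ = y * (q * (q⁻¹ * (y * q * y⁻¹)) ^ k) * y⁻¹ := by rw [ih]
            _ = (y * q * y⁻¹) * (y * (q⁻¹ * (y * q * y⁻¹)) ^ k * y⁻¹) := by group
            _ = (y * q * y⁻¹) * (q⁻¹ * (y * q * y⁻¹)) ^ k := by rw [hck]
            _ = q * ((q⁻¹ * (y * q * y⁻¹)) * (q⁻¹ * (y * q * y⁻¹)) ^ k) := by
                rw [← mul_assoc q, mul_inv_cancel_left]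
            _ = q * (q⁻¹ * (y * q * y⁻¹)) ^ (k+1) := by rw [← pow_succ']
      have h1 := hpow (orderOf y)
      rw [pow_orderOf_eq_one, one_mul, inv_one, mul_one] at h1
      have h2 : (q⁻¹ * (y * q * y⁻¹)) ^ orderOf y = 1 := by
        have := mul_left_cancel (a := q) (b := (q⁻¹ * (y * q * y⁻¹)) ^ orderOf y) (c := 1)
          (by rw [mul_one]; exact h1.symm)
        exact this
      obtain ⟨j, hj⟩ := hQp ⟨_, hq₁.1⟩
      have hj' : (q⁻¹ * (y * q * y⁻¹)) ^ 2 ^ j = 1 := congrArg Subtype.val hj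
      have hd1 : orderOf (q⁻¹ * (y * q * y⁻¹)) ∣ orderOf y := orderOf_dvd_of_pow_eq_one h2
      have hd2 : orderOf (q⁻¹ * (y * q * y⁻¹)) ∣ 2 ^ j := orderOf_dvd_of_pow_eq_one hj'
      have hco : Nat.Coprime (orderOf y) (2 ^ j) :=
        Nat.Coprime.pow_right j (Nat.Coprime.symm (Nat.coprime_two_left.2 hyodd))
      have h3 : orderOf (q⁻¹ * (y * q * y⁻¹)) = 1 := Nat.eq_one_of_dvd_coprimes hco hd1 hd2
      have h4 : q⁻¹ * (y * q * y⁻¹) = 1 := orderOf_eq_one_iff.1 h3
      have h5 : y * q * y⁻¹ = q := by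
        have := inv_mul_eq_one.1 h4
        exact this.symm
      calc q * y = (y * q * y⁻¹) * y := by rw [h5]
        _ = y * q := by group
  exact Cfsg.Agent.Lib.Helper4.PPrimeQuot.eq_one_of_mem hXc hQp hyQ hyX

theorem exists_four {G : Type u} [Group G] [Finite G] (S : Sylow 2 G) (A : Subgroup G)
    (hAS : A ≤ (S : Subgroup G)) (hA3 : ¬ PRankLE 2 2 ↥A) :
    ∃ z e : G, z ∈ (S : Subgroup G) ∧ e ∈ (S : Subgroup G) ∧ z ≠ 1 ∧ e ≠ 1 ∧ e ≠ z ∧
      z * z = 1 ∧ e * e = 1 ∧ (∀ s ∈ (S : Subgroup G), s * z = z * s) ∧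
      (∀ s ∈ (S : Subgroup G), s * e * s⁻¹ = e ∨ s * e * s⁻¹ = e * z) := by
  classical
  haveI : Fact (Nat.Prime 2) := ⟨Nat.prime_two⟩
  have hS3 : ¬ PRankLE 2 2 ↥(S : Subgroup G) := by
    intro h
    apply hA3
    intro B hBc hBe
    have hinj : Function.Injective (Subgroup.inclusion hAS) := Subgroup.inclusion_injective hAS
    have h1 := h (B.map (Subgroup.inclusion hAS))
      ⟨⟨by
        rintro ⟨_, ⟨a, ha, rfl⟩⟩ ⟨_, ⟨c, hc, rfl⟩⟩
        apply Subtype.ext
        show Subgroup.inclusion hAS a * Subgroup.inclusion hAS c =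
          Subgroup.inclusion hAS c * Subgroup.inclusion hAS a
        rw [← map_mul, ← map_mul]
        have := hBc.is_comm.comm ⟨a, ha⟩ ⟨c, hc⟩
        have h2 : a * c = c * a := congrArg Subtype.val this
        rw [h2]⟩⟩
      (by
        rintro _ ⟨a, ha, rfl⟩
        rw [← map_pow, hBe a ha, map_one])
    rwa [Subgroup.card_map_of_injective hinj] at h1
  obtain ⟨U, hUn, ⟨hUc, hUe⟩, hUcard⟩ := Cfsg.Agent.S1337.exists_normal_four S.isPGroup' hS3
  have hU : U ≠ ⊥ := by
    intro h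
    rw [h, Subgroup.card_bot] at hUcard
    omega
  obtain ⟨z₀, hz₀U, hz₀1, hz₀c⟩ :=
    Cfsg.Agent.Lib.Helper18.UniqueInvolution.exists_central_mem_of_normal S.isPGroup' U hUn hU
  have hz₀2 : z₀ ^ 2 = 1 := hUe z₀ hz₀U
  have hz₀z₀ : z₀ * z₀ = 1 := by rw [← sq]; exact hz₀2
  obtain ⟨e₀, he₀U, he₀1, he₀z⟩ : ∃ e₀ ∈ U, e₀ ≠ 1 ∧ e₀ ≠ z₀ := by
    by_contra hcon
    push Not at hcon
    have hle : U ≤ Subgroup.zpowers z₀ := by
      intro u hu
      by_cases hu1 : u = 1
      · rw [hu1]; exact one_mem _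
      · rw [hcon u hu hu1]; exact Subgroup.mem_zpowers _
    have h1 := Subgroup.card_le_of_le hle
    rw [Nat.card_zpowers, orderOf_eq_prime hz₀2 hz₀1, hUcard] at h1
    omega
  have he₀2 : e₀ ^ 2 = 1 := hUe e₀ he₀U
  have he₀e₀ : e₀ * e₀ = 1 := by rw [← sq]; exact he₀2
  have hez1 : e₀ * z₀ ≠ 1 := by
    intro h
    apply he₀z
    rw [eq_inv_of_mul_eq_one_left h, inv_eq_of_mul_eq_one_right hz₀z₀]
  have hezz : e₀ * z₀ ≠ z₀ := by
    intro h
    apply he₀1
    exact mul_eq_right.1 h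
  have heze : e₀ * z₀ ≠ e₀ := by
    intro h
    apply hz₀1
    exact mul_eq_left.1 h
  have hconj : ∀ s : ↥(S : Subgroup G), s * e₀ * s⁻¹ = e₀ ∨ s * e₀ * s⁻¹ = e₀ * z₀ := by
    intro s
    by_contra hcon
    push Not at hcon
    obtain ⟨hn1, hn2⟩ := hcon
    have huU : s * e₀ * s⁻¹ ∈ U := hUn.conj_mem e₀ he₀U s
    have hu1 : s * e₀ * s⁻¹ ≠ 1 := by
      intro h
      apply he₀1
      have e : e₀ = s⁻¹ * (s * e₀ * s⁻¹) * s := by group
      rw [e, h]; group
    have huz : s * e₀ * s⁻¹ ≠ z₀ := by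
      intro h
      apply he₀z
      have e : e₀ = s⁻¹ * (s * e₀ * s⁻¹) * s := by group
      rw [e, h, mul_assoc, ← hz₀c s, ← mul_assoc, inv_mul_cancel, one_mul]
    have hsub : (({1, z₀, e₀, e₀ * z₀, s * e₀ * s⁻¹} : Finset ↥(S : Subgroup G)) : Set ↥(S : Subgroup G)) ⊆
        (U : Set ↥(S : Subgroup G)) := by
      intro x hx
      simp only [Finset.coe_insert, Finset.coe_singleton, Set.mem_insert_iff,
        Set.mem_singleton_iff] at hx
      rcases hx with rfl | rfl | rfl | rfl | rfl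
      · exact one_mem U
      · exact hz₀U
      · exact he₀U
      · exact mul_mem he₀U hz₀U
      · exact huU
    have hcard5 : ({1, z₀, e₀, e₀ * z₀, s * e₀ * s⁻¹} : Finset ↥(S : Subgroup G)).card = 5 := by
      rw [Finset.card_insert_of_notMem, Finset.card_insert_of_notMem,
        Finset.card_insert_of_notMem, Finset.card_insert_of_notMem, Finset.card_singleton]
      · simp only [Finset.mem_singleton]; exact fun h => hn2 h.symm
      · simp only [Finset.mem_insert, Finset.mem_singleton, not_or]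
        exact ⟨heze.symm, fun h => hn1 h.symm⟩
      · simp only [Finset.mem_insert, Finset.mem_singleton, not_or]
        exact ⟨he₀z.symm, hezz.symm, huz.symm⟩
      · simp only [Finset.mem_insert, Finset.mem_singleton, not_or]
        exact ⟨hz₀1.symm, he₀1.symm, hez1.symm, hu1.symm⟩
    have h1 := Set.ncard_le_ncard hsub (Set.toFinite _)
    rw [Set.ncard_coe_finset, hcard5] at h1
    have h2 : (U : Set ↥(S : Subgroup G)).ncard = Nat.card U := (Nat.card_coe_set_eq _).symm
    rw [h2, hUcard] at h1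
    omega
  refine ⟨(z₀ : G), (e₀ : G), z₀.2, e₀.2, ?_, ?_, ?_, ?_, ?_, ?_, ?_⟩
  · exact fun h => hz₀1 (Subtype.ext h)
  · exact fun h => he₀1 (Subtype.ext h)
  · exact fun h => he₀z (Subtype.ext h)
  · exact congrArg Subtype.val hz₀z₀
  · exact congrArg Subtype.val he₀e₀
  · intro s hs
    exact congrArg Subtype.val (hz₀c ⟨s, hs⟩)
  · intro s hs
    rcases hconj ⟨s, hs⟩ with h | h
    · left; exact congrArg Subtype.val h
    · right; exact congrArg Subtype.val h

theorem card_le_of_conj {G : Type u} [Group G] [Finite G] (S : Subgroup G) (z e : G)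
    (hz1 : z ≠ 1) (hzz : z * z = 1) (hzc : ∀ s ∈ S, s * z = z * s)
    (hconj : ∀ s ∈ S, s * e * s⁻¹ = e ∨ s * e * s⁻¹ = e * z) :
    Nat.card S ≤ 2 * Nat.card ↥(S ⊓ Subgroup.centralizer ({e} : Set G)) := by
  have hKcard : Nat.card ((S ⊓ Subgroup.centralizer ({e} : Set G)).subgroupOf S) =
      Nat.card ↥(S ⊓ Subgroup.centralizer ({e} : Set G)) :=
    Nat.card_congr (Subgroup.subgroupOfEquivOfLe inf_le_left).toEquiv
  have hmem : ∀ s : S, s ∈ (S ⊓ Subgroup.centralizer ({e} : Set G)).subgroupOf S ↔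
      (s : G) * e * (s : G)⁻¹ = e := by
    intro s
    rw [Subgroup.mem_subgroupOf, Subgroup.mem_inf, Subgroup.mem_centralizer_iff]
    constructor
    · rintro ⟨-, h⟩
      have h1 := h e (Set.mem_singleton e)
      rw [← h1]; group
    · intro h
      refine ⟨s.2, fun y hy => ?_⟩
      rw [Set.mem_singleton_iff] at hy
      subst hy
      calc y * (s : G) = ((s : G) * y * (s : G)⁻¹) * (s : G) := by rw [h]
        _ = (s : G) * y := by group
  by_cases htop : (S ⊓ Subgroup.centralizer ({e} : Set G)).subgroupOf S = ⊤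
  · rw [← hKcard, htop, Subgroup.card_top]; omega
  · obtain ⟨s₀, hs₀⟩ : ∃ s₀ : S, s₀ ∉ (S ⊓ Subgroup.centralizer ({e} : Set G)).subgroupOf S := by
      by_contra h
      push Not at h
      exact htop (eq_top_iff.2 fun s _ => h s)
    have hs₀' : (s₀ : G) * e * (s₀ : G)⁻¹ = e * z := by
      rcases hconj s₀ s₀.2 with h | h
      · exact absurd ((hmem s₀).2 h) hs₀
      · exact h
    have hidx : ((S ⊓ Subgroup.centralizer ({e} : Set G)).subgroupOf S).index = 2 := by
      rw [Subgroup.index_eq_two_iff]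
      refine ⟨s₀, fun b => ?_⟩
      have hbz : (b : G) * z * (b : G)⁻¹ = z := by rw [hzc b b.2, mul_inv_cancel_right]
      have hprod : ((b * s₀ : S) : G) * e * ((b * s₀ : S) : G)⁻¹ = (b : G) * e * (b : G)⁻¹ * z := by
        calc ((b * s₀ : S) : G) * e * ((b * s₀ : S) : G)⁻¹
            = (b : G) * ((s₀ : G) * e * (s₀ : G)⁻¹) * (b : G)⁻¹ := by
              rw [Subgroup.coe_mul]; group
          _ = (b : G) * e * (b : G)⁻¹ * ((b : G) * z * (b : G)⁻¹) := by rw [hs₀']; group
          _ = _ := by rw [hbz]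
      by_cases hb : b ∈ (S ⊓ Subgroup.centralizer ({e} : Set G)).subgroupOf S
      · refine Or.inr ⟨hb, ?_⟩
        rw [hmem, hprod, (hmem b).1 hb]
        intro h
        exact hz1 (mul_eq_left.1 h)
      · refine Or.inl ⟨?_, hb⟩
        have hb' : (b : G) * e * (b : G)⁻¹ = e * z := by
          rcases hconj b b.2 with h | h
          · exact absurd ((hmem b).2 h) hb
          · exact h
        rw [hmem, hprod, hb', mul_assoc, hzz, mul_one]
    have h1 := Subgroup.card_mul_index ((S ⊓ Subgroup.centralizer ({e} : Set G)).subgroupOf S)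
    rw [hidx, hKcard] at h1
    omega

theorem inverts {G : Type u} [Group G] [Finite G] (X : Subgroup G) (b : G) (hbb : b * b = 1)
    (hbN : b ∈ Subgroup.normalizer (X : Set G))
    (hfix : X ⊓ Subgroup.centralizer ({b} : Set G) = ⊥) :
    ∀ x ∈ X, b * x * b⁻¹ = x⁻¹ := by
  have hb_inv : b⁻¹ = b := inv_eq_of_mul_eq_one_right hbb
  let φ : X → X := fun x => ⟨(x : G)⁻¹ * (b * x * b⁻¹),
    mul_mem (inv_mem x.2) ((Subgroup.mem_normalizer_iff.1 hbN x).1 x.2)⟩
  have hinj : Function.Injective φ := by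
    intro x y hxy
    have h1 : (x : G)⁻¹ * (b * x * b⁻¹) = (y : G)⁻¹ * (b * y * b⁻¹) := congrArg Subtype.val hxy
    have h2 : (y : G) * (x : G)⁻¹ ∈ X ⊓ Subgroup.centralizer ({b} : Set G) := by
      refine Subgroup.mem_inf.2 ⟨mul_mem y.2 (inv_mem x.2), ?_⟩
      rw [Subgroup.mem_centralizer_iff]
      intro c hc
      rw [Set.mem_singleton_iff] at hc
      subst hc
      have h3 : (y : G) * ((x : G)⁻¹ * (c * x * c⁻¹)) = c * y * c⁻¹ := by rw [h1]; group
      have h4 : (y : G) * (x : G)⁻¹ * c = c * ((y : G) * (x : G)⁻¹) := by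
        calc (y : G) * (x : G)⁻¹ * c
            = ((y : G) * ((x : G)⁻¹ * (c * x * c⁻¹))) * (c * (x : G)⁻¹) := by group
          _ = c * y * c⁻¹ * (c * (x : G)⁻¹) := by rw [h3]
          _ = c * ((y : G) * (x : G)⁻¹) := by group
      exact h4.symm
    rw [hfix, Subgroup.mem_bot] at h2
    exact Subtype.ext (mul_inv_eq_one.1 h2).symm
  have hsurj : Function.Surjective φ := Finite.injective_iff_surjective.1 hinj
  intro x hx
  obtain ⟨w, hw⟩ := hsurj ⟨x, hx⟩
  have hw' : (w : G)⁻¹ * (b * w * b⁻¹) = x := congrArg Subtype.val hw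
  rw [← hw', hb_inv]
  have e1 : b * ((w : G)⁻¹ * (b * w * b)) * b = b * (w : G)⁻¹ * b * w * (b * b) := by
    simp only [mul_assoc]
  have e2 : ((w : G)⁻¹ * (b * w * b))⁻¹ = b⁻¹ * (w : G)⁻¹ * b⁻¹ * w := by group
  rw [e1, e2, hbb, mul_one, hb_inv]

theorem no_signalizer {G : Type u} [Group G] [Finite G] (S : Sylow 2 G) (A : Subgroup G)
    (hAS : A ≤ (S : Subgroup G)) (hA3 : ¬ PRankLE 2 2 ↥A)
    (h : ∀ t : G, orderOf t = 2 → Good2 (Subgroup.centralizer ({t} : Set G)))
    (X : Subgroup G) (hXodd : Odd (Nat.card X))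
    (hSX : (S : Subgroup G) ≤ Subgroup.normalizer (X : Set G)) : X = ⊥ := by
  haveI : Fact (Nat.Prime 2) := ⟨Nat.prime_two⟩
  obtain ⟨z, e, hzS, heS, hz1, he1, hez, hzz, hee, hzc, hconj⟩ := exists_four S A hAS hA3
  have hz2 : orderOf z = 2 := orderOf_eq_prime (by rw [sq]; exact hzz) hz1
  have he2 : orderOf e = 2 := orderOf_eq_prime (by rw [sq]; exact hee) he1
  have hezc : e * z = z * e := hzc e heS
  have hez1 : e * z ≠ 1 := by
    intro h
    apply hez
    rw [eq_inv_of_mul_eq_one_left h, inv_eq_of_mul_eq_one_right hzz]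
  have hezez : (e * z) * (e * z) = 1 := by
    calc (e * z) * (e * z) = e * (z * e) * z := by simp only [mul_assoc]
      _ = e * (e * z) * z := by rw [hezc]
      _ = (e * e) * (z * z) := by simp only [mul_assoc]
      _ = 1 := by rw [hee, hzz, one_mul]
  have hez2 : orderOf (e * z) = 2 := orderOf_eq_prime (by rw [sq]; exact hezez) hez1
  have i_z : Nat.card (S : Subgroup G) ≤
      2 * Nat.card ↥((S : Subgroup G) ⊓ Subgroup.centralizer ({z} : Set G)) := by
    have hle : (S : Subgroup G) ⊓ Subgroup.centralizer ({z} : Set G) = (S : Subgroup G) :=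
      inf_eq_left.2 (fun s hs => by
        rw [Subgroup.mem_centralizer_iff]
        intro y hy
        rw [Set.mem_singleton_iff] at hy
        rw [hy]; exact (hzc s hs).symm)
    rw [hle]; omega
  have i_e := card_le_of_conj (S : Subgroup G) z e hz1 hzz hzc hconj
  have i_ez := card_le_of_conj (S : Subgroup G) z (e * z) hz1 hzz hzc (fun s hs => by
    have hsz : s * z * s⁻¹ = z := by rw [hzc s hs, mul_inv_cancel_right]
    have e1 : s * (e * z) * s⁻¹ = (s * e * s⁻¹) * (s * z * s⁻¹) := by group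
    rw [e1, hsz]
    rcases hconj s hs with h1 | h1
    · left; rw [h1]
    · right; rw [h1])
  have f_z := fix_trivial S X hXodd hSX z (h z hz2) i_z
  have f_e := fix_trivial S X hXodd hSX e (h e he2) i_e
  have f_ez := fix_trivial S X hXodd hSX (e * z) (h _ hez2) i_ez
  have inv_z := inverts X z hzz (hSX hzS) f_z
  have inv_e := inverts X e hee (hSX heS) f_e
  have inv_ez := inverts X (e * z) hezez (hSX (mul_mem heS hzS)) f_ez
  rw [eq_bot_iff]
  intro x hx
  rw [Subgroup.mem_bot]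
  have h1 : (e * z) * x * (e * z)⁻¹ = x := by
    have e1 : (e * z) * x * (e * z)⁻¹ = e * (z * x * z⁻¹) * e⁻¹ := by group
    rw [e1, inv_z x hx, inv_e x⁻¹ (inv_mem hx), inv_inv]
  have h3 : x = x⁻¹ := by rw [← inv_ez x hx]; exact h1.symm
  have hxx : x ^ 2 = 1 := by
    rw [sq]
    calc x * x = x * x⁻¹ := by rw [← h3]
      _ = 1 := mul_inv_cancel x
  have hord : orderOf x ∣ 2 := orderOf_dvd_of_pow_eq_one hxx
  have hord' : orderOf x ∣ Nat.card X := Subgroup.orderOf_dvd_natCard X hx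
  have hco : Nat.Coprime 2 (Nat.card X) := Nat.coprime_two_left.2 hXodd
  exact orderOf_eq_one_iff.1 (Nat.eq_one_of_dvd_coprimes hco hord hord')

/-- Let G be a finite group whose Sylow 2-subgroup S has a self-centralizing normal subgroup of rank at least 3. Suppose that either every maximal 2-local subgroup of G is 2-constrained with no nontrivial normal subgroup of odd order, or the centralizer of every involution of G is 2-constrained with no nontrivial normal subgroup of odd order. Then S normalizes no nontrivial subgroup of G of odd order and every 2-local subgroup of G is 2-constrained. -/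
theorem result {G : Type*} [Group G] [Finite G]
    (S : Sylow 2 G) (A : Subgroup G) (hA : Cfsg.IsSCN (S : Subgroup G) A) (hA3 : ¬ Cfsg.PRankLE 2 2 ↥A)
    (h : (∀ M : Subgroup G, Cfsg.IsMaximalTwoLocal M → Cfsg.IsPConstrained 2 ↥M ∧ Cfsg.oddCore ↥M = ⊥) ∨
      (∀ t : G, orderOf t = 2 → Cfsg.IsPConstrained 2 ↥(Subgroup.centralizer ({t} : Set G)) ∧
        Cfsg.oddCore ↥(Subgroup.centralizer ({t} : Set G)) = ⊥)) :
    (∀ X : Subgroup G, Odd (Nat.card ↥X) → (S : Subgroup G) ≤ Subgroup.normalizer (X : Set G) → X = ⊥) ∧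
      (∀ T : Subgroup G, IsPGroup 2 ↥T → T ≠ ⊥ → Cfsg.IsPConstrained 2 ↥(Subgroup.normalizer (T : Set G))) := by
  have h2 : ∀ t : G, orderOf t = 2 → Good2 (Subgroup.centralizer ({t} : Set G)) := by
    rcases h with h | h
    · exact fun t ht => alt h t ht
    · exact fun t ht => h t ht
  exact ⟨fun X hX hSX => no_signalizer S A hA.1 hA3 h2 X hX hSX,
    fun T hT hT1 => locals (fun x hx => (h2 x hx).1) T hT hT1⟩

end Cfsg.Agent.S3246
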