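import Cfsg.Statements.S3265
import Cfsg.Agent.Lib.Helper14.SymGr6
import Cfsg.Agent.Lib.Helper14.OddGr2

set_option autoImplicit false
open Cfsg

namespace Cfsg.Agent.S3265


open Equiv Cfsg.Agent.Lib.Helper14.SymGr in
theorem aux_nonadj (n : ℕ) (hn : 5 ≤ n) (t : Equiv.Perm (Fin n)) (ht : orderOf t = 2) :
    ∃ t' : Equiv.Perm (Fin n), IsConj t t' ∧ orderOf (t * t') = 2 ∧ orderOf (t' * t) = 2 := by
  have htt : t * t = 1 := by
    have h := pow_orderOf_eq_one t
    rw [ht, sq] at h
    exact h
  have ht1 : t ≠ 1 := by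
    rintro rfl
    rw [orderOf_one] at ht
    omega
  obtain ⟨a, ha⟩ : ∃ a, t a ≠ a := by
    by_contra h
    push Not at h
    exact ht1 (Equiv.ext h)
  have hta : t (t a) = a := xx t htt a
  have hti : t⁻¹ = t := inv_eq_of_mul_eq_one_left htt
  by_cases hcase : ∃ c, c ≠ a ∧ c ≠ t a ∧ t c ≠ c
  · obtain ⟨c, hca, hcb, hc⟩ := hcase
    have key : t * (swap a c * t * swap a c) = swap (t a) (t c) * swap a c := by
      have h := swap_apply_apply t a c
      rw [hti] at h
      rw [h]
      simp only [mul_assoc]
    have hd_a : t c ≠ a := by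
      intro h
      apply hcb
      rw [← h, xx t htt]
    have hd_b : t c ≠ t a := fun h => hca (t.injective h)
    have ho : orderOf (swap (t a) (t c) * swap a c) = 2 :=
      order_two_disjoint_swaps (t a) (t c) a c (Ne.symm hd_b) ha (Ne.symm hcb) hd_a hc
    refine ⟨swap a c * t * swap a c, isConj_iff.mpr ⟨swap a c, by rw [swap_inv]⟩, ?_, ?_⟩
    · rw [key]
      exact ho
    · have hinv : swap a c * t * swap a c * t = (t * (swap a c * t * swap a c))⁻¹ := by
        simp only [mul_inv_rev, swap_inv, hti, mul_assoc]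
      rw [hinv, orderOf_inv, key]
      exact ho
  · push Not at hcase
    have hteq : t = swap a (t a) := by
      apply Equiv.ext
      intro p
      by_cases hpa : p = a
      · rw [hpa, swap_apply_left]
      · by_cases hpb : p = t a
        · rw [hpb, swap_apply_right, hta]
        · rw [swap_apply_of_ne_of_ne hpa hpb]
          exact hcase p hpa hpb
    have hcard : 1 < ((Finset.univ : Finset (Fin n)) \ {a, t a}).card := by
      have h1 := Finset.le_card_sdiff ({a, t a} : Finset (Fin n)) Finset.univ
      have h2 : ({a, t a} : Finset (Fin n)).card ≤ 2 := Finset.card_le_two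
      rw [Finset.card_univ, Fintype.card_fin] at h1
      omega
    obtain ⟨c, hc, d, hd, hcd⟩ := Finset.one_lt_card.mp hcard
    simp only [Finset.mem_sdiff, Finset.mem_univ, true_and, Finset.mem_insert,
      Finset.mem_singleton, not_or] at hc hd
    have ho : orderOf (swap a (t a) * swap c d) = 2 :=
      order_two_disjoint_swaps a (t a) c d (Ne.symm ha) (Ne.symm hc.1) (Ne.symm hd.1)
        (Ne.symm hc.2) (Ne.symm hd.2)
    have hconj : IsConj (swap a (t a)) (swap c d) := Equiv.Perm.isConj_swap (Ne.symm ha) hcd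
    rw [← hteq] at ho hconj
    refine ⟨swap c d, hconj, ho, ?_⟩
    have hinv : swap c d * t = (t * swap c d)⁻¹ := by
      rw [mul_inv_rev, swap_inv, hti]
    rw [hinv, orderOf_inv]
    exact ho

/-- Let n ≥ 5 and let X be a conjugacy class of involutions of the symmetric group of degree n. The graph on X joining two distinct involutions whose product has odd order is connected and has diameter exactly 2. -/
theorem result (n : ℕ) (hn : 5 ≤ n) (t : Equiv.Perm (Fin n)) (ht : orderOf t = 2) :
    (SimpleGraph.fromRel fun x y : {x : Equiv.Perm (Fin n) // IsConj t x} =>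
        Odd (orderOf (x.1 * y.1))).Connected ∧
      (SimpleGraph.fromRel fun x y : {x : Equiv.Perm (Fin n) // IsConj t x} =>
        Odd (orderOf (x.1 * y.1))).diam = 2 := by
  have htt : t * t = 1 := by
    have h := pow_orderOf_eq_one t
    rw [ht, sq] at h
    exact h
  have hinv2 : ∀ x : Equiv.Perm (Fin n), IsConj t x →
      x * x = 1 ∧ Nat.card {p // x p = p} = Nat.card {p // t p = p} := by
    intro x hx
    obtain ⟨g, hg⟩ := isConj_iff.mp hx
    constructor
    · rw [← hg]
      calc g * t * g⁻¹ * (g * t * g⁻¹) = g * (t * t) * g⁻¹ := by group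
        _ = 1 := by rw [htt]; group
    · rw [← hg]
      exact Cfsg.Agent.Lib.Helper14.SymGr.card_fix_conj g t
  apply Cfsg.Agent.Lib.Helper14.OddGr.graph_aux
  · rintro ⟨x, hxc⟩ ⟨y, hyc⟩ huv
    obtain ⟨hx, hcx⟩ := hinv2 x hxc
    obtain ⟨hy, hcy⟩ := hinv2 y hyc
    obtain ⟨z, hz1, hz2, hz3⟩ := Cfsg.Agent.Lib.Helper14.SymGr.core (α := Fin n)
      (by rw [Fintype.card_fin]; exact hn) x y hx hy (hcx.trans hcy.symm)
    by_cases hodd : Odd (orderOf (x * y))
    · left
      rw [SimpleGraph.fromRel_adj]
      exact ⟨huv, Or.inl hodd⟩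
    · right
      refine ⟨⟨z, hxc.trans hz1⟩, ?_, ?_⟩
      · rw [SimpleGraph.fromRel_adj]
        refine ⟨?_, Or.inl hz2⟩
        intro h
        have hxz : x = z := congrArg Subtype.val h
        rw [← hxz] at hz3
        exact hodd hz3
      · rw [SimpleGraph.fromRel_adj]
        refine ⟨?_, Or.inl hz3⟩
        intro h
        have hzy : z = y := congrArg Subtype.val h
        rw [hzy] at hz2
        exact hodd hz2
  · obtain ⟨t', hc, h1, h2⟩ := aux_nonadj n hn t ht
    refine ⟨⟨t, IsConj.refl t⟩, ⟨t', hc⟩, ?_, ?_⟩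
    · intro h
      have htt' : t = t' := congrArg Subtype.val h
      rw [← htt', htt, orderOf_one] at h1
      omega
    · rw [SimpleGraph.fromRel_adj]
      rintro ⟨_, h | h⟩
      · change Odd (orderOf (t * t')) at h
        rw [h1] at h
        exact (Nat.not_odd_iff_even.mpr even_two) h
      · change Odd (orderOf (t' * t)) at h
        rw [h2] at h
        exact (Nat.not_odd_iff_even.mpr even_two) h

end Cfsg.Agent.S3265
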