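import Cfsg.Statements.S3266
import Cfsg.Agent.Lib.Helper14.OddGr2

set_option autoImplicit false
open Cfsg

namespace Cfsg.Agent.S3266


open Cfsg.Agent.Lib.Helper14.GL2Conj Cfsg.Agent.Lib.Helper14.SL2Odd Cfsg.Agent.Lib.Helper14.PSL2
  Cfsg.Agent.Lib.Helper14.OddGr

section aux

set_option linter.unusedVariables false
set_option linter.unusedSectionVars false

variable {F : Type*} [Field F]

theorem four_ne_zero' (h2 : (2 : F) ≠ 0) : (4 : F) ≠ 0 := by
  intro h
  apply h2
  have h5 : (2 : F) * 2 = 0 := by linear_combination h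
  exact mul_self_eq_zero.mp h5

theorem beta_zero (h2 : (2 : F) ≠ 0) (β : F) (h : (4 : F) * β ^ 2 = 0) : β = 0 := by
  rcases mul_eq_zero.mp h with h' | h'
  · exact absurd h' (four_ne_zero' h2)
  · exact (pow_eq_zero_iff two_ne_zero).mp h'

theorem two_mul_zero (h2 : (2 : F) ≠ 0) (β : F) (h : 2 * β = 0) : β = 0 := by
  rcases mul_eq_zero.mp h with h' | h'
  · exact absurd h' h2
  · exact h'

theorem not_scalar_of_trace_zero (h2 : (2 : F) ≠ 0) (C : Matrix.SpecialLinearGroup (Fin 2) F)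
    (h0 : tr2 C = 0) : ¬ IsScalarMat (C : Matrix (Fin 2) (Fin 2) F) := by
  apply not_scalar_of_trace
  rw [h0]
  intro h4
  exact four_ne_zero' h2 (by linear_combination -h4)

theorem exists_ne_three [Fintype F] (h4 : 4 ≤ Fintype.card F) (a b c : F) :
    ∃ r : F, r ≠ a ∧ r ≠ b ∧ r ≠ c := by
  classical
  by_contra h
  push Not at h
  have hsub : (Finset.univ : Finset F) ⊆ {a, b, c} := by
    intro r _
    simp only [Finset.mem_insert, Finset.mem_singleton]
    by_cases h1 : r = a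
    · exact Or.inl h1
    · by_cases h2 : r = b
      · exact Or.inr (Or.inl h2)
      · exact Or.inr (Or.inr (h r h1 h2))
  have h5 := Finset.card_le_card hsub
  have h3 : ({a, b, c} : Finset F).card ≤ 3 := Finset.card_le_three
  rw [Finset.card_univ] at h5
  omega

theorem exists_sq_sum [Fintype F] (h4 : 4 ≤ Fintype.card F) :
    ∃ e f : F, e * e + f * f = -1 ∧ ¬ (f = 0 ∧ e + e = 0) ∧ ¬ (e = 0 ∧ f + f = 0) := by
  by_cases h2 : (2 : F) = 0
  · obtain ⟨e, he0, he1, -⟩ := exists_ne_three h4 (0 : F) 1 1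
    refine ⟨e, e + 1, ?_, ?_, ?_⟩
    · linear_combination (e * e + e + 1) * h2
    · rintro ⟨h, -⟩
      apply he1
      linear_combination h - h2
    · rintro ⟨h, -⟩
      exact he0 h
  · have hodd : Fintype.card F % 2 = 1 := by
      by_contra hc
      have h2' : 2 ∣ Fintype.card F := by omega
      have hch : CharP F 2 := Cfsg.Agent.S2507.charTwo_of_dvd h2'
      exact h2 CharTwo.two_eq_zero
    obtain ⟨a, b, hab⟩ := FiniteField.exists_root_sum_quadratic (R := F)
      (f := Polynomial.X ^ 2) (g := Polynomial.X ^ 2 - Polynomial.C (-1))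
      (Polynomial.degree_X_pow 2) (Polynomial.degree_X_pow_sub_C (by decide) _) hodd
    simp only [Polynomial.eval_C, Polynomial.eval_X, Polynomial.eval_pow, Polynomial.eval_sub] at hab
    have hab' : a * a + b * b = -1 := by linear_combination hab
    refine ⟨a, b, hab', ?_, ?_⟩
    · rintro ⟨hb, ha⟩
      have ha0 : a = 0 := two_mul_zero h2 a (by linear_combination ha)
      rw [ha0, hb] at hab'
      norm_num at hab'
    · rintro ⟨ha, hb⟩
      have hb0 : b = 0 := two_mul_zero h2 b (by linear_combination hb)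
      rw [ha, hb0] at hab'
      norm_num at hab'

def J0 : Matrix.SpecialLinearGroup (Fin 2) F := mk4 0 (-1) 1 0 (by ring)

theorem exists_nonadj [Fintype F] (h4 : 4 ≤ Fintype.card F) (A : Matrix.SpecialLinearGroup (Fin 2) F)
    (hA0 : tr2 A = 0) (hA : ¬ IsScalarMat (A : Matrix (Fin 2) (Fin 2) F)) :
    ∃ B : Matrix.SpecialLinearGroup (Fin 2) F, tr2 B = 0 ∧
      ¬ IsScalarMat (B : Matrix (Fin 2) (Fin 2) F) ∧ tr2 (A * B) = 0 ∧
      ¬ IsScalarMat ((A * B : Matrix.SpecialLinearGroup (Fin 2) F) : Matrix (Fin 2) (Fin 2) F) := by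
  obtain ⟨e, f, hef, h1, h3⟩ := exists_sq_sum h4
  have hJ0 : tr2 (J0 : Matrix.SpecialLinearGroup (Fin 2) F) = 0 := by
    unfold tr2 J0
    rw [mk4_00, mk4_11]
    ring
  have hJ : ¬ IsScalarMat ((J0 : Matrix.SpecialLinearGroup (Fin 2) F) : Matrix (Fin 2) (Fin 2) F) := by
    unfold J0
    rw [isScalarMat_iff, mk4_10]
    rintro ⟨-, h, -⟩
    exact one_ne_zero h
  obtain ⟨P, hP⟩ := isConj_iff.mp (conj_of_trace_zero _ A hJ0 hA0 hJ hA)
  obtain ⟨B₀, hB₀⟩ : ∃ B₀ : Matrix.SpecialLinearGroup (Fin 2) F,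
      B₀ = mk4 e f f (-e) (by linear_combination -hef) := ⟨_, rfl⟩
  have hB₀0 : tr2 B₀ = 0 := by
    rw [hB₀]
    unfold tr2
    rw [mk4_00, mk4_11]
    ring
  have hB₀s : ¬ IsScalarMat (B₀ : Matrix (Fin 2) (Fin 2) F) := by
    rw [hB₀, isScalarMat_iff, mk4_00, mk4_01, mk4_10, mk4_11]
    rintro ⟨h5, -, h6⟩
    exact h1 ⟨h5, by linear_combination h6⟩
  have hJB0 : tr2 (J0 * B₀) = 0 := by
    rw [tr2_mul, hB₀]
    unfold J0
    rw [mk4_00, mk4_01, mk4_10, mk4_11, mk4_00, mk4_01, mk4_10, mk4_11]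
    ring
  have hJB : ¬ IsScalarMat ((J0 * B₀ : Matrix.SpecialLinearGroup (Fin 2) F) :
      Matrix (Fin 2) (Fin 2) F) := by
    rw [isScalarMat_iff, Matrix.SpecialLinearGroup.coe_mul, hB₀]
    unfold J0
    simp only [Matrix.mul_apply, Fin.sum_univ_two, mk4_00, mk4_01, mk4_10, mk4_11]
    rintro ⟨h5, -, h6⟩
    exact h3 ⟨by linear_combination h5, by linear_combination -h6⟩
  have e1 : A * (P * B₀ * P⁻¹) = P * (J0 * B₀) * P⁻¹ := by
    rw [← hP]
    group
  refine ⟨P * B₀ * P⁻¹, ?_, ?_, ?_, ?_⟩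
  · rw [tr2_conj]
    exact hB₀0
  · exact not_scalar_of_isConj (isConj_iff.mpr ⟨P, rfl⟩) hB₀s
  · rw [e1, tr2_conj]
    exact hJB0
  · rw [e1]
    exact not_scalar_of_isConj (isConj_iff.mpr ⟨P, rfl⟩) hJB

theorem common_two [Fintype F] (h2 : (2 : F) = 0) (A B : Matrix.SpecialLinearGroup (Fin 2) F)
    (hA0 : tr2 A = 0) (hA : ¬ IsScalarMat (A : Matrix (Fin 2) (Fin 2) F))
    (hB0 : tr2 B = 0) (hB : ¬ IsScalarMat (B : Matrix (Fin 2) (Fin 2) F)) :
    ∃ C : Matrix.SpecialLinearGroup (Fin 2) F, tr2 C = 0 ∧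
      ¬ IsScalarMat (C : Matrix (Fin 2) (Fin 2) F) ∧ Good (A * C) ∧ Good (C * B) := by
  have hch : ringChar F = 2 :=
    CharP.ringChar_of_prime_eq_zero Nat.prime_two (by exact_mod_cast h2)
  have hA' : ¬ ((A : Matrix (Fin 2) (Fin 2) F) 0 1 = 0 ∧ (A : Matrix (Fin 2) (Fin 2) F) 1 0 = 0) := by
    rintro ⟨h1, h3⟩
    apply hA
    rw [isScalarMat_iff]
    refine ⟨h1, h3, ?_⟩
    unfold tr2 at hA0
    linear_combination hA0 - (A : Matrix (Fin 2) (Fin 2) F) 1 1 * h2
  have hB' : ¬ ((B : Matrix (Fin 2) (Fin 2) F) 0 1 = 0 ∧ (B : Matrix (Fin 2) (Fin 2) F) 1 0 = 0) := by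
    rintro ⟨h1, h3⟩
    apply hB
    rw [isScalarMat_iff]
    refine ⟨h1, h3, ?_⟩
    unfold tr2 at hB0
    linear_combination hB0 - (B : Matrix (Fin 2) (Fin 2) F) 1 1 * h2
  have key : ∃ f g : F, (A : Matrix (Fin 2) (Fin 2) F) 0 1 * g + (A : Matrix (Fin 2) (Fin 2) F) 1 0 * f ≠ 0 ∧
      (B : Matrix (Fin 2) (Fin 2) F) 0 1 * g + (B : Matrix (Fin 2) (Fin 2) F) 1 0 * f ≠ 0 := by
    by_contra hcon
    push Not at hcon
    have k1 := hcon 1 0
    have k2 := hcon 0 1
    have k3 := hcon 1 1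
    simp only [mul_zero, mul_one, zero_add, add_zero] at k1 k2 k3
    by_cases hc : (A : Matrix (Fin 2) (Fin 2) F) 1 0 = 0
    · have hb : (A : Matrix (Fin 2) (Fin 2) F) 0 1 ≠ 0 := fun h => hA' ⟨h, hc⟩
      have e1 := k2 hb
      have e2 := k3 (by rw [hc, add_zero]; exact hb)
      exact hB' ⟨e1, by rw [e1, zero_add] at e2; exact e2⟩
    · have e1 := k1 hc
      by_cases hb : (A : Matrix (Fin 2) (Fin 2) F) 0 1 = 0
      · have e2 := k3 (by rw [hb, zero_add]; exact hc)
        exact hB' ⟨by rw [e1, add_zero] at e2; exact e2, e1⟩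
      · exact hB' ⟨k2 hb, e1⟩
  obtain ⟨f, g, hfg1, hfg2⟩ := key
  obtain ⟨e, he⟩ := FiniteField.isSquare_of_char_two hch (1 + f * g)
  refine ⟨mk4 e f g e (by linear_combination -he), ?_, ?_, ?_, ?_⟩
  · unfold tr2
    rw [mk4_00, mk4_11]
    linear_combination e * h2
  · rw [isScalarMat_iff, mk4_01, mk4_10]
    rintro ⟨h1, h3, -⟩
    apply hfg1
    rw [h1, h3, mul_zero, mul_zero, add_zero]
  · apply good_of_char_two h2
    rw [tr2_mul, mk4_00, mk4_01, mk4_10, mk4_11]
    intro h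
    apply hfg1
    unfold tr2 at hA0
    linear_combination h - e * hA0
  · apply good_of_char_two h2
    rw [tr2_mul, mk4_00, mk4_01, mk4_10, mk4_11]
    intro h
    apply hfg2
    unfold tr2 at hB0
    linear_combination h - e * hB0

theorem common_one (h2 : (2 : F) ≠ 0) (hi : IsSquare (-1 : F))
    (A B : Matrix.SpecialLinearGroup (Fin 2) F) (hA0 : tr2 A = 0) (hB0 : tr2 B = 0)
    (hAB : ¬ IsScalarMat ((A * B : Matrix.SpecialLinearGroup (Fin 2) F) : Matrix (Fin 2) (Fin 2) F)) :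
    Good (A * B) ∨ ∃ C : Matrix.SpecialLinearGroup (Fin 2) F, tr2 C = 0 ∧
      ¬ IsScalarMat (C : Matrix (Fin 2) (Fin 2) F) ∧ Good (A * C) ∧ Good (C * B) := by
  obtain ⟨ι, hι⟩ := hi
  obtain ⟨τ, hτ⟩ : ∃ τ : F, tr2 (A * B) = τ := ⟨_, rfl⟩
  by_cases hτ4 : τ ^ 2 = 4
  · left
    refine ⟨hAB, fun β hβ => ?_⟩
    rw [hτ] at hβ
    exact beta_zero h2 β (by linear_combination hβ - hτ4)
  · right
    have hτ2 : 2 - τ ≠ 0 := by
      intro h
      apply hτ4
      have h5 : τ = 2 := by linear_combination -h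
      rw [h5]
      norm_num
    have hcomb : (2 / (2 - τ)) ^ 2 + (2 / (2 - τ)) ^ 2 - 2 / (2 - τ) * (2 / (2 - τ)) * tr2 (A * B)
        + (ι / (2 - τ)) ^ 2 * (4 - tr2 (A * B) ^ 2) = 1 := by
      rw [hτ]
      field_simp
      grind
    obtain ⟨C, hC0, hAC, hCB⟩ := comb A B hA0 hB0 (2 / (2 - τ)) (2 / (2 - τ)) (ι / (2 - τ)) hcomb
    rw [hτ] at hAC hCB
    have hAC' : tr2 (A * C) = -2 := by
      rw [hAC]
      field_simp
      ring
    have hCB' : tr2 (C * B) = -2 := by
      rw [hCB]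
      field_simp
      ring
    refine ⟨C, hC0, not_scalar_of_trace_zero h2 C hC0, ⟨?_, ?_⟩, ⟨?_, ?_⟩⟩
    · intro hs
      apply hτ4
      rcases par_left A B C hA0 hs with h | h
      · rw [hτ, hCB'] at h
        rw [← h]
        norm_num
      · rw [hτ, hCB'] at h
        have h5 : τ = 2 := by linear_combination h
        rw [h5]
        norm_num
    · intro β hβ
      rw [hAC'] at hβ
      exact beta_zero h2 β (by linear_combination hβ)
    · intro hs
      apply hτ4
      rcases par_right A B C hB0 hs with h | h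
      · rw [hτ, hAC'] at h
        rw [← h]
        norm_num
      · rw [hτ, hAC'] at h
        have h5 : τ = 2 := by linear_combination h
        rw [h5]
        norm_num
    · intro β hβ
      rw [hCB'] at hβ
      exact beta_zero h2 β (by linear_combination hβ)

theorem common_three [Fintype F] (h4c : 4 ≤ Fintype.card F) (h2 : (2 : F) ≠ 0)
    (hi : ¬ IsSquare (-1 : F))
    (A B : Matrix.SpecialLinearGroup (Fin 2) F) (hA0 : tr2 A = 0) (hB0 : tr2 B = 0)
    (hAB : ¬ IsScalarMat ((A * B : Matrix.SpecialLinearGroup (Fin 2) F) : Matrix (Fin 2) (Fin 2) F)) :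
    Good (A * B) ∨ ∃ C : Matrix.SpecialLinearGroup (Fin 2) F, tr2 C = 0 ∧
      ¬ IsScalarMat (C : Matrix (Fin 2) (Fin 2) F) ∧ Good (A * C) ∧ Good (C * B) := by
  obtain ⟨τ, hτ⟩ : ∃ τ : F, tr2 (A * B) = τ := ⟨_, rfl⟩
  rcases sq_or_neg_sq hi (τ ^ 2 - 4) with ⟨δ, hδ⟩ | ⟨d₀, hd₀⟩
  · left
    refine ⟨hAB, fun β hβ => ?_⟩
    rw [hτ] at hβ
    have h5 : δ * δ + (2 * β) * (2 * β) = 0 := by linear_combination hβ - hδ
    exact two_mul_zero h2 β (sum_sq_zero hi δ (2 * β) h5)
  · by_cases hd0 : d₀ = 0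
    · left
      refine ⟨hAB, fun β hβ => ?_⟩
      rw [hτ] at hβ
      rw [hd0] at hd₀
      exact beta_zero h2 β (by linear_combination hβ + hd₀)
    · right
      obtain ⟨r, hr0, hr1, hrm1⟩ := exists_ne_three h4c (0 : F) 1 (-1)
      obtain ⟨s, hs⟩ : ∃ s : F, s = -τ / 2 := ⟨_, rfl⟩
      obtain ⟨d₁, hd₁⟩ : ∃ d₁ : F, d₁ = d₀ / 2 := ⟨_, rfl⟩
      obtain ⟨u, hu⟩ : ∃ u : F, u = (r + r⁻¹) / 2 := ⟨_, rfl⟩
      obtain ⟨k, hk⟩ : ∃ k : F, k = (r - r⁻¹) / 2 := ⟨_, rfl⟩
      have hτs : -2 * s = τ := by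
        rw [hs]
        field_simp
      have hd₁0 : d₁ ≠ 0 := by
        rw [hd₁]
        exact div_ne_zero hd0 h2
      have hsΔ : 1 - s ^ 2 = d₁ * d₁ := by
        rw [hs, hd₁]
        field_simp
        linear_combination hd₀
      have huk : u ^ 2 - 1 = k ^ 2 := by
        rw [hu, hk]
        field_simp
        ring
      have hk0 : k ≠ 0 := by
        rw [hk]
        intro h
        have h5 : (r - 1) * (r + 1) = 0 := by
          have h6 : r - r⁻¹ = 0 := by
            rcases div_eq_zero_iff.mp h with h' | h'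
            · exact h'
            · exact absurd h' h2
          field_simp at h6
          linear_combination h6
        rcases mul_eq_zero.mp h5 with h' | h'
        · exact hr1 (by linear_combination h')
        · exact hrm1 (by linear_combination h')
      have hκ : k * d₁ ≠ 0 := mul_ne_zero hk0 hd₁0
      obtain ⟨x, y, k', hxy, hk'⟩ := pigeon hi h2 (s * u) (k * d₁) hκ
      obtain ⟨u', hu'⟩ : ∃ u' : F, u' = s * u + k * d₁ * y := ⟨_, rfl⟩
      rw [← hu'] at hk'
      have hg : (k * d₁ * x) ^ 2 = (1 - u ^ 2) * (d₁ * d₁) - (u' - s * u) ^ 2 := by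
        rw [hu']
        linear_combination (k * d₁) ^ 2 * hxy + d₁ * d₁ * huk
      obtain ⟨e1, e2, e3⟩ := alg_II h2 s (d₁ * d₁) u u' (k * d₁ * x) (mul_ne_zero hd₁0 hd₁0) hsΔ hg
      rw [hτs] at e1 e2 e3
      obtain ⟨C, hC0, hAC, hCB⟩ := comb A B hA0 hB0 ((u - s * u') / (d₁ * d₁))
        ((u' - s * u) / (d₁ * d₁)) (k * d₁ * x / (2 * (d₁ * d₁))) (by rw [hτ]; exact e1)
      rw [hτ] at hAC hCB
      rw [e2] at hAC
      rw [e3] at hCB
      refine ⟨C, hC0, not_scalar_of_trace_zero h2 C hC0, ⟨?_, ?_⟩, ⟨?_, ?_⟩⟩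
      · apply not_scalar_of_trace
        rw [hAC]
        intro h
        exact hk0 (beta_zero h2 k (by linear_combination h - 4 * huk))
      · intro β hβ
        rw [hAC] at hβ
        have h5 : (2 * k) * (2 * k) + (2 * β) * (2 * β) = 0 := by linear_combination hβ - 4 * huk
        exact two_mul_zero h2 β (sum_sq_zero hi (2 * k) (2 * β) h5)
      · intro hs'
        have hsq : tr2 (A * C) ^ 2 = τ ^ 2 := by
          rcases par_right A B C hB0 hs' with h | h
          · rw [h, hτ]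
          · rw [h, hτ]
            ring
        rw [hAC] at hsq
        have h5 : (2 * k) * (2 * k) + d₀ * d₀ = 0 := by linear_combination hsq - 4 * huk - hd₀
        exact hd0 (sum_sq_zero hi (2 * k) d₀ h5)
      · intro β hβ
        rw [hCB] at hβ
        have h5 : (2 * k') * (2 * k') + (2 * β) * (2 * β) = 0 := by linear_combination hβ - 4 * hk'
        exact two_mul_zero h2 β (sum_sq_zero hi (2 * k') (2 * β) h5)

theorem common_nbr [Fintype F] (h4 : 4 ≤ Fintype.card F) (A B : Matrix.SpecialLinearGroup (Fin 2) F)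
    (hA0 : tr2 A = 0) (hA : ¬ IsScalarMat (A : Matrix (Fin 2) (Fin 2) F))
    (hB0 : tr2 B = 0) (hB : ¬ IsScalarMat (B : Matrix (Fin 2) (Fin 2) F))
    (hAB : ¬ IsScalarMat ((A * B : Matrix.SpecialLinearGroup (Fin 2) F) : Matrix (Fin 2) (Fin 2) F)) :
    Good (A * B) ∨ ∃ C : Matrix.SpecialLinearGroup (Fin 2) F, tr2 C = 0 ∧
      ¬ IsScalarMat (C : Matrix (Fin 2) (Fin 2) F) ∧ Good (A * C) ∧ Good (C * B) := by
  by_cases h2 : (2 : F) = 0
  · exact Or.inr (common_two h2 A B hA0 hA hB0 hB)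
  · by_cases hi : IsSquare (-1 : F)
    · exact common_one h2 hi A B hA0 hB0 hAB
    · exact common_three h4 h2 hi A B hA0 hB0 hAB

end aux

/-- Let F be a finite field with at least 4 elements and let X be a conjugacy class of involutions of PSL(2, F). The graph on X joining two distinct involutions whose product has odd order is connected and has diameter exactly 2. -/
theorem result {F : Type*} [Field F] [Fintype F] (hF : 4 ≤ Fintype.card F)
    (t : Matrix.ProjectiveSpecialLinearGroup (Fin 2) F) (ht : orderOf t = 2) :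
    (SimpleGraph.fromRel fun x y : {x : Matrix.ProjectiveSpecialLinearGroup (Fin 2) F // IsConj t x} =>
        Odd (orderOf (x.1 * y.1))).Connected ∧
      (SimpleGraph.fromRel fun x y : {x : Matrix.ProjectiveSpecialLinearGroup (Fin 2) F // IsConj t x} =>
        Odd (orderOf (x.1 * y.1))).diam = 2 := by
  classical
  obtain ⟨T, rfl⟩ := QuotientGroup.mk_surjective t
  obtain ⟨hT0, hT⟩ := trace_zero_of_order_two T ht
  have hrep : ∀ x : {x : Matrix.ProjectiveSpecialLinearGroup (Fin 2) F //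
      IsConj (QuotientGroup.mk T : Matrix.ProjectiveSpecialLinearGroup (Fin 2) F) x},
      ∃ A : Matrix.SpecialLinearGroup (Fin 2) F, x.1 = QuotientGroup.mk A ∧ tr2 A = 0 ∧
        ¬ IsScalarMat (A : Matrix (Fin 2) (Fin 2) F) := by
    intro x
    obtain ⟨c, hc⟩ := isConj_iff.mp x.2
    obtain ⟨P, rfl⟩ := QuotientGroup.mk_surjective c
    refine ⟨P * T * P⁻¹, hc.symm, ?_, ?_⟩
    · rw [tr2_conj]
      exact hT0
    · exact not_scalar_of_isConj (isConj_iff.mpr ⟨P, rfl⟩) hT
  have hmem : ∀ C : Matrix.SpecialLinearGroup (Fin 2) F, tr2 C = 0 →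
      ¬ IsScalarMat (C : Matrix (Fin 2) (Fin 2) F) →
      IsConj (QuotientGroup.mk T : Matrix.ProjectiveSpecialLinearGroup (Fin 2) F)
        (QuotientGroup.mk C) := by
    intro C h0 hC
    obtain ⟨P, hP⟩ := isConj_iff.mp (conj_of_trace_zero T C hT0 h0 hT hC)
    rw [isConj_iff]
    refine ⟨QuotientGroup.mk P, ?_⟩
    rw [← hP]
    rfl
  have hsq : ∀ A : Matrix.SpecialLinearGroup (Fin 2) F, tr2 A = 0 →
      (QuotientGroup.mk A : Matrix.ProjectiveSpecialLinearGroup (Fin 2) F) * QuotientGroup.mk A = 1 := by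
    intro A h0
    rw [← QuotientGroup.mk_mul, sq_eq_negOne_of_trace_zero A h0, mk_negOne]
  have hadj : ∀ (A C : Matrix.SpecialLinearGroup (Fin 2) F)
      (hA : IsConj (QuotientGroup.mk T : Matrix.ProjectiveSpecialLinearGroup (Fin 2) F)
        (QuotientGroup.mk A))
      (hC : IsConj (QuotientGroup.mk T : Matrix.ProjectiveSpecialLinearGroup (Fin 2) F)
        (QuotientGroup.mk C)), tr2 A = 0 → Good (A * C) →
      (SimpleGraph.fromRel fun x y : {x : Matrix.ProjectiveSpecialLinearGroup (Fin 2) F //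
          IsConj (QuotientGroup.mk T : Matrix.ProjectiveSpecialLinearGroup (Fin 2) F) x} =>
        Odd (orderOf (x.1 * y.1))).Adj ⟨QuotientGroup.mk A, hA⟩ ⟨QuotientGroup.mk C, hC⟩ := by
    intro A C hA hC hA0 hg
    rw [SimpleGraph.fromRel_adj]
    refine ⟨?_, Or.inl ?_⟩
    · intro h
      have h1 : (QuotientGroup.mk A : Matrix.ProjectiveSpecialLinearGroup (Fin 2) F) =
          QuotientGroup.mk C := congrArg Subtype.val h
      apply hg.1
      rw [← mk_eq_one_iff, QuotientGroup.mk_mul, ← h1]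
      exact hsq A hA0
    · show Odd (orderOf ((QuotientGroup.mk A : Matrix.ProjectiveSpecialLinearGroup (Fin 2) F) *
        QuotientGroup.mk C))
      rw [← QuotientGroup.mk_mul]
      exact odd_of_good _ hg
  apply graph_aux
  · intro u v huv
    obtain ⟨A, hAe, hA0, hA⟩ := hrep u
    obtain ⟨B, hBe, hB0, hB⟩ := hrep v
    obtain ⟨u1, u2⟩ := u
    obtain ⟨v1, v2⟩ := v
    dsimp only at hAe hBe
    subst hAe hBe
    have hAB : ¬ IsScalarMat ((A * B : Matrix.SpecialLinearGroup (Fin 2) F) :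
        Matrix (Fin 2) (Fin 2) F) := by
      intro hs
      apply huv
      apply Subtype.ext
      show (QuotientGroup.mk A : Matrix.ProjectiveSpecialLinearGroup (Fin 2) F) = QuotientGroup.mk B
      have h1 : (QuotientGroup.mk A : Matrix.ProjectiveSpecialLinearGroup (Fin 2) F) *
          QuotientGroup.mk B = 1 := by
        rw [← QuotientGroup.mk_mul]
        exact (mk_eq_one_iff _).mpr hs
      have h3 := hsq B hB0
      calc (QuotientGroup.mk A : Matrix.ProjectiveSpecialLinearGroup (Fin 2) F)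
          = QuotientGroup.mk A * (QuotientGroup.mk B * QuotientGroup.mk B) := by rw [h3, mul_one]
        _ = (QuotientGroup.mk A * QuotientGroup.mk B) * QuotientGroup.mk B := by rw [mul_assoc]
        _ = QuotientGroup.mk B := by rw [h1, one_mul]
    rcases common_nbr hF A B hA0 hA hB0 hB hAB with hg | ⟨C, hC0, hC, hg1, hg2⟩
    · exact Or.inl (hadj A B u2 v2 hA0 hg)
    · exact Or.inr ⟨⟨QuotientGroup.mk C, hmem C hC0 hC⟩, hadj A C u2 _ hA0 hg1, hadj C B _ v2 hC0 hg2⟩
  · obtain ⟨B, hB0, hB, hTB0, hTB⟩ := exists_nonadj hF T hT0 hT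
    refine ⟨⟨QuotientGroup.mk T, IsConj.refl _⟩, ⟨QuotientGroup.mk B, hmem B hB0 hB⟩, ?_, ?_⟩
    · intro h
      have h1 : (QuotientGroup.mk T : Matrix.ProjectiveSpecialLinearGroup (Fin 2) F) =
          QuotientGroup.mk B := congrArg Subtype.val h
      apply hTB
      rw [← mk_eq_one_iff, QuotientGroup.mk_mul, ← h1]
      exact hsq T hT0
    · rw [SimpleGraph.fromRel_adj]
      rintro ⟨hne, h | h⟩
      · have ho : orderOf ((QuotientGroup.mk T : Matrix.ProjectiveSpecialLinearGroup (Fin 2) F) *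
            QuotientGroup.mk B) = 2 := by
          rw [← QuotientGroup.mk_mul]
          exact order_two_of_trace_zero _ hTB0 hTB
        change Odd (orderOf ((QuotientGroup.mk T : Matrix.ProjectiveSpecialLinearGroup (Fin 2) F) *
            QuotientGroup.mk B)) at h
        rw [ho] at h
        exact (Nat.not_odd_iff_even.mpr even_two) h
      · have hBT : ¬ IsScalarMat ((B * T : Matrix.SpecialLinearGroup (Fin 2) F) :
            Matrix (Fin 2) (Fin 2) F) :=
          not_scalar_of_isConj (isConj_iff.mpr ⟨T⁻¹, by group⟩) hTB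
        have ho : orderOf ((QuotientGroup.mk B : Matrix.ProjectiveSpecialLinearGroup (Fin 2) F) *
            QuotientGroup.mk T) = 2 := by
          rw [← QuotientGroup.mk_mul]
          exact order_two_of_trace_zero _ (by rw [tr2_mul_comm]; exact hTB0) hBT
        change Odd (orderOf ((QuotientGroup.mk B : Matrix.ProjectiveSpecialLinearGroup (Fin 2) F) *
            QuotientGroup.mk T)) at h
        rw [ho] at h
        exact (Nat.not_odd_iff_even.mpr even_two) h

end Cfsg.Agent.S3266
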