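import Cfsg.Statements.S3299
import Cfsg.Agent.Lib.Helper5.LargeEx2
import Cfsg.Agent.Lib.Helper1.TransThompson

set_option autoImplicit false
open Cfsg

namespace Cfsg.Agent.S3299

open Cfsg.Agent.S5595 Cfsg.Agent.Lib.Helper5.LargeEx

theorem card_le_list {G : Type*} [Group G] (E : Subgroup G) (l : List G) (h : ∀ x ∈ E, x ∈ l) :
    Nat.card E ≤ l.length := by
  classical
  have h1 : Nat.card E = Set.ncard (E : Set G) := Nat.card_coe_set_eq (E : Set G)
  have h2 : (E : Set G) ⊆ (l.toFinset : Set G) := by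
    intro x hx
    simp only [Finset.mem_coe, List.mem_toFinset]
    exact h x hx
  have h3 : Set.ncard (E : Set G) ≤ Set.ncard (l.toFinset : Set G) :=
    Set.ncard_le_ncard h2 (Finset.finite_toSet _)
  rw [Set.ncard_coe_finset] at h3
  have h4 := List.toFinset_card_le l
  omega

/-- the centralizer in `E` of a non-central involution is non-abelian when `|E| > 8` -/
theorem exists_comm {G : Type*} [Group G] (E : Subgroup G) (z t : G) (hG : Good E z)
    (htE : t ∈ E) (ht1 : t ≠ 1) (htz : t ≠ z) (ht2 : t * t = 1) (hcard : 8 < Nat.card E) :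
    ∃ a ∈ E, ∃ b ∈ E, a * t = t * a ∧ b * t = t * b ∧ a * b * a⁻¹ * b⁻¹ = z := by
  obtain ⟨hz1, hz2, hzA, hAz, hA2, hA3, hAsq⟩ := hG
  by_contra hcon
  push_neg at hcon
  have hab : ∀ a ∈ E, ∀ b ∈ E, a * t = t * a → b * t = t * b → a * b = b * a := by
    intro a ha b hb hat hbt
    rcases hA2 a ha b hb with h | h
    · exact comm_of_eq_one h
    · exact absurd h (hcon a ha b hb hat hbt)
  have htzc : t * z = z * t := hAz t htE
  have hti : t⁻¹ = t := inv_eq_of_mul_eq_one_right ht2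
  have hzi : z⁻¹ = z := inv_eq_of_mul_eq_one_right hz2
  obtain ⟨a₀, ha₀, hax⟩ := exists_v E z t htzc ht1 htz htE hA2 hA3
  -- elements not commuting with t are a₀ times something commuting with t
  have hsplit : ∀ b ∈ E, ¬ b * t = t * b → (a₀⁻¹ * b) * t = t * (a₀⁻¹ * b) := by
    intro b hb hbt
    have h1 : b * t * b⁻¹ = t * z := by
      rcases hA2 b hb t htE with h | h
      · exact absurd (comm_of_eq_one h) hbt
      · rw [mul_inv_eq_iff_eq_mul.mp h, htzc]
    have : (a₀⁻¹ * b) * t * (a₀⁻¹ * b)⁻¹ = t := by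
      calc (a₀⁻¹ * b) * t * (a₀⁻¹ * b)⁻¹ = a₀⁻¹ * (b * t * b⁻¹) * a₀ := by group
        _ = a₀⁻¹ * (a₀ * t * a₀⁻¹) * a₀ := by rw [h1, hax]
        _ = t := by group
    exact mul_inv_eq_iff_eq_mul.mp this
  have hC0 : ∀ c ∈ E, c * t = t * c → c * a₀ = a₀ * c → c = 1 ∨ c = z := by
    intro c hc hct hca
    apply hA3 c hc
    intro b hb
    by_cases hbt : b * t = t * b
    · exact hab c hc b hb hct hbt
    · have h2 := hab c hc _ (E.mul_mem (E.inv_mem ha₀) hb) hct (hsplit b hb hbt)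
      calc c * b = c * a₀ * (a₀⁻¹ * b) := by group
        _ = a₀ * (c * (a₀⁻¹ * b)) := by rw [hca, mul_assoc]
        _ = a₀ * ((a₀⁻¹ * b) * c) := by rw [h2]
        _ = b * c := by group
  have hC : ∀ c ∈ E, c * t = t * c → c = 1 ∨ c = z ∨ c = t ∨ c = t * z := by
    intro c hc hct
    by_cases hca : c * a₀ = a₀ * c
    · rcases hC0 c hc hct hca with h | h
      · exact Or.inl h
      · exact Or.inr (Or.inl h)
    · have h1 : a₀ * c * a₀⁻¹ = c * z := by
        rcases hA2 a₀ ha₀ c hc with h | h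
        · exact absurd (comm_of_eq_one h).symm hca
        · rw [mul_inv_eq_iff_eq_mul.mp h, hAz c hc]
      have hd1 : (c * t) * t = t * (c * t) := by rw [hct, mul_assoc, hct]
      have hd2 : (c * t) * a₀ = a₀ * (c * t) := by
        have : a₀ * (c * t) * a₀⁻¹ = c * t := by
          calc a₀ * (c * t) * a₀⁻¹ = (a₀ * c * a₀⁻¹) * (a₀ * t * a₀⁻¹) := by group
            _ = (c * z) * (t * z) := by rw [h1, hax]
            _ = c * (z * t) * z := by group
            _ = c * (t * z) * z := by rw [htzc]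
            _ = c * t * (z * z) := by group
            _ = c * t := by rw [hz2, mul_one]
        exact (mul_inv_eq_iff_eq_mul.mp this).symm
      rcases hC0 (c * t) (E.mul_mem hc htE) hd1 hd2 with h | h
      · right; right; left
        have : c = t⁻¹ := eq_inv_of_mul_eq_one_left h
        rw [this, hti]
      · right; right; right
        have : c = z * t⁻¹ := eq_mul_inv_of_mul_eq h
        rw [this, hti, htzc]
  have hE8 : ∀ x ∈ E, x ∈ [1, z, t, t * z, a₀, a₀ * z, a₀ * t, a₀ * (t * z)] := by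
    intro x hx
    by_cases hxt : x * t = t * x
    · rcases hC x hx hxt with h | h | h | h <;> simp [h]
    · have hx' : x = a₀ * (a₀⁻¹ * x) := by group
      rcases hC _ (E.mul_mem (E.inv_mem ha₀) hx) (hsplit x hx hxt) with h | h | h | h
      · rw [hx', h]; simp
      · rw [hx', h]; simp
      · rw [hx', h]; simp
      · rw [hx', h]; simp
  have := card_le_list E _ hE8
  simp only [List.length_cons, List.length_nil] at this
  omega

/-- an involution of `E` outside the index-two subgroup -/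
theorem exists_invol {G : Type*} [Group G] (E K : Subgroup G) (z : G) (hG : Good E z)
    (hK2 : ∀ x ∈ E, ∀ y ∈ E, x ∉ K → y ∉ K → x * y ∈ K)
    (hzK : z ∈ K) (hEK : ¬ E ≤ K) (hcard : 8 < Nat.card E) :
    ∃ t ∈ E, t ∉ K ∧ t * t = 1 := by
  obtain ⟨hz1, hz2, hzA, hAz, hA2, hA3, hAsq⟩ := hG
  by_contra hcon
  push_neg at hcon
  have hzi : z⁻¹ = z := inv_eq_of_mul_eq_one_right hz2
  have hsq : ∀ x ∈ E, x ∉ K → x * x = z := by
    intro x hx hxK
    rcases hAsq x hx with h | h
    · exact absurd h (hcon x hx hxK)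
    · exact h
  obtain ⟨e, heE, heK⟩ := SetLike.not_le_iff_exists.mp hEK
  have hee := hsq e heE heK
  have heiK : e⁻¹ ∉ K := fun h => heK (by simpa using K.inv_mem h)
  -- e inverts the elements of E ⊓ K
  have hinv : ∀ m ∈ E, m ∈ K → e⁻¹ * m * e = m⁻¹ := by
    intro m hm hmK
    have h1 : e * m ∉ K := fun h => heK (by simpa using K.mul_mem h (K.inv_mem hmK))
    have h2 := hsq (e * m) (E.mul_mem heE hm) h1
    rw [← hee] at h2
    have h3 : m * e * m = e := by
      have : e * (m * e * m) = e * e := by rw [← h2]; group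
      exact mul_left_cancel this
    calc e⁻¹ * m * e = e⁻¹ * (m * e * m) * m⁻¹ := by group
      _ = m⁻¹ := by rw [h3]; group
  have hMab : ∀ m ∈ E, m ∈ K → ∀ m' ∈ E, m' ∈ K → m * m' = m' * m := by
    intro m hm hmK m' hm' hm'K
    have h1 := hinv (m * m') (E.mul_mem hm hm') (K.mul_mem hmK hm'K)
    have h2 : e⁻¹ * (m * m') * e = (e⁻¹ * m * e) * (e⁻¹ * m' * e) := by group
    rw [h2, hinv m hm hmK, hinv m' hm' hm'K, mul_inv_rev] at h1
    have h3 := congrArg (fun x => x⁻¹) h1
    simp only [mul_inv_rev, inv_inv] at h3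
    exact h3.symm
  have hdec : ∀ x ∈ E, x ∉ K → e⁻¹ * x ∈ K := fun x hx hxK =>
    hK2 _ (E.inv_mem heE) x hx heiK hxK
  -- involutions (or 1) of E ⊓ K are central
  have hM1 : ∀ m ∈ E, m ∈ K → m * m = 1 → m = 1 ∨ m = z := by
    intro m hm hmK hmm
    have hmi : m⁻¹ = m := inv_eq_of_mul_eq_one_right hmm
    have hme : m * e = e * m := by
      have := hinv m hm hmK
      rw [hmi] at this
      calc m * e = e * (e⁻¹ * m * e) := by group
        _ = e * m := by rw [this]
    apply hA3 m hm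
    intro b hb
    by_cases hbK : b ∈ K
    · exact hMab m hm hmK b hb hbK
    · have h2 := hMab m hm hmK _ (E.mul_mem (E.inv_mem heE) hb) (hdec b hb hbK)
      calc m * b = m * e * (e⁻¹ * b) := by group
        _ = e * (m * (e⁻¹ * b)) := by rw [hme, mul_assoc]
        _ = e * ((e⁻¹ * b) * m) := by rw [h2]
        _ = b * m := by group
  obtain ⟨m₁, hm₁⟩ : ∃ m₁ : G, ∀ m ∈ E, m ∈ K → m = 1 ∨ m = z ∨ m = m₁ ∨ m = m₁ * z := by
    by_cases hex : ∃ m ∈ E, m ∈ K ∧ m * m = z
    · obtain ⟨m₁, hm₁E, hm₁K, hm₁z⟩ := hex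
      refine ⟨m₁, fun m hm hmK => ?_⟩
      rcases hAsq m hm with h | h
      · rcases hM1 m hm hmK h with h' | h'
        · exact Or.inl h'
        · exact Or.inr (Or.inl h')
      · have hc := hMab m hm hmK m₁⁻¹ (E.inv_mem hm₁E) (K.inv_mem hm₁K)
        have h5 : m₁⁻¹ * m₁⁻¹ = z := by
          have : m₁⁻¹ * m₁⁻¹ = (m₁ * m₁)⁻¹ := by group
          rw [this, hm₁z, hzi]
        have h4 : (m * m₁⁻¹) * (m * m₁⁻¹) = 1 := by
          calc (m * m₁⁻¹) * (m * m₁⁻¹) = m * (m₁⁻¹ * m) * m₁⁻¹ := by group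
            _ = m * (m * m₁⁻¹) * m₁⁻¹ := by rw [hc]
            _ = (m * m) * (m₁⁻¹ * m₁⁻¹) := by group
            _ = 1 := by rw [h, h5, hz2]
        rcases hM1 _ (E.mul_mem hm (E.inv_mem hm₁E)) (K.mul_mem hmK (K.inv_mem hm₁K)) h4 with h' | h'
        · right; right; left
          exact mul_inv_eq_one.mp h'
        · right; right; right
          rw [mul_inv_eq_iff_eq_mul.mp h', hAz m₁ hm₁E]
    · push_neg at hex
      refine ⟨1, fun m hm hmK => ?_⟩
      rcases hAsq m hm with h | h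
      · rcases hM1 m hm hmK h with h' | h'
        · exact Or.inl h'
        · exact Or.inr (Or.inl h')
      · exact absurd h (hex m hm hmK)
  have hE8 : ∀ x ∈ E, x ∈ [1, z, m₁, m₁ * z, e, e * z, e * m₁, e * (m₁ * z)] := by
    intro x hx
    by_cases hxK : x ∈ K
    · rcases hm₁ x hx hxK with h | h | h | h <;> simp [h]
    · have hx' : x = e * (e⁻¹ * x) := by group
      rcases hm₁ _ (E.mul_mem (E.inv_mem heE) hx) (hdec x hx hxK) with h | h | h | h
      · rw [hx', h]; simp
      · rw [hx', h]; simp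
      · rw [hx', h]; simp
      · rw [hx', h]; simp
  have := card_le_list E _ hE8
  simp only [List.length_cons, List.length_nil] at this
  omega


open scoped IsMulCommutative in
theorem main_aux {G : Type*} [Group G] [Finite G] (hres : Cfsg.pResidual 2 G = ⊤)
    (H K E : Subgroup G) (z : G) (hHmem : ∀ g : G, g ∈ H ↔ g * z = z * g)
    (hG : Good E z) (hEnorm : ∀ c : G, c * z = z * c → ∀ p ∈ E, c * p * c⁻¹ ∈ E)
    (hA4 : ∀ g' : G, (∀ a ∈ E, g' * a = a * g') → g' ∈ E) (hE2 : IsPGroup 2 ↥E)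
    (hcard8 : 8 < Nat.card E) (hKH : K ≤ H) (hKi : K.relIndex H = 2) : E ≤ K := by
  classical
  have hG' := hG
  obtain ⟨hz1, hz2, hzA, hAz, hA2, hA3, hAsq⟩ := hG'
  have hzi : z⁻¹ = z := inv_eq_of_mul_eq_one_right hz2
  have hEH : ∀ a ∈ E, a ∈ H := fun a ha => (hHmem a).mpr (hAz a ha)
  have hidx : (K.subgroupOf H).index = 2 := hKi
  have hmulG : ∀ x ∈ H, ∀ y ∈ H, (x * y ∈ K ↔ (x ∈ K ↔ y ∈ K)) := by
    intro x hx y hy
    have := Subgroup.mul_mem_iff_of_index_two hidx (a := ⟨x, hx⟩) (b := ⟨y, hy⟩)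
    simpa [Subgroup.mem_subgroupOf] using this
  have hcommK : ∀ x ∈ H, ∀ y ∈ H, x * y * x⁻¹ * y⁻¹ ∈ K := by
    intro x hx y hy
    have hxi : x⁻¹ ∈ H := H.inv_mem hx
    have hyi : y⁻¹ ∈ H := H.inv_mem hy
    rw [hmulG _ (H.mul_mem (H.mul_mem hx hy) hxi) _ hyi, hmulG _ (H.mul_mem hx hy) _ hxi,
      hmulG _ hx _ hy, K.inv_mem_iff, K.inv_mem_iff]
    tauto
  have hconjK : ∀ h ∈ H, ∀ y ∈ H, y ∉ K → h⁻¹ * y * h ∉ K := by
    intro h hh y hy hyK
    have hhi : h⁻¹ ∈ H := H.inv_mem hh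
    rw [hmulG _ (H.mul_mem hhi hy) _ hh, hmulG _ hhi _ hy, K.inv_mem_iff]
    tauto
  -- z is a commutator of E, hence in K
  have hzK : z ∈ K := by
    by_contra hzK
    have hall : ∀ x ∈ E, x ∈ [1, z] := by
      intro x hx
      have : x = 1 ∨ x = z := by
        apply hA3 x hx
        intro y hy
        rcases hA2 x hx y hy with h | h
        · exact comm_of_eq_one h
        · exact absurd (h ▸ hcommK x (hEH x hx) y (hEH y hy)) hzK
      rcases this with h | h <;> simp [h]
    have := card_le_list E _ hall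
    simp only [List.length_cons, List.length_nil] at this
    omega
  by_contra hEK
  have hK2 : ∀ x ∈ E, ∀ y ∈ E, x ∉ K → y ∉ K → x * y ∈ K := by
    intro x hx y hy hxK hyK
    rw [hmulG x (hEH x hx) y (hEH y hy)]
    tauto
  obtain ⟨t, htE, htK, ht2⟩ := exists_invol E K z hG hK2 hzK hEK hcard8
  have ht1 : t ≠ 1 := fun h => htK (h ▸ K.one_mem)
  have htz : t ≠ z := fun h => htK (h ▸ hzK)
  have hti : t⁻¹ = t := inv_eq_of_mul_eq_one_right ht2
  have ht2' : t ^ 2 = 1 := by rw [pow_two]; exact ht2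
  have htH : t ∈ H := hEH t htE
  obtain ⟨a, haE, b, hbE, hat, hbt, habz⟩ := exists_comm E z t hG htE ht1 htz ht2 hcard8
  have hcentA : ∀ c : G, (∀ p ∈ E, p * t = t * p → c * p = p * c) →
      c = 1 ∨ c = z ∨ c = t ∨ c = t * z := by
    intro c hc
    have hcz : c * z = z * c := hc z hzA (hAz t htE).symm
    exact cent_P_four E z t hG htE ht1 htz ht2 hA4 c (fun p hp => hEnorm c hcz p hp) hc
  -- the quotient of order two
  haveI hn : (K.subgroupOf H).Normal := Subgroup.normal_of_index_eq_two hidx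
  have hcardQ : Nat.card (↥H ⧸ K.subgroupOf H) = 2 := by
    rw [← Subgroup.index_eq_card]; exact hidx
  have huniq : ∀ u v : ↥H ⧸ K.subgroupOf H, u ≠ 1 → v ≠ 1 → u = v := by
    intro u v hu hv
    exact ((Nat.card_eq_two_iff' 1).1 hcardQ).unique hu hv
  haveI hcm : IsMulCommutative (↥H ⧸ K.subgroupOf H) := by
    refine ⟨⟨fun u v => ?_⟩⟩
    by_cases hu : u = 1
    · rw [hu, one_mul, mul_one]
    · by_cases hv : v = 1
      · rw [hv, one_mul, mul_one]
      · rw [huniq u v hu hv]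
  have hϕ1 : ∀ (x : G) (hx : x ∈ H),
      (QuotientGroup.mk' (K.subgroupOf H)) ⟨x, hx⟩ = 1 ↔ x ∈ K := by
    intro x hx
    rw [QuotientGroup.mk'_apply, QuotientGroup.eq_one_iff, Subgroup.mem_subgroupOf]
  have hc1 : (QuotientGroup.mk' (K.subgroupOf H)) ⟨t, htH⟩ ≠ 1 := by
    rw [Ne, hϕ1]; exact htK
  have hc2 : (QuotientGroup.mk' (K.subgroupOf H)) ⟨t, htH⟩ ^ 2 = 1 := by
    rw [← map_pow]
    have : (⟨t, htH⟩ : ↥H) ^ 2 = 1 := Subtype.ext ht2'
    rw [this, map_one]
  -- the set of cosets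
  have hPgH : ∀ g h : G, h ∈ H → (g⁻¹ * t * g ∈ H ∧ g⁻¹ * t * g ∉ K) →
      ((g * h)⁻¹ * t * (g * h) ∈ H ∧ (g * h)⁻¹ * t * (g * h) ∉ K) := by
    intro g h hh hg
    have e : (g * h)⁻¹ * t * (g * h) = h⁻¹ * (g⁻¹ * t * g) * h := by group
    rw [e]
    exact ⟨H.mul_mem (H.mul_mem (H.inv_mem hh) hg.1) hh, hconjK h hh _ hg.1 hg.2⟩
  have hPgA : ∀ g p : G, p ∈ E → p * t = t * p → (g⁻¹ * t * g ∈ H ∧ g⁻¹ * t * g ∉ K) →
      ((p * g)⁻¹ * t * (p * g) ∈ H ∧ (p * g)⁻¹ * t * (p * g) ∉ K) := by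
    intro g p hp hpt hg
    have e : (p * g)⁻¹ * t * (p * g) = g⁻¹ * t * g := by
      calc (p * g)⁻¹ * t * (p * g) = g⁻¹ * (p⁻¹ * (t * p)) * g := by group
        _ = g⁻¹ * (p⁻¹ * (p * t)) * g := by rw [hpt]
        _ = g⁻¹ * t * g := by group
    rw [e]; exact hg
  let ΛX : Set (G ⧸ H) := {x | x.out⁻¹ * t * x.out ∈ H ∧ x.out⁻¹ * t * x.out ∉ K}
  have hmkΛ : ∀ g : G, (g⁻¹ * t * g ∈ H ∧ g⁻¹ * t * g ∉ K) → (QuotientGroup.mk g : G ⧸ H) ∈ ΛX := by
    intro g hg
    obtain ⟨h, hh⟩ := QuotientGroup.mk_out_eq_mul H g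
    show (QuotientGroup.mk g : G ⧸ H).out⁻¹ * t * (QuotientGroup.mk g : G ⧸ H).out ∈ H ∧
      (QuotientGroup.mk g : G ⧸ H).out⁻¹ * t * (QuotientGroup.mk g : G ⧸ H).out ∉ K
    rw [hh]
    exact hPgH g h h.2 hg
  let A : Subgroup G := E ⊓ Subgroup.centralizer ({t} : Set G)
  have hAmem : ∀ p : G, p ∈ A ↔ p ∈ E ∧ p * t = t * p := by
    intro p
    show p ∈ E ⊓ Subgroup.centralizer ({t} : Set G) ↔ _
    rw [Subgroup.mem_inf, Subgroup.mem_centralizer_singleton_iff]
  have hA2g : IsPGroup 2 ↥A := hE2.to_le inf_le_left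
  let Λs : SubMulAction ↥A (G ⧸ H) :=
    { carrier := ΛX
      smul_mem' := by
        intro c x hx
        have hc := (hAmem c.1).mp c.2
        have hx' : x = (QuotientGroup.mk x.out : G ⧸ H) := (QuotientGroup.out_eq' x).symm
        have e : c • x = (QuotientGroup.mk ((c : G) * x.out) : G ⧸ H) := by
          conv_lhs => rw [hx']
          rfl
        rw [e]
        exact hmkΛ _ (hPgA x.out c.1 hc.1 hc.2 hx) }
  have hfix : Nat.card (MulAction.fixedPoints ↥A ↥Λs) = 1 := by
    rw [Nat.card_eq_one_iff_unique]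
    have h1mem : (QuotientGroup.mk (1 : G) : G ⧸ H) ∈ ΛX := by
      apply hmkΛ
      simp only [inv_one, one_mul, mul_one]
      exact ⟨htH, htK⟩
    constructor
    · refine ⟨fun y y' => ?_⟩
      have key : ∀ y : MulAction.fixedPoints ↥A ↥Λs, (y.1.1 : G ⧸ H) = QuotientGroup.mk (1 : G) := by
        intro y
        have hyΛ : y.1.1 ∈ ΛX := y.1.2
        have hyg : (QuotientGroup.mk y.1.1.out : G ⧸ H) = y.1.1 := QuotientGroup.out_eq' _
        have hPg : y.1.1.out⁻¹ * t * y.1.1.out ∈ H ∧ y.1.1.out⁻¹ * t * y.1.1.out ∉ K := hyΛ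
        have hfixA : ∀ p ∈ E, p * t = t * p → y.1.1.out⁻¹ * p * y.1.1.out ∈ H := by
          intro p hp hpt
          have hpA : p⁻¹ ∈ A := A.inv_mem ((hAmem p).mpr ⟨hp, hpt⟩)
          have h1 := y.2 ⟨p⁻¹, hpA⟩
          have h2 : ((⟨p⁻¹, hpA⟩ : ↥A) • y.1).1 = y.1.1 := congrArg Subtype.val h1
          have h3 : (QuotientGroup.mk (p⁻¹ * y.1.1.out) : G ⧸ H) = QuotientGroup.mk y.1.1.out := by
            rw [hyg]
            have : ((⟨p⁻¹, hpA⟩ : ↥A) • y.1).1 = (QuotientGroup.mk (p⁻¹ * y.1.1.out) : G ⧸ H) := by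
              show (⟨p⁻¹, hpA⟩ : ↥A) • y.1.1 = _
              conv_lhs => rw [← hyg]
              rfl
            rw [← this]; exact h2
          have h4 := QuotientGroup.eq.mp h3
          have e : (p⁻¹ * y.1.1.out)⁻¹ * y.1.1.out = y.1.1.out⁻¹ * p * y.1.1.out := by group
          rw [e] at h4
          exact h4
        have hcz' : ∀ p ∈ E, p * t = t * p →
            (y.1.1.out * z * y.1.1.out⁻¹) * p = p * (y.1.1.out * z * y.1.1.out⁻¹) := by
          intro p hp hpt
          have h1 := (hHmem _).mp (hfixA p hp hpt)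
          calc (y.1.1.out * z * y.1.1.out⁻¹) * p
              = y.1.1.out * (z * (y.1.1.out⁻¹ * p * y.1.1.out)) * y.1.1.out⁻¹ := by group
            _ = y.1.1.out * ((y.1.1.out⁻¹ * p * y.1.1.out) * z) * y.1.1.out⁻¹ := by rw [h1]
            _ = p * (y.1.1.out * z * y.1.1.out⁻¹) := by group
        have hgzK : y.1.1.out⁻¹ * z * y.1.1.out ∈ K := by
          have e : y.1.1.out⁻¹ * z * y.1.1.out =
              (y.1.1.out⁻¹ * a * y.1.1.out) * (y.1.1.out⁻¹ * b * y.1.1.out) *
                (y.1.1.out⁻¹ * a * y.1.1.out)⁻¹ * (y.1.1.out⁻¹ * b * y.1.1.out)⁻¹ := by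
            rw [← habz]; group
          rw [e]
          exact hcommK _ (hfixA a haE hat) _ (hfixA b hbE hbt)
        rcases hcentA _ hcz' with h | h | h | h
        · exact absurd (conj_eq_one_iff.mp h) hz1
        · have : y.1.1.out ∈ H := by
            rw [hHmem]
            exact mul_inv_eq_iff_eq_mul.mp h
          rw [← hyg]
          exact QuotientGroup.eq.mpr (by simpa using H.inv_mem this)
        · exfalso
          apply hPg.2
          have : y.1.1.out⁻¹ * t * y.1.1.out = z := by rw [← h]; group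
          rw [this]; exact hzK
        · exfalso
          apply hPg.2
          have : y.1.1.out⁻¹ * t * y.1.1.out = z * (y.1.1.out⁻¹ * z * y.1.1.out) := by
            have ht' : t = (y.1.1.out * z * y.1.1.out⁻¹) * z := by
              rw [h, mul_assoc, hz2, mul_one]
            calc y.1.1.out⁻¹ * t * y.1.1.out
                = y.1.1.out⁻¹ * ((y.1.1.out * z * y.1.1.out⁻¹) * z) * y.1.1.out := by rw [← ht']
              _ = z * (y.1.1.out⁻¹ * z * y.1.1.out) := by group
          rw [this]; exact K.mul_mem hzK hgzK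
      exact Subtype.ext (Subtype.ext ((key y).trans (key y').symm))
    · refine ⟨⟨⟨QuotientGroup.mk (1 : G), h1mem⟩, ?_⟩⟩
      intro c
      apply Subtype.ext
      show c • (QuotientGroup.mk (1 : G) : G ⧸ H) = QuotientGroup.mk (1 : G)
      have hcH : (c : G) ∈ H := hEH _ ((hAmem c.1).mp c.2).1
      have e : c • (QuotientGroup.mk (1 : G) : G ⧸ H) = (QuotientGroup.mk ((c : G) * 1) : G ⧸ H) := by
        rfl
      rw [e]
      exact QuotientGroup.eq.mpr (by simpa using H.inv_mem hcH)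
  have hmod := hA2g.card_modEq_card_fixedPoints (↥Λs)
  rw [hfix] at hmod
  have hodd : Nat.card ↥Λs % 2 = 1 := by
    have := hmod
    unfold Nat.ModEq at this
    omega
  -- the transfer computation
  have hsmul_mk : ∀ (g : G) (x : G ⧸ H), g • x = (QuotientGroup.mk (g * x.out) : G ⧸ H) := by
    intro g x
    conv_lhs => rw [← QuotientGroup.out_eq' x]
    rfl
  have htfix : ∀ x : G ⧸ H, x.out⁻¹ * t * x.out ∈ H → t • x = x := by
    intro x hx
    rw [hsmul_mk]
    conv_rhs => rw [← QuotientGroup.out_eq' x]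
    apply QuotientGroup.eq.mpr
    have e : (t * x.out)⁻¹ * x.out = (x.out⁻¹ * t * x.out)⁻¹ := by group
    rw [e]; exact H.inv_mem hx
  haveI : Fintype (Quotient (MulAction.orbitRel (Subgroup.zpowers t) (G ⧸ H))) :=
    Fintype.ofFinite _
  have hper : ∀ x : G ⧸ H, Function.minimalPeriod (t • ·) x = 1 ∨
      Function.minimalPeriod (t • ·) x = 2 := by
    intro x
    have hdvd : Function.minimalPeriod (t • ·) x ∣ 2 := by
      rw [← MulAction.pow_smul_eq_iff_minimalPeriod_dvd, ht2', one_smul]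
    exact (Nat.dvd_prime Nat.prime_two).1 hdvd
  have hterm : ∀ (x : G ⧸ H)
      (hmem : x.out⁻¹ * t ^ Function.minimalPeriod (t • ·) x * x.out ∈ H),
      (QuotientGroup.mk' (K.subgroupOf H))
          ⟨x.out⁻¹ * t ^ Function.minimalPeriod (t • ·) x * x.out, hmem⟩ =
        if x ∈ ΛX then (QuotientGroup.mk' (K.subgroupOf H)) ⟨t, htH⟩ else 1 := by
    intro x hmem
    rcases hper x with h1 | h2
    · have hmem' : x.out⁻¹ * t * x.out ∈ H := by
        have := hmem
        rw [h1, pow_one] at this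
        exact this
      by_cases hx : x ∈ ΛX
      · rw [if_pos hx]
        apply huniq
        · rw [Ne, hϕ1, h1, pow_one]
          exact hx.2
        · exact hc1
      · rw [if_neg hx, hϕ1, h1, pow_one]
        by_contra hK
        exact hx ⟨hmem', hK⟩
    · have hx : x ∉ ΛX := by
        intro hx
        have hfixed : Function.IsFixedPt (t • ·) x := htfix x hx.1
        have := Function.minimalPeriod_eq_one_iff_isFixedPt.mpr hfixed
        omega
      rw [if_neg hx, hϕ1, h2, ht2']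
      simp
  have hV : MonoidHom.transfer (QuotientGroup.mk' (K.subgroupOf H)) t =
      (QuotientGroup.mk' (K.subgroupOf H)) ⟨t, htH⟩ ^
        (Finset.univ.filter (fun q : Quotient (MulAction.orbitRel (Subgroup.zpowers t) (G ⧸ H)) =>
          q.out ∈ ΛX)).card := by
    rw [MonoidHom.transfer_eq_prod_quotient_orbitRel_zpowers_quot,
      Finset.prod_congr rfl (fun q _ => hterm q.out _),
      Finset.prod_ite, Finset.prod_const, Finset.prod_const_one, mul_one]
  have hcount : (Finset.univ.filter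
      (fun q : Quotient (MulAction.orbitRel (Subgroup.zpowers t) (G ⧸ H)) => q.out ∈ ΛX)).card =
      Nat.card ↥Λs := by
    rw [← Fintype.card_subtype, ← Nat.card_eq_fintype_card]
    apply Nat.card_congr
    refine Equiv.ofBijective (fun q => ⟨q.1.out, q.2⟩) ⟨?_, ?_⟩
    · intro q q' h
      apply Subtype.ext
      have h' : q.1.out = q'.1.out := congrArg Subtype.val h
      exact Quotient.out_injective h'
    · rintro ⟨x, hx⟩
      have hxΛ : x ∈ ΛX := hx
      have htx : t • x = x := htfix x hxΛ.1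
      have hst : Subgroup.zpowers t ≤ MulAction.stabilizer G x :=
        Subgroup.zpowers_le.mpr (MulAction.mem_stabilizer_iff.mpr htx)
      have hfixed : ∀ s : Subgroup.zpowers t, s • x = x :=
        fun s => MulAction.mem_stabilizer_iff.mp (hst s.2)
      have hout : (Quotient.mk (MulAction.orbitRel (Subgroup.zpowers t) (G ⧸ H)) x).out = x := by
        have h := Quotient.mk_out (s := MulAction.orbitRel (Subgroup.zpowers t) (G ⧸ H)) x
        obtain ⟨s, hs⟩ := h
        rw [← hs]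
        exact hfixed s
      refine ⟨⟨Quotient.mk (MulAction.orbitRel (Subgroup.zpowers t) (G ⧸ H)) x, ?_⟩, ?_⟩
      · show (Quotient.mk (MulAction.orbitRel (Subgroup.zpowers t) (G ⧸ H)) x).out ∈ ΛX
        rw [hout]; exact hxΛ
      · exact Subtype.ext hout
  obtain ⟨k, hk⟩ : ∃ k, Nat.card ↥Λs = 2 * k + 1 := ⟨Nat.card ↥Λs / 2, by omega⟩
  have hV' : MonoidHom.transfer (QuotientGroup.mk' (K.subgroupOf H)) t =
      (QuotientGroup.mk' (K.subgroupOf H)) ⟨t, htH⟩ := by
    rw [hV, hcount, hk, pow_succ, pow_mul, hc2, one_pow, one_mul]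
  have hsurj : Function.Surjective
      (MonoidHom.transfer (QuotientGroup.mk' (K.subgroupOf H))) := by
    intro u
    by_cases hu : u = 1
    · exact ⟨1, by rw [map_one, hu]⟩
    · exact ⟨t, by rw [hV']; exact huniq _ _ hc1 hu⟩
  have hMi : (MonoidHom.transfer (QuotientGroup.mk' (K.subgroupOf H))).ker.index = 2 := by
    rw [Subgroup.index_ker, MonoidHom.range_eq_top.2 hsurj, Subgroup.card_top, hcardQ]
  exact Cfsg.Agent.Lib.Helper1.Tr.no_index_two_of_residual hres _ hMi

/-- Let G be a finite group with no nontrivial 2-group quotient (O^2(G) = G), z an involution of G with H = C_G(z), and suppose E = O_2(H) is extraspecial with C_G(E) ≤ E and of order 2^(2n+1) with n ≥ 2. Then E is contained in every normal subgroup of H of index 2. -/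
theorem result {G : Type*} [Group G] [Finite G] (hres : Cfsg.pResidual 2 G = ⊤) (z : G) (hz : orderOf z = 2)
    (E : Subgroup G) (hE : E = (Cfsg.pCore 2 ↥(Subgroup.centralizer ({z} : Set G))).map (Subgroup.centralizer ({z} : Set G)).subtype)
    (hext : Cfsg.IsExtraspecial 2 ↥E) (hcent : Subgroup.centralizer (E : Set G) ≤ E) (n : ℕ) (hn : 2 ≤ n) (hcard : Nat.card ↥E = 2 ^ (2 * n + 1))
    (K : Subgroup G) (hKH : K ≤ Subgroup.centralizer ({z} : Set G))
    (hKn : ∀ h ∈ Subgroup.centralizer ({z} : Set G), K.map (MulAut.conj h).toMonoidHom = K)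
    (hKi : K.relIndex (Subgroup.centralizer ({z} : Set G)) = 2) : E ≤ K := by
  have hEO : E = O2C z := hE
  subst hEO
  have hG := good_z z hz hext hcent
  have hc8 : 8 < Nat.card ↥(O2C z) := by
    rw [hcard]
    calc 8 < 2 ^ 5 := by norm_num
      _ ≤ 2 ^ (2 * n + 1) := Nat.pow_le_pow_right (by norm_num) (by omega)
  exact main_aux hres (Subgroup.centralizer {z}) K (O2C z) z
    (fun g => Subgroup.mem_centralizer_singleton_iff) hG
    (fun c hc p hp => O2C_norm z c p hc hp)
    (fun g' hg' => hcent (Subgroup.mem_centralizer_iff.mpr fun a ha => (hg' a ha).symm))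
    hext.1.1 hc8 hKH hKi

end Cfsg.Agent.S3299
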