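import Cfsg.Statements.S3303
import Mathlib
import Cfsg.Agent.S0017
import Cfsg.Agent.Lib.Helper9.Cores
import Cfsg.Agent.Lib.Helper16.Basic
import Cfsg.Agent.S3178
import Cfsg.Agent.S3305
import Cfsg.Agent.Lib.Helper18.UniqueInvolution

set_option autoImplicit false
open Cfsg

namespace Cfsg.Agent.S3303

/-- Let G be a finite solvable group in which the intersection of any two distinct Sylow 2-subgroups is cyclic. Then G/O(G) has a normal Sylow 2-subgroup, where O(G) is the largest normal subgroup of odd order. -/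
theorem result {G : Type*} [Group G] [Finite G] (hs : Group.IsSolvable G)
    (hC : ∀ S T : Sylow 2 G, S ≠ T → IsCyclic ↥((S : Subgroup G) ⊓ (T : Subgroup G))) :
    ∃ P : Sylow 2 (G ⧸ Cfsg.oddCore G), (P : Subgroup (G ⧸ Cfsg.oddCore G)).Normal := by
  classical
  have hK : (Nat.card (Cfsg.pPrimeCore 2 G)).Coprime 2 :=
    Cfsg.Agent.Lib.Helper9.pPrimeCore_coprime 2 G
  have hbot : Cfsg.pPrimeCore 2 (G ⧸ Cfsg.pPrimeCore 2 G) = ⊥ :=
    Cfsg.Agent.Lib.Helper9.pPrimeCore_quotient_eq_bot 2 G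
  have hsolq : Group.IsSolvable (G ⧸ Cfsg.pPrimeCore 2 G) := inferInstance
  have hCP := Cfsg.Agent.S0017.result (G := G ⧸ Cfsg.pPrimeCore 2 G) 2 hbot
  have hPp : IsPGroup 2 (Cfsg.pCore 2 (G ⧸ Cfsg.pPrimeCore 2 G)) :=
    Cfsg.Agent.Lib.Helper9.pCore_isPGroup 2 _
  have hCq := Cfsg.Agent.S3305.result hC (Cfsg.pPrimeCore 2 G)
  show ∃ P : Sylow 2 (G ⧸ Cfsg.pPrimeCore 2 G), (P : Subgroup (G ⧸ Cfsg.pPrimeCore 2 G)).Normal
  by_cases huniq : ∀ S T : Sylow 2 (G ⧸ Cfsg.pPrimeCore 2 G), S = T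
  · have hsub : Subsingleton (Sylow 2 (G ⧸ Cfsg.pPrimeCore 2 G)) := ⟨huniq⟩
    obtain ⟨P⟩ : Nonempty (Sylow 2 (G ⧸ Cfsg.pPrimeCore 2 G)) := inferInstance
    exact ⟨P, Sylow.normal_of_subsingleton P⟩
  · exfalso
    push Not at huniq
    obtain ⟨S, T, hST⟩ := huniq
    have hcyc := hCq S T hST
    have hPle : Cfsg.pCore 2 (G ⧸ Cfsg.pPrimeCore 2 G) ≤ (S : Subgroup _) ⊓ (T : Subgroup _) :=
      le_inf (Cfsg.Agent.Lib.Helper16.Basic.pCore_le_sylow S)
        (Cfsg.Agent.Lib.Helper16.Basic.pCore_le_sylow T)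
    obtain ⟨⟨c, hcI⟩, hgen⟩ := hcyc.exists_generator
    have hPc : Cfsg.pCore 2 (G ⧸ Cfsg.pPrimeCore 2 G) ≤ Subgroup.zpowers c := by
      intro a ha
      obtain ⟨k, hk⟩ := Subgroup.mem_zpowers_iff.1 (hgen ⟨a, hPle ha⟩)
      refine Subgroup.mem_zpowers_iff.2 ⟨k, ?_⟩
      have h1 := congrArg Subtype.val hk
      simpa using h1
    have hcomm : ∀ a ∈ Cfsg.pCore 2 (G ⧸ Cfsg.pPrimeCore 2 G),
        ∀ b ∈ Cfsg.pCore 2 (G ⧸ Cfsg.pPrimeCore 2 G), a * b = b * a := by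
      intro a ha b hb
      obtain ⟨i, rfl⟩ := Subgroup.mem_zpowers_iff.1 (hPc ha)
      obtain ⟨j, rfl⟩ := Subgroup.mem_zpowers_iff.1 (hPc hb)
      exact ((Commute.refl c).zpow_zpow i j).eq
    have hodd : ∀ (g : G ⧸ Cfsg.pPrimeCore 2 G) (m : ℕ), Odd m → g ^ m = 1 → g = 1 := by
      intro g m hm hgm
      obtain ⟨φ, hφ⟩ : ∃ φ : MulAut (G ⧸ Cfsg.pPrimeCore 2 G), φ = MulAut.conj g := ⟨_, rfl⟩
      have hφm : ∀ y, (φ ^ m) y = y := by
        intro y
        rw [hφ, ← map_pow, hgm, map_one]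
        rfl
      have hφP : ∀ y ∈ Cfsg.pCore 2 (G ⧸ Cfsg.pPrimeCore 2 G),
          φ y ∈ Cfsg.pCore 2 (G ⧸ Cfsg.pPrimeCore 2 G) := by
        intro y hy
        rw [hφ, MulAut.conj_apply]
        exact (Cfsg.pCore_normal 2 (G ⧸ Cfsg.pPrimeCore 2 G)).conj_mem y hy g
      have hφinv : ∀ w ∈ Cfsg.pCore 2 (G ⧸ Cfsg.pPrimeCore 2 G), w ^ 2 = 1 → φ w = w := by
        intro w hw hw2
        by_cases hw1 : w = 1
        · rw [hw1, map_one]
        · have hwo : orderOf w = 2 := orderOf_eq_prime hw2 hw1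
          have h1 : φ w ∈ Subgroup.zpowers w := by
            apply Cfsg.Agent.Lib.Helper18.UniqueInvolution.mem_zpowers_of_pow_orderOf c _ _
              (hPc (hφP w hw)) (hPc hw)
            rw [hwo, ← map_pow, hw2, map_one]
          obtain ⟨k, hk⟩ := (mem_powers_iff_mem_zpowers).2 h1
          have hk' : w ^ k = φ w := hk
          rcases Nat.even_or_odd k with ⟨s, rfl⟩ | ⟨s, rfl⟩
          · exfalso
            apply hw1
            rw [← two_mul, pow_mul, hw2, one_pow] at hk'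
            exact (map_eq_one_iff φ φ.injective).1 hk'.symm
          · rw [← hk', pow_succ, pow_mul, hw2, one_pow, one_mul]
      have hfix : ∀ y ∈ Cfsg.pCore 2 (G ⧸ Cfsg.pPrimeCore 2 G), φ y = y := by
        intro y hy
        obtain ⟨j, hj⟩ := hPp ⟨y, hy⟩
        have hj' : y ^ (2 ^ j) = 1 := by
          have := congrArg Subtype.val hj
          simpa using this
        exact Cfsg.Agent.S3178.odd_aut_trivial _ hcomm φ hφP m hm (fun y _ => hφm y) hφinv j y hy hj'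
      have h2 : g ∈ Subgroup.centralizer (Cfsg.pCore 2 (G ⧸ Cfsg.pPrimeCore 2 G) : Set _) := by
        rw [Subgroup.mem_centralizer_iff]
        intro y hy
        have h3 := hfix y hy
        rw [hφ, MulAut.conj_apply] at h3
        calc y * g = (g * y * g⁻¹) * g := by rw [h3]
          _ = g * y := by group
      have h4 := hCP h2
      obtain ⟨j, hj⟩ := hPp ⟨g, h4⟩
      have h5 : g ^ (2 ^ j) = 1 := by
        have := congrArg Subtype.val hj
        simpa using this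
      rw [← orderOf_eq_one_iff]
      have h6 : orderOf g ∣ Nat.gcd m (2 ^ j) :=
        Nat.dvd_gcd (orderOf_dvd_of_pow_eq_one hgm) (orderOf_dvd_of_pow_eq_one h5)
      have h7 : Nat.Coprime m (2 ^ j) := Nat.Coprime.pow_right _ (Nat.coprime_two_right.2 hm)
      rw [h7] at h6
      exact Nat.dvd_one.1 h6
    have hQ2 : IsPGroup 2 (G ⧸ Cfsg.pPrimeCore 2 G) := by
      intro g
      obtain ⟨k, m, hm, hkm⟩ := Nat.exists_eq_two_pow_mul_odd (orderOf_pos g).ne'
      refine ⟨k, ?_⟩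
      apply hodd (g ^ (2 ^ k)) m hm
      rw [← pow_mul, ← hkm, pow_orderOf_eq_one]
    have htop : IsPGroup 2 (⊤ : Subgroup (G ⧸ Cfsg.pPrimeCore 2 G)) := hQ2.to_subgroup ⊤
    have hS := S.is_maximal' htop le_top
    have hT := T.is_maximal' htop le_top
    exact hST (Sylow.ext (hS.symm.trans hT))

end Cfsg.Agent.S3303
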