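import Cfsg.Statements.S3378
import Mathlib
import Cfsg.Agent.Lib.Helper18.SL25Pres
import Cfsg.Agent.Lib.Helper2.Simple60
import Cfsg.Agent.Lib.Helper1.CharGalois
import Cfsg.Agent.S3377
import Cfsg.Agent.S3224

set_option autoImplicit false
open Cfsg

namespace Cfsg.Agent.S3378

open Cfsg.Agent.Lib.Helper18 Cfsg.Agent.Lib.Helper1

theorem sol_ext {G : Type*} [Group G] (N : Subgroup G) [N.Normal] (s1 : Group.IsSolvable N)
    (s2 : Group.IsSolvable (G ⧸ N)) : Group.IsSolvable G := by
  apply Group.isSolvable_of_ker_le_range N.subtype (QuotientGroup.mk' N)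
  rw [QuotientGroup.ker_mk', Subgroup.range_subtype]

theorem sylow_card {G : Type*} [Group G] [Finite G] (p k m : ℕ) [hp : Fact p.Prime]
    (hG : Nat.card G = p ^ k * m) (hm : ¬ p ∣ m) (P : Sylow p G) :
    Nat.card (P : Subgroup G) = p ^ k := by
  have hm0 : m ≠ 0 := by
    rintro rfl
    exact hm (dvd_zero p)
  rw [Sylow.card_eq_multiplicity, hG, Nat.factorization_mul (pow_ne_zero _ hp.out.ne_zero) hm0,
    Nat.Prime.factorization_pow hp.out, Finsupp.add_apply, Finsupp.single_eq_same,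
    Nat.factorization_eq_zero_of_not_dvd hm, add_zero]

open scoped Pointwise in
theorem mem_smul_sylow {G : Type*} [Group G] {p : ℕ} (P : Sylow p G) (g t : G) :
    t ∈ ((g • P : Sylow p G) : Subgroup G) ↔ g⁻¹ * t * g ∈ (P : Subgroup G) := by
  rw [Sylow.coe_subgroup_smul, Subgroup.mem_pointwise_smul_iff_inv_smul_mem]
  simp [MulAut.smul_def]

theorem q8_invol_unique {Q : Type*} [Group Q] (e : Q ≃* QuaternionGroup 2) (u v : Q)
    (hu : u ^ 2 = 1) (hu1 : u ≠ 1) (hv : v ^ 2 = 1) (hv1 : v ≠ 1) : u = v := by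
  have key : ∀ w : QuaternionGroup 2, w ^ 2 = 1 → w = 1 ∨ w = QuaternionGroup.a 2 := by decide
  have h1 := key (e u) (by rw [← map_pow, hu, map_one])
  have h2 := key (e v) (by rw [← map_pow, hv, map_one])
  have h1' : e u = QuaternionGroup.a 2 := by
    rcases h1 with h | h
    · exact absurd (e.map_eq_one_iff.1 h) hu1
    · exact h
  have h2' : e v = QuaternionGroup.a 2 := by
    rcases h2 with h | h
    · exact absurd (e.map_eq_one_iff.1 h) hv1
    · exact h
  exact e.injective (h1'.trans h2'.symm)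

theorem solvable_thirty.{u} {H : Type u} [Group H] [Finite H] (h : Nat.card H = 30) :
    Group.IsSolvable H := by
  have : Fact (Nat.Prime 5) := ⟨by norm_num⟩
  obtain ⟨P⟩ : Nonempty (Sylow 5 H) := inferInstance
  have hP5 : Nat.card (P : Subgroup H) = 5 := by
    have := sylow_card 5 1 6 (by rw [h]; norm_num) (by norm_num) P
    rw [this]; norm_num
  have hidx : (P : Subgroup H).index = 6 := by
    have := Subgroup.card_mul_index (P : Subgroup H)
    rw [h, hP5] at this
    omega
  have hd := Sylow.card_dvd_index P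
  rw [hidx] at hd
  have hmod := card_sylow_modEq_one 5 H
  obtain ⟨n, hn⟩ : ∃ n, n = Nat.card (Sylow 5 H) := ⟨_, rfl⟩
  rw [← hn] at hd hmod
  have hle : n ≤ 6 := Nat.le_of_dvd (by norm_num) hd
  have hpos : 0 < n := by rw [hn]; exact Nat.card_pos
  unfold Nat.ModEq at hmod
  have hc : n = 1 ∨ n = 6 := by interval_cases n <;> omega
  rcases hc with h1 | h6
  · rw [hn] at h1
    have : Subsingleton (Sylow 5 H) := (Nat.card_eq_one_iff_unique.1 h1).1
    have hPn : (P : Subgroup H).Normal := Sylow.normal_of_subsingleton P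
    have hq : Nat.card (H ⧸ (P : Subgroup H)) = 6 := by
      rw [← Subgroup.index_eq_card]; exact hidx
    exact sol_ext (P : Subgroup H)
      (solvable_of_two_primes 5 2 1 0 (by norm_num) (by norm_num) (by rw [hP5]; norm_num))
      (solvable_of_two_primes 2 3 1 1 (by norm_num) (by norm_num) (by rw [hq]; norm_num))
  · rw [hn] at h6
    have hnorm_idx : (Subgroup.normalizer ((P : Subgroup H) : Set H)).index = 6 := by
      have h0 : Nat.card (Sylow 5 H) = (Subgroup.normalizer ((P : Subgroup H) : Set H)).index :=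
        Sylow.card_eq_index_normalizer P
      rw [← h0]; exact h6
    have hNcard : Nat.card (Subgroup.normalizer ((P : Subgroup H) : Set H)) = 5 := by
      have := Subgroup.card_mul_index (Subgroup.normalizer ((P : Subgroup H) : Set H))
      rw [h, hnorm_idx] at this
      omega
    have hNeq : Subgroup.normalizer ((P : Subgroup H) : Set H) = P := by
      symm
      apply Subgroup.eq_of_le_of_card_ge Subgroup.le_normalizer
      rw [hNcard, hP5]
    have hcyc : IsCyclic (P : Subgroup H) := isCyclic_of_prime_card hP5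
    have hle' : Subgroup.normalizer ((P : Subgroup H) : Set H) ≤
        Subgroup.centralizer ((P : Subgroup H) : Set H) := by
      rw [hNeq]
      intro g hg
      rw [Subgroup.mem_centralizer_iff]
      intro w hw
      have := (IsCyclic.isMulCommutative (α := ↥(P : Subgroup H))).is_comm.comm ⟨w, hw⟩ ⟨g, hg⟩
      exact congrArg Subtype.val this
    have hc := MonoidHom.ker_transferSylow_isComplement' P hle'
    obtain ⟨N, hNdef⟩ : ∃ N : Subgroup H, N = (MonoidHom.transferSylow P hle').ker := ⟨_, rfl⟩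
    rw [← hNdef] at hc
    have hNn : N.Normal := by rw [hNdef]; infer_instance
    have hNc : Nat.card N = 6 := by
      have := hc.card_mul_card
      rw [h, hP5] at this
      omega
    have hq : Nat.card (H ⧸ N) = 5 := by
      have := Subgroup.card_eq_card_quotient_mul_card_subgroup N
      rw [h, hNc] at this
      omega
    exact sol_ext N
      (solvable_of_two_primes 2 3 1 1 (by norm_num) (by norm_num) (by rw [hNc]; norm_num))
      (solvable_of_two_primes 5 2 1 0 (by norm_num) (by norm_num) (by rw [hq]; norm_num))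

theorem solvable_small.{u} {H : Type u} [Group H] [Finite H] (hd : Nat.card H ∣ 60)
    (hlt : Nat.card H < 60) : Group.IsSolvable H := by
  obtain ⟨n, hn⟩ : ∃ n, n = Nat.card H := ⟨_, rfl⟩
  rw [← hn] at hd hlt
  have hpos : 0 < n := by rw [hn]; exact Nat.card_pos
  have hcases : n = 1 ∨ n = 2 ∨ n = 3 ∨ n = 4 ∨ n = 5 ∨ n = 6 ∨ n = 10 ∨ n = 12 ∨ n = 15 ∨
      n = 20 ∨ n = 30 := by
    interval_cases n <;> omega
  have p2 := Nat.prime_two
  have p3 := Nat.prime_three
  have p5 : Nat.Prime 5 := by norm_num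
  rcases hcases with h | h | h | h | h | h | h | h | h | h | h
  · exact solvable_of_two_primes 2 3 0 0 p2 p3 (by rw [← hn, h]; norm_num)
  · exact solvable_of_two_primes 2 3 1 0 p2 p3 (by rw [← hn, h]; norm_num)
  · exact solvable_of_two_primes 2 3 0 1 p2 p3 (by rw [← hn, h]; norm_num)
  · exact solvable_of_two_primes 2 3 2 0 p2 p3 (by rw [← hn, h]; norm_num)
  · exact solvable_of_two_primes 2 5 0 1 p2 p5 (by rw [← hn, h]; norm_num)
  · exact solvable_of_two_primes 2 3 1 1 p2 p3 (by rw [← hn, h]; norm_num)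
  · exact solvable_of_two_primes 2 5 1 1 p2 p5 (by rw [← hn, h]; norm_num)
  · exact solvable_of_two_primes 2 3 2 1 p2 p3 (by rw [← hn, h]; norm_num)
  · exact solvable_of_two_primes 3 5 1 1 p3 p5 (by rw [← hn, h]; norm_num)
  · exact solvable_of_two_primes 2 5 2 1 p2 p5 (by rw [← hn, h]; norm_num)
  · exact solvable_thirty (by rw [← hn, h])

theorem part1.{u} (G : Type u) [Group G] [Finite G] (hG : Nat.card G = 120)
    (hns : ¬ Group.IsSolvable G)
    (hQ : ∀ P : Sylow 2 G, Nonempty ((P : Subgroup G) ≃* QuaternionGroup 2)) :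
    Nonempty (G ≃* Matrix.SpecialLinearGroup (Fin 2) (ZMod 5)) := by
  have : Fact (Nat.Prime 2) := ⟨Nat.prime_two⟩
  have : Fact (Nat.Prime 5) := ⟨by norm_num⟩
  obtain ⟨Q⟩ : Nonempty (Sylow 2 G) := inferInstance
  obtain ⟨e⟩ := hQ Q
  have hQcard : Nat.card (Q : Subgroup G) = 8 := by
    rw [Nat.card_congr e.toEquiv, Nat.card_eq_fintype_card, QuaternionGroup.card]
  obtain ⟨z0, hz0⟩ : ∃ z0 : (Q : Subgroup G), z0 = e.symm (QuaternionGroup.a 2) := ⟨_, rfl⟩
  have hz0_2 : z0 ^ 2 = 1 := by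
    rw [hz0, ← map_pow]
    have : (QuaternionGroup.a 2 : QuaternionGroup 2) ^ 2 = 1 := by decide
    rw [this, map_one]
  have hz0_1 : z0 ≠ 1 := by
    rw [hz0]
    intro h
    have h2 : (QuaternionGroup.a 2 : QuaternionGroup 2) = 1 := by
      have := congrArg e h
      rwa [MulEquiv.apply_symm_apply, map_one] at this
    revert h2
    decide
  obtain ⟨z, hz⟩ : ∃ z : G, z = (z0 : G) := ⟨_, rfl⟩
  have hzQ : z ∈ (Q : Subgroup G) := by rw [hz]; exact z0.2
  have hz2 : z ^ 2 = 1 := by
    rw [hz, ← Subgroup.coe_pow, hz0_2]; rfl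
  have hz1 : z ≠ 1 := by
    rw [hz]
    intro h
    apply hz0_1
    exact Subtype.ext h
  have huniq : ∀ (Q' : Sylow 2 G) (u v : G), u ∈ (Q' : Subgroup G) → v ∈ (Q' : Subgroup G) →
      u ^ 2 = 1 → u ≠ 1 → v ^ 2 = 1 → v ≠ 1 → u = v := by
    intro Q' u v hu hv hu2 hu1 hv2 hv1
    obtain ⟨e'⟩ := hQ Q'
    have := q8_invol_unique e' ⟨u, hu⟩ ⟨v, hv⟩
      (Subtype.ext (by rw [Subgroup.coe_pow, Subgroup.coe_one]; exact hu2))
      (fun h => hu1 (congrArg Subtype.val h))
      (Subtype.ext (by rw [Subgroup.coe_pow, Subgroup.coe_one]; exact hv2))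
      (fun h => hv1 (congrArg Subtype.val h))
    exact congrArg Subtype.val this
  have hconj : ∀ t : G, t ^ 2 = 1 → t ≠ 1 → ∃ g : G, g⁻¹ * t * g = z := by
    intro t ht2 ht1
    have hto : orderOf t = 2 := orderOf_eq_prime ht2 ht1
    have hp : IsPGroup 2 (Subgroup.zpowers t) :=
      IsPGroup.of_card (n := 1) (by rw [Nat.card_zpowers, hto, pow_one])
    obtain ⟨Q', hQ'⟩ := hp.exists_le_sylow
    obtain ⟨g, hg⟩ := MulAction.exists_smul_eq G Q Q'
    have htQ' : t ∈ ((g • Q : Sylow 2 G) : Subgroup G) := by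
      rw [hg]; exact hQ' (Subgroup.mem_zpowers t)
    rw [mem_smul_sylow] at htQ'
    refine ⟨g, huniq Q _ _ htQ' hzQ ?_ ?_ hz2 hz1⟩
    · have : g⁻¹ * t * g = g⁻¹ * t * g⁻¹⁻¹ := by rw [inv_inv]
      rw [this, conj_pow, ht2]; group
    · intro h
      apply ht1
      have : t = g * (g⁻¹ * t * g) * g⁻¹ := by group
      rw [this, h]; group
  obtain ⟨P5⟩ : Nonempty (Sylow 5 G) := inferInstance
  have hP5 : Nat.card (P5 : Subgroup G) = 5 := by
    have := sylow_card 5 1 24 (by rw [hG]; norm_num) (by norm_num) P5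
    rw [this]; norm_num
  have hidx5 : (P5 : Subgroup G).index = 24 := by
    have := Subgroup.card_mul_index (P5 : Subgroup G)
    rw [hG, hP5] at this
    omega
  have hn5 : Nat.card (Sylow 5 G) = 6 := by
    have hd := Sylow.card_dvd_index P5
    rw [hidx5] at hd
    have hmod := card_sylow_modEq_one 5 G
    obtain ⟨n, hn⟩ : ∃ n, n = Nat.card (Sylow 5 G) := ⟨_, rfl⟩
    rw [← hn] at hd hmod ⊢
    have hle : n ≤ 24 := Nat.le_of_dvd (by norm_num) hd
    have hpos : 0 < n := by rw [hn]; exact Nat.card_pos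
    unfold Nat.ModEq at hmod
    have hc : n = 1 ∨ n = 6 := by interval_cases n <;> omega
    rcases hc with h1 | h6
    · exfalso
      apply hns
      rw [hn] at h1
      have : Subsingleton (Sylow 5 G) := (Nat.card_eq_one_iff_unique.1 h1).1
      have hPn : (P5 : Subgroup G).Normal := Sylow.normal_of_subsingleton P5
      have hq : Nat.card (G ⧸ (P5 : Subgroup G)) = 24 := by
        rw [← Subgroup.index_eq_card]; exact hidx5
      exact sol_ext (P5 : Subgroup G)
        (solvable_of_two_primes 5 2 1 0 (by norm_num) (by norm_num) (by rw [hP5]; norm_num))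
        (solvable_of_two_primes 2 3 3 1 (by norm_num) (by norm_num) (by rw [hq]; norm_num))
    · exact h6
  obtain ⟨K, hK⟩ : ∃ K : Subgroup G, K = (MulAction.toPermHom G (Sylow 5 G)).ker := ⟨_, rfl⟩
  have hKn : K.Normal := by rw [hK]; infer_instance
  have hKmem : ∀ g : G, g ∈ K ↔ ∀ P : Sylow 5 G, g • P = P := by
    intro g
    rw [hK, MonoidHom.mem_ker]
    constructor
    · intro h P
      have := congrArg (fun σ : Equiv.Perm (Sylow 5 G) => σ P) h
      exact this
    · intro h
      apply Equiv.ext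
      intro P
      exact h P
  have hNcard : ∀ P : Sylow 5 G,
      Nat.card (Subgroup.normalizer ((P : Subgroup G) : Set G)) = 20 := by
    intro P
    have h1 : Nat.card (Sylow 5 G) = (Subgroup.normalizer ((P : Subgroup G) : Set G)).index :=
      Sylow.card_eq_index_normalizer P
    rw [hn5] at h1
    have h2 := Subgroup.card_mul_index (Subgroup.normalizer ((P : Subgroup G) : Set G))
    rw [hG, ← h1] at h2
    omega
  have hKle : ∀ P : Sylow 5 G, K ≤ Subgroup.normalizer ((P : Subgroup G) : Set G) := by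
    intro P g hg
    exact Sylow.smul_eq_iff_mem_normalizer.1 ((hKmem g).1 hg P)
  have hK5 : ¬ 5 ∣ Nat.card K := by
    intro h5
    obtain ⟨k, hk⟩ := exists_prime_orderOf_dvd_card' (G := K) 5 h5
    have hko : orderOf (k : G) = 5 := by rw [Subgroup.orderOf_coe]; exact hk
    have hp : IsPGroup 5 (Subgroup.zpowers (k : G)) :=
      IsPGroup.of_card (n := 1) (by rw [Nat.card_zpowers, hko, pow_one])
    obtain ⟨P', hP'⟩ := hp.exists_le_sylow
    have hP'c : Nat.card (P' : Subgroup G) = 5 := by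
      have := sylow_card 5 1 24 (by rw [hG]; norm_num) (by norm_num) P'
      rw [this]; norm_num
    have hP'eq : Subgroup.zpowers (k : G) = (P' : Subgroup G) :=
      Subgroup.eq_of_le_of_card_ge hP' (by rw [hP'c, Nat.card_zpowers, hko])
    have hP'K : (P' : Subgroup G) ≤ K := by
      rw [← hP'eq, Subgroup.zpowers_le]; exact k.2
    have hex : ∃ P'' : Sylow 5 G, P'' ≠ P' := by
      by_contra hall
      push Not at hall
      have hs : Subsingleton (Sylow 5 G) := ⟨fun a b => (hall a).trans (hall b).symm⟩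
      have := Nat.card_eq_one_iff_unique.2 ⟨hs, ⟨P'⟩⟩
      omega
    obtain ⟨P'', hne⟩ := hex
    have h1 : (P' : Subgroup G) ≤ Subgroup.normalizer ((P'' : Subgroup G) : Set G) :=
      hP'K.trans (hKle P'')
    have h2 : (P' : Subgroup G) ⊓ Subgroup.normalizer ((P'' : Subgroup G) : Set G) =
        (P' : Subgroup G) ⊓ (P'' : Subgroup G) := P'.isPGroup'.inf_normalizer_sylow P''
    rw [inf_eq_left.2 h1] at h2
    have h3 : (P' : Subgroup G) ≤ P'' := inf_eq_left.1 h2.symm
    have h4 := P'.is_maximal' P''.isPGroup' h3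
    exact hne (Sylow.ext h4)
  have hKcard : Nat.card K = 1 ∨ Nat.card K = 2 ∨ Nat.card K = 4 := by
    have h1 : Nat.card K ∣ 20 := by
      rw [← hNcard P5]
      exact Subgroup.card_dvd_of_le (hKle P5)
    obtain ⟨n, hn⟩ : ∃ n, n = Nat.card K := ⟨_, rfl⟩
    rw [← hn] at h1 hK5 ⊢
    have hle : n ≤ 20 := Nat.le_of_dvd (by norm_num) h1
    have hpos : 0 < n := by rw [hn]; exact Nat.card_pos
    interval_cases n <;> omega
  have hKp : IsPGroup 2 K := by
    rcases hKcard with h | h | h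
    · exact IsPGroup.of_card (n := 0) (by rw [h]; norm_num)
    · exact IsPGroup.of_card (n := 1) (by rw [h]; norm_num)
    · exact IsPGroup.of_card (n := 2) (by rw [h]; norm_num)
  have hzK : z ∈ K := by
    rw [hKmem]
    intro P
    by_contra hzP
    have hinj : Function.Injective (fun w : (Q : Subgroup G) => (w : G) • P) := by
      intro w1 w2 h
      by_contra hne
      have h' : (w1 : G) • P = (w2 : G) • P := h
      obtain ⟨u, hu⟩ : ∃ u : G, u = (w2 : G)⁻¹ * (w1 : G) := ⟨_, rfl⟩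
      have huQ : u ∈ (Q : Subgroup G) := by
        rw [hu]; exact Subgroup.mul_mem _ (Subgroup.inv_mem _ w2.2) w1.2
      have huP : u • P = P := by rw [hu, mul_smul, h', inv_smul_smul]
      have hu1 : u ≠ 1 := by
        intro h1
        apply hne
        rw [hu] at h1
        have : (w1 : G) = (w2 : G) := by
          calc (w1 : G) = (w2 : G) * ((w2 : G)⁻¹ * (w1 : G)) := by group
            _ = (w2 : G) := by rw [h1, mul_one]
        exact Subtype.ext this
      have hou : orderOf u ∣ 2 ^ 3 := by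
        have := Subgroup.orderOf_dvd_natCard (Q : Subgroup G) huQ
        rw [hQcard] at this
        exact this
      obtain ⟨j, hj, hoj⟩ := (Nat.dvd_prime_pow Nat.prime_two).1 hou
      have hj1 : 1 ≤ j := by
        by_contra hlt
        have hj0 : j = 0 := by omega
        rw [hj0, pow_zero, orderOf_eq_one_iff] at hoj
        exact hu1 hoj
      obtain ⟨v, hv⟩ : ∃ v : G, v = u ^ (2 ^ (j - 1)) := ⟨_, rfl⟩
      have hv2 : v ^ 2 = 1 := by
        rw [hv, ← pow_mul, ← pow_succ, Nat.sub_add_cancel hj1, ← hoj]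
        exact pow_orderOf_eq_one u
      have hv1 : v ≠ 1 := by
        intro h
        rw [hv] at h
        have h1 := orderOf_dvd_of_pow_eq_one h
        rw [hoj] at h1
        have h2 := Nat.le_of_dvd (by positivity) h1
        have h3 : 2 ^ (j - 1) < 2 ^ j := Nat.pow_lt_pow_right (by norm_num) (by omega)
        omega
      have hvQ : v ∈ (Q : Subgroup G) := by rw [hv]; exact Subgroup.pow_mem _ huQ _
      have hvz : v = z := huniq Q v z hvQ hzQ hv2 hv1 hz2 hz1
      have hvP : v • P = P := by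
        have h1 : u ∈ MulAction.stabilizer G P := huP
        have h2 : v ∈ MulAction.stabilizer G P := by rw [hv]; exact Subgroup.pow_mem _ h1 _
        exact h2
      rw [hvz] at hvP
      exact hzP hvP
    have := Nat.card_le_card_of_injective _ hinj
    rw [hQcard, hn5] at this
    omega
  have hzc : ∀ g : G, g * z * g⁻¹ = z := by
    intro g
    have h1 : g * z * g⁻¹ ∈ K := hKn.conj_mem z hzK g
    obtain ⟨Q', hQ'⟩ := hKp.exists_le_sylow
    exact huniq Q' _ _ (hQ' h1) (hQ' hzK) (by rw [conj_pow, hz2]; group) (fun h => hz1 (by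
      have : z = g⁻¹ * (g * z * g⁻¹) * g := by group
      rw [this, h]; group)) hz2 hz1
  have hinvol : ∀ t : G, t ^ 2 = 1 → t ≠ 1 → t = z := by
    intro t ht2 ht1
    obtain ⟨g, hg⟩ := hconj t ht2 ht1
    have : t = g * (g⁻¹ * t * g) * g⁻¹ := by group
    rw [this, hg, hzc]
  have hzcomm : ∀ g : G, g * z = z * g := by
    intro g
    have := hzc g
    calc g * z = (g * z * g⁻¹) * g := by group
      _ = z * g := by rw [this]
  obtain ⟨Z, hZ⟩ : ∃ Z : Subgroup G, Z = Subgroup.zpowers z := ⟨_, rfl⟩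
  have hzZ : z ∈ Z := by rw [hZ]; exact Subgroup.mem_zpowers z
  have hZmem : ∀ w ∈ Z, w = 1 ∨ w = z := by
    intro w hw
    rw [hZ] at hw
    exact Cfsg.Agent.S3224.mem_zpowers_invol z w hz2 hw
  have hZn : Z.Normal := by
    constructor
    intro n hn g
    rcases hZmem n hn with rfl | rfl
    · simp
    · rw [hzc g]; exact hzZ
  have hZcard : Nat.card Z = 2 := by
    rw [hZ, Nat.card_zpowers]; exact orderOf_eq_prime hz2 hz1
  have hQcard' : Nat.card (G ⧸ Z) = 60 := by
    have := Subgroup.card_eq_card_quotient_mul_card_subgroup Z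
    rw [hG, hZcard] at this
    omega
  have hQns : ¬ Group.IsSolvable (G ⧸ Z) := by
    intro hs
    apply hns
    exact sol_ext Z (solvable_of_two_primes 2 3 1 0 Nat.prime_two Nat.prime_three
      (by rw [hZcard]; norm_num)) hs
  have hsimple : IsSimpleGroup (G ⧸ Z) := by
    have hnt : Nontrivial (G ⧸ Z) := by
      rw [← Finite.one_lt_card_iff_nontrivial, hQcard']; norm_num
    refine @IsSimpleGroup.mk _ _ hnt (fun M hM => ?_)
    by_contra hcon
    push Not at hcon
    have hd : Nat.card M ∣ 60 := by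
      rw [← hQcard']; exact Subgroup.card_subgroup_dvd_card M
    have hlt : Nat.card M < 60 := by
      by_contra hge
      have h60 : Nat.card M = 60 := le_antisymm (Nat.le_of_dvd (by norm_num) hd) (by omega)
      exact hcon.2 ((Subgroup.card_eq_iff_eq_top M).1 (h60.trans hQcard'.symm))
    have hd2 : Nat.card ((G ⧸ Z) ⧸ M) ∣ 60 := by
      rw [← hQcard']; exact Subgroup.card_quotient_dvd_card M
    have hlt2 : Nat.card ((G ⧸ Z) ⧸ M) < 60 := by
      have h1 := Subgroup.card_eq_card_quotient_mul_card_subgroup M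
      rw [hQcard'] at h1
      have h2 : 1 < Nat.card M := by
        rw [Subgroup.one_lt_card_iff_ne_bot]; exact hcon.1
      by_contra hge
      have : 60 * 2 ≤ Nat.card ((G ⧸ Z) ⧸ M) * Nat.card M := Nat.mul_le_mul (by omega) h2
      omega
    exact hQns (sol_ext M (solvable_small hd hlt) (solvable_small hd2 hlt2))
  obtain ⟨e5⟩ := Cfsg.Agent.Lib.Helper2.Simple60.simple_order_sixty hQcard'
  obtain ⟨x0, hx0⟩ := QuotientGroup.mk_surjective (e5.symm Cfsg.Agent.S3377.sig)
  obtain ⟨y0, hy0⟩ := QuotientGroup.mk_surjective (e5.symm Cfsg.Agent.S3377.tau)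
  have hz4 : ∀ w ∈ Z, w ^ 2 = 1 := by
    intro w hw
    rcases hZmem w hw with rfl | rfl
    · simp
    · exact hz2
  obtain ⟨x, hx⟩ : ∃ x : G, x = x0 ^ 4 := ⟨_, rfl⟩
  obtain ⟨y, hy⟩ : ∃ y : G, y = y0 ^ 6 := ⟨_, rfl⟩
  have hxbar3 : (e5.symm Cfsg.Agent.S3377.sig) ^ 3 = 1 := by
    rw [← map_pow, Cfsg.Agent.S3377.sig3, map_one]
  have hybar5 : (e5.symm Cfsg.Agent.S3377.tau) ^ 5 = 1 := by
    rw [← map_pow, Cfsg.Agent.S3377.tau5, map_one]
  have hmkx : (QuotientGroup.mk x : G ⧸ Z) = e5.symm Cfsg.Agent.S3377.sig := by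
    rw [hx, QuotientGroup.mk_pow, hx0, pow_succ, hxbar3, one_mul]
  have hmky : (QuotientGroup.mk y : G ⧸ Z) = e5.symm Cfsg.Agent.S3377.tau := by
    rw [hy, QuotientGroup.mk_pow, hy0, pow_succ, hybar5, one_mul]
  have hx3 : x ^ 3 = 1 := by
    have h1 : x0 ^ 3 ∈ Z := by
      rw [← QuotientGroup.eq_one_iff, QuotientGroup.mk_pow, hx0]; exact hxbar3
    rw [hx, ← pow_mul]
    have : x0 ^ (4 * 3) = ((x0 ^ 3) ^ 2) ^ 2 := by rw [← pow_mul, ← pow_mul]
    rw [this, hz4 _ h1, one_pow]
  have hy5 : y ^ 5 = 1 := by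
    have h1 : y0 ^ 5 ∈ Z := by
      rw [← QuotientGroup.eq_one_iff, QuotientGroup.mk_pow, hy0]; exact hybar5
    rw [hy, ← pow_mul]
    have : y0 ^ (6 * 5) = ((y0 ^ 5) ^ 2) ^ 3 := by rw [← pow_mul, ← pow_mul]
    rw [this, hz4 _ h1, one_pow]
  have hxy : (x * y) ^ 2 = z := by
    have hbar : (QuotientGroup.mk (x * y) : G ⧸ Z) =
        e5.symm (Cfsg.Agent.S3377.sig * Cfsg.Agent.S3377.tau) := by
      rw [QuotientGroup.mk_mul, hmkx, hmky, map_mul]
    have h1 : (x * y) ^ 2 ∈ Z := by
      rw [← QuotientGroup.eq_one_iff, QuotientGroup.mk_pow, hbar, ← map_pow,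
        Cfsg.Agent.S3377.sigtau2, map_one]
    have hne : x * y ∉ Z := by
      intro h
      rw [← QuotientGroup.eq_one_iff, hbar] at h
      exact Cfsg.Agent.S3377.sigtau_ne (e5.symm.map_eq_one_iff.1 h)
    rcases hZmem _ h1 with h | h
    · exfalso
      have hxy1 : x * y ≠ 1 := fun h1 => hne (h1 ▸ Z.one_mem)
      have := hinvol (x * y) h hxy1
      exact hne (this ▸ hzZ)
    · exact h
  have hgen : Subgroup.closure ({x, y, z} : Set G) = ⊤ := by
    obtain ⟨R, hR⟩ : ∃ R : Subgroup G, R = Subgroup.closure ({x, y, z} : Set G) := ⟨_, rfl⟩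
    rw [← hR]
    have hxR : x ∈ R := by rw [hR]; exact Subgroup.subset_closure (Set.mem_insert _ _)
    have hyR : y ∈ R := by
      rw [hR]; exact Subgroup.subset_closure (Set.mem_insert_of_mem _ (Set.mem_insert _ _))
    have hzR : z ∈ R := by
      rw [hR]
      exact Subgroup.subset_closure
        (Set.mem_insert_of_mem _ (Set.mem_insert_of_mem _ (Set.mem_singleton _)))
    have htop : (R.map (QuotientGroup.mk' Z)).comap e5.symm.toMonoidHom = ⊤ := by
      apply Cfsg.Agent.S3377.eq_top_of_mem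
      · rw [Subgroup.mem_comap]; exact ⟨x, hxR, hmkx⟩
      · rw [Subgroup.mem_comap]; exact ⟨y, hyR, hmky⟩
    rw [eq_top_iff]
    intro g _
    have h1 : e5 (QuotientGroup.mk g) ∈
        (R.map (QuotientGroup.mk' Z)).comap e5.symm.toMonoidHom := by
      rw [htop]; exact Subgroup.mem_top _
    rw [Subgroup.mem_comap] at h1
    have h2 : (QuotientGroup.mk g : G ⧸ Z) ∈ R.map (QuotientGroup.mk' Z) := by
      simpa using h1
    obtain ⟨r, hr, hrg⟩ := h2
    have h3 : r⁻¹ * g ∈ Z := QuotientGroup.eq.1 hrg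
    have h4 : r⁻¹ * g ∈ R := by
      rcases hZmem _ h3 with h | h
      · rw [h]; exact R.one_mem
      · rw [h]; exact hzR
    have : g = r * (r⁻¹ * g) := by group
    rw [this]; exact R.mul_mem hr h4
  obtain ⟨f, -⟩ := SL25Pres.equiv_of_gens (by rw [hG]) x y z hx3 hy5 hz2 (hzcomm x).symm
    (hzcomm y).symm hxy hgen
  obtain ⟨f2, -⟩ := SL25Pres.pres_equiv
  exact ⟨f.symm.trans f2⟩

/-- Every non-solvable group of order 120 whose Sylow 2-subgroups are quaternion of order 8 is isomorphic to SL(2,5), and SL(2,5) has the presentation ⟨x, y, z | x³ = y⁵ = z² = 1, z⁻¹xz = x, z⁻¹yz = y, (xy)² = z⟩. -/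
theorem result :
    (∀ (G : Type*) [Group G] [Finite G], Nat.card G = 120 → ¬ Group.IsSolvable G →
      (∀ P : Sylow 2 G, Nonempty ((P : Subgroup G) ≃* QuaternionGroup 2)) →
      Nonempty (G ≃* Matrix.SpecialLinearGroup (Fin 2) (ZMod 5))) ∧
    Nonempty (PresentedGroup ({FreeGroup.of (0 : Fin 3) ^ 3, FreeGroup.of (1 : Fin 3) ^ 5, FreeGroup.of (2 : Fin 3) ^ 2,
        (FreeGroup.of (2 : Fin 3))⁻¹ * FreeGroup.of 0 * FreeGroup.of 2 * (FreeGroup.of (0 : Fin 3))⁻¹,
        (FreeGroup.of (2 : Fin 3))⁻¹ * FreeGroup.of 1 * FreeGroup.of 2 * (FreeGroup.of (1 : Fin 3))⁻¹,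
        (FreeGroup.of (0 : Fin 3) * FreeGroup.of 1) ^ 2 * (FreeGroup.of (2 : Fin 3))⁻¹} : Set (FreeGroup (Fin 3)))
      ≃* Matrix.SpecialLinearGroup (Fin 2) (ZMod 5)) := by
  refine ⟨fun G _ _ hG hns hQ => part1 G hG hns hQ, ?_⟩
  obtain ⟨f, -⟩ := Cfsg.Agent.Lib.Helper18.SL25Pres.pres_equiv
  exact ⟨f⟩

end Cfsg.Agent.S3378
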