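import Cfsg.Statements.S3382
import Mathlib
import Cfsg.Agent.S3178

set_option autoImplicit false
open Cfsg

namespace Cfsg.Agent.S3382

variable {q : ℕ} [Fact q.Prime]

/-- The ambient group of linear automorphisms. -/
abbrev LL (q : ℕ) := (Fin 2 → ZMod q) ≃ₗ[ZMod q] (Fin 2 → ZMod q)

def isD (f : LL q) (a s : ZMod q) : Prop := ∀ v, f v = ![a * v 0, s * a⁻¹ * v 1]
def isE (f : LL q) (a s : ZMod q) : Prop := ∀ v, f v = ![s * a⁻¹ * v 1, a * v 0]

theorem vec2_ext {α : Type*} {p p' r r' : α} (h1 : p = p') (h2 : r = r') :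
    (![p, r] : Fin 2 → α) = ![p', r'] := by rw [h1, h2]

theorem vec2_inj {α : Type*} {p p' r r' : α} (h : (![p, r] : Fin 2 → α) = ![p', r']) :
    p = p' ∧ r = r' := ⟨congrFun h 0, congrFun h 1⟩

theorem mulDD (f g : LL q) (a s b u : ZMod q) (hf : isD f a s) (hg : isD g b u) :
    isD (f * g) (a * b) (s * u) := by
  intro v
  rw [LinearEquiv.mul_apply, hg v, hf]
  apply vec2_ext
  · show a * (b * v 0) = a * b * v 0
    ring
  · show s * a⁻¹ * (u * b⁻¹ * v 1) = s * u * (a * b)⁻¹ * v 1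
    rw [mul_inv]; ring

theorem mulEE (f g : LL q) (a s b u : ZMod q) (hs : s ≠ 0) (hf : isE f a s) (hg : isE g b u) :
    isD (f * g) (s * a⁻¹ * b) (s * u) := by
  intro v
  rw [LinearEquiv.mul_apply, hg v, hf]
  apply vec2_ext
  · show s * a⁻¹ * (b * v 0) = s * a⁻¹ * b * v 0
    ring
  · show a * (u * b⁻¹ * v 1) = s * u * (s * a⁻¹ * b)⁻¹ * v 1
    rw [mul_inv, mul_inv, inv_inv]
    calc a * (u * b⁻¹ * v 1) = (s * s⁻¹) * (a * (u * b⁻¹ * v 1)) := by
          rw [mul_inv_cancel₀ hs, one_mul]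
      _ = s * u * (s⁻¹ * a * b⁻¹) * v 1 := by ring

theorem mulDE (f g : LL q) (a s b u : ZMod q) (hs : s ≠ 0) (hf : isD f a s) (hg : isE g b u) :
    isE (f * g) (s * a⁻¹ * b) (s * u) := by
  intro v
  rw [LinearEquiv.mul_apply, hg v, hf]
  apply vec2_ext
  · show a * (u * b⁻¹ * v 1) = s * u * (s * a⁻¹ * b)⁻¹ * v 1
    rw [mul_inv, mul_inv, inv_inv]
    calc a * (u * b⁻¹ * v 1) = (s * s⁻¹) * (a * (u * b⁻¹ * v 1)) := by
          rw [mul_inv_cancel₀ hs, one_mul]
      _ = s * u * (s⁻¹ * a * b⁻¹) * v 1 := by ring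
  · show s * a⁻¹ * (b * v 0) = s * a⁻¹ * b * v 0
    ring

theorem mulED (f g : LL q) (a s b u : ZMod q) (hf : isE f a s) (hg : isD g b u) :
    isE (f * g) (a * b) (s * u) := by
  intro v
  rw [LinearEquiv.mul_apply, hg v, hf]
  apply vec2_ext
  · show s * a⁻¹ * (u * b⁻¹ * v 1) = s * u * (a * b)⁻¹ * v 1
    rw [mul_inv]; ring
  · show a * (b * v 0) = a * b * v 0
    ring

theorem oneD : isD (1 : LL q) 1 1 := by
  intro v
  show v = _
  funext i
  fin_cases i
  · show v 0 = 1 * v 0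
    rw [one_mul]
  · show v 1 = 1 * 1⁻¹ * v 1
    rw [inv_one, one_mul, one_mul]

theorem eqD (f g : LL q) (a s : ZMod q) (hf : isD f a s) (hg : isD g a s) : f = g := by
  apply LinearEquiv.ext
  intro v
  rw [hf v, hg v]

theorem eqE (f g : LL q) (a s : ZMod q) (hf : isE f a s) (hg : isE g a s) : f = g := by
  apply LinearEquiv.ext
  intro v
  rw [hf v, hg v]

theorem notDE (f : LL q) (a s b u : ZMod q) (ha : a ≠ 0) (hf : isD f a s) (hg : isE f b u) :
    False := by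
  have h := (hf ![1, 0]).symm.trans (hg ![1, 0])
  have h1 := (vec2_inj h).1
  have h2 : a * 1 = u * b⁻¹ * 0 := h1
  rw [mul_one, mul_zero] at h2
  exact ha h2

theorem parD (f : LL q) (a s b u : ZMod q) (ha : a ≠ 0) (hf : isD f a s) (hg : isD f b u) :
    a = b ∧ s = u := by
  have h := (hf ![1, 0]).symm.trans (hg ![1, 0])
  have h1 : a * 1 = b * 1 := (vec2_inj h).1
  rw [mul_one, mul_one] at h1
  have h' := (hf ![0, 1]).symm.trans (hg ![0, 1])
  have h2 : s * a⁻¹ * 1 = u * b⁻¹ * 1 := (vec2_inj h').2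
  rw [mul_one, mul_one, ← h1] at h2
  refine ⟨h1, ?_⟩
  have h3 : s * a⁻¹ * a = u * a⁻¹ * a := by rw [h2]
  rw [inv_mul_cancel_right₀ ha, inv_mul_cancel_right₀ ha] at h3
  exact h3

theorem parE (f : LL q) (a s b u : ZMod q) (ha : a ≠ 0) (hf : isE f a s) (hg : isE f b u) :
    a = b ∧ s = u := by
  have h := (hf ![1, 0]).symm.trans (hg ![1, 0])
  have h1 : a * 1 = b * 1 := (vec2_inj h).2
  rw [mul_one, mul_one] at h1
  have h' := (hf ![0, 1]).symm.trans (hg ![0, 1])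
  have h2 : s * a⁻¹ * 1 = u * b⁻¹ * 1 := (vec2_inj h').1
  rw [mul_one, mul_one, ← h1] at h2
  refine ⟨h1, ?_⟩
  have h3 : s * a⁻¹ * a = u * a⁻¹ * a := by rw [h2]
  rw [inv_mul_cancel_right₀ ha, inv_mul_cancel_right₀ ha] at h3
  exact h3

/-- The diagonal element `(x, y) ↦ (a x, s a⁻¹ y)`. -/
def mkD (a s : ZMod q) (ha : a ≠ 0) (hs : s * s = 1) : LL q where
  toFun v := ![a * v 0, s * a⁻¹ * v 1]
  map_add' v w := by
    funext i
    fin_cases i
    · show a * (v 0 + w 0) = a * v 0 + a * w 0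
      ring
    · show s * a⁻¹ * (v 1 + w 1) = s * a⁻¹ * v 1 + s * a⁻¹ * w 1
      ring
  map_smul' c v := by
    funext i
    fin_cases i
    · show a * (c * v 0) = c * (a * v 0)
      ring
    · show s * a⁻¹ * (c * v 1) = c * (s * a⁻¹ * v 1)
      ring
  invFun v := ![a⁻¹ * v 0, s * a * v 1]
  left_inv v := by
    funext i
    fin_cases i
    · show a⁻¹ * (a * v 0) = v 0
      rw [inv_mul_cancel_left₀ ha]
    · show s * a * (s * a⁻¹ * v 1) = v 1
      calc s * a * (s * a⁻¹ * v 1) = (s * s) * (a * a⁻¹) * v 1 := by ring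
        _ = v 1 := by rw [hs, mul_inv_cancel₀ ha, one_mul, one_mul]
  right_inv v := by
    funext i
    fin_cases i
    · show a * (a⁻¹ * v 0) = v 0
      rw [mul_inv_cancel_left₀ ha]
    · show s * a⁻¹ * (s * a * v 1) = v 1
      calc s * a⁻¹ * (s * a * v 1) = (s * s) * (a * a⁻¹) * v 1 := by ring
        _ = v 1 := by rw [hs, mul_inv_cancel₀ ha, one_mul, one_mul]

/-- The anti-diagonal element `(x, y) ↦ (s a⁻¹ y, a x)`. -/
def mkE (a s : ZMod q) (ha : a ≠ 0) (hs : s * s = 1) : LL q where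
  toFun v := ![s * a⁻¹ * v 1, a * v 0]
  map_add' v w := by
    funext i
    fin_cases i
    · show s * a⁻¹ * (v 1 + w 1) = s * a⁻¹ * v 1 + s * a⁻¹ * w 1
      ring
    · show a * (v 0 + w 0) = a * v 0 + a * w 0
      ring
  map_smul' c v := by
    funext i
    fin_cases i
    · show s * a⁻¹ * (c * v 1) = c * (s * a⁻¹ * v 1)
      ring
    · show a * (c * v 0) = c * (a * v 0)
      ring
  invFun v := ![a⁻¹ * v 1, s * a * v 0]
  left_inv v := by
    funext i
    fin_cases i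
    · show a⁻¹ * (a * v 0) = v 0
      rw [inv_mul_cancel_left₀ ha]
    · show s * a * (s * a⁻¹ * v 1) = v 1
      calc s * a * (s * a⁻¹ * v 1) = (s * s) * (a * a⁻¹) * v 1 := by ring
        _ = v 1 := by rw [hs, mul_inv_cancel₀ ha, one_mul, one_mul]
  right_inv v := by
    funext i
    fin_cases i
    · show s * a⁻¹ * (s * a * v 0) = v 0
      calc s * a⁻¹ * (s * a * v 0) = (s * s) * (a * a⁻¹) * v 0 := by ring
        _ = v 0 := by rw [hs, mul_inv_cancel₀ ha, one_mul, one_mul]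
    · show a * (a⁻¹ * v 1) = v 1
      rw [mul_inv_cancel_left₀ ha]

theorem mkD_isD (a s : ZMod q) (ha : a ≠ 0) (hs : s * s = 1) : isD (mkD a s ha hs) a s :=
  fun _ => rfl

theorem mkE_isE (a s : ZMod q) (ha : a ≠ 0) (hs : s * s = 1) : isE (mkE a s ha hs) a s :=
  fun _ => rfl

theorem sgn_sq (s : ZMod q) (hs : s = 1 ∨ s = -1) : s * s = 1 := by
  rcases hs with rfl | rfl
  · rw [one_mul]
  · rw [neg_mul_neg, one_mul]

theorem sgn_ne (s : ZMod q) (hs : s = 1 ∨ s = -1) : s ≠ 0 := by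
  intro h
  have := sgn_sq s hs
  rw [h, zero_mul] at this
  exact zero_ne_one this

/-- An automorphism of odd order fixing a subgroup `B` pointwise, where products of elements
outside `B` lie in `B` and `B` has no elements of odd order, is trivial. -/
theorem autX {H : Type*} [Group H] (B : Subgroup H) (ψ : MulAut H) (r : ℕ)
    (hψ : ψ ^ r = 1) (hfix : ∀ x ∈ B, ψ x = x) (hmul : ∀ x y : H, x ∉ B → y ∉ B → x * y ∈ B)
    (htor : ∀ c ∈ B, c ^ r = 1 → c = 1) : ψ = 1 := by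
  apply MulEquiv.ext
  intro x
  rw [MulAut.one_apply]
  by_cases hx : x ∈ B
  · exact hfix x hx
  have hψx : ψ x ∉ B := by
    intro h
    apply hx
    have h1 := hfix _ h
    have h2 : ψ x = x := ψ.injective h1
    rw [← h2]; exact h
  have hxi : x⁻¹ ∉ B := fun h => hx (by simpa using B.inv_mem h)
  obtain ⟨c, hc⟩ : ∃ c, c = x⁻¹ * ψ x := ⟨_, rfl⟩
  have hcB : c ∈ B := by rw [hc]; exact hmul _ _ hxi hψx
  have hψc : ψ c = c := hfix c hcB
  have hψx' : ψ x = x * c := by rw [hc, mul_inv_cancel_left]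
  have key : ∀ j : ℕ, (ψ ^ j) x = x * c ^ j := by
    intro j
    induction j with
    | zero => rw [pow_zero, pow_zero, mul_one, MulAut.one_apply]
    | succ j ih =>
      rw [pow_succ', MulAut.mul_apply, ih, map_mul, map_pow, hψc, hψx', mul_assoc, ← pow_succ']
  have h1 := key r
  rw [hψ, MulAut.one_apply] at h1
  have h2 : c ^ r = 1 := by
    have : x * 1 = x * c ^ r := by rw [mul_one]; exact h1
    exact (mul_left_cancel this).symm
  rw [hψx', htor c hcB h2, mul_one]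

/-- membership specification of the monomial group -/
def Spec (T : Subgroup (LL q)) : Prop :=
  ∀ f, f ∈ T ↔ ∃ a s : ZMod q, a ≠ 0 ∧ (s = 1 ∨ s = -1) ∧ (isD f a s ∨ isE f a s)

def dg (x : LL q) : Prop := ∃ a s : ZMod q, a ≠ 0 ∧ (s = 1 ∨ s = -1) ∧ isD x a s
def ad (x : LL q) : Prop := ∃ a s : ZMod q, a ≠ 0 ∧ (s = 1 ∨ s = -1) ∧ isE x a s

theorem sgn_mul (s u : ZMod q) (hs : s = 1 ∨ s = -1) (hu : u = 1 ∨ u = -1) :
    s * u = 1 ∨ s * u = -1 := by
  rcases hs with rfl | rfl <;> rcases hu with rfl | rfl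
  · left; rw [one_mul]
  · right; rw [one_mul]
  · right; rw [mul_one]
  · left; rw [neg_mul_neg, one_mul]

theorem dg_or_ad {T : Subgroup (LL q)} (hT : Spec T) (x : T) :
    dg (x : LL q) ∨ ad (x : LL q) := by
  obtain ⟨a, s, ha, hs, h | h⟩ := (hT x).1 x.2
  · exact Or.inl ⟨a, s, ha, hs, h⟩
  · exact Or.inr ⟨a, s, ha, hs, h⟩

theorem not_dg_ad (x : LL q) (h1 : dg x) (h2 : ad x) : False := by
  obtain ⟨a, s, ha, hs, h⟩ := h1
  obtain ⟨b, u, hb, hu, h'⟩ := h2
  exact notDE x a s b u ha h h'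

theorem dg_mul (x y : LL q) (hx : dg x) (hy : dg y) : dg (x * y) := by
  obtain ⟨a, s, ha, hs, h⟩ := hx
  obtain ⟨b, u, hb, hu, h'⟩ := hy
  exact ⟨a * b, s * u, mul_ne_zero ha hb, sgn_mul s u hs hu, mulDD x y a s b u h h'⟩

theorem ad_mul_ad (x y : LL q) (hx : ad x) (hy : ad y) : dg (x * y) := by
  obtain ⟨a, s, ha, hs, h⟩ := hx
  obtain ⟨b, u, hb, hu, h'⟩ := hy
  exact ⟨s * a⁻¹ * b, s * u, mul_ne_zero (mul_ne_zero (sgn_ne s hs) (inv_ne_zero ha)) hb,
    sgn_mul s u hs hu, mulEE x y a s b u (sgn_ne s hs) h h'⟩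

theorem comm_dg (x y : LL q) (hx : dg x) (hy : dg y) : x * y = y * x := by
  obtain ⟨a, s, ha, hs, h⟩ := hx
  obtain ⟨b, u, hb, hu, h'⟩ := hy
  have h1 := mulDD x y a s b u h h'
  have h2 := mulDD y x b u a s h' h
  rw [mul_comm b a, mul_comm u s] at h2
  exact eqD _ _ _ _ h1 h2

theorem dg_sq (x : LL q) (hx : dg x ∨ ad x) : dg (x * x) := by
  rcases hx with h | h
  · exact dg_mul x x h h
  · exact ad_mul_ad x x h h

theorem exD {T : Subgroup (LL q)} (hT : Spec T) (a s : ZMod q) (ha : a ≠ 0)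
    (hs : s = 1 ∨ s = -1) : ∃ x : T, isD (x : LL q) a s :=
  ⟨⟨mkD a s ha (sgn_sq s hs), (hT _).2 ⟨a, s, ha, hs, Or.inl (mkD_isD a s ha (sgn_sq s hs))⟩⟩,
    mkD_isD a s ha (sgn_sq s hs)⟩

theorem exE {T : Subgroup (LL q)} (hT : Spec T) (a s : ZMod q) (ha : a ≠ 0)
    (hs : s = 1 ∨ s = -1) : ∃ x : T, isE (x : LL q) a s :=
  ⟨⟨mkE a s ha (sgn_sq s hs), (hT _).2 ⟨a, s, ha, hs, Or.inr (mkE_isE a s ha (sgn_sq s hs))⟩⟩,
    mkE_isE a s ha (sgn_sq s hs)⟩

/-- the centralizer of all squares: it will be the diagonal subgroup -/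
def AA (T : Subgroup (LL q)) : Subgroup T :=
  Subgroup.centralizer {y : T | ∃ g : T, y = g * g}

theorem memA {T : Subgroup (LL q)} (hT : Spec T) (h2 : (2 : ZMod q) ≠ 0)
    (h15 : (15 : ZMod q) ≠ 0) (x : T) : x ∈ AA T ↔ dg (x : LL q) := by
  constructor
  · intro hx
    rcases dg_or_ad hT x with h | h
    · exact h
    exfalso
    obtain ⟨b, u, hb, hu, hE⟩ := h
    obtain ⟨g, hg⟩ := exD hT 2 1 h2 (Or.inl rfl)
    have hc := (Subgroup.mem_centralizer_iff.1 hx) (g * g) ⟨g, rfl⟩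
    have hc' : (g : LL q) * g * x = x * (g * g) := congrArg Subtype.val hc
    have hgg := mulDD _ _ _ _ _ _ hg hg
    have h4 : ((2 : ZMod q) * 2) ≠ 0 := mul_ne_zero h2 h2
    have h11 : ((1 : ZMod q) * 1) ≠ 0 := by rw [one_mul]; exact one_ne_zero
    have e1 := mulDE _ _ _ _ _ _ h11 hgg hE
    have e2 := mulED _ _ _ _ _ _ hE hgg
    rw [hc'] at e1
    have h := (parE _ _ _ _ _ (mul_ne_zero hb h4) e2 e1).1
    have h' : b * 15 = 0 := by
      calc b * 15 = (2 * 2) * (b * (2 * 2)) - b := by ring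
        _ = (2 * 2) * (1 * 1 * (2 * 2)⁻¹ * b) - b := by rw [h]
        _ = ((2 * 2) * (2 * 2)⁻¹) * b - b := by ring
        _ = 0 := by rw [mul_inv_cancel₀ h4, one_mul, sub_self]
    rcases mul_eq_zero.1 h' with h | h
    · exact hb h
    · exact h15 h
  · intro hx
    rw [AA, Subgroup.mem_centralizer_iff]
    rintro y ⟨g, rfl⟩
    apply Subtype.ext
    exact comm_dg _ _ (dg_sq _ (dg_or_ad hT g)) hx

theorem presA {T : Subgroup (LL q)} (ψ : MulAut T) (x : T) (hx : x ∈ AA T) : ψ x ∈ AA T := by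
  rw [AA, Subgroup.mem_centralizer_iff] at hx ⊢
  rintro y ⟨g, rfl⟩
  have h := hx (ψ.symm g * ψ.symm g) ⟨_, rfl⟩
  have h' := congrArg ψ h
  rw [map_mul, map_mul, map_mul, map_mul, ψ.apply_symm_apply] at h'
  exact h'

theorem powD (x : LL q) (a s : ZMod q) (hx : isD x a s) (n : ℕ) : isD (x ^ n) (a ^ n) (s ^ n) := by
  induction n with
  | zero =>
    rw [pow_zero, pow_zero, pow_zero]
    exact oneD
  | succ n ih =>
    rw [pow_succ, pow_succ, pow_succ]
    exact mulDD _ _ _ _ _ _ ih hx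

theorem gen_case {T : Subgroup (LL q)} (hT : Spec T) (m : ℕ) (hq : q = 2 ^ m + 1)
    (h2 : (2 : ZMod q) ≠ 0) (h15 : (15 : ZMod q) ≠ 0)
    (ψ : MulAut T) (r : ℕ) (hr : Odd r) (hψ : ψ ^ r = 1) : ψ = 1 := by
  have hA : ∀ x : T, x ∈ AA T ↔ dg (x : LL q) := memA hT h2 h15
  have hpres : ∀ (φ : MulAut T) (x : T), dg (x : LL q) → dg ((φ x : T) : LL q) :=
    fun φ x hx => (hA _).1 (presA φ x ((hA x).2 hx))
  have hpres' : ∀ x : T, ad (x : LL q) → ad ((ψ x : T) : LL q) := by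
    intro x hx
    rcases dg_or_ad hT (ψ x) with h | h
    · exfalso
      have := hpres ψ.symm (ψ x) h
      rw [ψ.symm_apply_apply] at this
      exact not_dg_ad _ this hx
    · exact h
  have hm1 : (-1 : ZMod q) ≠ 1 := by
    intro h
    apply h2
    have : (2 : ZMod q) = 1 - (-1) := by ring
    rw [this, h, sub_self]
  have hm1' : (-1 : ZMod q) ≠ 0 := neg_ne_zero.2 one_ne_zero
  obtain ⟨f0, hf0⟩ := exE hT 1 (-1) one_ne_zero (Or.inr rfl)
  obtain ⟨negT, hnegT⟩ := exD hT (-1) 1 hm1' (Or.inl rfl)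
  obtain ⟨eT, heT⟩ := exD hT 1 (-1) one_ne_zero (Or.inr rfl)
  have e2 : (-1 : ZMod q) * -1 = 1 := by rw [neg_mul_neg, one_mul]
  have hneg_sq : negT = f0 * f0 := by
    apply Subtype.ext
    have h := mulEE _ _ _ _ _ _ hm1' hf0 hf0
    have e1 : (-1 : ZMod q) * 1⁻¹ * 1 = -1 := by rw [inv_one, mul_one, mul_one]
    rw [e1, e2] at h
    exact eqD _ _ _ _ hnegT h
  have hneg_ne : negT ≠ 1 := by
    intro h
    have h1 : isD ((1 : T) : LL q) (-1) 1 := h ▸ hnegT
    exact hm1 (parD _ _ _ _ _ hm1' h1 oneD).1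
  have hψneg : ψ negT = negT := by
    obtain ⟨b, u, hb, hu, hE⟩ := hpres' f0 ⟨1, -1, one_ne_zero, Or.inr rfl, hf0⟩
    have h := mulEE _ _ _ _ _ _ (sgn_ne u hu) hE hE
    rw [inv_mul_cancel_right₀ hb, sgn_sq u hu] at h
    have e : ψ negT = ψ f0 * ψ f0 := by rw [hneg_sq, map_mul]
    rcases hu with rfl | rfl
    · exfalso
      have h1 : ψ negT = 1 := by
        rw [e]; apply Subtype.ext; exact eqD _ _ _ _ h oneD
      exact hneg_ne (ψ.injective (h1.trans (map_one ψ).symm))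
    · rw [e]; apply Subtype.ext; exact eqD _ _ _ _ h hnegT
  have hnegneg : negT * negT = 1 := by
    apply Subtype.ext
    have h := mulDD _ _ _ _ _ _ hnegT hnegT
    rw [e2, one_mul] at h
    exact eqD _ _ _ _ h oneD
  have hee : eT * eT = 1 := by
    apply Subtype.ext
    have h := mulDD _ _ _ _ _ _ heT heT
    rw [e2, one_mul] at h
    exact eqD _ _ _ _ h oneD
  have hne : isD ((negT * eT : T) : LL q) (-1) (-1) := by
    have h := mulDD _ _ _ _ _ _ hnegT heT
    rw [mul_one, one_mul] at h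
    exact h
  -- classification of the involutions of the diagonal subgroup
  have hinvol : ∀ w : T, dg (w : LL q) → w ^ 2 = 1 →
      w = 1 ∨ w = negT ∨ w = eT ∨ w = negT * eT := by
    intro w hw hw2
    obtain ⟨a, s, ha, hs, hD⟩ := hw
    have h := mulDD _ _ _ _ _ _ hD hD
    rw [sgn_sq s hs] at h
    have h1 : isD ((1 : T) : LL q) (a * a) 1 := by
      rw [← hw2, pow_two]; exact h
    have haa : a * a = 1 := (parD _ _ _ _ _ (mul_ne_zero ha ha) h1 oneD).1
    have ha' : a = 1 ∨ a = -1 := by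
      have : (a - 1) * (a + 1) = 0 := by
        calc (a - 1) * (a + 1) = a * a - 1 := by ring
          _ = 0 := by rw [haa, sub_self]
      rcases mul_eq_zero.1 this with h | h
      · left; exact sub_eq_zero.1 h
      · right; exact eq_neg_of_add_eq_zero_left h
    rcases ha' with rfl | rfl <;> rcases hs with rfl | rfl
    · left; apply Subtype.ext; exact eqD _ _ _ _ hD oneD
    · right; right; left; apply Subtype.ext; exact eqD _ _ _ _ hD heT
    · right; left; apply Subtype.ext; exact eqD _ _ _ _ hD hnegT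
    · right; right; right; apply Subtype.ext; exact eqD _ _ _ _ hD hne
  have he_ne : eT ≠ 1 := by
    intro h
    have h1 : isD ((1 : T) : LL q) 1 (-1) := h ▸ heT
    exact hm1 (parD _ _ _ _ _ one_ne_zero h1 oneD).2
  have he_ne' : eT ≠ negT := by
    intro h
    have h1 : isD (negT : LL q) 1 (-1) := h ▸ heT
    exact hm1 (parD _ _ _ _ _ one_ne_zero h1 hnegT).2
  have hψe : ψ eT = eT := by
    have hd : dg ((ψ eT : T) : LL q) := hpres ψ eT ⟨1, -1, one_ne_zero, Or.inr rfl, heT⟩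
    have hsq : (ψ eT) ^ 2 = 1 := by rw [← map_pow, pow_two, hee, map_one]
    have h2' : ψ (ψ eT) = eT := by
      rcases hinvol _ hd hsq with h | h | h | h
      · exact absurd (ψ.injective (h.trans (map_one ψ).symm)) he_ne
      · exact absurd (ψ.injective (h.trans hψneg.symm)) he_ne'
      · rw [h, h]
      · rw [h, map_mul, hψneg, h, ← mul_assoc, hnegneg, one_mul]
    exact Cfsg.Agent.S3178.fix_of_odd ψ eT r hr h2' (by rw [hψ]; rfl)
  have hinv : ∀ w ∈ AA T, w ^ 2 = 1 → ψ w = w := by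
    intro w hw hw2
    rcases hinvol w ((hA w).1 hw) hw2 with h | h | h | h
    · rw [h, map_one]
    · rw [h, hψneg]
    · rw [h, hψe]
    · rw [h, map_mul, hψneg, hψe]
  have hcomm : ∀ x ∈ AA T, ∀ y ∈ AA T, x * y = y * x := by
    intro x hx y hy
    apply Subtype.ext
    exact comm_dg _ _ ((hA x).1 hx) ((hA y).1 hy)
  have hpow : ∀ x ∈ AA T, x ^ (2 ^ (m + 1)) = 1 := by
    intro x hx
    obtain ⟨a, s, ha, hs, hD⟩ := (hA x).1 hx
    have h := powD _ _ _ hD (2 ^ (m + 1))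
    have ha1 : a ^ (2 ^ (m + 1)) = 1 := by
      have h0 : a ^ (q - 1) = 1 := ZMod.pow_card_sub_one_eq_one ha
      have hq1 : q - 1 = 2 ^ m := by rw [hq]; rfl
      rw [hq1] at h0
      rw [pow_succ, pow_mul, h0, one_pow]
    have hs1 : s ^ (2 ^ (m + 1)) = 1 := by
      rw [pow_succ', pow_mul, pow_two, sgn_sq s hs, one_pow]
    rw [ha1, hs1] at h
    apply Subtype.ext
    exact eqD _ _ _ _ h oneD
  have hfixA := Cfsg.Agent.S3178.odd_aut_trivial (AA T) hcomm ψ (fun x hx => presA ψ x hx) r hr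
    (fun x _ => by rw [hψ]; rfl) hinv (m + 1)
  refine autX (AA T) ψ r hψ (fun x hx => hfixA x hx (hpow x hx)) ?_ ?_
  · intro x y hx hy
    rw [hA] at hx hy ⊢
    have hx' : ad (x : LL q) := (dg_or_ad hT x).resolve_left hx
    have hy' : ad (y : LL q) := (dg_or_ad hT y).resolve_left hy
    exact ad_mul_ad _ _ hx' hy'
  · intro c hc hcr
    have h1 : orderOf c ∣ r := orderOf_dvd_of_pow_eq_one hcr
    have h2' : orderOf c ∣ 2 ^ (m + 1) := orderOf_dvd_of_pow_eq_one (hpow c hc)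
    have hcop : Nat.Coprime r (2 ^ (m + 1)) :=
      Nat.Coprime.pow_right _ (Nat.coprime_two_right.2 hr)
    have h3 : orderOf c ∣ 1 := by
      have := Nat.dvd_gcd h1 h2'
      rwa [hcop] at this
    exact orderOf_eq_one_iff.1 (Nat.dvd_one.1 h3)

def chi1 (x : LL q) : Prop :=
  (∃ a : ZMod q, a ≠ 0 ∧ isD x a 1) ∨ (∃ a : ZMod q, a ≠ 0 ∧ isE x a (-1))
def chim (x : LL q) : Prop :=
  (∃ a : ZMod q, a ≠ 0 ∧ isD x a (-1)) ∨ (∃ a : ZMod q, a ≠ 0 ∧ isE x a 1)

theorem chi_cases {T : Subgroup (LL q)} (hT : Spec T) (x : T) :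
    chi1 (x : LL q) ∨ chim (x : LL q) := by
  obtain ⟨a, s, ha, hs, h | h⟩ := (hT x).1 x.2
  · rcases hs with rfl | rfl
    · exact Or.inl (Or.inl ⟨a, ha, h⟩)
    · exact Or.inr (Or.inl ⟨a, ha, h⟩)
  · rcases hs with rfl | rfl
    · exact Or.inr (Or.inr ⟨a, ha, h⟩)
    · exact Or.inl (Or.inr ⟨a, ha, h⟩)

theorem chim_mul (x y : LL q) (hx : chim x) (hy : chim y) : chi1 (x * y) := by
  have e2 : (-1 : ZMod q) * -1 = 1 := by rw [neg_mul_neg, one_mul]
  have e3 : (-1 : ZMod q) * 1 = -1 := mul_one _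
  have e4 : (1 : ZMod q) * -1 = -1 := one_mul _
  have e5 : (1 : ZMod q) * 1 = 1 := one_mul _
  have hm1' : (-1 : ZMod q) ≠ 0 := neg_ne_zero.2 one_ne_zero
  rcases hx with ⟨a, ha, h⟩ | ⟨a, ha, h⟩ <;> rcases hy with ⟨b, hb, h'⟩ | ⟨b, hb, h'⟩
  · left
    have := mulDD _ _ _ _ _ _ h h'
    rw [e2] at this
    exact ⟨_, mul_ne_zero ha hb, this⟩
  · right
    have := mulDE _ _ _ _ _ _ hm1' h h'
    rw [e3] at this
    exact ⟨_, mul_ne_zero (mul_ne_zero hm1' (inv_ne_zero ha)) hb, this⟩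
  · right
    have := mulED _ _ _ _ _ _ h h'
    rw [e4] at this
    exact ⟨_, mul_ne_zero ha hb, this⟩
  · left
    have := mulEE _ _ _ _ _ _ one_ne_zero h h'
    rw [e5] at this
    exact ⟨_, mul_ne_zero (mul_ne_zero one_ne_zero (inv_ne_zero ha)) hb, this⟩

theorem case_two {T : Subgroup (LL 2)} (hT : Spec T) (ψ : MulAut T) (r : ℕ)
    (hψ : ψ ^ r = 1) : ψ = 1 := by
  have h2 : ∀ a : ZMod 2, a ≠ 0 → a = 1 := by decide
  have h2' : (-1 : ZMod 2) = 1 := by decide
  have hcl : ∀ x : T, x ≠ 1 → isE (x : LL 2) 1 1 := by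
    intro x hx
    obtain ⟨a, s, ha, hs, h | h⟩ := (hT x).1 x.2
    · exfalso
      apply hx
      have hs' : s = 1 := by
        rcases hs with rfl | rfl
        · rfl
        · exact h2'
      rw [h2 a ha, hs'] at h
      exact Subtype.ext (eqD _ _ _ _ h oneD)
    · have hs' : s = 1 := by
        rcases hs with rfl | rfl
        · rfl
        · exact h2'
      rw [h2 a ha, hs'] at h
      exact h
  refine autX ⊥ ψ r hψ ?_ ?_ ?_
  · intro x hx
    rw [Subgroup.mem_bot] at hx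
    rw [hx, map_one]
  · intro x y hx hy
    rw [Subgroup.mem_bot] at hx hy ⊢
    have h := mulEE _ _ _ _ _ _ one_ne_zero (hcl x hx) (hcl y hy)
    rw [inv_one, one_mul, one_mul] at h
    exact Subtype.ext (eqD _ _ _ _ h oneD)
  · intro c hc _
    exact Subgroup.mem_bot.1 hc

theorem case_three {T : Subgroup (LL 3)} (hT : Spec T) (ψ : MulAut T) (r : ℕ) (hr : Odd r)
    (hψ : ψ ^ r = 1) : ψ = 1 := by
  have h3 : ∀ a : ZMod 3, a ≠ 0 → a = 1 ∨ a = -1 := by decide
  have h3' : ∀ a : ZMod 3, a ≠ 0 → a * a = 1 := by decide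
  have hm1 : (-1 : ZMod 3) ≠ 1 := by decide
  have hm1' : (-1 : ZMod 3) ≠ 0 := by decide
  obtain ⟨u, hu⟩ := exE hT 1 (-1) one_ne_zero (Or.inr rfl)
  obtain ⟨negT, hnegT⟩ := exD hT (-1) 1 hm1' (Or.inl rfl)
  have e2 : (-1 : ZMod 3) * -1 = 1 := by rw [neg_mul_neg, one_mul]
  have hneg_sq : negT = u * u := by
    apply Subtype.ext
    have h := mulEE _ _ _ _ _ _ hm1' hu hu
    have e1 : (-1 : ZMod 3) * 1⁻¹ * 1 = -1 := by rw [inv_one, mul_one, mul_one]
    rw [e1, e2] at h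
    exact eqD _ _ _ _ hnegT h
  have hneg_ne : negT ≠ 1 := by
    intro h
    have h1 : isD ((1 : T) : LL 3) (-1) 1 := h ▸ hnegT
    exact hm1 (parD _ _ _ _ _ hm1' h1 oneD).1
  have hnegneg : negT * negT = 1 := by
    apply Subtype.ext
    have h := mulDD _ _ _ _ _ _ hnegT hnegT
    rw [e2, one_mul] at h
    exact eqD _ _ _ _ h oneD
  have hsq : ∀ x : T, x * x = 1 ∨ x * x = negT := by
    intro x
    obtain ⟨a, s, ha, hs, h | h⟩ := (hT x).1 x.2
    · left
      have h' := mulDD _ _ _ _ _ _ h h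
      rw [h3' a ha, sgn_sq s hs] at h'
      exact Subtype.ext (eqD _ _ _ _ h' oneD)
    · have h' := mulEE _ _ _ _ _ _ (sgn_ne s hs) h h
      rw [inv_mul_cancel_right₀ ha, sgn_sq s hs] at h'
      rcases hs with rfl | rfl
      · left; exact Subtype.ext (eqD _ _ _ _ h' oneD)
      · right; exact Subtype.ext (eqD _ _ _ _ h' hnegT)
  have hψneg : ψ negT = negT := by
    have e : ψ negT = ψ u * ψ u := by rw [hneg_sq, map_mul]
    rcases hsq (ψ u) with h | h
    · exfalso; exact hneg_ne (ψ.injective ((e.trans h).trans (map_one ψ).symm))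
    · exact e.trans h
  have hnu : isE ((negT * u : T) : LL 3) (-1) (-1) := by
    have h := mulDE _ _ _ _ _ _ one_ne_zero hnegT hu
    have e1 : (1 : ZMod 3) * (-1)⁻¹ * 1 = -1 := by rw [inv_neg_one, one_mul, mul_one]
    rw [e1, one_mul] at h
    exact h
  have hψu : ψ u = u := by
    have h2' : ψ (ψ u) = u := by
      have hsq' : ψ u * ψ u = negT := by rw [← map_mul, ← hneg_sq, hψneg]
      obtain ⟨a, s, ha, hs, h | h⟩ := (hT (ψ u)).1 (ψ u).2
      · exfalso
        have h' := mulDD _ _ _ _ _ _ h h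
        rw [h3' a ha, sgn_sq s hs] at h'
        have : ψ u * ψ u = 1 := Subtype.ext (eqD _ _ _ _ h' oneD)
        exact hneg_ne (hsq'.symm.trans this)
      · have h' := mulEE _ _ _ _ _ _ (sgn_ne s hs) h h
        rw [inv_mul_cancel_right₀ ha, sgn_sq s hs] at h'
        have h'' : isD (negT : LL 3) s 1 := by rw [← hsq']; exact h'
        have hs' : s = -1 := (parD _ _ _ _ _ (sgn_ne s hs) h'' hnegT).1
        subst hs'
        rcases h3 a ha with rfl | rfl
        · have : ψ u = u := Subtype.ext (eqE _ _ _ _ h hu)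
          rw [this, this]
        · have : ψ u = negT * u := Subtype.ext (eqE _ _ _ _ h hnu)
          rw [this, map_mul, hψneg, this, ← mul_assoc, hnegneg, one_mul]
    exact Cfsg.Agent.S3178.fix_of_odd ψ u r hr h2' (by rw [hψ]; rfl)
  have hfix : ∀ x ∈ Subgroup.zpowers u, ψ x = x := by
    intro x hx
    obtain ⟨k, rfl⟩ := Subgroup.mem_zpowers_iff.1 hx
    rw [map_zpow, hψu]
  have hu4 : u ^ 4 = 1 := by
    have : u ^ 4 = (u * u) * (u * u) := by
      rw [show (4 : ℕ) = 2 + 2 from rfl, pow_add, pow_two]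
    rw [this, ← hneg_sq, hnegneg]
  have hB : ∀ x : T, chi1 (x : LL 3) → x ∈ Subgroup.zpowers u := by
    intro x hx
    have hu_mem := Subgroup.mem_zpowers u
    have hneg_mem : negT ∈ Subgroup.zpowers u := by rw [hneg_sq]; exact mul_mem hu_mem hu_mem
    rcases hx with ⟨a, ha, h⟩ | ⟨a, ha, h⟩
    · rcases h3 a ha with rfl | rfl
      · have : x = 1 := Subtype.ext (eqD _ _ _ _ h oneD)
        rw [this]; exact one_mem _
      · have : x = negT := Subtype.ext (eqD _ _ _ _ h hnegT)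
        rw [this]; exact hneg_mem
    · rcases h3 a ha with rfl | rfl
      · have : x = u := Subtype.ext (eqE _ _ _ _ h hu)
        rw [this]; exact hu_mem
      · have : x = negT * u := Subtype.ext (eqE _ _ _ _ h hnu)
        rw [this]; exact mul_mem hneg_mem hu_mem
  refine autX (Subgroup.zpowers u) ψ r hψ hfix ?_ ?_
  · intro x y hx hy
    have hx' : chim (x : LL 3) := (chi_cases hT x).resolve_left (fun h => hx (hB x h))
    have hy' : chim (y : LL 3) := (chi_cases hT y).resolve_left (fun h => hy (hB y h))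
    exact hB _ (chim_mul _ _ hx' hy')
  · intro c hc hcr
    obtain ⟨k, rfl⟩ := Subgroup.mem_zpowers_iff.1 hc
    have h4 : (u ^ k) ^ 4 = 1 := by
      rw [← zpow_natCast, ← zpow_mul, mul_comm, zpow_mul, zpow_natCast, hu4, one_zpow]
    have h1 : orderOf (u ^ k) ∣ r := orderOf_dvd_of_pow_eq_one hcr
    have h2' : orderOf (u ^ k) ∣ 2 ^ 2 := orderOf_dvd_of_pow_eq_one h4
    have hcop : Nat.Coprime r (2 ^ 2) :=
      Nat.Coprime.pow_right _ (Nat.coprime_two_right.2 hr)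
    have h3 : orderOf (u ^ k) ∣ 1 := by
      have := Nat.dvd_gcd h1 h2'
      rwa [hcop] at this
    exact orderOf_eq_one_iff.1 (Nat.dvd_one.1 h3)

/-- Let q = 2^m + 1 be a prime other than 5. Then the automorphism group of the group of linear maps of F_q² of the forms (x, y) ↦ (a x, ± a⁻¹ y) and (x, y) ↦ (± a⁻¹ y, a x) with a ≠ 0 is itself a 2-group. -/
theorem result (q m : ℕ) [Fact q.Prime] (hq : q = 2 ^ m + 1) (hq5 : q ≠ 5)
    (T : Subgroup ((Fin 2 → ZMod q) ≃ₗ[ZMod q] (Fin 2 → ZMod q)))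
    (hT : ∀ f, f ∈ T ↔ ∃ a s : ZMod q, a ≠ 0 ∧ (s = 1 ∨ s = -1) ∧
      ((∀ v, f v = ![a * v 0, s * a⁻¹ * v 1]) ∨ (∀ v, f v = ![s * a⁻¹ * v 1, a * v 0]))) :
    IsPGroup 2 (MulAut T) := by
  have hT' : Spec T := hT
  have key : ∀ (ψ : MulAut T) (r : ℕ), Odd r → ψ ^ r = 1 → ψ = 1 := by
    intro ψ r hr hψ
    by_cases h2 : q = 2
    · subst h2
      exact case_two hT' ψ r hψ
    by_cases h3 : q = 3
    · subst h3
      exact case_three hT' ψ r hr hψ
    have hp : q.Prime := Fact.out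
    have h2' : (2 : ZMod q) ≠ 0 := by
      intro h
      have h' : ((2 : ℕ) : ZMod q) = 0 := by exact_mod_cast h
      rw [ZMod.natCast_eq_zero_iff] at h'
      exact h2 ((Nat.prime_dvd_prime_iff_eq hp Nat.prime_two).1 h')
    have h15 : (15 : ZMod q) ≠ 0 := by
      intro h
      have h' : ((15 : ℕ) : ZMod q) = 0 := by exact_mod_cast h
      rw [ZMod.natCast_eq_zero_iff] at h'
      have : q ∣ 3 * 5 := h'
      rcases (Nat.Prime.dvd_mul hp).1 this with h | h
      · exact h3 ((Nat.prime_dvd_prime_iff_eq hp Nat.prime_three).1 h)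
      · exact hq5 ((Nat.prime_dvd_prime_iff_eq hp Nat.prime_five).1 h)
    exact gen_case hT' m hq h2' h15 ψ r hr hψ
  haveI : Finite (LL q) := Finite.of_injective (fun f : LL q => (f : (Fin 2 → ZMod q) → (Fin 2 → ZMod q)))
    DFunLike.coe_injective
  haveI : Finite T := inferInstance
  haveI : Finite (MulAut T) := Finite.of_injective (fun f : MulAut T => (f : T → T))
    DFunLike.coe_injective
  intro φ
  obtain ⟨k, r, hr, hkr⟩ := Nat.exists_eq_two_pow_mul_odd (orderOf_pos φ).ne'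
  refine ⟨k, key (φ ^ 2 ^ k) r hr ?_⟩
  rw [← pow_mul, ← hkr, pow_orderOf_eq_one]

end Cfsg.Agent.S3382
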