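import Cfsg.Statements.S3680
import Cfsg.Agent.S0721

set_option autoImplicit false
open Cfsg

namespace Cfsg.Agent.S3680

open MulAction

section helpers

variable {G Ω : Type*} [Group G] [MulAction G Ω]

theorem trans_of_normal [FaithfulSMul G Ω] (hprim : IsPreprimitive G Ω) (M : Subgroup G)
    (hMn : M.Normal) (hM : M ≠ ⊥) : IsPretransitive M Ω := by
  haveI := hprim
  haveI := hMn
  apply IsQuasiPreprimitive.isPretransitive_of_normal
  intro heq
  apply hM
  rw [Subgroup.eq_bot_iff_forall]
  intro l hl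
  apply FaithfulSMul.eq_of_smul_eq_smul (α := Ω)
  intro x
  rw [one_smul]
  have hx : x ∈ fixedPoints M Ω := by rw [heq]; exact Set.mem_univ _
  exact hx ⟨l, hl⟩

theorem semireg_centralizer [FaithfulSMul G Ω] (M : Subgroup G) (hMtr : IsPretransitive M Ω)
    (c : G) (hc : c ∈ Subgroup.centralizer (M : Set G)) (ω : Ω) (h : c • ω = ω) : c = 1 := by
  apply FaithfulSMul.eq_of_smul_eq_smul (α := Ω)
  intro x
  rw [one_smul]
  obtain ⟨m, hm⟩ := MulAction.exists_smul_eq M ω x
  have hm' : (m : G) • ω = x := hm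
  have hcm : (m : G) * c = c * m := (Subgroup.mem_centralizer_iff.mp hc) m m.2
  rw [← hm', ← mul_smul, ← hcm, mul_smul, h]

theorem card_le_of_semireg [Finite Ω] (K : Subgroup G)
    (hK : ∀ k ∈ K, ∀ ω : Ω, k • ω = ω → k = 1) (ω₀ : Ω) :
    Nat.card K ≤ Nat.card Ω := by
  apply Nat.card_le_card_of_injective (fun k : K => (k : G) • ω₀)
  intro a b hab
  have hab' : (a : G) • ω₀ = (b : G) • ω₀ := hab
  have h0 : ((b : G)⁻¹ * a) • ω₀ = ω₀ := by rw [mul_smul, hab', inv_smul_smul]
  have h1 := hK _ (K.mul_mem (K.inv_mem b.2) a.2) ω₀ h0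
  rw [inv_mul_eq_one] at h1
  exact Subtype.ext h1.symm

theorem card_ge_of_trans [Finite G] (K : Subgroup G) (hK : IsPretransitive K Ω) (ω₀ : Ω) :
    Nat.card Ω ≤ Nat.card K := by
  apply Nat.card_le_card_of_surjective (fun k : K => (k : G) • ω₀)
  intro x
  obtain ⟨k, hk⟩ := MulAction.exists_smul_eq K ω₀ x
  exact ⟨k, hk⟩

/-- appending tuples, as a multiplicative equivalence -/
def appendMulEquiv (T : Type*) [Group T] (m n : ℕ) :
    (Fin m → T) × (Fin n → T) ≃* (Fin (m + n) → T) :=
  { Fin.appendEquiv m n with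
    map_mul' := fun p q => by
      funext i
      refine Fin.addCases (fun j => ?_) (fun j => ?_) i
      · simp [Fin.appendEquiv]
      · simp [Fin.appendEquiv] }

/-- two commuting subgroups meeting trivially: the join is the direct product -/
theorem nonempty_prod_equiv_sup (M C : Subgroup G)
    (hcomm : ∀ a ∈ M, ∀ c ∈ C, a * c = c * a) (hdisj : M ⊓ C = ⊥) :
    Nonempty (M × C ≃* ↥(M ⊔ C)) := by
  have comm : ∀ (a : M) (c : C), Commute (M.subtype a) (C.subtype c) :=
    fun a c => hcomm a a.2 c c.2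
  let Φ : M × C →* G := MonoidHom.noncommCoprod M.subtype C.subtype comm
  have hinj : Function.Injective Φ := by
    rw [MonoidHom.noncommCoprod_injective]
    refine ⟨M.subtype_injective, C.subtype_injective, ?_⟩
    rw [Subgroup.range_subtype, Subgroup.range_subtype, disjoint_iff]
    exact hdisj
  have hrange : Φ.range = M ⊔ C := by
    rw [MonoidHom.noncommCoprod_range, Subgroup.range_subtype, Subgroup.range_subtype]
  exact ⟨(MonoidHom.ofInjective hinj).trans (MulEquiv.subgroupCongr hrange)⟩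

/-- two regular subgroups centralizing each other are isomorphic -/
theorem nonempty_equiv_of_regular [Finite G] (M C : Subgroup G) (ω₀ : Ω)
    (hcomm : ∀ a ∈ M, ∀ c ∈ C, a * c = c * a)
    (hMtr : IsPretransitive M Ω)
    (hMsr : ∀ k ∈ M, ∀ ω : Ω, k • ω = ω → k = 1)
    (hCsr : ∀ k ∈ C, ∀ ω : Ω, k • ω = ω → k = 1)
    (hcard : Nat.card C = Nat.card M) :
    Nonempty (C ≃* M) := by
  classical
  have hex : ∀ c : C, ∃ a : M, (a : G) • ω₀ = (c : G) • ω₀ := fun c =>
    MulAction.exists_smul_eq M ω₀ ((c : G) • ω₀)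
  choose ψ₀ hψ₀ using hex
  have huniq : ∀ (a b : M), (a : G) • ω₀ = (b : G) • ω₀ → a = b := by
    intro a b hab
    have h0 : ((b : G)⁻¹ * a) • ω₀ = ω₀ := by rw [mul_smul, hab, inv_smul_smul]
    have h1 := hMsr _ (M.mul_mem (M.inv_mem b.2) a.2) ω₀ h0
    rw [inv_mul_eq_one] at h1
    exact Subtype.ext h1.symm
  have hmul : ∀ c₁ c₂ : C, ψ₀ (c₁ * c₂) = ψ₀ c₂ * ψ₀ c₁ := by
    intro c₁ c₂
    apply huniq
    rw [hψ₀]
    have e1 : ((ψ₀ c₂ * ψ₀ c₁ : M) : G) • ω₀ = (ψ₀ c₂ : G) • ((ψ₀ c₁ : G) • ω₀) := by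
      rw [Subgroup.coe_mul, mul_smul]
    rw [e1, hψ₀ c₁, ← mul_smul, hcomm _ (ψ₀ c₂).2 _ c₁.2, mul_smul, hψ₀ c₂, ← mul_smul]
    rfl
  have hone : ψ₀ 1 = 1 := by
    apply huniq
    rw [hψ₀]
    rfl
  let ψ : C →* M :=
    { toFun := fun c => (ψ₀ c)⁻¹
      map_one' := by rw [hone, inv_one]
      map_mul' := fun c₁ c₂ => by rw [hmul, mul_inv_rev] }
  have hinj : Function.Injective ψ := by
    rw [injective_iff_map_eq_one]
    intro c hc
    have hc' : (ψ₀ c)⁻¹ = 1 := hc
    rw [inv_eq_one] at hc'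
    have h2 := hψ₀ c
    rw [hc'] at h2
    have h3 : (c : G) • ω₀ = ω₀ := by rw [← h2]; exact one_smul _ _
    exact Subtype.ext (hCsr _ c.2 ω₀ h3)
  have hbij : Function.Bijective ψ :=
    (Nat.bijective_iff_injective_and_card ψ).mpr ⟨hinj, hcard⟩
  exact ⟨MulEquiv.ofBijective ψ hbij⟩

end helpers

/-- The socle of a finite primitive permutation group. Let a finite group G act faithfully and primitively on a set Ω, and let N be the subgroup generated by the minimal normal subgroups of G. Then either N is an elementary abelian p-group for some prime p and acts regularly on Ω (transitively with trivial point stabilizers), or N is isomorphic to a direct product of m ≥ 1 copies of a non-abelian simple group. -/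
theorem result {G Ω : Type*} [Group G] [Finite G] [MulAction G Ω] [FaithfulSMul G Ω] [Finite Ω]
    (hprim : MulAction.IsPreprimitive G Ω) (N : Subgroup G)
    (hN : N = sSup {V : Subgroup G | V.Normal ∧ V ≠ ⊥ ∧ ∀ M : Subgroup G, M.Normal → M ≤ V → M = ⊥ ∨ M = V}) :
    (∃ p : ℕ, p.Prime ∧ IsMulCommutative N ∧ (∀ x : N, x ^ p = 1) ∧
      MulAction.IsPretransitive N Ω ∧ ∀ ω : Ω, MulAction.stabilizer N ω = ⊥) ∨
    (∃ (T : Type) (_ : Group T) (m : ℕ), 1 ≤ m ∧ IsSimpleGroup T ∧ ¬ IsMulCommutative T ∧ Nonempty (N ≃* (Fin m → T))) := by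
  classical
  haveI := hprim
  by_cases hG : ∀ g : G, g = 1
  · left
    refine ⟨2, Nat.prime_two, ⟨⟨fun a b => Subtype.ext ((hG _).trans (hG _).symm)⟩⟩,
      fun x => Subtype.ext ((hG _).trans (hG _).symm), ⟨fun x y => ⟨1, ?_⟩⟩, fun ω => ?_⟩
    · obtain ⟨g, hg⟩ := MulAction.exists_smul_eq G x y
      rw [hG g, one_smul] at hg
      rw [one_smul, hg]
    · rw [Subgroup.eq_bot_iff_forall]
      intro x _
      exact Subtype.ext ((hG _).trans (hG _).symm)
  push_neg at hG
  obtain ⟨g₀, hg₀⟩ := hG
  have htop : (⊤ : Subgroup G) ≠ ⊥ := by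
    intro h
    have : g₀ ∈ (⊤ : Subgroup G) := trivial
    rw [h, Subgroup.mem_bot] at this
    exact hg₀ this
  have hex : ∃ n, ∃ V : Subgroup G, V.Normal ∧ V ≠ ⊥ ∧ Nat.card V = n :=
    ⟨_, ⊤, inferInstance, htop, rfl⟩
  obtain ⟨M, hMn, hMne, hMcard⟩ := Nat.find_spec hex
  have hMmin : ∀ K : Subgroup G, K.Normal → K ≤ M → K = ⊥ ∨ K = M := by
    intro K hKn hKM
    by_cases hK : K = ⊥
    · exact Or.inl hK
    · right
      apply Subgroup.eq_of_le_of_card_ge hKM
      rw [hMcard]
      exact Nat.find_min' hex ⟨K, hKn, hK, rfl⟩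
  haveI := hMn
  have hMtr : IsPretransitive M Ω := trans_of_normal hprim M hMn hMne
  obtain ⟨ω₀⟩ : Nonempty Ω := by
    by_contra hemp
    rw [not_nonempty_iff] at hemp
    apply hg₀
    apply FaithfulSMul.eq_of_smul_eq_smul (α := Ω)
    intro x
    exact (hemp.false x).elim
  -- every minimal normal subgroup other than `M` centralizes `M`
  have hcent : ∀ V : Subgroup G, V.Normal → V ≠ ⊥ →
      (∀ K : Subgroup G, K.Normal → K ≤ V → K = ⊥ ∨ K = V) → V ≠ M →
      V ≤ Subgroup.centralizer (M : Set G) := by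
    intro V hVn hVne hVmin hVM
    haveI := hVn
    have hdis : V ⊓ M = ⊥ := by
      rcases hVmin (V ⊓ M) inferInstance inf_le_left with h | h
      · exact h
      · exfalso
        have hle : V ≤ M := by rw [← h]; exact inf_le_right
        rcases hMmin V hVn hle with h' | h'
        · exact hVne h'
        · exact hVM h'
    intro v hv
    rw [Subgroup.mem_centralizer_iff]
    intro a ha
    exact (Subgroup.commute_of_normal_of_disjoint M V hMn hVn
      (by rw [disjoint_iff, inf_comm]; exact hdis) a v ha hv).eq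
  have hCsr : ∀ c ∈ Subgroup.centralizer (M : Set G), ∀ ω : Ω, c • ω = ω → c = 1 :=
    fun c hc ω h => semireg_centralizer M hMtr c hc ω h
  have hMmem : M ∈ {V : Subgroup G | V.Normal ∧ V ≠ ⊥ ∧
      ∀ M : Subgroup G, M.Normal → M ≤ V → M = ⊥ ∨ M = V} := ⟨hMn, hMne, hMmin⟩
  by_cases hMab : ∀ a ∈ M, ∀ b ∈ M, a * b = b * a
  · -- abelian case
    left
    have hMC : M ≤ Subgroup.centralizer (M : Set G) := by
      intro a ha
      rw [Subgroup.mem_centralizer_iff]
      intro b hb
      exact hMab b hb a ha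
    have hMsr : ∀ k ∈ M, ∀ ω : Ω, k • ω = ω → k = 1 := fun k hk => hCsr k (hMC hk)
    have hcardM : Nat.card M = Nat.card Ω :=
      le_antisymm (card_le_of_semireg M hMsr ω₀) (card_ge_of_trans M hMtr ω₀)
    have hCM : Subgroup.centralizer (M : Set G) = M := by
      symm
      apply Subgroup.eq_of_le_of_card_ge hMC
      rw [hcardM]
      exact card_le_of_semireg _ hCsr ω₀
    have hS : {V : Subgroup G | V.Normal ∧ V ≠ ⊥ ∧
        ∀ M : Subgroup G, M.Normal → M ≤ V → M = ⊥ ∨ M = V} = {M} := by
      ext V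
      constructor
      · rintro ⟨hVn, hVne, hVmin⟩
        by_contra hVM
        have hle := hcent V hVn hVne hVmin hVM
        rw [hCM] at hle
        rcases hMmin V hVn hle with h' | h'
        · exact hVne h'
        · exact hVM h'
      · intro hV
        rw [Set.mem_singleton_iff] at hV
        rw [hV]
        exact hMmem
    rw [hS, sSup_singleton] at hN
    have hN' := hN.symm; subst hN'
    -- exponent p
    have hcard1 : Nat.card M ≠ 1 := by
      intro h1
      exact hMne (Subgroup.card_eq_one.mp h1)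
    obtain ⟨p, hp, hpd⟩ := Nat.exists_prime_and_dvd hcard1
    haveI : Fact p.Prime := ⟨hp⟩
    obtain ⟨x, hx⟩ := exists_prime_orderOf_dvd_card' p hpd
    let K : Subgroup G :=
      { carrier := {y | y ∈ M ∧ y ^ p = 1}
        one_mem' := ⟨M.one_mem, one_pow _⟩
        mul_mem' := fun {a b} ha hb => ⟨M.mul_mem ha.1 hb.1, by
          rw [(show Commute a b from hMab a ha.1 b hb.1).mul_pow, ha.2, hb.2, one_mul]⟩
        inv_mem' := fun {a} ha => ⟨M.inv_mem ha.1, by rw [inv_pow, ha.2, inv_one]⟩ }
    have hKn : K.Normal := by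
      constructor
      intro y hy g
      exact ⟨hMn.conj_mem y hy.1 g, by rw [conj_pow, hy.2, mul_one, mul_inv_cancel]⟩
    have hKM : K ≤ M := fun y hy => hy.1
    have hKne : K ≠ ⊥ := by
      intro hK
      have hxK : (x : G) ∈ K := ⟨x.2, by
        have h1 : x ^ p = 1 := by rw [← hx]; exact pow_orderOf_eq_one x
        have h2 := congrArg (Subtype.val) h1
        simpa using h2⟩
      rw [hK, Subgroup.mem_bot] at hxK
      have hx1 : x = 1 := Subtype.ext hxK
      rw [hx1, orderOf_one] at hx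
      exact hp.one_lt.ne hx
    have hKeq : K = M := (hMmin K hKn hKM).resolve_left hKne
    refine ⟨p, hp, ⟨⟨fun a b => Subtype.ext (hMab a a.2 b b.2)⟩⟩, fun y => ?_, hMtr, fun ω => ?_⟩
    · have hy : (y : G) ∈ K := by rw [hKeq]; exact y.2
      exact Subtype.ext (by simpa using hy.2)
    · rw [Subgroup.eq_bot_iff_forall]
      intro y hy
      exact Subtype.ext (hMsr y y.2 ω hy)
  · -- non-abelian case
    right
    obtain ⟨T, instT, m, hTs, hm, ⟨e⟩⟩ := Cfsg.Agent.S0721.result M hMne hMmin
    have hTnc : ¬ IsMulCommutative T := by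
      intro hc
      apply hMab
      intro a ha b hb
      have h1 : e (⟨a, ha⟩ * ⟨b, hb⟩) = e (⟨b, hb⟩ * ⟨a, ha⟩) := by
        rw [map_mul, map_mul]
        funext i
        exact hc.is_comm.comm _ _
      exact congrArg Subtype.val (e.injective h1)
    by_cases hex2 : ∃ V : Subgroup G, (V.Normal ∧ V ≠ ⊥ ∧
        ∀ K : Subgroup G, K.Normal → K ≤ V → K = ⊥ ∨ K = V) ∧ V ≠ M
    · obtain ⟨V, ⟨hVn, hVne, hVmin⟩, hVM⟩ := hex2
      set C := Subgroup.centralizer (M : Set G) with hCdef
      have hCn : C.Normal := Subgroup.normal_centralizer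
      have hVC : V ≤ C := hcent V hVn hVne hVmin hVM
      have hCne : C ≠ ⊥ := by
        intro h
        rw [h, le_bot_iff] at hVC
        exact hVne hVC
      have hCtr : IsPretransitive C Ω := trans_of_normal hprim C hCn hCne
      have hVtr : IsPretransitive V Ω := trans_of_normal hprim V hVn hVne
      have hcardC : Nat.card C = Nat.card Ω :=
        le_antisymm (card_le_of_semireg C hCsr ω₀) (card_ge_of_trans C hCtr ω₀)
      have hMsr : ∀ k ∈ M, ∀ ω : Ω, k • ω = ω → k = 1 := by
        intro k hk ω h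
        apply semireg_centralizer C hCtr k ?_ ω h
        rw [Subgroup.mem_centralizer_iff]
        intro c hc
        exact ((Subgroup.mem_centralizer_iff.mp hc) k hk).symm
      have hcardM : Nat.card M = Nat.card Ω :=
        le_antisymm (card_le_of_semireg M hMsr ω₀) (card_ge_of_trans M hMtr ω₀)
      have hVeq : V = C := by
        apply Subgroup.eq_of_le_of_card_ge hVC
        rw [hcardC]
        exact card_ge_of_trans V hVtr ω₀
      have hS : {V : Subgroup G | V.Normal ∧ V ≠ ⊥ ∧
          ∀ M : Subgroup G, M.Normal → M ≤ V → M = ⊥ ∨ M = V} = {M, C} := by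
        ext W
        constructor
        · rintro ⟨hWn, hWne, hWmin⟩
          by_cases hWM : W = M
          · exact Or.inl hWM
          · right
            have hWC : W ≤ C := hcent W hWn hWne hWmin hWM
            have hWtr : IsPretransitive W Ω := trans_of_normal hprim W hWn hWne
            apply Subgroup.eq_of_le_of_card_ge hWC
            rw [hcardC]
            exact card_ge_of_trans W hWtr ω₀
        · rintro (hW | hW)
          · rw [hW]; exact hMmem
          · rw [Set.mem_singleton_iff] at hW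
            rw [hW, ← hVeq]
            exact ⟨hVn, hVne, hVmin⟩
      rw [hS, sSup_pair] at hN
      have hcomm : ∀ a ∈ M, ∀ c ∈ C, a * c = c * a := fun a ha c hc =>
        (Subgroup.mem_centralizer_iff.mp hc) a ha
      have hdisj : M ⊓ C = ⊥ := by
        rcases hMmin (M ⊓ C) inferInstance inf_le_left with h | h
        · exact h
        · exfalso
          apply hMab
          intro a ha b hb
          have hbC : b ∈ C := by
            have : b ∈ M ⊓ C := by rw [h]; exact hb
            exact this.2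
          exact hcomm a ha b hbC
      obtain ⟨e1⟩ := nonempty_prod_equiv_sup M C hcomm hdisj
      obtain ⟨e2⟩ := nonempty_equiv_of_regular M C ω₀ hcomm hMtr hMsr hCsr (hcardC.trans hcardM.symm)
      refine ⟨T, instT, m + m, by omega, hTs, hTnc, ⟨?_⟩⟩
      exact (MulEquiv.subgroupCongr hN).trans (e1.symm.trans
        ((MulEquiv.prodCongr e (e2.trans e)).trans (appendMulEquiv T m m)))
    · have hS : {V : Subgroup G | V.Normal ∧ V ≠ ⊥ ∧
          ∀ M : Subgroup G, M.Normal → M ≤ V → M = ⊥ ∨ M = V} = {M} := by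
        ext V
        constructor
        · intro hV
          by_contra hVM
          exact hex2 ⟨V, hV, hVM⟩
        · intro hV
          rw [Set.mem_singleton_iff] at hV
          rw [hV]
          exact hMmem
      rw [hS, sSup_singleton] at hN
      have hN' := hN.symm; subst hN'
      exact ⟨T, instT, m, hm, hTs, hTnc, ⟨e⟩⟩

end Cfsg.Agent.S3680
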