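import Cfsg.Statements.S3494
import Mathlib

set_option autoImplicit false
open Cfsg

namespace Cfsg.Agent.S3494

open MulAction
open scoped Pointwise

lemma orbit_card_mul {G Ω : Type*} [Group G] [Finite G] [MulAction G Ω] (H : Subgroup G) (x : Ω) :
    (orbit H x).ncard * Nat.card (H ⊓ stabilizer G x : Subgroup G) = Nat.card H := by
  have h1 : (stabilizer H x).index = (orbit H x).ncard := index_stabilizer H x
  have h2 := Subgroup.card_mul_index (stabilizer H x)
  have h3 : Nat.card (stabilizer H x) = Nat.card (H ⊓ stabilizer G x : Subgroup G) := by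
    apply Nat.card_congr
    exact
      { toFun := fun a => ⟨((a : H) : G), Subgroup.mem_inf.mpr ⟨(a : H).2, a.2⟩⟩
        invFun := fun b => ⟨⟨b, (Subgroup.mem_inf.mp b.2).1⟩, (Subgroup.mem_inf.mp b.2).2⟩
        left_inv := fun a => rfl
        right_inv := fun b => rfl }
  rw [← h1, ← h3, mul_comm]
  exact h2

/-- Manning's Theorem on extremely primitive groups. -/
theorem result {G : Type*} [Group G] [Finite G] {Ω : Type*} [Fintype Ω] [MulAction G Ω] [FaithfulSMul G Ω] (hprim : MulAction.IsPreprimitive G Ω) (hH : ∀ α : Ω, MulAction.stabilizer G α ≠ ⊥) (hep : ∀ (α : Ω) (ω : Ω), MulAction.IsPreprimitive (MulAction.stabilizer G α) (MulAction.orbit (MulAction.stabilizer G α) ω))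
    (α ω : Ω) (hω : ω ≠ α) (h : MulAction.stabilizer G α) (hfix : ∀ x ∈ MulAction.orbit (MulAction.stabilizer G α) ω, h • x = x) : h = 1 := by
  classical
  have hnt : Nontrivial Ω := ⟨⟨ω, α, hω⟩⟩
  have htr : IsPretransitive G Ω := hprim.toIsPretransitive
  have hcoatom : ∀ β : Ω, IsCoatom (stabilizer G β) :=
    fun β => (isCoatom_stabilizer_iff_preprimitive G β).mpr hprim
  have hΔinv : ∀ a ∈ stabilizer G α, ∀ x ∈ orbit (stabilizer G α) ω,
      a • x ∈ orbit (stabilizer G α) ω := by
    intro a ha x hx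
    exact MulAction.mem_orbit_of_mem_orbit (⟨a, ha⟩ : stabilizer G α) hx
  have hαΔ : α ∉ orbit (stabilizer G α) ω := by
    rintro ⟨a, ha⟩
    apply hω
    have h1 : ω = (a : G)⁻¹ • ((a : G) • ω) := by simp
    have h2 : (a : G) • ω = α := ha
    rw [h1, h2]
    exact mem_stabilizer_iff.mp (Subgroup.inv_mem _ a.2)
  let K : Subgroup G :=
    { carrier := {k | k • α = α ∧ ∀ x ∈ orbit (stabilizer G α) ω, k • x = x}
      one_mem' := ⟨one_smul _ _, fun x _ => one_smul _ _⟩
      mul_mem' := by
        rintro a b ⟨ha1, ha2⟩ ⟨hb1, hb2⟩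
        exact ⟨by rw [mul_smul, hb1, ha1], fun x hx => by rw [mul_smul, hb2 x hx, ha2 x hx]⟩
      inv_mem' := by
        rintro a ⟨ha1, ha2⟩
        exact ⟨by rw [inv_smul_eq_iff, ha1], fun x hx => by rw [inv_smul_eq_iff, ha2 x hx]⟩ }
  have hKA : K ≤ stabilizer G α := fun k hk => mem_stabilizer_iff.mpr hk.1
  have hhK : (h : G) ∈ K := ⟨mem_stabilizer_iff.mp h.2, fun x hx => hfix x hx⟩
  suffices hK : K = ⊥ by
    rw [hK, Subgroup.mem_bot] at hhK
    exact Subtype.ext hhK
  have hAK : ∀ a ∈ stabilizer G α, ∀ k ∈ K, a * k * a⁻¹ ∈ K := by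
    intro a ha k hk
    refine ⟨?_, ?_⟩
    · have h1 : a * k * a⁻¹ ∈ stabilizer G α :=
        Subgroup.mul_mem _ (Subgroup.mul_mem _ ha (hKA hk)) (Subgroup.inv_mem _ ha)
      exact mem_stabilizer_iff.mp h1
    · intro x hx
      have h1 := hΔinv a⁻¹ (Subgroup.inv_mem _ ha) x hx
      rw [mul_smul, mul_smul, hk.2 _ h1, smul_inv_smul]
  obtain ⟨g, hg⟩ := MulAction.exists_smul_eq G α ω
  by_cases hcase : ∀ k ∈ K, ∀ x ∈ orbit (stabilizer G α) ω, k • (g • x) = g • x
  · have hgK : ∀ k ∈ K, g⁻¹ * k * g ∈ K := by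
      intro k hk
      refine ⟨?_, ?_⟩
      · rw [mul_smul, mul_smul, hg, hk.2 ω (mem_orbit_self ω), ← hg, inv_smul_smul]
      · intro x hx
        rw [mul_smul, mul_smul, hcase k hk x hx, inv_smul_smul]
    have hginvN : g⁻¹ ∈ Subgroup.normalizer (K : Set G) := by
      rw [Subgroup.mem_normalizer_iff]
      intro k
      rw [inv_inv]
      constructor
      · exact hgK k
      · intro hk
        let φ : K → K := fun k => ⟨g⁻¹ * k * g, hgK k k.2⟩
        have hφinj : Function.Injective φ := by
          intro a b hab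
          have h1 := congrArg Subtype.val hab
          simp only [φ] at h1
          exact Subtype.ext (mul_left_cancel (mul_right_cancel h1))
        obtain ⟨k', hk'⟩ := (Finite.injective_iff_surjective.mp hφinj) ⟨g⁻¹ * k * g, hk⟩
        have h1 := congrArg Subtype.val hk'
        simp only [φ] at h1
        have h2 : (k' : G) = k := mul_left_cancel (mul_right_cancel h1)
        rw [← h2]
        exact k'.2
    have hAN : stabilizer G α ≤ Subgroup.normalizer (K : Set G) := by
      intro a ha
      rw [Subgroup.mem_normalizer_iff]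
      intro k
      constructor
      · exact hAK a ha k
      · intro hk
        have h1 := hAK a⁻¹ (Subgroup.inv_mem _ ha) _ hk
        have h2 : a⁻¹ * (a * k * a⁻¹) * a⁻¹⁻¹ = k := by group
        rwa [h2] at h1
    have hginvA : g⁻¹ ∉ stabilizer G α := by
      intro hmem
      have h1 := mem_stabilizer_iff.mp (Subgroup.inv_mem _ hmem)
      rw [inv_inv, hg] at h1
      exact hω h1
    have hNtop : Subgroup.normalizer (K : Set G) = ⊤ := by
      apply (hcoatom α).2
      exact lt_of_le_of_ne hAN (fun heq => hginvA (heq ▸ hginvN))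
    rw [eq_bot_iff]
    intro k hk
    rw [Subgroup.mem_bot]
    apply FaithfulSMul.eq_of_smul_eq_smul (α := Ω)
    intro x
    rw [one_smul]
    obtain ⟨y, hy⟩ := MulAction.exists_smul_eq G α x
    have hyN : y⁻¹ ∈ Subgroup.normalizer (K : Set G) := by
      rw [hNtop]; exact Subgroup.mem_top _
    have h2 := (Subgroup.mem_normalizer_iff.mp hyN k).mp hk
    rw [inv_inv] at h2
    have h3 := h2.1
    rw [mul_smul, mul_smul, hy, inv_smul_eq_iff, hy] at h3
    exact h3
  · exfalso
    simp only [not_forall] at hcase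
    obtain ⟨k, hk, x, hx, hmove⟩ := hcase
    obtain ⟨a₀, ha₀⟩ := hx
    have ha₀' : (a₀ : G) • ω = x := ha₀
    have hyα : (g * (a₀ : G)) • α = ω := by
      rw [mul_smul, mem_stabilizer_iff.mp a₀.2, hg]
    have hθx : (g * (a₀ : G)) • ω = g • x := by rw [mul_smul, ha₀']
    have hkθ : k • ((g * (a₀ : G)) • ω) ≠ (g * (a₀ : G)) • ω := by
      rw [hθx]; exact hmove
    generalize hydef : g * (a₀ : G) = y at hyα hθx hkθ
    generalize hθdef : y • ω = θ at hθx hkθ
    have hK'n : (K.subgroupOf (stabilizer G α)).Normal := by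
      constructor
      intro n hn a
      rw [Subgroup.mem_subgroupOf] at hn ⊢
      exact hAK a a.2 n hn
    haveI := hep α θ
    have hfp : fixedPoints (K.subgroupOf (stabilizer G α)) (orbit (stabilizer G α) θ) ≠ Set.univ := by
      intro heq
      have hmem : (⟨θ, mem_orbit_self θ⟩ : orbit (stabilizer G α) θ) ∈
          fixedPoints (K.subgroupOf (stabilizer G α)) (orbit (stabilizer G α) θ) := by
        rw [heq]; exact Set.mem_univ _
      have h1 := hmem ⟨⟨k, hKA hk⟩, Subgroup.mem_subgroupOf.mpr hk⟩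
      have h2 := congrArg Subtype.val h1
      exact hkθ h2
    have htrK : IsPretransitive (K.subgroupOf (stabilizer G α)) (orbit (stabilizer G α) θ) :=
      IsQuasiPreprimitive.isPretransitive_of_normal hfp
    have hsub : orbit (stabilizer G α) ω ⊆ orbit (stabilizer G θ) ω := by
      rintro _ ⟨a, rfl⟩
      obtain ⟨k', hk'⟩ := MulAction.exists_smul_eq (K.subgroupOf (stabilizer G α))
        (⟨θ, mem_orbit_self θ⟩ : orbit (stabilizer G α) θ)
        (⟨(a⁻¹ : stabilizer G α) • θ, mem_orbit θ a⁻¹⟩)
      have hk'' : ((k' : stabilizer G α) : G) • θ = ((a : G))⁻¹ • θ := congrArg Subtype.val hk'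
      have hk'K : ((k' : stabilizer G α) : G) ∈ K := Subgroup.mem_subgroupOf.mp k'.2
      refine ⟨⟨(a : G) * ((k' : stabilizer G α) : G), ?_⟩, ?_⟩
      · rw [mem_stabilizer_iff, mul_smul, hk'', smul_inv_smul]
      · change ((a : G) * ((k' : stabilizer G α) : G)) • ω = (a : G) • ω
        rw [mul_smul, hk'K.2 ω (mem_orbit_self ω)]
    have hc1 := orbit_card_mul (stabilizer G α) ω
    have hc2 := orbit_card_mul (stabilizer G θ) ω
    have hcardθ : Nat.card (stabilizer G θ) = Nat.card (stabilizer G α) := by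
      have h1 : stabilizer G θ = (stabilizer G α).map (MulAut.conj (y * y)).toMonoidHom := by
        rw [← stabilizer_smul_eq_stabilizer_map_conj, mul_smul, hyα, hθdef]
      rw [h1]
      exact Subgroup.card_map_of_injective (MulAut.conj (y * y)).injective
    have hcardθω : Nat.card (stabilizer G θ ⊓ stabilizer G ω : Subgroup G) =
        Nat.card (stabilizer G α ⊓ stabilizer G ω : Subgroup G) := by
      have h1 : stabilizer G θ ⊓ stabilizer G ω =
          (stabilizer G α ⊓ stabilizer G ω).map (MulAut.conj y).toMonoidHom := by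
        rw [Subgroup.map_inf_eq _ _ _ (MulAut.conj y).injective,
          ← stabilizer_smul_eq_stabilizer_map_conj, ← stabilizer_smul_eq_stabilizer_map_conj,
          hyα, hθdef, inf_comm]
      rw [h1]
      exact Subgroup.card_map_of_injective (MulAut.conj y).injective
    have hpos : 0 < Nat.card (stabilizer G α ⊓ stabilizer G ω : Subgroup G) := Nat.card_pos
    have hncard : (orbit (stabilizer G θ) ω).ncard = (orbit (stabilizer G α) ω).ncard := by
      rw [hcardθω, hcardθ, ← hc1] at hc2
      exact Nat.eq_of_mul_eq_mul_right hpos hc2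
    have hΔeq : orbit (stabilizer G α) ω = orbit (stabilizer G θ) ω :=
      Set.eq_of_subset_of_ncard_le hsub (le_of_eq hncard) (Set.toFinite _)
    have hA_le : stabilizer G α ≤ stabilizer G (orbit (stabilizer G α) ω) := by
      intro a ha
      rw [mem_stabilizer_iff]
      exact smul_orbit (⟨a, ha⟩ : stabilizer G α) ω
    have hθ_le : stabilizer G θ ≤ stabilizer G (orbit (stabilizer G α) ω) := by
      intro s hs
      rw [mem_stabilizer_iff, hΔeq]
      exact smul_orbit (⟨s, hs⟩ : stabilizer G θ) ω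
    rcases (hcoatom α).le_iff.mp hA_le with htop | heq
    · obtain ⟨g', hg'⟩ := MulAction.exists_smul_eq G ω α
      have h1 : g' ∈ stabilizer G (orbit (stabilizer G α) ω) := by
        rw [htop]; exact Subgroup.mem_top _
      rw [mem_stabilizer_iff] at h1
      apply hαΔ
      rw [← h1, ← hg']
      exact Set.smul_mem_smul_set (mem_orbit_self ω)
    · rw [heq] at hθ_le
      have h1 : stabilizer G θ = stabilizer G α := by
        by_contra hne
        exact (hcoatom α).1 ((hcoatom θ).2 _ (lt_of_le_of_ne hθ_le hne))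
      have hkθ' : k ∈ stabilizer G θ := by rw [h1]; exact hKA hk
      exact hkθ (mem_stabilizer_iff.mp hkθ')

end Cfsg.Agent.S3494
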