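import Cfsg.Statements.S3495
import Cfsg.Agent.S3494

set_option autoImplicit false
open Cfsg

namespace Cfsg.Agent.S3495

open MulAction

/-- Normal subgroups of point stabilizers in extremely primitive groups of affine type. -/
theorem result {G : Type*} [Group G] [Finite G] {Ω : Type*} [Fintype Ω] [MulAction G Ω] [FaithfulSMul G Ω] (hprim : MulAction.IsPreprimitive G Ω) (hH : ∀ α : Ω, MulAction.stabilizer G α ≠ ⊥) (hep : ∀ (α : Ω) (ω : Ω), MulAction.IsPreprimitive (MulAction.stabilizer G α) (MulAction.orbit (MulAction.stabilizer G α) ω))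
    (N : Subgroup G) [N.Normal] (hNc : IsMulCommutative N) (p : ℕ) (hp : p.Prime) (hNp : ∀ n ∈ N, n ^ p = 1)
    (hNtr : MulAction.IsPretransitive N Ω) (hNreg : ∀ ω : Ω, MulAction.stabilizer N ω = ⊥) (α : Ω) (M : Subgroup G) (hM : M ≠ ⊥) (hMle : M ≤ MulAction.stabilizer G α)
    (hMn : MulAction.stabilizer G α ≤ Subgroup.normalizer (M : Set G)) :
    (∀ ω : Ω, MulAction.orbit M ω = MulAction.orbit (MulAction.stabilizer G α) ω) ∧
    (∀ L : Subgroup G, L ≤ N → M ≤ Subgroup.normalizer (L : Set G) → L = ⊥ ∨ L = N) := by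
  classical
  have htr : IsPretransitive G Ω := hprim.toIsPretransitive
  have part1 : ∀ ω : Ω, orbit M ω = orbit (stabilizer G α) ω := by
    intro ω
    apply Set.Subset.antisymm
    · rintro _ ⟨m, rfl⟩
      exact ⟨⟨(m : G), hMle m.2⟩, rfl⟩
    · rintro _ ⟨a, rfl⟩
      by_cases hωα : ω = α
      · refine ⟨1, ?_⟩
        change (1 : M) • ω = (a : G) • ω
        rw [one_smul, hωα]
        exact (mem_stabilizer_iff.mp a.2).symm
      · haveI := hep α ω
        have hM'n : (M.subgroupOf (stabilizer G α)).Normal := by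
          constructor
          intro n hn b
          rw [Subgroup.mem_subgroupOf] at hn ⊢
          exact (Subgroup.mem_normalizer_iff.mp (hMn b.2) n).mp hn
        have hfp : fixedPoints (M.subgroupOf (stabilizer G α)) (orbit (stabilizer G α) ω)
            ≠ Set.univ := by
          intro heq
          apply hM
          rw [eq_bot_iff]
          intro m hm
          rw [Subgroup.mem_bot]
          have h1 := Cfsg.Agent.S3494.result hprim hH hep α ω hωα ⟨m, hMle hm⟩ (by
            intro x hx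
            have hmem : (⟨x, hx⟩ : orbit (stabilizer G α) ω) ∈
                fixedPoints (M.subgroupOf (stabilizer G α)) (orbit (stabilizer G α) ω) := by
              rw [heq]; exact Set.mem_univ _
            have h2 := hmem ⟨⟨m, hMle hm⟩, Subgroup.mem_subgroupOf.mpr hm⟩
            exact congrArg Subtype.val h2)
          exact congrArg Subtype.val h1
        have htrM : IsPretransitive (M.subgroupOf (stabilizer G α))
            (orbit (stabilizer G α) ω) := IsQuasiPreprimitive.isPretransitive_of_normal hfp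
        obtain ⟨m', hm'⟩ := MulAction.exists_smul_eq (M.subgroupOf (stabilizer G α))
          (⟨ω, mem_orbit_self ω⟩ : orbit (stabilizer G α) ω) ⟨a • ω, mem_orbit ω a⟩
        refine ⟨⟨((m' : stabilizer G α) : G), Subgroup.mem_subgroupOf.mp m'.2⟩, ?_⟩
        exact congrArg Subtype.val hm'
  refine ⟨part1, ?_⟩
  intro L hLN hML
  by_cases hL : L = ⊥
  · left; exact hL
  right
  have hreg : ∀ n ∈ N, ∀ x : Ω, n • x = x → n = 1 := by
    intro n hn x hx
    have h1 : (⟨n, hn⟩ : N) ∈ stabilizer N x := mem_stabilizer_iff.mpr hx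
    rw [hNreg x, Subgroup.mem_bot] at h1
    exact congrArg Subtype.val h1
  have hAL : ∀ a ∈ stabilizer G α, ∀ l ∈ L, a * l * a⁻¹ ∈ L := by
    intro a ha l hl
    have hmem : a • l • α ∈ orbit (stabilizer G α) (l • α) := ⟨⟨a, ha⟩, rfl⟩
    rw [← part1] at hmem
    obtain ⟨m, hm⟩ := hmem
    have hm' : (m : G) • l • α = a • l • α := hm
    have hl' : (m : G) * l * (m : G)⁻¹ ∈ L :=
      (Subgroup.mem_normalizer_iff.mp (hML m.2) l).mp hl
    have h1 : (a * l * a⁻¹) • α = ((m : G) * l * (m : G)⁻¹) • α := by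
      rw [mul_smul, mul_smul, mul_smul, mul_smul,
        mem_stabilizer_iff.mp (Subgroup.inv_mem _ ha),
        mem_stabilizer_iff.mp (Subgroup.inv_mem _ (hMle m.2)), hm']
    have hN1 : a * l * a⁻¹ ∈ N := ‹N.Normal›.conj_mem l (hLN hl) a
    have hN2 : (m : G) * l * (m : G)⁻¹ ∈ N := hLN hl'
    have h2 := hreg (((m : G) * l * (m : G)⁻¹)⁻¹ * (a * l * a⁻¹))
      (N.mul_mem (N.inv_mem hN2) hN1) α (by rw [mul_smul, h1, inv_smul_smul])
    rw [inv_mul_eq_one] at h2
    rw [← h2]
    exact hl'
  have hNL : ∀ n ∈ N, ∀ l ∈ L, n * l * n⁻¹ ∈ L := by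
    intro n hn l hl
    have hcomm : n * l = l * n := by
      have h1 := hNc.is_comm.comm (⟨n, hn⟩ : N) ⟨l, hLN hl⟩
      exact congrArg Subtype.val h1
    rw [hcomm, mul_assoc, mul_inv_cancel, mul_one]
    exact hl
  have hLnormal : L.Normal := by
    constructor
    intro l hl g
    obtain ⟨n, hn⟩ := MulAction.exists_smul_eq N α (g • α)
    have hn' : (n : G) • α = g • α := hn
    have ha : (n : G)⁻¹ * g ∈ stabilizer G α := by
      rw [mem_stabilizer_iff, mul_smul, ← hn', inv_smul_smul]
    have h1 := hAL _ ha l hl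
    have h2 := hNL n n.2 _ h1
    have h3 : (n : G) * ((n : G)⁻¹ * g * l * ((n : G)⁻¹ * g)⁻¹) * (n : G)⁻¹ = g * l * g⁻¹ := by
      group
    rwa [h3] at h2
  have hfpL : fixedPoints L Ω ≠ Set.univ := by
    intro heq
    apply hL
    rw [eq_bot_iff]
    intro l hl
    rw [Subgroup.mem_bot]
    apply FaithfulSMul.eq_of_smul_eq_smul (α := Ω)
    intro x
    rw [one_smul]
    have hx : x ∈ fixedPoints L Ω := by rw [heq]; exact Set.mem_univ _
    exact hx ⟨l, hl⟩
  have htrL : IsPretransitive L Ω := IsQuasiPreprimitive.isPretransitive_of_normal hfpL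
  apply le_antisymm hLN
  intro n hn
  obtain ⟨l, hl⟩ := MulAction.exists_smul_eq L α (n • α)
  have hl' : (l : G) • α = n • α := hl
  have h2 := hreg ((l : G)⁻¹ * n) (N.mul_mem (N.inv_mem (hLN l.2)) hn) α (by
    rw [mul_smul, ← hl', inv_smul_smul])
  rw [inv_mul_eq_one] at h2
  rw [← h2]
  exact l.2

end Cfsg.Agent.S3495
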