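import Cfsg.Statements.S3501
import Cfsg.Agent.S3680
import Cfsg.Agent.Lib.Helper19.ProdDer

set_option autoImplicit false
open Cfsg

namespace Cfsg.Agent.S3501

open MulAction Cfsg.Agent.Lib.Helper19

section helpers

variable {G Ω : Type*} [Group G] [MulAction G Ω]

/-- the class-count condition, unpacked -/
theorem card_classes_eq_one_iff :
    Nat.card {c : ConjClasses G // ∃ g : G, ConjClasses.mk g = c ∧ ∀ ω : Ω, g • ω ≠ ω} = 1 ↔
      (∃ x : G, ∀ ω : Ω, x • ω ≠ ω) ∧
        ∀ x y : G, (∀ ω : Ω, x • ω ≠ ω) → (∀ ω : Ω, y • ω ≠ ω) → IsConj x y := by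
  rw [Nat.card_eq_one_iff_unique]
  constructor
  · rintro ⟨hsub, ⟨⟨c, g, hg, hd⟩⟩⟩
    refine ⟨⟨g, hd⟩, fun x y hx hy => ?_⟩
    have h := hsub.elim ⟨ConjClasses.mk x, x, rfl, hx⟩ ⟨ConjClasses.mk y, y, rfl, hy⟩
    exact ConjClasses.mk_eq_mk_iff_isConj.mp (congrArg Subtype.val h)
  · rintro ⟨⟨x, hx⟩, hall⟩
    refine ⟨⟨?_⟩, ⟨⟨ConjClasses.mk x, x, rfl, hx⟩⟩⟩
    rintro ⟨c₁, g₁, h₁, hd₁⟩ ⟨c₂, g₂, h₂, hd₂⟩
    apply Subtype.ext
    show c₁ = c₂
    rw [← h₁, ← h₂]
    exact ConjClasses.mk_eq_mk_iff_isConj.mpr (hall g₁ g₂ hd₁ hd₂)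

/-- sharply 2-transitive groups have a single class of derangements -/
theorem conj_of_sharp [Finite G] [Fintype Ω] (hΩ : 2 ≤ Fintype.card Ω)
    (h2 : IsMultiplyPretransitive G Ω 2)
    (hsharp : ∀ g : G, g ≠ 1 → ∀ a b : Ω, a ≠ b → g • a = a → g • b ≠ b) :
    (∃ x : G, ∀ ω : Ω, x • ω ≠ ω) ∧
        ∀ x y : G, (∀ ω : Ω, x • ω ≠ ω) → (∀ ω : Ω, y • ω ≠ ω) → IsConj x y := by
  classical
  let _ : Fintype G := Fintype.ofFinite G
  have htrans : IsPretransitive G Ω := @isPretransitive_of_is_two_pretransitive G Ω _ _ h2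
  rw [is_two_pretransitive_iff] at h2
  obtain ⟨a, b, hab⟩ := Fintype.exists_pair_of_one_lt_card (by omega : 1 < Fintype.card Ω)
  have : Nonempty Ω := ⟨a⟩
  set n := Fintype.card Ω with hn
  let D : Finset G := Finset.univ.filter (fun g => ∀ ω : Ω, g • ω ≠ ω)
  have hDmem : ∀ g : G, g ∈ D ↔ ∀ ω : Ω, g • ω ≠ ω := fun g => by
    simp only [D, Finset.mem_filter, Finset.mem_univ, true_and]
  have hB := burnside_natCard G Ω
  have horb : Nat.card (orbitRel.Quotient G Ω) = 1 := by
    have : Subsingleton (orbitRel.Quotient G Ω) :=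
      (pretransitive_iff_subsingleton_quotient G Ω).mp inferInstance
    have : Nonempty (orbitRel.Quotient G Ω) := ⟨Quotient.mk'' a⟩
    exact Nat.card_eq_one_iff_unique.mpr ⟨inferInstance, inferInstance⟩
  rw [horb, one_mul] at hB
  have hpt : ∀ g : G, Nat.card (fixedBy Ω g) + (if g ∈ D then 1 else 0) =
      1 + (if g = 1 then n - 1 else 0) := by
    intro g
    by_cases hg1 : g = 1
    · subst hg1
      have h1 : (1 : G) ∉ D := by
        intro h
        exact (hDmem 1).mp h a (one_smul _ _)
      rw [if_neg h1, if_pos rfl]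
      have h2 : Nat.card (fixedBy Ω (1 : G)) = n := by
        rw [hn, ← Nat.card_eq_fintype_card]
        apply Nat.card_congr
        exact Equiv.subtypeUnivEquiv (fun ω => by simp)
      rw [h2]; omega
    · rw [if_neg hg1]
      by_cases hgD : g ∈ D
      · rw [if_pos hgD]
        have : Nat.card (fixedBy Ω g) = 0 := by
          have : IsEmpty (fixedBy Ω g) := ⟨fun ⟨ω, hω⟩ => (hDmem g).mp hgD ω hω⟩
          exact Nat.card_of_isEmpty
        rw [this]
      · rw [if_neg hgD]
        have hex : ∃ ω : Ω, g • ω = ω := by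
          by_contra hcon
          push Not at hcon
          exact hgD ((hDmem g).mpr hcon)
        obtain ⟨ω, hω⟩ := hex
        have : Nat.card (fixedBy Ω g) = 1 := by
          rw [Nat.card_eq_one_iff_unique]
          refine ⟨⟨?_⟩, ⟨⟨ω, hω⟩⟩⟩
          rintro ⟨ω₁, h₁⟩ ⟨ω₂, h₂⟩
          apply Subtype.ext
          show ω₁ = ω₂
          by_contra hne
          exact hsharp g hg1 ω₁ ω₂ hne h₁ h₂
        rw [this]
  have hD : D.card = n - 1 := by
    have hsum := Finset.sum_congr (rfl : (Finset.univ : Finset G) = Finset.univ)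
      (fun g _ => hpt g)
    rw [Finset.sum_add_distrib, Finset.sum_add_distrib, hB] at hsum
    have e1 : ∑ g : G, (if g ∈ D then 1 else 0) = D.card := by
      rw [Finset.sum_boole]
      simp
    have e2 : ∑ g : G, (if g = 1 then n - 1 else 0) = n - 1 := by
      simp
    have e3 : ∑ _g : G, 1 = Nat.card G := by simp [Nat.card_eq_fintype_card]
    rw [e1, e2, e3] at hsum
    omega
  have hDpos : 0 < D.card := by rw [hD]; omega
  constructor
  · obtain ⟨x, hx⟩ := Finset.card_pos.mp hDpos
    exact ⟨x, (hDmem x).mp hx⟩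
  · intro x y hx hy
    have hex : ∀ c : Ω, ∃ h : G, c ≠ a → (h • a = a ∧ h • (x • a) = c) := by
      intro c
      by_cases hc : c = a
      · exact ⟨1, fun h => (h hc).elim⟩
      · obtain ⟨h, h1, h2⟩ := h2 (Ne.symm (hx a)) (Ne.symm hc)
        exact ⟨h, fun _ => ⟨h1, h2⟩⟩
    choose ψ hψ using hex
    let I : Finset G := (Finset.univ.erase a).image (fun c => ψ c * x * (ψ c)⁻¹)
    have hval : ∀ c : Ω, c ≠ a → (ψ c * x * (ψ c)⁻¹) • a = c := by
      intro c hc
      obtain ⟨h1, h2⟩ := hψ c hc
      have h3 : (ψ c)⁻¹ • a = a := by rw [inv_smul_eq_iff, h1]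
      rw [mul_smul, mul_smul, h3, h2]
    have hIcard : I.card = n - 1 := by
      rw [Finset.card_image_of_injOn, Finset.card_erase_of_mem (Finset.mem_univ a),
        Finset.card_univ]
      intro c hc c' hc' hcc
      have hc1 : c ≠ a := Finset.ne_of_mem_erase hc
      have hc1' : c' ≠ a := Finset.ne_of_mem_erase hc'
      have h4 := hval c hc1
      rw [show ψ c * x * (ψ c)⁻¹ = ψ c' * x * (ψ c')⁻¹ from hcc, hval c' hc1'] at h4
      exact h4.symm
    have hIsub : I ⊆ D := by
      intro z hz
      obtain ⟨c, _, rfl⟩ := Finset.mem_image.mp hz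
      rw [hDmem]
      intro ω hω
      apply hx ((ψ c)⁻¹ • ω)
      rw [mul_smul, mul_smul] at hω
      rw [eq_inv_smul_iff]
      exact hω
    have hID : I = D := Finset.eq_of_subset_of_card_le hIsub (by rw [hD, hIcard])
    have hyI : y ∈ I := by rw [hID, hDmem]; exact hy
    obtain ⟨c, _, hc⟩ := Finset.mem_image.mp hyI
    exact isConj_iff.mpr ⟨ψ c, hc⟩

/-- a single class of derangements in a primitive group that is not almost simple forces
sharp 2-transitivity -/
theorem sharp_of_conj [Finite G] [Fintype Ω] [FaithfulSMul G Ω] (hΩ : 2 ≤ Fintype.card Ω)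
    (hprim : IsPreprimitive G Ω)
    (hnas : ¬ ∃ T : Subgroup G, T.Normal ∧ IsSimpleGroup T ∧ ¬ IsMulCommutative T ∧
      Subgroup.centralizer (T : Set G) = ⊥)
    (hconj : ∀ x y : G, (∀ ω : Ω, x • ω ≠ ω) → (∀ ω : Ω, y • ω ≠ ω) → IsConj x y) :
    IsMultiplyPretransitive G Ω 2 ∧
      ∀ g : G, g ≠ 1 → ∀ a b : Ω, a ≠ b → g • a = a → g • b ≠ b := by
  classical
  have hpt : IsPretransitive G Ω := hprim.toIsPretransitive
  obtain ⟨a₀, b₀, hab₀⟩ := Fintype.exists_pair_of_one_lt_card (by omega : 1 < Fintype.card Ω)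
  have hne : Nonempty Ω := ⟨a₀⟩
  obtain ⟨g₀, hg₀a⟩ := MulAction.exists_smul_eq G a₀ b₀
  have hg₀ : g₀ ≠ 1 := by
    rintro rfl
    rw [one_smul] at hg₀a
    exact hab₀ hg₀a
  have htop : (⊤ : Subgroup G) ≠ ⊥ := by
    intro h
    have : g₀ ∈ (⊤ : Subgroup G) := trivial
    rw [h, Subgroup.mem_bot] at this
    exact hg₀ this
  have hex : ∃ n, ∃ V : Subgroup G, V.Normal ∧ V ≠ ⊥ ∧ Nat.card V = n :=
    ⟨_, ⊤, inferInstance, htop, rfl⟩
  obtain ⟨M, hMn, hMne, hMcard⟩ := Nat.find_spec hex
  have hMmin : ∀ K : Subgroup G, K.Normal → K ≤ M → K = ⊥ ∨ K = M := by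
    intro K hKn hKM
    by_cases hK : K = ⊥
    · exact Or.inl hK
    · right
      apply Subgroup.eq_of_le_of_card_ge hKM
      rw [hMcard]
      exact Nat.find_min' hex ⟨K, hKn, hK, rfl⟩
  haveI := hMn
  have hMtr : IsPretransitive M Ω := Cfsg.Agent.S3680.trans_of_normal hprim M hMn hMne
  have hCsr : ∀ c ∈ Subgroup.centralizer (M : Set G), ∀ ω : Ω, c • ω = ω → c = 1 :=
    fun c hc ω h => Cfsg.Agent.S3680.semireg_centralizer M hMtr c hc ω h
  have hMex : ∃ m₀ : G, m₀ ∈ M ∧ m₀ ≠ 1 := by
    by_contra hcon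
    push Not at hcon
    exact hMne ((Subgroup.eq_bot_iff_forall M).mpr hcon)
  obtain ⟨m₀, hm₀M, hm₀⟩ := hMex
  by_cases hMsr : ∀ k ∈ M, ∀ ω : Ω, k • ω = ω → k = 1
  · -- `M` is regular: its nonidentity elements are derangements, hence all conjugate
    have hMder : ∀ k ∈ M, k ≠ 1 → ∀ ω : Ω, k • ω ≠ ω :=
      fun k hk hk1 ω h => hk1 (hMsr k hk ω h)
    by_cases hMab : ∀ a ∈ M, ∀ b ∈ M, a * b = b * a
    · -- abelian regular normal subgroup
      have hderM : ∀ x : G, (∀ ω : Ω, x • ω ≠ ω) → x ∈ M := by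
        intro x hx
        obtain ⟨c, hc⟩ := isConj_iff.mp (hconj m₀ x (hMder m₀ hm₀M hm₀) hx)
        rw [← hc]
        exact hMn.conj_mem m₀ hm₀M c
      have hDle : derSubgroup G Ω ≤ M := (Subgroup.closure_le M).mpr (fun x hx => hderM x hx)
      have hkey := (derSubgroup_key (G := G) (Ω := Ω)).2
      constructor
      · rw [is_two_pretransitive_iff]
        intro a b c d hab hcd
        obtain ⟨m₁, hm₁⟩ := MulAction.exists_smul_eq M a b
        obtain ⟨m₂, hm₂⟩ := MulAction.exists_smul_eq M c d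
        have hm₁' : (m₁ : G) • a = b := hm₁
        have hm₂' : (m₂ : G) • c = d := hm₂
        have h1 : (m₁ : G) ≠ 1 := by
          intro h
          rw [h, one_smul] at hm₁'
          exact hab hm₁'
        have h2 : (m₂ : G) ≠ 1 := by
          intro h
          rw [h, one_smul] at hm₂'
          exact hcd hm₂'
        obtain ⟨g, hg⟩ := isConj_iff.mp
          (hconj m₁ m₂ (hMder _ m₁.2 h1) (hMder _ m₂.2 h2))
        obtain ⟨m₃, hm₃⟩ := MulAction.exists_smul_eq M (g • a) c
        have hm₃' : (m₃ : G) • g • a = c := hm₃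
        refine ⟨m₃ * g, ?_, ?_⟩
        · rw [mul_smul, hm₃']
        · have hg' : g * (m₁ : G) = m₂ * g := by rw [← hg]; group
          rw [← hm₁', ← mul_smul, mul_assoc, hg', ← mul_assoc, hMab _ m₃.2 _ m₂.2, mul_assoc,
            mul_smul, mul_smul, hm₃', hm₂']
      · intro g hg a b hab ha hb
        have hgM : g ∉ M := fun h => hg (hMsr g h a ha)
        have hcard := hkey g (fun h => hgM (hDle h))
        have hsub := (Nat.card_eq_one_iff_unique.mp hcard).1
        have := hsub.elim (⟨a, ha⟩ : fixedBy Ω g) ⟨b, hb⟩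
        exact hab (congrArg Subtype.val this)
    · -- nonabelian regular normal subgroup: impossible
      exfalso
      haveI : Nontrivial M := (Subgroup.nontrivial_iff_ne_bot M).mpr hMne
      have hord : ∀ a b : M, a ≠ 1 → b ≠ 1 → orderOf a = orderOf b := by
        intro a b ha hb
        have ha' : (a : G) ≠ 1 := fun h => ha (Subtype.ext h)
        have hb' : (b : G) ≠ 1 := fun h => hb (Subtype.ext h)
        obtain ⟨g, hg⟩ := isConj_iff.mp
          (hconj a b (hMder _ a.2 ha') (hMder _ b.2 hb'))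
        rw [← Subgroup.orderOf_coe a, ← Subgroup.orderOf_coe b, ← hg]
        exact (MulEquiv.orderOf_eq (MulAut.conj g) (a : G)).symm
      have hZ := center_ne_bot_of_orderOf_const hord
      have hzex : ∃ z : M, z ∈ Subgroup.center M ∧ z ≠ 1 := by
        by_contra hcon
        push Not at hcon
        exact hZ ((Subgroup.eq_bot_iff_forall _).mpr hcon)
      obtain ⟨z, hzZ, hz1⟩ := hzex
      let K : Subgroup G := M ⊓ Subgroup.centralizer (M : Set G)
      have hKn : K.Normal := by
        haveI : (Subgroup.centralizer (M : Set G)).Normal := Subgroup.normal_centralizer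
        exact Subgroup.normal_inf_normal _ _
      have hzK : (z : G) ∈ K := by
        refine Subgroup.mem_inf.mpr ⟨z.2, ?_⟩
        rw [Subgroup.mem_centralizer_iff]
        intro m hm
        have := (Subgroup.mem_center_iff.mp hzZ) ⟨m, hm⟩
        exact congrArg Subtype.val this
      have hKeq : K = M := by
        rcases hMmin K hKn inf_le_left with h | h
        · rw [h, Subgroup.mem_bot] at hzK
          exact (hz1 (Subtype.ext hzK)).elim
        · exact h
      apply hMab
      intro a ha b hb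
      have haK : a ∈ K := by rw [hKeq]; exact ha
      exact ((Subgroup.mem_centralizer_iff.mp haK.2) b hb).symm
  · -- `M` is not semiregular: the centralizer is trivial
    have hC : Subgroup.centralizer (M : Set G) = ⊥ := by
      by_contra hCne
      apply hMsr
      have hCn : (Subgroup.centralizer (M : Set G)).Normal := Subgroup.normal_centralizer
      have hCtr : IsPretransitive (Subgroup.centralizer (M : Set G)) Ω :=
        Cfsg.Agent.S3680.trans_of_normal hprim _ hCn hCne
      intro k hk ω h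
      apply Cfsg.Agent.S3680.semireg_centralizer _ hCtr k ?_ ω h
      rw [Subgroup.mem_centralizer_iff]
      intro c hc
      exact ((Subgroup.mem_centralizer_iff.mp hc) k hk).symm
    have hMnab : ¬ ∀ a ∈ M, ∀ b ∈ M, a * b = b * a := by
      intro hab
      have : m₀ ∈ Subgroup.centralizer (M : Set G) := by
        rw [Subgroup.mem_centralizer_iff]
        intro b hb
        exact hab b hb m₀ hm₀M
      rw [hC, Subgroup.mem_bot] at this
      exact hm₀ this
    exfalso
    obtain ⟨T, instT, k, hTs, hk, ⟨e⟩⟩ := Cfsg.Agent.S0721.result M hMne hMmin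
    have hTnc : ¬ ∀ a b : T, a * b = b * a := by
      intro hc
      apply hMnab
      intro a ha b hb
      have h1 : e (⟨a, ha⟩ * ⟨b, hb⟩) = e (⟨b, hb⟩ * ⟨a, ha⟩) := by
        rw [map_mul, map_mul]
        funext i
        exact hc _ _
      exact congrArg Subtype.val (e.injective h1)
    have hTfin : Finite T := by
      apply Finite.of_injective (fun t : T => e.symm (Pi.mulSingle (⟨0, hk⟩ : Fin k) t))
      intro t t' htt
      exact Pi.mulSingle_injective (M := fun _ : Fin k => T) _ (e.symm.injective htt)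
    by_cases hk1 : k = 1
    · subst hk1
      apply hnas
      have e' : M ≃* T := e.trans (MulEquiv.funUnique (Fin 1) T)
      haveI : Nontrivial M := (Subgroup.nontrivial_iff_ne_bot M).mpr hMne
      refine ⟨M, hMn, IsSimpleGroup.isSimpleGroup_of_surjective e'.symm.toMonoidHom e'.symm.surjective, ?_, hC⟩
      intro hc
      apply hMnab
      intro a ha b hb
      exact congrArg Subtype.val (hc.is_comm.comm ⟨a, ha⟩ ⟨b, hb⟩)
    · have hk2 : 2 ≤ k := by omega
      let θ : (Fin k → T) →* G := M.subtype.comp e.symm.toMonoidHom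
      have hθ : ∀ p : Fin k → T, θ p = ((e.symm p : M) : G) := fun p => rfl
      have hθinj : Function.Injective θ := by
        intro p q hpq
        rw [hθ, hθ] at hpq
        exact e.symm.injective (Subtype.ext hpq)
      have htr : ∀ ω ω' : Ω, ∃ p : Fin k → T, θ p • ω = ω' := by
        intro ω ω'
        obtain ⟨m, hm⟩ := MulAction.exists_smul_eq M ω ω'
        refine ⟨e m, ?_⟩
        rw [hθ, e.symm_apply_apply]
        exact hm
      obtain ⟨t₀, ht₀⟩ := exists_ne (1 : T)
      have hfaith : ∀ i : Fin k, ∃ (t : T) (ω : Ω), θ (Pi.mulSingle i t) • ω ≠ ω := by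
        intro i
        refine ⟨t₀, ?_⟩
        by_contra hcon
        push Not at hcon
        have h1 : θ (Pi.mulSingle i t₀) = 1 := by
          apply FaithfulSMul.eq_of_smul_eq_smul (α := Ω)
          intro ω
          rw [one_smul]
          exact hcon ω
        rw [← map_one θ] at h1
        have h2 := hθinj h1
        have h3 := congrFun h2 i
        rw [Pi.mulSingle_eq_same] at h3
        exact ht₀ h3
      let i₁ : Fin k := ⟨0, by omega⟩
      let i₂ : Fin k := ⟨1, by omega⟩
      have h12 : i₁ ≠ i₂ := by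
        intro h
        have := congrArg Fin.val h
        simp [i₁, i₂] at this
      obtain ⟨t, ht⟩ := exists_single_derangement θ htr i₁ (hfaith i₁)
      obtain ⟨a, b, ha, hb, hab⟩ :=
        exists_pair_derangement θ hTnc htr h12 (hfaith i₁) (hfaith i₂)
      obtain ⟨g, hg⟩ := isConj_iff.mp (hconj _ _ ht hab)
      let φ : (Fin k → T) ≃* (Fin k → T) :=
        e.symm.trans ((MulAut.conjNormal g : M ≃* M).trans e)
      have hφ : φ (Pi.mulSingle i₁ t) = Pi.mulSingle i₁ a * Pi.mulSingle i₂ b := by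
        apply hθinj
        rw [← hg]
        show ((e.symm (e (MulAut.conjNormal g (e.symm (Pi.mulSingle i₁ t)))) : M) : G) = _
        rw [e.symm_apply_apply, MulAut.conjNormal_apply]
        rfl
      exact no_aut_single_to_pair hTnc φ h12 t a b ha hb hφ

end helpers

/-- Let a finite group G act faithfully and primitively on a finite set Ω with at least two points, and suppose G is not almost simple (it has no non-abelian simple normal subgroup with trivial centralizer). Then the derangements of G form a single conjugacy class if and only if G is sharply 2-transitive (2-transitive, and no non-identity element fixes two points). -/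
theorem result {G : Type*} [Group G] [Finite G] {Ω : Type*} [Fintype Ω] [MulAction G Ω] [FaithfulSMul G Ω] (hΩ : 2 ≤ Fintype.card Ω) (hprim : MulAction.IsPreprimitive G Ω) (hnas : ¬ ∃ T : Subgroup G, T.Normal ∧ IsSimpleGroup T ∧ ¬ IsMulCommutative T ∧ Subgroup.centralizer (T : Set G) = ⊥) :
    Nat.card {c : ConjClasses G // ∃ g : G, ConjClasses.mk g = c ∧ ∀ ω : Ω, g • ω ≠ ω} = 1 ↔ (MulAction.IsMultiplyPretransitive G Ω 2 ∧ ∀ g : G, g ≠ 1 → ∀ a b : Ω, a ≠ b → g • a = a → g • b ≠ b) := by
  rw [card_classes_eq_one_iff]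
  constructor
  · rintro ⟨_, hconj⟩
    exact sharp_of_conj hΩ hprim hnas hconj
  · rintro ⟨h2, hsharp⟩
    exact conj_of_sharp hΩ h2 hsharp

end Cfsg.Agent.S3501
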