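import Cfsg.Statements.S3520
import Cfsg.Agent.S3501
import Cfsg.Agent.S0144
import Cfsg.Agent.Lib.Helper19.ProdDer2

set_option autoImplicit false
open Cfsg

namespace Cfsg.Agent.S3520

open MulAction Cfsg.Agent.Lib.Helper19

/-- three elements of pairwise distinct prime orders in a nonabelian finite simple group -/
theorem exists_three_orders {T : Type*} [Group T] [Finite T] [IsSimpleGroup T]
    (hT : ¬ ∀ a b : T, a * b = b * a) :
    ∃ (p q r : ℕ) (tp tq tr : T), p.Prime ∧ q.Prime ∧ r.Prime ∧ p ≠ q ∧ p ≠ r ∧ q ≠ r ∧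
      orderOf tp = p ∧ orderOf tq = q ∧ orderOf tr = r := by
  have hn : Nat.card T ≠ 0 := Nat.card_pos.ne'
  by_cases h3 : 2 < (Nat.card T).primeFactors.card
  · obtain ⟨p, q, r, hp, hq, hr, hpq, hpr, hqr⟩ := Finset.two_lt_card_iff.mp h3
    have hpp := Nat.prime_of_mem_primeFactors hp
    have hqp := Nat.prime_of_mem_primeFactors hq
    have hrp := Nat.prime_of_mem_primeFactors hr
    haveI : Fact p.Prime := ⟨hpp⟩
    haveI : Fact q.Prime := ⟨hqp⟩
    haveI : Fact r.Prime := ⟨hrp⟩
    obtain ⟨tp, htp⟩ := exists_prime_orderOf_dvd_card' p (Nat.dvd_of_mem_primeFactors hp)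
    obtain ⟨tq, htq⟩ := exists_prime_orderOf_dvd_card' q (Nat.dvd_of_mem_primeFactors hq)
    obtain ⟨tr, htr⟩ := exists_prime_orderOf_dvd_card' r (Nat.dvd_of_mem_primeFactors hr)
    exact ⟨p, q, r, tp, tq, tr, hpp, hqp, hrp, hpq, hpr, hqr, htp, htq, htr⟩
  · exfalso
    have hprod := Nat.prod_factorization_pow_eq_self hn
    rw [Finsupp.prod, Nat.support_factorization] at hprod
    have hsol : Group.IsSolvable T := by
      rcases Nat.lt_or_ge ((Nat.card T).primeFactors.card) 1 with h0 | h1
      · have h00 : (Nat.card T).primeFactors = ∅ := Finset.card_eq_zero.mp (by omega)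
        rw [h00, Finset.prod_empty] at hprod
        exact Cfsg.Agent.S0144.result 2 2 0 0 Nat.prime_two Nat.prime_two
          (by rw [← hprod]; norm_num)
      rcases Nat.lt_or_ge ((Nat.card T).primeFactors.card) 2 with h1' | h2
      · obtain ⟨p, hp⟩ := Finset.card_eq_one.mp
          (by omega : (Nat.card T).primeFactors.card = 1)
        have hpp : p.Prime :=
          Nat.prime_of_mem_primeFactors (by rw [hp]; exact Finset.mem_singleton_self p)
        rw [hp, Finset.prod_singleton] at hprod
        exact Cfsg.Agent.S0144.result p p ((Nat.card T).factorization p) 0 hpp hpp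
          (by rw [pow_zero, mul_one]; exact hprod.symm)
      · obtain ⟨p, q, hpq, hpqs⟩ := Finset.card_eq_two.mp
          (by omega : (Nat.card T).primeFactors.card = 2)
        have hpp : p.Prime :=
          Nat.prime_of_mem_primeFactors (by rw [hpqs]; exact Finset.mem_insert_self p _)
        have hqp : q.Prime :=
          Nat.prime_of_mem_primeFactors (by
            rw [hpqs]; exact Finset.mem_insert_of_mem (Finset.mem_singleton_self q))
        rw [hpqs, Finset.prod_pair hpq] at hprod
        exact Cfsg.Agent.S0144.result p q _ _ hpp hqp hprod.symm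
    exact hT ((IsSimpleGroup.comm_iff_isSolvable).mpr hsol)

theorem orderOf_eq_of_isConj {G : Type*} [Group G] {x y : G} (h : IsConj x y) :
    orderOf x = orderOf y := by
  obtain ⟨g, hg⟩ := isConj_iff.mp h
  rw [← hg]
  exact (MulEquiv.orderOf_eq (MulAut.conj g) x).symm

/-- Let a finite group G act faithfully and primitively on a finite set Ω with at least two points, suppose G is not almost simple (no non-abelian simple normal subgroup with trivial centralizer), and suppose the derangements of G form exactly two conjugacy classes. Then either Ω has 3 points and G has order 3; or G has a non-trivial abelian normal subgroup N acting regularly, every non-identity element of G fixes at most one point (so, when n > 3, G is a Frobenius group with kernel N), the number n of points is odd and a point stabilizer has order (n − 1)/2; or G is 2-transitive with a non-trivial abelian regular normal subgroup and some non-identity element fixes at least two points (a non-Frobenius 2-transitive affine group). -/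
theorem result {G : Type*} [Group G] [Finite G] {Ω : Type*} [Fintype Ω] [MulAction G Ω] [FaithfulSMul G Ω] (hΩ : 2 ≤ Fintype.card Ω) (hprim : MulAction.IsPreprimitive G Ω) (hnas : ¬ ∃ T : Subgroup G, T.Normal ∧ IsSimpleGroup T ∧ ¬ IsMulCommutative T ∧ Subgroup.centralizer (T : Set G) = ⊥)
    (hκ : Nat.card {c : ConjClasses G // ∃ g : G, ConjClasses.mk g = c ∧ ∀ ω : Ω, g • ω ≠ ω} = 2) (α : Ω) :
    (Fintype.card Ω = 3 ∧ Nat.card G = 3) ∨
    ((∃ N : Subgroup G, N.Normal ∧ N ≠ ⊥ ∧ IsMulCommutative N ∧ ∀ ω : Ω, MulAction.stabilizer N ω = ⊥) ∧ (∀ g : G, g ≠ 1 → Nat.card (MulAction.fixedBy Ω g) ≤ 1) ∧ ¬ 2 ∣ Fintype.card Ω ∧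
        2 * Nat.card (MulAction.stabilizer G α) = Fintype.card Ω - 1) ∨
    ((∃ N : Subgroup G, N.Normal ∧ N ≠ ⊥ ∧ IsMulCommutative N ∧ ∀ ω : Ω, MulAction.stabilizer N ω = ⊥) ∧ MulAction.IsMultiplyPretransitive G Ω 2 ∧ ∃ g : G, g ≠ 1 ∧ 2 ≤ Nat.card (MulAction.fixedBy Ω g)) := by
  classical
  have hpt : IsPretransitive G Ω := hprim.toIsPretransitive
  obtain ⟨a₀, b₀, hab₀⟩ := Fintype.exists_pair_of_one_lt_card (by omega : 1 < Fintype.card Ω)
  have hne : Nonempty Ω := ⟨a₀⟩
  -- the two classes
  obtain ⟨⟨c₁, g₁, hg₁c, hg₁⟩, ⟨c₂, g₂, hg₂c, hg₂⟩, hc12, huniv⟩ := Nat.card_eq_two_iff.mp hκ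
  have hnc : ¬ IsConj g₁ g₂ := by
    intro h
    apply hc12
    apply Subtype.ext
    show c₁ = c₂
    rw [← hg₁c, ← hg₂c]
    exact ConjClasses.mk_eq_mk_iff_isConj.mpr h
  have hall : ∀ g : G, (∀ ω : Ω, g • ω ≠ ω) → IsConj g g₁ ∨ IsConj g g₂ := by
    intro g hg
    have hmem : (⟨ConjClasses.mk g, g, rfl, hg⟩ :
        {c : ConjClasses G // ∃ g : G, ConjClasses.mk g = c ∧ ∀ ω : Ω, g • ω ≠ ω}) ∈
        (Set.univ : Set _) := Set.mem_univ _
    rw [← huniv] at hmem
    rcases hmem with h | h
    · left
      have h' := congrArg Subtype.val h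
      simp only at h'
      rw [← hg₁c] at h'
      exact ConjClasses.mk_eq_mk_iff_isConj.mp h'
    · right
      have h' := congrArg Subtype.val h
      simp only at h'
      rw [← hg₂c] at h'
      exact ConjClasses.mk_eq_mk_iff_isConj.mp h'
  have hthree : ∀ x y z : G, (∀ ω : Ω, x • ω ≠ ω) → (∀ ω : Ω, y • ω ≠ ω) →
      (∀ ω : Ω, z • ω ≠ ω) → IsConj x y ∨ IsConj x z ∨ IsConj y z := by
    intro x y z hx hy hz
    rcases hall x hx with h1 | h1 <;> rcases hall y hy with h2 | h2 <;>
      rcases hall z hz with h3 | h3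
    · exact Or.inl (h1.trans h2.symm)
    · exact Or.inl (h1.trans h2.symm)
    · exact Or.inr (Or.inl (h1.trans h3.symm))
    · exact Or.inr (Or.inr (h2.trans h3.symm))
    · exact Or.inr (Or.inr (h2.trans h3.symm))
    · exact Or.inr (Or.inl (h1.trans h3.symm))
    · exact Or.inl (h1.trans h2.symm)
    · exact Or.inl (h1.trans h2.symm)
  -- a minimal normal subgroup
  obtain ⟨g₀, hg₀a⟩ := MulAction.exists_smul_eq G a₀ b₀
  have hg₀ : g₀ ≠ 1 := by
    rintro rfl
    rw [one_smul] at hg₀a
    exact hab₀ hg₀a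
  have htop : (⊤ : Subgroup G) ≠ ⊥ := by
    intro h
    have : g₀ ∈ (⊤ : Subgroup G) := trivial
    rw [h, Subgroup.mem_bot] at this
    exact hg₀ this
  have hex : ∃ n, ∃ V : Subgroup G, V.Normal ∧ V ≠ ⊥ ∧ Nat.card V = n :=
    ⟨_, ⊤, inferInstance, htop, rfl⟩
  obtain ⟨M, hMn, hMne, hMcard⟩ := Nat.find_spec hex
  have hMmin : ∀ K : Subgroup G, K.Normal → K ≤ M → K = ⊥ ∨ K = M := by
    intro K hKn hKM
    by_cases hK : K = ⊥
    · exact Or.inl hK
    · right
      apply Subgroup.eq_of_le_of_card_ge hKM
      rw [hMcard]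
      exact Nat.find_min' hex ⟨K, hKn, hK, rfl⟩
  haveI := hMn
  have hMtr : IsPretransitive M Ω := Cfsg.Agent.S3680.trans_of_normal hprim M hMn hMne
  have hCsr : ∀ c ∈ Subgroup.centralizer (M : Set G), ∀ ω : Ω, c • ω = ω → c = 1 :=
    fun c hc ω h => Cfsg.Agent.S3680.semireg_centralizer M hMtr c hc ω h
  have hMex : ∃ m₀ : G, m₀ ∈ M ∧ m₀ ≠ 1 := by
    by_contra hcon
    push Not at hcon
    exact hMne ((Subgroup.eq_bot_iff_forall M).mpr hcon)
  obtain ⟨m₀, hm₀M, hm₀⟩ := hMex
  by_cases hMab : ∀ a ∈ M, ∀ b ∈ M, a * b = b * a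
  · -- affine type
    right
    have hMC : M ≤ Subgroup.centralizer (M : Set G) := by
      intro a ha
      rw [Subgroup.mem_centralizer_iff]
      intro b hb
      exact hMab b hb a ha
    have hMsr : ∀ k ∈ M, ∀ ω : Ω, k • ω = ω → k = 1 := fun k hk => hCsr k (hMC hk)
    have hMder : ∀ k ∈ M, k ≠ 1 → ∀ ω : Ω, k • ω ≠ ω :=
      fun k hk hk1 ω h => hk1 (hMsr k hk ω h)
    have hNex : ∃ N : Subgroup G, N.Normal ∧ N ≠ ⊥ ∧ IsMulCommutative N ∧
        ∀ ω : Ω, MulAction.stabilizer N ω = ⊥ := by
      refine ⟨M, hMn, hMne, ⟨⟨fun a b => Subtype.ext (hMab a a.2 b b.2)⟩⟩, fun ω => ?_⟩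
      rw [Subgroup.eq_bot_iff_forall]
      intro y hy
      exact Subtype.ext (hMsr y y.2 ω hy)
    by_cases hout : ∃ g : G, (∀ ω : Ω, g • ω ≠ ω) ∧ g ∉ M
    · -- a derangement outside `M`: 2-transitive, not Frobenius
      right
      obtain ⟨g, hgd, hgM⟩ := hout
      have hMconj : ∀ m ∈ M, ∀ m' ∈ M, m ≠ 1 → m' ≠ 1 → IsConj m m' := by
        intro m hm m' hm' hm1 hm'1
        rcases hthree m m' g (hMder m hm hm1) (hMder m' hm' hm'1) hgd with h | h | h
        · exact h
        · exfalso
          obtain ⟨c, hc⟩ := isConj_iff.mp h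
          apply hgM
          rw [← hc]
          exact hMn.conj_mem m hm c
        · exfalso
          obtain ⟨c, hc⟩ := isConj_iff.mp h
          apply hgM
          rw [← hc]
          exact hMn.conj_mem m' hm' c
      have h2t : IsMultiplyPretransitive G Ω 2 := by
        rw [is_two_pretransitive_iff]
        intro a b c d hab hcd
        obtain ⟨m₁, hm₁⟩ := MulAction.exists_smul_eq M a b
        obtain ⟨m₂, hm₂⟩ := MulAction.exists_smul_eq M c d
        have hm₁' : (m₁ : G) • a = b := hm₁
        have hm₂' : (m₂ : G) • c = d := hm₂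
        have h1 : (m₁ : G) ≠ 1 := by
          intro h
          rw [h, one_smul] at hm₁'
          exact hab hm₁'
        have h2 : (m₂ : G) ≠ 1 := by
          intro h
          rw [h, one_smul] at hm₂'
          exact hcd hm₂'
        obtain ⟨g', hg'⟩ := isConj_iff.mp (hMconj m₁ m₁.2 m₂ m₂.2 h1 h2)
        obtain ⟨m₃, hm₃⟩ := MulAction.exists_smul_eq M (g' • a) c
        have hm₃' : (m₃ : G) • g' • a = c := hm₃
        refine ⟨m₃ * g', ?_, ?_⟩
        · rw [mul_smul, hm₃']
        · have hg'' : g' * (m₁ : G) = m₂ * g' := by rw [← hg']; group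
          rw [← hm₁', ← mul_smul, mul_assoc, hg'', ← mul_assoc, hMab _ m₃.2 _ m₂.2, mul_assoc,
            mul_smul, mul_smul, hm₃', hm₂']
      refine ⟨hNex, h2t, ?_⟩
      by_contra hcon
      push Not at hcon
      have hsharp : ∀ g : G, g ≠ 1 → ∀ a b : Ω, a ≠ b → g • a = a → g • b ≠ b := by
        intro g' hg' a b hab ha hb
        have h1 := hcon g' hg'
        haveI : Nontrivial (fixedBy Ω g') :=
          ⟨⟨⟨a, ha⟩, ⟨b, hb⟩, fun h => hab (congrArg Subtype.val h)⟩⟩
        have h2 : 1 < Nat.card (fixedBy Ω g') := Finite.one_lt_card_iff_nontrivial.mpr inferInstance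
        omega
      exact hnc ((Cfsg.Agent.S3501.conj_of_sharp hΩ h2t hsharp).2 g₁ g₂ hg₁ hg₂)
    · -- all derangements lie in `M`: a Frobenius group
      left
      push Not at hout
      have hDle : derSubgroup G Ω ≤ M := (Subgroup.closure_le M).mpr (fun x hx => hout x hx)
      have hkey := (derSubgroup_key (G := G) (Ω := Ω)).2
      have hfrob : ∀ g : G, g ≠ 1 → Nat.card (MulAction.fixedBy Ω g) ≤ 1 := by
        intro g hg
        by_cases hgM : g ∈ M
        · haveI : IsEmpty (fixedBy Ω g) := ⟨fun ⟨ω, hω⟩ => hMder g hgM hg ω hω⟩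
          rw [Nat.card_of_isEmpty]
          omega
        · exact (hkey g (fun h => hgM (hDle h))).le
      have hg₁M : g₁ ∈ M := hout g₁ hg₁
      have hg₂M : g₂ ∈ M := hout g₂ hg₂
      have hg₁1 : g₁ ≠ 1 := by
        rintro rfl
        exact hg₁ a₀ (one_smul _ _)
      have hg₂1 : g₂ ≠ 1 := by
        rintro rfl
        exact hg₂ a₀ (one_smul _ _)
      -- conjugation by the stabilizer is free on `M \ 1`
      have hfree : ∀ (m : G), m ∈ M → m ≠ 1 → ∀ h h' : stabilizer G α,
          (h : G) * m * (h : G)⁻¹ = (h' : G) * m * (h' : G)⁻¹ → h = h' := by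
        intro m hm hm1 h h' heq
        have hcomm : ((h' : G)⁻¹ * h) * m = m * ((h' : G)⁻¹ * h) := by
          have e1 : ((h' : G)⁻¹ * h) * m = (h' : G)⁻¹ * ((h : G) * m * (h : G)⁻¹) * h := by
            group
          rw [e1, heq]
          group
        have hu : ((h' : G)⁻¹ * h) • α = α := by
          rw [mul_smul, h.2, inv_smul_eq_iff, h'.2]
        have hu2 : ((h' : G)⁻¹ * h) • (m • α) = m • α := by
          rw [← mul_smul, hcomm, mul_smul, hu]
        have hne' : m • α ≠ α := hMder m hm hm1 α
        by_contra hhh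
        have hu1 : (h' : G)⁻¹ * h ≠ 1 := by
          intro h1
          apply hhh
          apply Subtype.ext
          rw [inv_mul_eq_one] at h1
          exact h1.symm
        have hc := hfrob _ hu1
        haveI : Nontrivial (fixedBy Ω ((h' : G)⁻¹ * h)) :=
          ⟨⟨⟨α, hu⟩, ⟨m • α, hu2⟩, fun h => hne' (congrArg Subtype.val h).symm⟩⟩
        have h2 : 1 < Nat.card (fixedBy Ω ((h' : G)⁻¹ * h)) :=
          Finite.one_lt_card_iff_nontrivial.mpr inferInstance
        omega
      -- a conjugate by `G` is a conjugate by the stabilizer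
      have hstab : ∀ (m m' : G), m ∈ M → IsConj m m' →
          ∃ h : stabilizer G α, (h : G) * m * (h : G)⁻¹ = m' := by
        intro m m' hm hconj
        obtain ⟨g, hg⟩ := isConj_iff.mp hconj
        obtain ⟨m₁, hm₁⟩ := MulAction.exists_smul_eq M α (g • α)
        have hm₁' : (m₁ : G) • α = g • α := hm₁
        have hh : (m₁ : G)⁻¹ * g ∈ stabilizer G α := by
          rw [mem_stabilizer_iff, mul_smul, inv_smul_eq_iff, hm₁']
        refine ⟨⟨_, hh⟩, ?_⟩
        show ((m₁ : G)⁻¹ * g) * m * ((m₁ : G)⁻¹ * g)⁻¹ = m'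
        have e1 : ((m₁ : G)⁻¹ * g) * m * ((m₁ : G)⁻¹ * g)⁻¹ =
            (m₁ : G)⁻¹ * (g * m * g⁻¹) * m₁ := by group
        rw [e1, hg]
        have hm'M : m' ∈ M := by rw [← hg]; exact hMn.conj_mem m hm g
        rw [mul_assoc, hMab m' hm'M m₁ m₁.2, ← mul_assoc, inv_mul_cancel, one_mul]
      let F : stabilizer G α ⊕ stabilizer G α → {m : M // m ≠ 1} := fun s =>
        match s with
        | Sum.inl h => ⟨⟨(h : G) * g₁ * (h : G)⁻¹, hMn.conj_mem g₁ hg₁M h⟩, fun h1 => by
            have h2 : (h : G) * g₁ * (h : G)⁻¹ = 1 := congrArg Subtype.val h1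
            rw [mul_inv_eq_one, mul_eq_left] at h2
            exact hg₁1 h2⟩
        | Sum.inr h => ⟨⟨(h : G) * g₂ * (h : G)⁻¹, hMn.conj_mem g₂ hg₂M h⟩, fun h1 => by
            have h2 : (h : G) * g₂ * (h : G)⁻¹ = 1 := congrArg Subtype.val h1
            rw [mul_inv_eq_one, mul_eq_left] at h2
            exact hg₂1 h2⟩
      have hFbij : Function.Bijective F := by
        constructor
        · rintro (h | h) (h' | h') heq
          · have h1 : (h : G) * g₁ * (h : G)⁻¹ = (h' : G) * g₁ * (h' : G)⁻¹ :=
              congrArg (fun x : {m : M // m ≠ 1} => ((x : M) : G)) heq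
            rw [hfree g₁ hg₁M hg₁1 h h' h1]
          · exfalso
            have h1 : (h : G) * g₁ * (h : G)⁻¹ = (h' : G) * g₂ * (h' : G)⁻¹ :=
              congrArg (fun x : {m : M // m ≠ 1} => ((x : M) : G)) heq
            apply hnc
            rw [isConj_iff]
            refine ⟨(h' : G)⁻¹ * h, ?_⟩
            have e1 : ((h' : G)⁻¹ * h) * g₁ * ((h' : G)⁻¹ * h)⁻¹ =
                (h' : G)⁻¹ * ((h : G) * g₁ * (h : G)⁻¹) * h' := by group
            rw [e1, h1]
            group
          · exfalso
            have h1 : (h : G) * g₂ * (h : G)⁻¹ = (h' : G) * g₁ * (h' : G)⁻¹ :=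
              congrArg (fun x : {m : M // m ≠ 1} => ((x : M) : G)) heq
            apply hnc
            rw [isConj_iff]
            refine ⟨(h : G)⁻¹ * h', ?_⟩
            have e1 : ((h : G)⁻¹ * h') * g₁ * ((h : G)⁻¹ * h')⁻¹ =
                (h : G)⁻¹ * ((h' : G) * g₁ * (h' : G)⁻¹) * h := by group
            rw [e1, ← h1]
            group
          · have h1 : (h : G) * g₂ * (h : G)⁻¹ = (h' : G) * g₂ * (h' : G)⁻¹ :=
              congrArg (fun x : {m : M // m ≠ 1} => ((x : M) : G)) heq
            rw [hfree g₂ hg₂M hg₂1 h h' h1]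
        · rintro ⟨⟨m, hm⟩, hm1⟩
          have hm1' : m ≠ 1 := fun h => hm1 (Subtype.ext h)
          rcases hall m (hMder m hm hm1') with hc | hc
          · obtain ⟨h, hh⟩ := hstab g₁ m hg₁M hc.symm
            exact ⟨Sum.inl h, Subtype.ext (Subtype.ext hh)⟩
          · obtain ⟨h, hh⟩ := hstab g₂ m hg₂M hc.symm
            exact ⟨Sum.inr h, Subtype.ext (Subtype.ext hh)⟩
      have hcard1 : Nat.card (stabilizer G α ⊕ stabilizer G α) = Nat.card {m : M // m ≠ 1} :=
        Nat.card_congr (Equiv.ofBijective F hFbij)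
      have hcard2 : Nat.card {m : M // m ≠ 1} + 1 = Nat.card M := by
        rw [← Finite.card_option]
        exact Nat.card_congr (Equiv.optionSubtypeNe (1 : M))
      have hcardM : Nat.card M = Fintype.card Ω := by
        rw [← Nat.card_eq_fintype_card]
        exact le_antisymm (Cfsg.Agent.S3680.card_le_of_semireg M hMsr a₀)
          (Cfsg.Agent.S3680.card_ge_of_trans M hMtr a₀)
      have hcount : 2 * Nat.card (MulAction.stabilizer G α) = Fintype.card Ω - 1 := by
        rw [Nat.card_sum] at hcard1
        omega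
      refine ⟨hNex, hfrob, ?_, hcount⟩
      rintro ⟨c, hc⟩
      omega
  · -- nonabelian minimal normal subgroup: at least three classes of derangements
    exfalso
    obtain ⟨T, instT, k, hTs, hk, ⟨e⟩⟩ := Cfsg.Agent.S0721.result M hMne hMmin
    have hTnc : ¬ ∀ a b : T, a * b = b * a := by
      intro hc
      apply hMab
      intro a ha b hb
      have h1 : e (⟨a, ha⟩ * ⟨b, hb⟩) = e (⟨b, hb⟩ * ⟨a, ha⟩) := by
        rw [map_mul, map_mul]
        funext i
        exact hc _ _
      exact congrArg Subtype.val (e.injective h1)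
    have hTfin : Finite T := by
      apply Finite.of_injective (fun t : T => e.symm (Pi.mulSingle (⟨0, hk⟩ : Fin k) t))
      intro t t' htt
      exact Pi.mulSingle_injective (M := fun _ : Fin k => T) _ (e.symm.injective htt)
    let θ : (Fin k → T) →* G := M.subtype.comp e.symm.toMonoidHom
    have hθ : ∀ q : Fin k → T, θ q = ((e.symm q : M) : G) := fun q => rfl
    have hθinj : Function.Injective θ := by
      intro q q' hqq
      rw [hθ, hθ] at hqq
      exact e.symm.injective (Subtype.ext hqq)
    have htr : ∀ ω ω' : Ω, ∃ q : Fin k → T, θ q • ω = ω' := by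
      intro ω ω'
      obtain ⟨m, hm⟩ := MulAction.exists_smul_eq M ω ω'
      refine ⟨e m, ?_⟩
      rw [hθ, e.symm_apply_apply]
      exact hm
    have hord : ∀ (i : Fin k) (t : T), orderOf (θ (Pi.mulSingle i t)) = orderOf t := by
      intro i t
      have h1 : orderOf (θ (Pi.mulSingle i t)) = orderOf (Pi.mulSingle i t : Fin k → T) :=
        orderOf_injective θ hθinj _
      rw [h1]
      exact orderOf_injective (MonoidHom.mulSingle (fun _ : Fin k => T) i)
        (Pi.mulSingle_injective (M := fun _ : Fin k => T) i) t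
    have hφex : ∀ x y : Fin k → T, IsConj (θ x) (θ y) →
        ∃ φ : (Fin k → T) ≃* (Fin k → T), φ x = y := by
      intro x y hxy
      obtain ⟨g, hg⟩ := isConj_iff.mp hxy
      refine ⟨e.symm.trans ((MulAut.conjNormal g : M ≃* M).trans e), ?_⟩
      apply hθinj
      rw [← hg]
      show ((e.symm (e (MulAut.conjNormal g (e.symm x))) : M) : G) = _
      rw [e.symm_apply_apply, MulAut.conjNormal_apply]
      rfl
    obtain ⟨p, q, r, tp, tq, tr, hpp, hqp, hrp, hpq, hpr, hqr, htp, htq, htr'⟩ :=
      exists_three_orders hTnc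
    -- a coordinate factor all of whose nonidentity elements are derangements is impossible
    have hIII : ∀ i : Fin k, (∀ a : T, a ≠ 1 → ∀ ω : Ω, θ (Pi.mulSingle i a) • ω ≠ ω) →
        False := by
      intro i hi
      have h1 : ∀ (t : T) (s : ℕ), s.Prime → orderOf t = s → t ≠ 1 := by
        intro t s hs hts h1
        rw [h1, orderOf_one] at hts
        exact hs.one_lt.ne hts
      rcases hthree _ _ _ (hi tp (h1 tp p hpp htp)) (hi tq (h1 tq q hqp htq))
        (hi tr (h1 tr r hrp htr')) with h | h | h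
      · have := orderOf_eq_of_isConj h
        rw [hord, hord, htp, htq] at this
        exact hpq this
      · have := orderOf_eq_of_isConj h
        rw [hord, hord, htp, htr'] at this
        exact hpr this
      · have := orderOf_eq_of_isConj h
        rw [hord, hord, htq, htr'] at this
        exact hqr this
    by_cases hMsr : ∀ m ∈ M, ∀ ω : Ω, m • ω = ω → m = 1
    · apply hIII ⟨0, hk⟩
      intro a ha ω hω
      have h1 := hMsr _ (e.symm (Pi.mulSingle ⟨0, hk⟩ a)).2 ω hω
      have h2 : θ (Pi.mulSingle ⟨0, hk⟩ a) = θ 1 := by rw [map_one]; exact h1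
      have h3 := congrFun (hθinj h2) ⟨0, hk⟩
      rw [Pi.mulSingle_eq_same] at h3
      exact ha h3
    · have hC : Subgroup.centralizer (M : Set G) = ⊥ := by
        by_contra hCne
        apply hMsr
        have hCn : (Subgroup.centralizer (M : Set G)).Normal := Subgroup.normal_centralizer
        have hCtr : IsPretransitive (Subgroup.centralizer (M : Set G)) Ω :=
          Cfsg.Agent.S3680.trans_of_normal hprim _ hCn hCne
        intro m hm ω h
        apply Cfsg.Agent.S3680.semireg_centralizer _ hCtr m ?_ ω h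
        rw [Subgroup.mem_centralizer_iff]
        intro c hc
        exact ((Subgroup.mem_centralizer_iff.mp hc) m hm).symm
      by_cases hk1 : k = 1
      · subst hk1
        apply hnas
        have e' : M ≃* T := e.trans (MulEquiv.funUnique (Fin 1) T)
        refine ⟨M, hMn, e'.isSimpleGroup, ?_, hC⟩
        intro hc
        apply hMab
        intro a ha b hb
        exact congrArg Subtype.val (hc.is_comm.comm ⟨a, ha⟩ ⟨b, hb⟩)
      · have hk2 : 2 ≤ k := by omega
        obtain ⟨t₀, ht₀⟩ := exists_ne (1 : T)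
        have hfaith : ∀ i : Fin k, ∃ (t : T) (ω : Ω), θ (Pi.mulSingle i t) • ω ≠ ω := by
          intro i
          refine ⟨t₀, ?_⟩
          by_contra hcon
          push Not at hcon
          have h1 : θ (Pi.mulSingle i t₀) = 1 := by
            apply FaithfulSMul.eq_of_smul_eq_smul (α := Ω)
            intro ω
            rw [one_smul]
            exact hcon ω
          rw [← map_one θ] at h1
          have h2 := hθinj h1
          have h3 := congrFun h2 i
          rw [Pi.mulSingle_eq_same] at h3
          exact ht₀ h3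
        let i₁ : Fin k := ⟨0, by omega⟩
        let i₂ : Fin k := ⟨1, by omega⟩
        have h12 : i₁ ≠ i₂ := by
          intro h
          have := congrArg Fin.val h
          simp [i₁, i₂] at this
        rcases pair_dichotomy θ htr h12 (hfaith i₁) with hI | hIII'
        · obtain ⟨a, ha⟩ := hI
          have ha1 : a ≠ 1 := by
            rintro rfl
            apply ha 1 a₀
            rw [Pi.mulSingle_one, Pi.mulSingle_one, mul_one, map_one, one_smul]
          have htp1 : tp ≠ 1 := by
            intro h1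
            rw [h1, orderOf_one] at htp
            exact hpp.one_lt.ne htp
          have htq1 : tq ≠ 1 := by
            intro h1
            rw [h1, orderOf_one] at htq
            exact hqp.one_lt.ne htq
          have hx : ∀ ω : Ω, θ (Pi.mulSingle i₁ a) • ω ≠ ω := by
            intro ω
            have := ha 1 ω
            rwa [Pi.mulSingle_one, mul_one] at this
          rcases hthree _ _ _ hx (ha tp) (ha tq) with h | h | h
          · obtain ⟨φ, hφ⟩ := hφex _ _ h
            exact no_aut_single_to_pair hTnc φ h12 a a tp ha1 htp1 hφ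
          · obtain ⟨φ, hφ⟩ := hφex _ _ h
            exact no_aut_single_to_pair hTnc φ h12 a a tq ha1 htq1 hφ
          · obtain ⟨φ, hφ⟩ := hφex _ _ h
            rcases aut_pair_orders hTnc φ h12 a tp a tq ha1 htp1 ha1 htq1 hφ with h' | h'
            · rw [htp, htq] at h'
              exact hpq h'.2
            · rw [htp, htq] at h'
              exact hpq (h'.2.trans h'.1)
        · exact hIII i₁ hIII'

end Cfsg.Agent.S3520
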