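import Cfsg.Statements.S3532
import Cfsg.Agent.Lib.Helper19.A5
import Cfsg.Agent.S2475

set_option autoImplicit false
open Cfsg

namespace Cfsg.Agent.S3532

open Cfsg.Agent.Lib.Helper19

section aff

variable (K : Type*) [Field K]

/-- multiplication by a unit, as an automorphism of the multiplicative copy of `(K, +)` -/
def actHom : Kˣ →* MulAut (Multiplicative K) where
  toFun c :=
    { toFun := fun x => Multiplicative.ofAdd ((c : K) * Multiplicative.toAdd x)
      invFun := fun x => Multiplicative.ofAdd (((c⁻¹ : Kˣ) : K) * Multiplicative.toAdd x)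
      left_inv := fun x => by simp
      right_inv := fun x => by simp
      map_mul' := fun x y => by simp [mul_add] }
  map_one' := by ext x; simp
  map_mul' := fun c d => by ext x; simp [mul_assoc]

theorem actHom_apply (c : Kˣ) (x : Multiplicative K) :
    Multiplicative.toAdd (actHom K c x) = (c : K) * Multiplicative.toAdd x := rfl

/-- the group of affine maps `x ↦ c x + t` with `c` in a subgroup `U` of the units -/
abbrev Aff (U : Subgroup Kˣ) := Multiplicative K ⋊[(actHom K).comp U.subtype] U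

theorem aff_pow (U : Subgroup Kˣ) (x : Aff K U) (m : ℕ) :
    (x ^ m).right = x.right ^ m ∧
    Multiplicative.toAdd (x ^ m).left =
      Multiplicative.toAdd x.left * ∑ i ∈ Finset.range m, (((x.right : U) : Kˣ) : K) ^ i := by
  induction m with
  | zero => simp
  | succ m ih =>
    rw [pow_succ]
    refine ⟨by rw [SemidirectProduct.mul_right, ih.1, pow_succ], ?_⟩
    rw [SemidirectProduct.mul_left, toAdd_mul, ih.2, ih.1, Finset.sum_range_succ]
    have h1 : Multiplicative.toAdd (((actHom K).comp U.subtype) (x.right ^ m) x.left)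
        = (((x.right : U) : Kˣ) : K) ^ m * Multiplicative.toAdd x.left := by
      rw [MonoidHom.comp_apply, actHom_apply]
      simp
    rw [h1]
    ring

instance aff_finite [Finite K] (U : Subgroup Kˣ) : Finite (Aff K U) :=
  Finite.of_equiv _ SemidirectProduct.equivProd.symm

theorem aff_solvable (U : Subgroup Kˣ) : Group.IsSolvable (Aff K U) := by
  haveI : Group.IsSolvable (Multiplicative K) := Group.isSolvable_of_comm (fun a b => mul_comm a b)
  haveI : Group.IsSolvable U := Group.isSolvable_of_comm (fun a b => mul_comm a b)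
  exact Group.isSolvable_of_ker_le_range
    (SemidirectProduct.inl : Multiplicative K →* Aff K U)
    (SemidirectProduct.rightHom : Aff K U →* U)
    (by rw [SemidirectProduct.range_inl_eq_ker_rightHom])

theorem aff_spec (p : ℕ) [Fact p.Prime] [CharP K p] [Finite K] (U : Subgroup Kˣ) :
    Set.range (orderOf : Aff K U → ℕ) = {m | m ∣ p ∨ m ∣ Nat.card U} := by
  have hp : p.Prime := Fact.out
  ext m
  constructor
  · rintro ⟨x, rfl⟩
    by_cases hc : x.right = 1
    · left
      apply orderOf_dvd_of_pow_eq_one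
      obtain ⟨h1, h2⟩ := aff_pow K U x p
      apply SemidirectProduct.ext
      · rw [SemidirectProduct.one_left]
        apply Multiplicative.toAdd.injective
        rw [h2, hc]
        simp
      · rw [h1, hc, one_pow]
        rfl
    · right
      have hdvd : orderOf x ∣ orderOf x.right := by
        apply orderOf_dvd_of_pow_eq_one
        obtain ⟨h1, h2⟩ := aff_pow K U x (orderOf x.right)
        apply SemidirectProduct.ext
        · rw [SemidirectProduct.one_left]
          apply Multiplicative.toAdd.injective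
          rw [h2]
          have hgeom := geom_sum_mul (((x.right : U) : Kˣ) : K) (orderOf x.right)
          have hcK : (((x.right : U) : Kˣ) : K) ^ orderOf x.right = 1 := by
            have h := pow_orderOf_eq_one x.right
            rw [← Units.val_pow_eq_pow_val, ← Subgroup.coe_pow, h]
            rfl
          have hne : (((x.right : U) : Kˣ) : K) - 1 ≠ 0 := by
            intro h0
            apply hc
            have h1' : (((x.right : U) : Kˣ) : K) = 1 := sub_eq_zero.mp h0
            exact Subtype.ext (Units.ext h1')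
          have hsum : ∑ i ∈ Finset.range (orderOf x.right), (((x.right : U) : Kˣ) : K) ^ i = 0 := by
            rw [hcK, sub_self] at hgeom
            exact (mul_eq_zero.mp hgeom).resolve_right hne
          rw [hsum, mul_zero]
          rfl
        · rw [h1, pow_orderOf_eq_one]
          rfl
      exact dvd_trans hdvd (orderOf_dvd_natCard _)
  · rintro (h | h)
    · rcases (Nat.dvd_prime hp).mp h with rfl | rfl
      · exact ⟨1, orderOf_one⟩
      · refine ⟨(SemidirectProduct.inl : Multiplicative K →* Aff K U) (Multiplicative.ofAdd (1 : K)), ?_⟩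
        rw [orderOf_injective _ SemidirectProduct.inl_injective, orderOf_ofAdd_eq_addOrderOf]
        exact CharP.eq K (CharP.addOrderOf_one K) inferInstance
    · have hcyc := spec_cyclic U
      have hm : m ∈ Set.range (orderOf : U → ℕ) := by rw [hcyc]; exact h
      obtain ⟨c, rfl⟩ := hm
      exact ⟨(SemidirectProduct.inr : U →* Aff K U) c,
        orderOf_injective _ SemidirectProduct.inr_injective c⟩

theorem exists_subgroup_card [Finite K] (u : ℕ) (hu : u ∣ Nat.card Kˣ) :
    ∃ U : Subgroup Kˣ, Nat.card U = u := by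
  have h := spec_cyclic Kˣ
  have hm : u ∈ Set.range (orderOf : Kˣ → ℕ) := by rw [h]; exact hu
  obtain ⟨c, hc⟩ := hm
  exact ⟨Subgroup.zpowers c, by rw [Nat.card_zpowers, hc]⟩

end aff

theorem range_orderOf_prod (A B : Type*) [Group A] [Group B] :
    Set.range (orderOf : A × B → ℕ) = {n | ∃ x ∈ Set.range (orderOf : A → ℕ),
      ∃ y ∈ Set.range (orderOf : B → ℕ), n = Nat.lcm x y} := by
  ext n
  constructor
  · rintro ⟨⟨a, b⟩, rfl⟩
    exact ⟨_, ⟨a, rfl⟩, _, ⟨b, rfl⟩, Prod.orderOf _⟩
  · rintro ⟨_, ⟨a, rfl⟩, _, ⟨b, rfl⟩, rfl⟩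
    exact ⟨(a, b), Prod.orderOf _⟩

/-- Let q ≥ 4 be a prime power and L = PSL(2,q). There is a finite solvable group with the same set of element orders as L × L (so L × L is not determined by its spectrum). -/
theorem result {F : Type*} [Field F] [Fintype F] (hF : 4 ≤ Fintype.card F) :
    ∃ (H : Type) (_ : Group H) (_ : Finite H), Group.IsSolvable H ∧
      Set.range (orderOf : H → ℕ) = Set.range (orderOf : Matrix.ProjectiveSpecialLinearGroup (Fin 2) F × Matrix.ProjectiveSpecialLinearGroup (Fin 2) F → ℕ) := by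
  classical
  obtain ⟨p, hchar⟩ := CharP.exists F
  haveI := hchar
  haveI hpF : Fact p.Prime := ⟨CharP.char_is_prime F p⟩
  have hp : p.Prime := hpF.out
  obtain ⟨k, -, hq⟩ := FiniteField.card F p
  obtain ⟨q, hqdef⟩ : ∃ q, q = Fintype.card F := ⟨_, rfl⟩
  rw [← hqdef] at hq hF
  have hK₁ : Nat.card (GaloisField p k) = q := by
    rw [GaloisField.card p k k.ne_zero, hq]
  have hK₂ : Nat.card (GaloisField p (2 * k)) = q ^ 2 := by
    rw [GaloisField.card p (2 * k) (by positivity), hq, ← pow_mul, mul_comm]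
  have hU₁ : Nat.card (GaloisField p k)ˣ = q - 1 := by rw [Nat.card_units, hK₁]
  have hU₂ : Nat.card (GaloisField p (2 * k))ˣ = q ^ 2 - 1 := by rw [Nat.card_units, hK₂]
  obtain ⟨d, hd⟩ : ∃ d, d = Nat.gcd 2 (q - 1) := ⟨_, rfl⟩
  obtain ⟨a, ha⟩ : ∃ a, a = (q - 1) / d := ⟨_, rfl⟩
  obtain ⟨b, hb⟩ : ∃ b, b = (q + 1) / d := ⟨_, rfl⟩
  have hda : a ∣ q - 1 := by
    rw [ha, hd]
    exact Nat.div_dvd_of_dvd (Nat.gcd_dvd_right 2 (q - 1))
  have hdb : b ∣ q ^ 2 - 1 := by
    have h1 : d ∣ q + 1 := by
      have h2 : d ∣ 2 := by rw [hd]; exact Nat.gcd_dvd_left 2 (q - 1)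
      have h3 : d ∣ q - 1 := by rw [hd]; exact Nat.gcd_dvd_right 2 (q - 1)
      have h4 : q + 1 = (q - 1) + 2 := by omega
      rw [h4]
      exact Dvd.dvd.add h3 h2
    have h5 : b ∣ q + 1 := by rw [hb]; exact Nat.div_dvd_of_dvd h1
    have h6 : q ^ 2 - 1 = (q + 1) * (q - 1) := by
      have hq1 : 1 ≤ q := by omega
      obtain ⟨r, rfl⟩ : ∃ r, q = r + 1 := ⟨q - 1, by omega⟩
      simp only [Nat.add_sub_cancel]
      have : (r + 1) ^ 2 = (r + 1 + 1) * r + 1 := by ring
      omega
    rw [h6]
    exact Dvd.dvd.mul_right h5 _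
  obtain ⟨U₁, hU₁c⟩ := exists_subgroup_card (GaloisField p k) a (by rw [hU₁]; exact hda)
  obtain ⟨U₂, hU₂c⟩ := exists_subgroup_card (GaloisField p (2 * k)) b (by rw [hU₂]; exact hdb)
  haveI := aff_solvable (GaloisField p k) U₁
  haveI := aff_solvable (GaloisField p (2 * k)) U₂
  refine ⟨Aff (GaloisField p k) U₁ × Aff (GaloisField p (2 * k)) U₂, inferInstance, inferInstance,
    inferInstance, ?_⟩
  rw [range_orderOf_prod, range_orderOf_prod, aff_spec (GaloisField p k) p U₁,
    aff_spec (GaloisField p (2 * k)) p U₂, Cfsg.Agent.S2475.result p (by rw [← hqdef]; exact hF),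
    hU₁c, hU₂c, ← hqdef, ← hd, ← ha, ← hb]
  ext n
  simp only [Set.mem_setOf_eq]
  constructor
  · rintro ⟨x, hx, y, hy, rfl⟩
    refine ⟨x, ?_, y, ?_, rfl⟩
    · rcases hx with h | h
      · exact Or.inl h
      · exact Or.inr (Or.inl h)
    · rcases hy with h | h
      · exact Or.inl h
      · exact Or.inr (Or.inr h)
  · rintro ⟨x, hx, y, hy, rfl⟩
    rcases hx with hx | hx | hx <;> rcases hy with hy | hy | hy
    · exact ⟨Nat.lcm x y, Or.inl (Nat.lcm_dvd hx hy), 1, Or.inl (one_dvd _), by simp⟩
    · exact ⟨y, Or.inr hy, x, Or.inl hx, Nat.lcm_comm x y⟩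
    · exact ⟨x, Or.inl hx, y, Or.inr hy, rfl⟩
    · exact ⟨x, Or.inr hx, y, Or.inl hy, rfl⟩
    · exact ⟨Nat.lcm x y, Or.inr (Nat.lcm_dvd hx hy), 1, Or.inl (one_dvd _), by simp⟩
    · exact ⟨x, Or.inr hx, y, Or.inr hy, rfl⟩
    · exact ⟨y, Or.inl hy, x, Or.inr hx, Nat.lcm_comm x y⟩
    · exact ⟨y, Or.inr hy, x, Or.inr hx, Nat.lcm_comm x y⟩
    · exact ⟨1, Or.inl (one_dvd _), Nat.lcm x y, Or.inr (Nat.lcm_dvd hx hy), by simp⟩

end Cfsg.Agent.S3532
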