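import Cfsg.Statements.S3554
import Mathlib

set_option autoImplicit false
open Cfsg

namespace Cfsg.Agent.S3554

/-- A non-trivial cyclic normal subgroup of a transitive group gives a fixed-point-free element of prime order. -/
theorem result {G Ω : Type*} [Group G] [Finite G] [MulAction G Ω] [FaithfulSMul G Ω] [Finite Ω]
    (htrans : MulAction.IsPretransitive G Ω) (C : Subgroup G) (hC : C.Normal) (hC1 : C ≠ ⊥) (hcyc : IsCyclic ↥C) :
    ∃ g : G, (orderOf g).Prime ∧ ∀ ω : Ω, g • ω ≠ ω := by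
  classical
  obtain ⟨c, hc⟩ := IsCyclic.exists_generator (α := C)
  have hnt : Nontrivial C := (Subgroup.nontrivial_iff_ne_bot C).mpr hC1
  have hcard : orderOf c = Nat.card C := orderOf_eq_card_of_forall_mem_zpowers hc
  have hn1 : orderOf c ≠ 1 := by
    rw [hcard]
    exact (Finite.one_lt_card (α := C)).ne'
  obtain ⟨p, hp, hpn⟩ := Nat.exists_prime_and_dvd hn1
  obtain ⟨m, hm⟩ := hpn
  have hcpos : 0 < orderOf c := orderOf_pos c
  have hmpos : 0 < m := by
    rcases Nat.eq_zero_or_pos m with h0 | h0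
    · rw [h0, mul_zero] at hm; omega
    · exact h0
  have hxord' : orderOf (c ^ m) = p := by
    rw [orderOf_pow_of_dvd hmpos.ne' (Dvd.intro_left p hm.symm), hm]
    exact Nat.mul_div_cancel p hmpos
  have hxord : orderOf ((c ^ m : C) : G) = p := by
    rw [Subgroup.orderOf_coe]; exact hxord'
  have hconj : ∀ g : G, ∃ j : ℤ, g⁻¹ * ((c ^ m : C) : G) * g = ((c ^ m : C) : G) ^ j := by
    intro g
    have hmem : g⁻¹ * ((c ^ m : C) : G) * g ∈ C := by
      have := hC.conj_mem _ (c ^ m : C).2 g⁻¹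
      simpa using this
    obtain ⟨k, hk⟩ := Subgroup.mem_zpowers_iff.mp (hc ⟨_, hmem⟩)
    have hyp : (⟨g⁻¹ * ((c ^ m : C) : G) * g, hmem⟩ : C) ^ p = 1 := by
      apply Subtype.ext
      have h1 : (g⁻¹ * ((c ^ m : C) : G) * g) ^ p = g⁻¹ * ((c ^ m : C) : G) ^ p * g := by
        have := conj_pow (a := g⁻¹) (b := ((c ^ m : C) : G)) (i := p)
        simpa using this
      have h2 : ((c ^ m : C) : G) ^ p = 1 := by
        rw [← hxord]; exact pow_orderOf_eq_one _
      change (g⁻¹ * ((c ^ m : C) : G) * g) ^ p = 1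
      rw [h1, h2]; simp
    have hkp : c ^ (k * (p : ℤ)) = 1 := by
      rw [zpow_mul, hk, zpow_natCast, hyp]
    have hdvd : ((orderOf c : ℕ) : ℤ) ∣ k * p := orderOf_dvd_iff_zpow_eq_one.mpr hkp
    rw [hm] at hdvd
    have hdvd' : (m : ℤ) ∣ k := by
      have h1 : (m : ℤ) * (p : ℤ) ∣ k * (p : ℤ) := by
        have : ((p * m : ℕ) : ℤ) = (m : ℤ) * (p : ℤ) := by push_cast; ring
        rw [← this]; exact hdvd
      exact (mul_dvd_mul_iff_right (by exact_mod_cast hp.ne_zero)).mp h1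
    obtain ⟨j, hj⟩ := hdvd'
    refine ⟨j, ?_⟩
    have h3 : (⟨g⁻¹ * ((c ^ m : C) : G) * g, hmem⟩ : C) = (c ^ m) ^ j := by
      rw [← hk, hj, ← zpow_natCast c m, ← zpow_mul]
    have h4 := congrArg (Subtype.val) h3
    simpa using h4
  refine ⟨((c ^ m : C) : G), by rw [hxord]; exact hp, ?_⟩
  intro ω₀ hω₀
  have hall : ∀ ω : Ω, ((c ^ m : C) : G) • ω = (1 : G) • ω := by
    intro ω
    obtain ⟨g, hg⟩ := MulAction.exists_smul_eq G ω₀ ω
    obtain ⟨j, hj⟩ := hconj g
    have hstab : ((c ^ m : C) : G) ^ j ∈ MulAction.stabilizer G ω₀ :=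
      Subgroup.zpow_mem _ (MulAction.mem_stabilizer_iff.mpr hω₀) j
    have h5 : (g⁻¹ * ((c ^ m : C) : G) * g) • ω₀ = ω₀ := by
      rw [hj]; exact MulAction.mem_stabilizer_iff.mp hstab
    rw [one_smul, ← hg]
    have h6 : ((c ^ m : C) : G) • g • ω₀ = g • (g⁻¹ * ((c ^ m : C) : G) * g) • ω₀ := by
      simp [mul_smul]
    rw [h6, h5]
  have hx1 : ((c ^ m : C) : G) = 1 := FaithfulSMul.eq_of_smul_eq_smul hall
  rw [hx1, orderOf_one] at hxord
  exact hp.one_lt.ne hxord

end Cfsg.Agent.S3554
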