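import Cfsg.Statements.S3555
import Cfsg.Agent.Lib.Helper19.Derange

set_option autoImplicit false
open Cfsg

namespace Cfsg.Agent.S3555

open MulAction
open scoped Pointwise

/-- If all derangements are involutions, every element has 0, 1 or all fixed points. -/
theorem fix_count_trichotomy {G Ω : Type*} [Group G] [MulAction G Ω] [Fintype G] [Fintype Ω]
    [DecidableEq Ω] [DecidableEq G] [IsPretransitive G Ω] [Nonempty Ω]
    (hinv : ∀ g : G, (∀ ω : Ω, g • ω ≠ ω) → g * g = 1) (g : G) :
    (Finset.univ.filter (fun ω : Ω => g • ω = ω)).card = 0 ∨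
    (Finset.univ.filter (fun ω : Ω => g • ω = ω)).card = 1 ∨
    (Finset.univ.filter (fun ω : Ω => g • ω = ω)).card = Fintype.card Ω := by
  classical
  set n := Fintype.card Ω with hn
  let Fix : G → Finset Ω := fun g => Finset.univ.filter (fun ω : Ω => g • ω = ω)
  let f : G → ℕ := fun g => (Fix g).card
  let Z : Finset G := Finset.univ.filter (fun g : G => ∀ ω : Ω, g • ω ≠ ω)
  have hB : ∑ g : G, f g = Fintype.card G := by
    have h := Cfsg.Agent.Lib.Helper19.burnside_natCard G Ω
    have htG : Nat.card (orbitRel.Quotient G Ω) = 1 := by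
      have h1 : Subsingleton (orbitRel.Quotient G Ω) :=
        (pretransitive_iff_subsingleton_quotient G Ω).mp inferInstance
      have h2 : Nonempty (orbitRel.Quotient G Ω) := ⟨Quotient.mk'' (Classical.arbitrary Ω)⟩
      exact Nat.card_eq_one_iff_unique.mpr ⟨h1, h2⟩
    rw [htG, one_mul, Nat.card_eq_fintype_card] at h
    rw [← h]
    apply Finset.sum_congr rfl
    intro g _
    rw [Nat.card_eq_fintype_card]
    simp only [f, Fix]
    rw [Fintype.card_subtype]
    rfl
  have hstar : Z.card * n ≤ ∑ g : G, (f g * f g - f g) := by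
    let t₀ : Ω → Ω → G := fun β γ =>
      if h : ∃ t : G, (∀ ω : Ω, t • ω ≠ ω) ∧ t • β = γ then Classical.choose h else 1
    have ht₀ : ∀ β γ, (∃ t : G, (∀ ω : Ω, t • ω ≠ ω) ∧ t • β = γ) →
        (∀ ω : Ω, t₀ β γ • ω ≠ ω) ∧ t₀ β γ • β = γ := by
      intro β γ h
      simp only [t₀, dif_pos h]
      exact Classical.choose_spec h
    let W : Finset (G × (Ω × Ω)) :=
      Finset.univ.filter (fun x => x.2 ∈ (Fix x.1).offDiag)
    have hW : W.card = ∑ g : G, (f g * f g - f g) := by
      simp only [W]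
      rw [Finset.card_filter, Fintype.sum_prod_type]
      apply Finset.sum_congr rfl
      intro g _
      rw [← Finset.card_filter]
      rw [← Finset.offDiag_card]
      congr 1
      ext p
      simp
    rw [← hW]
    have hprod : (Z ×ˢ (Finset.univ : Finset Ω)).card = Z.card * n := by
      rw [Finset.card_product, Finset.card_univ]
    rw [← hprod]
    apply Finset.card_le_card_of_injOn
      (fun p => ((t₀ p.2 (p.1 • p.2) * p.1, (p.2, p.1 • p.2)) : G × (Ω × Ω)))
    · intro p hp
      have hpZ : ∀ ω : Ω, p.1 • ω ≠ ω :=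
        (Finset.mem_filter.mp (Finset.mem_product.mp hp).1).2
      obtain ⟨h1, h2⟩ := ht₀ p.2 (p.1 • p.2) ⟨p.1, hpZ, rfl⟩
      have h3 : t₀ p.2 (p.1 • p.2) • (p.1 • p.2) = p.2 := by
        have h5 := hinv _ h1
        have h6 : t₀ p.2 (p.1 • p.2) • (t₀ p.2 (p.1 • p.2) • p.2) = p.2 := by
          rw [← mul_smul, h5, one_smul]
        rw [h2] at h6
        exact h6
      have h4 : p.1 • (p.1 • p.2) = p.2 := by rw [← mul_smul, hinv _ hpZ, one_smul]
      simp only [W, Finset.coe_filter, Finset.mem_univ, true_and, Set.mem_ofPred_eq,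
        Finset.mem_offDiag, Fix, Finset.mem_filter]
      refine ⟨?_, ?_, ?_⟩
      · rw [mul_smul]; exact h3
      · rw [mul_smul, h4]; exact h2
      · exact (hpZ p.2).symm
    · intro p hp q hq hpq
      simp only [Prod.mk.injEq] at hpq
      obtain ⟨h1, h2, h3⟩ := hpq
      have h5 : t₀ p.2 (p.1 • p.2) = t₀ q.2 (q.1 • q.2) := by rw [h3, h2]
      rw [h5] at h1
      exact Prod.ext (mul_left_cancel h1) h2
  have hfn : ∀ g, f g ≤ n := fun g => Finset.card_le_univ _
  have hZ0 : ∀ g, (∀ ω : Ω, g • ω ≠ ω) → f g = 0 := by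
    intro g hg
    simp only [f, Fix, Finset.card_eq_zero, Finset.filter_eq_empty_iff]
    intro ω _
    exact hg ω
  have hZ1 : ∀ g, ¬ (∀ ω : Ω, g • ω ≠ ω) → 1 ≤ f g := by
    intro g hg
    simp only [ne_eq, not_forall, not_not] at hg
    obtain ⟨ω, hω⟩ := hg
    exact Finset.card_pos.mpr ⟨ω, Finset.mem_filter.mpr ⟨Finset.mem_univ _, hω⟩⟩
  let φ : G → ℤ := fun g => ((f g : ℤ) - 1) * ((f g : ℤ) - n)
  have hBz : ∑ g : G, (f g : ℤ) = (Fintype.card G : ℤ) := by exact_mod_cast hB
  have hφsum : ∑ g : G, φ g = ∑ g : G, ((f g : ℤ) * (f g : ℤ) - (f g : ℤ)) := by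
    have h1 : ∀ g, φ g = ((f g : ℤ) * (f g : ℤ) - (f g : ℤ)) - n * ((f g : ℤ) - 1) := by
      intro g
      simp only [φ]
      ring
    have h2 : ∑ g : G, ((f g : ℤ) - 1) = 0 := by
      rw [Finset.sum_sub_distrib, hBz]
      simp
    simp only [h1]
    rw [Finset.sum_sub_distrib, ← Finset.mul_sum, h2]
    ring
  have hstar' : (Z.card : ℤ) * n ≤ ∑ g : G, φ g := by
    rw [hφsum]
    have h1 : ((∑ g : G, (f g * f g - f g) : ℕ) : ℤ) =
        ∑ g : G, ((f g : ℤ) * (f g : ℤ) - (f g : ℤ)) := by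
      rw [Nat.cast_sum]
      apply Finset.sum_congr rfl
      intro g _
      rw [Nat.cast_sub (Nat.le_mul_self _), Nat.cast_mul]
    rw [← h1]
    exact_mod_cast hstar
  have hsplit := Finset.sum_filter_add_sum_filter_not (Finset.univ : Finset G)
    (fun g : G => ∀ ω : Ω, g • ω ≠ ω) φ
  have hZsum : ∑ g ∈ Z, φ g = (Z.card : ℤ) * n := by
    have h1 : ∀ g ∈ Z, φ g = (n : ℤ) := by
      intro g hg
      have h2 := hZ0 g (Finset.mem_filter.mp hg).2
      simp only [φ, h2]
      simp
    rw [Finset.sum_congr rfl h1]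
    simp
  have hnonpos : ∀ g ∈ Finset.univ.filter (fun g : G => ¬ ∀ ω : Ω, g • ω ≠ ω), φ g ≤ 0 := by
    intro g hg
    have h1 := hZ1 g (Finset.mem_filter.mp hg).2
    have h2 := hfn g
    apply mul_nonpos_of_nonneg_of_nonpos
    · have : (1 : ℤ) ≤ (f g : ℤ) := by exact_mod_cast h1
      linarith
    · have : (f g : ℤ) ≤ (n : ℤ) := by exact_mod_cast h2
      linarith
  have hzero : ∑ g ∈ Finset.univ.filter (fun g : G => ¬ ∀ ω : Ω, g • ω ≠ ω), φ g = 0 := by
    apply le_antisymm (Finset.sum_nonpos hnonpos)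
    have h1 : ∑ g ∈ Finset.univ.filter (fun g : G => ∀ ω : Ω, g • ω ≠ ω), φ g
        = (Z.card : ℤ) * n := hZsum
    linarith
  have heach := (Finset.sum_eq_zero_iff_of_nonpos hnonpos).mp hzero
  change f g = 0 ∨ f g = 1 ∨ f g = n
  by_cases hg : ∀ ω : Ω, g • ω ≠ ω
  · left
    exact hZ0 g hg
  · right
    have h1 := heach g (Finset.mem_filter.mpr ⟨Finset.mem_univ _, hg⟩)
    rcases mul_eq_zero.mp h1 with h | h
    · left
      have : (f g : ℤ) = 1 := by linarith
      exact_mod_cast this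
    · right
      have : (f g : ℤ) = n := by linarith
      exact_mod_cast this

theorem mem_conj_smul_stabilizer {G Ω : Type*} [Group G] [MulAction G Ω] (g x : G) (α : Ω) :
    x ∈ MulAut.conj g • stabilizer G α ↔ x • (g • α) = g • α := by
  rw [Subgroup.mem_pointwise_smul_iff_inv_smul_mem]
  have h1 : (MulAut.conj g)⁻¹ • x = g⁻¹ * x * g := by
    rw [MulAut.smul_def, MulAut.conj_inv_apply]
  rw [h1, mem_stabilizer_iff, mul_smul, mul_smul, inv_smul_eq_iff]

/-- Transitive groups whose derangements are all involutions. -/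
theorem result {G Ω : Type*} [Group G] [Finite G] [MulAction G Ω] [FaithfulSMul G Ω] [Finite Ω]
    (htrans : MulAction.IsPretransitive G Ω) (hinv : ∀ g : G, (∀ ω : Ω, g • ω ≠ ω) → orderOf g = 2) :
    (IsMulCommutative G ∧ ∀ g : G, g ^ 2 = 1) ∨
    (∃ H : Subgroup G, Cfsg.IsFrobeniusComplement H ∧
      (∀ x ∈ Cfsg.frobeniusKernel H, x ^ 2 = 1) ∧
      ∀ x ∈ Cfsg.frobeniusKernel H, ∀ y ∈ Cfsg.frobeniusKernel H, x * y = y * x) := by
  classical
  by_cases hsub : Subsingleton G
  · left
    exact ⟨⟨⟨fun a b => Subsingleton.elim _ _⟩⟩, fun g => Subsingleton.elim _ _⟩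
  have hΩ : Nonempty Ω := by
    by_contra h
    rw [not_nonempty_iff] at h
    apply hsub
    constructor
    intro a b
    exact FaithfulSMul.eq_of_smul_eq_smul (α := Ω) (fun ω => isEmptyElim ω)
  letI : Fintype G := Fintype.ofFinite G
  letI : Fintype Ω := Fintype.ofFinite Ω
  have hinv' : ∀ g : G, (∀ ω : Ω, g • ω ≠ ω) → g * g = 1 := by
    intro g hg
    have h := hinv g hg
    rw [← pow_two, ← h]
    exact pow_orderOf_eq_one g
  have htri := fix_count_trichotomy (G := G) (Ω := Ω) hinv'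
  have hi : ∀ g : G, g ≠ 1 → ∀ β γ : Ω, g • β = β → g • γ = γ → β = γ := by
    intro g hg1 β γ hβ hγ
    by_contra hne
    have h2 : 1 < (Finset.univ.filter (fun ω : Ω => g • ω = ω)).card :=
      Finset.one_lt_card.mpr ⟨β, Finset.mem_filter.mpr ⟨Finset.mem_univ _, hβ⟩, γ,
        Finset.mem_filter.mpr ⟨Finset.mem_univ _, hγ⟩, hne⟩
    rcases htri g with h | h | h
    · omega
    · omega
    · apply hg1
      apply FaithfulSMul.eq_of_smul_eq_smul (α := Ω)
      intro ω
      rw [one_smul]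
      have h3 : Finset.univ.filter (fun ω : Ω => g • ω = ω) = Finset.univ :=
        Finset.eq_univ_of_card _ h
      have hω : ω ∈ Finset.univ.filter (fun ω : Ω => g • ω = ω) := by
        rw [h3]; exact Finset.mem_univ _
      exact (Finset.mem_filter.mp hω).2
  have hK : ∀ s t : G, (∀ ω : Ω, s • ω ≠ ω) → (∀ ω : Ω, t • ω ≠ ω) →
      s * t = 1 ∨ ∀ ω : Ω, (s * t) • ω ≠ ω := by
    intro s t hs ht
    by_contra hcon
    rw [not_or] at hcon
    obtain ⟨hne, hnd⟩ := hcon
    simp only [ne_eq, not_forall, not_not] at hnd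
    obtain ⟨δ, hδ⟩ := hnd
    have hs2 := hinv' s hs
    have ht2 := hinv' t ht
    have h1 : t • δ = s • δ := by
      have h3 : s • (s • (t • δ)) = s • δ := by rw [← mul_smul s t, hδ]
      rw [← mul_smul, hs2, one_smul] at h3
      exact h3
    have h2 : (s * t) • (s • δ) = s • δ := by
      rw [← h1, mul_smul, ← mul_smul t t, ht2, one_smul, h1]
    have h4 := hi (s * t) hne δ (s • δ) hδ h2
    exact hs δ h4.symm
  obtain ⟨α⟩ := hΩ
  have hker : ∀ x ∈ Cfsg.frobeniusKernel (stabilizer G α), x = 1 ∨ ∀ ω : Ω, x • ω ≠ ω := by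
    intro x hx
    rcases hx with h | h
    · left; exact h
    · right
      intro ω hω
      obtain ⟨g, hg⟩ := MulAction.exists_smul_eq G α ω
      apply h g
      rw [mem_conj_smul_stabilizer, hg]
      exact hω
  by_cases hA : stabilizer G α = ⊥
  · left
    have hall : ∀ g : G, g * g = 1 := by
      intro g
      by_cases hg1 : g = 1
      · rw [hg1, one_mul]
      · apply hinv'
        intro ω hω
        obtain ⟨x, hx⟩ := MulAction.exists_smul_eq G α ω
        have h1 : x⁻¹ * g * x ∈ stabilizer G α := by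
          rw [mem_stabilizer_iff, mul_smul, mul_smul, hx, hω, ← hx]
          simp
        rw [hA, Subgroup.mem_bot] at h1
        apply hg1
        have h3 : g = x * (x⁻¹ * g * x) * x⁻¹ := by group
        rw [h3, h1]
        simp
    refine ⟨⟨⟨fun a b => ?_⟩⟩, fun g => by rw [pow_two]; exact hall g⟩
    have h1 : a * b = (a * b)⁻¹ := eq_inv_of_mul_eq_one_left (hall (a * b))
    have h2 : a = a⁻¹ := eq_inv_of_mul_eq_one_left (hall a)
    have h3 : b = b⁻¹ := eq_inv_of_mul_eq_one_left (hall b)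
    rw [h1, mul_inv_rev, ← h2, ← h3]
  · right
    refine ⟨stabilizer G α, ⟨hA, ?_, ?_⟩, ?_, ?_⟩
    · intro htop
      apply hsub
      constructor
      intro a b
      apply FaithfulSMul.eq_of_smul_eq_smul (α := Ω)
      intro ω
      obtain ⟨x, hx⟩ := MulAction.exists_smul_eq G α ω
      have hfix : ∀ g : G, g • α = α := fun g =>
        mem_stabilizer_iff.mp (htop ▸ Subgroup.mem_top g)
      rw [← hx, ← mul_smul, ← mul_smul, hfix, hfix]
    · intro g hg
      rw [eq_bot_iff]
      intro x hx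
      rw [Subgroup.mem_bot]
      by_contra hx1
      obtain ⟨hx1', hx2⟩ := Subgroup.mem_inf.mp hx
      rw [mem_conj_smul_stabilizer] at hx2
      have h3 := hi x hx1 α (g • α) (mem_stabilizer_iff.mp hx1') hx2
      exact hg (mem_stabilizer_iff.mpr h3.symm)
    · intro x hx
      rcases hker x hx with rfl | h
      · simp
      · rw [pow_two]
        exact hinv' x h
    · intro x hx y hy
      rcases hker x hx with rfl | hxd
      · simp
      rcases hker y hy with rfl | hyd
      · simp
      have hx2 := hinv' x hxd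
      have hy2 := hinv' y hyd
      have hxy : (x * y) * (x * y) = 1 := by
        rcases hK x y hxd hyd with h | h
        · rw [h, one_mul]
        · exact hinv' _ h
      have h1 : x * y = (x * y)⁻¹ := eq_inv_of_mul_eq_one_left hxy
      have h2 : x = x⁻¹ := eq_inv_of_mul_eq_one_left hx2
      have h3 : y = y⁻¹ := eq_inv_of_mul_eq_one_left hy2
      rw [h1, mul_inv_rev, ← h2, ← h3]

end Cfsg.Agent.S3555
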