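import Cfsg.Statements.S3556
import Cfsg.Agent.S3680
import Cfsg.Agent.Lib.Helper19.ProdDer

set_option autoImplicit false
open Cfsg

namespace Cfsg.Agent.S3556

open MulAction Cfsg.Agent.Lib.Helper19

/-- a nonabelian finite simple group has an element of prime order different from `p` -/
theorem exists_prime_order_ne {T : Type*} [Group T] [Finite T] [IsSimpleGroup T]
    (hT : ¬ ∀ a b : T, a * b = b * a) (p : ℕ) (hp : p.Prime) :
    ∃ (s : ℕ) (b : T), s.Prime ∧ s ≠ p ∧ orderOf b = s := by
  by_contra hcon
  push Not at hcon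
  haveI : Fact p.Prime := ⟨hp⟩
  have hcard : Nat.card T = p ^ (Nat.card T).primeFactorsList.length := by
    apply Nat.eq_prime_pow_of_unique_prime_dvd Nat.card_pos.ne'
    intro d hd hdvd
    by_contra hne
    haveI : Fact d.Prime := ⟨hd⟩
    obtain ⟨b, hb⟩ := exists_prime_orderOf_dvd_card' d hdvd
    exact hcon d b hd hne hb
  have hP : IsPGroup p T := IsPGroup.of_card hcard
  have hZ : Nontrivial (Subgroup.center T) := hP.center_nontrivial
  rcases IsSimpleGroup.eq_bot_or_eq_top_of_normal (Subgroup.center T) inferInstance with hb | ht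
  · exact (Subgroup.nontrivial_iff_ne_bot _).mp hZ hb
  · apply hT
    intro a b
    have ha : a ∈ Subgroup.center T := by rw [ht]; trivial
    exact ((Subgroup.mem_center_iff.mp ha) b).symm

/-- Let G act faithfully and primitively on a finite set with at least two points, and suppose that for some fixed prime p every element of G fixing no point has order a power of p. Then G is of affine type (it has a regular normal subgroup that is an elementary abelian r-group for some prime r) or almost simple (it has a non-abelian simple normal subgroup with trivial centralizer). -/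
theorem result {G Ω : Type*} [Group G] [Finite G] [MulAction G Ω] [FaithfulSMul G Ω] [Finite Ω]
    (hprim : MulAction.IsPreprimitive G Ω) (hΩ : 2 ≤ Nat.card Ω) (p : ℕ) (hp : p.Prime)
    (hder : ∀ g : G, (∀ ω : Ω, g • ω ≠ ω) → ∃ k : ℕ, orderOf g = p ^ k) :
    (∃ (N : Subgroup G) (r : ℕ), r.Prime ∧ N.Normal ∧ Cfsg.IsElementaryAbelian r N ∧
      MulAction.IsPretransitive N Ω ∧ ∀ a : Ω, MulAction.stabilizer N a = ⊥) ∨
    (∃ T : Subgroup G, T.Normal ∧ IsSimpleGroup ↥T ∧ ¬ IsMulCommutative ↥T ∧
      Subgroup.centralizer (T : Set G) = ⊥) := by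
  classical
  have hpt : IsPretransitive G Ω := hprim.toIsPretransitive
  haveI : Fact p.Prime := ⟨hp⟩
  obtain ⟨a₀, b₀, hab₀⟩ : ∃ a b : Ω, a ≠ b := by
    have h1 : 1 < Nat.card Ω := by omega
    haveI : Nontrivial Ω := Finite.one_lt_card_iff_nontrivial.mp h1
    exact exists_pair_ne Ω
  obtain ⟨g₀, hg₀a⟩ := MulAction.exists_smul_eq G a₀ b₀
  have hg₀ : g₀ ≠ 1 := by
    rintro rfl
    rw [one_smul] at hg₀a
    exact hab₀ hg₀a
  have htop : (⊤ : Subgroup G) ≠ ⊥ := by
    intro h
    have : g₀ ∈ (⊤ : Subgroup G) := trivial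
    rw [h, Subgroup.mem_bot] at this
    exact hg₀ this
  have hex : ∃ n, ∃ V : Subgroup G, V.Normal ∧ V ≠ ⊥ ∧ Nat.card V = n :=
    ⟨_, ⊤, inferInstance, htop, rfl⟩
  obtain ⟨M, hMn, hMne, hMcard⟩ := Nat.find_spec hex
  have hMmin : ∀ K : Subgroup G, K.Normal → K ≤ M → K = ⊥ ∨ K = M := by
    intro K hKn hKM
    by_cases hK : K = ⊥
    · exact Or.inl hK
    · right
      apply Subgroup.eq_of_le_of_card_ge hKM
      rw [hMcard]
      exact Nat.find_min' hex ⟨K, hKn, hK, rfl⟩
  haveI := hMn
  have hMtr : IsPretransitive M Ω := Cfsg.Agent.S3680.trans_of_normal hprim M hMn hMne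
  have hCsr : ∀ c ∈ Subgroup.centralizer (M : Set G), ∀ ω : Ω, c • ω = ω → c = 1 :=
    fun c hc ω h => Cfsg.Agent.S3680.semireg_centralizer M hMtr c hc ω h
  have hMex : ∃ m₀ : G, m₀ ∈ M ∧ m₀ ≠ 1 := by
    by_contra hcon
    push Not at hcon
    exact hMne ((Subgroup.eq_bot_iff_forall M).mpr hcon)
  obtain ⟨m₀, hm₀M, hm₀⟩ := hMex
  haveI : Nontrivial M := (Subgroup.nontrivial_iff_ne_bot M).mpr hMne
  by_cases hMab : ∀ a ∈ M, ∀ b ∈ M, a * b = b * a
  · -- affine type
    left
    have hMC : M ≤ Subgroup.centralizer (M : Set G) := by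
      intro a ha
      rw [Subgroup.mem_centralizer_iff]
      intro b hb
      exact hMab b hb a ha
    have hMsr : ∀ k ∈ M, ∀ ω : Ω, k • ω = ω → k = 1 := fun k hk => hCsr k (hMC hk)
    have hcard1 : Nat.card M ≠ 1 := by
      intro h1
      exact hMne (Subgroup.card_eq_one.mp h1)
    obtain ⟨r, hr, hrd⟩ := Nat.exists_prime_and_dvd hcard1
    haveI : Fact r.Prime := ⟨hr⟩
    obtain ⟨x, hx⟩ := exists_prime_orderOf_dvd_card' r hrd
    let K : Subgroup G :=
      { carrier := {y | y ∈ M ∧ y ^ r = 1}
        one_mem' := ⟨M.one_mem, one_pow _⟩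
        mul_mem' := fun {a b} ha hb => ⟨M.mul_mem ha.1 hb.1, by
          rw [(show Commute a b from hMab a ha.1 b hb.1).mul_pow, ha.2, hb.2, one_mul]⟩
        inv_mem' := fun {a} ha => ⟨M.inv_mem ha.1, by rw [inv_pow, ha.2, inv_one]⟩ }
    have hKn : K.Normal := by
      constructor
      intro y hy g
      exact ⟨hMn.conj_mem y hy.1 g, by rw [conj_pow, hy.2, mul_one, mul_inv_cancel]⟩
    have hKM : K ≤ M := fun y hy => hy.1
    have hKne : K ≠ ⊥ := by
      intro hK
      have hxK : (x : G) ∈ K := ⟨x.2, by
        have h1 : x ^ r = 1 := by rw [← hx]; exact pow_orderOf_eq_one x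
        have h2 := congrArg (Subtype.val) h1
        simpa using h2⟩
      rw [hK, Subgroup.mem_bot] at hxK
      have hx1 : x = 1 := Subtype.ext hxK
      rw [hx1, orderOf_one] at hx
      exact hr.one_lt.ne hx
    have hKeq : K = M := (hMmin K hKn hKM).resolve_left hKne
    refine ⟨M, r, hr, hMn, ⟨⟨⟨fun a b => Subtype.ext (hMab a a.2 b b.2)⟩⟩, fun y hy => ?_⟩,
      hMtr, fun ω => ?_⟩
    · have hy' : y ∈ K := by rw [hKeq]; exact hy
      exact hy'.2
    · rw [Subgroup.eq_bot_iff_forall]
      intro y hy
      exact Subtype.ext (hMsr y y.2 ω hy)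
  · right
    by_cases hMsr : ∀ k ∈ M, ∀ ω : Ω, k • ω = ω → k = 1
    · -- regular nonabelian: a `p`-group, impossible
      exfalso
      have hP : IsPGroup p M := by
        intro g
        by_cases hg : (g : G) = 1
        · exact ⟨0, by rw [pow_zero, pow_one]; exact Subtype.ext hg⟩
        · obtain ⟨k, hk⟩ := hder (g : G) (fun ω h => hg (hMsr _ g.2 ω h))
          refine ⟨k, Subtype.ext ?_⟩
          rw [Subgroup.coe_pow, ← hk]
          exact pow_orderOf_eq_one _
      have hZn : Nontrivial (Subgroup.center M) := hP.center_nontrivial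
      have hZ : Subgroup.center M ≠ ⊥ := (Subgroup.nontrivial_iff_ne_bot _).mp hZn
      have hzex : ∃ z : M, z ∈ Subgroup.center M ∧ z ≠ 1 := by
        by_contra hcon
        push Not at hcon
        exact hZ ((Subgroup.eq_bot_iff_forall _).mpr hcon)
      obtain ⟨z, hzZ, hz1⟩ := hzex
      let K : Subgroup G := M ⊓ Subgroup.centralizer (M : Set G)
      have hKn : K.Normal := by
        haveI : (Subgroup.centralizer (M : Set G)).Normal := Subgroup.normal_centralizer
        exact Subgroup.normal_inf_normal _ _
      have hzK : (z : G) ∈ K := by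
        refine Subgroup.mem_inf.mpr ⟨z.2, ?_⟩
        rw [Subgroup.mem_centralizer_iff]
        intro m hm
        have := (Subgroup.mem_center_iff.mp hzZ) ⟨m, hm⟩
        exact congrArg Subtype.val this
      have hKeq : K = M := by
        rcases hMmin K hKn inf_le_left with h | h
        · rw [h, Subgroup.mem_bot] at hzK
          exact (hz1 (Subtype.ext hzK)).elim
        · exact h
      apply hMab
      intro a ha b hb
      have haK : a ∈ K := by rw [hKeq]; exact ha
      exact ((Subgroup.mem_centralizer_iff.mp haK.2) b hb).symm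
    · have hC : Subgroup.centralizer (M : Set G) = ⊥ := by
        by_contra hCne
        apply hMsr
        have hCn : (Subgroup.centralizer (M : Set G)).Normal := Subgroup.normal_centralizer
        have hCtr : IsPretransitive (Subgroup.centralizer (M : Set G)) Ω :=
          Cfsg.Agent.S3680.trans_of_normal hprim _ hCn hCne
        intro k hk ω h
        apply Cfsg.Agent.S3680.semireg_centralizer _ hCtr k ?_ ω h
        rw [Subgroup.mem_centralizer_iff]
        intro c hc
        exact ((Subgroup.mem_centralizer_iff.mp hc) k hk).symm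
      obtain ⟨T, instT, k, hTs, hk, ⟨e⟩⟩ := Cfsg.Agent.S0721.result M hMne hMmin
      have hTnc : ¬ ∀ a b : T, a * b = b * a := by
        intro hc
        apply hMab
        intro a ha b hb
        have h1 : e (⟨a, ha⟩ * ⟨b, hb⟩) = e (⟨b, hb⟩ * ⟨a, ha⟩) := by
          rw [map_mul, map_mul]
          funext i
          exact hc _ _
        exact congrArg Subtype.val (e.injective h1)
      have hTfin : Finite T := by
        apply Finite.of_injective (fun t : T => e.symm (Pi.mulSingle (⟨0, hk⟩ : Fin k) t))
        intro t t' htt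
        exact Pi.mulSingle_injective (M := fun _ : Fin k => T) _ (e.symm.injective htt)
      by_cases hk1 : k = 1
      · subst hk1
        have e' : M ≃* T := e.trans (MulEquiv.funUnique (Fin 1) T)
        refine ⟨M, hMn, e'.isSimpleGroup, ?_, hC⟩
        intro hc
        apply hMab
        intro a ha b hb
        exact congrArg Subtype.val (hc.is_comm.comm ⟨a, ha⟩ ⟨b, hb⟩)
      · exfalso
        have hk2 : 2 ≤ k := by omega
        let θ : (Fin k → T) →* G := M.subtype.comp e.symm.toMonoidHom
        have hθ : ∀ q : Fin k → T, θ q = ((e.symm q : M) : G) := fun q => rfl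
        have hθinj : Function.Injective θ := by
          intro q q' hqq
          rw [hθ, hθ] at hqq
          exact e.symm.injective (Subtype.ext hqq)
        have htr : ∀ ω ω' : Ω, ∃ q : Fin k → T, θ q • ω = ω' := by
          intro ω ω'
          obtain ⟨m, hm⟩ := MulAction.exists_smul_eq M ω ω'
          refine ⟨e m, ?_⟩
          rw [hθ, e.symm_apply_apply]
          exact hm
        obtain ⟨t₀, ht₀⟩ := exists_ne (1 : T)
        have hfaith : ∀ i : Fin k, ∃ (t : T) (ω : Ω), θ (Pi.mulSingle i t) • ω ≠ ω := by
          intro i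
          refine ⟨t₀, ?_⟩
          by_contra hcon
          push Not at hcon
          have h1 : θ (Pi.mulSingle i t₀) = 1 := by
            apply FaithfulSMul.eq_of_smul_eq_smul (α := Ω)
            intro ω
            rw [one_smul]
            exact hcon ω
          rw [← map_one θ] at h1
          have h2 := hθinj h1
          have h3 := congrFun h2 i
          rw [Pi.mulSingle_eq_same] at h3
          exact ht₀ h3
        let i₁ : Fin k := ⟨0, by omega⟩
        let i₂ : Fin k := ⟨1, by omega⟩
        have h12 : i₁ ≠ i₂ := by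
          intro h
          have := congrArg Fin.val h
          simp [i₁, i₂] at this
        obtain ⟨t, ht⟩ := exists_single_derangement θ htr i₁ (hfaith i₁)
        obtain ⟨s, b, hs, hsp, hb⟩ := exists_prime_order_ne hTnc p hp
        -- the order of `t` is a power of `p`
        obtain ⟨j, hj⟩ := hder _ ht
        have hot : orderOf t = p ^ j := by
          rw [← hj]
          have h1 : orderOf (θ (Pi.mulSingle i₁ t)) = orderOf (Pi.mulSingle i₁ t : Fin k → T) :=
            orderOf_injective θ hθinj _
          rw [h1]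
          exact (orderOf_injective (MonoidHom.mulSingle (fun _ : Fin k => T) i₁)
            (Pi.mulSingle_injective (M := fun _ : Fin k => T) i₁) t).symm
        have ht1 : t ≠ 1 := by
          rintro rfl
          apply ht a₀
          rw [Pi.mulSingle_one, map_one, one_smul]
        have hcop : Nat.Coprime s (orderOf t) := by
          rw [hot]
          exact Nat.Coprime.pow_right _ ((Nat.coprime_primes hs hp).mpr hsp)
        obtain ⟨m, htm⟩ := exists_pow_eq_self_of_coprime hcop
        have hcomm : Commute (Pi.mulSingle i₁ t : Fin k → T) (Pi.mulSingle i₂ b) :=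
          Pi.mulSingle_commute (f := fun _ : Fin k => T) h12 t b
        have hbs : b ^ s = 1 := by rw [← hb]; exact pow_orderOf_eq_one b
        have hxs : (Pi.mulSingle i₁ t * Pi.mulSingle i₂ b : Fin k → T) ^ s =
            Pi.mulSingle i₁ (t ^ s) := by
          rw [hcomm.mul_pow, ← Pi.mulSingle_pow, ← Pi.mulSingle_pow, hbs, Pi.mulSingle_one,
            mul_one]
        have hxder : ∀ ω : Ω, θ (Pi.mulSingle i₁ t * Pi.mulSingle i₂ b) • ω ≠ ω := by
          intro ω hω
          apply ht ω
          have h1 : θ (Pi.mulSingle i₁ t * Pi.mulSingle i₂ b) ∈ MulAction.stabilizer G ω := hω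
          have h2 := Subgroup.pow_mem _ (Subgroup.pow_mem _ h1 s) m
          rw [← map_pow, hxs, ← map_pow, ← Pi.mulSingle_pow, htm] at h2
          exact h2
        obtain ⟨e₂, he₂⟩ := hder _ hxder
        have h1 : θ (Pi.mulSingle i₁ t * Pi.mulSingle i₂ b) ^ p ^ e₂ = 1 := by
          rw [← he₂]
          exact pow_orderOf_eq_one _
        rw [← map_pow, ← map_one θ] at h1
        have h2 := congrFun (hθinj h1) i₂
        rw [Pi.pow_apply, Pi.mul_apply, Pi.mulSingle_eq_same,
          Pi.mulSingle_eq_of_ne h12.symm, one_mul, Pi.one_apply] at h2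
        have h3 : s ∣ p ^ e₂ := by
          rw [← hb]
          exact orderOf_dvd_of_pow_eq_one h2
        exact hsp ((Nat.prime_dvd_prime_iff_eq hs hp).mp (hs.dvd_of_dvd_pow h3))

end Cfsg.Agent.S3556
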