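import Cfsg.Statements.S3633
import Cfsg.Agent.Lib.Helper19.Solv3

set_option autoImplicit false
open Cfsg

namespace Cfsg.Agent.S3633

open Cfsg.Agent.Lib.Helper19

/-- Three pairwise non-adjacent primes: at most one divides the order of a solvable normal subgroup. -/
theorem result {G : Type*} [Group G] [Finite G] (ρ : Finset ℕ) (hρ : 3 ≤ ρ.card) (hc : ((∀ r ∈ ρ, r.Prime ∧ r ∣ Nat.card G) ∧ (∀ r ∈ ρ, ∀ s ∈ ρ, r ≠ s → ¬ ∃ x : G, orderOf x = r * s)))
    (K : Subgroup G) [K.Normal] (hK : Group.IsSolvable ↥K) :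
    (∀ r ∈ ρ, ∀ s ∈ ρ, r ∣ Nat.card ↥K → s ∣ Nat.card ↥K → r = s) ∧ ¬ Group.IsSolvable G := by
  classical
  obtain ⟨hprime, hnon⟩ := hc
  have hthird : ∀ r s : ℕ, ∃ t ∈ ρ, t ≠ r ∧ t ≠ s := by
    intro r s
    by_contra hcon
    simp only [not_exists, not_and, not_not] at hcon
    have h1 : ρ ⊆ {r, s} := by
      intro t ht
      by_cases h : t = r
      · simp [h]
      · simp [hcon t ht h]
    have h2 := Finset.card_le_card h1
    have h3 : ({r, s} : Finset ℕ).card ≤ 2 := Finset.card_le_two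
    omega
  have hfalse : ∀ a ∈ ρ, ∀ b ∈ ρ, ∀ c ∈ ρ, a ≠ b → a ≠ c → b ≠ c →
      ((∃ x : G, orderOf x = a * b) ∨ (∃ x : G, orderOf x = a * c) ∨
        (∃ x : G, orderOf x = b * c)) → False := by
    intro a ha b hb c hc' hab hac hbc h
    rcases h with h | h | h
    · exact hnon a ha b hb hab h
    · exact hnon a ha c hc' hac h
    · exact hnon b hb c hc' hbc h
  constructor
  · intro r hr s hs hrK hsK
    by_contra hrs
    obtain ⟨t, ht, htr, hts⟩ := hthird r s
    have htG := (hprime t ht).2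
    have hft : Fact t.Prime := ⟨(hprime t ht).1⟩
    obtain ⟨x, hx⟩ := exists_prime_orderOf_dvd_card' t htG
    have hS := isSolvable_sup_zpowers K hK x
    have hrS : r ∣ Nat.card (K ⊔ Subgroup.zpowers x : Subgroup G) :=
      hrK.trans (Subgroup.card_dvd_of_le le_sup_left)
    have hsS : s ∣ Nat.card (K ⊔ Subgroup.zpowers x : Subgroup G) :=
      hsK.trans (Subgroup.card_dvd_of_le le_sup_left)
    have htS : t ∣ Nat.card (K ⊔ Subgroup.zpowers x : Subgroup G) := by
      have h1 : Nat.card (Subgroup.zpowers x) = t := by rw [Nat.card_zpowers, hx]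
      rw [← h1]
      exact Subgroup.card_dvd_of_le le_sup_right
    haveI := hS
    have key := exists_orderOf_of_solvable (K ⊔ Subgroup.zpowers x : Subgroup G) r s t
      (hprime r hr).1 (hprime s hs).1 (hprime t ht).1 hrs (Ne.symm htr) (Ne.symm hts) hrS hsS htS
    apply hfalse r hr s hs t ht hrs (Ne.symm htr) (Ne.symm hts)
    rcases key with ⟨y, hy⟩ | ⟨y, hy⟩ | ⟨y, hy⟩
    · left; exact ⟨y, by rw [Subgroup.orderOf_coe]; exact hy⟩
    · right; left; exact ⟨y, by rw [Subgroup.orderOf_coe]; exact hy⟩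
    · right; right; exact ⟨y, by rw [Subgroup.orderOf_coe]; exact hy⟩
  · intro hsolv
    obtain ⟨a, b, c, ha, hb, hc', hab, hac, hbc⟩ := Finset.two_lt_card_iff.mp hρ
    haveI := hsolv
    exact hfalse a ha b hb c hc' hab hac hbc
      (exists_orderOf_of_solvable G a b c (hprime a ha).1 (hprime b hb).1 (hprime c hc').1
        hab hac hbc (hprime a ha).2 (hprime b hb).2 (hprime c hc').2)

end Cfsg.Agent.S3633
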