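import Cfsg.Statements.S3634
import Cfsg.Agent.Lib.Helper19.Frob

set_option autoImplicit false
open Cfsg

namespace Cfsg.Agent.S3634

open Cfsg.Agent.Lib.Helper19

/-- The elements of order dividing `p` in the centre of `P`. -/
def omegaCenter {G : Type*} [Group G] (P : Subgroup G) (p : ℕ) : Subgroup G where
  carrier := {x | x ∈ P ∧ (∀ y ∈ P, x * y = y * x) ∧ x ^ p = 1}
  one_mem' := ⟨P.one_mem, fun y _ => by simp, one_pow _⟩
  mul_mem' := by
    rintro a b ⟨ha, hac, hap⟩ ⟨hb, hbc, hbp⟩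
    refine ⟨P.mul_mem ha hb, fun y hy => ?_, ?_⟩
    · rw [mul_assoc, hbc y hy, ← mul_assoc, hac y hy, mul_assoc]
    · have h1 : Commute a b := hac b hb
      rw [h1.mul_pow, hap, hbp, one_mul]
  inv_mem' := by
    rintro a ⟨ha, hac, hap⟩
    refine ⟨P.inv_mem ha, fun y hy => ?_, by rw [inv_pow, hap, inv_one]⟩
    have h1 := hac y hy
    calc a⁻¹ * y = a⁻¹ * (y * a) * a⁻¹ := by group
      _ = a⁻¹ * (a * y) * a⁻¹ := by rw [h1]
      _ = y * a⁻¹ := by group

theorem mem_omegaCenter {G : Type*} [Group G] (P : Subgroup G) (p : ℕ) (x : G) :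
    x ∈ omegaCenter P p ↔ x ∈ P ∧ (∀ y ∈ P, x * y = y * x) ∧ x ^ p = 1 := Iff.rfl

theorem omegaCenter_ne_bot {G : Type*} [Group G] [Finite G] (P : Subgroup G) (p : ℕ)
    (hp : p.Prime) (hP : P ≠ ⊥) (hPp : IsPGroup p P) : omegaCenter P p ≠ ⊥ := by
  have hfp : Fact p.Prime := ⟨hp⟩
  have hnt : Nontrivial P := (Subgroup.nontrivial_iff_ne_bot P).mpr hP
  have hcn : Nontrivial (Subgroup.center P) := hPp.center_nontrivial
  obtain ⟨c, hc1⟩ := exists_ne (1 : Subgroup.center P)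
  have hc1' : (((c : P) : G)) ≠ 1 := by
    intro h
    apply hc1
    apply Subtype.ext
    apply Subtype.ext
    exact h
  obtain ⟨k, hk⟩ := hPp (c : P)
  have hk' : ((c : P) : G) ^ (p ^ k) = 1 := by
    have h1 := congrArg (fun t : P => (t : G)) hk
    simpa using h1
  obtain ⟨m, hm⟩ := exists_pow_orderOf_eq_prime p hp ((c : P) : G) hc1' k hk'
  intro hbot
  have hmem : ((c : P) : G) ^ m ∈ omegaCenter P p := by
    refine ⟨P.pow_mem (c : P).2 m, ?_, ?_⟩
    · intro y hy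
      have h1 : (⟨y, hy⟩ : P) * (c : P) = (c : P) * ⟨y, hy⟩ := Subgroup.mem_center_iff.mp c.2 ⟨y, hy⟩
      have h2 : y * ((c : P) : G) = ((c : P) : G) * y := congrArg (fun t : P => (t : G)) h1
      have h3 : Commute ((c : P) : G) y := h2.symm
      exact (h3.pow_left m)
    · rw [← hm]
      exact pow_orderOf_eq_one _
  rw [hbot, Subgroup.mem_bot] at hmem
  rw [hmem, orderOf_one] at hm
  exact hp.one_lt.ne hm

theorem normalizer_le_normalizer_omegaCenter {G : Type*} [Group G] (P : Subgroup G) (p : ℕ) :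
    Subgroup.normalizer (P : Set G) ≤ Subgroup.normalizer (omegaCenter P p : Set G) := by
  have key : ∀ g ∈ Subgroup.normalizer (P : Set G), ∀ x ∈ omegaCenter P p,
      g * x * g⁻¹ ∈ omegaCenter P p := by
    intro g hg x hx
    obtain ⟨hxP, hxc, hxp⟩ := hx
    refine ⟨(Subgroup.mem_normalizer_iff.mp hg x).mp hxP, ?_, ?_⟩
    · intro y hy
      have hy' : g⁻¹ * y * g ∈ P := by
        rw [Subgroup.mem_normalizer_iff.mp hg (g⁻¹ * y * g)]
        have e : g * (g⁻¹ * y * g) * g⁻¹ = y := by group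
        rw [e]
        exact hy
      have h1 := hxc _ hy'
      calc g * x * g⁻¹ * y = g * (x * (g⁻¹ * y * g)) * g⁻¹ := by group
        _ = g * ((g⁻¹ * y * g) * x) * g⁻¹ := by rw [h1]
        _ = y * (g * x * g⁻¹) := by group
    · rw [conj_pow, hxp]
      group
  intro g hg
  rw [Subgroup.mem_normalizer_iff]
  intro x
  constructor
  · exact key g hg x
  · intro hx
    have h1 := key g⁻¹ (Subgroup.inv_mem _ hg) _ hx
    have e : g⁻¹ * (g * x * g⁻¹) * g⁻¹⁻¹ = x := by group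
    rwa [e] at h1

/-- Three primes dividing three consecutive layers of a normal series are not pairwise non-adjacent. -/
theorem result {G : Type*} [Group G] [Finite G] (K M : Subgroup G) [K.Normal] [M.Normal] (hKM : K ≤ M)
    (p q r : ℕ) (hp : p.Prime) (hq : q.Prime) (hr : r.Prime) (hpq : p ≠ q) (hpr : p ≠ r) (hqr : q ≠ r)
    (hpK : p ∣ Nat.card ↥K) (hqM : q ∣ Nat.card ↥M / Nat.card ↥K) (hrG : r ∣ Nat.card G / Nat.card ↥M) :
    (∃ x : G, orderOf x = p * q) ∨ (∃ x : G, orderOf x = p * r) ∨ (∃ x : G, orderOf x = q * r) := by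
  classical
  have hfp : Fact p.Prime := ⟨hp⟩
  have hfq : Fact q.Prime := ⟨hq⟩
  have hfr : Fact r.Prime := ⟨hr⟩
  obtain ⟨P₀⟩ : Nonempty (Sylow p K) := inferInstance
  have hP_ne : (P₀ : Subgroup K).map K.subtype ≠ ⊥ := by
    have h1 : (P₀ : Subgroup K) ≠ ⊥ := P₀.ne_bot_of_dvd_card hpK
    intro h
    exact h1 ((Subgroup.map_eq_bot_iff_of_injective _ K.subtype_injective).mp h)
  have hP_p : IsPGroup p ((P₀ : Subgroup K).map K.subtype) := P₀.isPGroup'.map K.subtype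
  have hFrat : Subgroup.normalizer (((P₀ : Subgroup K).map K.subtype : Subgroup G) : Set G) ⊔ K = ⊤ :=
    Sylow.normalizer_sup_eq_top P₀
  generalize (P₀ : Subgroup K).map K.subtype = P at hP_ne hP_p hFrat
  have hN₀ : omegaCenter P p ≠ ⊥ := omegaCenter_ne_bot P p hp hP_ne hP_p
  have hG₁N := normalizer_le_normalizer_omegaCenter P p
  generalize hG₁ : Subgroup.normalizer (P : Set G) = G₁ at hFrat hG₁N
  have hsupM : (M ⊓ G₁) ⊔ K = M := by
    apply le_antisymm (sup_le inf_le_left hKM)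
    intro m hm
    have h1 : m ∈ G₁ ⊔ K := by rw [hFrat]; exact Subgroup.mem_top m
    have h2 : m ∈ ((G₁ ⊔ K : Subgroup G) : Set G) := h1
    rw [Subgroup.mul_normal] at h2
    obtain ⟨g, hg, k, hk, rfl⟩ := Set.mem_mul.mp h2
    have hgM : g ∈ M := by
      have e : g = g * k * k⁻¹ := by group
      rw [e]
      exact M.mul_mem hm (M.inv_mem (hKM hk))
    exact Subgroup.mul_mem_sup (Subgroup.mem_inf.mpr ⟨hgM, hg⟩) hk
  have hrelK : K.relIndex M = Nat.card M / Nat.card K := by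
    have h1 := Subgroup.card_mul_index (K.subgroupOf M)
    have h2 : Nat.card (K.subgroupOf M) = Nat.card K :=
      Nat.card_congr (Subgroup.subgroupOfEquivOfLe hKM).toEquiv
    rw [h2] at h1
    have hKpos : 0 < Nat.card K := Nat.card_pos
    exact (Nat.div_eq_of_eq_mul_right hKpos h1.symm).symm
  have hqM₁ : q ∣ Nat.card (M ⊓ G₁ : Subgroup G) := by
    have h1 : K.relIndex M = K.relIndex (M ⊓ G₁) := by
      conv_lhs => rw [← hsupM]
      exact Subgroup.relIndex_sup_right (H := M ⊓ G₁) (K := K)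
    rw [← hrelK, h1] at hqM
    exact hqM.trans (Subgroup.relIndex_dvd_card _ _)
  have hcardM' : Nat.card (M.subgroupOf G₁) = Nat.card (M ⊓ G₁ : Subgroup G) := by
    have h1 : M.subgroupOf G₁ = (M ⊓ G₁).subgroupOf G₁ := (Subgroup.inf_subgroupOf_right M G₁).symm
    rw [h1]
    exact Nat.card_congr (Subgroup.subgroupOfEquivOfLe inf_le_right).toEquiv
  obtain ⟨Q₀⟩ : Nonempty (Sylow q (M.subgroupOf G₁)) := inferInstance
  have hQ₀ne : (Q₀ : Subgroup (M.subgroupOf G₁)) ≠ ⊥ :=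
    Q₀.ne_bot_of_dvd_card (by rw [hcardM']; exact hqM₁)
  have hFrat2 : Subgroup.normalizer
      (((Q₀ : Subgroup (M.subgroupOf G₁)).map (M.subgroupOf G₁).subtype : Subgroup G₁) : Set G₁)
        ⊔ M.subgroupOf G₁ = ⊤ := Sylow.normalizer_sup_eq_top Q₀
  have hsupGM : G₁ ⊔ M = ⊤ := by
    rw [eq_top_iff, ← hFrat]
    exact sup_le_sup_left hKM _
  have hidxM' : (M.subgroupOf G₁).index = Nat.card G / Nat.card M := by
    have h1 : (M.subgroupOf G₁).index = M.relIndex G₁ := rfl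
    have h2 : M.relIndex G₁ = M.index := by
      rw [← Subgroup.relIndex_sup_right (H := G₁) (K := M), hsupGM, Subgroup.relIndex_top_right]
    have h3 := Subgroup.card_mul_index M
    rw [h1, h2]
    exact (Nat.div_eq_of_eq_mul_right Nat.card_pos h3.symm).symm
  have hrNA : r ∣ Nat.card (Subgroup.normalizer
      (((Q₀ : Subgroup (M.subgroupOf G₁)).map (M.subgroupOf G₁).subtype : Subgroup G₁) : Set G₁)) := by
    have h1 : (M.subgroupOf G₁).index = (M.subgroupOf G₁).relIndex (Subgroup.normalizer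
      (((Q₀ : Subgroup (M.subgroupOf G₁)).map (M.subgroupOf G₁).subtype : Subgroup G₁) : Set G₁)) := by
      rw [← Subgroup.relIndex_top_right, ← hFrat2, Subgroup.relIndex_sup_right]
    rw [← hidxM', h1] at hrG
    exact hrG.trans (Subgroup.relIndex_dvd_card _ _)
  obtain ⟨zA, hzA⟩ := exists_prime_orderOf_dvd_card' r hrNA
  have hz : orderOf (((zA : G₁) : G)) = r := by
    rw [Subgroup.orderOf_coe, Subgroup.orderOf_coe]
    exact hzA
  have hQne : ((Q₀ : Subgroup (M.subgroupOf G₁)).map (M.subgroupOf G₁).subtype).map G₁.subtype ≠ ⊥ := by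
    intro h
    have h1 := (Subgroup.map_eq_bot_iff_of_injective _ G₁.subtype_injective).mp h
    have h2 := (Subgroup.map_eq_bot_iff_of_injective _ (M.subgroupOf G₁).subtype_injective).mp h1
    exact hQ₀ne h2
  have hQq : ∀ x ∈ ((Q₀ : Subgroup (M.subgroupOf G₁)).map (M.subgroupOf G₁).subtype).map G₁.subtype,
      ∃ k : ℕ, x ^ (q ^ k) = 1 := by
    rintro x ⟨a, ⟨b, hb, rfl⟩, rfl⟩
    obtain ⟨k, hk⟩ := Q₀.isPGroup' ⟨b, hb⟩
    refine ⟨k, ?_⟩
    have h1 := congrArg (fun t : (Q₀ : Subgroup (M.subgroupOf G₁)) => (((t : M.subgroupOf G₁) : G₁) : G)) hk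
    simpa using h1
  have hQG₁ : ((Q₀ : Subgroup (M.subgroupOf G₁)).map (M.subgroupOf G₁).subtype).map G₁.subtype ≤ G₁ :=
    Subgroup.map_subtype_le _
  have hzG₁ : ((zA : G₁) : G) ∈ G₁ := (zA : G₁).2
  have hzQ : ∀ f ∈ ((Q₀ : Subgroup (M.subgroupOf G₁)).map (M.subgroupOf G₁).subtype).map G₁.subtype,
      ((zA : G₁) : G) * f * ((zA : G₁) : G)⁻¹ ∈
        ((Q₀ : Subgroup (M.subgroupOf G₁)).map (M.subgroupOf G₁).subtype).map G₁.subtype := by
    rintro f ⟨a, ha, rfl⟩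
    have h1 : (zA : G₁) * a * (zA : G₁)⁻¹ ∈
        (Q₀ : Subgroup (M.subgroupOf G₁)).map (M.subgroupOf G₁).subtype :=
      (Subgroup.mem_normalizer_iff.mp zA.2 a).mp ha
    exact ⟨_, h1, by simp⟩
  exact exists_orderOf_of_config p q r hp hq hr hpq hpr hqr (omegaCenter P p) hN₀
    (fun x hx y hy => hx.2.1 y hy.1) (fun x hx => hx.2.2) _ hQne hQq (hQG₁.trans hG₁N)
    _ hz (hG₁N hzG₁) hzQ

end Cfsg.Agent.S3634
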