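import Cfsg.Statements.S3669
import Cfsg.Agent.Lib.Helper19.A5
import Cfsg.Agent.Lib.Helper1.CharMore
import Cfsg.Agent.Lib.Helper1.CharReal
import Cfsg.Agent.Lib.Helper1.CharReg
import Cfsg.Agent.Lib.Helper1.CharComplete
import Cfsg.Agent.Lib.Lead.Hall
import Cfsg.Agent.Lib.Helper2.Simple60
import Cfsg.Agent.S3378

set_option autoImplicit false
open Cfsg

namespace Cfsg.Agent.S3669

open Cfsg.Agent.Lib.Helper19 Cfsg.Agent.Lib.Helper1

/-- every even permutation of five points is conjugate, under an even permutation, to one of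
five representatives -/
theorem a5_conj_reps : ∀ σ : Equiv.Perm (Fin 5), Equiv.Perm.sign σ = 1 →
    ∃ τ : Equiv.Perm (Fin 5),
      (τ * σ * τ⁻¹ = 1 ∨ τ * σ * τ⁻¹ = (a5two : Equiv.Perm (Fin 5)) ∨
        τ * σ * τ⁻¹ = (a5three : Equiv.Perm (Fin 5)) ∨
        τ * σ * τ⁻¹ = (a5five : Equiv.Perm (Fin 5)) ∨
        τ * σ * τ⁻¹ = (a5five : Equiv.Perm (Fin 5)) * (a5five : Equiv.Perm (Fin 5))) ∧
      Equiv.Perm.sign τ = 1 := by
  decide +kernel

theorem a5_card_conjClasses_le : Nat.card (ConjClasses (alternatingGroup (Fin 5))) ≤ 5 := by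
  classical
  let r : Fin 5 → alternatingGroup (Fin 5) := ![1, a5two, a5three, a5five, a5five * a5five]
  have hsurj : Function.Surjective (fun i : Fin 5 => ConjClasses.mk (r i)) := by
    intro c
    obtain ⟨σ, rfl⟩ := ConjClasses.mk_surjective c
    obtain ⟨τ, hτ, hs⟩ := a5_conj_reps σ.1 (Equiv.Perm.mem_alternatingGroup.mp σ.2)
    let τ' : alternatingGroup (Fin 5) := ⟨τ, Equiv.Perm.mem_alternatingGroup.mpr hs⟩
    have key : ∀ i : Fin 5, τ * σ.1 * τ⁻¹ = (r i : Equiv.Perm (Fin 5)) →
        ConjClasses.mk (r i) = ConjClasses.mk σ := by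
      intro i hi
      rw [ConjClasses.mk_eq_mk_iff_isConj, isConj_comm, isConj_iff]
      exact ⟨τ', Subtype.ext hi⟩
    rcases hτ with h | h | h | h | h
    · exact ⟨0, key 0 h⟩
    · exact ⟨1, key 1 h⟩
    · exact ⟨2, key 2 h⟩
    · exact ⟨3, key 3 h⟩
    · exact ⟨4, key 4 h⟩
  have := Nat.card_le_card_of_surjective _ hsurj
  simpa using this

theorem a5_card : Nat.card (alternatingGroup (Fin 5)) = 60 := by
  rw [Nat.card_eq_fintype_card]
  have h := two_mul_card_alternatingGroup (α := Fin 5)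
  rw [Fintype.card_perm, Fintype.card_fin] at h
  have h5 : Nat.factorial 5 = 120 := by decide
  omega

/-- the alternating group of degree five has an irreducible character of degree divisible by five -/
theorem a5_five_dvd : ∃ χ : Cfsg.IrrCharacter (alternatingGroup (Fin 5)),
    5 ∣ Cfsg.charDegree (χ : alternatingGroup (Fin 5) → ℂ) := by
  classical
  by_contra hno
  push Not at hno
  haveI : Fintype (Cfsg.IrrCharacter (alternatingGroup (Fin 5))) := irrFintype
  have hk : Fintype.card (Cfsg.IrrCharacter (alternatingGroup (Fin 5))) ≤ 5 := by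
    rw [← Nat.card_eq_fintype_card, card_irr]
    exact a5_card_conjClasses_le
  have hdeg : ∀ χ : Cfsg.IrrCharacter (alternatingGroup (Fin 5)), ∃ n : ℕ,
      (χ : alternatingGroup (Fin 5) → ℂ) 1 = (n : ℂ) ∧
      n ∣ Nat.card (alternatingGroup (Fin 5)) ∧ 0 < n :=
    fun χ => IsIrrCharacter.degree_dvd_card χ.2
  choose n hn1 hn2 hn3 using hdeg
  have hcd : ∀ χ : Cfsg.IrrCharacter (alternatingGroup (Fin 5)),
      Cfsg.charDegree (χ : alternatingGroup (Fin 5) → ℂ) = n χ := by
    intro χ
    unfold Cfsg.charDegree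
    rw [hn1]
    simp
  have hsum : ∑ χ : Cfsg.IrrCharacter (alternatingGroup (Fin 5)), (n χ) ^ 2 = 60 := by
    have h := sum_sq_degrees (G := alternatingGroup (Fin 5))
    rw [a5_card] at h
    have h2 : ((∑ χ : Cfsg.IrrCharacter (alternatingGroup (Fin 5)), (n χ) ^ 2 : ℕ) : ℂ)
        = ((60 : ℕ) : ℂ) := by
      rw [← h]
      push_cast
      exact Finset.sum_congr rfl (fun χ _ => by rw [hn1])
    exact_mod_cast h2
  have hval : ∀ χ, n χ < 7 ∧ n χ ≠ 0 ∧ n χ ≠ 5 := by
    intro χ
    have h5 : ¬ 5 ∣ n χ := by rw [← hcd]; exact hno χ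
    have hd : n χ ∣ 60 := by rw [← a5_card]; exact hn2 χ
    have hle : n χ ^ 2 ≤ 60 := by
      rw [← hsum]
      exact Finset.single_le_sum (f := fun χ => n χ ^ 2) (fun _ _ => Nat.zero_le _)
        (Finset.mem_univ χ)
    have hpos := hn3 χ
    have hlt : n χ < 8 := by nlinarith
    obtain ⟨k, hk⟩ : ∃ k, k = n χ := ⟨_, rfl⟩
    rw [← hk] at h5 hd hle hpos hlt ⊢
    interval_cases k
    · omega
    · omega
    · omega
    · omega
    · exact absurd (dvd_refl 5) h5
    · omega
    · exact absurd hd (by decide)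
  let χ₀ : Cfsg.IrrCharacter (alternatingGroup (Fin 5)) := ⟨fun _ => 1, isIrrCharacter_one⟩
  have h0 : n χ₀ = 1 := by
    have h := hn1 χ₀
    have h' : (1 : ℂ) = (n χ₀ : ℂ) := h
    exact_mod_cast h'.symm
  obtain ⟨c, hc⟩ : ∃ c : ℕ → ℕ, c = fun v =>
      (Finset.univ.filter (fun χ : Cfsg.IrrCharacter (alternatingGroup (Fin 5)) => n χ = v)).card :=
    ⟨_, rfl⟩
  have hfib : ∀ g : ℕ → ℕ, ∑ χ : Cfsg.IrrCharacter (alternatingGroup (Fin 5)), g (n χ)
      = ∑ v ∈ Finset.range 7, c v * g v := by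
    intro g
    rw [← Finset.sum_fiberwise_of_maps_to (g := n) (t := Finset.range 7)
      (fun χ _ => Finset.mem_range.mpr (hval χ).1)]
    apply Finset.sum_congr rfl
    intro v _
    rw [hc]
    have : ∀ χ ∈ Finset.univ.filter
        (fun χ : Cfsg.IrrCharacter (alternatingGroup (Fin 5)) => n χ = v), g (n χ) = g v := by
      intro χ hχ
      rw [(Finset.mem_filter.mp hχ).2]
    rw [Finset.sum_congr rfl this, Finset.sum_const, smul_eq_mul]
  have e1 := hfib (fun v => v ^ 2)
  have e2 := hfib (fun _ => 1)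
  rw [hsum] at e1
  simp only [Finset.sum_range_succ, Finset.sum_range_zero] at e1 e2
  have e3 : Fintype.card (Cfsg.IrrCharacter (alternatingGroup (Fin 5))) =
      ∑ χ : Cfsg.IrrCharacter (alternatingGroup (Fin 5)), 1 := by simp
  rw [← e3] at e2
  have hc0 : c 0 = 0 := by
    rw [hc]
    apply Finset.card_eq_zero.mpr
    apply Finset.filter_eq_empty_iff.mpr
    intro χ _
    exact (hval χ).2.1
  have hc5 : c 5 = 0 := by
    rw [hc]
    apply Finset.card_eq_zero.mpr
    apply Finset.filter_eq_empty_iff.mpr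
    intro χ _
    exact (hval χ).2.2
  have hc1 : 1 ≤ c 1 := by
    rw [hc]
    apply Finset.card_pos.mpr
    exact ⟨χ₀, Finset.mem_filter.mpr ⟨Finset.mem_univ _, h0⟩⟩
  norm_num at e1 e2
  rw [hc0, hc5] at e2
  rw [hc5] at e1
  obtain ⟨c1, h1⟩ : ∃ k, k = c 1 := ⟨_, rfl⟩
  obtain ⟨c2, h2⟩ : ∃ k, k = c 2 := ⟨_, rfl⟩
  obtain ⟨c3, h3⟩ : ∃ k, k = c 3 := ⟨_, rfl⟩
  obtain ⟨c4, h4⟩ : ∃ k, k = c 4 := ⟨_, rfl⟩
  obtain ⟨c6, h6⟩ : ∃ k, k = c 6 := ⟨_, rfl⟩
  rw [← h1, ← h2, ← h3, ← h4, ← h6] at e1 e2
  rw [← h1] at hc1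
  have b6 : c6 ≤ 1 := by omega
  have b4 : c4 ≤ 3 := by omega
  have b3 : c3 ≤ 5 := by omega
  interval_cases c6 <;> interval_cases c4 <;> interval_cases c3 <;> omega

/-- a group of order sixty which is not the alternating group has no irreducible character of
degree divisible by five -/
theorem no_five_of_not_iso {G : Type*} [Group G] [Finite G] (hcard : Nat.card G = 60)
    (hne : ¬ Nonempty (G ≃* alternatingGroup (Fin 5))) (χ : Cfsg.IrrCharacter G) :
    ¬ 5 ∣ Cfsg.charDegree (χ : G → ℂ) := by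
  classical
  haveI : Fact (Nat.Prime 5) := ⟨by norm_num⟩
  have hnt : Nontrivial G := by
    rw [← Finite.one_lt_card_iff_nontrivial, hcard]
    norm_num
  -- G is not simple
  have hns : ¬ IsSimpleGroup G := fun hs =>
    hne (Cfsg.Agent.Lib.Helper2.Simple60.simple_order_sixty hcard)
  obtain ⟨N, hNn, hNbot, hNtop⟩ : ∃ N : Subgroup G, N.Normal ∧ N ≠ ⊥ ∧ N ≠ ⊤ := by
    by_contra hno
    push Not at hno
    apply hns
    exact
      { exists_pair_ne := hnt.exists_pair_ne
        eq_bot_or_eq_top_of_normal := fun H hH => by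
          by_cases hb : H = ⊥
          · exact Or.inl hb
          · exact Or.inr (hno H hH hb) }
  haveI := hNn
  have hNd : Nat.card N ∣ 60 := by rw [← hcard]; exact Subgroup.card_subgroup_dvd_card N
  have hNlt : Nat.card N < 60 := by
    rcases Nat.lt_or_ge (Nat.card N) 60 with h | h
    · exact h
    · exfalso
      have h60 : Nat.card N = 60 := le_antisymm (Nat.le_of_dvd (by norm_num) hNd) h
      exact hNtop (Subgroup.eq_top_of_card_eq N (by rw [h60, hcard]))
  have hQd : Nat.card (G ⧸ N) ∣ 60 := by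
    rw [← hcard, ← Subgroup.index_eq_card]
    exact Subgroup.index_dvd_card N
  have hQlt : Nat.card (G ⧸ N) < 60 := by
    rcases Nat.lt_or_ge (Nat.card (G ⧸ N)) 60 with h | h
    · exact h
    · exfalso
      have h60 : Nat.card (G ⧸ N) = 60 := le_antisymm (Nat.le_of_dvd (by norm_num) hQd) h
      have hmul := Subgroup.card_mul_index N
      rw [Subgroup.index_eq_card, h60, hcard] at hmul
      have h1 : Nat.card N = 1 := by omega
      exact hNbot (Subgroup.card_eq_one.mp h1)
  haveI hsolv : Group.IsSolvable G :=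
    Cfsg.Agent.S3378.sol_ext N (Cfsg.Agent.S3378.solvable_small hNd hNlt)
      (Cfsg.Agent.S3378.solvable_small hQd hQlt)
  -- a Hall subgroup of order 15
  obtain ⟨H, hH⟩ := Cfsg.Agent.Lib.Lead.Hall.hall_exists (G := G) 15 4 (hcard.trans (by norm_num))
    (by decide)
  -- its Sylow 5-subgroup is normal in it
  obtain ⟨Q⟩ : Nonempty (Sylow 5 H) := inferInstance
  have hQ5 : Nat.card (Q : Subgroup H) = 5 := by
    have := Cfsg.Agent.S3378.sylow_card 5 1 3 (hH.trans (by norm_num)) (by norm_num) Q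
    simpa using this
  have hQn : Subgroup.normalizer ((Q : Subgroup H) : Set H) = ⊤ := by
    have h1 := card_sylow_modEq_one 5 H
    have h2 := Sylow.card_dvd_index Q
    have h3 : (Q : Subgroup H).index = 3 := by
      have := Subgroup.card_mul_index (Q : Subgroup H)
      rw [hQ5, hH] at this
      omega
    rw [h3] at h2
    have h4 : Nat.card (Sylow 5 H) = 1 := by
      have hle : Nat.card (Sylow 5 H) ≤ 3 := Nat.le_of_dvd (by norm_num) h2
      have hmod : Nat.card (Sylow 5 H) % 5 = 1 := h1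
      obtain ⟨k, hk⟩ : ∃ k, k = Nat.card (Sylow 5 H) := ⟨_, rfl⟩
      rw [← hk] at hle hmod h2 ⊢
      interval_cases k <;> omega
    rw [Sylow.card_eq_index_normalizer Q] at h4
    exact Subgroup.index_eq_one.mp h4
  -- the image P in G, of order 5, normalized by H
  obtain ⟨P, hP⟩ : ∃ P : Subgroup G, P = (Q : Subgroup H).map H.subtype := ⟨_, rfl⟩
  have hP5 : Nat.card P = 5 := by
    rw [hP, Subgroup.card_map_of_injective H.subtype_injective]
    exact hQ5
  have hHP : H ≤ Subgroup.normalizer (P : Set G) := by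
    have h1 := Subgroup.le_normalizer_map (H := (Q : Subgroup H)) H.subtype
    rw [hQn, ← hP] at h1
    intro x hx
    exact h1 ⟨⟨x, hx⟩, Subgroup.mem_top _, rfl⟩
  have hPp : IsPGroup 5 P := IsPGroup.of_card (n := 1) (by rw [hP5]; norm_num)
  obtain ⟨S, hS⟩ := hPp.exists_le_sylow
  have hS5 : Nat.card (S : Subgroup G) = 5 := by
    have := Cfsg.Agent.S3378.sylow_card 5 1 12 (hcard.trans (by norm_num)) (by norm_num) S
    simpa using this
  have hPS : P = (S : Subgroup G) := Subgroup.eq_of_le_of_card_ge hS (by rw [hS5, hP5])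
  have hSn : (S : Subgroup G).Normal := by
    have h1 := card_sylow_modEq_one 5 G
    have h2 : (Subgroup.normalizer ((S : Subgroup G) : Set G)).index ∣ H.index := by
      apply Subgroup.index_dvd_of_le
      rw [← hPS]
      exact hHP
    have h3 : H.index = 4 := by
      have := Subgroup.card_mul_index H
      rw [hH, hcard] at this
      omega
    rw [h3] at h2
    have h2' : Nat.card (Sylow 5 G) ∣ 4 := by
      rw [Sylow.card_eq_index_normalizer S]
      exact h2
    have h4 : Nat.card (Sylow 5 G) = 1 := by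
      have hle : Nat.card (Sylow 5 G) ≤ 4 := Nat.le_of_dvd (by norm_num) h2'
      have hmod : Nat.card (Sylow 5 G) % 5 = 1 := h1
      obtain ⟨k, hk⟩ : ∃ k, k = Nat.card (Sylow 5 G) := ⟨_, rfl⟩
      rw [← hk] at hle hmod h2' ⊢
      interval_cases k <;> omega
    rw [Sylow.card_eq_index_normalizer S] at h4
    exact Subgroup.normalizer_eq_top_iff.mp (Subgroup.index_eq_one.mp h4)
  have hSidx : (S : Subgroup G).index = 12 := by
    have := Subgroup.card_mul_index (S : Subgroup G)
    rw [hS5, hcard] at this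
    omega
  have hab : ∀ a ∈ (S : Subgroup G), ∀ b ∈ (S : Subgroup G), a * b = b * a := by
    intro a ha b hb
    haveI : IsCyclic (S : Subgroup G) := isCyclic_of_prime_card hS5
    have hc := IsCyclic.isMulCommutative (α := (S : Subgroup G))
    exact congrArg Subtype.val (hc.is_comm.comm ⟨a, ha⟩ ⟨b, hb⟩)
  -- Ito
  haveI := Fintype.ofFinite G
  obtain ⟨n, ρ, hρ, hχ⟩ := χ.2
  haveI := hρ
  haveI := hSn
  have hito := ito ρ (S : Subgroup G) hab
  rw [hSidx] at hito
  have hdeg : Cfsg.charDegree (χ : G → ℂ) = Module.finrank ℂ (Fin n → ℂ) := by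
    unfold Cfsg.charDegree
    rw [← hχ, Representation.char_one ρ]
    simp
  rw [hdeg]
  intro h5
  have : 5 ∣ 12 := dvd_trans h5 hito
  omega

/-- The character degree graph of a finite group has as vertices the primes dividing some irreducible complex character degree, two distinct primes being joined when their product divides some irreducible character degree; two groups have the same character degree graph when they have the same vertices and the same joined pairs. A finite group of order 60 with the same character degree graph as the alternating group A₅ (whose character degrees are 1, 3, 4, 5, so the graph has vertices 2, 3, 5 and no edges) is isomorphic to A₅. -/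
theorem result {G : Type*} [Group G] [Finite G] (hcard : Nat.card G = 60)
    (hΓ : Cfsg.degreePrimes G = Cfsg.degreePrimes (alternatingGroup (Fin 5)) ∧ Cfsg.degreeGraph G = Cfsg.degreeGraph (alternatingGroup (Fin 5))) : Nonempty (G ≃* alternatingGroup (Fin 5)) := by
  by_contra hne
  obtain ⟨χ, hχ⟩ := a5_five_dvd
  have h5 : (5 : ℕ) ∈ Cfsg.degreePrimes (alternatingGroup (Fin 5)) :=
    ⟨by norm_num, _, ⟨χ, rfl⟩, hχ⟩
  rw [← hΓ.1] at h5
  obtain ⟨_, d, ⟨ψ, rfl⟩, hd⟩ := h5
  exact no_five_of_not_iso hcard hne ψ hd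

end Cfsg.Agent.S3669
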