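import Cfsg.Statements.S5299
import Mathlib

set_option autoImplicit false
open Cfsg

namespace Cfsg.Agent.S5299

universe u

theorem involves_of_surj {S Q : Type*} [Group S] [Group Q] (K : Subgroup S) (h : K →* Q)
    (hs : Function.Surjective h) : Cfsg.Involves Q S := by
  have heq : ((h.ker).map K.subtype).subgroupOf K = h.ker :=
    Subgroup.comap_map_eq_self_of_injective K.subtype_injective _
  have hn : (((h.ker).map K.subtype).subgroupOf K).Normal := by rw [heq]; infer_instance
  refine ⟨K, (h.ker).map K.subtype, hn, ⟨?_⟩⟩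
  exact (QuotientGroup.quotientMulEquivOfEq heq).trans (QuotientGroup.quotientKerEquivOfSurjective h hs)

theorem involves_of_inj_surj {X S Q : Type*} [Group X] [Group S] [Group Q] (j : X →* S)
    (hj : Function.Injective j) (g : X →* Q) (hg : Function.Surjective g) : Cfsg.Involves Q S := by
  apply involves_of_surj j.range (g.comp (MonoidHom.ofInjective hj).symm.toMonoidHom)
  exact hg.comp (MonoidHom.ofInjective hj).symm.surjective

theorem result {Ω : Type u} [Group Ω] {S : Subgroup Ω} [Finite S] (p : ℕ) [Fact p.Prime] (hS : IsPGroup p S)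
    (F : Cfsg.FusionSystem S) (hF : F.IsSaturated p) (H : Type*) [Group H] [Finite H] (Q : Subgroup H) (hQ : IsPGroup p Q)
    (hfree : ¬ Cfsg.Involves (↥Q) (↥S)) : F.IsSectionFree p H := by
  intro Q' _ _ N _ L _ ι hmodel hInv
  obtain ⟨hLfin, ⟨hιinj, -⟩, ⟨T, hT⟩, -⟩ := hmodel
  apply hfree
  obtain ⟨K, R, hRn, ⟨e⟩⟩ := hInv
  let f : K →* H := e.toMonoidHom.comp (QuotientGroup.mk' (R.subgroupOf K))
  have hf : Function.Surjective f := e.surjective.comp (QuotientGroup.mk'_surjective _)
  let f₁ : Q.comap f →* Q := f.subgroupComap Q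
  have hf₁ : Function.Surjective f₁ := f.subgroupComap_surjective_of_surjective Q hf
  let P₁ : Sylow p (Q.comap f) := Sylow.nonempty.some
  let P₂ : Sylow p Q := P₁.mapSurjective hf₁
  have hP₂ : ((P₁ : Subgroup (Q.comap f)).map f₁) = ⊤ := by
    have h1 : (⊤ : Subgroup Q) = (P₂ : Subgroup Q) := P₂.is_maximal' (hQ.to_subgroup ⊤) le_top
    rw [h1]
    rfl
  let i₀ : (P₁ : Subgroup (Q.comap f)) →* L :=
    K.subtype.comp ((Q.comap f).subtype.comp (P₁ : Subgroup (Q.comap f)).subtype)
  have hi₀ : Function.Injective i₀ := by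
    intro a b hab
    apply Subtype.ext
    apply Subtype.ext
    apply Subtype.ext
    exact hab
  have hX : IsPGroup p i₀.range := by
    have : IsPGroup p (P₁ : Subgroup (Q.comap f)) := P₁.2
    exact IsPGroup.of_surjective this i₀.rangeRestrict i₀.rangeRestrict_surjective
  obtain ⟨P, hP⟩ := hX.exists_le_sylow
  obtain ⟨c, hc⟩ := MulAction.exists_smul_eq L T P
  have hmem : ∀ y : (P₁ : Subgroup (Q.comap f)), c⁻¹ * i₀ y * c ∈ ι.range := by
    intro y
    have h1 : i₀ y ∈ (P : Subgroup L) := hP ⟨y, rfl⟩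
    rw [← hc, Sylow.coe_subgroup_smul, Subgroup.mem_pointwise_smul_iff_inv_smul_mem] at h1
    rw [← hT]
    simpa [MulAut.smul_def, MulAut.conj_apply] using h1
  let j₀ : (P₁ : Subgroup (Q.comap f)) →* L := (MulAut.conj c⁻¹).toMonoidHom.comp i₀
  have hj₀ : ∀ y, j₀ y ∈ ι.range := by
    intro y
    have := hmem y
    simpa [j₀, MulAut.conj_apply] using this
  have hj₀inj : Function.Injective j₀ := (MulAut.conj c⁻¹).injective.comp hi₀
  let j : (P₁ : Subgroup (Q.comap f)) →* S :=
    (Subgroup.inclusion (inf_le_left : Cfsg.FusionSystem.normalizerIn S Q' ≤ S)).comp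
      ((MonoidHom.ofInjective hιinj).symm.toMonoidHom.comp (j₀.codRestrict ι.range hj₀))
  have hj : Function.Injective j := by
    refine (Subgroup.inclusion_injective (inf_le_left : Cfsg.FusionSystem.normalizerIn S Q' ≤ S)).comp ?_
    refine (MonoidHom.ofInjective hιinj).symm.injective.comp ?_
    intro a b hab
    apply hj₀inj
    exact congrArg Subtype.val hab
  let g : (P₁ : Subgroup (Q.comap f)) →* Q := f₁.comp (P₁ : Subgroup (Q.comap f)).subtype
  have hg : Function.Surjective g := by
    intro q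
    have : q ∈ ((P₁ : Subgroup (Q.comap f)).map f₁) := by rw [hP₂]; trivial
    obtain ⟨y, hy, rfl⟩ := this
    exact ⟨⟨y, hy⟩, rfl⟩
  exact involves_of_inj_surj j hj g hg

end Cfsg.Agent.S5299
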