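import Cfsg.Statements.S3755
import Mathlib
import Cfsg.Agent.Lib.Helper9.Hyperplane
import Cfsg.Agent.Lib.Helper9.Coprime
import Cfsg.Agent.Lib.Helper16.Basic
import Cfsg.Agent.S0444
import Cfsg.Agent.S5299

set_option autoImplicit false
open Cfsg

namespace Cfsg.Agent.S3755

open Cfsg.Agent.Lib.Helper9

section aux

variable {X : Type*} [Group X]

theorem card_modEq (U : Subgroup X) [Finite U] (x : X)
    (hxU : x ∈ Subgroup.normalizer (U : Set X)) (r : ℕ) [Fact r.Prime] (hxr : x ^ r = 1) :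
    Nat.card U ≡ Nat.card ↥(U ⊓ Subgroup.centralizer ({x} : Set X)) [MOD r] := by
  classical
  haveI : Fintype ↥U := Fintype.ofFinite _
  have hmem : ∀ (k : ℕ) (u : X), u ∈ U → x ^ k * u * (x ^ k)⁻¹ ∈ U := by
    intro k u hu
    have hk : x ^ k ∈ Subgroup.normalizer (U : Set X) := Subgroup.pow_mem _ hxU k
    exact (Subgroup.mem_normalizer_iff.mp hk u).mp hu
  have hmem1 : ∀ u : X, u ∈ U → x * u * x⁻¹ ∈ U := by
    intro u hu
    have h1 := hmem 1 u hu
    rwa [pow_one] at h1
  let f : Function.End ↥U := fun u => ⟨x * u * x⁻¹, hmem1 u u.2⟩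
  have hfk : ∀ k : ℕ, ∀ u : ↥U, (((f ^ k) u : ↥U) : X) = x ^ k * u * (x ^ k)⁻¹ := by
    intro k
    induction k with
    | zero =>
      intro u
      rw [pow_zero, pow_zero, inv_one, one_mul, mul_one]
      rfl
    | succ k ih =>
      intro u
      rw [pow_succ']
      show x * (((f ^ k) u : ↥U) : X) * x⁻¹ = _
      rw [ih u, pow_succ']
      group
  have hf : f ^ r ^ 1 = 1 := by
    rw [pow_one]
    funext u
    apply Subtype.ext
    rw [hfk, hxr, one_mul, inv_one, mul_one]
    rfl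
  have h1 := Equiv.Perm.card_fixedPoints_modEq (p := r) (n := 1) hf
  have e : ↥(Function.fixedPoints f) ≃ ↥(U ⊓ Subgroup.centralizer ({x} : Set X)) :=
    { toFun := fun u => ⟨((u.1 : ↥U) : X), Subgroup.mem_inf.mpr ⟨u.1.2, by
        rw [Subgroup.mem_centralizer_iff]
        intro y hy
        rw [Set.mem_singleton_iff] at hy
        subst hy
        have h2 : f u.1 = u.1 := u.2
        have h3 : y * ((u.1 : ↥U) : X) * y⁻¹ = ((u.1 : ↥U) : X) := congrArg Subtype.val h2
        calc y * ((u.1 : ↥U) : X) = (y * ((u.1 : ↥U) : X) * y⁻¹) * y := by group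
          _ = ((u.1 : ↥U) : X) * y := by rw [h3]⟩⟩
      invFun := fun y => ⟨⟨y.1, (Subgroup.mem_inf.mp y.2).1⟩, by
        show f ⟨y.1, (Subgroup.mem_inf.mp y.2).1⟩ = ⟨y.1, (Subgroup.mem_inf.mp y.2).1⟩
        apply Subtype.ext
        show x * (y.1 : X) * x⁻¹ = y.1
        have h2 := Subgroup.mem_centralizer_iff.mp (Subgroup.mem_inf.mp y.2).2 x
          (Set.mem_singleton x)
        rw [h2]
        group⟩
      left_inv := fun u => rfl
      right_inv := fun y => rfl }
  rw [Nat.card_eq_fintype_card, ← Nat.card_congr e, Nat.card_eq_fintype_card]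
  exact h1

theorem relIndex_pos' [Finite X] (H K : Subgroup X) : 0 < H.relIndex K :=
  Nat.pos_of_dvd_of_pos (Subgroup.relIndex_dvd_card H K) Nat.card_pos

theorem conj_centralizer_singleton (a x : X) :
    (Subgroup.centralizer ({a} : Set X)).map (MulAut.conj x).toMonoidHom =
      Subgroup.centralizer ({x * a * x⁻¹} : Set X) := by
  ext y
  rw [Cfsg.Agent.Lib.Helper16.Basic.mem_conj, Subgroup.mem_centralizer_iff,
    Subgroup.mem_centralizer_iff]
  constructor
  · intro h z hz
    rw [Set.mem_singleton_iff] at hz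
    subst hz
    have h1 := h a (Set.mem_singleton a)
    calc x * a * x⁻¹ * y = x * (a * (x⁻¹ * y * x)) * x⁻¹ := by group
      _ = x * ((x⁻¹ * y * x) * a) * x⁻¹ := by rw [h1]
      _ = y * (x * a * x⁻¹) := by group
  · intro h z hz
    rw [Set.mem_singleton_iff] at hz
    subst hz
    have h1 := h (x * z * x⁻¹) (Set.mem_singleton _)
    calc z * (x⁻¹ * y * x) = x⁻¹ * (x * z * x⁻¹ * y) * x := by group
      _ = x⁻¹ * (y * (x * z * x⁻¹)) * x := by rw [h1]
      _ = x⁻¹ * y * x * z := by group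

theorem four_le [Finite X] (U : Subgroup X) (hU2 : ∀ u ∈ U, u ^ 2 = 1)
    (a x : X) (hxU : x ∈ Subgroup.normalizer (U : Set X))
    (ha2 : a * a = 1) (hax : a * x * a⁻¹ = x⁻¹) (r : ℕ) [Fact r.Prime] (hr : orderOf x = r)
    (hr2 : r ≠ 2) (hr3 : r ≠ 3) (hnc : ∃ u ∈ U, x * u ≠ u * x) :
    4 ≤ (Subgroup.centralizer ({a} : Set X)).relIndex U := by
  have hrp : r.Prime := Fact.out
  have hUp : IsPGroup 2 U := by
    intro u
    refine ⟨1, ?_⟩
    apply Subtype.ext
    rw [pow_one]
    exact hU2 u u.2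
  obtain ⟨m, hm⟩ := IsPGroup.iff_card.mp hUp
  have hpow : ∀ H : Subgroup X, ∃ i : ℕ, H.relIndex U = 2 ^ i := by
    intro H
    have h1 := Subgroup.relIndex_dvd_card H U
    rw [hm] at h1
    obtain ⟨i, _, hi⟩ := (Nat.dvd_prime_pow Nat.prime_two).mp h1
    exact ⟨i, hi⟩
  by_contra hk
  push Not at hk
  obtain ⟨i, hi⟩ := hpow (Subgroup.centralizer ({a} : Set X))
  have hk2 : (Subgroup.centralizer ({a} : Set X)).relIndex U ≤ 2 := by
    rw [hi] at hk ⊢
    by_contra h2
    push Not at h2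
    have h3 : 2 ≤ i := by
      by_contra h4
      push Not at h4
      have h5 : i ≤ 1 := by omega
      have h6 := Nat.pow_le_pow_right (by norm_num : 0 < 2) h5
      omega
    have h6 := Nat.pow_le_pow_right (by norm_num : 0 < 2) h3
    omega
  have hUx : U.map (MulAut.conj x).toMonoidHom = U :=
    (Cfsg.Agent.Lib.Helper16.Basic.conj_eq_self_iff U x).mpr hxU
  have hk' : (Subgroup.centralizer ({x * a * x⁻¹} : Set X)).relIndex U ≤ 2 := by
    have h1 := Subgroup.relIndex_map_map_of_injective (Subgroup.centralizer ({a} : Set X)) U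
      (f := (MulAut.conj x).toMonoidHom) (MulAut.conj x).injective
    rw [conj_centralizer_singleton, hUx] at h1
    rw [h1]
    exact hk2
  have h4 : (Subgroup.centralizer ({a} : Set X) ⊓
      Subgroup.centralizer ({x * a * x⁻¹} : Set X)).relIndex U ≤ 4 := by
    have h1 := Subgroup.relIndex_inf_le (H := Subgroup.centralizer ({a} : Set X))
      (K := Subgroup.centralizer ({x * a * x⁻¹} : Set X)) (L := U)
    nlinarith
  have hrodd : Odd r := hrp.odd_of_ne_two hr2
  have hxr : x ^ r = 1 := by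
    rw [← hr]
    exact pow_orderOf_eq_one x
  have hle : Subgroup.centralizer ({a} : Set X) ⊓
      Subgroup.centralizer ({x * a * x⁻¹} : Set X) ≤ Subgroup.centralizer ({x} : Set X) := by
    intro y hy
    have h1 := Subgroup.mem_centralizer_iff.mp hy.1 a (Set.mem_singleton a)
    have h2 := Subgroup.mem_centralizer_iff.mp hy.2 _ (Set.mem_singleton _)
    have hainv : a⁻¹ = a := by rw [inv_eq_iff_mul_eq_one, ha2]
    have h3 : a * (x * a * x⁻¹) = (x ^ 2)⁻¹ := by
      have h5 : a * (x * a * x⁻¹) = (a * x * a⁻¹) * x⁻¹ := by rw [hainv]; group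
      rw [h5, hax, pow_two, mul_inv_rev]
    have h6 : Commute y (a * (x * a * x⁻¹)) := by
      have c1 : Commute y a := h1.symm
      have c2 : Commute y (x * a * x⁻¹) := h2.symm
      exact c1.mul_right c2
    rw [h3] at h6
    have h7 : Commute y (x ^ 2) := by
      have := h6.inv_right
      rwa [inv_inv] at this
    obtain ⟨t, ht⟩ := hrodd
    have h8 : (x ^ 2) ^ (t + 1) = x := by
      rw [← pow_mul]
      have e : 2 * (t + 1) = r + 1 := by omega
      rw [e, pow_succ, hxr, one_mul]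
    rw [Subgroup.mem_centralizer_iff]
    intro z hz
    rw [Set.mem_singleton_iff] at hz
    subst hz
    have h9 := h7.pow_right (t + 1)
    rw [h8] at h9
    exact h9.eq.symm
  have hj := Subgroup.relIndex_dvd_of_le_left U hle
  have hj4 : (Subgroup.centralizer ({x} : Set X)).relIndex U ≤ 4 :=
    (Nat.le_of_dvd (relIndex_pos' _ _) hj).trans h4
  obtain ⟨i', hi'⟩ := hpow (Subgroup.centralizer ({x} : Set X))
  have hcard : Nat.card ↥(U ⊓ Subgroup.centralizer ({x} : Set X)) *
      (Subgroup.centralizer ({x} : Set X)).relIndex U = Nat.card U := by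
    have h1 := card_mul_relIndex_of_le (inf_le_left : U ⊓ Subgroup.centralizer ({x} : Set X) ≤ U)
    rw [inf_comm, Subgroup.inf_relIndex_right, inf_comm] at h1
    exact h1
  have hmod := card_modEq U x hxU r hxr
  rw [← hcard] at hmod
  have hcpos : 0 < Nat.card ↥(U ⊓ Subgroup.centralizer ({x} : Set X)) := Nat.card_pos
  have hjpos : 0 < (Subgroup.centralizer ({x} : Set X)).relIndex U := by
    rw [hi']
    exact pow_pos (by norm_num) _
  have hdvd : r ∣ Nat.card ↥(U ⊓ Subgroup.centralizer ({x} : Set X)) *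
      ((Subgroup.centralizer ({x} : Set X)).relIndex U - 1) := by
    have h1 := (Nat.modEq_iff_dvd' (Nat.le_mul_of_pos_right _ hjpos)).mp hmod.symm
    rw [Nat.mul_sub, mul_one]
    exact h1
  have hcop : Nat.Coprime r (Nat.card ↥(U ⊓ Subgroup.centralizer ({x} : Set X))) := by
    have h1 : Nat.card ↥(U ⊓ Subgroup.centralizer ({x} : Set X)) ∣ 2 ^ m := by
      rw [← hm]
      exact Subgroup.card_dvd_of_le inf_le_left
    apply Nat.Coprime.coprime_dvd_right h1
    apply Nat.Coprime.pow_right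
    exact (Nat.coprime_primes hrp Nat.prime_two).mpr hr2
  have hdvd2 : r ∣ (Subgroup.centralizer ({x} : Set X)).relIndex U - 1 :=
    hcop.dvd_of_dvd_mul_left hdvd
  rw [hi'] at hdvd2 hj4
  have hi2 : i' ≤ 2 := by
    by_contra h2
    push Not at h2
    have h6 := Nat.pow_le_pow_right (by norm_num : 0 < 2) (show 3 ≤ i' by omega)
    omega
  interval_cases i'
  · obtain ⟨u, hu, hne⟩ := hnc
    rw [pow_zero] at hi'
    have h1 := Subgroup.relIndex_eq_one.mp hi'
    have h2 := Subgroup.mem_centralizer_iff.mp (h1 hu) x (Set.mem_singleton x)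
    exact hne h2
  · have h1 : r ∣ 1 := by simpa using hdvd2
    exact hrp.one_lt.ne' (Nat.dvd_one.mp h1)
  · have h1 : r ∣ 3 := by simpa using hdvd2
    rcases (Nat.dvd_prime Nat.prime_three).mp h1 with h2 | h2
    · exact hrp.one_lt.ne' h2
    · exact hr3 h2

theorem select [Finite X] (B O : Subgroup X) (hB : IsElementaryAbelian 2 B)
    (hO : ¬ 2 ∣ Nat.card O) (hBO : B ≤ Subgroup.normalizer (O : Set X)) a₀ (ha₀ : a₀ ∈ B)
    (hnc : ∃ y ∈ O, a₀ * y ≠ y * a₀) :
    ∃ (B' : Subgroup X) (x : X) (r : ℕ), B' ≤ B ∧ B'.relIndex B = 2 ∧ a₀ ∉ B' ∧ x ∈ O ∧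
      r.Prime ∧ orderOf x = r ∧ r ≠ 2 ∧ (∀ b ∈ B', b * x = x * b) ∧ a₀ * x * a₀⁻¹ = x⁻¹ := by
  haveI : Fact (Nat.Prime 2) := ⟨Nat.prime_two⟩
  haveI := hB.1
  have hBp : IsPGroup 2 B := by
    intro u
    refine ⟨1, ?_⟩
    apply Subtype.ext
    rw [pow_one]
    exact hB.2 u u.2
  have ha2 : a₀ * a₀ = 1 := by
    rw [← pow_two]
    exact hB.2 a₀ ha₀
  have hainv : a₀⁻¹ = a₀ := by rw [inv_eq_iff_mul_eq_one, ha2]
  have hgen := eq_iSup_centralizer_hyperplane (p := 2) hB hO hBO
  by_contra hcon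
  push Not at hcon
  obtain ⟨y₀, hy₀O, hy₀⟩ := hnc
  apply hy₀
  have h1 : (⨆ B' : {B' : Subgroup X // B' ≤ B ∧ B'.relIndex B ≤ 2},
      O ⊓ Subgroup.centralizer ((B' : Subgroup X) : Set X)) ≤
      Subgroup.centralizer ({a₀} : Set X) := by
    apply iSup_le
    rintro ⟨B', hB'B, hB'rel⟩
    intro y hy
    obtain ⟨hyO, hyC⟩ := hy
    rw [Subgroup.mem_centralizer_iff]
    intro z hz
    rw [Set.mem_singleton_iff] at hz
    subst hz
    by_contra hne
    have hne' : z * y ≠ y * z := hne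
    have hzB' : z ∉ B' := by
      intro hzB'
      exact hne' (Subgroup.mem_centralizer_iff.mp hyC z hzB')
    have hrel : B'.relIndex B = 2 := by
      rcases relIndex_eq_or_le_of_relIndex_le hBp hB'rel with h2 | h2
      · exact h2
      · exact absurd (h2 ha₀) hzB'
    have hzy : z * y * z⁻¹ ∈ O := by
      have h3 := hBO ha₀
      rw [Subgroup.mem_normalizer_iff] at h3
      exact (h3 y).mp hyO
    have hzyC : z * y * z⁻¹ ∈ Subgroup.centralizer ((B' : Subgroup X) : Set X) := by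
      rw [Subgroup.mem_centralizer_iff]
      intro b hb
      have c1 : b * z = z * b := setLike_mul_comm (hB'B hb) ha₀
      have c2 : b * y = y * b := Subgroup.mem_centralizer_iff.mp hyC b hb
      have c3 : b * z⁻¹ = z⁻¹ * b := by
        rw [hainv]
        exact c1
      calc b * (z * y * z⁻¹) = (b * z) * y * z⁻¹ := by group
        _ = z * (b * y) * z⁻¹ := by rw [c1]; group
        _ = z * y * (b * z⁻¹) := by rw [c2]; group
        _ = z * y * z⁻¹ * b := by rw [c3]; group
    have hx₀O : y⁻¹ * (z * y * z⁻¹) ∈ O := O.mul_mem (O.inv_mem hyO) hzy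
    have hx₀C : y⁻¹ * (z * y * z⁻¹) ∈ Subgroup.centralizer ((B' : Subgroup X) : Set X) :=
      Subgroup.mul_mem _ (Subgroup.inv_mem _ hyC) hzyC
    have hx₀1 : y⁻¹ * (z * y * z⁻¹) ≠ 1 := by
      intro h3
      apply hne'
      have h4 : z * y * z⁻¹ = y := by
        have h5 := congrArg (fun w => y * w) h3
        simpa using h5
      calc z * y = (z * y * z⁻¹) * z := by group
        _ = y * z := by rw [h4]
    have hx₀inv : z * (y⁻¹ * (z * y * z⁻¹)) * z⁻¹ = (y⁻¹ * (z * y * z⁻¹))⁻¹ := by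
      have h3 : z * (y⁻¹ * (z * y * z⁻¹)) * z⁻¹ = (z * y * z⁻¹)⁻¹ * ((z * z) * y * (z * z)⁻¹) := by
        group
      rw [h3, ha2]
      group
    have hn1 : orderOf (y⁻¹ * (z * y * z⁻¹)) ≠ 1 := fun h => hx₀1 (orderOf_eq_one_iff.mp h)
    obtain ⟨r, hr, hrn⟩ := Nat.exists_prime_and_dvd hn1
    have hord := orderOf_pow_orderOf_div (orderOf_pos (y⁻¹ * (z * y * z⁻¹))).ne' hrn
    have hr2 : r ≠ 2 := by
      rintro rfl
      exact hO (hrn.trans (Subgroup.orderOf_dvd_natCard O hx₀O))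
    refine hcon B' ((y⁻¹ * (z * y * z⁻¹)) ^ (orderOf (y⁻¹ * (z * y * z⁻¹)) / r)) r hB'B hrel hzB'
      (O.pow_mem hx₀O _) hr hord hr2 ?_ ?_
    · intro b hb
      have c1 : Commute b (y⁻¹ * (z * y * z⁻¹)) :=
        Subgroup.mem_centralizer_iff.mp hx₀C b hb
      exact (c1.pow_right _).eq.symm ▸ rfl
    · rw [← conj_pow, hx₀inv, inv_pow]
  have h2 : y₀ ∈ Subgroup.centralizer ({a₀} : Set X) := by
    apply h1
    rw [← hgen]
    exact hy₀O
  exact Subgroup.mem_centralizer_iff.mp h2 a₀ (Set.mem_singleton a₀)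

theorem key [Finite X] (M V O A : Subgroup X)
    (hV : IsElementaryAbelian 2 V) (hMV : M ≤ Subgroup.normalizer (V : Set X))
    (hfaith : M ⊓ Subgroup.centralizer (V : Set X) = ⊥)
    (hOM : O ≤ M) (hOodd : ¬ 2 ∣ Nat.card O) (hMO : M ≤ Subgroup.normalizer (O : Set X))
    (hcen : ∀ a ∈ M, (∀ y ∈ O, a * y = y * a) → a ∈ O)
    (hAM : A ≤ M) (hA : IsElementaryAbelian 2 A)
    (hno : ∀ a ∈ M, ∀ x ∈ M, a * a = 1 → orderOf x = 3 → a * x * a⁻¹ = x⁻¹ → False) :
    ∀ (n : ℕ) (B : Subgroup X), B ≤ A → Nat.card B = n →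
      Nat.card B ^ 2 ≤ (V ⊓ Subgroup.centralizer (B : Set X)).relIndex V := by
  haveI : Fact (Nat.Prime 2) := ⟨Nat.prime_two⟩
  haveI := hA.1
  have hVp : IsPGroup 2 V := by
    intro u
    refine ⟨1, ?_⟩
    apply Subtype.ext
    rw [pow_one]
    exact hV.2 u u.2
  intro n
  induction n using Nat.strong_induction_on with
  | _ n IH =>
    intro B hBA hBn
    by_cases hB1 : B = ⊥
    · rw [hB1, Subgroup.card_bot, one_pow]
      exact relIndex_pos' _ _
    obtain ⟨⟨a₀, ha₀'⟩, ha₀1⟩ := (Subgroup.ne_bot_iff_exists_ne_one).mp hB1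
    have ha₀1' : a₀ ≠ 1 := fun h => ha₀1 (Subtype.ext h)
    have hBel : IsElementaryAbelian 2 B :=
      ⟨IsMulCommutative.of_setLike_mul_comm (fun a ha b hb =>
        setLike_mul_comm (hBA ha) (hBA hb)), fun b hb => hA.2 b (hBA hb)⟩
    have hBp : IsPGroup 2 B := by
      intro u
      refine ⟨1, ?_⟩
      apply Subtype.ext
      rw [pow_one]
      exact hBel.2 u u.2
    have ha2 : a₀ * a₀ = 1 := by
      rw [← pow_two]
      exact hBel.2 a₀ ha₀'
    have haM : a₀ ∈ M := hAM (hBA ha₀')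
    have hnc : ∃ y ∈ O, a₀ * y ≠ y * a₀ := by
      by_contra hcon
      push Not at hcon
      have h1 := hcen a₀ haM hcon
      have h2 : orderOf a₀ = 2 := orderOf_eq_prime (by rw [pow_two]; exact ha2) ha₀1'
      apply hOodd
      rw [← h2]
      exact Subgroup.orderOf_dvd_natCard O h1
    obtain ⟨B', x, r, hB'B, hrel, haB', hxO, hr, hxr, hr2, hxB', hax⟩ :=
      select B O hBel hOodd ((hBA.trans hAM).trans hMO) a₀ ha₀' hnc
    haveI : Fact r.Prime := ⟨hr⟩
    have hxM : x ∈ M := hOM hxO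
    have hr3 : r ≠ 3 := by
      rintro rfl
      exact hno a₀ haM x hxM ha2 hxr hax
    have hcardB : Nat.card B' * 2 = Nat.card B := by
      have h1 := card_mul_relIndex_of_le hB'B
      rwa [hrel] at h1
    have hB'pos : 0 < Nat.card B' := Nat.card_pos
    have hIH := IH (Nat.card B') (by omega) B' (hB'B.trans hBA) rfl
    have hxU : x ∈ Subgroup.normalizer
        ((V ⊓ Subgroup.centralizer (B' : Set X) : Subgroup X) : Set X) := by
      apply Subgroup.inf_normalizer_le_normalizer_inf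
      refine ⟨hMV hxM, ?_⟩
      apply Subgroup.le_normalizer
      rw [Subgroup.mem_centralizer_iff]
      intro b hb
      exact hxB' b hb
    have hx1 : x ≠ 1 := by
      intro h
      rw [h, orderOf_one] at hxr
      exact hr.one_lt.ne hxr
    have hncU : ∃ u ∈ V ⊓ Subgroup.centralizer (B' : Set X), x * u ≠ u * x := by
      by_contra hcon
      push Not at hcon
      have hcop : (orderOf x).Coprime 2 := by
        rw [hxr]
        exact (Nat.coprime_primes hr Nat.prime_two).mpr hr2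
      have h1 := thompson_AxB (p := 2) (a := x) hcop (hBp.to_le hB'B) hVp
        (fun b hb => (hxB' b hb).symm) (hMV hxM) ((hB'B.trans (hBA.trans hAM)).trans hMV)
        (fun v hv hvB => hcon v (Subgroup.mem_inf.mpr ⟨hv, by
          rw [Subgroup.mem_centralizer_iff]
          intro b hb
          exact hvB b hb⟩))
      have h2 : x ∈ M ⊓ Subgroup.centralizer (V : Set X) := by
        refine Subgroup.mem_inf.mpr ⟨hxM, ?_⟩
        rw [Subgroup.mem_centralizer_iff]
        intro v hv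
        exact (h1 v hv).symm
      rw [hfaith] at h2
      exact hx1 (Subgroup.mem_bot.mp h2)
    have h4 := four_le (V ⊓ Subgroup.centralizer (B' : Set X))
      (fun u hu => hV.2 u hu.1) a₀ x hxU ha2 hax r hxr hr2 hr3 hncU
    have hle1 : V ⊓ Subgroup.centralizer (B : Set X) ≤ V ⊓ Subgroup.centralizer (B' : Set X) :=
      inf_le_inf_left V (Subgroup.centralizer_le hB'B)
    have hle2 : V ⊓ Subgroup.centralizer (B : Set X) ≤ Subgroup.centralizer ({a₀} : Set X) :=
      inf_le_right.trans (Subgroup.centralizer_le (by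
        intro z hz
        rw [Set.mem_singleton_iff] at hz
        rw [hz]
        exact ha₀'))
    have h5 := Subgroup.relIndex_mul_relIndex _ _ V hle1 (inf_le_left)
    have h6 := Subgroup.relIndex_dvd_of_le_left (V ⊓ Subgroup.centralizer (B' : Set X)) hle2
    have h7 := Nat.le_of_dvd (relIndex_pos' _ _) h6
    rw [← h5, ← hcardB]
    have h8 : 4 ≤ (V ⊓ Subgroup.centralizer (B : Set X)).relIndex
        (V ⊓ Subgroup.centralizer (B' : Set X)) := h4.trans h7
    calc (Nat.card B' * 2) ^ 2 = 4 * Nat.card B' ^ 2 := by ring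
      _ ≤ (V ⊓ Subgroup.centralizer (B : Set X)).relIndex
          (V ⊓ Subgroup.centralizer (B' : Set X)) *
          (V ⊓ Subgroup.centralizer (B' : Set X)).relIndex V := Nat.mul_le_mul h8 hIH

end aux

theorem result {X : Type*} [Group X] [Finite X] (M V : Subgroup X) (hV : Cfsg.IsElementaryAbelian 2 V) (hMV : M ≤ Subgroup.normalizer (V : Set X)) (hfaith : M ⊓ Subgroup.centralizer (V : Set X) = ⊥) (hcon : Subgroup.centralizer (Cfsg.pPrimeCore 2 ↥M : Set ↥M) ≤ Cfsg.pPrimeCore 2 ↥M) (A : Subgroup X) (hAM : A ≤ M) (hA : Cfsg.IsElementaryAbelian 2 A) (hsmall : (V ⊓ Subgroup.centralizer (A : Set X)).relIndex V < Nat.card A ^ 2) : Cfsg.Involves (Equiv.Perm (Fin 3)) ↥M := by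
  by_cases hex : ∃ a ∈ M, ∃ x ∈ M, a * a = 1 ∧ orderOf x = 3 ∧ a * x * a⁻¹ = x⁻¹
  · obtain ⟨a, haM, x, hxM, ha2, hx3, hax⟩ := hex
    have hainv : a⁻¹ = a := by rw [inv_eq_iff_mul_eq_one, ha2]
    have hx3' : x ^ 3 = 1 := by
      rw [← hx3]
      exact pow_orderOf_eq_one x
    have haxa : a * x * a = x⁻¹ := by
      have h1 := hax
      rwa [hainv] at h1
    have hxx : x⁻¹ = x * x := by
      rw [inv_eq_iff_mul_eq_one]
      calc x * (x * x) = x ^ 3 := by rw [pow_succ, pow_two, mul_assoc]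
        _ = 1 := hx3'
    have hd2 : (⟨a, haM⟩ : ↥M) * ⟨a, haM⟩ = 1 := Subtype.ext ha2
    have he2 : (⟨a * x, M.mul_mem haM hxM⟩ : ↥M) * ⟨a * x, M.mul_mem haM hxM⟩ = 1 := by
      apply Subtype.ext
      show a * x * (a * x) = 1
      calc a * x * (a * x) = (a * x * a) * x := by group
        _ = 1 := by rw [haxa, inv_mul_cancel]
    have hede : (⟨a * x, M.mul_mem haM hxM⟩ : ↥M) * ⟨a, haM⟩ * ⟨a * x, M.mul_mem haM hxM⟩ =
        ⟨a, haM⟩ * ⟨a * x, M.mul_mem haM hxM⟩ * ⟨a, haM⟩ := by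
      apply Subtype.ext
      show a * x * a * (a * x) = a * (a * x) * a
      calc a * x * a * (a * x) = a * x * (a * a) * x := by group
        _ = a * (x * x) := by rw [ha2]; group
        _ = a * x⁻¹ := by rw [hxx]
        _ = a * (a * x * a) := by rw [haxa]
        _ = a * (a * x) * a := by group
    have hnc : ¬ Commute (⟨a, haM⟩ : ↥M) ⟨a * x, M.mul_mem haM hxM⟩ := by
      intro hc
      have h1 : a * (a * x) = a * x * a := congrArg Subtype.val hc.eq
      rw [haxa, ← mul_assoc, ha2, one_mul] at h1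
      have h2 : x * x = 1 := by
        have h9 := congrArg (fun w => x * w) h1
        simpa using h9
      have h3 : orderOf x ∣ 2 := orderOf_dvd_of_pow_eq_one (by rw [pow_two]; exact h2)
      rw [hx3] at h3
      omega
    have hinj : Function.Injective (Cfsg.Agent.S0444.hom (⟨a, haM⟩ : ↥M)
        ⟨a * x, M.mul_mem haM hxM⟩ hd2 he2 hede) := by
      rw [injective_iff_map_eq_one]
      intro σ hσ
      exact Cfsg.Agent.S0444.toFun_eq_one _ _ hnc σ hσ
    exact Cfsg.Agent.S5299.involves_of_inj_surj _ hinj (MonoidHom.id _) Function.surjective_id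
  · exfalso
    push Not at hex
    haveI := pPrimeCore_characteristic 2 ↥M
    have hOn : (Cfsg.pPrimeCore 2 ↥M).Normal := inferInstance
    have hMO : M ≤ Subgroup.normalizer (((Cfsg.pPrimeCore 2 ↥M).map M.subtype : Subgroup X) : Set X) := by
      have h1 := Subgroup.le_normalizer_map (H := Cfsg.pPrimeCore 2 ↥M) M.subtype
      rw [Subgroup.normalizer_eq_top_iff.mpr hOn, ← MonoidHom.range_eq_map,
        Subgroup.range_subtype] at h1
      exact h1
    have hOodd : ¬ 2 ∣ Nat.card ((Cfsg.pPrimeCore 2 ↥M).map M.subtype : Subgroup X) := by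
      rw [Subgroup.card_map_of_injective M.subtype_injective]
      intro h2
      have h3 := Nat.Coprime.coprime_dvd_left h2 (pPrimeCore_coprime 2 ↥M)
      norm_num at h3
    have hcen : ∀ a ∈ M, (∀ y ∈ (Cfsg.pPrimeCore 2 ↥M).map M.subtype, a * y = y * a) →
        a ∈ (Cfsg.pPrimeCore 2 ↥M).map M.subtype := by
      intro a ha hcomm
      refine ⟨⟨a, ha⟩, hcon ?_, rfl⟩
      rw [Subgroup.mem_centralizer_iff]
      intro d hd
      apply Subtype.ext
      exact (hcomm (d : X) ⟨d, hd, rfl⟩).symm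
    have h1 := key M V ((Cfsg.pPrimeCore 2 ↥M).map M.subtype) A hV hMV hfaith
      (Subgroup.map_subtype_le _) hOodd hMO hcen hAM hA
      (fun a ha x hx ha2 hx3 hax => hex a ha x hx ha2 hx3 hax) (Nat.card A) A le_rfl rfl
    omega

end Cfsg.Agent.S3755
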