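import Cfsg.Statements.S3807
import Mathlib

set_option autoImplicit false
open Cfsg

namespace Cfsg.Agent.S3807

theorem eq_top_of_lt {S : Type*} [Group S] {p : ℕ} (hp : p.Prime) (B K : Subgroup S)
    (hB : B.index = p) (hBK : B ≤ K) (hne : ∃ g ∈ K, g ∉ B) : K = ⊤ := by
  have h1 := Subgroup.relIndex_mul_index hBK
  rw [hB] at h1
  have h2 : B.relIndex K ≠ 1 := by
    intro h
    rw [Subgroup.relIndex_eq_one] at h
    obtain ⟨g, hg, hg'⟩ := hne
    exact hg' (h hg)
  have h3 : B.relIndex K ∣ p := Dvd.intro _ h1
  rcases (Nat.dvd_prime hp).mp h3 with h | h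
  · exact absurd h h2
  · rw [h] at h1
    have : K.index = 1 := Nat.eq_of_mul_eq_mul_left hp.pos (by rw [h1, mul_one])
    exact Subgroup.index_eq_one.mp this

theorem comm_of_le_center {S : Type*} [Group S] [Finite S] {p : ℕ} [Fact p.Prime] (B : Subgroup S)
    (hB : B.index = p) (hBZ : B ≤ Subgroup.center S) : ∀ a b : S, a * b = b * a := by
  haveI : B.Normal := ⟨fun b hb g => by
    have := hBZ hb
    rw [Subgroup.mem_center_iff] at this
    rw [this g, mul_inv_cancel_right]
    exact hb⟩
  haveI : IsCyclic (S ⧸ B) := by
    apply isCyclic_of_prime_card (p := p)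
    rw [← Subgroup.index_eq_card]; exact hB
  have := (QuotientGroup.mk' B).isMulCommutative_of_isCyclic_of_ker_le_center
    (by rw [QuotientGroup.ker_mk']; exact hBZ)
  exact fun a b => this.is_comm.comm a b

theorem mem_center_of_comm {S : Type*} [Group S] {p : ℕ} (hp : p.Prime) (B : Subgroup S)
    (hBc : ∀ a ∈ B, ∀ b ∈ B, a * b = b * a) (hB : B.index = p) {b g : S} (hb : b ∈ B)
    (hg : g ∉ B) (hbg : b * g = g * b) : b ∈ Subgroup.center S := by
  have hK : Subgroup.centralizer ({b} : Set S) = ⊤ := by
    apply eq_top_of_lt hp B _ hB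
    · intro c hc
      rw [Subgroup.mem_centralizer_iff]
      intro x hx
      rw [Set.mem_singleton_iff] at hx
      rw [hx]; exact hBc b hb c hc
    · refine ⟨g, ?_, hg⟩
      rw [Subgroup.mem_centralizer_iff]
      intro x hx
      rw [Set.mem_singleton_iff] at hx
      rw [hx]; exact hbg
  rw [Subgroup.mem_center_iff]
  intro s
  have : s ∈ Subgroup.centralizer ({b} : Set S) := hK ▸ Subgroup.mem_top s
  rw [Subgroup.mem_centralizer_iff] at this
  exact (this b rfl).symm

theorem center_le {S : Type*} [Group S] [Finite S] {p : ℕ} [Fact p.Prime]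
    (hna : ¬ ∀ a b : S, a * b = b * a) (B : Subgroup S)
    (hBc : ∀ a ∈ B, ∀ b ∈ B, a * b = b * a) (hB : B.index = p) : Subgroup.center S ≤ B := by
  intro z hz
  by_contra hzB
  apply hna
  apply comm_of_le_center B hB
  intro b hb
  apply mem_center_of_comm (Fact.out) B hBc hB hb hzB
  rw [Subgroup.mem_center_iff] at hz
  exact hz b

noncomputable def psi {S : Type*} [Group S] (A : Subgroup S) (hAn : A.Normal)
    (hAc : ∀ a ∈ A, ∀ b ∈ A, a * b = b * a) (g : S) : A →* S where
  toFun a := (a : S) * g * (a : S)⁻¹ * g⁻¹
  map_one' := by simp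
  map_mul' a b := by
    have h1 : g * (a : S)⁻¹ * g⁻¹ ∈ A := hAn.conj_mem _ (A.inv_mem a.2) g
    have h2 : (b : S) * (g * (b : S)⁻¹ * g⁻¹) ∈ A :=
      A.mul_mem b.2 (hAn.conj_mem _ (A.inv_mem b.2) g)
    have h3 := hAc _ h1 _ h2
    simp only [Subgroup.coe_mul, mul_inv_rev]
    calc (a:S) * b * g * ((b:S)⁻¹ * (a:S)⁻¹) * g⁻¹
        = a * ((b * (g * (b:S)⁻¹ * g⁻¹)) * (g * (a:S)⁻¹ * g⁻¹)) := by group
      _ = a * ((g * (a:S)⁻¹ * g⁻¹) * (b * (g * (b:S)⁻¹ * g⁻¹))) := by rw [h3]
      _ = _ := by group

theorem psi_apply {S : Type*} [Group S] (A : Subgroup S) (hAn : A.Normal)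
    (hAc : ∀ a ∈ A, ∀ b ∈ A, a * b = b * a) (g : S) (a : A) :
    psi A hAn hAc g a = (a : S) * g * (a : S)⁻¹ * g⁻¹ := rfl

theorem psi_range {S : Type*} [Group S] [Finite S] {p : ℕ} [Fact p.Prime] (A : Subgroup S)
    (hAn : A.Normal) (hAc : ∀ a ∈ A, ∀ b ∈ A, a * b = b * a) (hAi : A.index = p) (g : S)
    (hg : g ∉ A) : (psi A hAn hAc g).range = commutator S := by
  have hp : p.Prime := Fact.out
  set D := (psi A hAn hAc g).range with hD
  have hmem : ∀ a ∈ A, a * g * a⁻¹ * g⁻¹ ∈ D := fun a ha => ⟨⟨a, ha⟩, rfl⟩
  have hDA : D ≤ A := by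
    rintro _ ⟨a, rfl⟩
    rw [psi_apply]
    have : (a : S) * g * (a : S)⁻¹ * g⁻¹ = a * (g * (a : S)⁻¹ * g⁻¹) := by group
    rw [this]
    exact A.mul_mem a.2 (hAn.conj_mem _ (A.inv_mem a.2) g)
  -- D is normal
  have hDn : D.Normal := by
    have hN : Subgroup.normalizer (D : Set S) = ⊤ := by
      apply eq_top_of_lt hp A _ hAi
      · intro a ha
        rw [Subgroup.mem_normalizer_iff]
        intro d
        constructor
        · intro hd
          have := hAc a ha d (hDA hd)
          rw [this, mul_inv_cancel_right]; exact hd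
        · intro hd
          have hd' : a * d * a⁻¹ ∈ A := hDA hd
          have hdA : d ∈ A := by
            have := A.mul_mem (A.mul_mem (A.inv_mem ha) hd') ha
            simpa [mul_assoc] using this
          have := hAc a ha d hdA
          rw [this, mul_inv_cancel_right] at hd; exact hd
      · refine ⟨g, ?_, hg⟩
        rw [Subgroup.mem_normalizer_iff]
        intro d
        constructor
        · rintro ⟨a, rfl⟩
          rw [psi_apply]
          have : g * ((a : S) * g * (a : S)⁻¹ * g⁻¹) * g⁻¹ =
              (g * a * g⁻¹) * g * (g * a * g⁻¹)⁻¹ * g⁻¹ := by group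
          rw [this]
          exact hmem _ (hAn.conj_mem _ a.2 g)
        · intro hd
          obtain ⟨a, ha⟩ := hd
          rw [psi_apply] at ha
          have hd2 : d = (g⁻¹ * a * g) * g * (g⁻¹ * a * g)⁻¹ * g⁻¹ := by
            have : d = g⁻¹ * (g * d * g⁻¹) * g := by group
            rw [this, ← ha]; group
          rw [hd2]
          apply hmem
          have := hAn.conj_mem _ a.2 g⁻¹
          simpa using this
    constructor
    intro d hd s
    have hs : s ∈ Subgroup.normalizer (D : Set S) := hN ▸ Subgroup.mem_top s
    rw [Subgroup.mem_normalizer_iff] at hs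
    exact (hs d).mp hd
  haveI := hDn
  haveI := hAn
  -- image of A is central in S ⧸ D
  have hcent : ∀ s ∈ A, ∀ t : S, (QuotientGroup.mk t : S ⧸ D) * QuotientGroup.mk s =
      QuotientGroup.mk s * QuotientGroup.mk t := by
    intro s hs
    have hK : (Subgroup.centralizer ({(QuotientGroup.mk s : S ⧸ D)} : Set (S ⧸ D))).comap
        (QuotientGroup.mk' D) = ⊤ := by
      apply eq_top_of_lt hp A _ hAi
      · intro a ha
        rw [Subgroup.mem_comap, Subgroup.mem_centralizer_iff]
        intro x hx
        rw [Set.mem_singleton_iff] at hx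
        rw [hx, QuotientGroup.mk'_apply, ← QuotientGroup.mk_mul, ← QuotientGroup.mk_mul,
          hAc s hs a ha]
      · refine ⟨g, ?_, hg⟩
        rw [Subgroup.mem_comap, Subgroup.mem_centralizer_iff]
        intro x hx
        rw [Set.mem_singleton_iff] at hx
        rw [hx, QuotientGroup.mk'_apply, ← QuotientGroup.mk_mul, ← QuotientGroup.mk_mul]
        rw [QuotientGroup.eq]
        have : (s * g)⁻¹ * (g * s) = g⁻¹ * (s⁻¹ * g * (s⁻¹)⁻¹ * g⁻¹) * (g⁻¹)⁻¹ := by group
        rw [this]
        exact hDn.conj_mem _ (hmem _ (A.inv_mem hs)) _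
    intro t
    have ht : t ∈ (Subgroup.centralizer ({(QuotientGroup.mk s : S ⧸ D)} : Set (S ⧸ D))).comap
        (QuotientGroup.mk' D) := hK ▸ Subgroup.mem_top t
    rw [Subgroup.mem_comap, Subgroup.mem_centralizer_iff] at ht
    exact (ht _ rfl).symm
  -- S ⧸ D commutative
  haveI : IsCyclic (S ⧸ A) := by
    apply isCyclic_of_prime_card (p := p)
    rw [← Subgroup.index_eq_card]; exact hAi
  have hcomm : IsMulCommutative (S ⧸ D) := by
    apply (QuotientGroup.map D A (MonoidHom.id S) (by simpa using hDA)).isMulCommutative_of_isCyclic_of_ker_le_center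
    intro q hq
    obtain ⟨s, rfl⟩ := QuotientGroup.mk_surjective q
    rw [MonoidHom.mem_ker, QuotientGroup.map_mk, MonoidHom.id_apply, QuotientGroup.eq_one_iff] at hq
    rw [Subgroup.mem_center_iff]
    intro r
    obtain ⟨t, rfl⟩ := QuotientGroup.mk_surjective r
    exact hcent s hq t
  apply le_antisymm
  · rintro _ ⟨a, rfl⟩
    rw [psi_apply, commutator_def]
    exact Subgroup.commutator_mem_commutator (Subgroup.mem_top (a : S)) (Subgroup.mem_top g)
  · rw [commutator_def, Subgroup.commutator_le]
    intro s _ t _
    rw [commutatorElement_def, ← QuotientGroup.eq_one_iff]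
    simp only [QuotientGroup.mk_mul, QuotientGroup.mk_inv]
    rw [hcomm.is_comm.comm (QuotientGroup.mk s) (QuotientGroup.mk t)]
    group

theorem card_formula {S : Type*} [Group S] [Finite S] {p : ℕ} [Fact p.Prime]
    (hna : ¬ ∀ a b : S, a * b = b * a) (A : Subgroup S) (hAn : A.Normal)
    (hAc : ∀ a ∈ A, ∀ b ∈ A, a * b = b * a) (hAi : A.index = p) :
    Nat.card A = Nat.card (Subgroup.center S) * Nat.card (commutator S) := by
  have hp : p.Prime := Fact.out
  have hAtop : A ≠ ⊤ := by
    intro h; rw [h, Subgroup.index_top] at hAi; exact hp.one_lt.ne hAi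
  obtain ⟨g, hg⟩ : ∃ g : S, g ∉ A := by
    by_contra hcon; push Not at hcon
    exact hAtop (eq_top_iff.mpr fun x _ => hcon x)
  have hZA := center_le hna A hAc hAi
  have hker : (psi A hAn hAc g).ker = (Subgroup.center S).subgroupOf A := by
    ext a
    rw [MonoidHom.mem_ker, psi_apply, Subgroup.mem_subgroupOf]
    constructor
    · intro h
      have hag : (a : S) * g = g * a := by
        have : (a : S) * g = ((a : S) * g * (a : S)⁻¹ * g⁻¹) * (g * a) := by group
        rw [this, h, one_mul]
      exact mem_center_of_comm hp A hAc hAi a.2 hg hag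
    · intro h
      rw [Subgroup.mem_center_iff] at h
      have := h g
      rw [← this]; group
  have h1 := Subgroup.card_mul_index (psi A hAn hAc g).ker
  rw [Subgroup.index_ker, psi_range A hAn hAc hAi g hg, hker] at h1
  rw [← h1]
  congr 1
  exact Nat.card_congr (Subgroup.subgroupOfEquivOfLe hZA).toEquiv

/-- Let S be a non-abelian finite p-group with an abelian subgroup A of index p. Then [S : Z(S)] = p·#[S,S], and either [S,S] has order p, S/Z(S) is elementary abelian of order p², and S has exactly p + 1 abelian subgroups of index p; or [S,S] has order at least p² and A is the only abelian subgroup of index p in S. -/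
theorem result {S : Type*} [Group S] [Finite S] (p : ℕ) [Fact p.Prime] (hS : IsPGroup p S) (hna : ¬ IsMulCommutative S)
    (A : Subgroup S) (hA : IsMulCommutative ↥A) (hAi : A.index = p) :
    (Subgroup.center S).index = p * Nat.card (commutator S) ∧
      ((Nat.card (commutator S) = p ∧ Cfsg.IsElementaryAbelian p (⊤ : Subgroup (S ⧸ Subgroup.center S)) ∧
          Nat.card (S ⧸ Subgroup.center S) = p ^ 2 ∧
          Nat.card {B : Subgroup S // IsMulCommutative ↥B ∧ B.index = p} = p + 1) ∨
        (p ^ 2 ≤ Nat.card (commutator S) ∧ ∀ B : Subgroup S, IsMulCommutative ↥B → B.index = p → B = A)) := by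
  have hp : p.Prime := Fact.out
  have hna' : ¬ ∀ a b : S, a * b = b * a := fun h => hna ⟨⟨h⟩⟩
  have comm_of : ∀ B : Subgroup S, IsMulCommutative ↥B → ∀ a ∈ B, ∀ b ∈ B, a * b = b * a := by
    intro B hB a ha b hb
    have := hB.is_comm.comm ⟨a, ha⟩ ⟨b, hb⟩
    exact congrArg Subtype.val this
  have hAc := comm_of A hA
  obtain ⟨k, hk⟩ := IsPGroup.iff_card.mp hS
  have hk0 : k ≠ 0 := by
    intro h0
    rw [h0, pow_zero] at hk
    have hd : A.index ∣ Nat.card S := Subgroup.index_dvd_card A
    rw [hAi, hk] at hd
    exact hp.one_lt.ne' (Nat.dvd_one.mp hd)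
  have hnormal : ∀ B : Subgroup S, B.index = p → B.Normal := by
    intro B hB
    apply Subgroup.normal_of_index_eq_minFac_card
    rw [hB, hk, hp.pow_minFac hk0]
  have hzpos : 0 < Nat.card (Subgroup.center S) := Nat.card_pos
  have hcardB : ∀ B : Subgroup S, (∀ a ∈ B, ∀ b ∈ B, a * b = b * a) → B.index = p →
      Nat.card B = Nat.card (Subgroup.center S) * Nat.card (commutator S) := fun B hBc hB =>
    card_formula hna' B (hnormal B hB) hBc hB
  have hcA := hcardB A hAc hAi
  have hSA : Nat.card A * p = Nat.card S := by rw [← hAi]; exact Subgroup.card_mul_index A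
  have hSZ : Nat.card (Subgroup.center S) * (Subgroup.center S).index = Nat.card S :=
    Subgroup.card_mul_index _
  have hidx : (Subgroup.center S).index = p * Nat.card (commutator S) := by
    have : Nat.card (Subgroup.center S) * (Subgroup.center S).index =
        Nat.card (Subgroup.center S) * (p * Nat.card (commutator S)) := by
      rw [hSZ, ← hSA, hcA]; ring
    exact Nat.eq_of_mul_eq_mul_left hzpos this
  refine ⟨hidx, ?_⟩
  obtain ⟨j, hj⟩ := IsPGroup.iff_card.mp (hS.to_subgroup (commutator S))
  have hj0 : j ≠ 0 := by
    intro h0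
    rw [h0, pow_zero] at hj
    apply hna'
    intro a b
    have hbot : commutator S = ⊥ := Subgroup.eq_bot_of_card_eq _ hj
    have hmem := Subgroup.commutator_mem_commutator (Subgroup.mem_top a) (Subgroup.mem_top b)
    rw [← commutator_def, hbot, Subgroup.mem_bot] at hmem
    exact commutatorElement_eq_one_iff_mul_comm.mp hmem
  by_cases hj1 : j = 1
  · left
    subst hj1
    rw [pow_one] at hj
    have hidx2 : (Subgroup.center S).index = p * p := by rw [hidx, hj]
    have hQcard : Nat.card (S ⧸ Subgroup.center S) = p ^ 2 := by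
      rw [← Subgroup.index_eq_card, hidx2, sq]
    refine ⟨hj, ?_, hQcard, ?_⟩
    · have hQc := (IsPGroup.isMulCommutative_of_card_eq_prime_sq hQcard).is_comm.comm
      refine ⟨⟨⟨fun a b => Subtype.ext (hQc a b)⟩⟩, ?_⟩
      intro a _
      have hdvd : orderOf a ∣ p ^ 2 := by rw [← hQcard]; exact orderOf_dvd_natCard a
      obtain ⟨m, hm, hom⟩ := (Nat.dvd_prime_pow hp).mp hdvd
      have hm2 : m ≠ 2 := by
        intro h2
        rw [h2] at hom
        apply hna'
        haveI : IsCyclic (S ⧸ Subgroup.center S) :=
          isCyclic_of_orderOf_eq_card a (by rw [hom, hQcard])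
        have := (QuotientGroup.mk' (Subgroup.center S)).isMulCommutative_of_isCyclic_of_ker_le_center
          (by rw [QuotientGroup.ker_mk'])
        exact fun x y => this.is_comm.comm x y
      have hm1 : m ≤ 1 := by omega
      have hop : orderOf a ∣ p := by
        rw [hom]
        calc p ^ m ∣ p ^ 1 := pow_dvd_pow p hm1
          _ = p := pow_one p
      exact orderOf_dvd_iff_pow_eq_one.mp hop
    · classical
      have hmemB : ∀ B : Subgroup S, IsMulCommutative ↥B → B.index = p →
          Subgroup.center S ≤ B ∧ Nat.card B = Nat.card (Subgroup.center S) * p := by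
        intro B hB hBi
        refine ⟨center_le hna' B (comm_of B hB) hBi, ?_⟩
        rw [hcardB B (comm_of B hB) hBi, hj]
      have hcent : ∀ b : S, b ∉ Subgroup.center S →
          IsMulCommutative ↥(Subgroup.centralizer ({b} : Set S)) ∧
          (Subgroup.centralizer ({b} : Set S)).index = p := by
        intro b hb
        have hZC : Subgroup.center S ≤ Subgroup.centralizer ({b} : Set S) := by
          intro x hx
          rw [Subgroup.mem_centralizer_iff]
          intro y hy
          rw [Subgroup.mem_center_iff] at hx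
          exact hx y
        have hbC : b ∈ Subgroup.centralizer ({b} : Set S) := by
          rw [Subgroup.mem_centralizer_iff]
          intro y hy
          rw [Set.mem_singleton_iff] at hy
          rw [hy]
        have h1 := Subgroup.relIndex_mul_index hZC
        rw [hidx2] at h1
        have hCi1 : (Subgroup.centralizer ({b} : Set S)).index ≠ 1 := by
          intro h
          rw [Subgroup.index_eq_one] at h
          apply hb
          rw [Subgroup.mem_center_iff]
          intro s
          have : s ∈ Subgroup.centralizer ({b} : Set S) := h ▸ Subgroup.mem_top s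
          rw [Subgroup.mem_centralizer_iff] at this
          exact (this b rfl).symm
        have hr1 : (Subgroup.center S).relIndex (Subgroup.centralizer ({b} : Set S)) ≠ 1 := by
          intro h
          rw [Subgroup.relIndex_eq_one] at h
          exact hb (h hbC)
        have hCi : (Subgroup.centralizer ({b} : Set S)).index = p := by
          have hd : (Subgroup.centralizer ({b} : Set S)).index ∣ p ^ 2 := by
            rw [sq]; exact Dvd.intro_left _ h1
          obtain ⟨m, hm, hom⟩ := (Nat.dvd_prime_pow hp).mp hd
          interval_cases m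
          · rw [pow_zero] at hom; exact absurd hom hCi1
          · rw [pow_one] at hom; exact hom
          · exfalso
            rw [hom, sq] at h1
            apply hr1
            have hpp : 0 < p * p := Nat.mul_pos hp.pos hp.pos
            exact Nat.eq_of_mul_eq_mul_right hpp (by rw [h1, one_mul])
        have hrel : (Subgroup.center S).relIndex (Subgroup.centralizer ({b} : Set S)) = p := by
          rw [hCi] at h1
          exact Nat.eq_of_mul_eq_mul_right hp.pos h1
        refine ⟨?_, hCi⟩
        let f : ↥(Subgroup.centralizer ({b} : Set S)) →* S ⧸ Subgroup.center S :=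
          (QuotientGroup.mk' (Subgroup.center S)).comp (Subgroup.centralizer ({b} : Set S)).subtype
        have hkerf : f.ker = (Subgroup.center S).subgroupOf (Subgroup.centralizer ({b} : Set S)) := by
          ext c
          rw [MonoidHom.mem_ker, Subgroup.mem_subgroupOf]
          simp only [f, MonoidHom.comp_apply, Subgroup.coe_subtype, QuotientGroup.mk'_apply,
            QuotientGroup.eq_one_iff]
        haveI : IsCyclic f.range := by
          apply isCyclic_of_prime_card (p := p)
          rw [← Subgroup.index_ker, hkerf]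
          exact hrel
        apply f.rangeRestrict.isMulCommutative_of_isCyclic_of_ker_le_center
        rw [MonoidHom.ker_rangeRestrict, hkerf]
        intro c hc
        rw [Subgroup.mem_subgroupOf] at hc
        rw [Subgroup.mem_center_iff]
        intro d
        apply Subtype.ext
        rw [Subgroup.mem_center_iff] at hc
        exact hc d
      have hfibiff : ∀ (B : Subgroup S), IsMulCommutative ↥B → B.index = p → ∀ x : S,
          x ∉ Subgroup.center S → (Subgroup.centralizer ({x} : Set S) = B ↔ x ∈ B) := by
        intro B hB hBi x hx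
        constructor
        · intro h
          rw [← h, Subgroup.mem_centralizer_iff]
          intro y hy
          rw [Set.mem_singleton_iff] at hy
          rw [hy]
        · intro hxB
          have hle : B ≤ Subgroup.centralizer ({x} : Set S) := by
            intro c hc
            rw [Subgroup.mem_centralizer_iff]
            intro y hy
            rw [Set.mem_singleton_iff] at hy
            rw [hy]; exact comm_of B hB x hxB c hc
          have h1 := Subgroup.relIndex_mul_index hle
          rw [(hcent x hx).2, hBi] at h1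
          have h2 : B.relIndex (Subgroup.centralizer ({x} : Set S)) = 1 :=
            Nat.eq_of_mul_eq_mul_right hp.pos (by rw [h1, one_mul])
          rw [Subgroup.relIndex_eq_one] at h2
          exact le_antisymm h2 hle
      let β : {b : S // b ∉ Subgroup.center S} →
          {B : Subgroup S // IsMulCommutative ↥B ∧ B.index = p} :=
        fun b => ⟨Subgroup.centralizer ({(b : S)} : Set S), hcent b.1 b.2⟩
      have hZn : ((Subgroup.center S : Subgroup S) : Set S).ncard = Nat.card (Subgroup.center S) :=
        (Nat.card_coe_set_eq _).symm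
      have hfib : ∀ B : {B : Subgroup S // IsMulCommutative ↥B ∧ B.index = p},
          Nat.card {b : {b : S // b ∉ Subgroup.center S} // β b = B} + Nat.card (Subgroup.center S)
            = Nat.card (Subgroup.center S) * p := by
        intro B
        obtain ⟨hZB, hBcard⟩ := hmemB B.1 B.2.1 B.2.2
        have e1 : {b : {b : S // b ∉ Subgroup.center S} // β b = B} ≃
            {b : {b : S // b ∉ Subgroup.center S} //
              Subgroup.centralizer ({(b : S)} : Set S) = B.1} :=
          Equiv.subtypeEquivRight (fun b => Subtype.ext_iff)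
        have e2 : {b : {b : S // b ∉ Subgroup.center S} //
              Subgroup.centralizer ({(b : S)} : Set S) = B.1} ≃
            {x : S // x ∉ Subgroup.center S ∧ Subgroup.centralizer ({x} : Set S) = B.1} :=
          Equiv.subtypeSubtypeEquivSubtypeInter (fun x : S => x ∉ Subgroup.center S)
            (fun x => Subgroup.centralizer ({x} : Set S) = B.1)
        have e3 : {x : S // x ∉ Subgroup.center S ∧ Subgroup.centralizer ({x} : Set S) = B.1} ≃
            ↥((B.1 : Set S) \ (Subgroup.center S : Set S)) :=
          Equiv.subtypeEquivRight (fun x => by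
            rw [Set.mem_sdiff, SetLike.mem_coe, SetLike.mem_coe]
            constructor
            · rintro ⟨h1, h2⟩; exact ⟨(hfibiff B.1 B.2.1 B.2.2 x h1).mp h2, h1⟩
            · rintro ⟨h1, h2⟩; exact ⟨h2, (hfibiff B.1 B.2.1 B.2.2 x h2).mpr h1⟩)
        rw [Nat.card_congr (e1.trans (e2.trans e3)), Nat.card_coe_set_eq]
        have h := Set.ncard_sdiff_add_ncard_of_subset (s := (Subgroup.center S : Set S))
          (t := (B.1 : Set S)) hZB
        have hBn : ((B.1 : Subgroup S) : Set S).ncard = Nat.card (Subgroup.center S) * p := by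
          rw [← hBcard]; exact (Nat.card_coe_set_eq _).symm
        rw [hBn, hZn] at h
        exact h
      have htot : Nat.card {b : S // b ∉ Subgroup.center S} + Nat.card (Subgroup.center S) =
          Nat.card (Subgroup.center S) * (p * p) := by
        have h := Set.ncard_add_ncard_compl ((Subgroup.center S : Subgroup S) : Set S)
        have hc : (((Subgroup.center S : Subgroup S) : Set S)ᶜ).ncard =
            Nat.card {b : S // b ∉ Subgroup.center S} := by
          rw [← Nat.card_coe_set_eq]
          exact Nat.card_congr (Equiv.subtypeEquivRight (fun x => by simp))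
        rw [hZn, hc, ← hSZ, hidx2] at h
        rw [add_comm]; exact h
      haveI : Fintype {B : Subgroup S // IsMulCommutative ↥B ∧ B.index = p} := Fintype.ofFinite _
      have hsum : Nat.card {b : S // b ∉ Subgroup.center S} =
          Nat.card {B : Subgroup S // IsMulCommutative ↥B ∧ B.index = p} *
            (Nat.card (Subgroup.center S) * p - Nat.card (Subgroup.center S)) := by
        rw [Nat.card_congr (Equiv.sigmaFiberEquiv β).symm, Nat.card_sigma]
        rw [Finset.sum_congr rfl (fun B _ => Nat.eq_sub_of_add_eq (hfib B))]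
        rw [Finset.sum_const, Finset.card_univ, smul_eq_mul]
        congr 1
        exact Nat.card_eq_fintype_card.symm
      generalize Nat.card {B : Subgroup S // IsMulCommutative ↥B ∧ B.index = p} = N at hsum ⊢
      generalize Nat.card {b : S // b ∉ Subgroup.center S} = T at hsum htot
      generalize Nat.card (Subgroup.center S) = z at hsum htot hzpos
      have hzle : z ≤ z * p := Nat.le_mul_of_pos_right z hp.pos
      obtain ⟨F, hF⟩ : ∃ F, z * p - z = F := ⟨_, rfl⟩
      have hF' : F + z = z * p := by rw [← hF]; exact Nat.sub_add_cancel hzle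
      rw [hF] at hsum
      rw [hsum] at htot
      have e1 : z * (p * p) = p * F + F + z := by
        calc z * (p * p) = p * (z * p) := by ring
          _ = p * (F + z) := by rw [hF']
          _ = p * F + z * p := by ring
          _ = p * F + (F + z) := by rw [hF']
          _ = p * F + F + z := by ring
      have hNF : N * F = (p + 1) * F := by
        rw [add_mul, one_mul]
        have := htot.trans e1
        omega
      have hFpos : 0 < F := by
        have h2 := hp.two_le
        have : z * 2 ≤ z * p := Nat.mul_le_mul_left z h2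
        omega
      exact Nat.eq_of_mul_eq_mul_right hFpos hNF
  · right
    have hj2 : 2 ≤ j := by omega
    have hpj : p ^ 2 ≤ p ^ j := Nat.pow_le_pow_right hp.pos hj2
    refine ⟨by rw [hj]; exact hpj, ?_⟩
    intro B hB hBi
    have hBc := comm_of B hB
    by_contra hne
    have hBA : ¬ B ≤ A := by
      intro hle
      have h1 := Subgroup.relIndex_mul_index hle
      rw [hAi, hBi] at h1
      have h2 : B.relIndex A = 1 := Nat.eq_of_mul_eq_mul_right hp.pos (by rw [h1, one_mul])
      rw [Subgroup.relIndex_eq_one] at h2
      exact hne (le_antisymm hle h2)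
    obtain ⟨b, hb, hbA⟩ := SetLike.not_le_iff_exists.mp hBA
    have hinf : A ⊓ B ≤ Subgroup.center S := by
      intro x hx
      rw [Subgroup.mem_inf] at hx
      exact mem_center_of_comm hp A hAc hAi hx.1 hbA (hBc x hx.2 b hb)
    have h1 : (Subgroup.center S).index ∣ (A ⊓ B).index := Subgroup.index_dvd_of_le hinf
    have h2 : (A ⊓ B).index ≤ A.index * B.index := Subgroup.index_inf_le
    rw [hAi, hBi] at h2
    have h3 : (Subgroup.center S).index ≤ p * p :=
      (Nat.le_of_dvd (Nat.pos_of_ne_zero Subgroup.index_ne_zero_of_finite) h1).trans h2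
    rw [hidx, hj] at h3
    have h4 : p * p ^ 2 ≤ p * p := (Nat.mul_le_mul_left p hpj).trans h3
    have h5 : p ^ 2 ≤ p := Nat.le_of_mul_le_mul_left h4 hp.pos
    have h6 := hp.two_le
    nlinarith

end Cfsg.Agent.S3807
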