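import Cfsg.Statements.S3808
import Mathlib
import Cfsg.Agent.Lib.Helper20.ESpecial

set_option autoImplicit false
open Cfsg

namespace Cfsg.Agent.S3808

open Cfsg.Agent.Lib.Helper20.ESpecial

theorem center_inf {S : Type*} [Group S] [Finite S] (p : ℕ) [Fact p.Prime] (hS : IsPGroup p S)
    (Q : Subgroup S) (hQ : Cfsg.IsExtraspecial p ↥Q) (hQi : Q.index = p) :
    (Subgroup.center ↥Q).map Q.subtype ≤ Subgroup.center S ∧
      Subgroup.center S ⊓ Q = (Subgroup.center ↥Q).map Q.subtype ∧
      Nat.card ((Subgroup.center ↥Q).map Q.subtype) = p := by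
  have hQn : Q.Normal := normal_of_index_prime hS Q hQi
  have hZn : ((Subgroup.center ↥Q).map Q.subtype).Normal := center_map_normal Q
  have hZcard : Nat.card ((Subgroup.center ↥Q).map Q.subtype) = p := by
    rw [Subgroup.card_subtype]
    exact hQ.2
  have hZle := le_center_of_normal_card_prime hS _ hZcard
  refine ⟨hZle, ?_, hZcard⟩
  apply le_antisymm
  · intro x hx
    rw [mem_center_map_iff]
    exact ⟨hx.2, fun q _ => Subgroup.mem_center_iff.mp hx.1 q⟩
  · exact le_inf hZle (Subgroup.map_subtype_le _)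

theorem result {S : Type*} [Group S] [Finite S] (p : ℕ) [Fact p.Prime] (hS : IsPGroup p S) (Q : Subgroup S) (hQ : Cfsg.IsExtraspecial p ↥Q) (hQi : Q.index = p) :
    Subgroup.center S = (Subgroup.center ↥Q).map Q.subtype ∨
      (Q ⊔ Subgroup.center S = ⊤ ∧ Nat.card (Subgroup.center S) = p ^ 2) := by
  have hp : p.Prime := Fact.out
  obtain ⟨hZle, hinf, hZcard⟩ := center_inf p hS Q hQ hQi
  by_cases h : Subgroup.center S ≤ Q
  · left
    rw [← hinf, inf_of_le_left h]
  · right
    obtain ⟨x, hxZ, hxQ⟩ := SetLike.not_le_iff_exists.mp h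
    have htop : Q ⊔ Subgroup.center S = ⊤ :=
      eq_top_of_index_prime le_sup_left (hQi ▸ hp) (Subgroup.mem_sup_right hxZ) hxQ
    refine ⟨htop, ?_⟩
    have h1 := Cfsg.Agent.Lib.Helper4.Card.card_mul_set Q (Subgroup.center S)
    rw [← Subgroup.mul_normal Q (Subgroup.center S)] at h1
    have h5 : Nat.card ↥(Q ⊔ Subgroup.center S) =
        Nat.card ((↑(Q ⊔ Subgroup.center S) : Set S)) := rfl
    rw [← h5, htop, Subgroup.card_top, inf_comm, hinf, hZcard] at h1
    have e1 := Subgroup.card_mul_index Q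
    rw [hQi] at e1
    have hQpos : 0 < Nat.card Q := Nat.card_pos
    apply Nat.eq_of_mul_eq_mul_left hQpos
    rw [← h1, ← e1]
    ring

end Cfsg.Agent.S3808
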