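import Cfsg.Statements.S3809
import Mathlib
import Cfsg.Agent.Lib.Helper20.ESpecial
import Cfsg.Agent.S3808

set_option autoImplicit false
open Cfsg

namespace Cfsg.Agent.S3809

open Cfsg.Agent.Lib.Helper20.ESpecial

theorem result {S : Type*} [Group S] [Finite S] (p : ℕ) [Fact p.Prime] (hS : IsPGroup p S) (Q : Subgroup S) (hQ : Cfsg.IsExtraspecial p ↥Q) (hQi : Q.index = p) :
    (∃ n : ℕ, 1 ≤ n ∧ Nat.card S = p ^ (2 + 2 * n)) ∧ derivedSeries S 3 = ⊥ ∧ ∀ x : S, x ^ (p ^ 3) = 1 := by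
  have hp : p.Prime := Fact.out
  obtain ⟨hZle, hinf, hZcard⟩ := Cfsg.Agent.S3808.center_inf p hS Q hQ hQi
  have hco : IsCoatom Q := isCoatom_of_index_prime (hQi ▸ hp)
  have hpc := Cfsg.Agent.S3772.pgroup_coatom hS Q hco
  refine ⟨?_, ?_, ?_⟩
  · obtain ⟨k, hk1, hk⟩ := card_of_isExtraspecial hQ
    refine ⟨k, hk1, ?_⟩
    rw [← Subgroup.card_mul_index Q, hQi, hk]
    ring
  · have h1 : derivedSeries S 1 ≤ Q := by
      rw [derivedSeries_succ, derivedSeries_zero, Subgroup.commutator_le]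
      intro a _ b _
      exact hpc.2 a b
    have h2 : derivedSeries S 2 ≤ (Subgroup.center ↥Q).map Q.subtype := by
      rw [derivedSeries_succ, Subgroup.commutator_le]
      intro a ha b hb
      have hc := comm_mem_center hQ.1.2.2 ⟨a, h1 ha⟩ ⟨b, h1 hb⟩
      exact ⟨_, hc, rfl⟩
    rw [derivedSeries_succ, eq_bot_iff, Subgroup.commutator_le]
    intro a ha b hb
    rw [Subgroup.mem_bot, commutatorElement_eq_one_iff_commute]
    exact Subgroup.mem_center_iff.mp (hZle (h2 hb)) a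
  · intro x
    have h1 : x ^ p ∈ Q := hpc.1 x
    have h2 := pow_pow_eq_one_of_isExtraspecial hQ ⟨x ^ p, h1⟩
    have h3 := congrArg Subtype.val h2
    simp only [Subgroup.coe_pow, Subgroup.coe_one] at h3
    rw [pow_succ, pow_succ, pow_one, pow_mul, pow_mul, h3]

end Cfsg.Agent.S3809
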