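import Cfsg.Statements.S3810
import Mathlib
import Cfsg.Agent.Lib.Helper20.ESpecial
import Cfsg.Agent.S3808

set_option autoImplicit false
open Cfsg

namespace Cfsg.Agent.S3810

open Cfsg.Agent.Lib.Helper20.ESpecial

theorem card_of_abelian_index {Q : Type*} [Group Q] [Finite Q] {p : ℕ} [Fact p.Prime]
    (hQ : IsPGroup p Q) (hZ : Nat.card (Subgroup.center Q) = p)
    (hcomm : commutator Q = Subgroup.center Q) (B : Subgroup Q) (hB : IsMulCommutative B)
    (hBi : B.index = p) : Nat.card Q = p ^ 3 := by
  have hp : p.Prime := Fact.out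
  have hnc := center_ne_top_of_comm hZ hcomm
  have hcommel := comm_mem_center hcomm
  have hBcomm : ∀ a ∈ B, ∀ b ∈ B, a * b = b * a :=
    fun a ha b hb => congrArg Subtype.val (hB.is_comm.comm ⟨a, ha⟩ ⟨b, hb⟩)
  have hZB : Subgroup.center Q ≤ B := by
    by_contra hcon
    obtain ⟨z, hz, hzB⟩ := SetLike.not_le_iff_exists.mp hcon
    have htop : B ⊔ Subgroup.center Q = ⊤ :=
      eq_top_of_index_prime le_sup_left (hBi ▸ hp) (Subgroup.mem_sup_right hz) hzB
    have hBZ : B ≤ Subgroup.center Q := by
      intro b hb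
      rw [Subgroup.mem_center_iff]
      intro g
      have hg : g ∈ B ⊔ Subgroup.center Q := htop ▸ Subgroup.mem_top g
      have hle : B ⊔ Subgroup.center Q ≤ Subgroup.centralizer ({b} : Set Q) := by
        apply sup_le
        · intro a ha
          rw [Subgroup.mem_centralizer_singleton_iff]
          exact hBcomm a ha b hb
        · exact Subgroup.center_le_centralizer _
      exact Subgroup.mem_centralizer_singleton_iff.mp (hle hg)
    apply hnc
    rw [← htop]
    exact (sup_eq_right.mpr hBZ).symm
  obtain ⟨g, hg⟩ : ∃ g : Q, g ∉ B := by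
    by_contra hcon
    push Not at hcon
    have : B = ⊤ := eq_top_iff.mpr fun y _ => hcon y
    rw [this, Subgroup.index_top] at hBi
    exact hp.one_lt.ne hBi
  have hgc : g ∉ Subgroup.center Q := fun h => hg (hZB h)
  have hCi := index_centralizer_eq_prime (Subgroup.center Q) hZ le_rfl g
    (fun a => hcommel a g) hgc
  have hBC : B ⊓ Subgroup.centralizer ({g} : Set Q) ≤ Subgroup.center Q := by
    intro b hb
    have hle : B ≤ Subgroup.centralizer ({b} : Set Q) := by
      intro a ha
      rw [Subgroup.mem_centralizer_singleton_iff]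
      exact hBcomm a ha b hb.1
    have hgb : g ∈ Subgroup.centralizer ({b} : Set Q) := by
      rw [Subgroup.mem_centralizer_singleton_iff]
      exact (Subgroup.mem_centralizer_singleton_iff.mp hb.2).symm
    have htop := eq_top_of_index_prime hle (hBi ▸ hp) hgb hg
    rw [Subgroup.mem_center_iff]
    intro a
    have : a ∈ Subgroup.centralizer ({b} : Set Q) := htop ▸ Subgroup.mem_top a
    exact Subgroup.mem_centralizer_singleton_iff.mp this
  have h1 : Nat.card ↥(B ⊓ Subgroup.centralizer ({g} : Set Q)) ≤ p :=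
    hZ ▸ Subgroup.card_le_of_le hBC
  have h2 := Cfsg.Agent.Lib.Helper4.Card.card_mul_card_le B (Subgroup.centralizer ({g} : Set Q))
  have h3 : Nat.card ↥(B ⊔ Subgroup.centralizer ({g} : Set Q)) ≤ Nat.card Q :=
    Subgroup.card_le_card_group _
  have e1 := Subgroup.card_mul_index B
  have e2 := Subgroup.card_mul_index (Subgroup.centralizer ({g} : Set Q))
  rw [hBi] at e1
  rw [hCi] at e2
  have hQpos : 0 < Nat.card Q := Nat.card_pos
  have hle : Nat.card Q ≤ p ^ 3 := by
    have h4 : Nat.card Q * Nat.card Q ≤ Nat.card Q * p ^ 3 := by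
      calc Nat.card Q * Nat.card Q
          = (Nat.card B * p) * (Nat.card (Subgroup.centralizer ({g} : Set Q)) * p) := by
            rw [e1, e2]
        _ = (Nat.card B * Nat.card (Subgroup.centralizer ({g} : Set Q))) * (p * p) := by ring
        _ ≤ (Nat.card ↥(B ⊔ Subgroup.centralizer ({g} : Set Q)) *
              Nat.card ↥(B ⊓ Subgroup.centralizer ({g} : Set Q))) * (p * p) :=
            Nat.mul_le_mul_right _ h2
        _ ≤ (Nat.card Q * p) * (p * p) := Nat.mul_le_mul_right _ (Nat.mul_le_mul h3 h1)
        _ = Nat.card Q * p ^ 3 := by ring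
    exact Nat.le_of_mul_le_mul_left h4 hQpos
  obtain ⟨m, hm⟩ := IsPGroup.iff_card.mp hQ
  have hm3 : m ≤ 3 := by
    rw [hm] at hle
    exact (Nat.pow_le_pow_iff_right hp.one_lt).mp hle
  have hm3' : 3 ≤ m := by
    by_contra hlt
    push Not at hlt
    apply hnc
    have hcm : IsMulCommutative Q := by
      interval_cases m
      · have : Subsingleton Q := (Nat.card_eq_one_iff_unique.mp (by simpa using hm)).1
        exact ⟨⟨fun a b => by rw [Subsingleton.elim a b]⟩⟩
      · have : IsCyclic Q := isCyclic_of_prime_card (p := p) (by simpa using hm)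
        infer_instance
      · exact IsPGroup.isMulCommutative_of_card_eq_prime_sq hm
    rw [eq_top_iff]
    intro z _
    rw [Subgroup.mem_center_iff]
    intro a
    exact hcm.is_comm.comm a z
  have hm' : m = 3 := le_antisymm hm3 hm3'
  rw [hm, hm']

theorem result {S : Type*} [Group S] [Finite S] (p : ℕ) [Fact p.Prime] (hS : IsPGroup p S) (Q : Subgroup S) (hQ : Cfsg.IsExtraspecial p ↥Q) (hQi : Q.index = p) :
    (∃ A : Subgroup S, IsMulCommutative ↥A ∧ A.index = p) ↔ Nat.card S = p ^ 4 := by
  have hp : p.Prime := Fact.out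
  constructor
  · rintro ⟨A, hA, hAi⟩
    have hAn : A.Normal := normal_of_index_prime hS A hAi
    have hBc : IsMulCommutative (A.subgroupOf Q) := inferInstance
    have hdvd : A.relIndex Q ∣ p := hAi ▸ Subgroup.relIndex_dvd_index_of_normal A Q
    have hBi : (A.subgroupOf Q).index = p := by
      rcases (Nat.dvd_prime hp).mp hdvd with h | h
      · exfalso
        have hQA : Q ≤ A := Subgroup.relIndex_eq_one.mp h
        apply center_ne_top_of_comm hQ.2 hQ.1.2.2
        rw [eq_top_iff]
        intro z _
        rw [Subgroup.mem_center_iff]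
        intro a
        apply Subtype.ext
        have := hA.is_comm.comm ⟨a, hQA a.2⟩ ⟨z, hQA z.2⟩
        have h' : (a : S) * (z : S) = (z : S) * (a : S) := congrArg Subtype.val this
        exact h'
      · exact h
    have hcardQ := card_of_abelian_index hQ.1.1 hQ.2 hQ.1.2.2 (A.subgroupOf Q) hBc hBi
    rw [← Subgroup.card_mul_index Q, hQi, hcardQ]
    ring
  · intro hcard
    obtain ⟨hZle, hinf, hZcard⟩ := Cfsg.Agent.S3808.center_inf p hS Q hQ hQi
    have hQn : Q.Normal := normal_of_index_prime hS Q hQi
    have hZn : ((Subgroup.center ↥Q).map Q.subtype).Normal := center_map_normal Q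
    obtain ⟨Z, hZdef⟩ : ∃ Z : Subgroup S, Z = (Subgroup.center ↥Q).map Q.subtype := ⟨_, rfl⟩
    rw [← hZdef] at hZle hinf hZcard hZn
    have hcardQ : Nat.card Q = p ^ 3 := by
      have e := Subgroup.card_mul_index Q
      rw [hQi, hcard] at e
      apply Nat.eq_of_mul_eq_mul_right hp.pos
      rw [e]
      ring
    have hW : Q.map (QuotientGroup.mk' Z) ≠ ⊥ := by
      intro h
      rw [Subgroup.map_eq_bot_iff, QuotientGroup.ker_mk'] at h
      have h1 := Subgroup.card_le_of_le h
      rw [hcardQ, hZcard] at h1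
      have h2 : p ^ 1 < p ^ 3 := Nat.pow_lt_pow_right hp.one_lt (by norm_num)
      rw [pow_one] at h2
      omega
    have hWn : (Q.map (QuotientGroup.mk' Z)).Normal :=
      hQn.map _ (QuotientGroup.mk'_surjective Z)
    obtain ⟨w, hwW, hw1, hwc⟩ := Cfsg.Agent.S3190.normal_pgroup_fixed (⊤ : Subgroup (S ⧸ Z))
      (Q.map (QuotientGroup.mk' Z)) ((hS.to_quotient Z).to_subgroup ⊤) le_top
      (fun g _ w hw => hWn.conj_mem w hw g) hW
    obtain ⟨x, hxQ, rfl⟩ := hwW
    have hxZ : x ∉ Z := fun h => hw1 ((QuotientGroup.eq_one_iff x).mpr h)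
    have hcomm : ∀ g : S, g * x * g⁻¹ * x⁻¹ ∈ Z := by
      intro g
      rw [← QuotientGroup.eq_one_iff]
      have h' : (QuotientGroup.mk g : S ⧸ Z) * QuotientGroup.mk x =
          QuotientGroup.mk x * QuotientGroup.mk g := hwc (QuotientGroup.mk g) (Subgroup.mem_top _)
      simp only [QuotientGroup.mk_mul, QuotientGroup.mk_inv]
      rw [h']
      group
    have hxc : x ∉ Subgroup.center S := fun h => hxZ (hinf ▸ ⟨h, hxQ⟩)
    have hAi := index_centralizer_eq_prime Z hZcard hZle x hcomm hxc
    refine ⟨Subgroup.centralizer ({x} : Set S), ?_, hAi⟩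
    obtain ⟨A, hAdef⟩ : ∃ A : Subgroup S, A = Subgroup.centralizer ({x} : Set S) := ⟨_, rfl⟩
    rw [← hAdef] at hAi ⊢
    have hcardA : Nat.card A = p ^ 3 := by
      have e := Subgroup.card_mul_index A
      rw [hAi, hcard] at e
      apply Nat.eq_of_mul_eq_mul_right hp.pos
      rw [e]
      ring
    have hxA : x ∈ A := by rw [hAdef, Subgroup.mem_centralizer_singleton_iff]
    have hZA : Z ≤ A := by
      rw [hAdef]
      exact hZle.trans (Subgroup.center_le_centralizer _)
    have hK : (Z ⊔ Subgroup.zpowers x).subgroupOf A ≤ Subgroup.center ↥A := by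
      intro a ha
      rw [Subgroup.mem_subgroupOf] at ha
      rw [Subgroup.mem_center_iff]
      rintro ⟨b, hb⟩
      apply Subtype.ext
      have hb' : b ∈ Subgroup.centralizer ({x} : Set S) := hAdef ▸ hb
      have hle : Z ⊔ Subgroup.zpowers x ≤ Subgroup.centralizer ({b} : Set S) := by
        apply sup_le
        · exact hZle.trans (Subgroup.center_le_centralizer _)
        · rw [Subgroup.zpowers_le, Subgroup.mem_centralizer_singleton_iff]
          exact (Subgroup.mem_centralizer_singleton_iff.mp hb').symm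
      have := Subgroup.mem_centralizer_singleton_iff.mp (hle ha)
      exact this.symm
    have hKcard : p ^ 2 ≤ Nat.card (Subgroup.center ↥A) := by
      have h1 : Nat.card ((Z ⊔ Subgroup.zpowers x).subgroupOf A) =
          Nat.card ↥(Z ⊔ Subgroup.zpowers x) :=
        Nat.card_congr (Subgroup.subgroupOfEquivOfLe
          (sup_le hZA (Subgroup.zpowers_le.mpr hxA))).toEquiv
      have h2 := Subgroup.card_le_of_le hK
      rw [h1] at h2
      refine le_trans ?_ h2
      obtain ⟨j, hj⟩ := IsPGroup.iff_card.mp (hS.to_subgroup (Z ⊔ Subgroup.zpowers x))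
      rw [hj]
      apply Nat.pow_le_pow_right hp.pos
      by_contra hlt
      push Not at hlt
      have h3 : Nat.card ↥(Z ⊔ Subgroup.zpowers x) ≤ Nat.card Z := by
        rw [hj, hZcard]
        calc p ^ j ≤ p ^ 1 := Nat.pow_le_pow_right hp.pos (by omega)
          _ = p := pow_one p
      have h4 := Subgroup.eq_of_le_of_card_ge (le_sup_left : Z ≤ Z ⊔ Subgroup.zpowers x) h3
      exact hxZ (h4 ▸ Subgroup.mem_sup_right (Subgroup.mem_zpowers x))
    have hidx : (Subgroup.center ↥A).index = 1 ∨ (Subgroup.center ↥A).index = p := by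
      have e := Subgroup.card_mul_index (Subgroup.center ↥A)
      rw [hcardA] at e
      have hdvd : (Subgroup.center ↥A).index ∣ p ^ 3 := ⟨_, by rw [← e, mul_comm]⟩
      obtain ⟨i, hi3, hi⟩ := (Nat.dvd_prime_pow hp).mp hdvd
      have hi1 : i ≤ 1 := by
        by_contra hlt
        push Not at hlt
        have h5 : p ^ 2 ≤ (Subgroup.center ↥A).index := by
          rw [hi]
          exact Nat.pow_le_pow_right hp.pos hlt
        have h6 : p ^ 2 * p ^ 2 ≤ p ^ 3 := by
          rw [← e]
          exact Nat.mul_le_mul hKcard h5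
        have h7 : p ^ 3 < p ^ 4 := Nat.pow_lt_pow_right hp.one_lt (by norm_num)
        have h8 : p ^ 2 * p ^ 2 = p ^ 4 := by ring
        omega
      interval_cases i
      · left
        simpa using hi
      · right
        simpa using hi
    have hcyc : IsCyclic (↥A ⧸ Subgroup.center ↥A) := by
      rcases hidx with h | h
      · have : Subsingleton (↥A ⧸ Subgroup.center ↥A) := by
          rw [Subgroup.index_eq_card] at h
          exact (Nat.card_eq_one_iff_unique.mp h).1
        infer_instance
      · rw [Subgroup.index_eq_card] at h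
        exact isCyclic_of_prime_card h
    exact (QuotientGroup.mk' (Subgroup.center ↥A)).isMulCommutative_of_isCyclic_of_ker_le_center
      (by rw [QuotientGroup.ker_mk'])

end Cfsg.Agent.S3810
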