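import Cfsg.Statements.S3819
import Cfsg.Agent.Lib.Helper9.NormComp
import Cfsg.Agent.Lib.Helper12.Balance
import Cfsg.Agent.S0022

set_option autoImplicit false
open Cfsg

namespace Cfsg.Agent.S3819

open Subgroup Cfsg.Agent.Lib.Helper9
open scoped commutatorElement Pointwise

universe u

theorem eq_one_of_pow_of_pow {X : Type*} [Group X] {x : X} {m n : ℕ} (h1 : x ^ m = 1)
    (h2 : x ^ n = 1) (h : m.Coprime n) : x = 1 := by
  have h3 : orderOf x ∣ Nat.gcd m n :=
    Nat.dvd_gcd (orderOf_dvd_of_pow_eq_one h1) (orderOf_dvd_of_pow_eq_one h2)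
  rw [h.gcd_eq_one, Nat.dvd_one] at h3
  exact orderOf_eq_one_iff.mp h3

/-- The core of the argument, with the quotient map abstracted. -/
theorem main' {G Gb : Type u} [Group G] [Finite G] [Group Gb] [Finite Gb] {q : ℕ} [Fact q.Prime]
    (π : G →* Gb) (hπs : Function.Surjective π) (hRbar : pPrimeCore q Gb = ⊥)
    (hRc : (Nat.card ↥π.ker).Coprime q)
    (H L P : Subgroup G) [hHn : H.Normal] [hLn : L.Normal] (hLH : L ≤ H)
    (hLs : Group.IsSolvable ↥L) (hPH : H ⊔ P = ⊤)
    (hlift : ∀ h ∈ H, ∃ l ∈ L, h * l ∈ centralizer (P : Set G))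
    (z : G) (hzH : z ∈ H) (kz : ℕ) (hkz : orderOf z = q ^ kz)
    (K : Subgroup G) (hK : K ≤ H ⊓ centralizer ({z} : Set G)) (hKc : (Nat.card K).Coprime q)
    (hKn : H ⊓ centralizer ({z} : Set G) ≤ normalizer (K : Set G))
    (hKP : P ≤ normalizer (K : Set G)) (hKPL : ⁅K, P⁆ ≤ L)
    (E : Subgroup G) (hE : E ≤ H ⊓ centralizer (P : Set G)) (hEc : (Nat.card E).Coprime q)
    (hEn : H ⊓ centralizer (P : Set G) ≤ normalizer (E : Set G)) :
    (K ⊓ E) ⊔ ⁅K, P⁆ ≤ π.ker := by
  have hq : q.Prime := Fact.out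
  haveI hLbn : (L.map π).Normal := Subgroup.Normal.map hLn π hπs
  haveI hLbs : Group.IsSolvable ↥(L.map π) :=
    solvable_of_surjective (MonoidHom.subgroupMap_surjective π L)
  have hLbO : pPrimeCore q ↥(L.map π) = ⊥ := by
    have h1 := pPrimeCore_subtype_eq_inf q (L.map π)
    rw [hRbar, bot_inf_eq] at h1
    exact (Subgroup.map_eq_bot_iff_of_injective _ (Subgroup.subtype_injective _)).mp h1
  have hHH := Cfsg.Agent.Lib.Helper12.Balance.hh_solvable ↥(L.map π) q hLbO
  obtain ⟨Qb, hQbdef⟩ : ∃ Qb : Subgroup Gb,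
      Qb = (pCore q ↥(L.map π)).map (L.map π).subtype := ⟨_, rfl⟩
  have hQbp : IsPGroup q ↥Qb := by
    rw [hQbdef]; exact (pCore_isPGroup q ↥(L.map π)).map _
  haveI hQbn : Qb.Normal := by
    rw [hQbdef, pCore_subtype_eq_inf q (L.map π)]
    haveI := pCore_characteristic q Gb
    infer_instance
  have hQbL : Qb ≤ L.map π := by rw [hQbdef]; exact Subgroup.map_subtype_le _
  have hCQ : ∀ y ∈ L.map π, (∀ x ∈ Qb, y * x = x * y) → y ∈ Qb := by
    intro y hy hc
    have h1 : (⟨y, hy⟩ : ↥(L.map π)) ∈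
        centralizer (pCore q ↥(L.map π) : Set ↥(L.map π)) := by
      rw [Subgroup.mem_centralizer_iff]
      intro w hw
      apply Subtype.ext
      have h2 : (w : Gb) ∈ Qb := by rw [hQbdef]; exact Subgroup.mem_map_of_mem _ hw
      exact (hc _ h2).symm
    have h3 := hHH h1
    rw [hQbdef]
    exact ⟨⟨y, hy⟩, h3, rfl⟩
  have hzK : ∀ k ∈ K, k * z = z * k := fun k hk =>
    Subgroup.mem_centralizer_singleton_iff.mp (hK hk).2
  have hcardA : Nat.card ↥(zpowers z) = q ^ kz := by rw [Nat.card_zpowers, hkz]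
  have hAs : Group.IsSolvable ↥(zpowers z) := isSolvable_of_comm (fun a b => by
    obtain ⟨a, ha⟩ := a
    obtain ⟨b, hb⟩ := b
    obtain ⟨i, rfl⟩ := Subgroup.mem_zpowers_iff.mp ha
    obtain ⟨j, rfl⟩ := Subgroup.mem_zpowers_iff.mp hb
    apply Subtype.ext
    show z ^ i * z ^ j = z ^ j * z ^ i
    rw [← zpow_add, ← zpow_add, add_comm])
  have hdisj : ∀ w ∈ zpowers z, w ∈ π.ker → w = 1 := by
    intro w hw1 hw2
    have h1 : w ^ (q ^ kz) = 1 := by
      rw [← hcardA]
      exact orderOf_dvd_iff_pow_eq_one.mp (Subgroup.orderOf_dvd_natCard _ hw1)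
    have h2 : w ^ (Nat.card ↥π.ker) = 1 :=
      orderOf_dvd_iff_pow_eq_one.mp (Subgroup.orderOf_dvd_natCard _ hw2)
    exact eq_one_of_pow_of_pow h2 h1 (Nat.Coprime.pow_right kz hRc)
  -- Step A: `K` centralizes `Qb` modulo the kernel
  have hA : ∀ k ∈ K, ∀ x ∈ Qb, π k * x = x * π k := by
    intro k hk
    have hko : (orderOf (π k)).Coprime q :=
      Nat.Coprime.coprime_dvd_left
        ((orderOf_map_dvd π k).trans (Subgroup.orderOf_dvd_natCard K hk)) hKc
    have hB : IsPGroup q ↥(zpowers (π z)) := by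
      have h1 : orderOf (π z) ∣ q ^ kz := by rw [← hkz]; exact orderOf_map_dvd π z
      obtain ⟨j, _, hj⟩ := (Nat.dvd_prime_pow hq).mp h1
      apply IsPGroup.of_card (n := j)
      rw [Nat.card_zpowers, hj]
    have hab : ∀ b ∈ zpowers (π z), π k * b = b * π k := by
      intro b hb
      obtain ⟨i, rfl⟩ := Subgroup.mem_zpowers_iff.mp hb
      have h1 : Commute (π k) (π z) := by
        show π k * π z = π z * π k
        rw [← map_mul, ← map_mul, hzK k hk]
      exact (h1.zpow_right i).eq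
    refine thompson_AxB hko hB hQbp hab ?_ ?_ ?_
    · rw [Subgroup.normalizer_eq_top]; exact Subgroup.mem_top _
    · rw [Subgroup.normalizer_eq_top]; exact le_top
    · intro x hx hxB
      obtain ⟨u, huL, rfl⟩ := hQbL hx
      have hxz : π z * π u = π u * π z := hxB _ (Subgroup.mem_zpowers _)
      have huH : u ∈ H := hLH huL
      have hAD : zpowers z ≤ normalizer ((π.ker ⊓ H : Subgroup G) : Set G) := by
        rw [Subgroup.normalizer_eq_top]; exact le_top
      have hcop : (Nat.card ↥(π.ker ⊓ H : Subgroup G)).Coprime (Nat.card ↥(zpowers z)) := by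
        rw [hcardA]
        exact Nat.Coprime.pow_right kz
          (Nat.Coprime.coprime_dvd_left (Subgroup.card_dvd_of_le inf_le_left) hRc)
      have hx' : ∀ a ∈ zpowers z, u⁻¹ * a * u * a⁻¹ ∈ (π.ker ⊓ H : Subgroup G) := by
        intro a ha
        refine Subgroup.mem_inf.mpr ⟨?_, ?_⟩
        · rw [MonoidHom.mem_ker]
          obtain ⟨i, rfl⟩ := Subgroup.mem_zpowers_iff.mp ha
          have h1 : Commute (π u) (π z) := hxz.symm
          have h2 := (h1.zpow_right i).eq
          rw [map_mul, map_mul, map_mul, map_inv, map_inv, map_zpow, mul_assoc _ _ (π u), ← h2]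
          group
        · have haH : a ∈ H := (Subgroup.zpowers_le.mpr hzH) ha
          exact H.mul_mem (H.mul_mem (H.mul_mem (H.inv_mem huH) haH) huH) (H.inv_mem haH)
      obtain ⟨d, hd, hconj⟩ := Cfsg.Agent.Lib.Helper10.Coprime.key_lemma (π.ker ⊓ H)
        (zpowers z) hAD hcop (Or.inr hAs) u hx'
      have hmkd : π d = 1 := MonoidHom.mem_ker.mp hd.1
      have hcz : (u * d) * z = z * (u * d) := by
        have h1 : (u * d) * z * (u * d)⁻¹ * z⁻¹ = 1 := by
          apply hdisj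
          · exact Subgroup.mul_mem _
              (Cfsg.Agent.Lib.Helper10.Coprime.conj_mem_of_smul_eq hconj (Subgroup.mem_zpowers z))
              (Subgroup.inv_mem _ (Subgroup.mem_zpowers z))
          · rw [MonoidHom.mem_ker]
            simp only [map_mul, map_inv, hmkd, mul_one]
            rw [← hxz]
            group
        have h2 : (u * d) * z * (u * d)⁻¹ = z := mul_inv_eq_one.mp h1
        exact mul_inv_eq_iff_eq_mul.mp h2
      have hcH : u * d ∈ H ⊓ centralizer ({z} : Set G) :=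
        ⟨H.mul_mem huH hd.2, Subgroup.mem_centralizer_singleton_iff.mpr hcz⟩
      have hcN := hKn hcH
      have hw : (u * d) * k * (u * d)⁻¹ * k⁻¹ ∈ K :=
        K.mul_mem ((Subgroup.mem_normalizer_iff.mp hcN k).mp hk) (K.inv_mem hk)
      have hπw : π ((u * d) * k * (u * d)⁻¹ * k⁻¹) = π u * π k * (π u)⁻¹ * (π k)⁻¹ := by
        simp only [map_mul, map_inv, hmkd, mul_one]
      have hπwQ : π u * π k * (π u)⁻¹ * (π k)⁻¹ ∈ Qb := by
        have h1 : π k * (π u)⁻¹ * (π k)⁻¹ ∈ Qb := hQbn.conj_mem _ (Qb.inv_mem hx) _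
        have h2 := Qb.mul_mem hx h1
        simpa [mul_assoc] using h2
      obtain ⟨n, hn⟩ := hQbp ⟨_, hπwQ⟩
      have hn' : (π u * π k * (π u)⁻¹ * (π k)⁻¹) ^ q ^ n = 1 := congrArg Subtype.val hn
      have hm : (π u * π k * (π u)⁻¹ * (π k)⁻¹) ^ Nat.card K = 1 := by
        rw [← hπw, ← map_pow,
          orderOf_dvd_iff_pow_eq_one.mp (Subgroup.orderOf_dvd_natCard K hw), map_one]
      have h1 := eq_one_of_pow_of_pow hm hn' (Nat.Coprime.pow_right n hKc)
      have h2 : π u * π k * (π u)⁻¹ = π k := mul_inv_eq_one.mp h1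
      have h3 : π u * π k = π k * π u := mul_inv_eq_iff_eq_mul.mp h2
      exact h3.symm
  -- Step B
  have hB : ∀ w ∈ K, w ∈ L → w ∈ π.ker := by
    intro w hwK hwL
    have h1 : π w ∈ Qb := hCQ _ (Subgroup.mem_map_of_mem π hwL) (hA w hwK)
    obtain ⟨n, hn⟩ := hQbp ⟨_, h1⟩
    have hn' : (π w) ^ q ^ n = 1 := congrArg Subtype.val hn
    have hm : (π w) ^ Nat.card K = 1 := by
      rw [← map_pow, orderOf_dvd_iff_pow_eq_one.mp (Subgroup.orderOf_dvd_natCard K hwK), map_one]
    exact MonoidHom.mem_ker.mpr (eq_one_of_pow_of_pow hm hn' (Nat.Coprime.pow_right n hKc))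
  -- Step C
  have hC : ∀ x ∈ K, x ∈ E → x ∈ π.ker := by
    intro x hxK hxE
    obtain ⟨D, hDdef⟩ : ∃ D : Subgroup G, D = E ⊓ (centralizer (Qb : Set Gb)).comap π :=
      ⟨_, rfl⟩
    have hDE : D ≤ E := by rw [hDdef]; exact inf_le_left
    have hDC : ∀ d ∈ D, π d ∈ centralizer (Qb : Set Gb) := by
      intro d hd
      rw [hDdef] at hd
      exact hd.2
    have hDc : ∀ d ∈ D, ∀ t ∈ Qb, t * π d = π d * t := fun d hd t ht =>
      Subgroup.mem_centralizer_iff.mp (hDC d hd) t ht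
    have hxD : x ∈ D := by
      rw [hDdef]
      refine ⟨hxE, ?_⟩
      show π x ∈ centralizer (Qb : Set Gb)
      rw [Subgroup.mem_centralizer_iff]
      intro t ht
      exact (hA x hxK t ht).symm
    have hDcard : (Nat.card D).Coprime q :=
      Nat.Coprime.coprime_dvd_left (Subgroup.card_dvd_of_le hDE) hEc
    have hLD : ∀ l ∈ L, ∀ d ∈ D, π (l * d * l⁻¹) = π d := by
      intro l hl d hd
      have ht1 : π (l * d * l⁻¹ * d⁻¹) ∈ L.map π := by
        apply Subgroup.mem_map_of_mem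
        have h1 : d * l⁻¹ * d⁻¹ ∈ L := hLn.conj_mem _ (L.inv_mem hl) _
        have h2 := L.mul_mem hl h1
        simpa [mul_assoc] using h2
      have hdC := hDC d hd
      have ht2 : π (l * d * l⁻¹ * d⁻¹) ∈ centralizer (Qb : Set Gb) := by
        have h1 : π l * π d * (π l)⁻¹ ∈ centralizer (Qb : Set Gb) :=
          (inferInstance : (centralizer (Qb : Set Gb)).Normal).conj_mem _ hdC _
        have h2 := Subgroup.mul_mem _ h1 (Subgroup.inv_mem _ hdC)
        simpa [map_mul, map_inv] using h2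
      have ht3 : π (l * d * l⁻¹ * d⁻¹) ∈ Qb :=
        hCQ _ ht1 (fun t ht => (Subgroup.mem_centralizer_iff.mp ht2 t ht).symm)
      have hcomm : Commute (π (l * d * l⁻¹ * d⁻¹)) (π d) := hDc d hd _ ht3
      obtain ⟨n, hn⟩ := hQbp ⟨_, ht3⟩
      have hn' : (π (l * d * l⁻¹ * d⁻¹)) ^ q ^ n = 1 := congrArg Subtype.val hn
      have hdn : d ^ Nat.card D = 1 :=
        orderOf_dvd_iff_pow_eq_one.mp (Subgroup.orderOf_dvd_natCard D hd)
      have hsplit : π (l * d * l⁻¹) = π (l * d * l⁻¹ * d⁻¹) * π d := by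
        rw [← map_mul]; congr 1; group
      have hm : (π (l * d * l⁻¹ * d⁻¹)) ^ Nat.card D = 1 := by
        have h2 : (π (l * d * l⁻¹)) ^ Nat.card D = 1 := by
          rw [← map_pow, conj_pow, hdn, mul_one, mul_inv_cancel, map_one]
        rw [hsplit, hcomm.mul_pow, ← map_pow π d, hdn, map_one, mul_one] at h2
        exact h2
      have h1 := eq_one_of_pow_of_pow hm hn' (Nat.Coprime.pow_right n hDcard)
      rw [hsplit, h1, one_mul]
    have hDbn : (D.map π).Normal := by
      constructor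
      intro n hn g
      obtain ⟨d, hd, rfl⟩ := hn
      obtain ⟨g0, rfl⟩ := hπs g
      have hg0 : g0 ∈ ((H ⊔ P : Subgroup G) : Set G) := by rw [hPH]; exact Set.mem_univ _
      rw [Subgroup.normal_mul, Set.mem_mul] at hg0
      obtain ⟨h, hh, y, hy, rfl⟩ := hg0
      obtain ⟨l, hl, hc⟩ := hlift h hh
      have hcHP : h * l ∈ H ⊓ centralizer (P : Set G) := ⟨H.mul_mem hh (hLH hl), hc⟩
      have hyd : y * d * y⁻¹ = d := by
        have h1 : y * d = d * y := Subgroup.mem_centralizer_iff.mp (hE (hDE hd)).2 y hy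
        rw [h1, mul_inv_cancel_right]
      have hcd : (h * l) * d * (h * l)⁻¹ ∈ D := by
        have hdC : d ∈ (centralizer (Qb : Set Gb)).comap π := hDC d hd
        rw [hDdef]
        refine ⟨(Subgroup.mem_normalizer_iff.mp (hEn hcHP) d).mp (hDE hd), ?_⟩
        exact (inferInstance : ((centralizer (Qb : Set Gb)).comap π).Normal).conj_mem _ hdC _
      refine ⟨(h * l) * d * (h * l)⁻¹, hcd, ?_⟩
      have h1 : (h * y) * d * (h * y)⁻¹ = (h * l) * (l⁻¹ * d * (l⁻¹)⁻¹) * (h * l)⁻¹ := by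
        have h0 : (h * y) * d * (h * y)⁻¹ = h * (y * d * y⁻¹) * h⁻¹ := by group
        rw [h0, hyd]; group
      have h2 := hLD l⁻¹ (L.inv_mem hl) d hd
      calc π ((h * l) * d * (h * l)⁻¹) = π (h * l) * π d * (π (h * l))⁻¹ := by
            simp only [map_mul, map_inv]
        _ = π (h * l) * π (l⁻¹ * d * (l⁻¹)⁻¹) * (π (h * l))⁻¹ := by rw [h2]
        _ = π ((h * l) * (l⁻¹ * d * (l⁻¹)⁻¹) * (h * l)⁻¹) := by simp only [map_mul, map_inv]
        _ = π ((h * y) * d * (h * y)⁻¹) := by rw [h1]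
        _ = π (h * y) * π d * (π (h * y))⁻¹ := by simp only [map_mul, map_inv]
    have hDbc : (Nat.card ↥(D.map π)).Coprime q :=
      Nat.Coprime.coprime_dvd_left
        (Subgroup.card_dvd_of_surjective _ (MonoidHom.subgroupMap_surjective π D)) hDcard
    have h1 := le_pPrimeCore hDbn hDbc
    rw [hRbar] at h1
    have h2 : π x ∈ D.map π := Subgroup.mem_map_of_mem π hxD
    exact MonoidHom.mem_ker.mpr (Subgroup.mem_bot.mp (h1 h2))
  refine sup_le ?_ ?_
  · intro x hx
    exact hC x hx.1 hx.2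
  · intro w hw
    have h1 : ⁅K, P⁆ ≤ K :=
      Cfsg.Agent.Lib.Helper10.Coprime.commutator_le_of_le_normalizer K P hKP
    exact hB w (h1 hw) (hKPL hw)

/-- Let G be a finite group with Sylow p-subgroup P and H = O_{p'}(G), and suppose G = PH and the commutator subgroup [H, P] is solvable. Let q be a prime and z an element of q-power order of C_H(P). Then (O_{q'}(C_H(z)) ∩ O_{q'}(C_H(P))) · [O_{q'}(C_H(z)), P] ≤ O_{q'}(H). -/
theorem result {G : Type*} [Group G] [Finite G] {p : ℕ} [Fact p.Prime]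
    (P : Sylow p G) (hPH : Cfsg.pPrimeCore p G ⊔ (P : Subgroup G) = ⊤)
    (hsol : Group.IsSolvable ↥⁅Cfsg.pPrimeCore p G, (P : Subgroup G)⁆)
    {q : ℕ} [Fact q.Prime] (z : G) (hzH : z ∈ Cfsg.pPrimeCore p G) (hzP : z ∈ Subgroup.centralizer ((P : Subgroup G) : Set G))
    (hz : ∃ k : ℕ, orderOf z = q ^ k) :
    ((Cfsg.pPrimeCore q ↥(Cfsg.pPrimeCore p G ⊓ Subgroup.centralizer ({z} : Set G))).map
        (Cfsg.pPrimeCore p G ⊓ Subgroup.centralizer ({z} : Set G)).subtype ⊓
      (Cfsg.pPrimeCore q ↥(Cfsg.pPrimeCore p G ⊓ Subgroup.centralizer ((P : Subgroup G) : Set G))).map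
        (Cfsg.pPrimeCore p G ⊓ Subgroup.centralizer ((P : Subgroup G) : Set G)).subtype) ⊔
    ⁅(Cfsg.pPrimeCore q ↥(Cfsg.pPrimeCore p G ⊓ Subgroup.centralizer ({z} : Set G))).map
        (Cfsg.pPrimeCore p G ⊓ Subgroup.centralizer ({z} : Set G)).subtype, (P : Subgroup G)⁆ ≤
    (Cfsg.pPrimeCore q ↥(Cfsg.pPrimeCore p G)).map (Cfsg.pPrimeCore p G).subtype := by
  obtain ⟨kz, hkz⟩ := hz
  haveI hLn : (⁅Cfsg.pPrimeCore p G, (P : Subgroup G)⁆).Normal := by
    rw [← Subgroup.normalizer_eq_top_iff]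
    apply top_unique
    rw [← hPH]
    exact sup_le (Cfsg.Agent.Lib.Helper10.Coprime.le_normalizer_commutator_left _ _)
      (Cfsg.Agent.Lib.Helper10.Coprime.le_normalizer_commutator_right _ _)
  have hLH : ⁅Cfsg.pPrimeCore p G, (P : Subgroup G)⁆ ≤ Cfsg.pPrimeCore p G :=
    Subgroup.commutator_le_left _ _
  have hPs : Group.IsSolvable ↥(P : Subgroup G) := isSolvable_of_isPGroup P.isPGroup'
  have hcopPH : (Nat.card ↥(P : Subgroup G)).Coprime (Nat.card ↥(Cfsg.pPrimeCore p G)) := by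
    obtain ⟨n, hn⟩ := IsPGroup.iff_card.mp P.isPGroup'
    rw [hn]
    exact Nat.Coprime.pow_left n (pPrimeCore_coprime p G).symm
  have hlift : ∀ h ∈ Cfsg.pPrimeCore p G, ∃ l ∈ ⁅Cfsg.pPrimeCore p G, (P : Subgroup G)⁆,
      h * l ∈ centralizer ((P : Subgroup G) : Set G) := by
    intro h hh
    obtain ⟨c, hc, hcl⟩ := Cfsg.Agent.S0022.result (P : Subgroup G) (Cfsg.pPrimeCore p G)
      (by rw [Subgroup.normalizer_eq_top]; exact le_top) hcopPH (Or.inl hPs)
      ⁅Cfsg.pPrimeCore p G, (P : Subgroup G)⁆ hLH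
      (by rw [Subgroup.normalizer_eq_top]; exact le_top)
      (by rw [Subgroup.normalizer_eq_top]; exact le_top)
      h hh (by
        intro a ha
        have h1 : ⁅a, h⁆ ∈ ⁅(P : Subgroup G), Cfsg.pPrimeCore p G⁆ :=
          Subgroup.commutator_mem_commutator ha hh
        rw [Subgroup.commutator_comm] at h1
        exact h1)
    exact ⟨h⁻¹ * c, hcl, by rw [mul_inv_cancel_left]; exact hc.2⟩
  have hzc : ∀ g ∈ (P : Subgroup G), g * z = z * g := fun g hg =>
    Subgroup.mem_centralizer_iff.mp hzP g hg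
  have hKn : Cfsg.pPrimeCore p G ⊓ centralizer ({z} : Set G) ≤
      normalizer ((coreOf q (Cfsg.pPrimeCore p G ⊓ centralizer ({z} : Set G)) : Subgroup G) : Set G) := by
    intro r hr
    exact Cfsg.Agent.Lib.Helper10.Coprime.mem_normalizer_of_conj_mem
      (fun s hs => conj_mem_coreOf q (Subgroup.le_normalizer hr) hs)
  have hKP : (P : Subgroup G) ≤
      normalizer ((coreOf q (Cfsg.pPrimeCore p G ⊓ centralizer ({z} : Set G)) : Subgroup G) : Set G) := by
    intro g hg
    have hgN : g ∈ normalizer ((Cfsg.pPrimeCore p G ⊓ centralizer ({z} : Set G) : Subgroup G) : Set G) := by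
      apply Cfsg.Agent.Lib.Helper10.Coprime.mem_normalizer_of_conj_mem
      intro s hs
      refine Subgroup.mem_inf.mpr
        ⟨(inferInstance : (Cfsg.pPrimeCore p G).Normal).conj_mem _ (Subgroup.mem_inf.mp hs).1 _, ?_⟩
      rw [Subgroup.mem_centralizer_singleton_iff]
      have h1 : Commute s z := Subgroup.mem_centralizer_singleton_iff.mp (Subgroup.mem_inf.mp hs).2
      have h2 : Commute g z := hzc g hg
      exact ((h2.mul_left h1).mul_left h2.inv_left).eq
    exact Cfsg.Agent.Lib.Helper10.Coprime.mem_normalizer_of_conj_mem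
      (fun s hs => conj_mem_coreOf q hgN hs)
  have hEn : Cfsg.pPrimeCore p G ⊓ centralizer ((P : Subgroup G) : Set G) ≤
      normalizer ((coreOf q (Cfsg.pPrimeCore p G ⊓ centralizer ((P : Subgroup G) : Set G)) : Subgroup G) : Set G) := by
    intro r hr
    exact Cfsg.Agent.Lib.Helper10.Coprime.mem_normalizer_of_conj_mem
      (fun s hs => conj_mem_coreOf q (Subgroup.le_normalizer hr) hs)
  have hKH : coreOf q (Cfsg.pPrimeCore p G ⊓ centralizer ({z} : Set G)) ≤ Cfsg.pPrimeCore p G :=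
    (coreOf_le q _).trans inf_le_left
  have hKPL : ⁅coreOf q (Cfsg.pPrimeCore p G ⊓ centralizer ({z} : Set G)), (P : Subgroup G)⁆ ≤
      ⁅Cfsg.pPrimeCore p G, (P : Subgroup G)⁆ := Subgroup.commutator_mono hKH le_rfl
  have hmain := main' (QuotientGroup.mk' (pPrimeCore q G)) (QuotientGroup.mk'_surjective _)
    (pPrimeCore_quotient_eq_bot q G)
    (by rw [QuotientGroup.ker_mk']; exact pPrimeCore_coprime q G)
    (Cfsg.pPrimeCore p G) ⁅Cfsg.pPrimeCore p G, (P : Subgroup G)⁆ (P : Subgroup G) hLH hsol hPH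
    hlift z hzH kz hkz
    (coreOf q (Cfsg.pPrimeCore p G ⊓ centralizer ({z} : Set G))) (coreOf_le q _)
    (coreOf_coprime q _) hKn hKP hKPL
    (coreOf q (Cfsg.pPrimeCore p G ⊓ centralizer ((P : Subgroup G) : Set G))) (coreOf_le q _)
    (coreOf_coprime q _) hEn
  rw [QuotientGroup.ker_mk'] at hmain
  rw [pPrimeCore_subtype_eq_inf q (Cfsg.pPrimeCore p G)]
  exact le_inf hmain (sup_le (inf_le_left.trans hKH) (hKPL.trans hLH))

end Cfsg.Agent.S3819
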