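import Cfsg.Statements.S3824
import Mathlib
import Cfsg.Agent.Lib.Helper1.CharGalois
import Cfsg.Agent.S0542

set_option autoImplicit false
open Cfsg

namespace Cfsg.Agent.S3824

universe u

theorem two_pow_of_dvd {d k : ℕ} (h : d ∣ 2 ^ k) : ∃ j : ℕ, d = 2 ^ j := by
  obtain ⟨j, -, hj⟩ := (Nat.dvd_prime_pow Nat.prime_two).mp h
  exact ⟨j, hj⟩

theorem solv_aux : ∀ (n : ℕ) (G : Type u) [Group G] [Finite G], Nat.card G = n →
    ∀ A : Subgroup G, IsMulCommutative A → (∃ k : ℕ, A.index = 2 ^ k) → Group.IsSolvable G := by
  intro n
  induction n using Nat.strong_induction_on with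
  | _ n ih =>
    intro G _ _ hn A hA hidx
    obtain ⟨k, hk⟩ := hidx
    by_cases hAb : A = ⊥
    · have hcard : Nat.card G = 2 ^ k := by
        rw [← A.card_mul_index, hAb, Subgroup.card_bot, one_mul, ← hAb, hk]
      have hp : IsPGroup 2 G := IsPGroup.of_card hcard
      have := hp.isNilpotent
      infer_instance
    by_cases hsimple : ∀ N : Subgroup G, N.Normal → N = ⊥ ∨ N = ⊤
    · have hnt : Nontrivial G := by
        by_contra hnt
        rw [not_nontrivial_iff_subsingleton] at hnt
        exact hAb (Subsingleton.elim _ _)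
      have hS : IsSimpleGroup G := ⟨fun N hN => hsimple N hN⟩
      obtain ⟨a, haA, ha1⟩ : ∃ a ∈ A, a ≠ 1 := by
        by_contra hcon
        push Not at hcon
        exact hAb ((Subgroup.eq_bot_iff_forall A).mpr hcon)
      have hle : A ≤ Subgroup.centralizer ({a} : Set G) := by
        intro b hb
        rw [Subgroup.mem_centralizer_iff]
        intro c hc
        rw [Set.mem_singleton_iff] at hc
        subst hc
        have := hA.is_comm.comm ⟨c, haA⟩ ⟨b, hb⟩
        exact congrArg Subtype.val this
      obtain ⟨j, hj⟩ := two_pow_of_dvd (hk ▸ Subgroup.index_dvd_of_le hle)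
      have hprime := Cfsg.Agent.Lib.Helper1.prime_card_of_prime_power_class 2 j Nat.prime_two a
        ha1 hj
      have : Fact (Nat.card G).Prime := ⟨hprime⟩
      have hp : IsPGroup (Nat.card G) G := IsPGroup.of_card (n := 1) (pow_one _).symm
      have := hp.isNilpotent
      infer_instance
    · push Not at hsimple
      obtain ⟨N, hN, hNb, hNt⟩ := hsimple
      have h1 : Group.IsSolvable N := by
        have hlt : Nat.card N < n := by
          rw [← hn]
          exact lt_of_le_of_ne (Subgroup.card_le_card_group N)
            (fun h => hNt ((Subgroup.card_eq_iff_eq_top _).mp h))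
        refine ih _ hlt N rfl (A.subgroupOf N) ?_ ?_
        · exact Subgroup.subgroupOf_isMulCommutative N A
        · have h2 : A.relIndex N ∣ A.index :=
            Cfsg.Agent.S0542.relIndex_dvd_index_of_normal_right A N
          rw [hk] at h2
          exact two_pow_of_dvd h2
      have h2 : Group.IsSolvable (G ⧸ N) := by
        have hlt : Nat.card (G ⧸ N) < n := by
          rw [← hn, Subgroup.card_eq_card_quotient_mul_card_subgroup N]
          have h1 : 1 < Nat.card N := (Subgroup.one_lt_card_iff_ne_bot _).mpr hNb
          have h2 : 0 < Nat.card (G ⧸ N) := Nat.card_pos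
          nlinarith
        refine ih _ hlt (G ⧸ N) rfl (A.map (QuotientGroup.mk' N)) inferInstance ?_
        have h3 := Subgroup.index_map_dvd A (QuotientGroup.mk'_surjective N)
        rw [hk] at h3
        exact two_pow_of_dvd h3
      exact Group.isSolvable_of_ker_le_range N.subtype (QuotientGroup.mk' N)
        (by rw [QuotientGroup.ker_mk', Subgroup.range_subtype])

theorem result {G : Type*} [Group G] [Finite G]
    (A : Subgroup G) (hA : IsMulCommutative A) (hidx : ∃ k : ℕ, A.index = 2 ^ k) : Group.IsSolvable G := by
  exact solv_aux _ G rfl A hA hidx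

end Cfsg.Agent.S3824
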