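import Cfsg.Statements.S3868
import Mathlib
import Cfsg.Agent.Lib.Helper20.MinStruct
import Cfsg.Agent.Lib.Helper16.Residual

set_option autoImplicit false
open Cfsg

namespace Cfsg.Agent.S3868

open Cfsg.Agent.Lib.Helper20.MinStruct Cfsg.Agent.Lib.Helper10.Coprime

theorem normal_of_sylow_normal {G : Type*} [Group G] [Finite G] {p : ℕ} [Fact p.Prime]
    (P : Sylow p G) (K : Subgroup G) [hK : K.Normal] (hPK : (P : Subgroup G) ≤ K)
    (h : ((P.subtype hPK : Sylow p ↥K) : Subgroup ↥K).Normal) : (P : Subgroup G).Normal := by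
  haveI := Sylow.characteristic_of_normal (P.subtype hPK) h
  have h1 : (((P.subtype hPK : Sylow p ↥K) : Subgroup ↥K).map K.subtype).Normal :=
    ConjAct.normal_of_characteristic_of_normal
  have h2 : ((P.subtype hPK : Sylow p ↥K) : Subgroup ↥K).map K.subtype = (P : Subgroup G) := by
    rw [Sylow.coe_subtype, Subgroup.subgroupOf_map_subtype, inf_eq_left]
    exact hPK
  rw [← h2]; exact h1

theorem result {G : Type*} [Group G] [Finite G] {p : ℕ} [Fact p.Prime]
    (hnc : ¬ Cfsg.IsPClosed p G) (hsub : ∀ H : Subgroup G, H ≠ ⊤ → Cfsg.IsPClosed p ↥H)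
    (hquo : ∀ (N : Subgroup G) [N.Normal], N ≠ ⊥ → Cfsg.IsPClosed p (G ⧸ N)) (hns : ¬ IsSimpleGroup G) :
    ∃ q : ℕ, q.Prime ∧ q ≠ p ∧ Nat.card G = p * q ^ orderOf (q : ZMod p) ∧
      ∃ A : Subgroup G, A.Normal ∧ Nat.card ↥A = q ^ orderOf (q : ZMod p) ∧ Cfsg.IsElementaryAbelian q A ∧
        ∀ B : Subgroup G, B.Normal → B ≤ A → B = ⊥ ∨ B = A := by
  classical
  have hpp : p.Prime := Fact.out
  obtain ⟨P, hPn⟩ : ∃ P : Sylow p G, ¬ (P : Subgroup G).Normal := by
    by_contra h
    rw [not_exists] at h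
    exact hnc (fun P => not_not.1 (h P))
  have hP1 : (P : Subgroup G) ≠ ⊥ := by
    intro h
    apply hPn
    rw [h]; infer_instance
  haveI : Nontrivial G := by
    by_contra hnt
    rw [not_nontrivial_iff_subsingleton] at hnt
    apply hP1
    rw [eq_bot_iff]
    intro x _
    rw [Subgroup.mem_bot]
    exact Subsingleton.elim _ _
  obtain ⟨N₀, hN₀n, hN₀b, hN₀t⟩ := exists_proper_normal hns
  obtain ⟨N, hNn, hN1, hNle, hNmin⟩ := exists_min_normal N₀ hN₀n hN₀b
  haveI := hNn
  have hNt : N ≠ ⊤ := fun h => hN₀t (top_le_iff.1 (h ▸ hNle))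
  have hquoK : ∀ (C : Subgroup G) [C.Normal], C ≠ ⊥ → ∃ K : Subgroup G, K.Normal ∧
      (P : Subgroup G) ≤ K ∧ (∀ g ∈ K, ∃ a : ℕ, g ^ p ^ a ∈ C) := by
    intro C _ hC
    obtain ⟨S, hS⟩ := (P.isPGroup'.map (QuotientGroup.mk' C)).exists_le_sylow
    have hSn := hquo C hC S
    refine ⟨(S : Subgroup (G ⧸ C)).comap (QuotientGroup.mk' C), hSn.comap _, ?_, ?_⟩
    · rw [← Subgroup.map_le_iff_le_comap]; exact hS
    · intro g hg
      obtain ⟨a, ha⟩ := S.isPGroup' ⟨QuotientGroup.mk' C g, hg⟩
      refine ⟨a, ?_⟩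
      have h1 : (QuotientGroup.mk' C g) ^ p ^ a = 1 := by
        have := congrArg Subtype.val ha
        simpa using this
      rw [← map_pow, QuotientGroup.mk'_apply, QuotientGroup.eq_one_iff] at h1
      exact h1
  have hKtop : ∀ K : Subgroup G, K.Normal → (P : Subgroup G) ≤ K → K = ⊤ := by
    intro K hKn hPK
    by_contra hK
    haveI := hKn
    exact hPn (normal_of_sylow_normal P K hPK (hsub K hK (P.subtype hPK)))
  have hquoN : IsPGroup p (G ⧸ N) := by
    obtain ⟨K, hKn, hPK, hK⟩ := hquoK N hN1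
    have htop := hKtop K hKn hPK
    intro x
    obtain ⟨g, rfl⟩ := QuotientGroup.mk_surjective x
    obtain ⟨a, ha⟩ := hK g (by rw [htop]; exact Subgroup.mem_top g)
    refine ⟨a, ?_⟩
    rw [← QuotientGroup.mk_pow]
    exact (QuotientGroup.eq_one_iff _).2 ha
  have hNP : N ⊔ (P : Subgroup G) = ⊤ := by
    rw [sup_comm]
    exact Cfsg.Agent.Lib.Helper16.Residual.sylow_sup_eq_top_of_isPGroup_quotient P N hquoN
  have hNp : ¬ p ∣ Nat.card N := by
    obtain S : Sylow p ↥N := default
    have hSn := hsub N hNt S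
    haveI := Sylow.characteristic_of_normal S hSn
    have hBn : ((S : Subgroup ↥N).map N.subtype).Normal :=
      ConjAct.normal_of_characteristic_of_normal
    rcases hNmin _ hBn (Subgroup.map_subtype_le _) with h | h
    · rw [Subgroup.map_eq_bot_iff_of_injective _ N.subtype_injective] at h
      have hcard : Nat.card (S : Subgroup ↥N) = 1 := by rw [h]; exact Subgroup.card_bot
      have hmul := S.card_eq_multiplicity
      rw [hcard] at hmul
      intro hdvd
      have h2 : p ^ 1 ∣ Nat.card N := by rw [pow_one]; exact hdvd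
      have h3 := (Nat.Prime.pow_dvd_iff_le_factorization hpp (Nat.card_pos.ne')).1 h2
      have h4 : 1 < p ^ (Nat.card N).factorization p := Nat.one_lt_pow (by omega) hpp.one_lt
      omega
    · exfalso
      have hNpg : IsPGroup p N := by
        rw [← h]; exact S.isPGroup'.map _
      have hsup : IsPGroup p ((P : Subgroup G) ⊔ N : Subgroup G) :=
        IsPGroup.to_sup_of_normal_right P.isPGroup' hNpg
      have := P.is_maximal' hsup le_sup_left
      rw [sup_comm, hNP] at this
      apply hPn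
      rw [← this]; infer_instance
  have hX : ∀ H : Subgroup G, H ≠ ⊤ → ∀ R : Subgroup G, R ≤ (P : Subgroup G) → R ≤ H →
      ¬ p ∣ R.relIndex H → H ≤ Subgroup.normalizer (R : Set G) := by
    intro H hH R hRP hRH hrel
    have hRp : IsPGroup p ↥(R.subgroupOf H) := (P.isPGroup'.to_le hRP).comap_subtype
    have hn : (R.subgroupOf H).Normal := hsub H hH (hRp.toSylow hrel)
    exact (Subgroup.normal_subgroupOf_iff_le_normalizer hRH).1 hn
  have hY : (P : Subgroup G) ⊓ Subgroup.centralizer (N : Set G) = ⊥ := by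
    by_contra hC
    haveI hCn := normal_inf_centralizer N (P : Subgroup G) hNP
    obtain ⟨K, hKn, hPK, hK⟩ := hquoK _ hC
    have htop := hKtop K hKn hPK
    have hG : IsPGroup p ((⊤ : Subgroup G)) := by
      intro x
      obtain ⟨a, ha⟩ := hK x.1 (by rw [htop]; exact Subgroup.mem_top _)
      obtain ⟨b, hb⟩ := P.isPGroup' ⟨_, (Subgroup.mem_inf.1 ha).1⟩
      refine ⟨a + b, Subtype.ext ?_⟩
      have hb' : ((x : G) ^ p ^ a) ^ p ^ b = 1 := by
        have := congrArg Subtype.val hb
        simpa using this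
      rw [pow_add, pow_mul]
      simpa using hb'
    have := P.is_maximal' hG le_top
    apply hPn
    rw [← this]; infer_instance
  exact core N P hNP hNp hN1 hNmin hX hY hP1

end Cfsg.Agent.S3868
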