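import Cfsg.Statements.S3870
import Mathlib
import Cfsg.Agent.Lib.Helper16.Basic
import Cfsg.Agent.Lib.Helper12.SylowBasic

set_option autoImplicit false
open Cfsg

namespace Cfsg.Agent.S3870

open Cfsg.Agent.Lib.Helper16.Basic

theorem ti_aux {G : Type*} [Group G] [Finite G] [IsSimpleGroup G] {p : ℕ} [Fact p.Prime]
    (hsub : ∀ H : Subgroup G, H ≠ ⊤ → Cfsg.IsPClosed p ↥H) :
    ∀ D : Subgroup G, ∀ P Q : Sylow p G, P ≠ Q → (P : Subgroup G) ⊓ Q = D → D = ⊥ := by
  intro D
  induction D using WellFoundedGT.induction with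
  | ind D ih =>
    intro P Q hPQ hD
    by_contra hDb
    have hDP : D ≤ P := hD ▸ inf_le_left
    have hDQ : D ≤ Q := hD ▸ inf_le_right
    have hDltP : D < (P : Subgroup G) := by
      refine lt_of_le_of_ne hDP ?_
      intro h
      apply hPQ
      have hle : (P : Subgroup G) ≤ Q := h ▸ hDQ
      exact Sylow.ext (P.is_maximal' Q.isPGroup' hle).symm
    have hDltQ : D < (Q : Subgroup G) := by
      refine lt_of_le_of_ne hDQ ?_
      intro h
      apply hPQ
      have hle : (Q : Subgroup G) ≤ P := h ▸ hDP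
      exact Sylow.ext (Q.is_maximal' P.isPGroup' hle)
    have hNtop : Subgroup.normalizer (D : Set G) ≠ ⊤ := by
      intro h
      rw [Subgroup.normalizer_eq_top_iff] at h
      rcases h.eq_bot_or_eq_top with h' | h'
      · exact hDb h'
      · rw [h'] at hDltP
        exact not_top_lt hDltP
    have hcl := hsub _ hNtop
    obtain ⟨S⟩ : Nonempty (Sylow p (Subgroup.normalizer (D : Set G))) := inferInstance
    have hSn := hcl S
    obtain ⟨T, hT⟩ := (S.isPGroup'.map (Subgroup.subtype _)).exists_le_sylow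
    have key : ∀ A : Subgroup G, IsPGroup p A → A ≤ Subgroup.normalizer (D : Set G) →
        A ≤ T := by
      intro A hA hAN
      obtain ⟨k, hk, hle⟩ := exists_conj_le_sylow_sub S hAN hA
      intro a ha
      have h1 := hle (conj_mem_conj A k ha)
      obtain ⟨s, hs, hse⟩ := h1
      have h2 := hSn.conj_mem s hs (⟨k, hk⟩⁻¹)
      apply hT
      refine ⟨_, h2, ?_⟩
      simp only [Subgroup.coe_subtype, Subgroup.coe_mul, Subgroup.coe_inv, inv_inv] at hse ⊢
      rw [hse]
      group
    obtain ⟨x, hxP, hxN, hxD⟩ := exists_mem_normalizer_not_mem P.isPGroup' hDltP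
    obtain ⟨y, hyQ, hyN, hyD⟩ := exists_mem_normalizer_not_mem Q.isPGroup' hDltQ
    have hPN : (P : Subgroup G) ⊓ Subgroup.normalizer (D : Set G) ≤ T :=
      key _ (P.isPGroup'.to_le inf_le_left) inf_le_right
    have hQN : (Q : Subgroup G) ⊓ Subgroup.normalizer (D : Set G) ≤ T :=
      key _ (Q.isPGroup'.to_le inf_le_left) inf_le_right
    have hPT : P = T := by
      by_contra hne
      have hlt : D < (P : Subgroup G) ⊓ T := by
        refine lt_of_le_of_ne (le_inf hDP ((le_inf hDP Subgroup.le_normalizer).trans hPN)) ?_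
        intro h
        apply hxD
        rw [h]
        exact ⟨hxP, hPN ⟨hxP, hxN⟩⟩
      have h3 := ih _ hlt P T hne rfl
      rw [h3] at hlt
      exact not_lt_bot hlt
    have hQT : Q = T := by
      by_contra hne
      have hlt : D < (Q : Subgroup G) ⊓ T := by
        refine lt_of_le_of_ne (le_inf hDQ ((le_inf hDQ Subgroup.le_normalizer).trans hQN)) ?_
        intro h
        apply hyD
        rw [h]
        exact ⟨hyQ, hQN ⟨hyQ, hyN⟩⟩
      have h3 := ih _ hlt Q T hne rfl
      rw [h3] at hlt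
      exact not_lt_bot hlt
    exact hPQ (hPT.trans hQT.symm)

theorem result {G : Type*} [Group G] [Finite G] [IsSimpleGroup G] {p : ℕ} [Fact p.Prime]
    (hnc : ¬ Cfsg.IsPClosed p G) (hsub : ∀ H : Subgroup G, H ≠ ⊤ → Cfsg.IsPClosed p ↥H) :
    (∀ P Q : Sylow p G, P ≠ Q → (P : Subgroup G) ⊓ (Q : Subgroup G) = ⊥) ∧
      ∀ (P : Sylow p G) (R : Subgroup G), R ≤ P → R ≠ ⊥ →
        Subgroup.normalizer (R : Set G) ≤ Subgroup.normalizer ((P : Subgroup G) : Set G) := by
  have hTI : ∀ P Q : Sylow p G, P ≠ Q → (P : Subgroup G) ⊓ (Q : Subgroup G) = ⊥ :=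
    fun P Q hne => ti_aux hsub _ P Q hne rfl
  refine ⟨hTI, ?_⟩
  intro P R hRP hR g hg
  by_contra hgn
  have hne : g • P ≠ P := by
    intro h
    exact hgn (Sylow.smul_eq_iff_mem_normalizer.mp h)
  have h1 := hTI (g • P) P hne
  apply hR
  rw [eq_bot_iff, ← h1]
  intro r hr
  refine ⟨?_, hRP hr⟩
  show r ∈ ((g • P : Sylow p G) : Subgroup G)
  rw [Cfsg.Agent.Lib.Helper12.SylowBasic.mem_smul_sylow_iff]
  apply hRP
  have h2 := (Subgroup.mem_normalizer_iff''.mp hg r).mp hr
  exact h2

end Cfsg.Agent.S3870
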