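import Cfsg.Statements.S3872
import Mathlib
import Cfsg.Agent.Lib.Helper20.ClassLtP
import Cfsg.Agent.Lib.Helper20.AbGen

set_option autoImplicit false
set_option linter.style.haveILetI false
open Cfsg

namespace Cfsg.Agent.S3872

open Cfsg.Agent.Lib.Helper20.ClassLtP
open scoped commutatorElement

section

variable {G : Type*} [Group G] [Finite G] {p : ℕ} [hp : Fact p.Prime]

theorem exists_xy (hnc : ¬ (∃ H : Subgroup G, (H : Set G) = {g : G | g ^ p = 1})) :
    ∃ x y : G, x ^ p = 1 ∧ y ^ p = 1 ∧ (x * y) ^ p ≠ 1 := by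
  by_contra hcon
  push Not at hcon
  apply hnc
  exact ⟨{ carrier := {g : G | g ^ p = 1}
           mul_mem' := fun {a b} ha hb => hcon a b ha hb
           one_mem' := one_pow p
           inv_mem' := fun {a} ha => by
             show a⁻¹ ^ p = 1
             rw [Set.mem_setOf_eq] at ha
             rw [inv_pow, ha, inv_one] }, rfl⟩

theorem sub_closed
    (hsub : ∀ K : Subgroup G, K ≠ ⊤ →
      (∃ H : Subgroup ↥K, (H : Set ↥K) = {g : ↥K | g ^ p = 1}))
    (K : Subgroup G) (hK : K ≠ ⊤) (S : Set G) (hS : ∀ s ∈ S, s ^ p = 1) (hSK : S ⊆ K) :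
    ∀ g ∈ Subgroup.closure S, g ^ p = 1 := by
  obtain ⟨H, hH⟩ := hsub K hK
  have hle : Subgroup.closure S ≤ H.map K.subtype := by
    rw [Subgroup.closure_le]
    intro s hs
    refine ⟨⟨s, hSK hs⟩, ?_, rfl⟩
    rw [SetLike.mem_coe, ← SetLike.mem_coe, hH]
    exact Subtype.ext (by rw [Subgroup.coe_pow]; exact hS s hs)
  intro g hg
  obtain ⟨h, hh, rfl⟩ := hle hg
  rw [SetLike.mem_coe, ← SetLike.mem_coe, hH] at hh
  have h2 := congrArg Subtype.val hh
  rw [Subgroup.coe_pow] at h2
  exact h2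

theorem gen_top
    (hsub : ∀ K : Subgroup G, K ≠ ⊤ →
      (∃ H : Subgroup ↥K, (H : Set ↥K) = {g : ↥K | g ^ p = 1}))
    {x y : G} (hx : x ^ p = 1) (hy : y ^ p = 1) (hxy : (x * y) ^ p ≠ 1) :
    Subgroup.closure ({x, y} : Set G) = ⊤ := by
  by_contra hne
  apply hxy
  refine sub_closed hsub _ hne {x, y} ?_ Subgroup.subset_closure _ ?_
  · intro s hs
    rcases hs with rfl | hs
    · exact hx
    · rw [Set.mem_singleton_iff] at hs; subst hs; exact hy
  · exact Subgroup.mul_mem _ (Subgroup.subset_closure (by simp))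
      (Subgroup.subset_closure (by simp))

theorem quo_pow
    (hquo : ∀ (N : Subgroup G) [N.Normal], N ≠ ⊥ →
      (∃ H : Subgroup (G ⧸ N), (H : Set (G ⧸ N)) = {g : (G ⧸ N) | g ^ p = 1}))
    {x y : G} (hx : x ^ p = 1) (hy : y ^ p = 1)
    (hgen : Subgroup.closure ({x, y} : Set G) = ⊤) (N : Subgroup G) [N.Normal] (hN : N ≠ ⊥)
    (g : G) : g ^ p ∈ N := by
  obtain ⟨H, hH⟩ := hquo N hN
  have h1 : QuotientGroup.mk' N x ∈ H := by
    rw [← SetLike.mem_coe, hH]
    show _ ^ p = 1
    rw [← map_pow, hx, map_one]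
  have h2 : QuotientGroup.mk' N y ∈ H := by
    rw [← SetLike.mem_coe, hH]
    show _ ^ p = 1
    rw [← map_pow, hy, map_one]
  have h3 : (⊤ : Subgroup (G ⧸ N)) ≤ H := by
    rw [← Subgroup.map_top_of_surjective _ (QuotientGroup.mk'_surjective N), ← hgen,
      MonoidHom.map_closure, Subgroup.closure_le]
    rintro _ ⟨t, ht, rfl⟩
    rcases ht with rfl | ht
    · exact h1
    · rw [Set.mem_singleton_iff] at ht; subst ht; exact h2
  have h4 : QuotientGroup.mk' N g ∈ H := h3 (Subgroup.mem_top _)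
  rw [← SetLike.mem_coe, hH] at h4
  have h5 : QuotientGroup.mk' N (g ^ p) = 1 := by rw [map_pow]; exact h4
  exact (QuotientGroup.eq_one_iff _).1 h5

theorem zp_normal {z : G} (hz : z ∈ Subgroup.center G) : (Subgroup.zpowers z).Normal := by
  constructor
  intro n hn g
  have hc : n ∈ Subgroup.center G := by
    obtain ⟨k, rfl⟩ := hn
    exact Subgroup.zpow_mem _ hz k
  rw [Subgroup.mem_center_iff] at hc
  have e : g * n * g⁻¹ = n := by rw [hc g]; group
  rw [e]; exact hn

theorem zp_eq {w b : G} (hb : orderOf b = p) (hw : w ∈ Subgroup.zpowers b) (hw1 : w ≠ 1) :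
    Subgroup.zpowers w = Subgroup.zpowers b := by
  have hle : Subgroup.zpowers w ≤ Subgroup.zpowers b := by
    rw [Subgroup.zpowers_le]; exact hw
  have hwp : w ^ p = 1 := by
    obtain ⟨k, rfl⟩ := hw
    show (b ^ k) ^ p = 1
    rw [← zpow_natCast, ← zpow_mul, mul_comm, zpow_mul, zpow_natCast, ← hb,
      pow_orderOf_eq_one, one_zpow]
  have how : orderOf w = p := orderOf_eq_prime hwp hw1
  apply Subgroup.eq_of_le_of_card_ge hle
  rw [Nat.card_zpowers, Nat.card_zpowers, how, hb]

theorem center_cyclic (hG : IsPGroup p G) (w : G) (hw1 : w ≠ 1)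
    (hw : ∀ (N : Subgroup G) [N.Normal], N ≠ ⊥ → w ∈ N) :
    IsCyclic ↥(Subgroup.center G) := by
  by_contra hnc
  obtain ⟨q, hq, a, b, haq, hbq, hab⟩ :=
    Cfsg.Agent.Lib.Helper20.AbGen.exists_rank_two ↥(Subgroup.center G) hnc
  have hqp : q = p := by
    obtain ⟨k, hk⟩ := (hG.to_subgroup (Subgroup.center G)) b
    have h1 : orderOf b ∣ p ^ k := orderOf_dvd_of_pow_eq_one hk
    rw [hbq] at h1
    exact (Nat.prime_dvd_prime_iff_eq hq hp.out).1 (hq.dvd_of_dvd_pow h1)
  rw [hqp] at haq hbq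
  have hb' : orderOf (b : G) = p := by rw [Subgroup.orderOf_coe]; exact hbq
  have ha1 : a ≠ 1 := fun h => hab (h ▸ Subgroup.one_mem _)
  have ha' : orderOf (a : G) = p := by
    rw [Subgroup.orderOf_coe]; exact orderOf_eq_prime haq ha1
  haveI n1 := zp_normal b.2
  haveI n2 := zp_normal a.2
  have hb1 : Subgroup.zpowers (b : G) ≠ ⊥ := by
    rw [Ne, Subgroup.zpowers_eq_bot]
    intro h
    rw [h, orderOf_one] at hb'
    exact hp.out.one_lt.ne hb'
  have ha1' : Subgroup.zpowers (a : G) ≠ ⊥ := by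
    rw [Ne, Subgroup.zpowers_eq_bot]
    intro h
    rw [h, orderOf_one] at ha'
    exact hp.out.one_lt.ne ha'
  have e1 := zp_eq hb' (hw _ hb1) hw1
  have e2 := zp_eq ha' (hw _ ha1') hw1
  have h3 : (a : G) ∈ Subgroup.zpowers (b : G) := by
    rw [← e1, e2]; exact Subgroup.mem_zpowers _
  obtain ⟨k, hk⟩ := h3
  apply hab
  exact ⟨k, Subtype.ext (by rw [Subgroup.coe_zpow]; exact hk)⟩

theorem normalClosure_ne_top (hG : IsPGroup p G) {x : G} (hzx : Subgroup.zpowers x ≠ ⊤) :
    Subgroup.normalClosure ({x} : Set G) ≠ ⊤ := by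
  obtain ⟨M, hM, hle⟩ := (eq_top_or_exists_le_coatom (Subgroup.zpowers x)).resolve_left hzx
  haveI := hG.isNilpotent
  haveI hMn : M.Normal :=
    Subgroup.NormalizerCondition.normal_of_coatom _ Group.normalizerCondition_of_isNilpotent hM
  intro htop
  have h1 : Subgroup.normalClosure ({x} : Set G) ≤ M := Subgroup.normalClosure_le_normal (by
    rw [Set.singleton_subset_iff]; exact hle (Subgroup.mem_zpowers x))
  rw [htop] at h1
  exact hM.1 (top_le_iff.1 h1)

theorem comm_le_normalClosure {x y : G} (hgen : Subgroup.closure ({x, y} : Set G) = ⊤) :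
    commutator G ≤ Subgroup.normalClosure ({x} : Set G) := by
  have h1 : ∀ g : G, QuotientGroup.mk' (Subgroup.normalClosure ({x} : Set G)) g ∈
      Subgroup.zpowers (QuotientGroup.mk' (Subgroup.normalClosure ({x} : Set G)) y) := by
    intro g
    have hg : g ∈ Subgroup.closure ({x, y} : Set G) := by rw [hgen]; exact Subgroup.mem_top g
    induction hg using Subgroup.closure_induction with
    | mem t ht =>
      rcases ht with ht | ht
      · have h2 : QuotientGroup.mk' (Subgroup.normalClosure ({x} : Set G)) t = 1 :=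
          (QuotientGroup.eq_one_iff _).2
            (Subgroup.subset_normalClosure (by rw [ht]; exact Set.mem_singleton _))
        rw [h2]; exact Subgroup.one_mem _
      · rw [Set.mem_singleton_iff] at ht; rw [ht]; exact Subgroup.mem_zpowers _
    | one => rw [map_one]; exact Subgroup.one_mem _
    | mul a b _ _ iha ihb => rw [map_mul]; exact Subgroup.mul_mem _ iha ihb
    | inv a _ iha => rw [map_inv]; exact Subgroup.inv_mem _ iha
  rw [_root_.commutator_def, Subgroup.commutator_le]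
  intro g1 _ g2 _
  obtain ⟨k1, hk1⟩ := h1 g1
  obtain ⟨k2, hk2⟩ := h1 g2
  have h2 : QuotientGroup.mk' (Subgroup.normalClosure ({x} : Set G)) ⁅g1, g2⁆ = 1 := by
    rw [map_commutatorElement, ← hk1, ← hk2]
    exact commutatorElement_eq_one_iff_commute.2 ((Commute.refl _).zpow_zpow k1 k2)
  exact (QuotientGroup.eq_one_iff _).1 h2

theorem ncl_exp
    (hsub : ∀ K : Subgroup G, K ≠ ⊤ →
      (∃ H : Subgroup ↥K, (H : Set ↥K) = {g : ↥K | g ^ p = 1}))
    {x : G} (hx : x ^ p = 1) (hXne : Subgroup.normalClosure ({x} : Set G) ≠ ⊤) :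
    ∀ g ∈ Subgroup.normalClosure ({x} : Set G), g ^ p = 1 := by
  intro g hg
  refine sub_closed hsub _ hXne (Group.conjugatesOfSet {x}) ?_ ?_ g hg
  · intro s hs
    rw [Group.mem_conjugatesOfSet_iff] at hs
    obtain ⟨t, ht, hconj⟩ := hs
    rw [Set.mem_singleton_iff] at ht; subst ht
    obtain ⟨c, rfl⟩ := isConj_iff.1 hconj
    rw [conj_pow, hx]; group
  · exact Subgroup.conjugatesOfSet_subset_normalClosure

theorem lt_card (hG : IsPGroup p G) {A B : Subgroup G} (hAB : A < B) :
    p * Nat.card A ≤ Nat.card B := by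
  obtain ⟨m, hm⟩ := Subgroup.card_dvd_of_le hAB.le
  obtain ⟨b, hb⟩ := (hG.to_subgroup B).exists_card_eq
  have hm1 : m ∣ p ^ b := by rw [← hb, hm]; exact dvd_mul_left _ _
  obtain ⟨c, _, hc⟩ := (Nat.dvd_prime_pow hp.out).1 hm1
  rcases Nat.eq_zero_or_pos c with rfl | hcpos
  · exfalso
    rw [hc, pow_zero, mul_one] at hm
    exact hAB.ne (Subgroup.eq_of_le_of_card_ge hAB.le hm.le)
  · rw [hm, hc, mul_comm]
    apply Nat.mul_le_mul_left
    calc p = p ^ 1 := (pow_one p).symm
      _ ≤ p ^ c := Nat.pow_le_pow_right hp.out.pos hcpos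

theorem lcs_strict (hG : IsPGroup p G) {n : ℕ}
    (hcl : (⊤ : Subgroup G).lowerCentralSeries n ≠ ⊥) (i : ℕ) (hi : i + 1 ≤ n) :
    (⊤ : Subgroup G).lowerCentralSeries (i + 1) < (⊤ : Subgroup G).lowerCentralSeries i := by
  have hle : (⊤ : Subgroup G).lowerCentralSeries (i + 1) ≤ (⊤ : Subgroup G).lowerCentralSeries i :=
    Subgroup.lowerCentralSeries_antitone _ (Nat.le_succ i)
  refine lt_of_le_of_ne hle ?_
  intro heq
  apply hcl
  have hstab : ∀ k, (⊤ : Subgroup G).lowerCentralSeries (i + k)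
      = (⊤ : Subgroup G).lowerCentralSeries i := by
    intro k
    induction k with
    | zero => rfl
    | succ k ih =>
      rw [← add_assoc, Subgroup.lowerCentralSeries_succ, ih, ← Subgroup.lowerCentralSeries_succ,
        heq]
  haveI := hG.isNilpotent
  obtain ⟨m, hm⟩ := Subgroup.nilpotent_iff_lowerCentralSeries.1 (inferInstance : Group.IsNilpotent G)
  have h1 : (⊤ : Subgroup G).lowerCentralSeries i = ⊥ := by
    rw [← hstab m, eq_bot_iff, ← hm]
    exact Subgroup.lowerCentralSeries_antitone _ (Nat.le_add_left m i)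
  rw [eq_bot_iff, ← h1]
  exact Subgroup.lowerCentralSeries_antitone _ (by omega)

theorem card_bound (hG : IsPGroup p G) {x y : G}
    (hgen : Subgroup.closure ({x, y} : Set G) = ⊤)
    (hX : Subgroup.normalClosure ({x} : Set G) ≠ ⊤)
    (hY : Subgroup.normalClosure ({y} : Set G) ≠ ⊤)
    (hcl : (⊤ : Subgroup G).lowerCentralSeries (p - 1) ≠ ⊥) : p ^ (p + 1) ≤ Nat.card G := by
  have hp2 : 2 ≤ p := hp.out.two_le
  have chain : ∀ j, j ≤ p - 2 →
      p ^ (j + 1) ≤ Nat.card ((⊤ : Subgroup G).lowerCentralSeries (p - 1 - j)) := by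
    intro j
    induction j with
    | zero =>
      intro _
      have h1 := lt_card hG (bot_lt_iff_ne_bot.2 hcl)
      rw [Subgroup.card_bot, mul_one] at h1
      rw [zero_add, pow_one, Nat.sub_zero]; exact h1
    | succ j ih =>
      intro hj
      have h1 := ih (by omega)
      have h2 := lcs_strict hG hcl (p - 1 - (j + 1)) (by omega)
      have e : p - 1 - (j + 1) + 1 = p - 1 - j := by omega
      rw [e] at h2
      have h3 := lt_card hG h2
      calc p ^ (j + 1 + 1) = p * p ^ (j + 1) := by rw [pow_succ, mul_comm]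
        _ ≤ p * Nat.card ((⊤ : Subgroup G).lowerCentralSeries (p - 1 - j)) :=
          Nat.mul_le_mul_left _ h1
        _ ≤ _ := h3
  have h1 := chain (p - 2) le_rfl
  have e1 : p - 1 - (p - 2) = 1 := by omega
  have e2 : p - 2 + 1 = p - 1 := by omega
  rw [e1, e2] at h1
  have hDX : (⊤ : Subgroup G).lowerCentralSeries 1 ≤ Subgroup.normalClosure ({x} : Set G) :=
    comm_le_normalClosure hgen
  have hDY : (⊤ : Subgroup G).lowerCentralSeries 1 ≤ Subgroup.normalClosure ({y} : Set G) := by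
    have hgen' : Subgroup.closure ({y, x} : Set G) = ⊤ := by rw [Set.pair_comm]; exact hgen
    exact comm_le_normalClosure hgen'
  have key : ∀ z : G, (⊤ : Subgroup G).lowerCentralSeries 1 < Subgroup.normalClosure ({z} : Set G) →
      Subgroup.normalClosure ({z} : Set G) ≠ ⊤ → p ^ (p + 1) ≤ Nat.card G := by
    intro z hlt hne
    have h2 := lt_card hG hlt
    have h3 := lt_card hG (lt_top_iff_ne_top.2 hne)
    rw [Subgroup.card_top] at h3
    calc p ^ (p + 1) = p * (p * p ^ (p - 1)) := by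
          have e3 : p + 1 = (p - 1) + 1 + 1 := by omega
          rw [e3, pow_succ, pow_succ]; ring
      _ ≤ p * (p * Nat.card ((⊤ : Subgroup G).lowerCentralSeries 1)) :=
          Nat.mul_le_mul_left _ (Nat.mul_le_mul_left _ h1)
      _ ≤ p * Nat.card (Subgroup.normalClosure ({z} : Set G)) := Nat.mul_le_mul_left _ h2
      _ ≤ Nat.card G := h3
  by_cases hxD : x ∈ (⊤ : Subgroup G).lowerCentralSeries 1
  · by_cases hyD : y ∈ (⊤ : Subgroup G).lowerCentralSeries 1
    · exfalso
      have h2 : Subgroup.closure ({x, y} : Set G) ≤ (⊤ : Subgroup G).lowerCentralSeries 1 := by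
        rw [Subgroup.closure_le]
        intro t ht
        rcases ht with rfl | ht
        · exact hxD
        · rw [Set.mem_singleton_iff] at ht; subst ht; exact hyD
      rw [hgen] at h2
      exact hX (top_le_iff.1 (h2.trans hDX))
    · refine key y (lt_of_le_of_ne hDY ?_) hY
      intro heq
      apply hyD
      rw [heq]
      exact Subgroup.subset_normalClosure (Set.mem_singleton _)
  · refine key x (lt_of_le_of_ne hDX ?_) hX
    intro heq
    apply hxD
    rw [heq]
    exact Subgroup.subset_normalClosure (Set.mem_singleton _)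

end

theorem result {G : Type*} [Group G] [Finite G] {p : ℕ} [Fact p.Prime] (hG : IsPGroup p G)
    (hnc : ¬ (∃ H : Subgroup G, (H : Set G) = {g : G | g ^ p = 1})) (hsub : ∀ K : Subgroup G, K ≠ ⊤ → (∃ H : Subgroup ↥K, (H : Set ↥K) = {g : ↥K | g ^ p = 1}))
    (hquo : ∀ (N : Subgroup G) [N.Normal], N ≠ ⊥ → (∃ H : Subgroup (G ⧸ N), (H : Set (G ⧸ N)) = {g : (G ⧸ N) | g ^ p = 1})) :
    (∃ x y : G, Subgroup.closure ({x, y} : Set G) = ⊤) ∧ (⊤ : Subgroup G).lowerCentralSeries (p - 1) ≠ ⊥ ∧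
      Monoid.exponent G = p ^ 2 ∧ IsCyclic ↥(Subgroup.center G) ∧ p ^ (p + 1) ≤ Nat.card G := by
  have hp : p.Prime := Fact.out
  obtain ⟨x, y, hx, hy, hxy⟩ := exists_xy hnc
  have hgen := gen_top hsub hx hy hxy
  have hncomm : ¬ Commute x y := by
    intro hc
    apply hxy
    rw [hc.mul_pow, hx, hy, one_mul]
  have hzx : Subgroup.zpowers x ≠ ⊤ := by
    intro h
    have hy' : y ∈ Subgroup.zpowers x := by rw [h]; exact Subgroup.mem_top y
    obtain ⟨k, hk⟩ := hy'
    apply hncomm
    rw [← hk]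
    exact (Commute.refl x).zpow_right k
  have hzy : Subgroup.zpowers y ≠ ⊤ := by
    intro h
    have hx' : x ∈ Subgroup.zpowers y := by rw [h]; exact Subgroup.mem_top x
    obtain ⟨k, hk⟩ := hx'
    apply hncomm
    rw [← hk]
    exact (Commute.refl y).zpow_left k
  have hXne := normalClosure_ne_top hG hzx
  have hYne := normalClosure_ne_top hG hzy
  have hw1 : (x * y) ^ p ≠ 1 := hxy
  have hw : ∀ (N : Subgroup G) [N.Normal], N ≠ ⊥ → (x * y) ^ p ∈ N :=
    fun N _ hN => quo_pow hquo hx hy hgen N hN (x * y)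
  have hclass : (⊤ : Subgroup G).lowerCentralSeries (p - 1) ≠ ⊥ := by
    intro hcl
    have hXexp := ncl_exp hsub hx hXne
    have hcomm := comm_le_normalClosure hgen
    have hInC : Cfsg.Agent.Lib.Helper20.ClassLtP.InC p (p - 1) G := ⟨hcl, fun d hd => hXexp d (hcomm hd)⟩
    have h := thmA p le_rfl hInC x y
    rw [hx, hy, one_mul] at h
    exact hxy h
  refine ⟨⟨x, y, hgen⟩, hclass, ?_, center_cyclic hG _ hw1 hw,
    card_bound hG hgen hXne hYne hclass⟩
  haveI : Nontrivial G := ⟨⟨(x * y) ^ p, 1, hxy⟩⟩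
  have hZ : Subgroup.center G ≠ ⊥ := (ne_of_gt hG.bot_lt_center)
  have hdvd : p ∣ Nat.card ↥(Subgroup.center G) := by
    rcases (hG.to_subgroup (Subgroup.center G)).card_eq_or_dvd with h | h
    · exact absurd ((Subgroup.card_eq_one).1 h) hZ
    · exact h
  obtain ⟨z, hz⟩ := exists_prime_orderOf_dvd_card' p hdvd
  have hz' : orderOf (z : G) = p := by rw [Subgroup.orderOf_coe]; exact hz
  haveI n1 := zp_normal z.2
  have hz1 : Subgroup.zpowers (z : G) ≠ ⊥ := by
    rw [Ne, Subgroup.zpowers_eq_bot]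
    intro h
    rw [h, orderOf_one] at hz'
    exact hp.one_lt.ne hz'
  have h1 : Monoid.exponent G ∣ p ^ 2 := by
    apply Monoid.exponent_dvd_of_forall_pow_eq_one
    intro g
    obtain ⟨k, hk⟩ := quo_pow hquo hx hy hgen _ hz1 g
    have hk' : (z : G) ^ k = g ^ p := hk
    rw [pow_two, pow_mul, ← hk', ← zpow_natCast, ← zpow_mul, mul_comm, zpow_mul, zpow_natCast,
      ← hz', pow_orderOf_eq_one, one_zpow]
  obtain ⟨k, hk, hk2⟩ := (Nat.dvd_prime_pow hp).1 h1
  have hpe : (x * y) ^ (Monoid.exponent G) = 1 := Monoid.pow_exponent_eq_one _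
  interval_cases k
  · exfalso
    rw [hk2, pow_zero, pow_one] at hpe
    apply hxy; rw [hpe, one_pow]
  · exfalso
    rw [hk2, pow_one] at hpe
    exact hxy hpe
  · exact hk2

end Cfsg.Agent.S3872
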