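import Cfsg.Statements.S3873
import Mathlib
import Cfsg.Agent.Lib.Helper20.MinStruct
import Cfsg.Agent.Lib.Helper16.Residual

set_option autoImplicit false
open Cfsg

namespace Cfsg.Agent.S3873

open Cfsg.Agent.Lib.Helper20.MinStruct Cfsg.Agent.Lib.Helper10.Coprime

theorem result {G : Type*} [Group G] [Finite G] {p : ℕ} [Fact p.Prime]
    (hnc : ¬ (∃ H : Subgroup G, (H : Set G) = {g : G | g ^ p = 1})) (hsub : ∀ K : Subgroup G, K ≠ ⊤ → (∃ H : Subgroup ↥K, (H : Set ↥K) = {g : ↥K | g ^ p = 1}))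
    (hquo : ∀ (N : Subgroup G) [N.Normal], N ≠ ⊥ → (∃ H : Subgroup (G ⧸ N), (H : Set (G ⧸ N)) = {g : (G ⧸ N) | g ^ p = 1}))
    (hns : ¬ IsSimpleGroup G) (hnp : ¬ IsPGroup p G) :
    ∃ q : ℕ, q.Prime ∧ q ≠ p ∧ Nat.card G = p * q ^ orderOf (q : ZMod p) ∧
      ∃ A : Subgroup G, A.Normal ∧ Nat.card ↥A = q ^ orderOf (q : ZMod p) ∧ Cfsg.IsElementaryAbelian q A ∧
        ∀ B : Subgroup G, B.Normal → B ≤ A → B = ⊥ ∨ B = A := by
  classical
  have hpp : p.Prime := Fact.out
  have hgen : Subgroup.closure {g : G | g ^ p = 1} = ⊤ := by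
    by_contra hK
    obtain ⟨H, hH⟩ := hsub _ hK
    apply hnc
    refine ⟨H.map (Subgroup.closure {g : G | g ^ p = 1}).subtype, ?_⟩
    ext g
    constructor
    · rintro ⟨h, hh, rfl⟩
      have h1 : h ∈ (H : Set ↥(Subgroup.closure {g : G | g ^ p = 1})) := hh
      rw [hH] at h1
      have h2 : h ^ p = 1 := h1
      have := congrArg Subtype.val h2
      simpa using this
    · intro hg
      have hg' : g ^ p = 1 := hg
      have hgK : g ∈ Subgroup.closure {g : G | g ^ p = 1} := Subgroup.subset_closure hg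
      refine ⟨⟨g, hgK⟩, ?_, rfl⟩
      have h1 : (⟨g, hgK⟩ : ↥(Subgroup.closure {g : G | g ^ p = 1})) ∈
          {x : ↥(Subgroup.closure {g : G | g ^ p = 1}) | x ^ p = 1} := by
        rw [Set.mem_setOf_eq]
        exact Subtype.ext (by simpa using hg')
      rw [← hH] at h1
      exact h1
  have hQ : ∀ (N : Subgroup G) [N.Normal], N ≠ ⊥ → ∀ g : G, g ^ p ∈ N := by
    intro N _ hN g
    obtain ⟨H', hH'⟩ := hquo N hN
    have hle : Subgroup.closure {g : G | g ^ p = 1} ≤ H'.comap (QuotientGroup.mk' N) := by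
      rw [Subgroup.closure_le]
      intro x hx
      have hx' : x ^ p = 1 := hx
      rw [SetLike.mem_coe, Subgroup.mem_comap]
      have h1 : QuotientGroup.mk' N x ∈ {y : G ⧸ N | y ^ p = 1} := by
        rw [Set.mem_setOf_eq, ← map_pow, hx', map_one]
      rw [← hH'] at h1
      exact h1
    rw [hgen] at hle
    have h2 : QuotientGroup.mk' N g ∈ (H' : Set (G ⧸ N)) := hle (Subgroup.mem_top g)
    rw [hH'] at h2
    have h3 : QuotientGroup.mk' N g ^ p = 1 := h2
    rw [← map_pow, QuotientGroup.mk'_apply, QuotientGroup.eq_one_iff] at h3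
    exact h3
  haveI : Nontrivial G := by
    by_contra hnt
    rw [not_nontrivial_iff_subsingleton] at hnt
    exact hnp (fun g => ⟨0, Subsingleton.elim _ _⟩)
  obtain ⟨N₀, hN₀n, hN₀b, hN₀t⟩ := exists_proper_normal hns
  obtain ⟨N, hNn, hN1, hNle, hNmin⟩ := exists_min_normal N₀ hN₀n hN₀b
  haveI := hNn
  have hNt : N ≠ ⊤ := fun h => hN₀t (top_le_iff.1 (h ▸ hNle))
  have hNp : ¬ p ∣ Nat.card N := by
    obtain ⟨H, hH⟩ := hsub N hNt
    have hmemH : ∀ x : ↥N, x ∈ H ↔ x ^ p = 1 := by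
      intro x
      have : x ∈ (H : Set ↥N) ↔ x ∈ {y : ↥N | y ^ p = 1} := by rw [hH]
      exact this
    have hBn : (H.map N.subtype).Normal := by
      constructor
      rintro _ ⟨h, hh, rfl⟩ g
      refine ⟨⟨g * (h : G) * g⁻¹, hNn.conj_mem _ h.2 g⟩, ?_, rfl⟩
      have hh : h ∈ H := hh
      rw [SetLike.mem_coe]
      rw [hmemH] at hh ⊢
      apply Subtype.ext
      have h1 : (h : G) ^ p = 1 := by
        have := congrArg Subtype.val hh
        simpa using this
      simp only [Subgroup.coe_pow, Subgroup.coe_one]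
      rw [conj_pow, h1]; group
    rcases hNmin _ hBn (Subgroup.map_subtype_le _) with h | h
    · rw [Subgroup.map_eq_bot_iff_of_injective _ N.subtype_injective] at h
      intro hdvd
      obtain ⟨x, hx⟩ := exists_prime_orderOf_dvd_card' (G := ↥N) p hdvd
      have hxH : x ∈ H := by
        rw [hmemH, ← hx, pow_orderOf_eq_one]
      rw [h, Subgroup.mem_bot] at hxH
      rw [hxH, orderOf_one] at hx
      exact hpp.one_lt.ne hx
    · exfalso
      apply hnp
      intro g
      refine ⟨2, ?_⟩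
      have h1 : g ^ p ∈ H.map N.subtype := by rw [h]; exact hQ N hN1 g
      obtain ⟨y, hy, hyg⟩ := h1
      have hy : y ∈ H := hy
      rw [hmemH] at hy
      have h2 : (y : G) ^ p = 1 := by
        have := congrArg Subtype.val hy
        simpa using this
      have h3 : (N.subtype y) = (y : G) := rfl
      rw [h3] at hyg
      rw [pow_two, pow_mul, ← hyg, h2]
  obtain P : Sylow p G := default
  have hquoN : IsPGroup p (G ⧸ N) := by
    intro x
    obtain ⟨g, rfl⟩ := QuotientGroup.mk_surjective x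
    refine ⟨1, ?_⟩
    rw [pow_one, ← QuotientGroup.mk_pow]
    exact (QuotientGroup.eq_one_iff _).2 (hQ N hN1 g)
  have hNP : N ⊔ (P : Subgroup G) = ⊤ := by
    rw [sup_comm]
    exact Cfsg.Agent.Lib.Helper16.Residual.sylow_sup_eq_top_of_isPGroup_quotient P N hquoN
  obtain ⟨k, hk⟩ := IsPGroup.iff_card.1 P.isPGroup'
  have hdisj : N ⊓ (P : Subgroup G) = ⊥ := by
    apply Subgroup.inf_eq_bot_of_coprime
    rw [hk]
    exact Nat.Coprime.pow_right k ((Nat.Prime.coprime_iff_not_dvd hpp).2 hNp).symm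
  have hPexp : ∀ b ∈ (P : Subgroup G), b ^ p = 1 := by
    intro b hb
    have h1 : b ^ p ∈ N ⊓ (P : Subgroup G) := ⟨hQ N hN1 b, Subgroup.pow_mem _ hb p⟩
    rw [hdisj, Subgroup.mem_bot] at h1
    exact h1
  have hP1 : (P : Subgroup G) ≠ ⊥ := by
    intro h
    rw [h, sup_bot_eq] at hNP
    exact hNt hNP
  have hX : ∀ H : Subgroup G, H ≠ ⊤ → ∀ R : Subgroup G, R ≤ (P : Subgroup G) → R ≤ H →
      ¬ p ∣ R.relIndex H → H ≤ Subgroup.normalizer (R : Set G) := by
    intro H hH R hRP hRH hrel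
    obtain ⟨Ω, hΩ⟩ := hsub H hH
    have hmemΩ : ∀ x : ↥H, x ∈ Ω ↔ x ^ p = 1 := by
      intro x
      have : x ∈ (Ω : Set ↥H) ↔ x ∈ {y : ↥H | y ^ p = 1} := by rw [hΩ]
      exact this
    have hΩp : IsPGroup p ↥Ω := by
      intro x
      refine ⟨1, Subtype.ext ?_⟩
      rw [pow_one]
      exact (hmemΩ x.1).1 x.2
    have hRp : IsPGroup p ↥(R.subgroupOf H) := (P.isPGroup'.to_le hRP).comap_subtype
    have hle : R.subgroupOf H ≤ Ω := by
      intro r hr
      rw [hmemΩ]
      apply Subtype.ext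
      have := hPexp _ (hRP (Subgroup.mem_subgroupOf.1 hr))
      simpa using this
    have hmax : Ω = R.subgroupOf H := (hRp.toSylow hrel).is_maximal' hΩp hle
    intro h hh
    apply mem_normalizer_of_conj_mem
    intro r hr
    have h1 : (⟨h * r * h⁻¹, H.mul_mem (H.mul_mem hh (hRH hr)) (H.inv_mem hh)⟩ : ↥H) ∈ Ω := by
      rw [hmemΩ]
      apply Subtype.ext
      simp only [Subgroup.coe_pow, Subgroup.coe_one]
      rw [conj_pow, hPexp r (hRP hr)]; group
    rw [hmax] at h1
    exact Subgroup.mem_subgroupOf.1 h1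
  have hY : (P : Subgroup G) ⊓ Subgroup.centralizer (N : Set G) = ⊥ := by
    by_contra hC
    haveI hCn := normal_inf_centralizer N (P : Subgroup G) hNP
    apply hnp
    intro g
    have h1 := hQ _ hC g
    obtain ⟨b, hb⟩ := P.isPGroup' ⟨_, (Subgroup.mem_inf.1 h1).1⟩
    refine ⟨1 + b, ?_⟩
    have hb' : (g ^ p) ^ p ^ b = 1 := by
      have := congrArg Subtype.val hb
      simpa using this
    rw [pow_add, pow_one, pow_mul]
    exact hb'
  exact core N P hNP hNp hN1 hNmin hX hY hP1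

end Cfsg.Agent.S3873
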