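import Mathlib
import Cfsg.Statements.S3889

set_option autoImplicit false
open Cfsg

namespace Cfsg.Agent.S3889

/-- A finite abelian group that is the union of a family of proper subgroups any two of which intersect trivially is elementary abelian: its exponent is a prime. -/
theorem result {G : Type*} [CommGroup G] [Finite G] (𝓑 : Set (Subgroup G)) (hprop : ∀ B ∈ 𝓑, B ≠ ⊤)
    (hcov : ∀ g : G, ∃ B ∈ 𝓑, g ∈ B) (hdisj : ∀ B ∈ 𝓑, ∀ C ∈ 𝓑, B ≠ C → B ⊓ C = ⊥) :
    (Monoid.exponent G).Prime := by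
  -- key: a ∈ A, a ≠ 1, b ∉ A ⇒ b ^ orderOf a = 1
  have key : ∀ A ∈ 𝓑, ∀ a ∈ A, a ≠ 1 → ∀ b : G, b ∉ A → b ^ orderOf a = 1 := by
    intro A hA a haA ha1 b hbA
    by_contra hbn
    obtain ⟨B, hB, hbB⟩ := hcov b
    have hAB : A ≠ B := fun h => hbA (h ▸ hbB)
    obtain ⟨C, hC, habC⟩ := hcov (a * b)
    have h1 : (a * b) ^ orderOf a = b ^ orderOf a := by
      rw [mul_pow, pow_orderOf_eq_one, one_mul]
    have h2 : b ^ orderOf a ∈ C := by rw [← h1]; exact C.pow_mem habC _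
    have h3 : b ^ orderOf a ∈ B := B.pow_mem hbB _
    have hCB : C = B := by
      by_contra hne
      have h4 := hdisj C hC B hB hne
      have h5 : b ^ orderOf a ∈ C ⊓ B := ⟨h2, h3⟩
      rw [h4, Subgroup.mem_bot] at h5
      exact hbn h5
    rw [hCB] at habC
    have h6 : a ∈ B := by
      have h7 := B.mul_mem habC (B.inv_mem hbB)
      rwa [mul_inv_cancel_right] at h7
    have h8 : a ∈ A ⊓ B := ⟨haA, h6⟩
    rw [hdisj A hA B hB hAB, Subgroup.mem_bot] at h8
    exact ha1 h8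
  -- orders agree across different components
  have key2 : ∀ A ∈ 𝓑, ∀ a ∈ A, a ≠ 1 → ∀ b : G, b ∉ A → orderOf a = orderOf b := by
    intro A hA a haA ha1 b hbA
    have h1 : orderOf b ∣ orderOf a := orderOf_dvd_of_pow_eq_one (key A hA a haA ha1 b hbA)
    obtain ⟨B, hB, hbB⟩ := hcov b
    have hAB : A ≠ B := fun h => hbA (h ▸ hbB)
    have hb1 : b ≠ 1 := fun h => hbA (h ▸ A.one_mem)
    have haB : a ∉ B := by
      intro h
      have h8 : a ∈ A ⊓ B := ⟨haA, h⟩
      rw [hdisj A hA B hB hAB, Subgroup.mem_bot] at h8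
      exact ha1 h8
    have h2 : orderOf a ∣ orderOf b := orderOf_dvd_of_pow_eq_one (key B hB b hbB hb1 a haB)
    exact Nat.dvd_antisymm h2 h1
  -- a non-identity element
  obtain ⟨A₀, hA₀, h1A₀⟩ := hcov 1
  obtain ⟨w, -, hwA₀⟩ := SetLike.exists_of_lt (lt_top_iff_ne_top.mpr (hprop A₀ hA₀))
  have hw1 : w ≠ 1 := fun h => hwA₀ (h ▸ A₀.one_mem)
  have : Nontrivial G := ⟨⟨w, 1, hw1⟩⟩
  -- all non-identity elements have the same order
  have hall : ∀ x : G, x ≠ 1 → orderOf x = orderOf w := by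
    intro x hx1
    obtain ⟨A, hA, hxA⟩ := hcov x
    by_cases hwA : w ∈ A
    · obtain ⟨v, -, hvA⟩ := SetLike.exists_of_lt (lt_top_iff_ne_top.mpr (hprop A hA))
      rw [key2 A hA x hxA hx1 v hvA, key2 A hA w hwA hw1 v hvA]
    · exact key2 A hA x hxA hx1 w hwA
  -- the common order is prime
  have hn0 : orderOf w ≠ 0 := (orderOf_pos w).ne'
  have hn1 : orderOf w ≠ 1 := fun h => hw1 (orderOf_eq_one_iff.mp h)
  obtain ⟨q, hq, hqn⟩ := Nat.exists_prime_and_dvd hn1
  have h2 : orderOf (w ^ (orderOf w / q)) = q := orderOf_pow_orderOf_div hn0 hqn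
  have h3 : w ^ (orderOf w / q) ≠ 1 := by
    intro h
    rw [h, orderOf_one] at h2
    exact hq.one_lt.ne h2
  have h4 : orderOf w = q := by rw [← hall _ h3, h2]
  have hprime : (orderOf w).Prime := by rw [h4]; exact hq
  have h5 : Monoid.exponent G = orderOf w := (Monoid.exponent_eq_prime_iff hprime).mpr hall
  rw [h5]
  exact hprime

end Cfsg.Agent.S3889
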