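import Cfsg.Statements.S3890
import Cfsg.Agent.Lib.Helper29.NilCover

set_option autoImplicit false
open Cfsg

namespace Cfsg.Agent.S3890

/-- A cover of a group is a finite set of proper subgroups whose union is the whole group; it is minimal when no cover has fewer members, and nilpotent when all its members are nilpotent. Let G be a finite group with trivial center admitting a nilpotent minimal cover 𝓐, and let P be an abelian Sylow p-subgroup of G that is not normal. Then either P is elementary abelian of order greater than p, or P is a Sylow p-subgroup of some member A of 𝓐, the normalizer N of P is a maximal subgroup of G, N meets each of its conjugates by elements outside N in a subgroup of order prime to p, and the centralizer of P equals A. -/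
theorem result {G : Type*} [Group G] [Finite G] (hZ : Subgroup.center G = ⊥) (𝓐 : Finset (Subgroup G))
    (h𝓐 : ((∀ A ∈ 𝓐, A ≠ ⊤) ∧ (∀ g : G, ∃ A ∈ 𝓐, g ∈ A)) ∧ (∀ 𝓑 : Finset (Subgroup G), (∀ A ∈ 𝓑, A ≠ ⊤) ∧ (∀ g : G, ∃ A ∈ 𝓑, g ∈ A) → 𝓐.card ≤ 𝓑.card) ∧ (∀ A ∈ 𝓐, Group.IsNilpotent ↥A)) {p : ℕ} [Fact p.Prime] (P : Sylow p G) (hab : IsMulCommutative ↥(P : Subgroup G))
    (hnn : ¬ (P : Subgroup G).Normal) :
    (Cfsg.IsElementaryAbelian p (P : Subgroup G) ∧ p < Nat.card ↥(P : Subgroup G)) ∨
    (∃ A ∈ 𝓐, (P : Subgroup G) ≤ A ∧ ¬ p ∣ ((P : Subgroup G).subgroupOf A).index ∧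
      IsCoatom (Subgroup.normalizer ((P : Subgroup G) : Set G)) ∧
      (∀ g : G, g ∉ Subgroup.normalizer ((P : Subgroup G) : Set G) →
        ¬ p ∣ Nat.card ↥(Subgroup.normalizer ((P : Subgroup G) : Set G) ⊓
          (Subgroup.normalizer ((P : Subgroup G) : Set G)).map (MulAut.conj g).toMonoidHom)) ∧
      Subgroup.centralizer ((P : Subgroup G) : Set G) = A) := by
  obtain ⟨⟨hprop, hcov⟩, hmin, hnil⟩ := h𝓐
  by_cases hE : Cfsg.IsElementaryAbelian p (P : Subgroup G) ∧ p < Nat.card ↥(P : Subgroup G)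
  · exact Or.inl hE
  right
  have hab' : ∀ a ∈ P, ∀ b ∈ P, a * b = b * a :=
    Cfsg.Agent.Lib.Helper29.NilCover.comm_of_isMulCommutative P hab
  have hctx : Cfsg.Agent.Lib.Helper29.NilCover.Ctx G 𝓐 p :=
    ⟨hZ, hprop, hcov, hmin, hnil, Cfsg.Agent.Lib.Helper29.NilCover.ab_all P hab'⟩
  have hgood : Cfsg.Agent.Lib.Helper29.NilCover.Good p P := by
    by_cases hexp : ∀ a ∈ (P : Subgroup G), a ^ p = 1
    · have hle : Nat.card ↥(P : Subgroup G) ≤ p := by
        by_contra hlt
        exact hE ⟨⟨hab, hexp⟩, not_le.1 hlt⟩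
      obtain ⟨n, hn⟩ := IsPGroup.iff_card.1 P.2
      have hp : p.Prime := Fact.out
      have hn0 : n ≠ 0 := by
        rintro rfl
        rw [pow_zero] at hn
        apply hnn
        have hbot : (P : Subgroup G) = ⊥ := (Subgroup.card_eq_one).1 hn
        rw [hbot]; infer_instance
      have hn1 : n = 1 := by
        by_contra hn1
        have h2 : 2 ≤ n := by omega
        have h3 : p ^ 2 ≤ p ^ n := Nat.pow_le_pow_right hp.pos h2
        have h4 : p < p ^ 2 := by
          have := hp.one_lt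
          nlinarith
        omega
      rw [hn1, pow_one] at hn
      exact Cfsg.Agent.Lib.Helper29.NilCover.good_of_cyclic P (isCyclic_of_prime_card hn)
    · exact Cfsg.Agent.Lib.Helper29.NilCover.good_of_not_exp P hexp
  obtain ⟨A, hA, hPA, hCA, hcoat, hmax, hTI⟩ :=
    Cfsg.Agent.Lib.Helper29.NilCover.main hctx P hgood hnn
  refine ⟨A, hA, hPA, ?_, hcoat, hTI, hCA⟩
  intro hdvd
  have h1 : ((P : Subgroup G).subgroupOf A).index * A.index = (P : Subgroup G).index :=
    Subgroup.relIndex_mul_index hPA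
  exact P.not_dvd_index (h1 ▸ Dvd.dvd.mul_right hdvd _)

end Cfsg.Agent.S3890
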