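import Cfsg.Statements.S3891
import Cfsg.Agent.Lib.Helper29.NilCover

set_option autoImplicit false
open Cfsg

namespace Cfsg.Agent.S3891

/-- A cover of a group is a finite set of proper subgroups whose union is the whole group; it is minimal when no cover has fewer members, and nilpotent when all its members are nilpotent. Let G be a finite group with trivial center admitting a nilpotent minimal cover, and let P be a non-normal Sylow p-subgroup of G that is cyclic, or abelian but not elementary abelian. Then the centralizer of P is nilpotent and the normalizer of P is the unique maximal subgroup of G containing the centralizer of P. -/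
theorem result {G : Type*} [Group G] [Finite G] (hZ : Subgroup.center G = ⊥) (𝓐 : Finset (Subgroup G))
    (h𝓐 : ((∀ A ∈ 𝓐, A ≠ ⊤) ∧ (∀ g : G, ∃ A ∈ 𝓐, g ∈ A)) ∧ (∀ 𝓑 : Finset (Subgroup G), (∀ A ∈ 𝓑, A ≠ ⊤) ∧ (∀ g : G, ∃ A ∈ 𝓑, g ∈ A) → 𝓐.card ≤ 𝓑.card) ∧ (∀ A ∈ 𝓐, Group.IsNilpotent ↥A)) {p : ℕ} [Fact p.Prime] (P : Sylow p G)
    (hP : IsCyclic ↥(P : Subgroup G) ∨ (IsMulCommutative ↥(P : Subgroup G) ∧ ¬ Cfsg.IsElementaryAbelian p (P : Subgroup G)))
    (hnn : ¬ (P : Subgroup G).Normal) :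
    Group.IsNilpotent ↥(Subgroup.centralizer ((P : Subgroup G) : Set G)) ∧
      IsCoatom (Subgroup.normalizer ((P : Subgroup G) : Set G)) ∧
      ∀ M : Subgroup G, IsCoatom M → Subgroup.centralizer ((P : Subgroup G) : Set G) ≤ M →
        M = Subgroup.normalizer ((P : Subgroup G) : Set G) := by
  obtain ⟨⟨hprop, hcov⟩, hmin, hnil⟩ := h𝓐
  have hab : ∀ a ∈ P, ∀ b ∈ P, a * b = b * a := by
    rcases hP with hc | ⟨hc, _⟩
    · exact Cfsg.Agent.Lib.Helper29.NilCover.comm_of_cyclic P hc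
    · exact Cfsg.Agent.Lib.Helper29.NilCover.comm_of_isMulCommutative P hc
  have hctx : Cfsg.Agent.Lib.Helper29.NilCover.Ctx G 𝓐 p :=
    ⟨hZ, hprop, hcov, hmin, hnil, Cfsg.Agent.Lib.Helper29.NilCover.ab_all P hab⟩
  have hgood : Cfsg.Agent.Lib.Helper29.NilCover.Good p P := by
    rcases hP with hc | ⟨hc, hne⟩
    · exact Cfsg.Agent.Lib.Helper29.NilCover.good_of_cyclic P hc
    · apply Cfsg.Agent.Lib.Helper29.NilCover.good_of_not_exp P
      intro hexp
      exact hne ⟨hc, hexp⟩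
  obtain ⟨A, hA, hPA, hCA, hcoat, hmax, hTI⟩ :=
    Cfsg.Agent.Lib.Helper29.NilCover.main hctx P hgood hnn
  refine ⟨?_, hcoat, fun M hM hCM => hmax M hM (hCA ▸ hCM)⟩
  rw [hCA]
  exact hnil A hA

end Cfsg.Agent.S3891
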