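-- Statement S4029: irrational 2-groups, generator bound via counting real classes.
import Mathlib
import Cfsg.Statements.S4029
import Cfsg.Agent.Lib.Helper22.Regular

set_option autoImplicit false
open Cfsg

namespace Cfsg.Agent.S4029

/-- squares lie in the Frattini subgroup of a 2-group -/
theorem sq_mem_frattini {P : Type*} [Group P] [Finite P] (hP : IsPGroup 2 P) (x : P) :
    x * x ∈ frattini P := by
  haveI : Fact (Nat.Prime 2) := ⟨Nat.prime_two⟩
  unfold frattini Order.radical
  simp only [Subgroup.mem_iInf]
  intro M hM
  have := (Cfsg.Agent.Lib.Helper22.Regular.pgroup_coatom hP M hM).1 x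
  rwa [pow_two] at this

theorem mem_normalizer_zpowers {P : Type*} [Group P] (x g : P) (hp : g * x * g⁻¹ = x⁻¹) :
    g ∈ Subgroup.normalizer ((Subgroup.zpowers x : Subgroup P) : Set P) := by
  have hp' : g⁻¹ * x * g = x⁻¹ := by
    have : x = g⁻¹ * x⁻¹ * g := by rw [← hp]; group
    calc g⁻¹ * x * g = (g⁻¹ * x⁻¹ * g)⁻¹ := by group
      _ = x⁻¹ := by rw [← this]
  rw [Subgroup.mem_normalizer_iff]
  intro h
  constructor
  · rintro ⟨k, rfl⟩
    have : g * x ^ k * g⁻¹ = (g * x * g⁻¹) ^ k := by rw [conj_zpow]
    rw [this, hp]
    exact zpow_mem (inv_mem (Subgroup.mem_zpowers x)) k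
  · rintro ⟨k, hk⟩
    have h2 : (g⁻¹ * x * g) ^ k = g⁻¹ * x ^ k * g := by
      have := conj_zpow (a := g⁻¹) (b := x) (i := k)
      simpa using this
    have : h = (g⁻¹ * x * g) ^ k := by
      rw [h2]
      have hk' : x ^ k = g * h * g⁻¹ := hk
      rw [hk']; group
    rw [this, hp']
    exact zpow_mem (inv_mem (Subgroup.mem_zpowers x)) k

section count

variable {P : Type*} [Group P] [Fintype P] [DecidableEq P]

/-- number of square roots -/
def theta (h : P) : ℕ := (Finset.univ.filter (fun y : P => y * y = h)).card

theorem sum_theta : ∑ h : P, theta h = Fintype.card P := by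
  unfold theta
  rw [← Finset.card_eq_sum_card_fiberwise (f := fun y : P => y * y) (s := Finset.univ)
    (t := Finset.univ) (fun x _ => Finset.mem_univ _)]
  rfl

theorem card_T :
    (Finset.univ.filter (fun p : P × P => p.2 * p.1 * p.2⁻¹ = p.1⁻¹)).card =
      ∑ h : P, theta h ^ 2 := by
  have h1 : (Finset.univ.filter (fun p : P × P => p.2 * p.1 * p.2⁻¹ = p.1⁻¹)).card =
      (Finset.univ.filter (fun p : P × P => p.1 * p.1 = p.2 * p.2)).card := by
    refine Finset.card_nbij' (fun p => (p.1 * p.2, p.2)) (fun p => (p.1 * p.2⁻¹, p.2)) ?_ ?_ ?_ ?_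
    · rintro ⟨x, g⟩ hp
      simp only [Finset.coe_filter, Finset.mem_univ, true_and, Set.mem_setOf_eq] at hp ⊢
      calc x * g * (x * g) = x * (g * x * g⁻¹) * g * g := by group
        _ = g * g := by rw [hp]; group
    · rintro ⟨y, g⟩ hp
      simp only [Finset.coe_filter, Finset.mem_univ, true_and, Set.mem_setOf_eq] at hp ⊢
      calc g * (y * g⁻¹) * g⁻¹ = g * y * (g * g)⁻¹ := by group
        _ = g * y * (y * y)⁻¹ := by rw [hp]
        _ = (y * g⁻¹)⁻¹ := by group
    · rintro ⟨x, g⟩ _
      simp
    · rintro ⟨y, g⟩ _
      simp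
  rw [h1, Finset.card_filter, Fintype.sum_prod_type, Finset.sum_comm]
  have h2 : ∀ g : P, ∑ y : P, (if y * y = g * g then 1 else 0) = theta (g * g) := by
    intro g
    unfold theta
    rw [Finset.card_filter]
  rw [Finset.sum_congr rfl (fun g _ => h2 g)]
  rw [← Finset.sum_fiberwise (s := Finset.univ) (g := fun g : P => g * g) (f := fun g => theta (g * g))]
  refine Finset.sum_congr rfl (fun h _ => ?_)
  rw [Finset.sum_congr rfl (fun g hg => by rw [(Finset.mem_filter.mp hg).2] : ∀ g ∈ Finset.univ.filter (fun g : P => g * g = h), theta (g * g) = theta h)]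
  rw [Finset.sum_const, smul_eq_mul, pow_two]
  rfl

/-- centralizer order -/
def cz (x : P) : ℕ := (Finset.univ.filter (fun g : P => g * x = x * g)).card

theorem cz_eq (x : P) : cz x = Nat.card (Subgroup.centralizer ({x} : Set P)) := by
  unfold cz
  have h1 : Nat.card (Subgroup.centralizer ({x} : Set P)) = Nat.card {g : P // g * x = x * g} :=
    Nat.card_congr (Equiv.subtypeEquivRight (fun g => Subgroup.mem_centralizer_singleton_iff))
  rw [h1, Nat.card_eq_fintype_card, Fintype.card_subtype]

theorem class_mul_cz (x : P) :
    (Finset.univ.filter (fun y : P => ConjClasses.mk y = ConjClasses.mk x)).card * cz x =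
      Fintype.card P := by
  classical
  have h1 := MulAction.card_orbit_mul_card_stabilizer_eq_card_group (ConjAct P) x
  rw [cz_eq, Subgroup.nat_card_centralizer_nat_card_stabilizer]
  have h2 : (Finset.univ.filter (fun y : P => ConjClasses.mk y = ConjClasses.mk x)).card =
      Nat.card (MulAction.orbit (ConjAct P) x) := by
    have h3 : Nat.card (MulAction.orbit (ConjAct P) x) =
        Nat.card {y : P // ConjClasses.mk y = ConjClasses.mk x} := by
      apply Nat.card_congr
      refine Equiv.subtypeEquivRight (fun y => ?_)
      rw [ConjClasses.mk_eq_mk_iff_isConj, ConjAct.mem_orbit_conjAct]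
    rw [h3, Nat.card_eq_fintype_card, Fintype.card_subtype]
  rw [h2]
  simp only [Nat.card_eq_fintype_card]
  rw [h1]
  rfl

theorem sum_cz_class (c : ConjClasses P) :
    ∑ y ∈ Finset.univ.filter (fun y : P => ConjClasses.mk y = c), cz y = Fintype.card P := by
  obtain ⟨x, rfl⟩ := ConjClasses.mk_surjective c
  have hpos : 0 < (Finset.univ.filter (fun y : P => ConjClasses.mk y = ConjClasses.mk x)).card :=
    Finset.card_pos.mpr ⟨x, by simp⟩
  have h1 : ∀ y ∈ Finset.univ.filter (fun y : P => ConjClasses.mk y = ConjClasses.mk x),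
      cz y = cz x := by
    intro y hy
    have hy' : ConjClasses.mk y = ConjClasses.mk x := (Finset.mem_filter.mp hy).2
    have h2 := class_mul_cz y
    rw [hy', ← class_mul_cz x] at h2
    exact Nat.eq_of_mul_eq_mul_left hpos h2
  rw [Finset.sum_congr rfl h1, Finset.sum_const, smul_eq_mul, class_mul_cz]

end count

theorem main {P : Type*} [Group P] [Finite P] (hP : IsPGroup 2 P)
    (hirr : ∀ y : P, Subgroup.normalizer ((Subgroup.zpowers y : Subgroup P) : Set P) ≤
      Subgroup.centralizer {y}) :
    Nat.card (P ⧸ frattini P) ≤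
      Nat.card {c : ConjClasses P // ∃ y : P, ConjClasses.mk y = c ∧ orderOf y = 2} + 1 := by
  classical
  have hfin : Fintype P := Fintype.ofFinite P
  have hdec : DecidableEq P := Classical.decEq P
  have hcc : Fintype (ConjClasses P) := Fintype.ofFinite _
  set s := Nat.card {c : ConjClasses P // ∃ y : P, ConjClasses.mk y = c ∧ orderOf y = 2} with hs
  set n := Fintype.card P with hn
  have hnpos : 0 < n := Fintype.card_pos
  -- the set of pairs
  set T := Finset.univ.filter (fun p : P × P => p.2 * p.1 * p.2⁻¹ = p.1⁻¹) with hT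
  -- upper bound
  have hup : T.card ≤ n * (s + 1) := by
    -- T ⊆ pairs with x * x = 1 and commuting
    have hsub : T ⊆ Finset.univ.filter (fun p : P × P => p.1 * p.1 = 1 ∧ p.2 * p.1 = p.1 * p.2) := by
      rintro ⟨x, g⟩ hp
      simp only [hT, Finset.mem_filter, Finset.mem_univ, true_and] at hp ⊢
      have hgN : g ∈ Subgroup.normalizer ((Subgroup.zpowers x : Subgroup P) : Set P) := by
        exact Cfsg.Agent.S4029.mem_normalizer_zpowers x g hp
      have hgC := hirr x hgN
      rw [Subgroup.mem_centralizer_singleton_iff] at hgC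
      -- hgC : g * x = x * g
      have hxx : x⁻¹ = x := by
        rw [← hp, hgC, mul_inv_cancel_right]
      refine ⟨?_, hgC⟩
      calc x * x = x * x⁻¹ := by rw [hxx]
        _ = 1 := mul_inv_cancel x
    have h1 : (Finset.univ.filter (fun p : P × P => p.1 * p.1 = 1 ∧ p.2 * p.1 = p.1 * p.2)).card =
        ∑ x ∈ Finset.univ.filter (fun x : P => x * x = 1), cz x := by
      rw [Finset.card_filter, Fintype.sum_prod_type, Finset.sum_filter]
      refine Finset.sum_congr rfl (fun x _ => ?_)
      by_cases hx : x * x = 1
      · simp only [hx, true_and, if_true]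
        unfold cz
        rw [Finset.card_filter]
      · simp [hx]
    have h2 : ∑ x ∈ Finset.univ.filter (fun x : P => x * x = 1), cz x =
        ∑ c : ConjClasses P, ∑ x ∈ (Finset.univ.filter (fun x : P => x * x = 1)).filter
          (fun x => ConjClasses.mk x = c), cz x :=
      (Finset.sum_fiberwise _ _ _).symm
    have h3 : ∀ c : ConjClasses P, ∑ x ∈ (Finset.univ.filter (fun x : P => x * x = 1)).filter
          (fun x => ConjClasses.mk x = c), cz x =
        if (∃ y : P, ConjClasses.mk y = c ∧ y * y = 1) then n else 0 := by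
      intro c
      by_cases hc : ∃ y : P, ConjClasses.mk y = c ∧ y * y = 1
      · rw [if_pos hc]
        obtain ⟨y, rfl, hy⟩ := hc
        have : (Finset.univ.filter (fun x : P => x * x = 1)).filter
            (fun x => ConjClasses.mk x = ConjClasses.mk y) =
            Finset.univ.filter (fun x : P => ConjClasses.mk x = ConjClasses.mk y) := by
          ext x
          simp only [Finset.mem_filter, Finset.mem_univ, true_and]
          constructor
          · exact fun h => h.2
          · intro h
            refine ⟨?_, h⟩
            rw [ConjClasses.mk_eq_mk_iff_isConj, isConj_iff] at h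
            obtain ⟨c, hc⟩ := h
            rw [← hc] at hy
            have : c * (x * x) * c⁻¹ = 1 := by
              calc c * (x * x) * c⁻¹ = c * x * c⁻¹ * (c * x * c⁻¹) := by group
                _ = 1 := hy
            calc x * x = c⁻¹ * (c * (x * x) * c⁻¹) * c := by group
              _ = 1 := by rw [this]; group
        rw [this, sum_cz_class]
      · rw [if_neg hc]
        apply Finset.sum_eq_zero
        intro x hx
        exfalso
        simp only [Finset.mem_filter, Finset.mem_univ, true_and] at hx
        exact hc ⟨x, hx.2, hx.1⟩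
    have h4 : ∑ c : ConjClasses P, (if (∃ y : P, ConjClasses.mk y = c ∧ y * y = 1) then n else 0) =
        (Finset.univ.filter (fun c : ConjClasses P => ∃ y : P, ConjClasses.mk y = c ∧ y * y = 1)).card * n := by
      rw [← Finset.sum_filter, Finset.sum_const, smul_eq_mul]
    have h5 : (Finset.univ.filter (fun c : ConjClasses P => ∃ y : P, ConjClasses.mk y = c ∧ y * y = 1)).card ≤ s + 1 := by
      have hsub2 : Finset.univ.filter (fun c : ConjClasses P => ∃ y : P, ConjClasses.mk y = c ∧ y * y = 1) ⊆
          insert (ConjClasses.mk (1 : P))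
            (Finset.univ.filter (fun c : ConjClasses P => ∃ y : P, ConjClasses.mk y = c ∧ orderOf y = 2)) := by
        intro c hc
        simp only [Finset.mem_filter, Finset.mem_univ, true_and] at hc
        obtain ⟨y, rfl, hy⟩ := hc
        rw [Finset.mem_insert]
        by_cases hy1 : y = 1
        · left; rw [hy1]
        · right
          simp only [Finset.mem_filter, Finset.mem_univ, true_and]
          refine ⟨y, rfl, ?_⟩
          apply orderOf_eq_prime
          · rw [pow_two]; exact hy
          · exact hy1
      have hcard : (Finset.univ.filter (fun c : ConjClasses P => ∃ y : P, ConjClasses.mk y = c ∧ orderOf y = 2)).card = s := by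
        rw [hs, Nat.card_eq_fintype_card, Fintype.card_subtype]
      calc _ ≤ (insert (ConjClasses.mk (1 : P))
            (Finset.univ.filter (fun c : ConjClasses P => ∃ y : P, ConjClasses.mk y = c ∧ orderOf y = 2))).card :=
            Finset.card_le_card hsub2
        _ ≤ _ + 1 := Finset.card_insert_le _ _
        _ = s + 1 := by rw [hcard]
    calc T.card ≤ _ := Finset.card_le_card hsub
      _ = _ := h1
      _ = _ := h2
      _ = _ := Finset.sum_congr rfl (fun c _ => h3 c)
      _ = _ := h4
      _ ≤ (s + 1) * n := Nat.mul_le_mul_right n h5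
      _ = n * (s + 1) := Nat.mul_comm _ _
  -- lower bound
  set F := Finset.univ.filter (fun h : P => h ∈ frattini P) with hF
  have hFcard : F.card = Nat.card (frattini P) := by
    rw [hF, Nat.card_eq_fintype_card, Fintype.card_subtype]
  have hsumF : ∑ h ∈ F, theta h = n := by
    rw [hn, ← sum_theta (P := P)]
    apply Finset.sum_subset (Finset.subset_univ _)
    intro h _ hh
    simp only [hF, Finset.mem_filter, Finset.mem_univ, true_and] at hh
    unfold theta
    rw [Finset.card_eq_zero, Finset.filter_eq_empty_iff]
    intro y _ hy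
    exact hh (hy ▸ sq_mem_frattini hP y)
  have hlow : n ^ 2 ≤ Nat.card (frattini P) * T.card := by
    have hcs := sq_sum_le_card_mul_sum_sq (s := F) (f := fun h : P => theta h)
    rw [hsumF, hFcard] at hcs
    have hle : ∑ h ∈ F, theta h ^ 2 ≤ T.card := by
      rw [hT, card_T]
      exact Finset.sum_le_sum_of_subset (Finset.subset_univ _)
    exact hcs.trans (Nat.mul_le_mul_left _ hle)
  -- combine
  have hidx : Nat.card (P ⧸ frattini P) * Nat.card (frattini P) = n := by
    rw [hn, ← Nat.card_eq_fintype_card]
    exact (Subgroup.card_eq_card_quotient_mul_card_subgroup (frattini P)).symm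
  have hΦpos : 0 < Nat.card (frattini P) := Nat.card_pos
  have h6 : n * n ≤ n * (Nat.card (frattini P) * (s + 1)) := by
    calc n * n = n ^ 2 := (pow_two n).symm
      _ ≤ Nat.card (frattini P) * T.card := hlow
      _ ≤ Nat.card (frattini P) * (n * (s + 1)) := Nat.mul_le_mul_left _ hup
      _ = n * (Nat.card (frattini P) * (s + 1)) := by ring
  have h7 : n ≤ Nat.card (frattini P) * (s + 1) := Nat.le_of_mul_le_mul_left h6 hnpos
  rw [← hidx, mul_comm] at h7
  exact Nat.le_of_mul_le_mul_left h7 hΦpos

/-- Let P be a finite 2-group in which N_P(⟨y⟩) = C_P(y) for every y ∈ P. If s is the number of conjugacy classes of involutions of P, then #(P/Φ(P)) ≤ s + 1; in particular the subgroup generated by the involutions of P has order at least #(P/Φ(P)). -/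
theorem result {P : Type*} [Group P] [Finite P] (hP : IsPGroup 2 P)
    (hirr : ∀ y : P, Subgroup.normalizer ((Subgroup.zpowers y : Subgroup P) : Set P) ≤ Subgroup.centralizer {y}) :
    Nat.card (P ⧸ frattini P) ≤ Nat.card {c : ConjClasses P // ∃ y : P, ConjClasses.mk y = c ∧ orderOf y = 2} + 1 ∧
    Nat.card (P ⧸ frattini P) ≤ Nat.card (Subgroup.closure {y : P | orderOf y = 2}) := by
  have h1 := main hP hirr
  refine ⟨h1, h1.trans ?_⟩
  classical
  rw [← Finite.card_option]
  let f : Option {c : ConjClasses P // ∃ y : P, ConjClasses.mk y = c ∧ orderOf y = 2} →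
      Subgroup.closure {y : P | orderOf y = 2} := fun o =>
    match o with
    | none => 1
    | some c => ⟨c.2.choose, Subgroup.subset_closure c.2.choose_spec.2⟩
  apply Nat.card_le_card_of_injective f
  intro a b hab
  rcases a with _ | a <;> rcases b with _ | b
  · rfl
  · exfalso
    have h2 : (1 : P) = b.2.choose := congrArg Subtype.val hab
    have h3 := b.2.choose_spec.2
    rw [← h2, orderOf_one] at h3
    exact absurd h3 (by norm_num)
  · exfalso
    have h2 : a.2.choose = (1 : P) := congrArg Subtype.val hab
    have h3 := a.2.choose_spec.2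
    rw [h2, orderOf_one] at h3
    exact absurd h3 (by norm_num)
  · have h2 : a.2.choose = b.2.choose := congrArg Subtype.val hab
    have h3 : a.1 = b.1 := by
      rw [← a.2.choose_spec.1, ← b.2.choose_spec.1, h2]
    exact congrArg some (Subtype.ext h3)

end Cfsg.Agent.S4029
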