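-- Statement S3899: many classes of pi-elements (pi odd) force a normal pi-complement.
import Mathlib
import Cfsg.Statements.S3899
import Cfsg.Agent.S4029
import Cfsg.Agent.S3897
import Cfsg.Agent.Lib.Helper21.PiTools2

set_option autoImplicit false
open Cfsg

namespace Cfsg.Agent.S3899

universe u

/-- `π`-elements as in the statement -/
def PiEl (π : Finset ℕ) {H : Type u} [Group H] (x : H) : Prop :=
  ∀ r : ℕ, r.Prime → r ∣ orderOf x → r ∈ π

/-- the `π`-part of a number as in the statement -/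
def piPart (π : Finset ℕ) (n : ℕ) : ℕ := π.prod (fun r => r ^ n.factorization r)

theorem piEl_conj (π : Finset ℕ) {H : Type u} [Group H] (x g : H) (hx : PiEl π x) :
    PiEl π (g * x * g⁻¹) := by
  intro r hr hrd
  rw [Cfsg.Agent.S3897.orderOf_conj'] at hrd
  exact hx r hr hrd

theorem rEl_conj (r : ℕ) {H : Type u} [Group H] (x g : H) (hx : ∃ k : ℕ, orderOf x = r ^ k) :
    ∃ k : ℕ, orderOf (g * x * g⁻¹) = r ^ k := by
  obtain ⟨k, hk⟩ := hx
  exact ⟨k, by rw [Cfsg.Agent.S3897.orderOf_conj', hk]⟩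

theorem card_pairs_sum {H : Type u} [Group H] [Fintype H] [DecidableEq H] (X : H → Prop)
    [DecidablePred X] :
    Nat.card {q : H × H // X q.1 ∧ q.2 * q.1 = q.1 * q.2} =
      ∑ x ∈ Finset.univ.filter (fun x : H => X x), Cfsg.Agent.S4029.cz x := by
  rw [Nat.card_eq_fintype_card, Fintype.card_subtype, Finset.card_filter, Fintype.sum_prod_type,
    Finset.sum_filter]
  refine Finset.sum_congr rfl (fun x _ => ?_)
  by_cases hx : X x
  · simp only [hx, true_and, if_true]
    unfold Cfsg.Agent.S4029.cz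
    rw [Finset.card_filter]
  · simp [hx]

theorem card_pairs {H : Type u} [Group H] [Finite H] (X : H → Prop)
    (hX : ∀ x g, X x → X (g * x * g⁻¹)) :
    Nat.card {q : H × H // X q.1 ∧ q.2 * q.1 = q.1 * q.2} =
      Nat.card H * Nat.card {c : ConjClasses H // ∀ x ∈ c.carrier, X x} := by
  classical
  have hfin : Fintype H := Fintype.ofFinite H
  have hdec : DecidableEq H := Classical.decEq H
  have hcc : Fintype (ConjClasses H) := Fintype.ofFinite _
  rw [card_pairs_sum,
    ← Finset.sum_fiberwise (s := Finset.univ.filter (fun x : H => X x))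
      (g := fun x => ConjClasses.mk x)]
  have h3 : ∀ c : ConjClasses H, ∑ x ∈ (Finset.univ.filter (fun x : H => X x)).filter
      (fun x => ConjClasses.mk x = c), Cfsg.Agent.S4029.cz x =
      if (∀ x ∈ c.carrier, X x) then Fintype.card H else 0 := by
    intro c
    by_cases hc : ∀ x ∈ c.carrier, X x
    · rw [if_pos hc]
      have h4 : (Finset.univ.filter (fun x : H => X x)).filter (fun x => ConjClasses.mk x = c) =
          Finset.univ.filter (fun x : H => ConjClasses.mk x = c) := by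
        ext x
        simp only [Finset.mem_filter, Finset.mem_univ, true_and]
        exact ⟨fun h => h.2, fun h => ⟨hc x (ConjClasses.mem_carrier_iff_mk_eq.mpr h), h⟩⟩
      rw [h4, Cfsg.Agent.S4029.sum_cz_class]
    · rw [if_neg hc]
      apply Finset.sum_eq_zero
      intro x hx
      exfalso
      simp only [Finset.mem_filter, Finset.mem_univ, true_and] at hx
      apply hc
      intro y hy
      rw [ConjClasses.mem_carrier_iff_mk_eq, ← hx.2, ConjClasses.mk_eq_mk_iff_isConj,
        isConj_comm, isConj_iff] at hy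
      obtain ⟨g, hg⟩ := hy
      rw [← hg]
      exact hX x g hx.1
  rw [Finset.sum_congr rfl (fun c _ => h3 c), ← Finset.sum_filter, Finset.sum_const, smul_eq_mul,
    mul_comm, Nat.card_eq_fintype_card, Nat.card_eq_fintype_card, Fintype.card_subtype]

theorem kr_le {H : Type u} [Group H] [Finite H] (r : ℕ) [Fact r.Prime] :
    Nat.card {c : ConjClasses H // ∀ x ∈ c.carrier, ∃ k : ℕ, orderOf x = r ^ k} ≤
      r ^ (Nat.card H).factorization r := by
  obtain R : Sylow r H := default
  rw [← R.card_eq_multiplicity]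
  apply Nat.card_le_card_of_injective (fun c => (Cfsg.Agent.S3897.exists_rep R c).choose)
  intro c c' h
  apply Subtype.ext
  have h1 := (Cfsg.Agent.S3897.exists_rep R c).choose_spec
  have h2 := (Cfsg.Agent.S3897.exists_rep R c').choose_spec
  simp only at h
  rw [← h1, ← h2, h]

theorem rec_bound {H : Type u} [Group H] [Finite H] (π : Finset ℕ) (r : ℕ) (hr : r.Prime)
    (M : ℕ)
    (hM : ∀ y : H, Nat.card {c : ConjClasses (Subgroup.centralizer ({y} : Set H)) //
      ∀ x ∈ c.carrier, PiEl π x} ≤ M) :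
    Nat.card {c : ConjClasses H // ∀ x ∈ c.carrier, PiEl (insert r π) x} ≤
      M * Nat.card {c : ConjClasses H // ∀ x ∈ c.carrier, ∃ k : ℕ, orderOf x = r ^ k} := by
  classical
  have hfin : Fintype H := Fintype.ofFinite H
  have hdec : DecidableEq H := Classical.decEq H
  have hHpos : 0 < Nat.card H := Nat.card_pos
  have hT := card_pairs (fun x : H => PiEl (insert r π) x) (fun x g hx => piEl_conj _ x g hx)
  have hR := card_pairs (fun x : H => ∃ k : ℕ, orderOf x = r ^ k)
    (fun x g hx => rEl_conj r x g hx)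
  have hTU : Nat.card {q : H × H // PiEl (insert r π) q.1 ∧ q.2 * q.1 = q.1 * q.2} ≤
      Nat.card {t : H × H × H // (∃ k : ℕ, orderOf t.1 = r ^ k) ∧
      (t.2.1 * t.1 = t.1 * t.2.1 ∧ PiEl π t.2.1 ∧ t.2.2 * t.1 = t.1 * t.2.2 ∧
        t.2.2 * t.2.1 = t.2.1 * t.2.2)} := by
    have hdec' : ∀ x : H, ∃ a b : H, a ∈ Subgroup.zpowers x ∧ b ∈ Subgroup.zpowers x ∧
        x = a * b ∧ (∃ k : ℕ, orderOf a = r ^ k) ∧ ¬ r ∣ orderOf b :=
      fun x => Cfsg.Agent.Lib.Helper21.PiTools2.p_decomp r hr x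
    choose A B hA hB hAB hAr hBr using hdec'
    have hmem : ∀ q : {q : H × H // PiEl (insert r π) q.1 ∧ q.2 * q.1 = q.1 * q.2},
        (∃ k : ℕ, orderOf (A q.1.1) = r ^ k) ∧
        (B q.1.1 * A q.1.1 = A q.1.1 * B q.1.1 ∧ PiEl π (B q.1.1) ∧
          q.1.2 * A q.1.1 = A q.1.1 * q.1.2 ∧ q.1.2 * B q.1.1 = B q.1.1 * q.1.2) := by
      rintro ⟨⟨x, g⟩, hx, hg⟩
      simp only
      obtain ⟨i, hi⟩ := Subgroup.mem_zpowers_iff.mp (hA x)
      obtain ⟨j, hj⟩ := Subgroup.mem_zpowers_iff.mp (hB x)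
      have hgx : Commute g x := hg
      refine ⟨hAr x, ?_, ?_, ?_, ?_⟩
      · rw [← hi, ← hj]
        exact ((Commute.refl x).zpow_zpow j i).eq
      · intro s hs hsd
        have h1 : orderOf (B x) ∣ orderOf x := orderOf_dvd_of_mem_zpowers (hB x)
        have h2 := hx s hs (hsd.trans h1)
        rcases Finset.mem_insert.mp h2 with h3 | h3
        · exact absurd (h3 ▸ hsd) (hBr x)
        · exact h3
      · rw [← hi]
        exact (hgx.zpow_right i).eq
      · rw [← hj]
        exact (hgx.zpow_right j).eq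
    refine Nat.card_le_card_of_injective
      (fun q => ⟨(A q.1.1, B q.1.1, q.1.2), hmem q⟩) ?_
    intro q q' h
    have h1 := congrArg Subtype.val h
    simp only [Prod.mk.injEq] at h1
    apply Subtype.ext
    apply Prod.ext
    · rw [hAB q.1.1, hAB q'.1.1, h1.1, h1.2.1]
    · exact h1.2.2
  have hUsum : Nat.card {t : H × H × H // (∃ k : ℕ, orderOf t.1 = r ^ k) ∧
      (t.2.1 * t.1 = t.1 * t.2.1 ∧ PiEl π t.2.1 ∧ t.2.2 * t.1 = t.1 * t.2.2 ∧
        t.2.2 * t.2.1 = t.2.1 * t.2.2)} =
      ∑ y ∈ Finset.univ.filter (fun y : H => ∃ k : ℕ, orderOf y = r ^ k),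
        Nat.card {q : H × H // q.1 * y = y * q.1 ∧ PiEl π q.1 ∧ q.2 * y = y * q.2 ∧
          q.2 * q.1 = q.1 * q.2} := by
    rw [Nat.card_eq_fintype_card, Fintype.card_subtype, Finset.card_filter,
      Fintype.sum_prod_type, Finset.sum_filter]
    refine Finset.sum_congr rfl (fun y _ => ?_)
    by_cases hy : ∃ k : ℕ, orderOf y = r ^ k
    · simp only [hy, true_and, if_true]
      rw [Nat.card_eq_fintype_card, Fintype.card_subtype, Finset.card_filter]
    · simp [hy]
  have hfib : ∀ y : H, Nat.card {q : H × H // q.1 * y = y * q.1 ∧ PiEl π q.1 ∧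
      q.2 * y = y * q.2 ∧ q.2 * q.1 = q.1 * q.2} ≤ M * Cfsg.Agent.S4029.cz y := by
    intro y
    have h1 := card_pairs (H := Subgroup.centralizer ({y} : Set H))
      (fun x => PiEl π x) (fun x g hx => piEl_conj _ x g hx)
    have h2 : Nat.card {q : H × H // q.1 * y = y * q.1 ∧ PiEl π q.1 ∧
        q.2 * y = y * q.2 ∧ q.2 * q.1 = q.1 * q.2} ≤
        Nat.card {q : (Subgroup.centralizer ({y} : Set H)) × (Subgroup.centralizer ({y} : Set H)) //
          PiEl π q.1 ∧ q.2 * q.1 = q.1 * q.2} := by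
      have hmem : ∀ q : {q : H × H // q.1 * y = y * q.1 ∧ PiEl π q.1 ∧
          q.2 * y = y * q.2 ∧ q.2 * q.1 = q.1 * q.2},
          PiEl π (⟨q.1.1, Subgroup.mem_centralizer_singleton_iff.mpr q.2.1⟩ :
            Subgroup.centralizer ({y} : Set H)) ∧
          (⟨q.1.2, Subgroup.mem_centralizer_singleton_iff.mpr q.2.2.2.1⟩ :
            Subgroup.centralizer ({y} : Set H)) *
            (⟨q.1.1, Subgroup.mem_centralizer_singleton_iff.mpr q.2.1⟩ :
              Subgroup.centralizer ({y} : Set H)) =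
            (⟨q.1.1, Subgroup.mem_centralizer_singleton_iff.mpr q.2.1⟩ :
              Subgroup.centralizer ({y} : Set H)) *
            (⟨q.1.2, Subgroup.mem_centralizer_singleton_iff.mpr q.2.2.2.1⟩ :
              Subgroup.centralizer ({y} : Set H)) := by
        intro q
        refine ⟨?_, Subtype.ext q.2.2.2.2⟩
        intro s hs hsd
        rw [Subgroup.orderOf_mk] at hsd
        exact q.2.2.1 s hs hsd
      refine Nat.card_le_card_of_injective (fun q =>
        ⟨(⟨q.1.1, Subgroup.mem_centralizer_singleton_iff.mpr q.2.1⟩,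
          ⟨q.1.2, Subgroup.mem_centralizer_singleton_iff.mpr q.2.2.2.1⟩), hmem q⟩) ?_
      intro q q' h
      have h3 := congrArg Subtype.val h
      simp only [Prod.mk.injEq, Subtype.mk.injEq] at h3
      exact Subtype.ext (Prod.ext h3.1 h3.2)
    rw [h1] at h2
    calc _ ≤ Nat.card (Subgroup.centralizer ({y} : Set H)) *
          Nat.card {c : ConjClasses (Subgroup.centralizer ({y} : Set H)) //
            ∀ x ∈ c.carrier, PiEl π x} := h2
      _ ≤ Nat.card (Subgroup.centralizer ({y} : Set H)) * M := Nat.mul_le_mul_left _ (hM y)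
      _ = M * Cfsg.Agent.S4029.cz y := by rw [Cfsg.Agent.S4029.cz_eq, mul_comm]
  have hUle : Nat.card {t : H × H × H // (∃ k : ℕ, orderOf t.1 = r ^ k) ∧
      (t.2.1 * t.1 = t.1 * t.2.1 ∧ PiEl π t.2.1 ∧ t.2.2 * t.1 = t.1 * t.2.2 ∧
        t.2.2 * t.2.1 = t.2.1 * t.2.2)} ≤
      M * (Nat.card H * Nat.card {c : ConjClasses H //
        ∀ x ∈ c.carrier, ∃ k : ℕ, orderOf x = r ^ k}) := by
    rw [hUsum, ← hR, card_pairs_sum (fun x : H => ∃ k : ℕ, orderOf x = r ^ k), Finset.mul_sum]
    exact Finset.sum_le_sum (fun y _ => hfib y)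
  rw [hT] at hTU
  have h5 := hTU.trans hUle
  have h6 : Nat.card H * Nat.card {c : ConjClasses H // ∀ x ∈ c.carrier, PiEl (insert r π) x} ≤
      Nat.card H * (M * Nat.card {c : ConjClasses H //
        ∀ x ∈ c.carrier, ∃ k : ℕ, orderOf x = r ^ k}) := by
    calc _ ≤ _ := h5
      _ = _ := by ring
  exact Nat.le_of_mul_le_mul_left h6 hHpos

theorem piPart_le_of_dvd (π : Finset ℕ) (hπ : ∀ r ∈ π, r.Prime) {a b : ℕ} (hab : a ∣ b)
    (hb : b ≠ 0) : piPart π a ≤ piPart π b := by
  unfold piPart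
  apply Finset.prod_le_prod
  · intro i _
    exact Nat.zero_le _
  · intro r hr
    apply Nat.pow_le_pow_right (hπ r hr).pos
    have ha : a ≠ 0 := fun h => hb (by rw [h] at hab; exact zero_dvd_iff.mp hab)
    exact (Nat.factorization_le_iff_dvd ha hb).mpr hab r

theorem general_bound (π : Finset ℕ) (hπ : ∀ r ∈ π, r.Prime) :
    ∀ (H : Type u) [Group H] [Finite H],
      Nat.card {c : ConjClasses H // ∀ x ∈ c.carrier, PiEl π x} ≤ piPart π (Nat.card H) := by
  induction π using Finset.induction_on with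
  | empty =>
    intro H _ _
    have h1 : piPart ∅ (Nat.card H) = 1 := Finset.prod_empty
    rw [h1, Finite.card_le_one_iff_subsingleton]
    have key : ∀ c : ConjClasses H, (∀ x ∈ c.carrier, PiEl ∅ x) → c = ConjClasses.mk 1 := by
      intro c hc
      obtain ⟨x, rfl⟩ := ConjClasses.mk_surjective c
      have hx := hc x ConjClasses.mem_carrier_mk
      have h1 : orderOf x = 1 := by
        by_contra hne
        obtain ⟨s, hs, hsd⟩ := Nat.exists_prime_and_dvd hne
        exact absurd (hx s hs hsd) (Finset.notMem_empty s)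
      rw [orderOf_eq_one_iff.mp h1]
    constructor
    rintro ⟨c, hc⟩ ⟨c', hc'⟩
    apply Subtype.ext
    exact (key c hc).trans (key c' hc').symm
  | insert r π hrπ ih =>
    intro H _ _
    have hr : r.Prime := hπ r (Finset.mem_insert_self r π)
    haveI : Fact r.Prime := ⟨hr⟩
    have hπ' : ∀ s ∈ π, s.Prime := fun s hs => hπ s (Finset.mem_insert_of_mem hs)
    have hM : ∀ y : H, Nat.card {c : ConjClasses (Subgroup.centralizer ({y} : Set H)) //
        ∀ x ∈ c.carrier, PiEl π x} ≤ piPart π (Nat.card H) := by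
      intro y
      exact (ih hπ' _).trans
        (piPart_le_of_dvd π hπ' (Subgroup.card_subgroup_dvd_card _) Nat.card_pos.ne')
    have h1 := rec_bound π r hr _ hM
    have h2 := kr_le (H := H) r
    calc _ ≤ _ := h1
      _ ≤ piPart π (Nat.card H) * r ^ (Nat.card H).factorization r := Nat.mul_le_mul_left _ h2
      _ = piPart (insert r π) (Nat.card H) := by
        unfold piPart
        rw [Finset.prod_insert hrπ, mul_comm]

theorem single_bound {G : Type u} [Group G] [Finite G] (π : Finset ℕ) (hπ : ∀ r ∈ π, r.Prime)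
    (r : ℕ) (hr : r ∈ π) :
    Nat.card {c : ConjClasses G // ∀ x ∈ c.carrier, PiEl π x} ≤
      piPart (π.erase r) (Nat.card G) *
        Nat.card {c : ConjClasses G // ∀ x ∈ c.carrier, ∃ k : ℕ, orderOf x = r ^ k} := by
  have hπ' : ∀ s ∈ π.erase r, s.Prime := fun s hs => hπ s (Finset.mem_of_mem_erase hs)
  have hM : ∀ y : G, Nat.card {c : ConjClasses (Subgroup.centralizer ({y} : Set G)) //
      ∀ x ∈ c.carrier, PiEl (π.erase r) x} ≤ piPart (π.erase r) (Nat.card G) := fun y =>
    (general_bound (π.erase r) hπ' _).trans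
      (piPart_le_of_dvd _ hπ' (Subgroup.card_subgroup_dvd_card _) Nat.card_pos.ne')
  have h1 := rec_bound (π.erase r) r (hπ r hr) _ hM
  rwa [Finset.insert_erase hr] at h1

theorem arith2 (p r A Q kr kπ : ℕ) (hp : 0 < p) (hpr : p ≤ r)
    (hk : (p + 1) * (A * Q) < 2 * p * kπ) (h1 : kπ ≤ Q * kr) : (r + 1) * A < 2 * r * kr := by
  by_contra hcon
  have h4 : 2 * r * kr ≤ (r + 1) * A := Nat.le_of_not_lt hcon
  obtain ⟨e, rfl⟩ := Nat.exists_eq_add_of_le hpr
  have h5 : (p + 1) * (A * Q) < 2 * p * (Q * kr) :=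
    lt_of_lt_of_le hk (Nat.mul_le_mul_left _ h1)
  have h6 : (p + 1) * (A * Q) * (p + e) < 2 * p * (Q * kr) * (p + e) :=
    Nat.mul_lt_mul_of_pos_right h5 (by omega)
  have h7 : 2 * p * (Q * kr) * (p + e) = p * Q * (2 * (p + e) * kr) := by ring
  have h8 : p * Q * (2 * (p + e) * kr) ≤ p * Q * ((p + e + 1) * A) := Nat.mul_le_mul_left _ h4
  have h9 : p * Q * ((p + e + 1) * A) ≤ (p + 1) * (A * Q) * (p + e) := by
    have h10 : (p + 1) * (A * Q) * (p + e) = p * Q * ((p + e + 1) * A) + e * (A * Q) := by ring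
    rw [h10]
    exact Nat.le_add_right _ _
  omega

/-- Let π be a finite non-empty set of odd primes with smallest member p and G a finite group. Write k_π(G) for the number of conjugacy classes of G consisting of π-elements (elements all of whose order's prime divisors lie in π) and |G|_π for the π-part of the order of G. If k_π(G) > (p + 1)|G|_π/(2p), then G has a normal π-complement (a normal subgroup of order prime to π whose index is a π-number) and an abelian Hall π-subgroup. -/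
theorem result {G : Type*} [Group G] [Finite G] (π : Finset ℕ) (hπ : ∀ r ∈ π, r.Prime) (h2 : 2 ∉ π) (p : ℕ) (hp : p ∈ π)
    (hmin : ∀ r ∈ π, p ≤ r) (hk : (p + 1) * π.prod (fun r => r ^ (Nat.card G).factorization r) < 2 * p * Nat.card {c : ConjClasses G // ∀ x ∈ c.carrier, ∀ r : ℕ, r.Prime → r ∣ orderOf x → r ∈ π}) :
    (∃ N : Subgroup G, N.Normal ∧ (∀ r : ℕ, r.Prime → r ∣ Nat.card ↥N → r ∉ π) ∧ ∀ r : ℕ, r.Prime → r ∣ N.index → r ∈ π) ∧ ∃ H : Subgroup G, Cfsg.IsPiHall (↑π : Set ℕ) H ∧ IsMulCommutative ↥H := by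
  have hfam : ∀ r : π, ∃ K : Subgroup G, K.Normal ∧ ¬ (r : ℕ) ∣ Nat.card K ∧
      (∀ a b : G, a * b * a⁻¹ * b⁻¹ ∈ K) ∧ ∃ j : ℕ, K.index = (r : ℕ) ^ j := by
    rintro ⟨r, hr⟩
    have hrp := hπ r hr
    haveI : Fact r.Prime := ⟨hrp⟩
    obtain R : Sylow r G := default
    have hkey : Subgroup.normalizer ((R : Subgroup G) : Set G) ≤
        Subgroup.centralizer ((R : Subgroup G) : Set G) := by
      apply Cfsg.Agent.S3897.key R
      have h1 := single_bound (G := G) π hπ r hr
      have hprod : π.prod (fun s => s ^ (Nat.card G).factorization s) =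
          r ^ (Nat.card G).factorization r * piPart (π.erase r) (Nat.card G) := by
        unfold piPart
        exact (Finset.mul_prod_erase π (fun s => s ^ (Nat.card G).factorization s) hr).symm
      rw [hprod] at hk
      rw [R.card_eq_multiplicity]
      exact arith2 p r _ _ _ _ (hπ p hp).pos (hmin r hr) hk h1
    refine ⟨(MonoidHom.transferSylow R hkey).ker, inferInstance,
      MonoidHom.not_dvd_card_ker_transferSylow R hkey, ?_, ?_⟩
    · intro a b
      have hcomm : ∀ u v : (R : Subgroup G), u * v = v * u := by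
        intro u v
        have hu : (u : G) ∈ Subgroup.centralizer ((R : Subgroup G) : Set G) :=
          hkey (Subgroup.le_normalizer u.2)
        rw [Subgroup.mem_centralizer_iff] at hu
        exact Subtype.ext (hu v.1 v.2).symm
      rw [MonoidHom.mem_ker, map_mul, map_mul, map_mul, map_inv, map_inv,
        hcomm (MonoidHom.transferSylow R hkey a) (MonoidHom.transferSylow R hkey b),
        mul_inv_cancel_right, mul_inv_cancel]
    · obtain ⟨j, hj⟩ := IsPGroup.iff_card.mp R.2
      exact ⟨j, by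
        rw [(MonoidHom.ker_transferSylow_isComplement' R hkey).symm.index_eq_card, hj]⟩
  choose K hKn hKr hKc hKi using hfam
  have hNn : (⨅ r : π, K r).Normal := Subgroup.normal_iInf_normal hKn
  have hNle : ∀ r : π, (⨅ r : π, K r) ≤ K r := fun r => iInf_le _ r
  have hN1 : ∀ r : ℕ, r.Prime → r ∣ Nat.card ↥(⨅ r : π, K r) → r ∉ π := by
    intro r hr hrd hrπ
    exact hKr ⟨r, hrπ⟩ (hrd.trans (Subgroup.card_dvd_of_le (hNle ⟨r, hrπ⟩)))
  have hN2 : ∀ q : ℕ, q.Prime → q ∣ (⨅ r : π, K r).index → q ∈ π := by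
    intro q hq hqd
    haveI : Fact q.Prime := ⟨hq⟩
    rw [Subgroup.index_eq_card] at hqd
    obtain ⟨x, hx⟩ := exists_prime_orderOf_dvd_card' q hqd
    obtain ⟨g, rfl⟩ := QuotientGroup.mk_surjective x
    have hgN : g ∉ (⨅ r : π, K r) := by
      intro h
      have h1 : (QuotientGroup.mk g : G ⧸ (⨅ r : π, K r)) = 1 :=
        (QuotientGroup.eq_one_iff g).mpr h
      rw [h1, orderOf_one] at hx
      exact hq.one_lt.ne' hx.symm
    have hgq : g ^ q ∈ (⨅ r : π, K r) := by
      rw [← QuotientGroup.eq_one_iff, QuotientGroup.mk_pow, ← hx, pow_orderOf_eq_one]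
    rw [Subgroup.mem_iInf] at hgN
    obtain ⟨r, hr⟩ := not_forall.mp hgN
    haveI := hKn r
    have h1 : orderOf (QuotientGroup.mk g : G ⧸ K r) = q := by
      apply orderOf_eq_prime
      · rw [← QuotientGroup.mk_pow, QuotientGroup.eq_one_iff]
        exact hNle r hgq
      · intro h
        exact hr ((QuotientGroup.eq_one_iff g).mp h)
    have h2' : q ∣ Nat.card (G ⧸ K r) := h1 ▸ orderOf_dvd_natCard _
    rw [← Subgroup.index_eq_card] at h2'
    obtain ⟨j, hj⟩ := hKi r
    rw [hj] at h2'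
    have h3 := (Nat.prime_dvd_prime_iff_eq hq (hπ r r.2)).mp (hq.dvd_of_dvd_pow h2')
    rw [h3]
    exact r.2
  refine ⟨⟨⨅ r : π, K r, hNn, hN1, hN2⟩, ?_⟩
  have hcop : Nat.Coprime (Nat.card (⨅ r : π, K r : Subgroup G)) (⨅ r : π, K r).index := by
    apply Nat.coprime_of_dvd
    intro q hq hq1 hq2
    exact hN1 q hq hq1 (hN2 q hq hq2)
  haveI := hNn
  obtain ⟨H, hH⟩ := Subgroup.exists_right_complement'_of_coprime hcop
  refine ⟨H, ⟨?_, ?_⟩, ?_⟩
  · intro q hq hqd
    rw [← hH.symm.index_eq_card] at hqd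
    exact hN2 q hq hqd
  · intro q hq hqπ hqd
    rw [hH.index_eq_card] at hqd
    exact hN1 q hq hqd hqπ
  · refine ⟨⟨fun a b => ?_⟩⟩
    have h1 : (a : G) * b * (a : G)⁻¹ * (b : G)⁻¹ ∈ (⨅ r : π, K r) := by
      rw [Subgroup.mem_iInf]
      exact fun r => hKc r a b
    have h2' : (a : G) * b * (a : G)⁻¹ * (b : G)⁻¹ ∈ H :=
      H.mul_mem (H.mul_mem (H.mul_mem a.2 b.2) (H.inv_mem a.2)) (H.inv_mem b.2)
    have h3 : (a : G) * b * (a : G)⁻¹ * (b : G)⁻¹ = 1 := by
      have h4 : (a : G) * b * (a : G)⁻¹ * (b : G)⁻¹ ∈ (⨅ r : π, K r) ⊓ H :=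
        Subgroup.mem_inf.mpr ⟨h1, h2'⟩
      rw [disjoint_iff.mp hH.disjoint] at h4
      exact Subgroup.mem_bot.mp h4
    apply Subtype.ext
    show (a : G) * b = b * a
    calc (a : G) * b = (a * b * (a : G)⁻¹ * (b : G)⁻¹) * (b * a) := by group
      _ = b * a := by rw [h3, one_mul]

end Cfsg.Agent.S3899
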