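import Mathlib
import Cfsg.Statements.S3986
import Cfsg.Agent.Lib.Helper21.PiTools2
import Cfsg.Agent.Lib.Helper21.Compl

set_option autoImplicit false
open Cfsg

namespace Cfsg.Agent.S3986

open Cfsg.Agent.Lib.Helper21.PiTools Cfsg.Agent.Lib.Helper21.PiTools2
open Cfsg.Agent.Lib.Helper21.Compl

/-- In `G = P × K`, `p`-elements lie in `P` and elements of prime power order for other primes
lie in `K`. -/
theorem mem_of_factor {G : Type*} [Group G] [Finite G] (p : ℕ) [Fact p.Prime] (P : Sylow p G)
    (K : Subgroup G) (hP : (P : Subgroup G).Normal) (hK : K.Normal)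
    (hPK : (P : Subgroup G) ⊓ K = ⊥) (hsup : (P : Subgroup G) ⊔ K = ⊤) :
    (∀ x : G, (∃ a : ℕ, orderOf x = p ^ a) → x ∈ (P : Subgroup G)) ∧
    (∀ y : G, (∃ q b : ℕ, q.Prime ∧ q ≠ p ∧ orderOf y = q ^ b) → y ∈ K) := by
  have hp := (Fact.out : p.Prime)
  refine ⟨fun x hx => mem_normal_sylow P hP x hx, ?_⟩
  rintro y ⟨q, b, hq, hqp, hy⟩
  have hidx : K.index = Nat.card (P : Subgroup G) := by
    rw [← Subgroup.relIndex_top_right, ← hsup, Subgroup.relIndex_sup_right,
      ← Subgroup.inf_relIndex_right, inf_comm, hPK, Subgroup.relIndex_bot_left]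
  have h1 : y ^ K.index ∈ K := K.pow_index_mem y
  apply mem_of_pow_mem K y K.index h1
  rw [hidx, P.card_eq_multiplicity, hy]
  exact Nat.Coprime.pow _ _ ((Nat.coprime_primes hp hq).mpr (Ne.symm hqp))

/-- If `p`-elements commute with elements of prime power order for other primes, the Sylow
`p`-subgroup is a direct factor. -/
theorem factor_of_commute {G : Type*} [Group G] [Finite G] (p : ℕ) [Fact p.Prime]
    (h : ∀ x y : G, (∃ a : ℕ, orderOf x = p ^ a) →
      (∃ q b : ℕ, q.Prime ∧ q ≠ p ∧ orderOf y = q ^ b) → x * y = y * x) :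
    ∃ (P : Sylow p G) (K : Subgroup G), (P : Subgroup G).Normal ∧ K.Normal ∧
      (P : Subgroup G) ⊓ K = ⊥ ∧ (P : Subgroup G) ⊔ K = ⊤ := by
  have hp := (Fact.out : p.Prime)
  obtain ⟨P⟩ : Nonempty (Sylow p G) := inferInstance
  -- p-elements commute with all p'-elements
  have hcomm : ∀ x y : G, (∃ a : ℕ, orderOf x = p ^ a) → ¬ p ∣ orderOf y → x * y = y * x :=
    fun x y hx hy => commute_of_prime_power p x (fun y' hy' => h x y' hx hy') _ y rfl hy
  have hPcomm : ∀ x ∈ (P : Subgroup G), ∀ y : G, ¬ p ∣ orderOf y → x * y = y * x :=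
    fun x hx y hy => hcomm x y (orderOf_of_mem_sylow P x hx) hy
  -- P is normal
  have hPn : (P : Subgroup G).Normal := by
    rw [← Subgroup.normalizer_eq_top_iff]
    apply eq_top_of_sylow_le
    intro q _
    have hq := (Fact.out : q.Prime)
    by_cases hqp : q = p
    · subst hqp
      exact ⟨P, Subgroup.le_normalizer⟩
    · obtain ⟨Q⟩ : Nonempty (Sylow q G) := inferInstance
      refine ⟨Q, ?_⟩
      intro y hy
      obtain ⟨b, hb⟩ := orderOf_of_mem_sylow Q y hy
      have hyp : ¬ p ∣ orderOf y := by
        rw [hb]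
        intro hd
        exact hqp ((Nat.prime_dvd_prime_iff_eq hp hq).mp (hp.dvd_of_dvd_pow hd)).symm
      rw [Subgroup.mem_set_normalizer_iff]
      intro x
      constructor
      · intro hx
        have h1 := hPcomm x hx y hyp
        have h2 : y * x * y⁻¹ = x := by rw [← h1, mul_inv_cancel_right]
        rw [h2]
        exact hx
      · intro hx
        have h1 := hPcomm _ hx y hyp
        have h2 : x = y * x * y⁻¹ := by
          have h3 : y * x * y⁻¹ * y = y * (y * x * y⁻¹) := h1
          have h4 : y * x = y * (y * x * y⁻¹) := by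
            rw [← h3]
            group
          exact mul_left_cancel h4
        rw [h2]
        exact hx
  obtain ⟨K, hK⟩ := Subgroup.exists_right_complement'_of_coprime (N := (P : Subgroup G))
    P.card_coprime_index
  have hKcard : Nat.card K = (P : Subgroup G).index := hK.symm.index_eq_card.symm
  have hKp : ∀ y ∈ K, ¬ p ∣ orderOf y := by
    intro y hy hd
    have h1 : orderOf y ∣ Nat.card K := by
      have h2 := orderOf_dvd_natCard (⟨y, hy⟩ : K)
      rwa [Subgroup.orderOf_mk] at h2
    rw [hKcard] at h1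
    exact P.not_dvd_index (hd.trans h1)
  have hKn : K.Normal := by
    rw [← Subgroup.normalizer_eq_top_iff, eq_top_iff, ← hK.sup_eq_top]
    apply sup_le _ Subgroup.le_normalizer
    intro x hx
    rw [Subgroup.mem_set_normalizer_iff]
    intro y
    constructor
    · intro hy
      have h1 := hPcomm x hx y (hKp y hy)
      rw [h1, mul_inv_cancel_right]
      exact hy
    · intro hy
      have h1 := hPcomm x hx _ (hKp _ hy)
      have h2 : x * y * x⁻¹ = y := by
        have h3 : x * (x * y * x⁻¹) = x * y := by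
          rw [h1]
          group
        exact mul_left_cancel h3
      rw [← h2]
      exact hy
  exact ⟨P, K, hPn, hKn, hK.disjoint.eq_bot, hK.sup_eq_top⟩

/-- Let p be a prime and G a finite group. Then some Sylow p-subgroup of G is a direct factor of G (it is normal and has a normal complement) if and only if every element of p-power order commutes with every element whose order is a power of a prime other than p. -/
theorem result {G : Type*} [Group G] [Finite G] (p : ℕ) [Fact p.Prime] : (∃ (P : Sylow p G) (K : Subgroup G), (P : Subgroup G).Normal ∧ K.Normal ∧ (P : Subgroup G) ⊓ K = ⊥ ∧ (P : Subgroup G) ⊔ K = ⊤) ↔ ∀ x y : G, (∃ a : ℕ, orderOf x = p ^ a) → (∃ q b : ℕ, q.Prime ∧ q ≠ p ∧ orderOf y = q ^ b) → x * y = y * x := by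
  constructor
  · rintro ⟨P, K, hP, hK, hPK, hsup⟩ x y hx hy
    obtain ⟨h1, h2⟩ := mem_of_factor p P K hP hK hPK hsup
    exact (Subgroup.commute_of_normal_of_disjoint _ _ hP hK (disjoint_iff.mpr hPK) x y
      (h1 x hx) (h2 y hy)).eq
  · exact factor_of_commute p

end Cfsg.Agent.S3986
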