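import Mathlib
import Cfsg.Statements.S4035

set_option autoImplicit false
open Cfsg

namespace Cfsg.Agent.S4035

/-- The size of a conjugacy class is the index of the centralizer. -/
theorem ncard_class {G : Type*} [Group G] (x : G) :
    (ConjClasses.mk x).carrier.ncard = (Subgroup.centralizer ({x} : Set G)).index := by
  have h1 := MulAction.index_stabilizer (ConjAct G) x
  rw [ConjAct.stabilizer_eq_centralizer, ConjAct.orbit_eq_carrier_conjClasses] at h1
  exact h1.symm

/-- If the index of `C` is prime to `p`, Sylow subgroups of `C` are Sylow subgroups of `G`. -/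
theorem exists_sylow_eq_map {G : Type*} [Group G] [Finite G] {p : ℕ} [Fact p.Prime]
    (C : Subgroup G) (hC : ¬ p ∣ C.index) (S : Sylow p C) :
    ∃ Q : Sylow p G, (Q : Subgroup G) = (S : Subgroup C).map C.subtype := by
  have h1 : Nat.card ((S : Subgroup C).map C.subtype) = p ^ (Nat.card G).factorization p := by
    rw [Subgroup.card_map_of_injective C.subtype_injective, S.card_eq_multiplicity]
    congr 1
    have h2 := C.card_mul_index
    have hi : C.index ≠ 0 := Subgroup.index_ne_zero_of_finite
    rw [← h2, Nat.factorization_mul Nat.card_pos.ne' hi]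
    simp [Nat.factorization_eq_zero_of_not_dvd hC]
  exact ⟨Sylow.ofCard _ h1, rfl⟩

/-- Every element normalizes some Sylow `p`-subgroup. -/
theorem exists_sylow_normalized {G : Type*} [Group G] [Finite G] {p : ℕ} [Fact p.Prime]
    (h : ∀ x : G, (orderOf x).Coprime p → ¬ p ∣ (ConjClasses.mk x).carrier.ncard) (y : G) :
    ∃ Q : Sylow p G, y ∈ Subgroup.normalizer ((Q : Subgroup G) : Set G) := by
  have hp := (Fact.out : p.Prime)
  have hy0 : orderOf y ≠ 0 := (orderOf_pos y).ne'
  obtain ⟨k, m, hm, hkm⟩ := Nat.exists_eq_pow_mul_and_not_dvd hy0 p hp.ne_one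
  have hmp : m.Coprime p := (Nat.Coprime.symm ((Nat.Prime.coprime_iff_not_dvd hp).mpr hm))
  set z := y ^ (p ^ k) with hz
  set w := y ^ m with hw
  have hzm : z ^ m = 1 := by rw [hz, ← pow_mul, ← hkm, pow_orderOf_eq_one]
  have hwpk : w ^ (p ^ k) = 1 := by rw [hw, ← pow_mul, mul_comm, ← hkm, pow_orderOf_eq_one]
  have hzcop : (orderOf z).Coprime p :=
    Nat.Coprime.coprime_dvd_left (orderOf_dvd_of_pow_eq_one hzm) hmp
  have hC := h z hzcop
  rw [ncard_class] at hC
  set C := Subgroup.centralizer ({z} : Set G) with hCdef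
  have hwC : w ∈ C := by
    rw [hCdef, Subgroup.mem_centralizer_singleton_iff]
    exact (Commute.pow_pow (Commute.refl y) _ _).eq
  have hwp : IsPGroup p (Subgroup.zpowers (⟨w, hwC⟩ : C)) := by
    obtain ⟨j, -, hj⟩ := (Nat.dvd_prime_pow hp).mp (orderOf_dvd_of_pow_eq_one hwpk)
    apply IsPGroup.of_card (n := j)
    rw [Nat.card_zpowers, Subgroup.orderOf_mk, hj]
  obtain ⟨S, hS⟩ := hwp.exists_le_sylow
  obtain ⟨Q, hQ⟩ := exists_sylow_eq_map C hC S
  refine ⟨Q, ?_⟩
  have hwQ : w ∈ (Q : Subgroup G) := by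
    rw [hQ]
    exact ⟨⟨w, hwC⟩, hS (Subgroup.mem_zpowers _), rfl⟩
  have hQC : ∀ q ∈ (Q : Subgroup G), q * z = z * q := by
    intro q hq
    rw [hQ] at hq
    obtain ⟨c, -, rfl⟩ := hq
    exact Subgroup.mem_centralizer_singleton_iff.mp c.2
  have hzQ : z ∈ Subgroup.normalizer ((Q : Subgroup G) : Set G) := by
    rw [Subgroup.mem_set_normalizer_iff]
    intro q
    constructor
    · intro hq
      have h1 := hQC q hq
      have h2 : z * q * z⁻¹ = q := by rw [← h1, mul_inv_cancel_right]
      rw [h2]; exact hq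
    · intro hq
      have h1 := hQC _ hq
      have h2 : q = z * q * z⁻¹ := by
        have h3 : z * q * z⁻¹ * z = z * (z * q * z⁻¹) := h1
        have h4 : z * q = z * (z * q * z⁻¹) := by simpa using h3
        exact mul_left_cancel h4
      rw [h2]; exact hq
  have hwN : w ∈ Subgroup.normalizer ((Q : Subgroup G) : Set G) := Subgroup.le_normalizer hwQ
  have hcop : IsCoprime (m : ℤ) ((p ^ k : ℕ) : ℤ) :=
    Nat.isCoprime_iff_coprime.mpr (Nat.Coprime.pow_right k hmp)
  obtain ⟨a, b, hab⟩ := hcop
  have hy : y = w ^ a * z ^ b := by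
    rw [hw, hz, ← zpow_natCast, ← zpow_natCast, ← zpow_mul, ← zpow_mul, ← zpow_add,
      mul_comm (m : ℤ), mul_comm ((p ^ k : ℕ) : ℤ), hab, zpow_one]
  rw [hy]
  exact mul_mem (zpow_mem hwN a) (zpow_mem hzQ b)

/-- The Sylow `p`-subgroup is unique. -/
theorem sylow_subsingleton {G : Type*} [Group G] [Finite G] {p : ℕ} [Fact p.Prime]
    (h : ∀ x : G, (orderOf x).Coprime p → ¬ p ∣ (ConjClasses.mk x).carrier.ncard) :
    Subsingleton (Sylow p G) := by
  classical
  have : Fintype G := Fintype.ofFinite G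
  have : Fintype (Sylow p G) := Fintype.ofFinite _
  have : Fintype (MulAction.orbitRel.Quotient G (Sylow p G)) := Fintype.ofFinite _
  have hB := MulAction.sum_card_fixedBy_eq_card_orbits_mul_card_group G (Sylow p G)
  have h1 : Fintype.card (MulAction.orbitRel.Quotient G (Sylow p G)) = 1 := by
    rw [Fintype.card_eq_one_iff_nonempty_unique]
    exact (MulAction.pretransitive_iff_unique_quotient_of_nonempty G (Sylow p G)).mp inferInstance
  rw [h1, one_mul] at hB
  constructor
  intro P Q
  by_contra hPQ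
  have h2 : ∀ g : G, 1 ≤ Fintype.card (MulAction.fixedBy (Sylow p G) g) := by
    intro g
    obtain ⟨R, hR⟩ := exists_sylow_normalized h g
    exact Fintype.card_pos_iff.mpr ⟨⟨R, Sylow.smul_eq_iff_mem_normalizer.mpr hR⟩⟩
  have h3 : 1 < Fintype.card (MulAction.fixedBy (Sylow p G) (1 : G)) := by
    rw [Fintype.one_lt_card_iff]
    exact ⟨⟨P, by simp⟩, ⟨Q, by simp⟩,
      fun hh => hPQ (congrArg Subtype.val hh)⟩
  have h4 : ∑ _g : G, 1 < ∑ g : G, Fintype.card (MulAction.fixedBy (Sylow p G) g) :=
    Finset.sum_lt_sum (fun g _ => h2 g) ⟨1, Finset.mem_univ _, h3⟩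
  rw [hB] at h4
  simp at h4

/-- Let G be a finite group and p a prime such that p divides the size of no conjugacy class of p-regular elements (elements of order prime to p). Then G is the internal direct product of a Sylow p-subgroup P and a normal subgroup H of order prime to p: P is normal, P ⊓ H = 1 and PH = G. -/
theorem result {G : Type*} [Group G] [Finite G] {p : ℕ} [Fact p.Prime]
    (h : ∀ x : G, (orderOf x).Coprime p → ¬ p ∣ (ConjClasses.mk x).carrier.ncard) (P : Sylow p G) :
    (P : Subgroup G).Normal ∧ ∃ H : Subgroup G, H.Normal ∧ ¬ p ∣ Nat.card H ∧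
      (P : Subgroup G) ⊓ H = ⊥ ∧ (P : Subgroup G) ⊔ H = ⊤ := by
  have hp := (Fact.out : p.Prime)
  have hsub := sylow_subsingleton h
  have hPn : (P : Subgroup G).Normal := Sylow.normal_of_subsingleton P
  refine ⟨hPn, ?_⟩
  -- p-regular elements centralize P
  have hcent : ∀ x : G, (orderOf x).Coprime p → ∀ q ∈ (P : Subgroup G), q * x = x * q := by
    intro x hx q hq
    have hC := h x hx
    rw [ncard_class] at hC
    obtain ⟨S⟩ : Nonempty (Sylow p (Subgroup.centralizer ({x} : Set G))) := inferInstance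
    obtain ⟨Q, hQ⟩ := exists_sylow_eq_map _ hC S
    have hQP : Q = P := Subsingleton.elim _ _
    rw [← hQP, hQ] at hq
    obtain ⟨c, -, rfl⟩ := hq
    exact Subgroup.mem_centralizer_singleton_iff.mp c.2
  obtain ⟨H, hH⟩ := Subgroup.exists_right_complement'_of_coprime (N := (P : Subgroup G))
    P.card_coprime_index
  have hHcard : Nat.card H = (P : Subgroup G).index := (hH.symm.index_eq_card).symm
  have hHp : ¬ p ∣ Nat.card H := by
    rw [hHcard]; exact P.not_dvd_index
  have hHcop : ∀ x ∈ H, (orderOf x).Coprime p := by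
    intro x hx
    have h1 : orderOf x ∣ Nat.card H := by
      have := orderOf_dvd_natCard (⟨x, hx⟩ : H)
      rwa [Subgroup.orderOf_mk] at this
    exact Nat.Coprime.coprime_dvd_left h1
      (Nat.Coprime.symm ((Nat.Prime.coprime_iff_not_dvd hp).mpr hHp))
  have hHn : H.Normal := by
    rw [← Subgroup.normalizer_eq_top_iff, eq_top_iff, ← hH.sup_eq_top]
    apply sup_le _ Subgroup.le_normalizer
    intro q hq
    rw [Subgroup.mem_set_normalizer_iff]
    intro x
    constructor
    · intro hx
      have h1 := hcent x (hHcop x hx) q hq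
      have h2 : q * x * q⁻¹ = x := by rw [h1, mul_inv_cancel_right]
      rw [h2]; exact hx
    · intro hx
      have h1 := hcent _ (hHcop _ hx) q hq
      have h2 : x = q * x * q⁻¹ := by
        have h4 : q * (q * x * q⁻¹) = q * x := by rw [h1]; group
        exact (mul_left_cancel h4).symm
      rw [h2]; exact hx
  exact ⟨H, hHn, hHp, hH.disjoint.eq_bot, hH.sup_eq_top⟩

end Cfsg.Agent.S4035
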