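import Mathlib
import Cfsg.Statements.S3987
import Cfsg.Agent.S3986
import Cfsg.Agent.S4035

set_option autoImplicit false
open Cfsg

namespace Cfsg.Agent.S3987

theorem mem_class {G : Type*} [Group G] (x a : G) :
    a ∈ (ConjClasses.mk x).carrier ↔ ∃ c : G, a = c * x * c⁻¹ := by
  rw [ConjClasses.mem_carrier_iff_mk_eq, ConjClasses.mk_eq_mk_iff_isConj, isConj_comm, isConj_iff]
  constructor
  · rintro ⟨c, hc⟩
    exact ⟨c, hc.symm⟩
  · rintro ⟨c, hc⟩
    exact ⟨c, hc.symm⟩

/-- If the class of `x * y` is as large as the product of the classes, `x` and `y` commute. -/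
theorem commute_of_index {G : Type*} [Group G] [Finite G] (x y : G)
    (h : (Subgroup.centralizer ({x * y} : Set G)).index =
      (Subgroup.centralizer ({x} : Set G)).index * (Subgroup.centralizer ({y} : Set G)).index) :
    x * y = y * x := by
  rw [← Cfsg.Agent.S4035.ncard_class, ← Cfsg.Agent.S4035.ncard_class,
    ← Cfsg.Agent.S4035.ncard_class, ← Set.ncard_prod] at h
  set A := (ConjClasses.mk x).carrier with hA
  set B := (ConjClasses.mk y).carrier with hB
  set C := (ConjClasses.mk (x * y)).carrier with hC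
  have hsub : C ⊆ (fun ab : G × G => ab.1 * ab.2) '' (A ×ˢ B) := by
    intro c hc
    obtain ⟨g, rfl⟩ := (mem_class (x * y) c).mp hc
    refine ⟨(g * x * g⁻¹, g * y * g⁻¹), ⟨(mem_class x _).mpr ⟨g, rfl⟩,
      (mem_class y _).mpr ⟨g, rfl⟩⟩, ?_⟩
    show g * x * g⁻¹ * (g * y * g⁻¹) = g * (x * y) * g⁻¹
    group
  have h1 : ((fun ab : G × G => ab.1 * ab.2) '' (A ×ˢ B)).ncard ≤ (A ×ˢ B).ncard :=
    Set.ncard_image_le (Set.toFinite _)
  have h2 : C.ncard ≤ ((fun ab : G × G => ab.1 * ab.2) '' (A ×ˢ B)).ncard :=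
    Set.ncard_le_ncard hsub (Set.toFinite _)
  have h3 : ((fun ab : G × G => ab.1 * ab.2) '' (A ×ˢ B)).ncard = (A ×ˢ B).ncard := by omega
  have hinj := Set.injOn_of_ncard_image_eq h3 (Set.toFinite _)
  have hm1 : ((x, y) : G × G) ∈ A ×ˢ B :=
    ⟨(mem_class x x).mpr ⟨1, by simp⟩, (mem_class y y).mpr ⟨1, by simp⟩⟩
  have hm2 : ((x * y * x * (x * y)⁻¹, x * y * x⁻¹) : G × G) ∈ A ×ˢ B :=
    ⟨(mem_class x _).mpr ⟨x * y, rfl⟩, (mem_class y _).mpr ⟨x, rfl⟩⟩
  have h4 := hinj hm1 hm2 (by
    show x * y = x * y * x * (x * y)⁻¹ * (x * y * x⁻¹)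
    group)
  have h5 : y = x * y * x⁻¹ := (Prod.ext_iff.mp h4).2
  calc x * y = (x * y * x⁻¹) * x := by group
    _ = y * x := by rw [← h5]

/-- Let p be a prime and G a finite group. Then some Sylow p-subgroup of G is a direct factor of G (normal with a normal complement) if and only if for every element x of p-power order and every element y whose order is a power of a prime other than p, the conjugacy class of x y has as many elements as the product of the sizes of the classes of x and of y. -/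
theorem result {G : Type*} [Group G] [Finite G] (p : ℕ) [Fact p.Prime] : (∃ (P : Sylow p G) (K : Subgroup G), (P : Subgroup G).Normal ∧ K.Normal ∧ (P : Subgroup G) ⊓ K = ⊥ ∧ (P : Subgroup G) ⊔ K = ⊤) ↔ ∀ x y : G, (∃ a : ℕ, orderOf x = p ^ a) → (∃ q b : ℕ, q.Prime ∧ q ≠ p ∧ orderOf y = q ^ b) → (Subgroup.centralizer ({x * y} : Set G)).index = (Subgroup.centralizer ({x} : Set G)).index * (Subgroup.centralizer ({y} : Set G)).index := by
  constructor
  · rintro ⟨P, K, hP, hK, hPK, hsup⟩ x y hx hy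
    obtain ⟨h1, h2⟩ := Cfsg.Agent.S3986.mem_of_factor p P K hP hK hPK hsup
    have hxP := h1 x hx
    have hyK := h2 y hy
    have hcomm : ∀ a ∈ (P : Subgroup G), ∀ b ∈ K, a * b = b * a := fun a ha b hb =>
      (Subgroup.commute_of_normal_of_disjoint _ _ hP hK (disjoint_iff.mpr hPK) a b ha hb).eq
    rw [← Cfsg.Agent.S4035.ncard_class, ← Cfsg.Agent.S4035.ncard_class,
      ← Cfsg.Agent.S4035.ncard_class, ← Set.ncard_prod]
    set A := (ConjClasses.mk x).carrier with hA
    set B := (ConjClasses.mk y).carrier with hB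
    have hAP : ∀ a ∈ A, a ∈ (P : Subgroup G) := by
      intro a ha
      obtain ⟨c, rfl⟩ := (mem_class x a).mp ha
      exact hP.conj_mem x hxP c
    have hBK : ∀ b ∈ B, b ∈ K := by
      intro b hb
      obtain ⟨c, rfl⟩ := (mem_class y b).mp hb
      exact hK.conj_mem y hyK c
    have himg : (fun ab : G × G => ab.1 * ab.2) '' (A ×ˢ B) =
        (ConjClasses.mk (x * y)).carrier := by
      ext c
      constructor
      · rintro ⟨⟨a, b⟩, ⟨ha, hb⟩, rfl⟩
        obtain ⟨g, hg⟩ := (mem_class x a).mp ha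
        obtain ⟨g', hg'⟩ := (mem_class y b).mp hb
        have hgmem : g ∈ (P : Subgroup G) ⊔ K := hsup ▸ Subgroup.mem_top g
        have hg'mem : g' ∈ (P : Subgroup G) ⊔ K := hsup ▸ Subgroup.mem_top g'
        obtain ⟨u, hu, k, hk, rfl⟩ := (Subgroup.mem_sup_of_normal_left (hs := hP)).mp hgmem
        obtain ⟨u', hu', k', hk', rfl⟩ := (Subgroup.mem_sup_of_normal_left (hs := hP)).mp hg'mem
        have ha' : a = u * x * u⁻¹ := by
          have h3 : k * x = x * k := (hcomm x hxP k hk).symm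
          rw [hg]
          calc u * k * x * (u * k)⁻¹ = u * (k * x) * k⁻¹ * u⁻¹ := by group
            _ = u * (x * k) * k⁻¹ * u⁻¹ := by rw [h3]
            _ = u * x * u⁻¹ := by group
        have hb' : b = k' * y * k'⁻¹ := by
          have h3 : u' * (k' * y * k'⁻¹) = (k' * y * k'⁻¹) * u' :=
            hcomm u' hu' _ (hK.conj_mem y hyK k')
          rw [hg']
          calc u' * k' * y * (u' * k')⁻¹ = u' * (k' * y * k'⁻¹) * u'⁻¹ := by group
            _ = (k' * y * k'⁻¹) * u' * u'⁻¹ := by rw [h3]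
            _ = k' * y * k'⁻¹ := by group
        rw [mem_class]
        refine ⟨u * k', ?_⟩
        have h4 : k' * x = x * k' := (hcomm x hxP k' hk').symm
        have h5 : u * (k' * y * k'⁻¹) = (k' * y * k'⁻¹) * u :=
          hcomm u hu _ (hK.conj_mem y hyK k')
        show a * b = u * k' * (x * y) * (u * k')⁻¹
        rw [ha', hb']
        calc u * x * u⁻¹ * (k' * y * k'⁻¹) = u * x * u⁻¹ * ((k' * y * k'⁻¹) * u) * u⁻¹ := by group
          _ = u * x * u⁻¹ * (u * (k' * y * k'⁻¹)) * u⁻¹ := by rw [h5]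
          _ = u * (x * k') * y * k'⁻¹ * u⁻¹ := by group
          _ = u * (k' * x) * y * k'⁻¹ * u⁻¹ := by rw [h4]
          _ = u * k' * (x * y) * (u * k')⁻¹ := by group
      · intro hc
        obtain ⟨g, rfl⟩ := (mem_class (x * y) c).mp hc
        refine ⟨(g * x * g⁻¹, g * y * g⁻¹), ⟨(mem_class x _).mpr ⟨g, rfl⟩,
          (mem_class y _).mpr ⟨g, rfl⟩⟩, ?_⟩
        show g * x * g⁻¹ * (g * y * g⁻¹) = g * (x * y) * g⁻¹
        group
    have hinj : Set.InjOn (fun ab : G × G => ab.1 * ab.2) (A ×ˢ B) := by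
      rintro ⟨a, b⟩ ⟨ha, hb⟩ ⟨a', b'⟩ ⟨ha', hb'⟩ hab
      have hab' : a * b = a' * b' := hab
      have h3 : a'⁻¹ * a = b' * b⁻¹ := by
        calc a'⁻¹ * a = a'⁻¹ * (a * b) * b⁻¹ := by group
          _ = a'⁻¹ * (a' * b') * b⁻¹ := by rw [hab']
          _ = b' * b⁻¹ := by group
      have h4 : a'⁻¹ * a ∈ (P : Subgroup G) ⊓ K :=
        ⟨Subgroup.mul_mem _ (Subgroup.inv_mem _ (hAP a' ha')) (hAP a ha),
          h3 ▸ K.mul_mem (hBK b' hb') (K.inv_mem (hBK b hb))⟩
      rw [hPK, Subgroup.mem_bot] at h4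
      have h5 : a = a' := by
        have h6 := inv_mul_eq_one.mp h4
        exact h6.symm
      have h6 : b = b' := by
        rw [h5] at hab'
        exact mul_left_cancel hab'
      rw [h5, h6]
    rw [← himg, hinj.ncard_image]
  · intro h
    apply Cfsg.Agent.S3986.factor_of_commute p
    intro x y hx hy
    exact commute_of_index x y (h x y hx hy)

end Cfsg.Agent.S3987
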