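import Mathlib
import Cfsg.Statements.S3918
import Cfsg.Agent.S0126
import Cfsg.Agent.S4035
import Cfsg.Agent.S3987
import Cfsg.Agent.Lib.Helper10.CN

set_option autoImplicit false
open Cfsg

namespace Cfsg.Agent.S3918

/-- Say that a group has self-centralizing non-cyclic subgroups when every non-cyclic subgroup H satisfies C_G(H) ≤ H. For an odd prime p, a finite non-abelian p-group has self-centralizing non-cyclic subgroups if and only if it has order p³. -/
theorem result {G : Type*} [Group G] [Finite G] {p : ℕ} [Fact p.Prime] (hp : p ≠ 2) (hG : IsPGroup p G) (hna : ¬ IsMulCommutative G) :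
    (∀ H : Subgroup G, ¬ IsCyclic ↥H → Subgroup.centralizer (H : Set G) ≤ H) ↔ Nat.card G = p ^ 3 := by
  have hpp : p.Prime := Fact.out
  obtain ⟨k, hk⟩ := IsPGroup.iff_card.mp hG
  have hk3 : 3 ≤ k := by
    by_contra hlt
    push Not at hlt
    apply hna
    interval_cases k
    · have hsub : Subsingleton G := by
        rw [pow_zero] at hk
        exact (Nat.card_eq_one_iff_unique.mp hk).1
      exact ⟨⟨fun a b => Subsingleton.elim _ _⟩⟩
    · rw [pow_one] at hk
      have hc : IsCyclic G := isCyclic_of_prime_card hk
      exact inferInstance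
    · exact IsPGroup.isMulCommutative_of_card_eq_prime_sq hk
  have hcyc_le : ∀ H : Subgroup G, IsCyclic H → (∀ a ∈ H, a ^ p = 1) → Nat.card H ≤ p := by
    intro H hH h
    obtain ⟨g, hg⟩ := hH.exists_generator
    have h1 := orderOf_eq_card_of_forall_mem_zpowers hg
    rw [← h1]
    apply Nat.le_of_dvd hpp.pos
    apply orderOf_dvd_of_pow_eq_one
    apply Subtype.ext
    rw [Subgroup.coe_pow]
    exact h g g.2
  constructor
  · intro hX
    have hnc : ¬ IsCyclic G := by
      intro hc
      exact hna inferInstance
    obtain ⟨E, hEn, ⟨hEcomm, hEexp⟩, hEcard⟩ := Cfsg.Agent.S0126.result hp hG hnc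
    have hEnc : ¬ IsCyclic E := by
      intro hc
      have h1 := hcyc_le E hc hEexp
      rw [hEcard] at h1
      have h2 : p < p ^ 2 := by
        have := hpp.one_lt
        nlinarith
      omega
    have hCE := hX E hEnc
    have hnil : Group.IsNilpotent G := hG.isNilpotent
    have hEne : E ≠ ⊥ := by
      rintro rfl
      rw [Subgroup.card_bot] at hEcard
      have : 1 < p ^ 2 := Nat.one_lt_pow (by norm_num) hpp.one_lt
      omega
    obtain ⟨z, hzE, hz1, hzc⟩ := Cfsg.Agent.Lib.Helper10.CN.inf_center_ne_bot E hEne
    have hzord : orderOf z = p := by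
      have h1 : orderOf z ∣ p := orderOf_dvd_of_pow_eq_one (hEexp z hzE)
      rcases (Nat.dvd_prime hpp).mp h1 with h2 | h2
      · exact absurd (orderOf_eq_one_iff.mp h2) hz1
      · exact h2
    -- an element of E outside ⟨z⟩
    have hex : ∃ e ∈ E, e ∉ Subgroup.zpowers z := by
      by_contra hcon
      push Not at hcon
      have h1 : E ≤ Subgroup.zpowers z := fun a ha => hcon a ha
      have h2 := Subgroup.card_le_of_le h1
      rw [hEcard, Nat.card_zpowers, hzord] at h2
      have h3 : p < p ^ 2 := by
        have := hpp.one_lt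
        nlinarith
      omega
    obtain ⟨e, heE, hez⟩ := hex
    have hsupE : Subgroup.zpowers z ⊔ Subgroup.zpowers e = E := by
      have hle : Subgroup.zpowers z ⊔ Subgroup.zpowers e ≤ E :=
        sup_le (Subgroup.zpowers_le.mpr hzE) (Subgroup.zpowers_le.mpr heE)
      apply Subgroup.eq_of_le_of_card_ge hle
      have hp1 : IsPGroup p (Subgroup.zpowers z ⊔ Subgroup.zpowers e : Subgroup G) :=
        hG.to_subgroup _
      obtain ⟨j, hj⟩ := IsPGroup.iff_card.mp hp1
      rw [hEcard, hj]
      apply Nat.pow_le_pow_right hpp.pos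
      by_contra hj2
      push Not at hj2
      have h1 : Subgroup.zpowers z = Subgroup.zpowers z ⊔ Subgroup.zpowers e := by
        apply Subgroup.eq_of_le_of_card_ge le_sup_left
        rw [hj, Nat.card_zpowers, hzord]
        calc p ^ j ≤ p ^ 1 := Nat.pow_le_pow_right hpp.pos (by omega)
          _ = p := pow_one p
      apply hez
      rw [h1]
      exact Subgroup.mem_sup_right (Subgroup.mem_zpowers e)
    -- the centralizer of e lies in E
    have hCe : Subgroup.centralizer ({e} : Set G) ≤ E := by
      intro c hc
      apply hCE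
      rw [Subgroup.mem_centralizer_iff]
      intro h hh
      have hle : Subgroup.zpowers z ⊔ Subgroup.zpowers e ≤ Subgroup.centralizer ({c} : Set G) := by
        apply sup_le
        · rw [Subgroup.zpowers_le, Subgroup.mem_centralizer_singleton_iff]
          exact (hzc c).symm
        · rw [Subgroup.zpowers_le, Subgroup.mem_centralizer_singleton_iff]
          exact (Subgroup.mem_centralizer_singleton_iff.mp hc).symm
      rw [hsupE] at hle
      exact Subgroup.mem_centralizer_singleton_iff.mp (hle hh)
    -- the class of e is small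
    have hclass : (ConjClasses.mk e).carrier ⊆ ((E : Set G) \ (Subgroup.zpowers z : Set G)) := by
      intro a ha
      rw [Cfsg.Agent.S3987.mem_class] at ha
      obtain ⟨c, rfl⟩ := ha
      refine ⟨hEn.conj_mem e heE c, ?_⟩
      intro hmem
      apply hez
      obtain ⟨i, hi⟩ := Subgroup.mem_zpowers_iff.mp hmem
      have h1 : e = z ^ i := by
        have h2 : c * z ^ i * c⁻¹ = z ^ i := by
          have h3 : Commute c (z ^ i) := (show Commute c z from hzc c).zpow_right i
          rw [h3.eq]
          group
        calc e = c⁻¹ * (c * e * c⁻¹) * c := by group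
          _ = c⁻¹ * z ^ i * c := by rw [hi]
          _ = c⁻¹ * (c * z ^ i * c⁻¹) * c := by rw [h2]
          _ = z ^ i := by group
      rw [h1]
      exact Subgroup.zpow_mem_zpowers z i
    have hidx : (Subgroup.centralizer ({e} : Set G)).index ≤ p ^ 2 - p := by
      rw [← Cfsg.Agent.S4035.ncard_class]
      have h1 := Set.ncard_le_ncard hclass (Set.toFinite _)
      have h2 : ((E : Set G) \ (Subgroup.zpowers z : Set G)).ncard = p ^ 2 - p := by
        rw [Set.ncard_sdiff (Subgroup.zpowers_le.mpr hzE) (Set.toFinite _)]
        have h3 : (E : Set G).ncard = Nat.card E := rfl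
        have h4 : (Subgroup.zpowers z : Set G).ncard = Nat.card (Subgroup.zpowers z) := rfl
        rw [h3, h4, hEcard, Nat.card_zpowers, hzord]
      rw [h2] at h1
      exact h1
    have hidx_dvd : (Subgroup.centralizer ({e} : Set G)).index ∣ p ^ k := by
      rw [← hk]
      exact Subgroup.index_dvd_card _
    obtain ⟨j, -, hj⟩ := (Nat.dvd_prime_pow hpp).mp hidx_dvd
    have hj1 : j ≤ 1 := by
      by_contra hj2
      push Not at hj2
      have h1 : p ^ 2 ≤ p ^ j := Nat.pow_le_pow_right hpp.pos hj2
      rw [hj] at hidx
      have h3 : 0 < p := hpp.pos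
      have h4 : p ≤ p ^ 2 := by nlinarith
      omega
    have hCcard : Nat.card (Subgroup.centralizer ({e} : Set G)) ∣ p ^ 2 := by
      rw [← hEcard]
      exact Subgroup.card_dvd_of_le hCe
    have hmul := Subgroup.card_mul_index (Subgroup.centralizer ({e} : Set G))
    have hdvd : p ^ k ∣ p ^ 2 * p ^ 1 := by
      rw [← hk, ← hmul, hj]
      exact Nat.mul_dvd_mul hCcard (pow_dvd_pow p hj1)
    rw [← pow_add] at hdvd
    have hk' : k ≤ 3 := (Nat.pow_dvd_pow_iff_le_right hpp.one_lt).mp hdvd
    have hk'' : k = 3 := by omega
    rw [hk, hk'']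
  · intro hcard H hH c hc
    by_contra hcH
    rw [hk] at hcard
    have hk' : k = 3 := Nat.pow_right_injective hpp.two_le hcard
    have hHp : IsPGroup p H := hG.to_subgroup H
    obtain ⟨j, hj⟩ := IsPGroup.iff_card.mp hHp
    have hjk : j ≤ k := by
      have h1 := Subgroup.card_subgroup_dvd_card H
      rw [hj, hk] at h1
      exact (Nat.pow_dvd_pow_iff_le_right hpp.one_lt).mp h1
    have hj2 : j = 2 := by
      have hj0 : j ≠ 0 := by
        rintro rfl
        rw [pow_zero] at hj
        apply hH
        have : H = ⊥ := Subgroup.card_eq_one.mp hj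
        rw [this]
        exact inferInstance
      have hj1 : j ≠ 1 := by
        rintro rfl
        rw [pow_one] at hj
        exact hH (isCyclic_of_prime_card hj)
      have hj3 : j ≠ 3 := by
        rintro rfl
        have : H = ⊤ := Subgroup.eq_top_of_card_eq H (by rw [hj, hk, hk'])
        apply hcH
        rw [this]
        exact Subgroup.mem_top c
      omega
    rw [hj2] at hj
    have hHcomm : IsMulCommutative H := IsPGroup.isMulCommutative_of_card_eq_prime_sq hj
    -- H ⊔ ⟨c⟩ = ⊤
    have htop : H ⊔ Subgroup.zpowers c = ⊤ := by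
      have hp1 : IsPGroup p (H ⊔ Subgroup.zpowers c : Subgroup G) := hG.to_subgroup _
      obtain ⟨i, hi⟩ := IsPGroup.iff_card.mp hp1
      apply Subgroup.eq_top_of_card_eq
      rw [hi, hk, hk']
      congr 1
      have hi3 : i ≤ 3 := by
        have h1 := Subgroup.card_subgroup_dvd_card (H ⊔ Subgroup.zpowers c)
        rw [hi, hk, hk'] at h1
        exact (Nat.pow_dvd_pow_iff_le_right hpp.one_lt).mp h1
      have hi2 : ¬ i ≤ 2 := by
        intro hle
        have h1 : H = H ⊔ Subgroup.zpowers c := by
          apply Subgroup.eq_of_le_of_card_ge le_sup_left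
          rw [hi, hj]
          exact Nat.pow_le_pow_right hpp.pos hle
        apply hcH
        rw [h1]
        exact Subgroup.mem_sup_right (Subgroup.mem_zpowers c)
      omega
    -- then G is abelian
    apply hna
    have hHc : ∀ h ∈ H, h * c = c * h := Subgroup.mem_centralizer_iff.mp hc
    have hHH : ∀ a ∈ H, ∀ b ∈ H, a * b = b * a := by
      intro a ha b hb
      have h1 : (⟨a, ha⟩ : H) * ⟨b, hb⟩ = ⟨b, hb⟩ * ⟨a, ha⟩ := hHcomm.is_comm.comm _ _
      exact congrArg Subtype.val h1
    have hcenter : H ⊔ Subgroup.zpowers c ≤ Subgroup.center G := by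
      apply sup_le
      · intro h hh
        rw [Subgroup.mem_center_iff]
        intro g
        have hle : H ⊔ Subgroup.zpowers c ≤ Subgroup.centralizer ({h} : Set G) := by
          apply sup_le
          · intro a ha
            rw [Subgroup.mem_centralizer_singleton_iff]
            exact hHH a ha h hh
          · rw [Subgroup.zpowers_le, Subgroup.mem_centralizer_singleton_iff]
            exact (hHc h hh).symm
        rw [htop] at hle
        exact Subgroup.mem_centralizer_singleton_iff.mp (hle (Subgroup.mem_top g))
      · rw [Subgroup.zpowers_le, Subgroup.mem_center_iff]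
        intro g
        have hle : H ⊔ Subgroup.zpowers c ≤ Subgroup.centralizer ({c} : Set G) := by
          apply sup_le
          · intro a ha
            rw [Subgroup.mem_centralizer_singleton_iff]
            exact hHc a ha
          · rw [Subgroup.zpowers_le, Subgroup.mem_centralizer_singleton_iff]
        rw [htop] at hle
        exact Subgroup.mem_centralizer_singleton_iff.mp (hle (Subgroup.mem_top g))
    rw [htop] at hcenter
    refine ⟨⟨fun a b => ?_⟩⟩
    exact (Subgroup.mem_center_iff.mp (hcenter (Subgroup.mem_top b)) a)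

end Cfsg.Agent.S3918
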