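import Mathlib
import Cfsg.Statements.S4032
import Cfsg.Agent.Lib.Helper21.PiClosed
import Cfsg.Agent.Lib.Helper21.Engel

set_option autoImplicit false
open Cfsg

namespace Cfsg.Agent.S4032

open Cfsg.Agent.Lib.Helper21.PiTools Cfsg.Agent.Lib.Helper21.Compl
open Cfsg.Agent.Lib.Helper21.PiClosed
open scoped Pointwise

/-- Two `π`-elements in the same coset of a normal `π'`-subgroup `K` generate cyclic subgroups
conjugate under `K⟨x⟩` (Schur–Zassenhaus). -/
theorem conj_zpowers_of_coset' {G : Type*} [Group G] [Finite G] (π : Set ℕ) (K : Subgroup G) [K.Normal]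
    (hK : ∀ k ∈ K, IsPi πᶜ k) (x u : G) (hx : IsPi π x) (hu : IsPi π u) (hux : x⁻¹ * u ∈ K) :
    ∃ e : G, e ∈ K ⊔ Subgroup.zpowers x ∧
      MulAut.conj e • Subgroup.zpowers u = Subgroup.zpowers x := by
  have hdisj : ∀ w : G, IsPi π w → K ⊓ Subgroup.zpowers w = ⊥ := by
    intro w hw
    rw [eq_bot_iff]
    intro a ha
    rw [Subgroup.mem_bot]
    exact (hw.of_mem_zpowers ha.2).eq_one (hK a ha.1)
  set E : Subgroup G := K ⊔ Subgroup.zpowers x with hE
  have hxE : Subgroup.zpowers x ≤ E := le_sup_right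
  have hKE : K ≤ E := le_sup_left
  have huE' : u ∈ E := by
    have h1 : u = x * (x⁻¹ * u) := by rw [mul_inv_cancel_left]
    rw [h1]
    exact E.mul_mem (hxE (Subgroup.mem_zpowers x)) (hKE hux)
  have huE : Subgroup.zpowers u ≤ E := Subgroup.zpowers_le.mpr huE'
  have hE2 : E = K ⊔ Subgroup.zpowers u := by
    apply le_antisymm
    · rw [hE]
      apply sup_le le_sup_left
      rw [Subgroup.zpowers_le]
      have h1 : x = u * (x⁻¹ * u)⁻¹ := by group
      rw [h1]
      exact Subgroup.mul_mem _ (Subgroup.mem_sup_right (Subgroup.mem_zpowers u))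
        (Subgroup.mem_sup_left (K.inv_mem hux))
    · exact sup_le hKE huE
  have hrelx : K.relIndex E = Nat.card (Subgroup.zpowers x) :=
    relIndex_sup_zpowers K x (hdisj x hx)
  have hrelu : K.relIndex E = Nat.card (Subgroup.zpowers u) := by
    rw [hE2]
    exact relIndex_sup_zpowers K u (hdisj u hu)
  have hNEcard : Nat.card (K.subgroupOf E) = Nat.card K :=
    Nat.card_congr (Subgroup.subgroupOfEquivOfLe hKE).toEquiv
  have hcop : (Nat.card (K.subgroupOf E)).Coprime (K.subgroupOf E).index := by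
    rw [hNEcard]
    show (Nat.card K).Coprime (K.relIndex E)
    rw [hrelx, Nat.card_zpowers]
    exact (IsPiNum.coprime hx (isPiNum_card_subgroup K hK)).symm
  have hH : Nat.card ((Subgroup.zpowers u).subgroupOf E) = (K.subgroupOf E).index := by
    rw [Nat.card_congr (Subgroup.subgroupOfEquivOfLe huE).toEquiv]
    exact hrelu.symm
  have hK' : Nat.card ((Subgroup.zpowers x).subgroupOf E) = (K.subgroupOf E).index := by
    rw [Nat.card_congr (Subgroup.subgroupOfEquivOfLe hxE).toEquiv]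
    exact hrelx.symm
  have hsolv : Group.IsSolvable ((Subgroup.zpowers u).subgroupOf E) := by
    apply Group.isSolvable_of_comm
    intro a b
    apply Subtype.ext
    apply Subtype.ext
    have ha : (a.1.1 : G) ∈ Subgroup.zpowers u := a.2
    have hb : (b.1.1 : G) ∈ Subgroup.zpowers u := b.2
    obtain ⟨i, hi⟩ := Subgroup.mem_zpowers_iff.mp ha
    obtain ⟨j, hj⟩ := Subgroup.mem_zpowers_iff.mp hb
    show (a.1.1 : G) * b.1.1 = b.1.1 * a.1.1
    rw [← hi, ← hj]
    exact ((Commute.refl u).zpow_zpow i j).eq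
  obtain ⟨g, hg⟩ := Cfsg.Agent.Lib.Helper10.SZ.conj_aux (Nat.card E) E rfl (K.subgroupOf E) hcop
    ((Subgroup.zpowers u).subgroupOf E) ((Subgroup.zpowers x).subgroupOf E) hH hK' (Or.inr hsolv)
  have hg' := congrArg (Subgroup.map E.subtype) hg
  rw [Cfsg.Agent.Lib.Helper10.SZ.map_conj_smul, Subgroup.map_subgroupOf_eq_of_le huE,
    Subgroup.map_subgroupOf_eq_of_le hxE] at hg'
  exact ⟨g.1, g.2, hg'⟩

/-- Let π be a set of primes and G a finite group in which N_G(⟨x⟩) = C_G(x) for every π-element x. If N is a normal subgroup of G whose order is divisible by no prime of π, then G/N has the same property: N_{G/N}(⟨y⟩) = C_{G/N}(y) for every π-element y of G/N. -/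
theorem result {G : Type*} [Group G] [Finite G] (π : Set ℕ)
    (hirr : ∀ x : G, (∀ r : ℕ, r.Prime → r ∣ orderOf x → r ∈ π) →
      Subgroup.normalizer ((Subgroup.zpowers x : Subgroup G) : Set G) ≤ Subgroup.centralizer {x})
    (N : Subgroup G) [N.Normal] (hN : ∀ r : ℕ, r.Prime → r ∣ Nat.card N → r ∉ π) :
    ∀ y : G ⧸ N, (∀ r : ℕ, r.Prime → r ∣ orderOf y → r ∈ π) →
      Subgroup.normalizer ((Subgroup.zpowers y : Subgroup (G ⧸ N)) : Set (G ⧸ N)) ≤ Subgroup.centralizer {y} := by
  intro y hy γ hγ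
  have hy' : IsPi π y := hy
  have hNel : ∀ k ∈ N, IsPi πᶜ k := by
    intro k hk r hr hd
    have h1 := orderOf_dvd_natCard (⟨k, hk⟩ : N)
    rw [Subgroup.orderOf_mk] at h1
    exact hN r hr (hd.trans h1)
  obtain ⟨x₀, hx₀⟩ := QuotientGroup.mk'_surjective N y
  obtain ⟨a, b, ha, hb, hab, hpa, hpb⟩ := pi_decomp π x₀
  have hb1 : QuotientGroup.mk' N b = 1 := by
    have h1 : IsPi πᶜ (QuotientGroup.mk' N b) := hpb.map _
    have h2 : IsPi π (QuotientGroup.mk' N b) := by
      obtain ⟨i, hi⟩ := Subgroup.mem_zpowers_iff.mp hb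
      rw [← hi, map_zpow, hx₀]
      exact hy'.of_mem_zpowers (Subgroup.zpow_mem_zpowers y i)
    exact h2.eq_one h1
  have hya : QuotientGroup.mk' N a = y := by
    rw [← hx₀, hab, map_mul, hb1, mul_one]
  obtain ⟨g, hg⟩ := QuotientGroup.mk'_surjective N γ
  have h1 : γ * y * γ⁻¹ ∈ Subgroup.zpowers y :=
    (Subgroup.mem_set_normalizer_iff.mp hγ y).mp (Subgroup.mem_zpowers y)
  obtain ⟨i, hi⟩ := Subgroup.mem_zpowers_iff.mp h1
  have hu : IsPi π (g * a * g⁻¹) := hpa.conj g
  have hw : IsPi π (a ^ i) := hpa.of_mem_zpowers (Subgroup.zpow_mem_zpowers a i)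
  have hwu : (a ^ i)⁻¹ * (g * a * g⁻¹) ∈ N := by
    rw [← QuotientGroup.eq_one_iff, ← QuotientGroup.mk'_apply, map_mul, map_inv, map_zpow,
      map_mul, map_mul, map_inv, hya, hg, hi]
    group
  obtain ⟨e, heE, he⟩ := conj_zpowers_of_coset' π N hNel (a ^ i) (g * a * g⁻¹) hw hu hwu
  have hegN : e * g ∈ Subgroup.normalizer ((Subgroup.zpowers a : Subgroup G) : Set G) := by
    apply Cfsg.Agent.Lib.Helper21.Engel.mem_normalizer_of_conj_le
    intro d hd
    obtain ⟨j, rfl⟩ := Subgroup.mem_zpowers_iff.mp hd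
    have h2 : e * (g * a * g⁻¹) ^ j * e⁻¹ ∈
        MulAut.conj e • Subgroup.zpowers (g * a * g⁻¹) := by
      rw [mem_conj_smul]
      have h3 : e⁻¹ * (e * (g * a * g⁻¹) ^ j * e⁻¹) * e = (g * a * g⁻¹) ^ j := by group
      rw [h3]
      exact Subgroup.zpow_mem_zpowers _ j
    rw [he] at h2
    have h3 : e * g * a ^ j * (e * g)⁻¹ = e * (g * a * g⁻¹) ^ j * e⁻¹ := by
      rw [conj_zpow]
      group
    rw [h3]
    exact (Subgroup.zpowers_le.mpr (Subgroup.zpow_mem_zpowers a i)) h2
  have hcomm := hirr a hpa hegN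
  rw [Subgroup.mem_centralizer_singleton_iff] at hcomm
  have hcomm' : QuotientGroup.mk' N e * γ * y = y * (QuotientGroup.mk' N e * γ) := by
    rw [← hya, ← hg, ← map_mul, ← map_mul, ← map_mul, hcomm]
  have heq : QuotientGroup.mk' N e ∈ Subgroup.zpowers y := by
    have h4 : QuotientGroup.mk' N e ∈ (N ⊔ Subgroup.zpowers (a ^ i)).map (QuotientGroup.mk' N) :=
      Subgroup.mem_map_of_mem _ heE
    rw [Subgroup.map_sup, QuotientGroup.map_mk'_self, bot_sup_eq, MonoidHom.map_zpowers,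
      map_zpow, hya] at h4
    exact (Subgroup.zpowers_le.mpr (Subgroup.zpow_mem_zpowers y i)) h4
  obtain ⟨j, hj⟩ := Subgroup.mem_zpowers_iff.mp heq
  have hey : QuotientGroup.mk' N e * y = y * QuotientGroup.mk' N e := by
    rw [← hj]
    exact ((Commute.refl y).zpow_left j).eq
  rw [Subgroup.mem_centralizer_singleton_iff]
  have h5 : QuotientGroup.mk' N e * (γ * y) = QuotientGroup.mk' N e * (y * γ) := by
    calc QuotientGroup.mk' N e * (γ * y) = QuotientGroup.mk' N e * γ * y := by group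
      _ = y * (QuotientGroup.mk' N e * γ) := hcomm'
      _ = (y * QuotientGroup.mk' N e) * γ := by group
      _ = (QuotientGroup.mk' N e * y) * γ := by rw [hey]
      _ = QuotientGroup.mk' N e * (y * γ) := by group
  exact mul_left_cancel h5

end Cfsg.Agent.S4032
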