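import Mathlib
import Cfsg.Statements.S3984
import Cfsg.Agent.Lib.Helper21.TI
import Cfsg.Agent.Lib.Helper21.PiTools2
import Cfsg.Agent.S4032

set_option autoImplicit false
open scoped Pointwise
open Cfsg

namespace Cfsg.Agent.S3984

open Cfsg.Agent.Lib.Helper21.TI Cfsg.Agent.Lib.Helper21.Compl
open Cfsg.Agent.Lib.Helper21.PiTools Cfsg.Agent.Lib.Helper21.PiTools2

/-- Let P be a Sylow p-subgroup of the finite group G that meets each conjugate g P g⁻¹ with g outside N_G(P) trivially, and let N be a normal subgroup of G of order prime to p. Then every Sylow p-subgroup Q of G ⧸ N meets each conjugate x Q x⁻¹ with x outside its normalizer trivially. -/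
theorem result {G : Type*} [Group G] [Finite G] (p : ℕ) [Fact p.Prime] (P : Sylow p G) (hTI : ∀ g : G, g ∉ Subgroup.normalizer ((P : Subgroup G) : Set G) → (P : Subgroup G) ⊓ (MulAut.conj g • (P : Subgroup G)) = ⊥) (N : Subgroup G) [N.Normal] (hN : (Nat.card ↥N).Coprime p) (Q : Sylow p (G ⧸ N)) : ∀ x : G ⧸ N, x ∉ Subgroup.normalizer ((Q : Subgroup (G ⧸ N)) : Set (G ⧸ N)) → (Q : Subgroup (G ⧸ N)) ⊓ (MulAut.conj x • (Q : Subgroup (G ⧸ N))) = ⊥ := by
  rw [ti_iff]
  intro ξ ζ hζ hξζ hζ1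
  have hp : p.Prime := Fact.out
  obtain ⟨P₁, hP₁⟩ := Sylow.mapSurjective_surjective (QuotientGroup.mk'_surjective N) p Q
  have hQ : (Q : Subgroup (G ⧸ N)) = (P₁ : Subgroup G).map (QuotientGroup.mk' N) := by
    rw [← hP₁, Sylow.coe_mapSurjective]
  have hTI₁ := ti_sylow P hTI P₁
  rw [hQ] at hζ hξζ ⊢
  obtain ⟨z, hz, rfl⟩ := hζ
  obtain ⟨z', hz', hzz'⟩ := hξζ
  obtain ⟨x, rfl⟩ := QuotientGroup.mk'_surjective N ξ
  have hzpi : IsPi {p} z := (isPi_singleton_iff p hp z).mpr (orderOf_of_mem_sylow P₁ z hz)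
  have hz'pi : IsPi {p} z' := (isPi_singleton_iff p hp z').mpr (orderOf_of_mem_sylow P₁ z' hz')
  have hupi : IsPi {p} (x * z' * x⁻¹) := hz'pi.conj x
  have hNel : ∀ k ∈ N, IsPi {p}ᶜ k := by
    intro k hk
    rw [isPi_compl_singleton_iff p hp]
    intro hd
    have h1 := orderOf_dvd_natCard (⟨k, hk⟩ : N)
    rw [Subgroup.orderOf_mk] at h1
    exact hp.one_lt.ne' (Nat.eq_one_of_dvd_coprimes hN (hd.trans h1) dvd_rfl)
  have hzu : z⁻¹ * (x * z' * x⁻¹) ∈ N := by
    rw [← QuotientGroup.eq_one_iff, ← QuotientGroup.mk'_apply]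
    simp only [map_mul, map_inv]
    rw [hzz']
    group
  obtain ⟨e, heE, he⟩ := Cfsg.Agent.S4032.conj_zpowers_of_coset' {p} N hNel z (x * z' * x⁻¹)
    hzpi hupi hzu
  have h1 : (e * x)⁻¹ * z * (e * x) ∈ (P₁ : Subgroup G) := by
    have h2 : z ∈ MulAut.conj e • Subgroup.zpowers (x * z' * x⁻¹) := by
      rw [he]
      exact Subgroup.mem_zpowers z
    rw [mem_conj_smul] at h2
    obtain ⟨j, hj⟩ := Subgroup.mem_zpowers_iff.mp h2
    have h3 : (e * x)⁻¹ * z * (e * x) = z' ^ j := by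
      have h4 : (e * x)⁻¹ * z * (e * x) = x⁻¹ * (e⁻¹ * z * e) * x := by group
      rw [h4, ← hj, conj_zpow]
      group
    rw [h3]
    exact Subgroup.zpow_mem _ hz' j
  have hz1 : z ≠ 1 := by
    rintro rfl
    exact hζ1 (map_one _)
  have hex : e * x ∈ Subgroup.normalizer ((P₁ : Subgroup G) : Set G) := hTI₁ (e * x) z hz h1 hz1
  have hex' : QuotientGroup.mk' N (e * x) ∈ Subgroup.normalizer
      (((P₁ : Subgroup G).map (QuotientGroup.mk' N) : Subgroup (G ⧸ N)) : Set (G ⧸ N)) :=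
    Subgroup.le_normalizer_map _ (Subgroup.mem_map_of_mem _ hex)
  have he' : QuotientGroup.mk' N e ∈ (P₁ : Subgroup G).map (QuotientGroup.mk' N) := by
    have h4 : QuotientGroup.mk' N e ∈ (N ⊔ Subgroup.zpowers z).map (QuotientGroup.mk' N) :=
      Subgroup.mem_map_of_mem _ heE
    rw [Subgroup.map_sup, QuotientGroup.map_mk'_self, bot_sup_eq] at h4
    exact Subgroup.map_mono (Subgroup.zpowers_le.mpr hz) h4
  have h5 : QuotientGroup.mk' N x = (QuotientGroup.mk' N e)⁻¹ * QuotientGroup.mk' N (e * x) := by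
    rw [map_mul]
    group
  rw [h5]
  exact Subgroup.mul_mem _ (Subgroup.inv_mem _ (Subgroup.le_normalizer he')) hex'

end Cfsg.Agent.S3984
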