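import Mathlib
import Cfsg.Statements.S4479
import Cfsg.Agent.Lib.Helper23.Klein4

set_option autoImplicit false
open Cfsg

namespace Cfsg.Agent.S4479

/-- An order formula from the principal 2-block. Let G be a finite group of order 4·g₀ with g₀ odd having no normal 2-complement (no normal subgroup of order g₀); let P be a Sylow 2-subgroup, J an involution of P, and fix a maximal ideal M of the algebraic integers containing 2. Suppose the principal 2-block consists of the principal character and three further distinct characters χ₁, χ₂, χ₃ of degrees x₁, x₂, x₃, with χ_i(J) = ε_i = ±1. Then, writing c(J) and c(P) for the orders of the centralizers of J and of P, the order of G equals 8·α·c(J)³/c(P)² with α = x₁x₂x₃ / ((x₁ + ε₁)(x₂ + ε₂)(x₃ + ε₃)). -/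
theorem result {G : Type*} [Group G] [Finite G] (M : Ideal Cfsg.AlgInt) (hM : Cfsg.IsPModular 2 M) (g₀ : ℕ) (hg₀ : Odd g₀) (hG : Nat.card G = 4 * g₀) (hnc : ¬ ∃ N : Subgroup G, N.Normal ∧ Nat.card N = g₀) (P : Sylow 2 G) (J : G) (hJ : J ∈ (P : Subgroup G)) (hJ2 : orderOf J = 2) (χ₁ χ₂ χ₃ : Cfsg.IrrCharacter G) (ε₁ ε₂ ε₃ : ℤ) (hB : Cfsg.principalBlock M G = {χ : Cfsg.IrrCharacter G | (χ : G → ℂ) = (fun _ => 1) ∨ χ = χ₁ ∨ χ = χ₂ ∨ χ = χ₃}) (hdist : (χ₁ : G → ℂ) ≠ (fun _ => 1) ∧ (χ₂ : G → ℂ) ≠ (fun _ => 1) ∧ (χ₃ : G → ℂ) ≠ (fun _ => 1) ∧ χ₁ ≠ χ₂ ∧ χ₁ ≠ χ₃ ∧ χ₂ ≠ χ₃) (hε : (ε₁ = 1 ∨ ε₁ = -1) ∧ (ε₂ = 1 ∨ ε₂ = -1) ∧ (ε₃ = 1 ∨ ε₃ = -1)) (hval : (χ₁ : G → ℂ) J = ε₁ ∧ (χ₂ : G → ℂ) J = ε₂ ∧ (χ₃ : G → ℂ) J = ε₃) : (Nat.card G : ℚ) = 8 * (((Cfsg.charDegree (χ₁ : G → ℂ) : ℚ) * Cfsg.charDegree (χ₂ : G → ℂ) * Cfsg.charDegree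 (χ₃ : G → ℂ)) / ((Cfsg.charDegree (χ₁ : G → ℂ) + ε₁) * (Cfsg.charDegree (χ₂ : G → ℂ) + ε₂) * (Cfsg.charDegree (χ₃ : G → ℂ) + ε₃))) * (Nat.card (Subgroup.centralizer ({J} : Set G)) : ℚ) ^ 3 / (Nat.card (Subgroup.centralizer ((P : Subgroup G) : Set G)) : ℚ) ^ 2 := by
  obtain ⟨H1, H2⟩ := Cfsg.Agent.Lib.Helper23.Klein.klein_core M hM g₀ hg₀ hG hnc P J hJ hJ2
    χ₁ χ₂ χ₃ ε₁ ε₂ ε₃ hB hdist hε hval
  have hx₁ : 0 < Cfsg.charDegree (χ₁ : G → ℂ) :=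
    Cfsg.Agent.Lib.Helper24.CharBasic.irr_degree_pos χ₁.2
  have hx₂ : 0 < Cfsg.charDegree (χ₂ : G → ℂ) :=
    Cfsg.Agent.Lib.Helper24.CharBasic.irr_degree_pos χ₂.2
  have hx₃ : 0 < Cfsg.charDegree (χ₃ : G → ℂ) :=
    Cfsg.Agent.Lib.Helper24.CharBasic.irr_degree_pos χ₃.2
  have hcP : 0 < Nat.card (Subgroup.centralizer ((P : Subgroup G) : Set G)) := Nat.card_pos
  have hcJ : 0 < Nat.card (Subgroup.centralizer ({J} : Set G)) := Nat.card_pos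
  have hg : 0 < Nat.card G := Nat.card_pos
  generalize Cfsg.charDegree (χ₁ : G → ℂ) = x₁ at *
  generalize Cfsg.charDegree (χ₂ : G → ℂ) = x₂ at *
  generalize Cfsg.charDegree (χ₃ : G → ℂ) = x₃ at *
  generalize Nat.card (Subgroup.centralizer ((P : Subgroup G) : Set G)) = cP at *
  generalize Nat.card (Subgroup.centralizer ({J} : Set G)) = cJ at *
  generalize Nat.card G = g at *
  have hx₁c : (x₁ : ℂ) ≠ 0 := by exact_mod_cast hx₁.ne'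
  have hx₂c : (x₂ : ℂ) ≠ 0 := by exact_mod_cast hx₂.ne'
  have hx₃c : (x₃ : ℂ) ≠ 0 := by exact_mod_cast hx₃.ne'
  have hx : (1 + (ε₁ : ℂ) / (x₁ : ℂ) + (ε₂ : ℂ) / (x₂ : ℂ) + (ε₃ : ℂ) / (x₃ : ℂ))
      * ((x₁ : ℂ) * x₂ * x₃)
      = (x₁ : ℂ) * x₂ * x₃ + ε₁ * x₂ * x₃ + ε₂ * x₁ * x₃ + ε₃ * x₁ * x₂ := by
    field_simp
  have H1m : (g : ℂ) * ((x₁ : ℂ) * x₂ * x₃ + ε₁ * x₂ * x₃ + ε₂ * x₁ * x₃ + ε₃ * x₁ * x₂)
      * (cP : ℂ) ^ 2 = 8 * (cJ : ℂ) ^ 3 * ((x₁ : ℂ) * x₂ * x₃) := by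
    rw [← hx]
    linear_combination ((x₁ : ℂ) * x₂ * x₃) * H1
  have keyC : (g : ℂ) * ((x₁ : ℂ) + ε₁) * ((x₂ : ℂ) + ε₂) * ((x₃ : ℂ) + ε₃) * (cP : ℂ) ^ 2
      = 8 * (cJ : ℂ) ^ 3 * x₁ * x₂ * x₃ := by
    rcases hε with ⟨rfl | rfl, rfl | rfl, rfl | rfl⟩ <;> push_cast at H1m H2 ⊢ <;>
      first
        | linear_combination H1m + (g : ℂ) * (cP : ℂ) ^ 2 * H2
        | linear_combination H1m - (g : ℂ) * (cP : ℂ) ^ 2 * H2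
  have keyQ : (g : ℚ) * ((x₁ : ℚ) + ε₁) * ((x₂ : ℚ) + ε₂) * ((x₃ : ℚ) + ε₃) * (cP : ℚ) ^ 2
      = 8 * (cJ : ℚ) ^ 3 * x₁ * x₂ * x₃ := by exact_mod_cast keyC
  have hx₁q : (0 : ℚ) < x₁ := by exact_mod_cast hx₁
  have hx₂q : (0 : ℚ) < x₂ := by exact_mod_cast hx₂
  have hx₃q : (0 : ℚ) < x₃ := by exact_mod_cast hx₃
  have hcPq : (0 : ℚ) < cP := by exact_mod_cast hcP
  have hcJq : (0 : ℚ) < cJ := by exact_mod_cast hcJ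
  have hrhs : (8 : ℚ) * (cJ : ℚ) ^ 3 * x₁ * x₂ * x₃ ≠ 0 := by positivity
  have hprod : ((x₁ : ℚ) + ε₁) * ((x₂ : ℚ) + ε₂) * ((x₃ : ℚ) + ε₃) ≠ 0 := by
    intro h0
    apply hrhs
    rw [← keyQ]
    have e : (g : ℚ) * ((x₁ : ℚ) + ε₁) * ((x₂ : ℚ) + ε₂) * ((x₃ : ℚ) + ε₃) * (cP : ℚ) ^ 2
        = (g : ℚ) * (((x₁ : ℚ) + ε₁) * ((x₂ : ℚ) + ε₂) * ((x₃ : ℚ) + ε₃)) * (cP : ℚ) ^ 2 := by
      ring
    rw [e, h0]
    ring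
  have hcP2 : (cP : ℚ) ^ 2 ≠ 0 := by positivity
  rw [eq_div_iff hcP2, mul_div_assoc', div_mul_eq_mul_div, eq_div_iff hprod]
  linear_combination keyQ

end Cfsg.Agent.S4479
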