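import Mathlib
import Cfsg.Statements.S4018
import Cfsg.Agent.Lib.Helper21.KleinCount
import Cfsg.Agent.S0948
import Cfsg.Agent.S4479
import Cfsg.Agent.Lib.Helper25.KGV
import Cfsg.Agent.Lib.Helper1.CharReg
import Cfsg.Agent.Lib.Helper24.CharBasic

set_option autoImplicit false

open Cfsg

namespace Cfsg.Agent.S4018

open Cfsg.Agent.Lib.Helper21

theorem arith_pos (a b c Q g : ℚ) (ha : 5 ≤ a) (hb : 5 ≤ b) (hc : c = 1 + a + b) (hQ : 1 ≤ Q)
    (hg : g = 8 * ((a * b * c) / ((a + 1) * (b + 1) * (c + -1))) * (4 * Q) ^ 3 / 4 ^ 2)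
    (hlt : g < 16 * Q ^ 3) : False := by
  have h1 : 0 < a + 1 := by linarith
  have h2 : 0 < b + 1 := by linarith
  have h3 : 0 < c + -1 := by rw [hc]; linarith
  have hB : 0 < (a + 1) * (b + 1) * (c + -1) := mul_pos (mul_pos h1 h2) h3
  have key : (1 : ℚ) / 2 < (a * b * c) / ((a + 1) * (b + 1) * (c + -1)) := by
    rw [lt_div_iff₀ hB, hc]
    nlinarith [mul_nonneg (sq_nonneg a) (sub_nonneg.2 hb), mul_nonneg (sq_nonneg b) (sub_nonneg.2 ha),
      mul_nonneg (sub_nonneg.2 ha) (sub_nonneg.2 hb), sq_nonneg a, sq_nonneg b]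
  have hQ3 : (0 : ℚ) < 32 * Q ^ 3 := by positivity
  have h4 : g = 32 * Q ^ 3 * ((a * b * c) / ((a + 1) * (b + 1) * (c + -1))) := by
    rw [hg]; ring
  have h5 := mul_lt_mul_of_pos_left key hQ3
  linarith

theorem arith_neg (a b c Q g : ℚ) (hb : 3 ≤ b) (hc3 : 3 ≤ c) (hc : a = b + c - 1) (hQ : 1 ≤ Q)
    (hg : g = 8 * ((a * b * c) / ((a + 1) * (b + -1) * (c + -1))) * (4 * Q) ^ 3 / 4 ^ 2)
    (hlt : g < 16 * Q ^ 3) : False := by
  have h1 : 0 < a + 1 := by rw [hc]; linarith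
  have h2 : 0 < b + -1 := by linarith
  have h3 : 0 < c + -1 := by linarith
  have hB : 0 < (a + 1) * (b + -1) * (c + -1) := mul_pos (mul_pos h1 h2) h3
  have key : (1 : ℚ) / 2 < (a * b * c) / ((a + 1) * (b + -1) * (c + -1)) := by
    rw [lt_div_iff₀ hB, hc]
    nlinarith [mul_nonneg (sub_nonneg.2 hb) (sub_nonneg.2 hc3),
      mul_nonneg (mul_nonneg (sub_nonneg.2 hb) (sub_nonneg.2 hc3)) (sub_nonneg.2 hb),
      mul_nonneg (mul_nonneg (sub_nonneg.2 hb) (sub_nonneg.2 hc3)) (sub_nonneg.2 hc3)]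
  have hQ3 : (0 : ℚ) < 32 * Q ^ 3 := by positivity
  have h4 : g = 32 * Q ^ 3 * ((a * b * c) / ((a + 1) * (b + -1) * (c + -1))) := by
    rw [hg]; ring
  have h5 := mul_lt_mul_of_pos_left key hQ3
  linarith

theorem card_lt (q n : ℕ) (hq : 1 ≤ q)
    (hn : n ≤ (1 + 2 * q + 2 * q * (2 * q - 2)) * (4 * q)) : n < 16 * q ^ 3 := by
  obtain ⟨r, rfl⟩ : ∃ r, q = r + 1 := ⟨q - 1, by omega⟩
  have h1 : 2 * (r + 1) - 2 = 2 * r := by omega
  rw [h1] at hn
  have h2 : 16 * (r + 1) ^ 3 =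
      (1 + 2 * (r + 1) + 2 * (r + 1) * (2 * r)) * (4 * (r + 1)) + (2 * r + 1) * (4 * (r + 1)) := by
    ring
  have h3 : 0 < (2 * r + 1) * (4 * (r + 1)) := by positivity
  linarith

/-- A nonprincipal irreducible character of the perfect group `G` has degree `≠ 1`. -/
theorem degree_ne_one {G : Type*} [Group G] [Finite G] (hS : IsSimpleGroup G)
    (hna : ∃ a b : G, a * b ≠ b * a) (χ : Cfsg.IrrCharacter G)
    (hχ : (χ : G → ℂ) ≠ (fun _ => 1)) : Cfsg.charDegree (χ : G → ℂ) ≠ 1 := by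
  intro h1
  have h2 : (χ : G → ℂ) 1 = 1 := by
    rw [Cfsg.Agent.Lib.Helper24.CharBasic.char_one_nat
      (Cfsg.Agent.Lib.Helper24.CharBasic.isCharacter_of_irr χ.2), h1]
    simp
  obtain ⟨lam, hlam⟩ := Cfsg.Agent.Lib.Helper1.IsIrrCharacter.exists_monoidHom χ.2 h2
  rcases (MonoidHom.normal_ker lam).eq_bot_or_eq_top with h0 | h0
  · obtain ⟨a, b, hab⟩ := hna
    apply hab
    have hinj : Function.Injective lam := (MonoidHom.ker_eq_bot_iff lam).1 h0
    apply hinj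
    rw [map_mul, map_mul, mul_comm]
  · apply hχ
    funext g
    rw [hlam g]
    have : g ∈ lam.ker := by rw [h0]; trivial
    rw [MonoidHom.mem_ker] at this
    rw [this]
    simp

/-- Let G be a finite group with an abelian Sylow 3-subgroup P such that the normalizer of P has order 4·#P, the centralizer C of P has order 2·#P, C meets each of its conjugates by elements outside its normalizer trivially, and every proper subgroup of G of even order has order dividing 4·#P. Then G is not simple. -/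
theorem result {G : Type*} [Group G] [Finite G]
    (P : Sylow 3 G) (hab : IsMulCommutative P)
    (hN : Nat.card (Subgroup.normalizer ((P : Subgroup G) : Set G)) = 4 * Nat.card P)
    (hC : Nat.card (Subgroup.centralizer (P : Set G)) = 2 * Nat.card P)
    (hTI : Cfsg.IsTISubset (Subgroup.centralizer (P : Set G) : Set G))
    (heven : ∀ H : Subgroup G, H ≠ ⊤ → 2 ∣ Nat.card H → Nat.card H ∣ 4 * Nat.card P) :
    ¬ IsSimpleGroup G := by
  intro hS
  haveI : Fact (Nat.Prime 2) := ⟨Nat.prime_two⟩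
  haveI : Fact (Nat.Prime 3) := ⟨Nat.prime_three⟩
  have h4 : 4 ∣ Nat.card G := by
    have := Subgroup.card_subgroup_dvd_card (Subgroup.normalizer ((P : Subgroup G) : Set G))
    rw [hN] at this
    exact dvd_trans (dvd_mul_right 4 _) this
  have hodd : Odd (Nat.card P) := by
    obtain ⟨k, hk⟩ := IsPGroup.iff_card.mp P.isPGroup'
    rw [hk]
    exact Odd.pow (by decide)
  have hyp : KleinCount.Hyp G (Nat.card P) := ⟨hS, h4, hodd, heven⟩
  have d : KleinCount.Data P :=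
    ⟨hyp, fun a ha b hb => congrArg Subtype.val (hab.is_comm.comm ⟨a, ha⟩ ⟨b, hb⟩), hN, hC,
      fun g hg x hx hgx => hTI g hg x hx hgx⟩
  obtain ⟨t, ht, ht2⟩ := KleinCount.exists_t d
  obtain ⟨S, htS⟩ := KleinCount.exists_sylow_mem hyp ht2
  have hK : IsKleinFour (S : Subgroup G) := KleinCount.isKleinFour hyp S
  have hone : ∀ s t : G, orderOf s = 2 → orderOf t = 2 → IsConj s t := by
    intro s t' hs ht'
    obtain ⟨g, hg⟩ := KleinCount.invol_conj hyp hs ht'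
    exact isConj_iff.2 ⟨g, hg.symm⟩
  have ht1 : t ≠ 1 := KleinCount.t_ne_one d ht ht2
  -- non-commutativity
  have hna : ∃ a b : G, a * b ≠ b * a := by
    by_contra hcon
    apply ht1
    apply KleinCount.central_eq_one hyp
    intro g
    by_contra hne
    exact hcon ⟨g, t, hne⟩
  obtain ⟨M, hM⟩ := Cfsg.Agent.Lib.Helper25.KGV.exists_pModular 2 Nat.prime_two
  obtain ⟨ζ₂, ζ₃, ζ₄, ε, hε, h2ne, h3ne, h23, h24, h34, hB, hval, hd2, hd3, hd4, hrel⟩ :=
    Cfsg.Agent.S0948.result M hM S hK hone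
  obtain ⟨hv2, hv3, hv4⟩ := hval t ht2
  have h4ne : (ζ₄ : G → ℂ) ≠ (fun _ => 1) := by
    intro h0
    rw [h0] at hv4
    norm_num at hv4
  -- order data
  have hidx : Nat.card G = 4 * (S : Subgroup G).index := by
    rw [← KleinCount.card_sylow hyp S]
    exact (Subgroup.card_mul_index _).symm
  have hg₀ : Odd (S : Subgroup G).index := by
    rw [← Nat.not_even_iff_odd, even_iff_two_dvd]
    exact S.not_dvd_index
  have hnc : ¬ ∃ N : Subgroup G, N.Normal ∧ Nat.card N = (S : Subgroup G).index := by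
    rintro ⟨N, hNn, hNc⟩
    rcases hNn.eq_bot_or_eq_top with h0 | h0
    · rw [h0, Subgroup.card_bot] at hNc
      have hG4 : Nat.card G = 4 := by rw [hidx, ← hNc]
      have hStop : (S : Subgroup G) = ⊤ :=
        Subgroup.eq_top_of_card_eq _ (by rw [KleinCount.card_sylow hyp S, hG4])
      exact ht1 (KleinCount.central_eq_one hyp
        (fun g => KleinCount.sylow_comm hyp S g (by rw [hStop]; trivial) t htS))
    · rw [h0, Subgroup.card_top] at hNc
      have := Nat.card_pos (α := G)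
      omega
  have hform := Cfsg.Agent.S4479.result M hM (S : Subgroup G).index hg₀ hidx hnc S t htS ht2
    ζ₂ ζ₃ ζ₄ 1 ε (-1) hB ⟨h2ne, h3ne, h4ne, h23, h24, h34⟩
    ⟨Or.inl rfl, hε, Or.inr rfl⟩
    ⟨by rw [hv2]; simp, hv3, by rw [hv4]; simp⟩
  rw [KleinCount.card_cent_t d ht ht2, KleinCount.card_cent_sylow d ht ht2 S htS] at hform
  -- the size bound
  have hq1 : 1 ≤ Nat.card P := Nat.card_pos
  have hlt := card_lt (Nat.card P) (Nat.card G) hq1 (KleinCount.card_le d ht ht2)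
  have hltQ : (Nat.card G : ℚ) < 16 * (Nat.card P : ℚ) ^ 3 := by exact_mod_cast hlt
  have hQ1 : (1 : ℚ) ≤ (Nat.card P : ℚ) := by exact_mod_cast hq1
  -- degrees
  have hp2 := Cfsg.Agent.Lib.Helper24.CharBasic.irr_degree_pos ζ₂.2
  have hp3 := Cfsg.Agent.Lib.Helper24.CharBasic.irr_degree_pos ζ₃.2
  have hp4 := Cfsg.Agent.Lib.Helper24.CharBasic.irr_degree_pos ζ₄.2
  have hn2 := degree_ne_one hS hna ζ₂ h2ne
  have hn3 := degree_ne_one hS hna ζ₃ h3ne
  have hrel1 := hrel 1 (by rw [orderOf_one]; exact odd_one)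
  rw [Cfsg.Agent.Lib.Helper24.CharBasic.char_one_nat
      (Cfsg.Agent.Lib.Helper24.CharBasic.isCharacter_of_irr ζ₂.2),
    Cfsg.Agent.Lib.Helper24.CharBasic.char_one_nat
      (Cfsg.Agent.Lib.Helper24.CharBasic.isCharacter_of_irr ζ₃.2),
    Cfsg.Agent.Lib.Helper24.CharBasic.char_one_nat
      (Cfsg.Agent.Lib.Helper24.CharBasic.isCharacter_of_irr ζ₄.2)] at hrel1
  obtain ⟨a, ha⟩ : ∃ a : ℕ, a = Cfsg.charDegree (ζ₂ : G → ℂ) := ⟨_, rfl⟩
  obtain ⟨b, hb⟩ : ∃ b : ℕ, b = Cfsg.charDegree (ζ₃ : G → ℂ) := ⟨_, rfl⟩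
  obtain ⟨c, hc⟩ : ∃ c : ℕ, c = Cfsg.charDegree (ζ₄ : G → ℂ) := ⟨_, rfl⟩
  rw [← ha, ← hb, ← hc] at hrel1 hform
  rw [← ha] at hp2 hn2 hd2
  rw [← hb] at hp3 hn3 hd3
  rw [← hc] at hp4 hd4
  have hrelZ : (1 : ℤ) + a + ε * b - c = 0 := by exact_mod_cast hrel1
  push_cast at hform
  rcases hε with rfl | rfl
  · -- ε = 1
    obtain ⟨k2, hk2⟩ := hd2
    obtain ⟨k3, hk3⟩ := hd3
    have ha5 : 5 ≤ a := by omega
    have hb5 : 5 ≤ b := by omega
    have hcab : c = 1 + a + b := by omega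
    refine arith_pos (a : ℚ) (b : ℚ) (c : ℚ) (Nat.card P : ℚ) (Nat.card G : ℚ)
      (by exact_mod_cast ha5) (by exact_mod_cast hb5) (by rw [hcab]; push_cast; ring) hQ1 ?_ hltQ
    rw [hform]
    push_cast
    ring
  · -- ε = -1
    obtain ⟨k3, hk3⟩ := hd3
    obtain ⟨k4, hk4⟩ := hd4
    have hb3 : 3 ≤ b := by omega
    have hc3 : 3 ≤ c := by omega
    have hcab : a = b + c - 1 := by omega
    refine arith_neg (a : ℚ) (b : ℚ) (c : ℚ) (Nat.card P : ℚ) (Nat.card G : ℚ)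
      (by exact_mod_cast hb3) (by exact_mod_cast hc3)
      (by rw [hcab]; rw [Nat.cast_sub (by omega)]; push_cast; ring) hQ1 ?_ hltQ
    rw [hform]
    push_cast
    ring

end Cfsg.Agent.S4018
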