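import Cfsg.Statements.S4020
import Cfsg.Agent.Lib.Helper29.SameOrd
import Cfsg.Agent.S0201
import Cfsg.Agent.S0847

set_option autoImplicit false
open Cfsg

namespace Cfsg.Agent.S4020

open Cfsg.Agent.Lib.Helper29.SameOrd

/-- Subgroups of equal order of a Sylow subgroup are isomorphic when they are conjugate in `G`. -/
theorem iso_of_conj {G : Type*} [Group G] [Finite G]
    (hD : ∀ p : ℕ, p.Prime → ∀ H K : Subgroup G, IsPGroup p H → IsPGroup p K → Nat.card H = Nat.card K →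
      ∃ g : G, K = H.map (MulAut.conj g).toMonoidHom) {p : ℕ} [Fact p.Prime] (P : Sylow p G)
    (H K : Subgroup (P : Subgroup G)) (hHK : Nat.card H = Nat.card K) : Nonempty (H ≃* K) := by
  have hinj := Subgroup.subtype_injective (P : Subgroup G)
  have c1 : Nat.card (H.map (P : Subgroup G).subtype) = Nat.card H :=
    Subgroup.card_map_of_injective hinj
  have c2 : Nat.card (K.map (P : Subgroup G).subtype) = Nat.card K :=
    Subgroup.card_map_of_injective hinj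
  have hpH : IsPGroup p (H.map (P : Subgroup G).subtype) := (P.2.to_subgroup H).map _
  have hpK : IsPGroup p (K.map (P : Subgroup G).subtype) := (P.2.to_subgroup K).map _
  obtain ⟨g, hg⟩ := hD p Fact.out _ _ hpH hpK (by rw [c1, c2, hHK])
  have hcinj : Function.Injective (MulAut.conj g).toMonoidHom := (MulAut.conj g).injective
  have e1 := H.equivMapOfInjective _ hinj
  have e2 := K.equivMapOfInjective _ hinj
  have e3 := (H.map (P : Subgroup G).subtype).equivMapOfInjective _ hcinj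
  rw [← hg] at e3
  exact ⟨e1.trans (e3.trans e2.symm)⟩

/-- A non-commutative group of order `p ^ 3` has centre of order `p` containing all commutators. -/
theorem cube_struct {T : Type*} [Group T] [Finite T] (p : ℕ) [Fact p.Prime]
    (hT : Nat.card T = p ^ 3) (hna : ¬ ∀ x y : T, x * y = y * x) :
    Nat.card (Subgroup.center T) = p ∧ ∀ x y : T, x * y * x⁻¹ * y⁻¹ ∈ Subgroup.center T := by
  have hp := (Fact.out : p.Prime)
  have hTp : IsPGroup p T := IsPGroup.of_card hT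
  haveI : Nontrivial T := by
    apply Finite.one_lt_card_iff_nontrivial.mp
    rw [hT]
    exact Nat.one_lt_pow (by norm_num) hp.one_lt
  haveI hcn := hTp.center_nontrivial
  have hdvd : Nat.card (Subgroup.center T) ∣ p ^ 3 := hT ▸ Subgroup.card_subgroup_dvd_card _
  obtain ⟨i, hi, hi'⟩ := (Nat.dvd_prime_pow hp).mp hdvd
  have hidx : p ^ i * (Subgroup.center T).index = p ^ 3 := by
    have h1 := Subgroup.card_mul_index (Subgroup.center T)
    rw [hi', hT] at h1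
    exact h1
  have hi1 : i = 1 := by
    interval_cases i
    · exfalso
      have h1 := Finite.one_lt_card_iff_nontrivial.mpr hcn
      rw [hi'] at h1
      simp at h1
    · rfl
    · exfalso
      have h2 : (Subgroup.center T).index = p := by
        have h3 : p ^ 2 * (Subgroup.center T).index = p ^ 2 * p := by rw [hidx]; ring
        exact Nat.eq_of_mul_eq_mul_left (pow_pos hp.pos 2) h3
      haveI : IsCyclic (T ⧸ Subgroup.center T) :=
        isCyclic_of_prime_card (p := p) (by rw [← Subgroup.index_eq_card]; exact h2)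
      apply hna
      exact commutative_of_cyclic_center_quotient (QuotientGroup.mk' (Subgroup.center T))
        (by rw [QuotientGroup.ker_mk'])
    · exfalso
      apply hna
      have h2 : Subgroup.center T = ⊤ := by
        apply Subgroup.eq_top_of_card_eq
        rw [hi', hT]
      intro x y
      have h3 : y ∈ Subgroup.center T := by rw [h2]; trivial
      exact Subgroup.mem_center_iff.mp h3 x
  subst hi1
  rw [pow_one] at hi' hidx
  refine ⟨hi', ?_⟩
  have h2 : (Subgroup.center T).index = p ^ 2 := by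
    have h3 : p * (Subgroup.center T).index = p * p ^ 2 := by rw [hidx]; ring
    exact Nat.eq_of_mul_eq_mul_left hp.pos h3
  have hq : ∀ a b : T ⧸ Subgroup.center T, a * b = b * a :=
    IsPGroup.commutative_of_card_eq_prime_sq (p := p) (by rw [← Subgroup.index_eq_card]; exact h2)
  intro x y
  rw [← QuotientGroup.eq_one_iff]
  simp only [QuotientGroup.mk_mul, QuotientGroup.mk_inv]
  rw [hq (x : T ⧸ Subgroup.center T) y]
  group

/-- A Sylow `p`-subgroup (`p` odd) cannot be non-commutative of order `p ^ 3` and exponent `p`. -/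
theorem no_cube {G : Type*} [Group G] [Finite G]
    (hD : ∀ p : ℕ, p.Prime → ∀ H K : Subgroup G, IsPGroup p H → IsPGroup p K → Nat.card H = Nat.card K →
      ∃ g : G, K = H.map (MulAut.conj g).toMonoidHom) {p : ℕ} [Fact p.Prime] (hp2 : p ≠ 2)
    (P : Sylow p G) (hcard : Nat.card (P : Subgroup G) = p ^ 3)
    (hexp : ∀ x : (P : Subgroup G), x ^ p = 1)
    (hna : ¬ ∀ x y : (P : Subgroup G), x * y = y * x) : False := by
  have hp := (Fact.out : p.Prime)
  have hpodd : Odd p := hp.odd_of_ne_two hp2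
  obtain ⟨hZP, hcommP⟩ := cube_struct p hcard hna
  push Not at hna
  obtain ⟨x', b', hxb'⟩ := hna
  obtain ⟨x, hx⟩ : ∃ x : G, x = (x' : G) := ⟨_, rfl⟩
  obtain ⟨b, hb⟩ : ∃ b : G, b = (b' : G) := ⟨_, rfl⟩
  obtain ⟨z₁, hz₁⟩ : ∃ z₁ : G, z₁ = x * b * x⁻¹ * b⁻¹ := ⟨_, rfl⟩
  have hxP : x ∈ (P : Subgroup G) := hx ▸ x'.2
  have hbP : b ∈ (P : Subgroup G) := hb ▸ b'.2
  have hz₁P : z₁ ∈ (P : Subgroup G) := by
    rw [hz₁]
    exact Subgroup.mul_mem _ (Subgroup.mul_mem _ (Subgroup.mul_mem _ hxP hbP)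
      (Subgroup.inv_mem _ hxP)) (Subgroup.inv_mem _ hbP)
  have hz₁c : ∀ q ∈ (P : Subgroup G), q * z₁ = z₁ * q := by
    intro q hq
    have h1 := Subgroup.mem_center_iff.mp (hcommP x' b') ⟨q, hq⟩
    have h2 := congrArg Subtype.val h1
    simp only [Subgroup.coe_mul, Subgroup.coe_inv] at h2
    rw [hz₁, hx, hb]
    exact h2
  have hxb : x * b ≠ b * x := by
    intro h
    apply hxb'
    apply Subtype.ext
    rw [hx, hb] at h
    exact h
  have hz₁1 : z₁ ≠ 1 := by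
    intro h
    apply hxb
    calc x * b = (x * b * x⁻¹ * b⁻¹) * (b * x) := by group
      _ = b * x := by rw [← hz₁, h, one_mul]
  have hxbx : x * b * x⁻¹ = z₁ * b := by rw [hz₁]; group
  have hb1 : b ≠ 1 := by
    rintro rfl
    exact hxb (by simp)
  have hPexp : ∀ q ∈ (P : Subgroup G), q ^ p = 1 := by
    intro q hq
    have h1 := congrArg Subtype.val (hexp ⟨q, hq⟩)
    simpa using h1
  have hbp : b ^ p = 1 := hPexp b hbP
  have hxp : x ^ p = 1 := hPexp x hxP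
  have hz₁p : z₁ ^ p = 1 := hPexp z₁ hz₁P
  have hob : orderOf b = p := orderOf_eq_prime hbp hb1
  have hoz : orderOf z₁ = p := orderOf_eq_prime hz₁p hz₁1
  have hzb : z₁ * b = b * z₁ := (hz₁c b hbP).symm
  have hz₁b : z₁ ∉ Subgroup.zpowers b := by
    intro h
    have h1 : Subgroup.zpowers z₁ = Subgroup.zpowers b :=
      Subgroup.eq_of_le_of_card_ge (Subgroup.zpowers_le.mpr h)
        (by rw [Nat.card_zpowers, Nat.card_zpowers, hob, hoz])
    have h2 : b ∈ Subgroup.zpowers z₁ := h1 ▸ Subgroup.mem_zpowers b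
    obtain ⟨m, hm⟩ := Subgroup.mem_zpowers_iff.mp h2
    apply hxb
    rw [← hm]
    exact ((show Commute x z₁ from hz₁c x hxP).zpow_right m).eq
  have hpB : IsPGroup p (Subgroup.zpowers b) :=
    IsPGroup.of_card (n := 1) (by rw [Nat.card_zpowers, hob, pow_one])
  have hpZ : IsPGroup p (Subgroup.zpowers z₁) :=
    IsPGroup.of_card (n := 1) (by rw [Nat.card_zpowers, hoz, pow_one])
  obtain ⟨g₀, hg₀⟩ := hD p hp (Subgroup.zpowers z₁) (Subgroup.zpowers b) hpZ hpB
    (by rw [Nat.card_zpowers, Nat.card_zpowers, hob, hoz])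
  obtain ⟨ζ, hζ, hζb⟩ : ∃ ζ ∈ Subgroup.zpowers z₁, g₀ * ζ * g₀⁻¹ = b := by
    have h1 : b ∈ (Subgroup.zpowers z₁).map (MulAut.conj g₀).toMonoidHom :=
      hg₀ ▸ Subgroup.mem_zpowers b
    obtain ⟨ζ, hζ, h2⟩ := h1
    exact ⟨ζ, hζ, h2⟩
  have hζc : ∀ q ∈ (P : Subgroup G), q * ζ = ζ * q := by
    intro q hq
    obtain ⟨m, rfl⟩ := Subgroup.mem_zpowers_iff.mp hζ
    exact ((show Commute q z₁ from hz₁c q hq).zpow_right m).eq
  obtain ⟨C, hC⟩ : ∃ C : Subgroup G, C = Subgroup.centralizer ({b} : Set G) := ⟨_, rfl⟩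
  have hCmem : ∀ r : G, r ∈ C ↔ r * b = b * r := by
    intro r
    rw [hC, Subgroup.mem_centralizer_singleton_iff]
  have hR₀C : (P : Subgroup G).map (MulAut.conj g₀).toMonoidHom ≤ C := by
    rintro _ ⟨q, hq, rfl⟩
    rw [hCmem]
    show g₀ * q * g₀⁻¹ * b = b * (g₀ * q * g₀⁻¹)
    rw [← hζb]
    calc g₀ * q * g₀⁻¹ * (g₀ * ζ * g₀⁻¹) = g₀ * (q * ζ) * g₀⁻¹ := by group
      _ = g₀ * (ζ * q) * g₀⁻¹ := by rw [hζc q hq]
      _ = g₀ * ζ * g₀⁻¹ * (g₀ * q * g₀⁻¹) := by group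
  have hdvdC : p ^ 3 ∣ Nat.card C := by
    have h1 := Subgroup.card_dvd_of_le hR₀C
    rwa [Subgroup.card_map_of_injective (MulAut.conj g₀).injective, hcard] at h1
  obtain ⟨A, hA⟩ : ∃ A : Subgroup G, A = Subgroup.zpowers z₁ ⊔ Subgroup.zpowers b := ⟨_, rfl⟩
  have hAP : A ≤ (P : Subgroup G) := by
    rw [hA]
    exact sup_le (Subgroup.zpowers_le.mpr hz₁P) (Subgroup.zpowers_le.mpr hbP)
  have hAC : A ≤ C := by
    rw [hA]
    apply sup_le
    · exact Subgroup.zpowers_le.mpr ((hCmem z₁).mpr hzb)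
    · exact Subgroup.zpowers_le.mpr ((hCmem b).mpr rfl)
  obtain ⟨k, hk3, hk⟩ : ∃ k ≤ 3, Nat.card A = p ^ k := by
    have h1 := Subgroup.card_dvd_of_le hAP
    rw [hcard] at h1
    exact (Nat.dvd_prime_pow hp).mp h1
  have hcA : Nat.card (A.subgroupOf C) = p ^ k := by
    rw [← hk]
    exact Nat.card_congr (Subgroup.subgroupOfEquivOfLe hAC).toEquiv
  obtain ⟨Kc, hKc, hAK⟩ := Sylow.exists_subgroup_card_pow_prime_le p hdvdC (A.subgroupOf C) hcA hk3
  obtain ⟨R, hR⟩ : ∃ R : Subgroup G, R = Kc.map C.subtype := ⟨_, rfl⟩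
  have hRc : Nat.card R = p ^ 3 := by
    rw [hR, Subgroup.card_map_of_injective (Subgroup.subtype_injective _), hKc]
  have hRC : R ≤ C := by
    rw [hR]
    rintro _ ⟨c, -, rfl⟩
    exact c.2
  have hAR : A ≤ R := by
    intro a ha
    rw [hR]
    exact ⟨⟨a, hAC ha⟩, hAK (Subgroup.mem_subgroupOf.mpr ha), rfl⟩
  have hz₁R : z₁ ∈ R := hAR (hA ▸ Subgroup.mem_sup_left (Subgroup.mem_zpowers z₁))
  have hbR : b ∈ R := hAR (hA ▸ Subgroup.mem_sup_right (Subgroup.mem_zpowers b))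
  have hpR : IsPGroup p R := IsPGroup.of_card hRc
  obtain ⟨g₁, hg₁⟩ := hD p hp (P : Subgroup G) R P.2 hpR (by rw [hcard, hRc])
  have hRexp : ∀ r ∈ R, r ^ p = 1 := by
    intro r hr
    rw [hg₁] at hr
    obtain ⟨q, hq, rfl⟩ := hr
    rw [← map_pow, hPexp q hq, map_one]
  have hRna : ¬ ∀ r s : R, r * s = s * r := by
    intro h
    apply hxb'
    have e := (P : Subgroup G).equivMapOfInjective (MulAut.conj g₁).toMonoidHom
      (MulAut.conj g₁).injective
    rw [← hg₁] at e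
    have h1 := h (e x') (e b')
    rw [← map_mul, ← map_mul] at h1
    exact e.injective h1
  obtain ⟨hZR, hcommR⟩ := cube_struct p hRc hRna
  have hbcen : (⟨b, hbR⟩ : R) ∈ Subgroup.center R := by
    rw [Subgroup.mem_center_iff]
    intro r
    apply Subtype.ext
    exact (hCmem r).mp (hRC r.2)
  have hcenR : Subgroup.zpowers (⟨b, hbR⟩ : R) = Subgroup.center R :=
    Subgroup.eq_of_le_of_card_ge (Subgroup.zpowers_le.mpr hbcen)
      (by rw [hZR, Nat.card_zpowers, Subgroup.orderOf_mk, hob])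
  have hcomR : ∀ r s : G, r ∈ R → s ∈ R → r * s * r⁻¹ * s⁻¹ ∈ Subgroup.zpowers b := by
    intro r s hr hs
    have h1 := hcommR ⟨r, hr⟩ ⟨s, hs⟩
    rw [← hcenR] at h1
    obtain ⟨m, hm⟩ := Subgroup.mem_zpowers_iff.mp h1
    have h2 := congrArg Subtype.val hm
    rw [Subgroup.mem_zpowers_iff]
    exact ⟨m, by simpa using h2⟩
  have hz₁ncen : (⟨z₁, hz₁R⟩ : R) ∉ Subgroup.center R := by
    intro h
    rw [← hcenR] at h
    obtain ⟨m, hm⟩ := Subgroup.mem_zpowers_iff.mp h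
    apply hz₁b
    rw [Subgroup.mem_zpowers_iff]
    exact ⟨m, by simpa using congrArg Subtype.val hm⟩
  obtain ⟨yR, hyR⟩ : ∃ yR : R, yR * ⟨z₁, hz₁R⟩ ≠ ⟨z₁, hz₁R⟩ * yR := by
    by_contra h
    push Not at h
    exact hz₁ncen (Subgroup.mem_center_iff.mpr h)
  obtain ⟨y, hy⟩ : ∃ y : G, y = (yR : G) := ⟨_, rfl⟩
  have hyRm : y ∈ R := hy ▸ yR.2
  have hyz : y * z₁ ≠ z₁ * y := by
    intro h
    apply hyR
    apply Subtype.ext
    rw [hy] at h
    exact h
  obtain ⟨b₂, hb₂⟩ : ∃ b₂ : G, b₂ = y * z₁ * y⁻¹ * z₁⁻¹ := ⟨_, rfl⟩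
  have hb₂m : b₂ ∈ Subgroup.zpowers b := hb₂ ▸ hcomR y z₁ hyRm hz₁R
  have hb₂1 : b₂ ≠ 1 := by
    intro h
    apply hyz
    calc y * z₁ = (y * z₁ * y⁻¹ * z₁⁻¹) * (z₁ * y) := by group
      _ = z₁ * y := by rw [← hb₂, h, one_mul]
  have hyb : y * b = b * y := (hCmem y).mp (hRC hyRm)
  have hyb₂ : y * b₂ = b₂ * y := by
    obtain ⟨m, hm⟩ := Subgroup.mem_zpowers_iff.mp hb₂m
    rw [← hm]
    exact ((show Commute y b from hyb).zpow_right m).eq
  have hyzy : y * z₁ * y⁻¹ = b₂ * z₁ := by rw [hb₂]; group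
  have hb₂p : b₂ ^ p = 1 := by
    obtain ⟨m, hm⟩ := Subgroup.mem_zpowers_iff.mp hb₂m
    rw [← hm, ← zpow_natCast, ← zpow_mul, mul_comm, zpow_mul, zpow_natCast, hbp, one_zpow]
  have hzpb : Subgroup.zpowers b₂ = Subgroup.zpowers b :=
    Subgroup.eq_of_le_of_card_ge (Subgroup.zpowers_le.mpr hb₂m)
      (by rw [Nat.card_zpowers, Nat.card_zpowers, hob, orderOf_eq_prime hb₂p hb₂1])
  obtain ⟨l, hl⟩ : ∃ l : ℕ, b₂ ^ l = b⁻¹ * b⁻¹ := by
    have h1 : b⁻¹ * b⁻¹ ∈ Subgroup.zpowers b₂ := by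
      rw [hzpb]
      exact Subgroup.mul_mem _ (Subgroup.inv_mem _ (Subgroup.mem_zpowers b))
        (Subgroup.inv_mem _ (Subgroup.mem_zpowers b))
    obtain ⟨l, hl⟩ := mem_powers_iff_mem_zpowers.mpr h1
    exact ⟨l, hl⟩
  have hyl : ∀ l : ℕ, y ^ l * z₁ * (y ^ l)⁻¹ = b₂ ^ l * z₁ := by
    intro l
    induction l with
    | zero => simp
    | succ l ih =>
      calc y ^ (l + 1) * z₁ * (y ^ (l + 1))⁻¹ = y * (y ^ l * z₁ * (y ^ l)⁻¹) * y⁻¹ := by
            rw [pow_succ']; group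
        _ = y * (b₂ ^ l * z₁) * y⁻¹ := by rw [ih]
        _ = (y * b₂ ^ l) * y⁻¹ * (y * z₁ * y⁻¹) := by group
        _ = (b₂ ^ l * y) * y⁻¹ * (b₂ * z₁) := by
            rw [((show Commute y b₂ from hyb₂).pow_right l).eq, hyzy]
        _ = b₂ ^ (l + 1) * z₁ := by rw [pow_succ]; group
  obtain ⟨y₁, hy₁⟩ : ∃ y₁ : G, y₁ = y ^ l := ⟨_, rfl⟩
  have hy₁z : y₁ * z₁ * y₁⁻¹ = b⁻¹ * b⁻¹ * z₁ := by rw [hy₁, hyl l, hl]
  have hy₁b : y₁ * b = b * y₁ := by
    rw [hy₁]
    exact ((show Commute y b from hyb).pow_left l).eq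
  have hy₁p : y₁ ^ p = 1 := by
    rw [hy₁, ← pow_mul, mul_comm, pow_mul, hRexp y hyRm, one_pow]
  obtain ⟨g, hg⟩ : ∃ g : G, g = x * y₁ := ⟨_, rfl⟩
  have hg1 : g * b * g⁻¹ = z₁ * b := by
    calc g * b * g⁻¹ = x * (y₁ * b) * y₁⁻¹ * x⁻¹ := by rw [hg]; group
      _ = x * (b * y₁) * y₁⁻¹ * x⁻¹ := by rw [hy₁b]
      _ = x * b * x⁻¹ := by group
      _ = z₁ * b := hxbx
  have hxz : x * z₁ * x⁻¹ = z₁ := by rw [hz₁c x hxP]; group
  have hgz : g * z₁ * g⁻¹ = (z₁ * b)⁻¹ * (z₁ * b)⁻¹ * z₁ := by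
    calc g * z₁ * g⁻¹ = x * (y₁ * z₁ * y₁⁻¹) * x⁻¹ := by rw [hg]; group
      _ = x * (b⁻¹ * b⁻¹ * z₁) * x⁻¹ := by rw [hy₁z]
      _ = (x * b * x⁻¹)⁻¹ * (x * b * x⁻¹)⁻¹ * (x * z₁ * x⁻¹) := by group
      _ = (z₁ * b)⁻¹ * (z₁ * b)⁻¹ * z₁ := by rw [hxbx, hxz]
  have hinv : (g * g) * b * (g * g)⁻¹ = b⁻¹ := by
    calc (g * g) * b * (g * g)⁻¹ = g * (g * b * g⁻¹) * g⁻¹ := by group
      _ = g * (z₁ * b) * g⁻¹ := by rw [hg1]
      _ = (g * z₁ * g⁻¹) * (g * b * g⁻¹) := by group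
      _ = (z₁ * b)⁻¹ * (z₁ * b)⁻¹ * z₁ * (z₁ * b) := by rw [hgz, hg1]
      _ = b⁻¹ * z₁⁻¹ * b⁻¹ * (z₁ * b) := by group
      _ = b⁻¹ * z₁⁻¹ * b⁻¹ * (b * z₁) := by rw [hzb]
      _ = b⁻¹ := by group
  have key : ∀ m : ℕ, (g * g) ^ m * b * ((g * g) ^ m)⁻¹ = b ^ ((-1 : ℤ) ^ m) := by
    intro m
    induction m with
    | zero => simp
    | succ m ih =>
      calc (g * g) ^ (m + 1) * b * ((g * g) ^ (m + 1))⁻¹
          = (g * g) * ((g * g) ^ m * b * ((g * g) ^ m)⁻¹) * (g * g)⁻¹ := by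
            rw [pow_succ', mul_inv_rev]; simp only [mul_assoc]
        _ = (g * g) * b ^ ((-1 : ℤ) ^ m) * (g * g)⁻¹ := by rw [ih]
        _ = ((g * g) * b * (g * g)⁻¹) ^ ((-1 : ℤ) ^ m) := conj_zpow.symm
        _ = (b⁻¹) ^ ((-1 : ℤ) ^ m) := by rw [hinv]
        _ = b ^ ((-1 : ℤ) ^ (m + 1)) := by
            rw [inv_zpow, ← zpow_neg]
            congr 1
            rw [pow_succ]
            ring
  have hbb : b * b ≠ 1 := by
    intro h
    have h1 : orderOf b ∣ 2 := orderOf_dvd_of_pow_eq_one (by rw [pow_two]; exact h)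
    rw [hob] at h1
    exact hp2 ((Nat.prime_dvd_prime_iff_eq hp Nat.prime_two).mp h1)
  have hodd_abs : ¬ Odd (orderOf g) := by
    rintro ⟨m, hm⟩
    have h1 : g * (g * g) ^ m = 1 := by
      have h2 : g ^ (2 * m + 1) = 1 := hm ▸ pow_orderOf_eq_one g
      rw [pow_succ', pow_mul, pow_two] at h2
      exact h2
    have h3 : g⁻¹ = (g * g) ^ m := inv_eq_of_mul_eq_one_right h1
    have h4 := key m
    rw [← h3] at h4
    have h5 : b = (z₁ * b) ^ ((-1 : ℤ) ^ m) := by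
      calc b = g * (g⁻¹ * b * g⁻¹⁻¹) * g⁻¹ := by group
        _ = g * b ^ ((-1 : ℤ) ^ m) * g⁻¹ := by rw [h4]
        _ = (g * b * g⁻¹) ^ ((-1 : ℤ) ^ m) := conj_zpow.symm
        _ = (z₁ * b) ^ ((-1 : ℤ) ^ m) := by rw [hg1]
    rcases Nat.even_or_odd m with he | ho
    · rw [he.neg_one_pow, zpow_one] at h5
      apply hz₁1
      calc z₁ = (z₁ * b) * b⁻¹ := by group
        _ = b * b⁻¹ := by rw [← h5]
        _ = 1 := mul_inv_cancel b
    · rw [ho.neg_one_pow, zpow_neg_one] at h5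
      apply hz₁b
      have h6 : z₁ = b⁻¹ * b⁻¹ := by
        calc z₁ = ((z₁ * b)⁻¹)⁻¹ * b⁻¹ := by group
          _ = b⁻¹ * b⁻¹ := by rw [← h5]
      rw [h6]
      exact Subgroup.mul_mem _ (Subgroup.inv_mem _ (Subgroup.mem_zpowers b))
        (Subgroup.inv_mem _ (Subgroup.mem_zpowers b))
  have hoddx : ∀ w : G, w ^ p = 1 → Odd (orderOf w) := by
    intro w hw
    rcases (Nat.dvd_prime hp).mp (orderOf_dvd_of_pow_eq_one hw) with h | h
    · rw [h]; exact odd_one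
    · rw [h]; exact hpodd
  have hn0 : orderOf g ≠ 0 := (orderOf_pos g).ne'
  obtain ⟨a, m, hm, han⟩ := Nat.exists_eq_two_pow_mul_odd hn0
  obtain ⟨g₂, hg₂⟩ : ∃ g₂ : G, g₂ = g ^ m := ⟨_, rfl⟩
  have hg₂o : g₂ ^ (2 ^ a) = 1 := by
    rw [hg₂, ← pow_mul, mul_comm, ← han]
    exact pow_orderOf_eq_one g
  have hp2g : IsPGroup 2 (Subgroup.zpowers g₂) := by
    intro w
    refine ⟨a, ?_⟩
    apply Subtype.ext
    obtain ⟨j, hj⟩ := Subgroup.mem_zpowers_iff.mp w.2
    rw [Subgroup.coe_pow, ← hj, ← zpow_natCast, ← zpow_mul, mul_comm, zpow_mul, zpow_natCast,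
      hg₂o, one_zpow]
    rfl
  obtain ⟨S, hS⟩ := hp2g.exists_le_sylow
  have hg₂S : g₂ ∈ (S : Subgroup G) := hS (Subgroup.mem_zpowers g₂)
  have hkm : (g * g) ^ m * b * ((g * g) ^ m)⁻¹ = b⁻¹ := by
    rw [key m, hm.neg_one_pow, zpow_neg_one]
  have hggm : (g * g) ^ m = g₂ * g₂ := by
    rw [hg₂, ← pow_two, ← pow_two, ← pow_mul, ← pow_mul, mul_comm]
  have hfin : ∀ t : G, t * b * t⁻¹ = b⁻¹ → t ≠ 1 := by
    rintro t htb rfl
    apply hbb
    have h3 : b = b⁻¹ := by simpa using htb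
    calc b * b = b * b⁻¹ := by rw [← h3]
      _ = 1 := mul_inv_cancel b
  rcases cases_of_iso 2 S.2 (iso_of_conj hD S) with hcyc | ⟨⟨e⟩⟩ | hex2
  · apply hodd_abs
    rw [hg]
    exact odd_mul_of_cyclic S hcyc x y₁ (hoddx x hxp) (hoddx y₁ hy₁p)
  · have hq4 : ∀ q : QuaternionGroup 2, q ^ 4 = 1 := by
      intro q
      have h1 : Monoid.exponent (QuaternionGroup 2) = 4 := by
        rw [QuaternionGroup.exponent]; rfl
      rw [← h1]
      exact Monoid.pow_exponent_eq_one q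
    have h4 : g₂ ^ 4 = 1 := by
      have h1 := hq4 (e ⟨g₂, hg₂S⟩)
      rw [← map_pow, map_eq_one_iff e e.injective] at h1
      simpa using congrArg Subtype.val h1
    obtain ⟨t, ht⟩ : ∃ t : G, t = g₂ * g₂ := ⟨_, rfl⟩
    have ht2 : t ^ 2 = 1 := by
      rw [ht, ← pow_two, ← pow_mul]
      exact h4
    have htb : t * b * t⁻¹ = b⁻¹ := by
      rw [ht, ← hggm]
      exact hkm
    have hto : orderOf t = 2 := orderOf_eq_prime ht2 (hfin t htb)
    obtain ⟨I, hIdef⟩ : ∃ I : Subgroup G, I = Subgroup.closure {g : G | orderOf g = 2} :=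
      ⟨_, rfl⟩
    have hIn : I.Normal := by rw [hIdef]; exact Cfsg.Agent.S0847.inv_normal
    have htI : t ∈ I := by rw [hIdef]; exact Subgroup.subset_closure hto
    have hbbI : b⁻¹ * b⁻¹ ∈ I := by
      have h1 : b * t⁻¹ * b⁻¹ ∈ I := hIn.conj_mem _ (Subgroup.inv_mem _ htI) b
      have h2 : t * (b * t⁻¹ * b⁻¹) ∈ I := Subgroup.mul_mem _ htI h1
      have h3 : t * (b * t⁻¹ * b⁻¹) = (t * b * t⁻¹) * b⁻¹ := by group
      rw [h3, htb] at h2
      exact h2
    have hbI : b ∈ I := by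
      obtain ⟨j, hj⟩ := hpodd
      have h1 : (b⁻¹ * b⁻¹) ^ j ∈ I := Subgroup.pow_mem _ hbbI j
      have h2 : (b⁻¹ * b⁻¹) ^ j = b := by
        rw [← pow_two, ← pow_mul, inv_pow]
        apply inv_eq_of_mul_eq_one_left
        rw [← pow_succ', ← hj]
        exact hbp
      rw [h2] at h1
      exact h1
    have hwI : ∀ w : G, w ^ p = 1 → w ∈ I := by
      intro w hw
      by_cases hw1 : w = 1
      · rw [hw1]; exact Subgroup.one_mem _
      · have how : orderOf w = p := orderOf_eq_prime hw hw1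
        have hpW : IsPGroup p (Subgroup.zpowers w) :=
          IsPGroup.of_card (n := 1) (by rw [Nat.card_zpowers, how, pow_one])
        obtain ⟨g', hg'⟩ := hD p hp (Subgroup.zpowers b) (Subgroup.zpowers w) hpB hpW
          (by rw [Nat.card_zpowers, Nat.card_zpowers, hob, how])
        have h1 : w ∈ (Subgroup.zpowers b).map (MulAut.conj g').toMonoidHom :=
          hg' ▸ Subgroup.mem_zpowers w
        obtain ⟨β, hβ, hβw⟩ := h1
        have hβI : β ∈ I := (Subgroup.zpowers_le.mpr hbI) hβ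
        rw [← hβw]
        exact hIn.conj_mem β hβI g'
    have hxI : x ∈ I := hwI x hxp
    have hy₁I : y₁ ∈ I := hwI y₁ hy₁p
    obtain ⟨P₂⟩ : Nonempty (Sylow 2 I) := inferInstance
    have hcyc : IsCyclic (P₂ : Subgroup I) := by
      subst hIdef
      have h := Cfsg.Agent.S0201.keyQ (Nat.card G) G rfl S e
        ((P₂ : Subgroup _).map (Subgroup.subtype _))
        (IsPGroup.map P₂.2 _) (by rintro _ ⟨x, -, rfl⟩; exact x.2)
      exact isCyclic_of_surjective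
        (Subgroup.equivMapOfInjective _ _ (Subgroup.subtype_injective _)).symm.toMonoidHom
        (MulEquiv.surjective _)
    have h1 := odd_mul_of_cyclic P₂ hcyc ⟨x, hxI⟩ ⟨y₁, hy₁I⟩
      (by rw [Subgroup.orderOf_mk]; exact hoddx x hxp)
      (by rw [Subgroup.orderOf_mk]; exact hoddx y₁ hy₁p)
    apply hodd_abs
    rw [hg]
    have h2 : orderOf ((⟨x, hxI⟩ : I) * ⟨y₁, hy₁I⟩) = orderOf (x * y₁) := by
      rw [← Subgroup.orderOf_coe]
      rfl
    rw [← h2]
    exact h1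
  · have h1 := congrArg Subtype.val (hex2 ⟨g₂, hg₂S⟩)
    have h2 : g₂ * g₂ = 1 := by simpa [pow_two] using h1
    rw [hggm, h2] at hkm
    exact hfin 1 hkm rfl

/-- Let G be a finite group in which, for every prime p, any two p-subgroups of the same order are conjugate. Then every Sylow subgroup of G is cyclic, elementary abelian, or a quaternion group of order 8. -/
theorem result {G : Type*} [Group G] [Finite G]
    (hD : ∀ p : ℕ, p.Prime → ∀ H K : Subgroup G, IsPGroup p H → IsPGroup p K → Nat.card H = Nat.card K →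
      ∃ g : G, K = H.map (MulAut.conj g).toMonoidHom) {p : ℕ} [Fact p.Prime] (P : Sylow p G) :
    IsCyclic P ∨ Cfsg.IsElementaryAbelian p (P : Subgroup G) ∨ Nonempty ((P : Subgroup G) ≃* QuaternionGroup 2) := by
  have hI := iso_of_conj hD P
  rcases cases_of_iso p P.2 hI with h | h | hexp
  · exact Or.inl h
  · exact Or.inr (Or.inr h)
  · right; left
    have hcomm : ∀ x y : (P : Subgroup G), x * y = y * x := by
      rcases comm_or_cube p P.2 hI hexp with h | hc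
      · exact h
      · by_contra hna
        by_cases hp2 : p = 2
        · subst hp2
          apply hna
          intro x y
          have hx : x⁻¹ = x := inv_eq_of_mul_eq_one_left (by rw [← pow_two]; exact hexp x)
          have hy : y⁻¹ = y := inv_eq_of_mul_eq_one_left (by rw [← pow_two]; exact hexp y)
          have hxy : (x * y)⁻¹ = x * y :=
            inv_eq_of_mul_eq_one_left (by rw [← pow_two]; exact hexp (x * y))
          calc x * y = (x * y)⁻¹ := hxy.symm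
            _ = y⁻¹ * x⁻¹ := mul_inv_rev x y
            _ = y * x := by rw [hx, hy]
        · exact no_cube hD hp2 P hc hexp hna
    refine ⟨⟨⟨fun a b => hcomm a b⟩⟩, fun a ha => ?_⟩
    have h1 := congrArg Subtype.val (hexp ⟨a, ha⟩)
    simpa using h1

end Cfsg.Agent.S4020
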