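import Mathlib
import Cfsg.Statements.S4023
import Cfsg.Agent.S0016
import Cfsg.Agent.S0093
import Cfsg.Agent.S3982
import Cfsg.Agent.S4035
import Cfsg.Agent.S3987
import Cfsg.Agent.Lib.Helper10.CN
import Cfsg.Agent.Lib.Helper10.SZ
import Cfsg.Agent.Lib.Helper18.UniqueInvolution
import Cfsg.Agent.Lib.Helper21.Engel

set_option autoImplicit false
open Cfsg

namespace Cfsg.Agent.S4023

open scoped commutatorElement
open Cfsg.Agent.Lib.Helper21.Engel (mem_normalizer_of_conj_le)

/-- A generalized quaternion group of order at least `16` has both a cyclic and a non-cyclic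
subgroup of order `8`. -/
theorem quat_subgroups (t : ℕ) (ht0 : t ≠ 0) :
    ∃ C K : Subgroup (QuaternionGroup (4 * t)), Nat.card C = 8 ∧ Nat.card K = 8 ∧ IsCyclic C ∧
      ¬ IsCyclic K := by
  have hne : NeZero (4 * t) := ⟨by omega⟩
  have hne2 : NeZero (2 * (4 * t)) := ⟨by omega⟩
  have : Fact (Nat.Prime 2) := ⟨Nat.prime_two⟩
  have hc : orderOf ((QuaternionGroup.a 1 : QuaternionGroup (4 * t)) ^ t) = 8 := by
    rw [orderOf_pow_of_dvd ht0 (by rw [QuaternionGroup.orderOf_a_one]; exact ⟨8, by ring⟩),
      QuaternionGroup.orderOf_a_one]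
    have h1 : 2 * (4 * t) = 8 * t := by ring
    rw [h1]
    exact Nat.mul_div_cancel 8 (Nat.pos_of_ne_zero ht0)
  have hy : orderOf (QuaternionGroup.xa 0 : QuaternionGroup (4 * t)) = 4 :=
    QuaternionGroup.orderOf_xa 0
  have hcardQ : Nat.card (QuaternionGroup (4 * t)) = 4 * (4 * t) := by
    rw [Nat.card_eq_fintype_card, QuaternionGroup.card]
  obtain ⟨K, hK, hyK⟩ := Sylow.exists_subgroup_card_pow_succ (p := 2) (n := 2)
    (G := QuaternionGroup (4 * t)) (by rw [hcardQ]; exact ⟨2 * t, by ring⟩)
    (H := Subgroup.zpowers (QuaternionGroup.xa 0)) (by rw [Nat.card_zpowers, hy]; norm_num)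
  refine ⟨Subgroup.zpowers ((QuaternionGroup.a 1) ^ t), K, by rw [Nat.card_zpowers, hc],
    by rw [hK]; norm_num, inferInstance, ?_⟩
  intro hcyc
  obtain ⟨k, hk⟩ := hcyc.exists_generator
  have hk8 : orderOf (k : QuaternionGroup (4 * t)) = 8 := by
    rw [Subgroup.orderOf_coe, orderOf_eq_card_of_forall_mem_zpowers hk, hK]
    norm_num
  have hrot : (k : QuaternionGroup (4 * t)) ∈
      Subgroup.zpowers (QuaternionGroup.a 1 : QuaternionGroup (4 * t)) := by
    rcases hkv : (k : QuaternionGroup (4 * t)) with i | i
    · rw [Subgroup.mem_zpowers_iff]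
      exact ⟨(i.val : ℤ), by rw [zpow_natCast, QuaternionGroup.a_one_pow, ZMod.natCast_zmod_val]⟩
    · rw [hkv, QuaternionGroup.orderOf_xa] at hk8
      omega
  have hmem : (QuaternionGroup.xa 0 : QuaternionGroup (4 * t)) ∈
      Subgroup.zpowers (QuaternionGroup.a 1 : QuaternionGroup (4 * t)) := by
    obtain ⟨j, hj⟩ := Subgroup.mem_zpowers_iff.mp (hk ⟨_, hyK (Subgroup.mem_zpowers _)⟩)
    have hj' : (k : QuaternionGroup (4 * t)) ^ j = QuaternionGroup.xa 0 := by
      have h1 := congrArg Subtype.val hj
      simpa using h1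
    rw [← hj']
    exact Subgroup.zpow_mem _ hrot j
  obtain ⟨j, hj⟩ := (mem_powers_iff_mem_zpowers).mpr hmem
  have hj' : (QuaternionGroup.a 1 : QuaternionGroup (4 * t)) ^ j = QuaternionGroup.xa 0 := hj
  rw [QuaternionGroup.a_one_pow] at hj'
  cases hj'

/-- Groups of order `p ^ j`, `j ≤ 2`, are commutative. -/
theorem comm_of_small {H : Type*} [Group H] [Finite H] {p : ℕ} [Fact p.Prime] (j : ℕ) (hj : j ≤ 2)
    (hcard : Nat.card H = p ^ j) : IsMulCommutative H := by
  interval_cases j
  · have hsub : Subsingleton H := by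
      rw [pow_zero] at hcard
      exact (Nat.card_eq_one_iff_unique.mp hcard).1
    exact ⟨⟨fun a b => Subsingleton.elim _ _⟩⟩
  · rw [pow_one] at hcard
    have hc : IsCyclic H := isCyclic_of_prime_card hcard
    exact inferInstance
  · exact IsPGroup.isMulCommutative_of_card_eq_prime_sq hcard

/-- A `p`-group with a self-centralizing normal subgroup of order `p ^ 2` and exponent `p` has order
dividing `p ^ 3`. -/
theorem card_dvd_cube {G : Type*} [Group G] [Finite G] {p : ℕ} [Fact p.Prime] (hG : IsPGroup p G)
    (E : Subgroup G) (hEn : E.Normal) (hEcard : Nat.card E = p ^ 2) (hEexp : ∀ e ∈ E, e ^ p = 1)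
    (hCE : Subgroup.centralizer (E : Set G) ≤ E) : Nat.card G ∣ p ^ 3 := by
  have hpp : p.Prime := Fact.out
  obtain ⟨k, hk⟩ := IsPGroup.iff_card.mp hG
  have hnil : Group.IsNilpotent G := hG.isNilpotent
  have hEne : E ≠ ⊥ := by
    rintro rfl
    rw [Subgroup.card_bot] at hEcard
    have : 1 < p ^ 2 := Nat.one_lt_pow (by norm_num) hpp.one_lt
    omega
  obtain ⟨z, hzE, hz1, hzc⟩ := Cfsg.Agent.Lib.Helper10.CN.inf_center_ne_bot E hEne
  have hzord : orderOf z = p := by
    have h1 : orderOf z ∣ p := orderOf_dvd_of_pow_eq_one (hEexp z hzE)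
    rcases (Nat.dvd_prime hpp).mp h1 with h2 | h2
    · exact absurd (orderOf_eq_one_iff.mp h2) hz1
    · exact h2
  -- an element of E outside ⟨z⟩
  have hex : ∃ e ∈ E, e ∉ Subgroup.zpowers z := by
    by_contra hcon
    push Not at hcon
    have h1 : E ≤ Subgroup.zpowers z := fun a ha => hcon a ha
    have h2 := Subgroup.card_le_of_le h1
    rw [hEcard, Nat.card_zpowers, hzord] at h2
    have h3 : p < p ^ 2 := by
      have := hpp.one_lt
      nlinarith
    omega
  obtain ⟨e, heE, hez⟩ := hex
  have hsupE : Subgroup.zpowers z ⊔ Subgroup.zpowers e = E := by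
    have hle : Subgroup.zpowers z ⊔ Subgroup.zpowers e ≤ E :=
      sup_le (Subgroup.zpowers_le.mpr hzE) (Subgroup.zpowers_le.mpr heE)
    apply Subgroup.eq_of_le_of_card_ge hle
    have hp1 : IsPGroup p (Subgroup.zpowers z ⊔ Subgroup.zpowers e : Subgroup G) :=
      hG.to_subgroup _
    obtain ⟨j, hj⟩ := IsPGroup.iff_card.mp hp1
    rw [hEcard, hj]
    apply Nat.pow_le_pow_right hpp.pos
    by_contra hj2
    push Not at hj2
    have h1 : Subgroup.zpowers z = Subgroup.zpowers z ⊔ Subgroup.zpowers e := by
      apply Subgroup.eq_of_le_of_card_ge le_sup_left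
      rw [hj, Nat.card_zpowers, hzord]
      calc p ^ j ≤ p ^ 1 := Nat.pow_le_pow_right hpp.pos (by omega)
        _ = p := pow_one p
    apply hez
    rw [h1]
    exact Subgroup.mem_sup_right (Subgroup.mem_zpowers e)
  -- the centralizer of e lies in E
  have hCe : Subgroup.centralizer ({e} : Set G) ≤ E := by
    intro c hc
    apply hCE
    rw [Subgroup.mem_centralizer_iff]
    intro h hh
    have hle : Subgroup.zpowers z ⊔ Subgroup.zpowers e ≤ Subgroup.centralizer ({c} : Set G) := by
      apply sup_le
      · rw [Subgroup.zpowers_le, Subgroup.mem_centralizer_singleton_iff]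
        exact (hzc c).symm
      · rw [Subgroup.zpowers_le, Subgroup.mem_centralizer_singleton_iff]
        exact (Subgroup.mem_centralizer_singleton_iff.mp hc).symm
    rw [hsupE] at hle
    exact Subgroup.mem_centralizer_singleton_iff.mp (hle hh)
  -- the class of e is small
  have hclass : (ConjClasses.mk e).carrier ⊆ ((E : Set G) \ (Subgroup.zpowers z : Set G)) := by
    intro a ha
    rw [Cfsg.Agent.S3987.mem_class] at ha
    obtain ⟨c, rfl⟩ := ha
    refine ⟨hEn.conj_mem e heE c, ?_⟩
    intro hmem
    apply hez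
    obtain ⟨i, hi⟩ := Subgroup.mem_zpowers_iff.mp hmem
    have h1 : e = z ^ i := by
      have h2 : c * z ^ i * c⁻¹ = z ^ i := by
        have h3 : Commute c (z ^ i) := (show Commute c z from hzc c).zpow_right i
        rw [h3.eq]
        group
      calc e = c⁻¹ * (c * e * c⁻¹) * c := by group
        _ = c⁻¹ * z ^ i * c := by rw [hi]
        _ = c⁻¹ * (c * z ^ i * c⁻¹) * c := by rw [h2]
        _ = z ^ i := by group
    rw [h1]
    exact Subgroup.zpow_mem_zpowers z i
  have hidx : (Subgroup.centralizer ({e} : Set G)).index ≤ p ^ 2 - p := by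
    rw [← Cfsg.Agent.S4035.ncard_class]
    have h1 := Set.ncard_le_ncard hclass (Set.toFinite _)
    have h2 : ((E : Set G) \ (Subgroup.zpowers z : Set G)).ncard = p ^ 2 - p := by
      rw [Set.ncard_sdiff (Subgroup.zpowers_le.mpr hzE) (Set.toFinite _)]
      have h3 : (E : Set G).ncard = Nat.card E := rfl
      have h4 : (Subgroup.zpowers z : Set G).ncard = Nat.card (Subgroup.zpowers z) := rfl
      rw [h3, h4, hEcard, Nat.card_zpowers, hzord]
    rw [h2] at h1
    exact h1
  have hidx_dvd : (Subgroup.centralizer ({e} : Set G)).index ∣ p ^ k := by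
    rw [← hk]
    exact Subgroup.index_dvd_card _
  obtain ⟨j, -, hj⟩ := (Nat.dvd_prime_pow hpp).mp hidx_dvd
  have hj1 : j ≤ 1 := by
    by_contra hj2
    push Not at hj2
    have h1 : p ^ 2 ≤ p ^ j := Nat.pow_le_pow_right hpp.pos hj2
    rw [hj] at hidx
    have h3 : 0 < p := hpp.pos
    have h4 : p ≤ p ^ 2 := by nlinarith
    omega
  have hCcard : Nat.card (Subgroup.centralizer ({e} : Set G)) ∣ p ^ 2 := by
    rw [← hEcard]
    exact Subgroup.card_dvd_of_le hCe
  have hmul := Subgroup.card_mul_index (Subgroup.centralizer ({e} : Set G))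
  have hdvd : p ^ k ∣ p ^ 2 * p ^ 1 := by
    rw [← hk, ← hmul, hj]
    exact Nat.mul_dvd_mul hCcard (pow_dvd_pow p hj1)
  rw [← pow_add] at hdvd
  rw [hk]
  exact hdvd

/-- A `p`-group in which subgroups of equal order are isomorphic is cyclic, elementary abelian,
quaternion of order `8`, or non-abelian of order `p ^ 3` and exponent `p`. -/
theorem same_order_iso {P : Type*} [Group P] [Finite P] {p : ℕ} [Fact p.Prime] (hP : IsPGroup p P)
    (hiso : ∀ H K : Subgroup P, Nat.card H = Nat.card K → Nonempty (H ≃* K)) :
    IsCyclic P ∨ (IsMulCommutative P ∧ ∀ a : P, a ^ p = 1) ∨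
      (p = 2 ∧ Nonempty (P ≃* QuaternionGroup 2)) ∨
      (p ≠ 2 ∧ ¬ IsMulCommutative P ∧ Nat.card P = p ^ 3 ∧ Monoid.exponent P = p) := by
  have hp : p.Prime := Fact.out
  by_cases huniq : ∀ H K : Subgroup P, Nat.card H = p → Nat.card K = p → H = K
  · rcases Cfsg.Agent.S0016.result p hP huniq with hc | ⟨hp2, n, ⟨e⟩⟩
    · exact Or.inl hc
    · subst hp2
      rcases n with _ | _ | n
      · left
        have hc1 : IsCyclic (QuaternionGroup (2 ^ 0)) :=
          QuaternionGroup.quaternionGroup_one_isCyclic
        exact isCyclic_of_surjective e.symm.toMonoidHom e.symm.surjective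
      · right
        right
        left
        exact ⟨rfl, ⟨e⟩⟩
      · exfalso
        have h2n : 2 ^ (n + 1 + 1) = 4 * 2 ^ n := by ring
        rw [h2n] at e
        obtain ⟨C, K, hC, hK, hCc, hKc⟩ := quat_subgroups (2 ^ n) (by positivity)
        obtain ⟨f⟩ := hiso (C.map e.symm.toMonoidHom) (K.map e.symm.toMonoidHom)
          (by rw [Subgroup.card_map_of_injective e.symm.injective,
            Subgroup.card_map_of_injective e.symm.injective, hC, hK])
        apply hKc
        have e1 : C ≃* C.map e.symm.toMonoidHom :=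
          Subgroup.equivMapOfInjective C _ e.symm.injective
        have e2 : K ≃* K.map e.symm.toMonoidHom :=
          Subgroup.equivMapOfInjective K _ e.symm.injective
        exact isCyclic_of_surjective ((e1.trans f).trans e2.symm).toMonoidHom
          ((e1.trans f).trans e2.symm).surjective
  · push Not at huniq
    obtain ⟨H₁, H₂, hH₁, hH₂, hne⟩ := huniq
    have hPnt : Nontrivial P := by
      by_contra h
      rw [not_nontrivial_iff_subsingleton] at h
      have h1 : Nat.card H₁ = 1 := Nat.card_unique
      rw [hH₁] at h1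
      exact hp.ne_one h1
    have hZ : Nontrivial (Subgroup.center P) := hP.center_nontrivial
    have hZp : IsPGroup p (Subgroup.center P) := hP.to_subgroup _
    obtain ⟨kz, hkz⟩ := IsPGroup.iff_card.mp hZp
    have hkz0 : kz ≠ 0 := by
      rintro rfl
      rw [pow_zero] at hkz
      exact (Finite.one_lt_card_iff_nontrivial.mpr hZ).ne' hkz
    obtain ⟨z', hz'⟩ := exists_prime_orderOf_dvd_card' p (hkz ▸ dvd_pow_self p hkz0)
    obtain ⟨z, hz⟩ : ∃ z : P, z = (z' : P) := ⟨_, rfl⟩
    have hzord : orderOf z = p := by rw [hz, Subgroup.orderOf_coe, hz']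
    have hzc : ∀ g : P, g * z = z * g := fun g => hz ▸ Subgroup.mem_center_iff.mp z'.2 g
    have hcentral_normal : ∀ w : P, (∀ g : P, g * w = w * g) → (Subgroup.zpowers w).Normal := by
      intro w hw
      constructor
      intro n hn g
      obtain ⟨i, rfl⟩ := Subgroup.mem_zpowers_iff.mp hn
      have h4 : g * w ^ i * g⁻¹ = w ^ i := by
        have h3 : Commute g (w ^ i) := (show Commute g w from hw g).zpow_right i
        rw [h3.eq]
        group
      rw [h4]
      exact Subgroup.zpow_mem_zpowers w i
    obtain ⟨H, hH, hHz⟩ : ∃ H : Subgroup P, Nat.card H = p ∧ H ≠ Subgroup.zpowers z := by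
      by_cases h1 : H₁ = Subgroup.zpowers z
      · exact ⟨H₂, hH₂, fun h2 => hne (h1.trans h2.symm)⟩
      · exact ⟨H₁, hH₁, h1⟩
    obtain ⟨a, haH, haz⟩ : ∃ a ∈ H, a ∉ Subgroup.zpowers z := by
      by_contra hcon
      push Not at hcon
      exact hHz (Subgroup.eq_of_le_of_card_ge (fun x hx => hcon x hx)
        (by rw [Nat.card_zpowers, hzord, hH]))
    have haord : orderOf a = p := by
      have h1 : orderOf a ∣ p := by
        have h2 := orderOf_dvd_natCard (⟨a, haH⟩ : H)
        rwa [Subgroup.orderOf_mk, hH] at h2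
      rcases (Nat.dvd_prime hp).mp h1 with h2 | h2
      · exfalso
        apply haz
        rw [orderOf_eq_one_iff.mp h2]
        exact Subgroup.one_mem _
      · exact h2
    have hzn : (Subgroup.zpowers z).Normal := hcentral_normal z hzc
    obtain ⟨E, hE⟩ : ∃ E : Subgroup P, E = Subgroup.zpowers a ⊔ Subgroup.zpowers z := ⟨_, rfl⟩
    have hEexp : ∀ e ∈ E, e ^ p = 1 := by
      intro e he
      rw [hE, ← SetLike.mem_coe, Subgroup.mul_normal] at he
      obtain ⟨u, hu, v, hv, rfl⟩ := Set.mem_mul.mp he
      obtain ⟨i, rfl⟩ := Subgroup.mem_zpowers_iff.mp hu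
      obtain ⟨j, rfl⟩ := Subgroup.mem_zpowers_iff.mp hv
      have hcomm : Commute (a ^ i) (z ^ j) := (show Commute a z from hzc a).zpow_zpow i j
      have h1 : (a ^ i) ^ p = 1 := by
        rw [← zpow_natCast, ← zpow_mul, mul_comm, zpow_mul, zpow_natCast, ← haord,
          pow_orderOf_eq_one, one_zpow]
      have h2 : (z ^ j) ^ p = 1 := by
        rw [← zpow_natCast, ← zpow_mul, mul_comm, zpow_mul, zpow_natCast, ← hzord,
          pow_orderOf_eq_one, one_zpow]
      rw [hcomm.mul_pow, h1, h2, one_mul]
    have hEcard : Nat.card E = p ^ 2 := by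
      have hdvd : Nat.card E ∣ p ^ 2 := by
        have h1 := Cfsg.Agent.Lib.Helper10.SZ.card_sup_dvd' (Subgroup.zpowers a)
          (Subgroup.zpowers z)
        rwa [Nat.card_zpowers, Nat.card_zpowers, haord, hzord, ← hE, ← pow_two] at h1
      have hlt : p < Nat.card E := by
        by_contra hle
        push Not at hle
        have h1 : Subgroup.zpowers z = E :=
          Subgroup.eq_of_le_of_card_ge (hE ▸ le_sup_right) (by rw [Nat.card_zpowers, hzord]; exact hle)
        apply haz
        rw [h1, hE]
        exact Subgroup.mem_sup_left (Subgroup.mem_zpowers a)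
      obtain ⟨j, hj2, hj⟩ := (Nat.dvd_prime_pow hp).mp hdvd
      rw [hj] at hlt ⊢
      have hj1 : 1 < j := by
        by_contra hle
        push Not at hle
        have h1 : p ^ j ≤ p ^ 1 := Nat.pow_le_pow_right hp.pos hle
        rw [pow_one] at h1
        omega
      have hj' : j = 2 := by omega
      rw [hj']
    have hEnc : ¬ IsCyclic E := by
      intro hc
      obtain ⟨g, hg⟩ := hc.exists_generator
      have h1 := orderOf_eq_card_of_forall_mem_zpowers hg
      rw [hEcard] at h1
      have h2 : (g : P) ^ p = 1 := hEexp g g.2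
      have h3 : orderOf g ∣ p := orderOf_dvd_of_pow_eq_one (Subtype.ext (by rw [Subgroup.coe_pow]; exact h2))
      rw [h1] at h3
      have h4 := Nat.le_of_dvd hp.pos h3
      have h5 := hp.one_lt
      nlinarith
    have hexp : ∀ x : P, x ^ p = 1 := by
      intro x
      obtain ⟨j, hj⟩ := (IsPGroup.iff_orderOf.mp hP) x
      by_contra hx
      have hj2 : 2 ≤ j := by
        by_contra hlt
        push Not at hlt
        apply hx
        have h1 : orderOf x ∣ p := by
          rw [hj]
          calc p ^ j ∣ p ^ 1 := pow_dvd_pow p (by omega)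
            _ = p := pow_one p
        exact orderOf_dvd_iff_pow_eq_one.mp h1
      have hc : orderOf (x ^ (p ^ (j - 2))) = p ^ 2 := by
        rw [orderOf_pow_of_dvd (pow_pos hp.pos _).ne' (hj ▸ pow_dvd_pow p (by omega)), hj,
          Nat.pow_div (by omega) hp.pos]
        congr 1
        omega
      obtain ⟨f⟩ := hiso (Subgroup.zpowers (x ^ (p ^ (j - 2)))) E
        (by rw [Nat.card_zpowers, hc, hEcard])
      exact hEnc (isCyclic_of_surjective f.toMonoidHom f.surjective)
    by_cases hcomm : IsMulCommutative P
    · exact Or.inr (Or.inl ⟨hcomm, hexp⟩)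
    · right
      right
      right
      have hp2 : p ≠ 2 := by
        rintro rfl
        apply hcomm
        refine ⟨⟨fun x y => ?_⟩⟩
        have hx : x⁻¹ = x := by
          rw [inv_eq_iff_mul_eq_one, ← pow_two]
          exact hexp x
        have hy : y⁻¹ = y := by
          rw [inv_eq_iff_mul_eq_one, ← pow_two]
          exact hexp y
        have hxy : (x * y)⁻¹ = x * y := by
          rw [inv_eq_iff_mul_eq_one, ← pow_two]
          exact hexp (x * y)
        calc x * y = (x * y)⁻¹ := hxy.symm
          _ = y⁻¹ * x⁻¹ := mul_inv_rev x y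
          _ = y * x := by rw [hx, hy]
      obtain ⟨n, hn⟩ := IsPGroup.iff_card.mp hP
      have hn3 : 3 ≤ n := by
        by_contra hlt
        push Not at hlt
        exact hcomm (comm_of_small n (by omega) hn)
      have hexpP : Monoid.exponent P = p := by
        have h1 : Monoid.exponent P ∣ p := Monoid.exponent_dvd_of_forall_pow_eq_one hexp
        rcases (Nat.dvd_prime hp).mp h1 with h2 | h2
        · exfalso
          have hsub : Subsingleton P := Monoid.exp_eq_one_iff.mp h2
          exact not_nontrivial P hPnt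
        · exact h2
      refine ⟨hp2, hcomm, ?_, hexpP⟩
      by_contra hcard
      have hn4 : 4 ≤ n := by
        by_contra hlt
        push Not at hlt
        have hn' : n = 3 := by omega
        rw [hn'] at hn
        exact hcard hn
      -- (i) an abelian subgroup of order p ^ 3
      obtain ⟨A, hAn, hAcomm, hAself⟩ :=
        Cfsg.Agent.Lib.Helper18.UniqueInvolution.exists_max_normal_abelian p hP
      obtain ⟨a', ha'⟩ := IsPGroup.iff_card.mp (hP.to_subgroup A)
      have hCA : Subgroup.centralizer (A : Set P) ≤ A := by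
        intro g hg
        apply hAself
        intro x hx
        exact (Subgroup.mem_centralizer_iff.mp hg x hx).symm
      have hAtop : A ≠ ⊤ := by
        intro htop
        apply hcomm
        refine ⟨⟨fun x y => ?_⟩⟩
        exact hAcomm x (htop ▸ Subgroup.mem_top x) y (htop ▸ Subgroup.mem_top y)
      have ha3 : 3 ≤ a' := by
        by_contra hlt
        push Not at hlt
        have ha'2 : a' = 0 ∨ a' = 1 ∨ a' = 2 := by omega
        rcases ha'2 with rfl | rfl | rfl
        · have hAbot : A = ⊥ := Subgroup.card_eq_one.mp (by rw [ha', pow_zero])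
          apply hAtop
          rw [eq_top_iff]
          intro g _
          apply hAself g
          intro b hb
          rw [hAbot, Subgroup.mem_bot] at hb
          rw [hb, mul_one, one_mul]
        · have hAne : A ≠ ⊥ := by
            rintro rfl
            rw [Subgroup.card_bot, pow_one] at ha'
            exact hp.ne_one ha'.symm
          obtain ⟨w, hwA, hw1, hwc⟩ :=
            Cfsg.Agent.Lib.Helper18.UniqueInvolution.exists_central_mem_of_normal hP A hAn hAne
          have hword : orderOf w = p := by
            have h1 : orderOf w ∣ p := orderOf_dvd_of_pow_eq_one (hexp w)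
            rcases (Nat.dvd_prime hp).mp h1 with h2 | h2
            · exact absurd (orderOf_eq_one_iff.mp h2) hw1
            · exact h2
          have hAw : Subgroup.zpowers w = A :=
            Subgroup.eq_of_le_of_card_ge (Subgroup.zpowers_le.mpr hwA)
              (by rw [Nat.card_zpowers, hword, ha', pow_one])
          apply hAtop
          rw [eq_top_iff]
          intro g _
          apply hAself g
          intro b hb
          rw [← hAw] at hb
          obtain ⟨i, rfl⟩ := Subgroup.mem_zpowers_iff.mp hb
          exact ((show Commute g w from hwc g).zpow_right i).eq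
        · have h1 := card_dvd_cube hP A hAn ha' (fun e _ => hexp e) hCA
          rw [hn] at h1
          have h2 : n ≤ 3 := (Nat.pow_dvd_pow_iff_le_right hp.one_lt).mp h1
          omega
      obtain ⟨B₀, hB₀⟩ := Sylow.exists_subgroup_card_pow_prime p (G := A) (n := 3)
        (by rw [ha']; exact pow_dvd_pow p ha3)
      obtain ⟨B, hBdef⟩ : ∃ B : Subgroup P, B = B₀.map A.subtype := ⟨_, rfl⟩
      have hBcard : Nat.card B = p ^ 3 := by
        rw [hBdef, Subgroup.card_map_of_injective A.subtype_injective, hB₀]
      have hBA : B ≤ A := by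
        rw [hBdef]
        rintro _ ⟨w, -, rfl⟩
        exact w.2
      have hBcomm : ∀ u v : B, u * v = v * u := by
        intro u v
        apply Subtype.ext
        exact hAcomm _ (hBA u.2) _ (hBA v.2)
      -- (ii) a non-abelian subgroup of order p ^ 3
      have hcn : (Subgroup.center P).Normal := inferInstance
      have htn : (⊤ : Subgroup P).Normal := inferInstance
      obtain ⟨x, -, hxZ, -, hxc⟩ := Cfsg.Agent.S0093.exists_central_mod hP (Subgroup.center P) ⊤ (by
        intro hle
        apply hcomm
        exact ⟨⟨fun u v => (Subgroup.mem_center_iff.mp (hle (Subgroup.mem_top v)) u)⟩⟩)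
      obtain ⟨y, hy⟩ : ∃ y : P, y * x ≠ x * y := by
        by_contra hcon
        push Not at hcon
        exact hxZ (Subgroup.mem_center_iff.mpr hcon)
      obtain ⟨d, hd⟩ : ∃ d : P, d = y * x * y⁻¹ * x⁻¹ := ⟨_, rfl⟩
      have hdZ : d ∈ Subgroup.center P := by
        have h1 : d = (⁅x, y⁆)⁻¹ := by
          rw [hd, commutatorElement_def]
          group
        rw [h1]
        exact Subgroup.inv_mem _ (hxc y)
      have hdc : ∀ g : P, g * d = d * g := fun g => Subgroup.mem_center_iff.mp hdZ g
      have hyx : y * x * y⁻¹ = x * d := by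
        calc y * x * y⁻¹ = d * x := by
              rw [hd]
              group
          _ = x * d := (hdc x).symm
      obtain ⟨K', hK'⟩ : ∃ K' : Subgroup P, K' = Subgroup.zpowers x ⊔ Subgroup.zpowers d :=
        ⟨_, rfl⟩
      have hdn : (Subgroup.zpowers d).Normal := hcentral_normal d hdc
      have hK'card : Nat.card K' ∣ p * p := by
        have h1 := Cfsg.Agent.Lib.Helper10.SZ.card_sup_dvd' (Subgroup.zpowers x)
          (Subgroup.zpowers d)
        rw [← hK', Nat.card_zpowers, Nat.card_zpowers] at h1
        exact h1.trans (Nat.mul_dvd_mul (orderOf_dvd_of_pow_eq_one (hexp x))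
          (orderOf_dvd_of_pow_eq_one (hexp d)))
      have hyN : Subgroup.zpowers y ≤ Subgroup.normalizer (K' : Set P) := by
        rw [Subgroup.zpowers_le]
        have hmap : K'.map (MulAut.conj y).toMonoidHom ≤ K' := by
          rw [hK', Subgroup.map_sup, MonoidHom.map_zpowers, MonoidHom.map_zpowers]
          apply sup_le
          · rw [Subgroup.zpowers_le]
            show y * x * y⁻¹ ∈ _
            rw [hyx]
            exact Subgroup.mul_mem _ (Subgroup.mem_sup_left (Subgroup.mem_zpowers x))
              (Subgroup.mem_sup_right (Subgroup.mem_zpowers d))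
          · rw [Subgroup.zpowers_le]
            show y * d * y⁻¹ ∈ _
            have h1 : y * d * y⁻¹ = d := by
              rw [hdc y]
              group
            rw [h1]
            exact Subgroup.mem_sup_right (Subgroup.mem_zpowers d)
        apply mem_normalizer_of_conj_le
        intro k hk
        exact hmap (Subgroup.mem_map_of_mem (MulAut.conj y).toMonoidHom hk)
      obtain ⟨M, hM⟩ : ∃ M : Subgroup P, M = K' ⊔ Subgroup.zpowers y := ⟨_, rfl⟩
      have hMdvd : Nat.card M ∣ p ^ 3 := by
        have h1 := Cfsg.Agent.S3982.card_sup_dvd_of_le_normalizer K' (Subgroup.zpowers y) hyN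
        rw [← hM] at h1
        refine h1.trans ?_
        rw [pow_succ, pow_two]
        exact Nat.mul_dvd_mul hK'card (by
          rw [Nat.card_zpowers]
          exact orderOf_dvd_of_pow_eq_one (hexp y))
      have hMnc : ¬ IsMulCommutative M := by
        intro hc
        apply hy
        have hxM : x ∈ M := hM ▸ Subgroup.mem_sup_left (hK' ▸ Subgroup.mem_sup_left (Subgroup.mem_zpowers x))
        have hyM : y ∈ M := hM ▸ Subgroup.mem_sup_right (Subgroup.mem_zpowers y)
        have h1 := hc.is_comm.comm (⟨y, hyM⟩ : M) ⟨x, hxM⟩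
        exact congrArg Subtype.val h1
      have hMcard : Nat.card M = p ^ 3 := by
        obtain ⟨j, hj3, hj⟩ := (Nat.dvd_prime_pow hp).mp hMdvd
        have hj' : j = 3 := by
          by_contra hne3
          exact hMnc (comm_of_small j (by omega) hj)
        rw [hj, hj']
      obtain ⟨f⟩ := hiso B M (by rw [hBcard, hMcard])
      apply hMnc
      refine ⟨⟨fun u v => ?_⟩⟩
      have h1 := hBcomm (f.symm u) (f.symm v)
      apply f.symm.injective
      rw [map_mul, map_mul]
      exact h1

/-- Let p be a prime and G a finite group in which any two p-subgroups of the same order are conjugate, with Sylow p-subgroup P. Then P is cyclic, or elementary abelian, or p = 2 and P is a quaternion group of order 8, or p is odd and P is non-abelian of order p³ and exponent p. -/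
theorem result {G : Type*} [Group G] [Finite G]
    {p : ℕ} [Fact p.Prime] (hC : ∀ H K : Subgroup G, IsPGroup p H → IsPGroup p K → Nat.card H = Nat.card K →
      ∃ g : G, K = H.map (MulAut.conj g).toMonoidHom) (P : Sylow p G) :
    IsCyclic P ∨ Cfsg.IsElementaryAbelian p (P : Subgroup G) ∨
      (p = 2 ∧ Nonempty ((P : Subgroup G) ≃* QuaternionGroup 2)) ∨
      (p ≠ 2 ∧ ¬ IsMulCommutative P ∧ Nat.card P = p ^ 3 ∧ Monoid.exponent P = p) := by
  have hiso : ∀ H K : Subgroup (P : Subgroup G), Nat.card H = Nat.card K → Nonempty (H ≃* K) := by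
    intro H K hHK
    have hinj : Function.Injective (P : Subgroup G).subtype := Subgroup.subtype_injective _
    obtain ⟨g, hg⟩ := hC (H.map (P : Subgroup G).subtype) (K.map (P : Subgroup G).subtype)
      ((P.isPGroup'.to_subgroup H).map _) ((P.isPGroup'.to_subgroup K).map _)
      (by rw [Subgroup.card_map_of_injective hinj, Subgroup.card_map_of_injective hinj, hHK])
    have e1 : H ≃* H.map (P : Subgroup G).subtype := Subgroup.equivMapOfInjective H _ hinj
    have e2 : K ≃* K.map (P : Subgroup G).subtype := Subgroup.equivMapOfInjective K _ hinj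
    have e3 : H.map (P : Subgroup G).subtype ≃*
        (H.map (P : Subgroup G).subtype).map (MulAut.conj g).toMonoidHom :=
      Subgroup.equivMapOfInjective _ _ (MulAut.conj g).injective
    have e4 : (H.map (P : Subgroup G).subtype).map (MulAut.conj g).toMonoidHom ≃*
        K.map (P : Subgroup G).subtype := MulEquiv.subgroupCongr hg.symm
    exact ⟨((e1.trans e3).trans e4).trans e2.symm⟩
  rcases same_order_iso P.isPGroup' hiso with h | ⟨h1, h2⟩ | h | h
  · exact Or.inl h
  · refine Or.inr (Or.inl ⟨h1, fun a ha => ?_⟩)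
    have h3 := h2 ⟨a, ha⟩
    exact congrArg Subtype.val h3
  · exact Or.inr (Or.inr (Or.inl h))
  · exact Or.inr (Or.inr (Or.inr h))

end Cfsg.Agent.S4023
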