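import Mathlib
import Cfsg.Statements.S4037
import Cfsg.Agent.Lib.Helper21.Kazarin
import Cfsg.Agent.Lib.Helper21.Kazarin2

set_option autoImplicit false
open Cfsg

namespace Cfsg.Agent.S4037

theorem ncard_class {G : Type*} [Group G] (x : G) :
    (ConjClasses.mk x).carrier.ncard = (Subgroup.centralizer ({x} : Set G)).index := by
  rw [← ConjAct.orbit_eq_carrier_conjClasses, ← MulAction.index_stabilizer,
    Subgroup.centralizer_eq_comap_stabilizer]
  exact (Subgroup.index_comap_of_surjective _ ConjAct.toConjAct.surjective).symm

/-- If an element x of a finite group G has a conjugacy class of prime-power size, then the normal closure of x in G (the subgroup generated by the conjugacy class of x) is solvable. -/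
theorem result {G : Type*} [Group G] [Finite G]
    (x : G) {p : ℕ} (hp : p.Prime) (k : ℕ) (hx : (ConjClasses.mk x).carrier.ncard = p ^ k) :
    Group.IsSolvable ↥(Subgroup.normalClosure ({x} : Set G)) := by
  rw [ncard_class] at hx
  exact Cfsg.Agent.Lib.Helper21.Kazarin.kazarin
    (fun H _ _ => Cfsg.Agent.Lib.Helper21.Kazarin.core_all H)
    (fun H _ _ p q a b hp hq hcard => Cfsg.Agent.Lib.Helper1.solvable_of_two_primes p q a b hp hq hcard)
    _ G rfl p x hp ⟨k, hx⟩

end Cfsg.Agent.S4037
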