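import Cfsg.Statements.S4080
import Mathlib
import Cfsg.Agent.S5187

set_option autoImplicit false
open Cfsg

namespace Cfsg.Agent.S4080

open Cfsg.Agent.Lib.Helper27.EssAut Cfsg.Agent.Lib.Helper27.EssQuot

theorem zmod_sq_div {p : ℕ} [Fact p.Prime] (u : ZMod (p ^ 2)) (hu : p • u = 0) :
    ∃ w : ZMod (p ^ 2), u = p • w := by
  have hpp : p.Prime := Fact.out
  have : NeZero (p ^ 2) := ⟨pow_ne_zero _ hpp.ne_zero⟩
  have h1 : ((p * u.val : ℕ) : ZMod (p ^ 2)) = 0 := by
    rw [Nat.cast_mul, ZMod.natCast_zmod_val, ← nsmul_eq_mul]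
    exact hu
  rw [ZMod.natCast_eq_zero_iff] at h1
  have h2 : p ∣ u.val := by
    have h1' : p * p ∣ p * u.val := by
      rw [← pow_two]
      exact h1
    exact (Nat.mul_dvd_mul_iff_left hpp.pos).1 h1'
  obtain ⟨k, hk⟩ := h2
  refine ⟨(k : ZMod (p ^ 2)), ?_⟩
  rw [nsmul_eq_mul, ← Nat.cast_mul, ← hk, ZMod.natCast_zmod_val]

/-- Let p > 3 be a prime and L the direct product of two cyclic groups of order p². Every automorphism of L of order p fixes every element of order p of L. -/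
theorem result {p : ℕ} [Fact p.Prime] (hp : 3 < p)
    (a : MulAut (Multiplicative (ZMod (p ^ 2) × ZMod (p ^ 2)))) (ha : orderOf a = p)
    (x : Multiplicative (ZMod (p ^ 2) × ZMod (p ^ 2))) (hx : orderOf x = p) : a x = x := by
  classical
  have hpp : p.Prime := Fact.out
  have hp5 : 5 ≤ p := by
    have h4 : p ≠ 4 := fun h => by
      rw [h] at hpp
      exact absurd hpp (by norm_num)
    omega
  have : NeZero (p ^ 2) := ⟨pow_ne_zero _ hpp.ne_zero⟩
  have hcomm : ∀ x y : Multiplicative (ZMod (p ^ 2) × ZMod (p ^ 2)), x * y = y * x :=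
    fun x y => mul_comm x y
  have hap : a ^ p = 1 := by
    have h0 := pow_orderOf_eq_one a
    rwa [ha] at h0
  have hexp : ∀ y : Multiplicative (ZMod (p ^ 2) × ZMod (p ^ 2)), y ^ (p ^ 2) = 1 := by
    intro y
    have h0 : (p ^ 2) • (Multiplicative.toAdd y) = 0 := by
      ext
      · rw [Prod.smul_fst, nsmul_eq_mul, CharP.cast_eq_zero, zero_mul]
        rfl
      · rw [Prod.smul_snd, nsmul_eq_mul, CharP.cast_eq_zero, zero_mul]
        rfl
    exact congrArg Multiplicative.ofAdd h0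
  let pw : Multiplicative (ZMod (p ^ 2) × ZMod (p ^ 2)) →*
      Multiplicative (ZMod (p ^ 2) × ZMod (p ^ 2)) := powMonoidHom p
  have hpw : ∀ y, pw y = y ^ p := fun _ => rfl
  have hkr : pw.ker = pw.range := by
    apply le_antisymm
    · intro y hy
      rw [MonoidHom.mem_ker, hpw] at hy
      have h0 : p • (Multiplicative.toAdd y) = 0 := congrArg Multiplicative.toAdd hy
      have h1 : p • (Multiplicative.toAdd y).1 = 0 := by
        rw [← Prod.smul_fst, h0]
        rfl
      have h2 : p • (Multiplicative.toAdd y).2 = 0 := by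
        rw [← Prod.smul_snd, h0]
        rfl
      obtain ⟨w1, hw1⟩ := zmod_sq_div _ h1
      obtain ⟨w2, hw2⟩ := zmod_sq_div _ h2
      refine ⟨Multiplicative.ofAdd (w1, w2), ?_⟩
      rw [hpw]
      have h3 : p • ((w1, w2) : ZMod (p ^ 2) × ZMod (p ^ 2)) = Multiplicative.toAdd y := by
        ext
        · rw [Prod.smul_fst, ← hw1]
        · rw [Prod.smul_snd, ← hw2]
      exact congrArg Multiplicative.ofAdd h3
    · rintro y ⟨w, rfl⟩
      rw [MonoidHom.mem_ker, hpw, hpw, ← pow_mul, ← pow_two]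
      exact hexp w
  have hcardL : Nat.card (Multiplicative (ZMod (p ^ 2) × ZMod (p ^ 2))) = p ^ 2 * p ^ 2 := by
    have h1 : Nat.card (Multiplicative (ZMod (p ^ 2) × ZMod (p ^ 2))) =
        Nat.card (ZMod (p ^ 2) × ZMod (p ^ 2)) := Nat.card_congr Multiplicative.toAdd
    rw [h1, Nat.card_prod, Nat.card_zmod]
  have hidx : pw.ker.index = p ^ 2 := by
    have h1 := Subgroup.card_mul_index pw.ker
    have h2 : pw.ker.index = Nat.card pw.ker := by
      rw [Subgroup.index_ker, hkr]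
    rw [hcardL, ← h2] at h1
    exact Nat.mul_self_inj.1 h1
  have hchar : pw.ker.Characteristic := by
    rw [Subgroup.characteristic_iff_map_le]
    rintro φ y ⟨z, hz, rfl⟩
    rw [SetLike.mem_coe, MonoidHom.mem_ker, hpw] at hz
    rw [MonoidHom.mem_ker, hpw]
    show (φ z) ^ p = 1
    rw [← map_pow, hz, map_one]
  have hQcard : Nat.card (Multiplicative (ZMod (p ^ 2) × ZMod (p ^ 2)) ⧸ pw.ker) = p ^ 2 := hidx
  have hQc : ∀ x y : Multiplicative (ZMod (p ^ 2) × ZMod (p ^ 2)) ⧸ pw.ker, x * y = y * x := by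
    intro x y
    induction x using QuotientGroup.induction_on with
    | H x =>
      induction y using QuotientGroup.induction_on with
      | H y =>
        rw [← QuotientGroup.mk_mul, ← QuotientGroup.mk_mul, hcomm]
  have hQexp : ∀ x : Multiplicative (ZMod (p ^ 2) × ZMod (p ^ 2)) ⧸ pw.ker, x ^ p = 1 := by
    intro x
    induction x using QuotientGroup.induction_on with
    | H x =>
      rw [← QuotientGroup.mk_pow, QuotientGroup.eq_one_iff, hkr]
      exact ⟨x, rfl⟩
  have hbp : (autQuot pw.ker a) ^ p = 1 := by rw [← map_pow, hap, map_one]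
  have hP : IsPGroup p (Subgroup.zpowers (autQuot pw.ker a)) := by
    rintro ⟨g, hg⟩
    obtain ⟨z, rfl⟩ := Subgroup.mem_zpowers_iff.1 hg
    refine ⟨1, ?_⟩
    apply Subtype.ext
    show ((autQuot pw.ker a) ^ z) ^ (p ^ 1) = 1
    rw [pow_one, ← zpow_natCast, ← zpow_mul, mul_comm, zpow_mul, zpow_natCast, hbp, one_zpow]
  obtain ⟨e, he1, hefix⟩ := exists_fixed (Subgroup.zpowers (autQuot pw.ker a)) hP
    (by rw [hQcard]; exact dvd_pow_self p (by norm_num))
  have hae : autQuot pw.ker a e = e := hefix _ (Subgroup.mem_zpowers _)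
  have hEcard : Nat.card (Subgroup.zpowers e) = p := by
    rw [Nat.card_zpowers]
    exact orderOf_eq_prime (hQexp e) he1
  have hEfix : ∀ y ∈ Subgroup.zpowers e, autQuot pw.ker a y = y := by
    intro y hy
    obtain ⟨z, rfl⟩ := Subgroup.mem_zpowers_iff.1 hy
    rw [map_zpow, hae]
  have htr := trans_of_fix hQc hQcard (autQuot pw.ker a) (m := 1) (by rw [pow_one]; exact hbp)
    (Subgroup.zpowers e) hEcard hEfix
  have hN2 : ∀ x : Multiplicative (ZMod (p ^ 2) × ZMod (p ^ 2)),
      ∃ w : Multiplicative (ZMod (p ^ 2) × ZMod (p ^ 2)), a (a x / x) / (a x / x) = w ^ p := by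
    intro x
    have h1 := htr (x : Multiplicative (ZMod (p ^ 2) × ZMod (p ^ 2)) ⧸ pw.ker)
    rw [autQuot_mk, ← QuotientGroup.mk_inv, ← QuotientGroup.mk_mul] at h1
    have h2 := hEfix _ h1
    rw [autQuot_mk, QuotientGroup.eq_iff_div_mem] at h2
    have h3 : x⁻¹ * a x = a x / x := by rw [div_eq_mul_inv, hcomm]
    rw [h3, hkr] at h2
    obtain ⟨w, hw⟩ := h2
    exact ⟨w, hw.symm⟩
  have key := Cfsg.Agent.S5187.trivial_mod hcomm hp5 a hap pw.ker hN2
    (fun y hy => by rw [MonoidHom.mem_ker, hpw]; exact hy)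
    (fun w => by rw [hkr]; exact ⟨w, rfl⟩)
  have hxp : x ^ p = 1 := by
    have h0 := pow_orderOf_eq_one x
    rwa [hx] at h0
  have hxk : x ∈ pw.ker := by rw [MonoidHom.mem_ker, hpw]; exact hxp
  rw [hkr] at hxk
  obtain ⟨w, rfl⟩ := hxk
  have h1 := key w
  rw [MonoidHom.mem_ker, hpw, div_pow, div_eq_one, ← map_pow] at h1
  exact h1

end Cfsg.Agent.S4080
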