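import Mathlib
import Cfsg.Statements.S4082
import Cfsg.Agent.S4196
import Cfsg.Agent.Lib.Helper18.DihedralEquiv

set_option autoImplicit false
open Cfsg

namespace Cfsg.Agent.S4082

theorem norm_zpow {G : Type*} [Group G] (S₀ : Subgroup G) {y : G}
    (hy : y ∈ Subgroup.normalizer (S₀ : Set G)) (k : ℤ) {s : G} (hs : s ∈ S₀) :
    y ^ k * s * (y ^ k)⁻¹ ∈ S₀ := by
  have h1 : y ^ k ∈ Subgroup.normalizer (S₀ : Set G) := Subgroup.zpow_mem _ hy k
  exact (Subgroup.mem_normalizer_iff.mp h1 s).mp hs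

theorem norm_zpow' {G : Type*} [Group G] (S₀ : Subgroup G) {y : G}
    (hy : y ∈ Subgroup.normalizer (S₀ : Set G)) (k : ℤ) {s : G} (hs : s ∈ S₀) :
    (y ^ k)⁻¹ * s * y ^ k ∈ S₀ := by
  have h := norm_zpow S₀ hy (-k) hs
  rw [zpow_neg, inv_inv] at h
  exact h

def SY {G : Type*} [Group G] (S₀ : Subgroup G) (y : G)
    (hy : y ∈ Subgroup.normalizer (S₀ : Set G)) : Subgroup G where
  carrier := {g | ∃ s ∈ S₀, ∃ k : ℤ, g = s * y ^ k}
  mul_mem' := by
    rintro a b ⟨s, hs, k, rfl⟩ ⟨s', hs', k', rfl⟩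
    refine ⟨s * (y ^ k * s' * (y ^ k)⁻¹), S₀.mul_mem hs (norm_zpow S₀ hy k hs'), k + k', ?_⟩
    rw [zpow_add]
    simp only [mul_assoc, inv_mul_cancel_left]
  one_mem' := ⟨1, S₀.one_mem, 0, by simp⟩
  inv_mem' := by
    rintro a ⟨s, hs, k, rfl⟩
    refine ⟨(y ^ k)⁻¹ * s⁻¹ * y ^ k, norm_zpow' S₀ hy k (S₀.inv_mem hs), -k, ?_⟩
    rw [zpow_neg]
    simp only [mul_inv_rev, mul_assoc, mul_inv_cancel, mul_one]

theorem mem_SY {G : Type*} [Group G] {S₀ : Subgroup G} {y : G}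
    {hy : y ∈ Subgroup.normalizer (S₀ : Set G)} {g : G} :
    g ∈ SY S₀ y hy ↔ ∃ s ∈ S₀, ∃ k : ℤ, g = s * y ^ k := Iff.rfl

theorem le_SY {G : Type*} [Group G] (S₀ : Subgroup G) (y : G)
    (hy : y ∈ Subgroup.normalizer (S₀ : Set G)) : S₀ ≤ SY S₀ y hy :=
  fun s hs => mem_SY.mpr ⟨s, hs, 0, by simp⟩

theorem self_mem_SY {G : Type*} [Group G] (S₀ : Subgroup G) (y : G)
    (hy : y ∈ Subgroup.normalizer (S₀ : Set G)) : y ∈ SY S₀ y hy :=
  mem_SY.mpr ⟨1, S₀.one_mem, 1, by simp⟩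

theorem pow_form {G : Type*} [Group G] (S₀ : Subgroup G) {u : G}
    (hu : u ∈ Subgroup.normalizer (S₀ : Set G)) {s : G} (hs : s ∈ S₀) (n : ℕ) :
    ∃ s' ∈ S₀, (s * u) ^ n = s' * u ^ n := by
  induction n with
  | zero => exact ⟨1, S₀.one_mem, by simp⟩
  | succ n ih =>
    obtain ⟨s', hs', h⟩ := ih
    have h1 : u ^ n ∈ Subgroup.normalizer (S₀ : Set G) := Subgroup.pow_mem _ hu n
    refine ⟨s' * (u ^ n * s * (u ^ n)⁻¹),
      S₀.mul_mem hs' ((Subgroup.mem_normalizer_iff.mp h1 s).mp hs), ?_⟩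
    rw [pow_succ, h, pow_succ]
    simp only [mul_assoc, inv_mul_cancel_left]

theorem pelt {G : Type*} [Group G] {p : ℕ} {T : Subgroup G} (hT : IsPGroup p T) {g : G}
    (hg : g ∈ T) : ∃ j : ℕ, g ^ p ^ j = 1 := by
  obtain ⟨j, hj⟩ := hT ⟨g, hg⟩
  refine ⟨j, ?_⟩
  have := congrArg Subtype.val hj
  simpa using this

theorem odd_sq {G : Type*} [Group G] {p : ℕ} [Fact p.Prime] (hp : p ≠ 2) {g : G} {j : ℕ}
    (h1 : g ^ p ^ j = 1) (h2 : g * g = 1) : g = 1 := by
  have hd1 : orderOf g ∣ p ^ j := orderOf_dvd_of_pow_eq_one h1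
  have hd2 : orderOf g ∣ 2 := orderOf_dvd_of_pow_eq_one (by rw [pow_two]; exact h2)
  have hcop : Nat.Coprime (p ^ j) 2 := by
    apply Nat.Coprime.pow_left
    rw [Nat.coprime_primes (Fact.out : p.Prime) Nat.prime_two]
    exact hp
  have h3 : orderOf g = 1 := Nat.Coprime.eq_one_of_dvd (Nat.Coprime.coprime_dvd_left hd1 hcop) hd2
  exact orderOf_eq_one_iff.mp h3

def Rot (n : ℕ) : Subgroup (DihedralGroup n) where
  carrier := {d | ∃ i, d = DihedralGroup.r i}
  mul_mem' := by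
    rintro a b ⟨i, rfl⟩ ⟨j, rfl⟩
    exact ⟨i + j, DihedralGroup.r_mul_r i j⟩
  one_mem' := ⟨0, DihedralGroup.one_def⟩
  inv_mem' := by
    rintro a ⟨i, rfl⟩
    exact ⟨-i, rfl⟩

theorem mem_Rot {n : ℕ} {d : DihedralGroup n} :
    d ∈ Rot n ↔ ∃ i, d = DihedralGroup.r i := Iff.rfl

theorem cyc_comm {H : Type*} [Group H] [IsCyclic H] (a b : H) : a * b = b * a := by
  obtain ⟨g, hg⟩ := IsCyclic.exists_generator (α := H)
  obtain ⟨i, rfl⟩ := Subgroup.mem_zpowers_iff.mp (hg a)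
  obtain ⟨j, rfl⟩ := Subgroup.mem_zpowers_iff.mp (hg b)
  rw [← zpow_add, ← zpow_add, add_comm]

theorem mem_cent_iff {G : Type*} [Group G] (K : Subgroup G) (z : G) :
    z ∈ Subgroup.centralizer (K : Set G) ↔ ∀ s ∈ K, z * s * z⁻¹ = s := by
  rw [Subgroup.mem_centralizer_iff]
  constructor
  · intro h s hs
    rw [mul_inv_eq_iff_eq_mul]
    exact (h s hs).symm
  · intro h s hs
    have := h s hs
    rw [mul_inv_eq_iff_eq_mul] at this
    exact this.symm

theorem conj_mul_zpow {G : Type*} [Group G] {x u : G} (h : Commute x u) (s : G) (k : ℤ) :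
    x * (s * u ^ k) * x⁻¹ = x * s * x⁻¹ * u ^ k := by
  have h' : x⁻¹ * u ^ k = u ^ k * x⁻¹ := (h.zpow_right k).inv_left.eq
  rw [mul_assoc (x * s), h']
  simp only [mul_assoc]

def RP (G : Type*) [Group G] (p : ℕ) : Prop :=
  ∀ H : Subgroup G, (∀ S : Sylow p ↥H, (S : Subgroup ↥H).Normal) →
    (∀ (S : Sylow p ↥H) [(S : Subgroup ↥H).Normal], IsCyclic (↥H ⧸ (S : Subgroup ↥H))) →
    IsCyclic H ∨ (∃ n : ℕ, Nonempty (H ≃* DihedralGroup (p ^ n)))

theorem L1 {G : Type*} [Group G] [Finite G] {p : ℕ} [Fact p.Prime]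
    (hR : RP G p)
    (S₀ : Subgroup G) (hS₀ : IsPGroup p S₀) (y : G)
    (hy : y ∈ Subgroup.normalizer (S₀ : Set G))
    (hyp : ∀ (k : ℤ) (j : ℕ), (y ^ k) ^ p ^ j ∈ S₀ → y ^ k ∈ S₀) :
    IsCyclic (SY S₀ y hy) ∨ (∃ n : ℕ, Nonempty (SY S₀ y hy ≃* DihedralGroup (p ^ n))) := by
  have hnorm : (S₀.subgroupOf (SY S₀ y hy)).Normal := by
    constructor
    intro n hn g
    rw [Subgroup.mem_subgroupOf] at hn ⊢
    obtain ⟨s, hs, k, hg⟩ := mem_SY.mp g.2
    have h1 : ((g * n * g⁻¹ : ↥(SY S₀ y hy)) : G) = s * (y ^ k * (n : G) * (y ^ k)⁻¹) * s⁻¹ := by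
      rw [Subgroup.coe_mul, Subgroup.coe_mul, Subgroup.coe_inv, hg]
      simp only [mul_inv_rev, mul_assoc]
    rw [h1]
    exact S₀.mul_mem (S₀.mul_mem hs (norm_zpow S₀ hy k hn)) (S₀.inv_mem hs)
  have hp0 : IsPGroup p (S₀.subgroupOf (SY S₀ y hy)) := hS₀.comap_subtype
  have hall : ∀ S : Sylow p ↥(SY S₀ y hy),
      (S : Subgroup ↥(SY S₀ y hy)) = S₀.subgroupOf (SY S₀ y hy) := by
    intro S
    apply le_antisymm
    · intro h hh
      rw [Subgroup.mem_subgroupOf]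
      obtain ⟨s, hs, k, hg⟩ := mem_SY.mp h.2
      obtain ⟨j, hj⟩ := pelt S.isPGroup' hh
      have hj' : (h : G) ^ p ^ j = 1 := by
        have := congrArg Subtype.val hj
        simpa using this
      obtain ⟨s', hs', hpow⟩ := pow_form S₀ (Subgroup.zpow_mem _ hy k) hs (p ^ j)
      rw [hg] at hj'
      rw [hj'] at hpow
      have h3 : (y ^ k) ^ p ^ j = s'⁻¹ := eq_inv_of_mul_eq_one_right hpow.symm
      have h4 : y ^ k ∈ S₀ := hyp k j (by rw [h3]; exact S₀.inv_mem hs')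
      rw [hg]
      exact S₀.mul_mem hs h4
    · have h1 : IsPGroup p ↥((S : Subgroup ↥(SY S₀ y hy)) ⊔ S₀.subgroupOf (SY S₀ y hy)) :=
        IsPGroup.to_sup_of_normal_right S.isPGroup' hp0
      have h2 := S.is_maximal' h1 le_sup_left
      rw [← h2]
      exact le_sup_right
  apply hR (SY S₀ y hy)
  · intro S
    rw [hall S]
    exact hnorm
  · intro S _
    rw [isCyclic_iff_exists_zpowers_eq_top]
    refine ⟨QuotientGroup.mk ⟨y, self_mem_SY S₀ y hy⟩, ?_⟩
    rw [Subgroup.eq_top_iff']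
    intro q
    obtain ⟨h, rfl⟩ := QuotientGroup.mk_surjective q
    obtain ⟨s, hs, k, hg⟩ := mem_SY.mp h.2
    rw [Subgroup.mem_zpowers_iff]
    refine ⟨k, ?_⟩
    rw [← QuotientGroup.mk_zpow, QuotientGroup.eq, hall S, Subgroup.mem_subgroupOf]
    have hc : ((((⟨y, self_mem_SY S₀ y hy⟩ : ↥(SY S₀ y hy)) ^ k)⁻¹ * h : ↥(SY S₀ y hy)) : G)
        = (y ^ k)⁻¹ * s * y ^ k := by
      rw [Subgroup.coe_mul, Subgroup.coe_inv, Subgroup.coe_zpow, hg, mul_assoc]
    rw [hc]
    exact norm_zpow' S₀ hy k hs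

theorem Dich {G : Type*} [Group G] [Finite G] {p : ℕ} [Fact p.Prime] (hp : p ≠ 2)
    (hR : RP G p)
    (Q : Subgroup G) (hQ : IsPGroup p Q) (x : G) (hx : x ∈ Subgroup.normalizer (Q : Set G)) :
    (∀ s ∈ Q, x * s * x⁻¹ = s) ∨ (x * x = 1 ∧ ∀ s ∈ Q, x * s * x⁻¹ = s⁻¹) := by
  have hpr : p.Prime := Fact.out
  have hox : orderOf x ≠ 0 := (orderOf_pos x).ne'
  obtain ⟨a, m, hm, hom⟩ := Nat.exists_eq_pow_mul_and_not_dvd hox p hpr.ne_one
  have hu : x ^ m ∈ Subgroup.normalizer (Q : Set G) := Subgroup.pow_mem _ hx m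
  have hupa : (x ^ m) ^ p ^ a = 1 := by
    rw [← pow_mul, mul_comm, ← hom]
    exact pow_orderOf_eq_one x
  have hxu : Commute x (x ^ m) := (Commute.refl x).pow_right m
  have hS₀ : IsPGroup p (SY Q (x ^ m) hu) := by
    rintro ⟨g, hg⟩
    obtain ⟨s, hs, k, rfl⟩ := mem_SY.mp hg
    obtain ⟨s', hs', h1⟩ := pow_form Q (Subgroup.zpow_mem _ hu k) hs (p ^ a)
    have h2 : ((x ^ m) ^ k) ^ p ^ a = 1 := by
      rw [← zpow_natCast, ← zpow_mul, mul_comm, zpow_mul, zpow_natCast, hupa, one_zpow]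
    rw [h2, mul_one] at h1
    obtain ⟨b, hb⟩ := pelt hQ hs'
    refine ⟨a + b, ?_⟩
    apply Subtype.ext
    show (s * (x ^ m) ^ k) ^ p ^ (a + b) = 1
    rw [pow_add, pow_mul, h1, hb]
  have hxn : x ∈ Subgroup.normalizer ((SY Q (x ^ m) hu : Subgroup G) : Set G) := by
    apply Subgroup.mem_normalizer_fintype
    intro n hn
    obtain ⟨s, hs, k, rfl⟩ := mem_SY.mp hn
    exact mem_SY.mpr ⟨x * s * x⁻¹, (Subgroup.mem_normalizer_iff.mp hx s).mp hs, k,
      conj_mul_zpow hxu s k⟩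
  have hyp : ∀ (k : ℤ) (j : ℕ), (x ^ k) ^ p ^ j ∈ SY Q (x ^ m) hu → x ^ k ∈ SY Q (x ^ m) hu := by
    intro k j hkj
    obtain ⟨b, hb⟩ := pelt hS₀ hkj
    have h1 : x ^ (k * ((p ^ (j + b) : ℕ) : ℤ)) = 1 := by
      rw [zpow_mul, zpow_natCast, pow_add, pow_mul]
      exact hb
    have h2 : ((orderOf x : ℕ) : ℤ) ∣ k * ((p ^ (j + b) : ℕ) : ℤ) :=
      orderOf_dvd_iff_zpow_eq_one.mpr h1
    have h3 : (m : ℤ) ∣ k * ((p ^ (j + b) : ℕ) : ℤ) := by
      refine dvd_trans ?_ h2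
      rw [hom]
      exact ⟨((p ^ a : ℕ) : ℤ), by push_cast; ring⟩
    have hcop : IsCoprime (m : ℤ) ((p ^ (j + b) : ℕ) : ℤ) := by
      rw [Nat.isCoprime_iff_coprime]
      exact Nat.Coprime.pow_right _ ((Nat.Prime.coprime_iff_not_dvd hpr).mpr hm).symm
    obtain ⟨c, hc⟩ := hcop.dvd_of_dvd_mul_right h3
    refine mem_SY.mpr ⟨1, Q.one_mem, c, ?_⟩
    rw [one_mul, hc, zpow_mul, zpow_natCast]
  have hxH : x ∈ SY (SY Q (x ^ m) hu) x hxn := self_mem_SY _ _ _
  rcases L1 hR (SY Q (x ^ m) hu) hS₀ x hxn hyp with hcyc | ⟨n, ⟨e⟩⟩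
  · left
    intro s hs
    have hsH : s ∈ SY (SY Q (x ^ m) hu) x hxn := le_SY _ _ _ (le_SY _ _ _ hs)
    haveI := hcyc
    have hc := cyc_comm (⟨x, hxH⟩ : ↥(SY (SY Q (x ^ m) hu) x hxn)) ⟨s, hsH⟩
    have hc' : x * s = s * x := congrArg Subtype.val hc
    rw [hc', mul_inv_cancel_right]
  · right
    have hrot : ∀ (s : G) (hs : s ∈ SY (SY Q (x ^ m) hu) x hxn), s ∈ SY Q (x ^ m) hu →
        e ⟨s, hs⟩ ∈ Rot (p ^ n) := by
      intro s hs hs0
      rcases hes : e ⟨s, hs⟩ with i | i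
      · exact mem_Rot.mpr ⟨i, rfl⟩
      · exfalso
        have h1 : e (⟨s, hs⟩ * ⟨s, hs⟩) = 1 := by
          rw [map_mul, hes, DihedralGroup.sr_mul_self]
        have h2 : (⟨s, hs⟩ * ⟨s, hs⟩ : ↥(SY (SY Q (x ^ m) hu) x hxn)) = 1 := by
          apply e.injective
          rw [h1, map_one]
        have h3 : s * s = 1 := congrArg Subtype.val h2
        obtain ⟨j, hj⟩ := pelt hS₀ hs0
        have h4 : s = 1 := odd_sq hp hj h3
        have h5 : (⟨s, hs⟩ : ↥(SY (SY Q (x ^ m) hu) x hxn)) = 1 := Subtype.ext h4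
        rw [h5, map_one, DihedralGroup.one_def] at hes
        cases hes
    have hex : ∃ i, e ⟨x, hxH⟩ = DihedralGroup.sr i := by
      rcases hes : e ⟨x, hxH⟩ with i | i
      · exfalso
        have hall : ∀ h : ↥(SY (SY Q (x ^ m) hu) x hxn), e h ∈ Rot (p ^ n) := by
          intro h
          obtain ⟨s, hs, k, hk⟩ := mem_SY.mp h.2
          have h1 : h = ⟨s, le_SY _ _ _ hs⟩ * ⟨x, hxH⟩ ^ k := by
            apply Subtype.ext
            rw [Subgroup.coe_mul, Subgroup.coe_zpow]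
            exact hk
          rw [h1, map_mul, map_zpow]
          exact (Rot (p ^ n)).mul_mem (hrot s _ hs)
            ((Rot (p ^ n)).zpow_mem (mem_Rot.mpr ⟨i, hes⟩) k)
        obtain ⟨h, hh⟩ := e.surjective (DihedralGroup.sr 0)
        obtain ⟨i', hi'⟩ := mem_Rot.mp (hall h)
        rw [hh] at hi'
        cases hi'
      · exact ⟨i, rfl⟩
    obtain ⟨i, hi⟩ := hex
    have hxx : x * x = 1 := by
      have h1 : e (⟨x, hxH⟩ * ⟨x, hxH⟩) = 1 := by
        rw [map_mul, hi, DihedralGroup.sr_mul_self]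
      have h2 : (⟨x, hxH⟩ * ⟨x, hxH⟩ : ↥(SY (SY Q (x ^ m) hu) x hxn)) = 1 := by
        apply e.injective
        rw [h1, map_one]
      exact congrArg Subtype.val h2
    refine ⟨hxx, fun s hs => ?_⟩
    have hsH : s ∈ SY (SY Q (x ^ m) hu) x hxn := le_SY _ _ _ (le_SY _ _ _ hs)
    obtain ⟨j, hj⟩ := mem_Rot.mp (hrot s hsH (le_SY _ _ _ hs))
    have h1 : e (⟨x, hxH⟩ * ⟨s, hsH⟩ * ⟨x, hxH⟩ * ⟨s, hsH⟩) = 1 := by
      rw [map_mul, map_mul, map_mul, hi, hj, DihedralGroup.sr_mul_r, DihedralGroup.sr_mul_sr,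
        DihedralGroup.r_mul_r, DihedralGroup.one_def]
      congr 1
      ring
    have h2 : (⟨x, hxH⟩ * ⟨s, hsH⟩ * ⟨x, hxH⟩ * ⟨s, hsH⟩ : ↥(SY (SY Q (x ^ m) hu) x hxn)) = 1 := by
      apply e.injective
      rw [h1, map_one]
    have h3 : x * s * x * s = 1 := congrArg Subtype.val h2
    have hxinv : x⁻¹ = x := inv_eq_of_mul_eq_one_right hxx
    rw [hxinv]
    exact eq_inv_of_mul_eq_one_left h3

theorem fwd {G : Type*} [Group G] [Finite G] {p : ℕ} [Fact p.Prime] (hp : p ≠ 2) (P : Sylow p G)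
    (hR : RP G p) :
    (IsCyclic P ∧
      (Subgroup.normalizer ((P : Subgroup G) : Set G) = Subgroup.centralizer ((P : Subgroup G) : Set G) ∨
       ((Subgroup.centralizer ((P : Subgroup G) : Set G)).relIndex (Subgroup.normalizer ((P : Subgroup G) : Set G)) = 2 ∧
        ∀ Q : Subgroup G, Q ≤ P → Nat.card Q = p →
          IsMulCommutative ↥(Subgroup.centralizer (Q : Set G)) ∧
          ∀ x : G, x ∈ Subgroup.normalizer (Q : Set G) → x ∉ Subgroup.centralizer (Q : Set G) →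
            orderOf x = 2 ∧ ∀ c : G, c ∈ Subgroup.centralizer (Q : Set G) → x * c * x⁻¹ = c⁻¹))) := by
  have hpr : p.Prime := Fact.out
  have hPp : IsPGroup p (P : Subgroup G) := P.isPGroup'
  refine ⟨?_, ?_⟩
  · have h1 : (1 : G) ∈ Subgroup.normalizer ((P : Subgroup G) : Set G) := Subgroup.one_mem _
    have hH : SY (P : Subgroup G) 1 h1 = (P : Subgroup G) := by
      apply le_antisymm
      · intro g hg
        obtain ⟨s, hs, k, rfl⟩ := mem_SY.mp hg
        rw [one_zpow, mul_one]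
        exact hs
      · exact le_SY _ _ _
    have h2 := L1 hR (P : Subgroup G) hPp 1 h1
      (fun k j _ => by rw [one_zpow]; exact Subgroup.one_mem _)
    rw [hH] at h2
    rcases h2 with h | ⟨n, ⟨e⟩⟩
    · exact h
    · exfalso
      obtain ⟨a, ha⟩ := IsPGroup.exists_card_eq hPp
      have hc := Nat.card_congr e.toEquiv
      rw [ha, DihedralGroup.nat_card] at hc
      have h2 : 2 ∣ p ^ a := ⟨p ^ n, hc⟩
      have h3 : 2 ∣ p := Nat.Prime.dvd_of_dvd_pow Nat.prime_two h2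
      exact hp ((Nat.prime_dvd_prime_iff_eq Nat.prime_two hpr).mp h3).symm
  · by_cases hall : ∀ x ∈ Subgroup.normalizer ((P : Subgroup G) : Set G),
        ∀ s ∈ (P : Subgroup G), x * s * x⁻¹ = s
    · left
      apply le_antisymm
      · intro x hx
        exact (mem_cent_iff _ x).mpr (hall x hx)
      · exact Subgroup.centralizer_le_normalizer _
    · right
      obtain ⟨t, ht, s₁, hs₁, hts⟩ : ∃ t ∈ Subgroup.normalizer ((P : Subgroup G) : Set G),
          ∃ s₁ ∈ (P : Subgroup G), t * s₁ * t⁻¹ ≠ s₁ := by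
        by_contra hcon
        apply hall
        intro x hx s hs
        by_contra h'
        exact hcon ⟨x, hx, s, hs, h'⟩
      have hDP := Dich hp hR (P : Subgroup G) hPp
      have htinv : t * t = 1 ∧ ∀ s ∈ (P : Subgroup G), t * s * t⁻¹ = s⁻¹ := by
        rcases hDP t ht with h | h
        · exact absurd (h s₁ hs₁) hts
        · exact h
      have hs₁ne : s₁⁻¹ ≠ s₁ := by
        rw [← htinv.2 s₁ hs₁]
        exact hts
      have hnot : ∀ b : G, (∀ s ∈ (P : Subgroup G), b * s * b⁻¹ = s) →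
          (∀ s ∈ (P : Subgroup G), b * s * b⁻¹ = s⁻¹) → False := by
        intro b h1 h2
        exact hs₁ne ((h2 s₁ hs₁).symm.trans (h1 s₁ hs₁))
      refine ⟨?_, ?_⟩
      · show ((Subgroup.centralizer ((P : Subgroup G) : Set G)).subgroupOf
          (Subgroup.normalizer ((P : Subgroup G) : Set G))).index = 2
        rw [Subgroup.index_eq_two_iff]
        refine ⟨⟨t, ht⟩, ?_⟩
        intro b
        have hbt : ((b * ⟨t, ht⟩ : ↥(Subgroup.normalizer ((P : Subgroup G) : Set G))) : G)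
            = (b : G) * t := rfl
        have hconj : ∀ s : G, (b : G) * t * s * ((b : G) * t)⁻¹ = (b : G) * (t * s * t⁻¹) * (b : G)⁻¹ := by
          intro s
          group
        unfold Xor
        rw [Subgroup.mem_subgroupOf, Subgroup.mem_subgroupOf, hbt, mem_cent_iff, mem_cent_iff]
        rcases hDP b b.2 with h | h
        · right
          refine ⟨h, ?_⟩
          intro h'
          apply hnot ((b : G) * t) h'
          intro s hs
          rw [hconj, htinv.2 s hs]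
          exact h s⁻¹ (Subgroup.inv_mem _ hs)
        · left
          refine ⟨?_, ?_⟩
          · intro s hs
            rw [hconj, htinv.2 s hs, h.2 s⁻¹ (Subgroup.inv_mem _ hs), inv_inv]
          · intro h'
            exact hnot (b : G) h' h.2
      · intro Q hQP hQcard
        have hQp : IsPGroup p Q := hPp.to_le hQP
        have hDQ := Dich hp hR Q hQp
        have htN : t ∈ Subgroup.normalizer (Q : Set G) := by
          apply Subgroup.mem_normalizer_fintype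
          intro s hs
          rw [htinv.2 s (hQP hs)]
          exact Q.inv_mem hs
        obtain ⟨q, hq, hq1⟩ : ∃ q ∈ Q, q ≠ 1 := by
          by_contra hcon
          have hbot : Q = ⊥ := by
            rw [Subgroup.eq_bot_iff_forall]
            intro q hq
            by_contra h1
            exact hcon ⟨q, hq, h1⟩
          rw [hbot, Subgroup.card_bot] at hQcard
          exact hpr.ne_one hQcard.symm
        have htC : t ∉ Subgroup.centralizer (Q : Set G) := by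
          rw [mem_cent_iff]
          intro h
          have h1 : q⁻¹ = q := (htinv.2 q (hQP hq)).symm.trans (h q hq)
          obtain ⟨j, hj⟩ := pelt hQp hq
          exact hq1 (odd_sq hp hj (mul_eq_one_iff_inv_eq.mpr h1))
        have hA : ∀ x : G, x ∈ Subgroup.normalizer (Q : Set G) →
            x ∉ Subgroup.centralizer (Q : Set G) → x * x = 1 := by
          intro x hx hxC
          rcases hDQ x hx with h | h
          · exact absurd ((mem_cent_iff Q x).mpr h) hxC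
          · exact h.1
        have hB : ∀ x : G, x ∈ Subgroup.normalizer (Q : Set G) →
            x ∉ Subgroup.centralizer (Q : Set G) →
            ∀ c ∈ Subgroup.centralizer (Q : Set G), x * c * x⁻¹ = c⁻¹ := by
          intro x hx hxC c hc
          have hxx := hA x hx hxC
          have hxcN : x * c ∈ Subgroup.normalizer (Q : Set G) :=
            Subgroup.mul_mem _ hx (Subgroup.centralizer_le_normalizer _ hc)
          have hxcC : x * c ∉ Subgroup.centralizer (Q : Set G) := by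
            intro h
            apply hxC
            have := Subgroup.mul_mem _ h (Subgroup.inv_mem _ hc)
            rwa [mul_inv_cancel_right] at this
          have h2 := hA (x * c) hxcN hxcC
          have hxinv : x⁻¹ = x := inv_eq_of_mul_eq_one_right hxx
          rw [hxinv]
          exact eq_inv_of_mul_eq_one_left (by rw [mul_assoc]; exact h2)
        refine ⟨⟨⟨?_⟩⟩, ?_⟩
        · rintro ⟨c, hc⟩ ⟨d, hd⟩
          apply Subtype.ext
          show c * d = d * c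
          have h1 := hB t htN htC c hc
          have h2 := hB t htN htC d hd
          have h3 := hB t htN htC (c * d) (Subgroup.mul_mem _ hc hd)
          have h4 : t * (c * d) * t⁻¹ = c⁻¹ * d⁻¹ := by
            rw [← h1, ← h2]
            group
          rw [h4, mul_inv_rev] at h3
          have h5 : (c⁻¹ * d⁻¹)⁻¹ = (d⁻¹ * c⁻¹)⁻¹ := by rw [h3]
          rw [mul_inv_rev, mul_inv_rev, inv_inv, inv_inv] at h5
          exact h5.symm
        · intro x hx hxC
          refine ⟨?_, hB x hx hxC⟩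
          haveI : Fact (Nat.Prime 2) := ⟨Nat.prime_two⟩
          apply orderOf_eq_prime
          · rw [pow_two]
            exact hA x hx hxC
          · rintro rfl
            exact hxC (Subgroup.one_mem _)

theorem quot_order {K : Type*} [Group K] (S : Subgroup K) [S.Normal] (y₀ : K)
    (hdec : ∀ h : K, ∃ k : ℤ, (y₀ ^ k)⁻¹ * h ∈ S) :
    (∀ q : K ⧸ S, q ∈ Subgroup.zpowers (QuotientGroup.mk y₀ : K ⧸ S)) ∧
    orderOf (QuotientGroup.mk y₀ : K ⧸ S) = S.index := by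
  have hq : ∀ q : K ⧸ S, q ∈ Subgroup.zpowers (QuotientGroup.mk y₀ : K ⧸ S) := by
    intro q
    obtain ⟨h, rfl⟩ := QuotientGroup.mk_surjective q
    obtain ⟨k, hk⟩ := hdec h
    rw [Subgroup.mem_zpowers_iff]
    refine ⟨k, ?_⟩
    rw [← QuotientGroup.mk_zpow, QuotientGroup.eq]
    exact hk
  refine ⟨hq, ?_⟩
  rw [Subgroup.index_eq_card]
  exact orderOf_eq_card_of_forall_mem_zpowers hq

theorem cyc_case {K : Type*} [Group K] [Finite K] {p : ℕ} [Fact p.Prime] (S : Sylow p K)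
    [hSn : (S : Subgroup K).Normal] (s₀ y₀ : K) (hs₀ : s₀ ∈ (S : Subgroup K))
    (hgen : ∀ s ∈ (S : Subgroup K), s ∈ Subgroup.zpowers s₀)
    (hdec : ∀ h : K, ∃ k : ℤ, (y₀ ^ k)⁻¹ * h ∈ (S : Subgroup K))
    (hc : ∀ s ∈ (S : Subgroup K), y₀ * s = s * y₀) : IsCyclic K := by
  have hScomm : ∀ s ∈ (S : Subgroup K), ∀ s' ∈ (S : Subgroup K), s * s' = s' * s := by
    intro s hs s' hs'
    obtain ⟨i, rfl⟩ := Subgroup.mem_zpowers_iff.mp (hgen s hs)
    obtain ⟨j, rfl⟩ := Subgroup.mem_zpowers_iff.mp (hgen s' hs')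
    rw [← zpow_add, ← zpow_add, add_comm]
  have hcen : (S : Subgroup K) ≤ Subgroup.center K := by
    intro s hs
    rw [Subgroup.mem_center_iff]
    intro h
    obtain ⟨k, hk⟩ := hdec h
    have hyk : s * y₀ ^ k = y₀ ^ k * s := by
      have h0 : Commute y₀ s := hc s hs
      exact (h0.zpow_left k).eq.symm
    have h1 := hScomm s hs _ hk
    calc h * s = y₀ ^ k * ((y₀ ^ k)⁻¹ * h * s) := by group
      _ = y₀ ^ k * (s * ((y₀ ^ k)⁻¹ * h)) := by rw [h1]
      _ = (y₀ ^ k * s) * ((y₀ ^ k)⁻¹ * h) := by rw [mul_assoc]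
      _ = (s * y₀ ^ k) * ((y₀ ^ k)⁻¹ * h) := by rw [hyk]
      _ = s * h := by group
  obtain ⟨hq, hM⟩ := quot_order (S : Subgroup K) y₀ hdec
  haveI hqc : IsCyclic (K ⧸ (S : Subgroup K)) :=
    ⟨⟨_, fun q => Subgroup.mem_zpowers_iff.mp (hq q)⟩⟩
  have hKc : IsMulCommutative K :=
    MonoidHom.isMulCommutative_of_isCyclic_of_ker_le_center (QuotientGroup.mk' (S : Subgroup K))
      (by rw [QuotientGroup.ker_mk']; exact hcen)
  have hcomm : ∀ a b : K, a * b = b * a := fun a b => hKc.is_comm.comm a b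
  have hSz : (S : Subgroup K) = Subgroup.zpowers s₀ :=
    le_antisymm hgen ((Subgroup.zpowers_le).mpr hs₀)
  have hos : orderOf s₀ = Nat.card (S : Subgroup K) := by
    rw [hSz, Nat.card_zpowers]
  have hcop := Sylow.card_coprime_index S
  have h1 : orderOf ((QuotientGroup.mk y₀ : K ⧸ (S : Subgroup K)) ^ Nat.card (S : Subgroup K))
      = (S : Subgroup K).index := by
    rw [Nat.Coprime.orderOf_pow (by rw [hM]; exact hcop.symm), hM]
  have h2 : (S : Subgroup K).index ∣ orderOf (y₀ ^ Nat.card (S : Subgroup K)) := by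
    rw [← h1]
    have h0 := orderOf_map_dvd (QuotientGroup.mk' (S : Subgroup K)) (y₀ ^ Nat.card (S : Subgroup K))
    rw [map_pow] at h0
    exact h0
  have h3 : orderOf (y₀ ^ Nat.card (S : Subgroup K)) ∣ (S : Subgroup K).index := by
    apply orderOf_dvd_of_pow_eq_one
    rw [← pow_mul, Subgroup.card_mul_index, pow_card_eq_one']
  have h4 : orderOf (y₀ ^ Nat.card (S : Subgroup K)) = (S : Subgroup K).index :=
    Nat.dvd_antisymm h3 h2
  have h5 : orderOf (s₀ * y₀ ^ Nat.card (S : Subgroup K)) = Nat.card K := by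
    rw [Commute.orderOf_mul_eq_mul_orderOf_of_coprime (hcomm s₀ (y₀ ^ Nat.card (S : Subgroup K)))
      (by rw [hos, h4]; exact hcop), hos, h4, Subgroup.card_mul_index]
  exact isCyclic_of_orderOf_eq_card _ h5

theorem dih_case {K : Type*} [Group K] [Finite K] {p : ℕ} [Fact p.Prime] (S : Sylow p K)
    [hSn : (S : Subgroup K).Normal] (s₀ y₀ : K) (hs₀ : s₀ ∈ (S : Subgroup K))
    (hgen : ∀ s ∈ (S : Subgroup K), s ∈ Subgroup.zpowers s₀)
    (hdec : ∀ h : K, ∃ k : ℤ, (y₀ ^ k)⁻¹ * h ∈ (S : Subgroup K))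
    (hy₀ : y₀ ∉ (S : Subgroup K)) (hyy : y₀ * y₀ = 1) (hinv : y₀ * s₀ * y₀⁻¹ = s₀⁻¹) :
    ∃ n : ℕ, Nonempty (K ≃* DihedralGroup (p ^ n)) := by
  obtain ⟨n, hn⟩ := IsPGroup.exists_card_eq S.isPGroup'
  have hSz : (S : Subgroup K) = Subgroup.zpowers s₀ :=
    le_antisymm hgen ((Subgroup.zpowers_le).mpr hs₀)
  have hos : orderOf s₀ = p ^ n := by
    rw [← hn, hSz, Nat.card_zpowers]
  obtain ⟨hq, hM⟩ := quot_order (S : Subgroup K) y₀ hdec
  have hM2 : orderOf (QuotientGroup.mk y₀ : K ⧸ (S : Subgroup K)) = 2 := by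
    haveI : Fact (Nat.Prime 2) := ⟨Nat.prime_two⟩
    apply orderOf_eq_prime
    · rw [pow_two, ← QuotientGroup.mk_mul, hyy]
      rfl
    · rw [Ne, QuotientGroup.eq_one_iff]
      exact hy₀
  have hcard : Nat.card K = 2 * p ^ n := by
    rw [← Subgroup.card_mul_index (S : Subgroup K), hn, ← hM, hM2, mul_comm]
  refine ⟨n, Cfsg.Agent.Lib.Helper18.DihedralEquiv.dihedral_equiv (p ^ n)
    (pow_pos (Fact.out : p.Prime).pos n).ne' s₀ y₀ hos (by rw [pow_two]; exact hyy) hinv ?_ hcard⟩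
  rw [← hSz]
  exact hy₀

theorem frat {G : Type*} [Group G] [Finite G] {p : ℕ} [Fact p.Prime] (P : Sylow p G)
    (hPcomm : ∀ a ∈ (P : Subgroup G), ∀ b ∈ (P : Subgroup G), a * b = b * a)
    (hNC : Subgroup.normalizer ((P : Subgroup G) : Set G)
      = Subgroup.centralizer ((P : Subgroup G) : Set G))
    (X : Set G) (hX : ∀ x ∈ X, x ∈ (P : Subgroup G)) (v : G) (hv : ∀ x ∈ X, v⁻¹ * x * v ∈ X) :
    ∀ x ∈ X, v * x = x * v := by
  have hPC : (P : Subgroup G) ≤ Subgroup.centralizer X := by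
    intro z hz
    rw [Subgroup.mem_centralizer_iff]
    intro x hx
    exact hPcomm x (hX x hx) z hz
  have hRp : IsPGroup p ((P : Subgroup G).map (MulAut.conj v).toMonoidHom) :=
    P.isPGroup'.map _
  have hRC : (P : Subgroup G).map (MulAut.conj v).toMonoidHom ≤ Subgroup.centralizer X := by
    intro r hr
    obtain ⟨z, hz, rfl⟩ := Subgroup.mem_map.mp hr
    rw [Subgroup.mem_centralizer_iff]
    intro x hx
    have h1 := hPcomm _ (hX _ (hv x hx)) z hz
    show x * (v * z * v⁻¹) = v * z * v⁻¹ * x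
    calc x * (v * z * v⁻¹) = v * (v⁻¹ * x * v * z) * v⁻¹ := by group
      _ = v * (z * (v⁻¹ * x * v)) * v⁻¹ := by rw [h1]
      _ = v * z * v⁻¹ * x := by group
  have hR' : IsPGroup p (((P : Subgroup G).map (MulAut.conj v).toMonoidHom).subgroupOf
      (Subgroup.centralizer X)) := hRp.comap_subtype
  obtain ⟨Q₁, hQ₁⟩ := hR'.exists_le_sylow
  obtain ⟨c, hc⟩ := Cfsg.Agent.S4196.sylow_conj (P.subtype hPC) Q₁
  have hwN : (c : G)⁻¹ * v ∈ Subgroup.normalizer ((P : Subgroup G) : Set G) := by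
    apply Subgroup.mem_normalizer_fintype
    intro n hn
    have hmem : v * n * v⁻¹ ∈ (P : Subgroup G).map (MulAut.conj v).toMonoidHom :=
      Subgroup.mem_map.mpr ⟨n, hn, rfl⟩
    have hmem' : (⟨v * n * v⁻¹, hRC hmem⟩ : ↥(Subgroup.centralizer X)) ∈ (Q₁ : Subgroup _) :=
      hQ₁ (Subgroup.mem_subgroupOf.mpr hmem)
    obtain ⟨z, hz, hzy⟩ := hc _ hmem'
    have hz' : (z : G) ∈ (P : Subgroup G) := by
      have hz2 : z ∈ ((P.subtype hPC : Sylow p ↥(Subgroup.centralizer X)) :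
          Subgroup ↥(Subgroup.centralizer X)) := hz
      rw [Sylow.coe_subtype, Subgroup.mem_subgroupOf] at hz2
      exact hz2
    have h1 : v * n * v⁻¹ = (c : G) * (z : G) * (c : G)⁻¹ := congrArg Subtype.val hzy
    have h2 : (c : G)⁻¹ * v * n * ((c : G)⁻¹ * v)⁻¹ = (z : G) := by
      calc (c : G)⁻¹ * v * n * ((c : G)⁻¹ * v)⁻¹ = (c : G)⁻¹ * (v * n * v⁻¹) * (c : G) := by group
        _ = (c : G)⁻¹ * ((c : G) * (z : G) * (c : G)⁻¹) * (c : G) := by rw [h1]
        _ = (z : G) := by group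
    rw [h2]
    exact hz'
  rw [hNC] at hwN
  intro x hx
  have hwx : x * ((c : G)⁻¹ * v) = (c : G)⁻¹ * v * x :=
    (Subgroup.mem_centralizer_iff.mp hwN) x (hX x hx)
  have hcx : x * (c : G) = (c : G) * x := (Subgroup.mem_centralizer_iff.mp c.2) x hx
  calc v * x = (c : G) * ((c : G)⁻¹ * v * x) := by group
    _ = (c : G) * (x * ((c : G)⁻¹ * v)) := by rw [hwx]
    _ = ((c : G) * x) * ((c : G)⁻¹ * v) := by rw [mul_assoc]
    _ = (x * (c : G)) * ((c : G)⁻¹ * v) := by rw [hcx]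
    _ = x * v := by group

theorem zpow_pow_comm {G : Type*} [Group G] (a : G) (j : ℤ) (n : ℕ) :
    (a ^ j) ^ n = (a ^ n) ^ j := by
  rw [← zpow_natCast, ← zpow_mul, mul_comm, zpow_mul, zpow_natCast]

theorem bwd {G : Type*} [Group G] [Finite G] {p : ℕ} [Fact p.Prime] (P : Sylow p G)
    (hcyc : IsCyclic (P : Subgroup G))
    (hcond : Subgroup.normalizer ((P : Subgroup G) : Set G)
        = Subgroup.centralizer ((P : Subgroup G) : Set G) ∨
       (∀ Q : Subgroup G, Q ≤ P → Nat.card Q = p →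
          IsMulCommutative ↥(Subgroup.centralizer (Q : Set G)) ∧
          ∀ x : G, x ∈ Subgroup.normalizer (Q : Set G) → x ∉ Subgroup.centralizer (Q : Set G) →
            orderOf x = 2 ∧ ∀ c : G, c ∈ Subgroup.centralizer (Q : Set G) → x * c * x⁻¹ = c⁻¹))
    (H : Subgroup G) (hN : ∀ S : Sylow p ↥H, (S : Subgroup ↥H).Normal)
    (hCq : ∀ (S : Sylow p ↥H) [(S : Subgroup ↥H).Normal], IsCyclic (↥H ⧸ (S : Subgroup ↥H))) :
    IsCyclic H ∨ (∃ n : ℕ, Nonempty (H ≃* DihedralGroup (p ^ n))) := by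
  have hpr : p.Prime := Fact.out
  obtain ⟨S⟩ := (inferInstance : Nonempty (Sylow p ↥H))
  haveI hSn : (S : Subgroup ↥H).Normal := hN S
  haveI hSc : IsCyclic (↥H ⧸ (S : Subgroup ↥H)) := hCq S
  have hSG : IsPGroup p ((S : Subgroup ↥H).map H.subtype) := S.isPGroup'.map H.subtype
  obtain ⟨P', hP'⟩ := hSG.exists_le_sylow
  obtain ⟨g, hg⟩ := Cfsg.Agent.S4196.sylow_conj P P'
  obtain ⟨c, hconj⟩ : ∃ c : G, ∀ s : ↥H, s ∈ (S : Subgroup ↥H) →
      c * (s : G) * c⁻¹ ∈ (P : Subgroup G) := by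
    refine ⟨g⁻¹, ?_⟩
    intro s hs
    obtain ⟨z, hz, hzy⟩ := hg (s : G) (hP' (Subgroup.mem_map_of_mem H.subtype hs))
    rw [hzy]
    have h1 : g⁻¹ * (g * z * g⁻¹) * g⁻¹⁻¹ = z := by group
    rw [h1]
    exact hz
  haveI : IsCyclic ↥(P : Subgroup G) := hcyc
  have hPcomm : ∀ a ∈ (P : Subgroup G), ∀ b ∈ (P : Subgroup G), a * b = b * a := by
    intro a ha b hb
    exact congrArg Subtype.val (cyc_comm (⟨a, ha⟩ : ↥(P : Subgroup G)) ⟨b, hb⟩)
  have hcj_inj : ∀ u v : G, c * u * c⁻¹ = c * v * c⁻¹ → u = v :=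
    fun u v h => mul_left_cancel (mul_right_cancel h)
  have hScyc : IsCyclic ↥(S : Subgroup ↥H) := by
    let φ : ↥(S : Subgroup ↥H) →* ↥(P : Subgroup G) :=
      { toFun := fun s => ⟨c * ((s : ↥H) : G) * c⁻¹, hconj s.1 s.2⟩
        map_one' := by
          apply Subtype.ext
          show c * (1 : G) * c⁻¹ = 1
          group
        map_mul' := by
          intro a b
          apply Subtype.ext
          show c * (((a : ↥H) : G) * ((b : ↥H) : G)) * c⁻¹
            = c * ((a : ↥H) : G) * c⁻¹ * (c * ((b : ↥H) : G) * c⁻¹)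
          group }
    apply isCyclic_of_injective φ
    intro a b hab
    have h1 : c * ((a : ↥H) : G) * c⁻¹ = c * ((b : ↥H) : G) * c⁻¹ := congrArg Subtype.val hab
    exact Subtype.ext (Subtype.ext (hcj_inj _ _ h1))
  obtain ⟨s₀', hs₀'⟩ := IsCyclic.exists_generator (α := ↥(S : Subgroup ↥H))
  have hgen : ∀ s ∈ (S : Subgroup ↥H), s ∈ Subgroup.zpowers (s₀' : ↥H) := by
    intro s hs
    obtain ⟨i, hi⟩ := Subgroup.mem_zpowers_iff.mp (hs₀' ⟨s, hs⟩)
    rw [Subgroup.mem_zpowers_iff]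
    refine ⟨i, ?_⟩
    rw [← Subgroup.coe_zpow]
    exact congrArg Subtype.val hi
  obtain ⟨yb, hyb⟩ := IsCyclic.exists_generator (α := ↥H ⧸ (S : Subgroup ↥H))
  obtain ⟨y₀, rfl⟩ := QuotientGroup.mk_surjective yb
  have hdec : ∀ h : ↥H, ∃ k : ℤ, (y₀ ^ k)⁻¹ * h ∈ (S : Subgroup ↥H) := by
    intro h
    obtain ⟨k, hk⟩ := Subgroup.mem_zpowers_iff.mp (hyb (QuotientGroup.mk h))
    refine ⟨k, ?_⟩
    rw [← QuotientGroup.mk_zpow, QuotientGroup.eq] at hk
    exact hk
  by_cases hc : ∀ s ∈ (S : Subgroup ↥H), y₀ * s = s * y₀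
  · left
    exact cyc_case S (s₀' : ↥H) y₀ s₀'.2 hgen hdec hc
  · right
    obtain ⟨s₁, hs₁, hs₁y⟩ : ∃ s₁ ∈ (S : Subgroup ↥H), y₀ * s₁ ≠ s₁ * y₀ := by
      by_contra hcon
      apply hc
      intro s hs
      by_contra h'
      exact hcon ⟨s, hs, h'⟩
    have hy₀S : y₀ ∉ (S : Subgroup ↥H) := by
      intro h
      obtain ⟨i, hi⟩ := Subgroup.mem_zpowers_iff.mp (hgen y₀ h)
      obtain ⟨j, hj⟩ := Subgroup.mem_zpowers_iff.mp (hgen s₁ hs₁)
      apply hs₁y
      rw [← hi, ← hj, ← zpow_add, ← zpow_add, add_comm]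
    have htrans : (∀ s : ↥H, s ∈ (S : Subgroup ↥H) →
        (c * (y₀ : G) * c⁻¹) * (c * (s : G) * c⁻¹)
          = (c * (s : G) * c⁻¹) * (c * (y₀ : G) * c⁻¹)) → False := by
      intro h
      apply hs₁y
      apply Subtype.ext
      show (y₀ : G) * (s₁ : G) = (s₁ : G) * (y₀ : G)
      apply hcj_inj
      have h1 := h s₁ hs₁
      calc c * ((y₀ : G) * (s₁ : G)) * c⁻¹
          = (c * (y₀ : G) * c⁻¹) * (c * (s₁ : G) * c⁻¹) := by group
        _ = (c * (s₁ : G) * c⁻¹) * (c * (y₀ : G) * c⁻¹) := h1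
        _ = c * ((s₁ : G) * (y₀ : G)) * c⁻¹ := by group
    have key : y₀ * y₀ = 1 ∧ y₀ * (s₀' : ↥H) * y₀⁻¹ = (s₀' : ↥H)⁻¹ := by
      rcases hcond with hNC | hQ
      · exfalso
        apply htrans
        have hfr := frat P hPcomm hNC
          {z | ∃ s : ↥H, s ∈ (S : Subgroup ↥H) ∧ z = c * (s : G) * c⁻¹}
          (by
            rintro x ⟨s, hs, rfl⟩
            exact hconj s hs)
          (c * (y₀ : G) * c⁻¹)
          (by
            rintro x ⟨s, hs, rfl⟩
            refine ⟨y₀⁻¹ * s * y₀, ?_, ?_⟩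
            · have h0 := hSn.conj_mem s hs y₀⁻¹
              rwa [inv_inv] at h0
            · show (c * (y₀ : G) * c⁻¹)⁻¹ * (c * (s : G) * c⁻¹) * (c * (y₀ : G) * c⁻¹)
                = c * ((y₀ : G)⁻¹ * (s : G) * (y₀ : G)) * c⁻¹
              group)
        intro s hs
        exact hfr _ ⟨s, hs, rfl⟩
      · have ha'P : c * ((s₀' : ↥H) : G) * c⁻¹ ∈ (P : Subgroup G) := hconj s₀'.1 s₀'.2
        have ha'1 : c * ((s₀' : ↥H) : G) * c⁻¹ ≠ 1 := by
          intro h
          have h1 : ((s₀' : ↥H) : G) = 1 := conj_eq_one_iff.mp h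
          have h2 : (s₀' : ↥H) = 1 := Subtype.ext h1
          obtain ⟨j, hj⟩ := Subgroup.mem_zpowers_iff.mp (hgen s₁ hs₁)
          rw [h2, one_zpow] at hj
          apply hs₁y
          rw [← hj, one_mul, mul_one]
        obtain ⟨j₀, hj₀⟩ := pelt P.isPGroup' ha'P
        obtain ⟨n', -, hn'⟩ := (Nat.dvd_prime_pow hpr).mp (orderOf_dvd_of_pow_eq_one hj₀)
        have hn'0 : n' ≠ 0 := by
          rintro rfl
          rw [pow_zero, orderOf_eq_one_iff] at hn'
          exact ha'1 hn'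
        obtain ⟨m, rfl⟩ := Nat.exists_eq_succ_of_ne_zero hn'0
        have hqo : orderOf ((c * ((s₀' : ↥H) : G) * c⁻¹) ^ p ^ m) = p := by
          rw [orderOf_pow_of_dvd (pow_pos hpr.pos m).ne'
            (by rw [hn']; exact pow_dvd_pow p (Nat.le_succ m)), hn', pow_succ,
            Nat.mul_div_cancel_left _ (pow_pos hpr.pos m)]
        have hqP : (c * ((s₀' : ↥H) : G) * c⁻¹) ^ p ^ m ∈ (P : Subgroup G) :=
          Subgroup.pow_mem _ ha'P _
        have hQP : Subgroup.zpowers ((c * ((s₀' : ↥H) : G) * c⁻¹) ^ p ^ m) ≤ (P : Subgroup G) :=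
          Subgroup.zpowers_le.mpr hqP
        have hQcard : Nat.card (Subgroup.zpowers ((c * ((s₀' : ↥H) : G) * c⁻¹) ^ p ^ m)) = p := by
          rw [Nat.card_zpowers, hqo]
        obtain ⟨j, hj⟩ := Subgroup.mem_zpowers_iff.mp
          (hgen (y₀ * (s₀' : ↥H) * y₀⁻¹) (hSn.conj_mem _ s₀'.2 y₀))
        have hG : (y₀ : G) * ((s₀' : ↥H) : G) * (y₀ : G)⁻¹ = ((s₀' : ↥H) : G) ^ j := by
          have h0 := congrArg Subtype.val hj
          rw [Subgroup.coe_zpow] at h0
          exact h0.symm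
        have hy'a' : (c * (y₀ : G) * c⁻¹) * (c * ((s₀' : ↥H) : G) * c⁻¹) * (c * (y₀ : G) * c⁻¹)⁻¹
            = (c * ((s₀' : ↥H) : G) * c⁻¹) ^ j := by
          rw [conj_zpow, ← hG]
          group
        have hy'q : (c * (y₀ : G) * c⁻¹) * (c * ((s₀' : ↥H) : G) * c⁻¹) ^ p ^ m
            * (c * (y₀ : G) * c⁻¹)⁻¹ = ((c * ((s₀' : ↥H) : G) * c⁻¹) ^ p ^ m) ^ j := by
          rw [← conj_pow, hy'a', zpow_pow_comm]
        have hyN : c * (y₀ : G) * c⁻¹ ∈ Subgroup.normalizer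
            ((Subgroup.zpowers ((c * ((s₀' : ↥H) : G) * c⁻¹) ^ p ^ m) : Subgroup G) : Set G) := by
          apply Subgroup.mem_normalizer_fintype
          intro n hn
          obtain ⟨i, rfl⟩ := Subgroup.mem_zpowers_iff.mp hn
          rw [← conj_zpow, hy'q]
          exact Subgroup.zpow_mem _ (Subgroup.zpow_mem _ (Subgroup.mem_zpowers _) j) i
        have hPCQ : ∀ z ∈ (P : Subgroup G), z ∈ Subgroup.centralizer
            ((Subgroup.zpowers ((c * ((s₀' : ↥H) : G) * c⁻¹) ^ p ^ m) : Subgroup G) : Set G) := by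
          intro z hz
          rw [Subgroup.mem_centralizer_iff]
          intro n hn
          exact hPcomm n (hQP hn) z hz
        obtain ⟨hQcomm, hQinv⟩ := hQ _ hQP hQcard
        by_cases hyC : c * (y₀ : G) * c⁻¹ ∈ Subgroup.centralizer
            ((Subgroup.zpowers ((c * ((s₀' : ↥H) : G) * c⁻¹) ^ p ^ m) : Subgroup G) : Set G)
        · exfalso
          apply htrans
          intro s hs
          have h1 := hQcomm.is_comm.comm (⟨c * (y₀ : G) * c⁻¹, hyC⟩ : ↥(Subgroup.centralizer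
            ((Subgroup.zpowers ((c * ((s₀' : ↥H) : G) * c⁻¹) ^ p ^ m) : Subgroup G) : Set G)))
            ⟨c * (s : G) * c⁻¹, hPCQ _ (hconj s hs)⟩
          exact congrArg Subtype.val h1
        · obtain ⟨ho, hinvC⟩ := hQinv _ hyN hyC
          have hy'2 : (c * (y₀ : G) * c⁻¹) * (c * (y₀ : G) * c⁻¹) = 1 := by
            have h0 := pow_orderOf_eq_one (c * (y₀ : G) * c⁻¹)
            rw [ho, pow_two] at h0
            exact h0
          have hyy : (y₀ : G) * (y₀ : G) = 1 := by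
            have h1 : c * ((y₀ : G) * (y₀ : G)) * c⁻¹ = 1 := by
              calc c * ((y₀ : G) * (y₀ : G)) * c⁻¹
                  = (c * (y₀ : G) * c⁻¹) * (c * (y₀ : G) * c⁻¹) := by group
                _ = 1 := hy'2
            exact conj_eq_one_iff.mp h1
          have hinva := hinvC _ (hPCQ _ ha'P)
          have hinvG : (y₀ : G) * ((s₀' : ↥H) : G) * (y₀ : G)⁻¹ = ((s₀' : ↥H) : G)⁻¹ := by
            apply hcj_inj
            calc c * ((y₀ : G) * ((s₀' : ↥H) : G) * (y₀ : G)⁻¹) * c⁻¹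
                = c * (y₀ : G) * c⁻¹ * (c * ((s₀' : ↥H) : G) * c⁻¹) * (c * (y₀ : G) * c⁻¹)⁻¹ := by
                  group
              _ = (c * ((s₀' : ↥H) : G) * c⁻¹)⁻¹ := hinva
              _ = c * ((s₀' : ↥H) : G)⁻¹ * c⁻¹ := by group
          exact ⟨Subtype.ext hyy, Subtype.ext hinvG⟩
    exact dih_case S (s₀' : ↥H) y₀ s₀'.2 hgen hdec hy₀S key.1 key.2

/-- Let p be an odd prime and G a finite group with Sylow p-subgroup P. Say that G has restricted p-by-cyclic subgroups when every subgroup H of G whose Sylow p-subgroup is normal in H with cyclic quotient is itself cyclic or dihedral of order 2pⁿ for some n. Then G has restricted p-by-cyclic subgroups if and only if P is cyclic and one of the following holds: (1) N_G(P) = C_G(P); or (2) N_G(P)/C_G(P) has order 2 and, for the subgroup Q of order p of P, the centralizer C_G(Q) is abelian and every element of N_G(Q) outside C_G(Q) is an involution inverting every element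 of C_G(Q). -/
theorem result {G : Type*} [Group G] [Finite G] {p : ℕ}
    [Fact p.Prime] (hp : p ≠ 2) (P : Sylow p G) :
    (∀ H : Subgroup G, (∀ S : Sylow p ↥H, (S : Subgroup ↥H).Normal) →
        (∀ (S : Sylow p ↥H) [(S : Subgroup ↥H).Normal], IsCyclic (↥H ⧸ (S : Subgroup ↥H))) →
        IsCyclic H ∨ (∃ n : ℕ, Nonempty (H ≃* DihedralGroup (p ^ n)))) ↔
    (IsCyclic P ∧
      (Subgroup.normalizer ((P : Subgroup G) : Set G) = Subgroup.centralizer ((P : Subgroup G) : Set G) ∨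
       ((Subgroup.centralizer ((P : Subgroup G) : Set G)).relIndex (Subgroup.normalizer ((P : Subgroup G) : Set G)) = 2 ∧
        ∀ Q : Subgroup G, Q ≤ P → Nat.card Q = p →
          IsMulCommutative ↥(Subgroup.centralizer (Q : Set G)) ∧
          ∀ x : G, x ∈ Subgroup.normalizer (Q : Set G) → x ∉ Subgroup.centralizer (Q : Set G) →
            orderOf x = 2 ∧ ∀ c : G, c ∈ Subgroup.centralizer (Q : Set G) → x * c * x⁻¹ = c⁻¹))) := by
  constructor
  · intro hR
    exact fwd hp P hR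
  · rintro ⟨hcyc, hcond⟩ H hN hCq
    refine bwd P hcyc ?_ H hN hCq
    rcases hcond with h | ⟨_, h⟩
    · exact Or.inl h
    · exact Or.inr h

end Cfsg.Agent.S4082
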