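import Mathlib
import Cfsg.Statements.S4083
import Cfsg.Agent.S4082
import Cfsg.Agent.S0228
import Cfsg.Agent.S4196
import Cfsg.Agent.Lib.Helper18.DihedralEquiv

set_option autoImplicit false
open Cfsg

namespace Cfsg.Agent.S4083

open Cfsg.Agent.S4082 (SY mem_SY le_SY self_mem_SY pelt Rot mem_Rot)

theorem odd_cent_cyc {G : Type*} [Group G] [Finite G] (a u : G) (k m' : ℕ)
    (hoa : orderOf a = 2 ^ k) (hodd : Odd m') (hu : u ^ m' = 1)
    (hn : u ∈ Subgroup.normalizer ((Subgroup.zpowers a : Subgroup G) : Set G)) :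
    u * a = a * u := by
  have h1 : ((Subgroup.zpowers a).normalizerMonoidHom ⟨u, hn⟩) ^ m' = 1 := by
    rw [← map_pow]
    have h0 : (⟨u, hn⟩ : ↥(Subgroup.normalizer ((Subgroup.zpowers a : Subgroup G) : Set G))) ^ m'
        = 1 := Subtype.ext hu
    rw [h0, map_one]
  have h2 : orderOf ((Subgroup.zpowers a).normalizerMonoidHom ⟨u, hn⟩) ∣ m' :=
    orderOf_dvd_of_pow_eq_one h1
  have h3 : orderOf ((Subgroup.zpowers a).normalizerMonoidHom ⟨u, hn⟩)
      ∣ Nat.card (MulAut ↥(Subgroup.zpowers a)) := orderOf_dvd_natCard _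
  have h4 : Nat.card (MulAut ↥(Subgroup.zpowers a)) = (2 ^ k).totient := by
    rw [IsCyclic.card_mulAut, Nat.card_zpowers, hoa]
  have h5 : Nat.Coprime m' (2 ^ k).totient := by
    rcases Nat.eq_zero_or_pos k with h0 | h0
    · rw [h0, pow_zero, Nat.totient_one]
      exact Nat.coprime_one_right _
    · rw [Nat.totient_prime_pow Nat.prime_two h0]
      have h6 : (2 : ℕ) - 1 = 1 := rfl
      rw [h6, mul_one]
      exact Nat.Coprime.pow_right _ (Nat.coprime_two_right.mpr hodd)
  rw [h4] at h3
  have h6 : orderOf ((Subgroup.zpowers a).normalizerMonoidHom ⟨u, hn⟩) = 1 :=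
    Nat.Coprime.eq_one_of_dvd (Nat.Coprime.coprime_dvd_left h2 h5) h3
  have h7 : (⟨u, hn⟩ : ↥(Subgroup.normalizer ((Subgroup.zpowers a : Subgroup G) : Set G)))
      ∈ (Subgroup.zpowers a).normalizerMonoidHom.ker := by
    rw [MonoidHom.mem_ker]
    exact orderOf_eq_one_iff.mp h6
  rw [Subgroup.normalizerMonoidHom_ker, Subgroup.mem_subgroupOf] at h7
  exact ((Subgroup.mem_centralizer_iff.mp h7) a (Subgroup.mem_zpowers a)).symm

theorem mem_normal_sylow {K : Type*} [Group K] [Finite K] {p : ℕ} [Fact p.Prime] (S : Sylow p K)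
    [hSn : (S : Subgroup K).Normal] {x : K} {j : ℕ} (hx : x ^ p ^ j = 1) :
    x ∈ (S : Subgroup K) := by
  have h1 : IsPGroup p (Subgroup.zpowers x) := by
    rw [IsPGroup.iff_card, Nat.card_zpowers]
    obtain ⟨n, -, hn⟩ := (Nat.dvd_prime_pow Fact.out).mp (orderOf_dvd_of_pow_eq_one hx)
    exact ⟨n, hn⟩
  have h2 : IsPGroup p ↥((S : Subgroup K) ⊔ Subgroup.zpowers x) :=
    IsPGroup.to_sup_of_normal_left S.isPGroup' h1
  have h3 := S.is_maximal' h2 le_sup_left
  have h4 : x ∈ (S : Subgroup K) ⊔ Subgroup.zpowers x :=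
    (le_sup_right : Subgroup.zpowers x ≤ _) (Subgroup.mem_zpowers x)
  rw [h3] at h4
  exact h4

theorem cent_of_cyc_sylow {K : Type*} [Group K] [Finite K] (S : Sylow 2 K)
    [hSn : (S : Subgroup K).Normal] (hSc : IsCyclic ↥(S : Subgroup K)) (y s : K)
    (hs : s ∈ (S : Subgroup K)) : y * s = s * y := by
  by_cases h2 : 2 ∣ Nat.card K
  · have h1 := IsCyclic.normalizer_le_centralizer ((Nat.minFac_eq_two_iff _).mpr h2) (P := S) hSc
    have hyN : y ∈ Subgroup.normalizer ((S : Subgroup K) : Set K) := by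
      rw [Subgroup.normalizer_eq_top]
      exact Subgroup.mem_top y
    have h3 : y ∈ Subgroup.centralizer ((S : Subgroup K) : Set K) := h1 hyN
    exact ((Subgroup.mem_centralizer_iff.mp h3) s hs).symm
  · obtain ⟨n, hn⟩ := IsPGroup.exists_card_eq S.isPGroup'
    have h3 : Nat.card (S : Subgroup K) ∣ Nat.card K := Subgroup.card_subgroup_dvd_card _
    have hn0 : n = 0 := by
      by_contra h0
      apply h2
      refine dvd_trans ?_ h3
      rw [hn]
      exact dvd_pow_self 2 h0
    rw [hn0, pow_zero] at hn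
    have hbot := Subgroup.card_eq_one.mp hn
    rw [hbot] at hs
    rw [Subgroup.mem_bot.mp hs, mul_one, one_mul]

theorem quot_gen {K : Type*} [Group K] (S : Subgroup K) [S.Normal] [IsCyclic (K ⧸ S)] :
    ∃ y₀ : K, ∀ h : K, ∃ k : ℤ, (y₀ ^ k)⁻¹ * h ∈ S := by
  obtain ⟨yb, hyb⟩ := IsCyclic.exists_generator (α := K ⧸ S)
  obtain ⟨y₀, rfl⟩ := QuotientGroup.mk_surjective yb
  refine ⟨y₀, fun h => ?_⟩
  obtain ⟨k, hk⟩ := Subgroup.mem_zpowers_iff.mp (hyb (QuotientGroup.mk h))
  refine ⟨k, ?_⟩
  rw [← QuotientGroup.mk_zpow, QuotientGroup.eq] at hk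
  exact hk

theorem sub_gen {K : Type*} [Group K] (S : Subgroup K) (hSc : IsCyclic ↥S) :
    ∃ s₀ ∈ S, ∀ s ∈ S, s ∈ Subgroup.zpowers s₀ := by
  obtain ⟨s₀', hs₀'⟩ := IsCyclic.exists_generator (α := ↥S)
  refine ⟨(s₀' : K), s₀'.2, fun s hs => ?_⟩
  obtain ⟨i, hi⟩ := Subgroup.mem_zpowers_iff.mp (hs₀' ⟨s, hs⟩)
  rw [Subgroup.mem_zpowers_iff]
  refine ⟨i, ?_⟩
  rw [← Subgroup.coe_zpow]
  exact congrArg Subtype.val hi

theorem cyc_of_cyc_sylow {K : Type*} [Group K] [Finite K] (S : Sylow 2 K)
    [hSn : (S : Subgroup K).Normal] [hq : IsCyclic (K ⧸ (S : Subgroup K))]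
    (hSc : IsCyclic ↥(S : Subgroup K)) : IsCyclic K := by
  obtain ⟨s₀, hs₀, hgen⟩ := sub_gen (S : Subgroup K) hSc
  obtain ⟨y₀, hdec⟩ := quot_gen (S : Subgroup K)
  exact Cfsg.Agent.S4082.cyc_case S s₀ y₀ hs₀ hgen hdec
    (fun s hs => cent_of_cyc_sylow S hSc y₀ s hs)

theorem rot_cyclic (N : ℕ) : IsCyclic ↥(Rot N) := by
  refine ⟨⟨⟨DihedralGroup.r 1, mem_Rot.mpr ⟨1, rfl⟩⟩, ?_⟩⟩
  rintro ⟨x, hx⟩
  obtain ⟨i, rfl⟩ := mem_Rot.mp hx
  obtain ⟨k, rfl⟩ := ZMod.intCast_surjective i
  refine ⟨k, ?_⟩
  apply Subtype.ext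
  show (DihedralGroup.r 1 : DihedralGroup N) ^ k = DihedralGroup.r (k : ZMod N)
  exact DihedralGroup.r_one_zpow k

theorem sr_not_mem_Rot {N : ℕ} (i : ZMod N) : DihedralGroup.sr i ∉ Rot N := by
  intro h
  obtain ⟨j, hj⟩ := mem_Rot.mp h
  cases hj

theorem sub_dihedral {T : Type*} [Group T] [Finite T] {N : ℕ} (φ : T →* DihedralGroup N)
    (hφ : Function.Injective φ) (hnc : ¬ IsCyclic T) :
    ∃ a b : T, a ≠ 1 ∧ b * b = 1 ∧ b * a * b⁻¹ = a⁻¹ ∧ b ∉ Subgroup.zpowers a ∧
      Nat.card T = 2 * orderOf a ∧ (∀ s : T, s ∈ Subgroup.zpowers a ∨ ∃ i : ℤ, s = b * a ^ i) := by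
  have hAcyc : IsCyclic ↥((Rot N).comap φ) := by
    haveI := rot_cyclic N
    apply isCyclic_of_injective (φ.subgroupComap (Rot N))
    intro x y hxy
    have h1 : φ (x : T) = φ (y : T) := congrArg Subtype.val hxy
    exact Subtype.ext (hφ h1)
  obtain ⟨b, hb⟩ : ∃ b : T, φ b ∉ Rot N := by
    by_contra hcon
    apply hnc
    haveI := rot_cyclic N
    have hall : ∀ x : T, φ x ∈ Rot N := by
      intro x
      by_contra h'
      exact hcon ⟨x, h'⟩
    apply isCyclic_of_injective (φ.codRestrict (Rot N) hall)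
    intro x y hxy
    have h1 : φ x = φ y := congrArg Subtype.val hxy
    exact hφ h1
  obtain ⟨i₀, hi₀⟩ : ∃ i₀, φ b = DihedralGroup.sr i₀ := by
    rcases hes : φ b with i | i
    · exfalso
      apply hb
      rw [hes]
      exact mem_Rot.mpr ⟨i, rfl⟩
    · exact ⟨i, rfl⟩
  obtain ⟨a, haA, hagen⟩ := sub_gen ((Rot N).comap φ) hAcyc
  obtain ⟨j₀, hj₀⟩ := mem_Rot.mp (Subgroup.mem_comap.mp haA)
  have hbb : b * b = 1 := by
    apply hφ
    rw [map_mul, hi₀, DihedralGroup.sr_mul_self, map_one]
  have hbinv : b⁻¹ = b := inv_eq_of_mul_eq_one_right hbb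
  have hinv : b * a * b⁻¹ = a⁻¹ := by
    have h1 : b * a * b * a = 1 := by
      apply hφ
      rw [map_mul, map_mul, map_mul, hi₀, hj₀, DihedralGroup.sr_mul_r, DihedralGroup.sr_mul_sr,
        DihedralGroup.r_mul_r, map_one, DihedralGroup.one_def]
      congr 1
      ring
    rw [hbinv]
    exact eq_inv_of_mul_eq_one_left h1
  have hbA : b ∉ (Rot N).comap φ := fun h => hb (Subgroup.mem_comap.mp h)
  have hb' : b ∉ Subgroup.zpowers a := fun h => hbA ((Subgroup.zpowers_le.mpr haA) h)
  have hAz : (Rot N).comap φ = Subgroup.zpowers a :=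
    le_antisymm hagen (Subgroup.zpowers_le.mpr haA)
  have hidx : ((Rot N).comap φ).index = 2 := by
    rw [Subgroup.index_eq_two_iff]
    refine ⟨b, fun s => ?_⟩
    unfold Xor
    rw [Subgroup.mem_comap, Subgroup.mem_comap, map_mul, hi₀]
    rcases hes : φ s with i | i
    · right
      refine ⟨mem_Rot.mpr ⟨i, rfl⟩, ?_⟩
      rw [DihedralGroup.r_mul_sr]
      exact sr_not_mem_Rot _
    · left
      refine ⟨?_, sr_not_mem_Rot _⟩
      rw [DihedralGroup.sr_mul_sr]
      exact mem_Rot.mpr ⟨_, rfl⟩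
  have hcard : Nat.card T = 2 * orderOf a := by
    rw [← Subgroup.card_mul_index ((Rot N).comap φ), hidx, hAz, Nat.card_zpowers, mul_comm]
  have hdec : ∀ s : T, s ∈ Subgroup.zpowers a ∨ ∃ i : ℤ, s = b * a ^ i := by
    intro s
    rcases hes : φ s with i | i
    · left
      apply hagen
      rw [Subgroup.mem_comap, hes]
      exact mem_Rot.mpr ⟨i, rfl⟩
    · right
      have h1 : b * s ∈ (Rot N).comap φ := by
        rw [Subgroup.mem_comap, map_mul, hi₀, hes, DihedralGroup.sr_mul_sr]
        exact mem_Rot.mpr ⟨_, rfl⟩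
      obtain ⟨k, hk⟩ := Subgroup.mem_zpowers_iff.mp (hagen _ h1)
      refine ⟨k, ?_⟩
      rw [hk, ← mul_assoc, hbb, one_mul]
  have ha1 : a ≠ 1 := by
    rintro rfl
    apply hnc
    rw [orderOf_one, mul_one] at hcard
    exact isCyclic_of_prime_card (p := 2) hcard
  exact ⟨a, b, ha1, hbb, hinv, hb', hcard, hdec⟩

theorem klein_sub {G : Type*} [Group G] (z b : G) (hz1 : z ≠ 1) (hb1 : b ≠ 1) (hzb : z ≠ b)
    (hzz : z * z = 1) (hbb : b * b = 1) (hc : z * b = b * z) :
    ∃ K : Subgroup G, Nat.card K = 4 ∧ ∀ x, x ∈ K ↔ (x = 1 ∨ x = z ∨ x = b ∨ x = z * b) := by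
  have hbz : b * z = z * b := hc.symm
  have hzz' : ∀ x, z * (z * x) = x := fun x => by rw [← mul_assoc, hzz, one_mul]
  have hbb' : ∀ x, b * (b * x) = x := fun x => by rw [← mul_assoc, hbb, one_mul]
  have hbz' : ∀ x, b * (z * x) = z * (b * x) := fun x => by rw [← mul_assoc, hbz, mul_assoc]
  have hzi : z⁻¹ = z := inv_eq_of_mul_eq_one_right hzz
  have hbi : b⁻¹ = b := inv_eq_of_mul_eq_one_right hbb
  obtain ⟨K, hKdef⟩ : ∃ K : Subgroup G, (K : Set G) = {1, z, b, z * b} :=
    ⟨{ carrier := {1, z, b, z * b}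
       mul_mem' := by
         intro x y hx hy
         simp only [Set.mem_insert_iff, Set.mem_singleton_iff] at hx hy ⊢
         rcases hx with rfl | rfl | rfl | rfl <;> rcases hy with rfl | rfl | rfl | rfl <;>
           simp [mul_assoc, hzz, hbb, hbz, hzz', hbb', hbz']
       one_mem' := by simp
       inv_mem' := by
         intro x hx
         simp only [Set.mem_insert_iff, Set.mem_singleton_iff] at hx ⊢
         rcases hx with rfl | rfl | rfl | rfl <;> simp [hzi, hbi, hbz] }, rfl⟩
  have hmem : ∀ x, x ∈ K ↔ (x = 1 ∨ x = z ∨ x = b ∨ x = z * b) := by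
    intro x
    rw [← SetLike.mem_coe, hKdef]
    simp only [Set.mem_insert_iff, Set.mem_singleton_iff]
  refine ⟨K, ?_, hmem⟩
  have h1 : (1 : G) ∉ ({z, b, z * b} : Set G) := by
    simp only [Set.mem_insert_iff, Set.mem_singleton_iff, not_or]
    refine ⟨hz1.symm, hb1.symm, ?_⟩
    intro h
    apply hzb
    have h0 := eq_inv_of_mul_eq_one_left h.symm
    rw [h0, hbi]
  have h2 : z ∉ ({b, z * b} : Set G) := by
    simp only [Set.mem_insert_iff, Set.mem_singleton_iff, not_or]
    refine ⟨hzb, ?_⟩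
    intro h
    apply hb1
    have h3 : z * 1 = z * b := by rw [mul_one]; exact h
    exact (mul_left_cancel h3).symm
  have h3 : b ≠ z * b := by
    intro h
    apply hz1
    have h4 : 1 * b = z * b := by rw [one_mul]; exact h
    exact (mul_right_cancel h4).symm
  have h4 : Nat.card ↥K = Nat.card ↑(K : Set G) := rfl
  rw [h4, hKdef, Nat.card_coe_set_eq, Set.ncard_insert_of_notMem h1, Set.ncard_insert_of_notMem h2,
    Set.ncard_pair h3]

theorem card_A4 : Nat.card ↥(alternatingGroup (Fin 4)) = 12 := by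
  rw [nat_card_alternatingGroup, Nat.card_fin]
  rfl

theorem noncyc_case {K : Type*} [Group K] [Finite K] (S : Sylow 2 K)
    [hSn : (S : Subgroup K).Normal] [hq : IsCyclic (K ⧸ (S : Subgroup K))]
    (a b : K) (ha : a ∈ (S : Subgroup K)) (hb : b ∈ (S : Subgroup K))
    (ha1 : a ≠ 1) (hbb : b * b = 1) (hinv : b * a * b⁻¹ = a⁻¹) (hb' : b ∉ Subgroup.zpowers a)
    (hcard : Nat.card (S : Subgroup K) = 2 * orderOf a)
    (hdecS : ∀ s ∈ (S : Subgroup K), s ∈ Subgroup.zpowers a ∨ ∃ i : ℤ, s = b * a ^ i)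
    (hK : ∀ K' : Subgroup K, K' ≤ (S : Subgroup K) → Nat.card K' = 4 → (∀ x ∈ K', x ^ 2 = 1) →
      ∀ h : K, (∀ x ∈ K', h * x = x * h) → h ∈ K') :
    (∃ n : ℕ, Nonempty (K ≃* DihedralGroup (2 ^ n))) ∨
      Nonempty (K ≃* alternatingGroup (Fin 4)) := by
  obtain ⟨j₀, hj₀⟩ := pelt S.isPGroup' ha
  obtain ⟨k, -, hk⟩ := (Nat.dvd_prime_pow Nat.prime_two).mp (orderOf_dvd_of_pow_eq_one hj₀)
  have hk0 : k ≠ 0 := by
    rintro rfl
    rw [pow_zero, orderOf_eq_one_iff] at hk
    exact ha1 hk
  obtain ⟨k', rfl⟩ := Nat.exists_eq_succ_of_ne_zero hk0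
  obtain ⟨z, hzdef⟩ : ∃ z : K, z = a ^ 2 ^ k' := ⟨_, rfl⟩
  have hzo : orderOf z = 2 := by
    rw [hzdef, orderOf_pow_of_dvd (pow_pos (by norm_num) k').ne'
      (by rw [hk]; exact pow_dvd_pow 2 (Nat.le_succ k')), hk, pow_succ,
      Nat.mul_div_cancel_left _ (pow_pos (by norm_num) k')]
  have hzz : z * z = 1 := by
    have h0 := pow_orderOf_eq_one z
    rw [hzo, pow_two] at h0
    exact h0
  have hz1 : z ≠ 1 := by
    intro h
    rw [h, orderOf_one] at hzo
    exact absurd hzo (by norm_num)
  have hzA : z ∈ Subgroup.zpowers a := by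
    rw [hzdef]
    exact Subgroup.pow_mem _ (Subgroup.mem_zpowers a) _
  have hzS : z ∈ (S : Subgroup K) := by
    rw [hzdef]
    exact Subgroup.pow_mem _ ha _
  have hbinv : b⁻¹ = b := inv_eq_of_mul_eq_one_right hbb
  have hzinv : z⁻¹ = z := inv_eq_of_mul_eq_one_right hzz
  have hzb : z * b = b * z := by
    have h1 : b * z * b⁻¹ = z := by
      have h2 : b * a ^ 2 ^ k' * b⁻¹ = (a ^ 2 ^ k')⁻¹ := by
        rw [← conj_pow, hinv, inv_pow]
      rw [hzdef, h2, ← hzdef, hzinv]
    rw [mul_inv_eq_iff_eq_mul] at h1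
    exact h1.symm
  have hb1 : b ≠ 1 := by
    rintro rfl
    exact hb' (Subgroup.one_mem _)
  have hzneb : z ≠ b := by
    intro h
    exact hb' (h ▸ hzA)
  have hzbzb : z * b * (z * b) = 1 := by
    calc z * b * (z * b) = z * (b * z) * b := by simp only [mul_assoc]
      _ = z * (z * b) * b := by rw [← hzb]
      _ = (z * z) * (b * b) := by simp only [mul_assoc]
      _ = 1 := by rw [hzz, hbb, one_mul]
  obtain ⟨K', hK'card, hK'mem⟩ := klein_sub z b hz1 hb1 hzneb hzz hbb hzb
  have hK'S : K' ≤ (S : Subgroup K) := by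
    intro x hx
    rcases (hK'mem x).mp hx with h | h | h | h
    · rw [h]; exact Subgroup.one_mem _
    · rw [h]; exact hzS
    · rw [h]; exact hb
    · rw [h]; exact Subgroup.mul_mem _ hzS hb
  have hK'exp : ∀ x ∈ K', x ^ 2 = 1 := by
    intro x hx
    rw [pow_two]
    rcases (hK'mem x).mp hx with h | h | h | h
    · rw [h]; exact one_mul 1
    · rw [h]; exact hzz
    · rw [h]; exact hbb
    · rw [h]; exact hzbzb
  have hkill : ∀ h : K, h * z = z * h → h * b = b * h → h * h = 1 := by
    intro h h1 h2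
    have h3 : h ∈ K' := by
      apply hK K' hK'S hK'card hK'exp
      intro x hx
      rcases (hK'mem x).mp hx with hx' | hx' | hx' | hx'
      · rw [hx', mul_one, one_mul]
      · rw [hx']; exact h1
      · rw [hx']; exact h2
      · rw [hx', ← mul_assoc, h1, mul_assoc, h2, mul_assoc]
    have h4 := hK'exp h h3
    rw [pow_two] at h4
    exact h4
  obtain ⟨y₀, hdec⟩ := quot_gen (S : Subgroup K)
  have hoy : orderOf y₀ ≠ 0 := (orderOf_pos y₀).ne'
  obtain ⟨t, m', hm', hom⟩ := Nat.exists_eq_pow_mul_and_not_dvd hoy 2 (by norm_num)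
  have hodd : Odd m' := by
    rw [Nat.odd_iff]
    omega
  obtain ⟨u, hudef⟩ : ∃ u : K, u = y₀ ^ 2 ^ t := ⟨_, rfl⟩
  have hum : u ^ m' = 1 := by
    rw [hudef, ← pow_mul, ← hom]
    exact pow_orderOf_eq_one y₀
  have hX : ∀ w : K, w ^ m' = 1 → w * w = 1 → w = 1 := by
    intro w h1 h2
    have hd1 : orderOf w ∣ m' := orderOf_dvd_of_pow_eq_one h1
    have hd2 : orderOf w ∣ 2 := orderOf_dvd_of_pow_eq_one (by rw [pow_two]; exact h2)
    have hcop : Nat.Coprime 2 m' := Nat.coprime_two_left.mpr hodd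
    have h3 : orderOf w = 1 :=
      Nat.Coprime.eq_one_of_dvd (Nat.Coprime.coprime_dvd_left hd2 hcop) hd1
    exact orderOf_eq_one_iff.mp h3
  have hU : u = 1 → ∃ n : ℕ, Nonempty (K ≃* DihedralGroup (2 ^ n)) := by
    intro hu1
    have hy₀S : y₀ ∈ (S : Subgroup K) :=
      mem_normal_sylow S (j := t) (by rw [← hudef]; exact hu1)
    have hall : ∀ h : K, h ∈ (S : Subgroup K) := by
      intro h
      obtain ⟨i, hi⟩ := hdec h
      have h1 := Subgroup.mul_mem _ (Subgroup.zpow_mem _ hy₀S i) hi
      rwa [mul_inv_cancel_left] at h1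
    have htop : (S : Subgroup K) = ⊤ := (Subgroup.eq_top_iff' _).mpr hall
    have hcK : Nat.card K = 2 * 2 ^ (k' + 1) := by
      have h1 : Nat.card K = Nat.card (S : Subgroup K) := by rw [htop, Subgroup.card_top]
      rw [h1, hcard, hk]
    exact ⟨k' + 1, Cfsg.Agent.Lib.Helper18.DihedralEquiv.dihedral_equiv (2 ^ (k' + 1))
      (pow_pos (by norm_num) _).ne' a b hk (by rw [pow_two]; exact hbb) hinv hb' hcK⟩
  have huS : ∀ s ∈ (S : Subgroup K), u * s * u⁻¹ ∈ (S : Subgroup K) :=
    fun s hs => hSn.conj_mem s hs u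
  rcases Nat.eq_zero_or_pos k' with hk'0 | hk'pos
  · subst hk'0
    have hcS : Nat.card (S : Subgroup K) = 4 := by
      calc Nat.card (S : Subgroup K) = 2 * orderOf a := hcard
        _ = 2 * 2 ^ (0 + 1) := by rw [hk]
        _ = 4 := by norm_num
    have hK'eq : K' = (S : Subgroup K) :=
      Subgroup.eq_of_le_of_card_ge hK'S (by rw [hcS, hK'card])
    have hSmem : ∀ s ∈ (S : Subgroup K), s = 1 ∨ s = z ∨ s = b ∨ s = z * b := by
      intro s hs
      rw [← hK'eq] at hs
      exact (hK'mem s).mp hs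
    have hσinj : ∀ x y : K, u * x * u⁻¹ = u * y * u⁻¹ → x = y :=
      fun x y h => mul_left_cancel (mul_right_cancel h)
    have hσmul : ∀ x y : K, u * (x * y) * u⁻¹ = (u * x * u⁻¹) * (u * y * u⁻¹) := by
      intro x y
      simp only [mul_assoc, inv_mul_cancel_left]
    have hsq2 : ∀ x, u * (u * x * u⁻¹) * u⁻¹ = x → u ^ 2 * x = x * u ^ 2 := by
      intro x h
      calc u ^ 2 * x = (u * (u * x * u⁻¹) * u⁻¹) * u ^ 2 := by
            rw [pow_two]
            simp only [mul_assoc, inv_mul_cancel_left, inv_mul_cancel, mul_one]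
        _ = x * u ^ 2 := by rw [h]
    have hsq3 : ∀ x, u * (u * (u * x * u⁻¹) * u⁻¹) * u⁻¹ = x → u ^ 3 * x = x * u ^ 3 := by
      intro x h
      calc u ^ 3 * x = (u * (u * (u * x * u⁻¹) * u⁻¹) * u⁻¹) * u ^ 3 := by
            rw [pow_succ, pow_two]
            simp only [mul_assoc, inv_mul_cancel_left, inv_mul_cancel, mul_one]
        _ = x * u ^ 3 := by rw [h]
    have hSq : u * (u * z * u⁻¹) * u⁻¹ = z → u * (u * b * u⁻¹) * u⁻¹ = b → u = 1 := by
      intro h1 h2
      have h3 : u ^ 2 = 1 :=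
        hX (u ^ 2) (by rw [← pow_mul, mul_comm, pow_mul, hum, one_pow])
          (hkill (u ^ 2) (hsq2 z h1) (hsq2 b h2))
      exact hX u hum (by rw [← pow_two]; exact h3)
    have hA4 : (∀ s ∈ (S : Subgroup K), s ≠ 1 → u * s * u⁻¹ ≠ s) → u ^ 3 = 1 →
        Nonempty (K ≃* alternatingGroup (Fin 4)) := by
      intro hfix hu3
      have huS' : u ∉ (S : Subgroup K) := by
        intro h
        have hu1 : u ≠ 1 := by
          intro h1
          apply hfix z hzS hz1
          rw [h1, one_mul, inv_one, mul_one]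
        exact hfix u h hu1 (mul_inv_cancel_right u u)
      have hy₀S : y₀ ∉ (S : Subgroup K) := by
        intro h
        apply huS'
        rw [hudef]
        exact Subgroup.pow_mem _ h _
      have hy3 : y₀ ^ 3 ∈ (S : Subgroup K) := by
        apply mem_normal_sylow S (j := t)
        rw [← pow_mul, mul_comm, pow_mul, ← hudef]
        exact hu3
      have hM := (Cfsg.Agent.S4082.quot_order (S : Subgroup K) y₀ hdec).2
      have hM3 : orderOf (QuotientGroup.mk y₀ : K ⧸ (S : Subgroup K)) = 3 := by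
        haveI : Fact (Nat.Prime 3) := ⟨Nat.prime_three⟩
        apply orderOf_eq_prime
        · rw [← QuotientGroup.mk_pow, QuotientGroup.eq_one_iff]
          exact hy3
        · rw [Ne, QuotientGroup.eq_one_iff]
          exact hy₀S
      have hc12 : Nat.card K = 12 := by
        rw [← Subgroup.card_mul_index (S : Subgroup K), hcS, ← hM, hM3]
      apply Cfsg.Agent.S0228.result hc12
      intro w hw hwc
      have hwS : w ∈ (S : Subgroup K) := by
        apply mem_normal_sylow S (j := 1)
        rw [pow_one, ← hw]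
        exact pow_orderOf_eq_one w
      have hw1 : w ≠ 1 := by
        rintro rfl
        rw [orderOf_one] at hw
        exact absurd hw (by norm_num)
      apply hfix w hwS hw1
      rw [(Subgroup.mem_center_iff.mp hwc) u, mul_inv_cancel_right]
    rcases hSmem _ (huS z hzS) with hz' | hz' | hz' | hz'
    · exact absurd (conj_eq_one_iff.mp hz') hz1
    · rcases hSmem _ (huS b hb) with hb2 | hb2 | hb2 | hb2
      · exact absurd (conj_eq_one_iff.mp hb2) hb1
      · exact absurd (hσinj _ _ (hb2.trans hz'.symm)) hzneb.symm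
      · left
        apply hU
        exact hX u hum (hkill u (mul_inv_eq_iff_eq_mul.mp hz') (mul_inv_eq_iff_eq_mul.mp hb2))
      · left
        apply hU
        apply hSq
        · rw [hz', hz']
        · rw [hb2, hσmul, hz', hb2, ← mul_assoc, hzz, one_mul]
    · rcases hSmem _ (huS b hb) with hb2 | hb2 | hb2 | hb2
      · exact absurd (conj_eq_one_iff.mp hb2) hb1
      · left
        apply hU
        apply hSq
        · rw [hz', hb2]
        · rw [hb2, hz']
      · exact absurd (hσinj _ _ (hb2.trans hz'.symm)) hzneb.symm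
      · right
        have hσzb : u * (z * b) * u⁻¹ = z := by
          rw [hσmul, hz', hb2, ← mul_assoc, ← hzb, mul_assoc, hbb, mul_one]
        apply hA4
        · intro s hs hs1
          rcases hSmem s hs with h | h | h | h
          · exact absurd h hs1
          · rw [h, hz']
            exact hzneb.symm
          · rw [h, hb2]
            intro h0
            have h4 : z * b = 1 * b := by rw [one_mul]; exact h0
            exact hz1 (mul_right_cancel h4)
          · rw [h, hσzb]
            intro h0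
            have h4 : z * 1 = z * b := by rw [mul_one]; exact h0
            exact hb1 (mul_left_cancel h4).symm
        · exact hX (u ^ 3) (by rw [← pow_mul, mul_comm, pow_mul, hum, one_pow])
            (hkill (u ^ 3) (hsq3 z (by rw [hz', hb2, hσzb])) (hsq3 b (by rw [hb2, hσzb, hz'])))
    · rcases hSmem _ (huS b hb) with hb2 | hb2 | hb2 | hb2
      · exact absurd (conj_eq_one_iff.mp hb2) hb1
      · right
        have hσzb : u * (z * b) * u⁻¹ = b := by
          rw [hσmul, hz', hb2, mul_assoc, ← hzb, ← mul_assoc, hzz, one_mul]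
        apply hA4
        · intro s hs hs1
          rcases hSmem s hs with h | h | h | h
          · exact absurd h hs1
          · rw [h, hz']
            intro h0
            have h4 : z * b = z * 1 := by rw [mul_one]; exact h0
            exact hb1 (mul_left_cancel h4)
          · rw [h, hb2]
            exact hzneb
          · rw [h, hσzb]
            intro h0
            have h4 : 1 * b = z * b := by rw [one_mul]; exact h0
            exact hz1 (mul_right_cancel h4).symm
        · exact hX (u ^ 3) (by rw [← pow_mul, mul_comm, pow_mul, hum, one_pow])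
            (hkill (u ^ 3) (hsq3 z (by rw [hz', hσzb, hb2])) (hsq3 b (by rw [hb2, hz', hσzb])))
      · left
        apply hU
        apply hSq
        · rw [hz', hσmul, hz', hb2, mul_assoc, hbb, mul_one]
        · rw [hb2, hb2]
      · exact absurd (hσinj _ _ (hb2.trans hz'.symm)) hzneb.symm
  · left
    apply hU
    have hsq : ∀ i : ℤ, (b * a ^ i) * (b * a ^ i) = 1 := by
      intro i
      have h1 : b * a ^ i * b⁻¹ = (a ^ i)⁻¹ := by
        rw [← conj_zpow, hinv, inv_zpow]
      calc (b * a ^ i) * (b * a ^ i) = (b * a ^ i * b) * a ^ i := by simp only [mul_assoc]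
        _ = (b * a ^ i * b⁻¹) * a ^ i := by rw [hbinv]
        _ = 1 := by rw [h1, inv_mul_cancel]
    have hua : u * a * u⁻¹ ∈ Subgroup.zpowers a := by
      rcases hdecS _ (huS a ha) with h | ⟨i, hi⟩
      · exact h
      · exfalso
        have h1 : (u * a * u⁻¹) * (u * a * u⁻¹) = 1 := by
          rw [hi]
          exact hsq i
        have h2 : a * a = 1 := by
          have h3 : u * (a * a) * u⁻¹ = 1 := by
            rw [← h1]
            simp only [mul_assoc, inv_mul_cancel_left]
          exact conj_eq_one_iff.mp h3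
        have h4 : orderOf a ∣ 2 := orderOf_dvd_of_pow_eq_one (by rw [pow_two]; exact h2)
        rw [hk] at h4
        have h5 : 2 ^ (k' + 1) ≤ 2 := Nat.le_of_dvd (by norm_num) h4
        have h6 : 2 ^ 2 ≤ 2 ^ (k' + 1) := Nat.pow_le_pow_right (by norm_num) (by omega)
        omega
    have huN : u ∈ Subgroup.normalizer ((Subgroup.zpowers a : Subgroup K) : Set K) := by
      apply Subgroup.mem_normalizer_fintype
      intro n hn
      obtain ⟨i, rfl⟩ := Subgroup.mem_zpowers_iff.mp hn
      rw [← conj_zpow]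
      exact Subgroup.zpow_mem _ hua i
    have hca : u * a = a * u := odd_cent_cyc a u (k' + 1) m' hk hodd hum huN
    have hcz : u * z = z * u := by
      have h0 : Commute u a := hca
      rw [hzdef]
      exact (h0.pow_right _).eq
    have hcb : u * b = b * u := by
      rcases hdecS _ (huS b hb) with h | ⟨i, hi⟩
      · exfalso
        obtain ⟨i, hi⟩ := Subgroup.mem_zpowers_iff.mp h
        apply hb'
        have h0 : Commute u (a ^ i) := (show Commute u a from hca).zpow_right i
        have h2 : b = a ^ i := by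
          have h3 : u * b * u⁻¹ = u * a ^ i * u⁻¹ := by
            rw [← hi, h0.eq, mul_inv_cancel_right]
          exact mul_left_cancel (mul_right_cancel h3)
        rw [h2]
        exact Subgroup.zpow_mem _ (Subgroup.mem_zpowers a) i
      · have hcc : Commute u (a ^ i) := (show Commute u a from hca).zpow_right i
        have hpow : ∀ n : ℕ, u ^ n * b * (u ^ n)⁻¹ = b * (a ^ i) ^ n := by
          intro n
          induction n with
          | zero => simp
          | succ n ih =>
            calc u ^ (n + 1) * b * (u ^ (n + 1))⁻¹ = u * (u ^ n * b * (u ^ n)⁻¹) * u⁻¹ := by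
                  rw [pow_succ', mul_inv_rev]
                  simp only [mul_assoc]
              _ = u * (b * (a ^ i) ^ n) * u⁻¹ := by rw [ih]
              _ = (u * b * u⁻¹) * (u * (a ^ i) ^ n * u⁻¹) := by
                  simp only [mul_assoc, inv_mul_cancel_left]
              _ = (b * a ^ i) * (a ^ i) ^ n := by
                  rw [hi, (hcc.pow_right n).eq, mul_inv_cancel_right]
              _ = b * (a ^ i) ^ (n + 1) := by rw [pow_succ', mul_assoc]
        have h1 := hpow m'
        rw [hum] at h1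
        have h2 : (a ^ i) ^ m' = 1 := by
          have h3 : b * (a ^ i) ^ m' = b * 1 := by
            rw [mul_one, ← h1, one_mul, inv_one, mul_one]
          exact mul_left_cancel h3
        have h4 : (a ^ i) ^ 2 ^ (k' + 1) = 1 := by
          rw [Cfsg.Agent.S4082.zpow_pow_comm, ← hk, pow_orderOf_eq_one, one_zpow]
        have hd1 : orderOf (a ^ i) ∣ m' := orderOf_dvd_of_pow_eq_one h2
        have hd2 : orderOf (a ^ i) ∣ 2 ^ (k' + 1) := orderOf_dvd_of_pow_eq_one h4
        have hcop : Nat.Coprime (2 ^ (k' + 1)) m' :=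
          Nat.Coprime.pow_left _ (Nat.coprime_two_left.mpr hodd)
        have h5 : orderOf (a ^ i) = 1 :=
          Nat.Coprime.eq_one_of_dvd (Nat.Coprime.coprime_dvd_left hd2 hcop) hd1
        have h6 : a ^ i = 1 := orderOf_eq_one_iff.mp h5
        rw [h6, mul_one] at hi
        rw [mul_inv_eq_iff_eq_mul] at hi
        exact hi
    exact hX u hum (hkill u hcz hcb)

theorem fwd {G : Type*} [Group G] [Finite G] (P : Sylow 2 G)
    (hR : ∀ H : Subgroup G, (∀ S : Sylow 2 ↥H, (S : Subgroup ↥H).Normal) →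
        (∀ (S : Sylow 2 ↥H) [(S : Subgroup ↥H).Normal], IsCyclic (↥H ⧸ (S : Subgroup ↥H))) →
        IsCyclic H ∨ (∃ n : ℕ, Nonempty (H ≃* DihedralGroup (2 ^ n))) ∨
          Nonempty (H ≃* alternatingGroup (Fin 4))) :
    (IsCyclic ↥(P : Subgroup G) ∨
      ((∃ n : ℕ, 1 ≤ n ∧ Nonempty ((P : Subgroup G) ≃* DihedralGroup (2 ^ n))) ∧
        ∀ K : Subgroup G, K ≤ P → Nat.card K = 4 → (∀ k ∈ K, k ^ 2 = 1) →
          Subgroup.centralizer (K : Set G) = K)) := by
  have hPp : IsPGroup 2 (P : Subgroup G) := P.isPGroup'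
  have h1 : IsCyclic ↥(P : Subgroup G) ∨
      (∃ n : ℕ, Nonempty ((P : Subgroup G) ≃* DihedralGroup (2 ^ n))) ∨
      Nonempty ((P : Subgroup G) ≃* alternatingGroup (Fin 4)) := by
    have htop : ∀ S : Sylow 2 ↥(P : Subgroup G), (S : Subgroup ↥(P : Subgroup G)) = ⊤ := by
      intro S
      exact (S.is_maximal' (hPp.to_subgroup ⊤) le_top).symm
    apply hR (P : Subgroup G)
    · intro S
      rw [htop S]
      infer_instance
    · intro S _
      haveI : Subsingleton (↥(P : Subgroup G) ⧸ (S : Subgroup ↥(P : Subgroup G))) := by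
        constructor
        intro q1 q2
        obtain ⟨h1, rfl⟩ := QuotientGroup.mk_surjective q1
        obtain ⟨h2, rfl⟩ := QuotientGroup.mk_surjective q2
        rw [QuotientGroup.eq, htop S]
        exact Subgroup.mem_top _
      infer_instance
  rcases h1 with hc | ⟨n, ⟨e⟩⟩ | ⟨⟨e⟩⟩
  · left
    exact hc
  · rcases Nat.eq_zero_or_pos n with h0 | h0
    · left
      have hc : Nat.card (P : Subgroup G) = 2 := by
        rw [Nat.card_congr e.toEquiv, DihedralGroup.nat_card, h0]
        norm_num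
      exact isCyclic_of_prime_card (p := 2) hc
    · right
      refine ⟨⟨n, h0, ⟨e⟩⟩, ?_⟩
      intro K hKP hK4 hKexp
      have hKcomm : ∀ x ∈ K, ∀ y ∈ K, x * y = y * x := by
        intro x hx y hy
        have h1 := hKexp x hx
        have h2 := hKexp y hy
        have h3 := hKexp (x * y) (K.mul_mem hx hy)
        have hx' : x⁻¹ = x := inv_eq_of_mul_eq_one_right (by rw [← pow_two]; exact h1)
        have hy' : y⁻¹ = y := inv_eq_of_mul_eq_one_right (by rw [← pow_two]; exact h2)
        have hxy' : (x * y)⁻¹ = x * y := inv_eq_of_mul_eq_one_right (by rw [← pow_two]; exact h3)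
        rw [mul_inv_rev, hx', hy'] at hxy'
        exact hxy'.symm
      apply le_antisymm
      · intro x hx
        have hxN : x ∈ Subgroup.normalizer (K : Set G) := Subgroup.centralizer_le_normalizer _ hx
        have hcom : ∀ s ∈ K, Commute s x := fun s hs => (Subgroup.mem_centralizer_iff.mp hx) s hs
        have hKT : K ≤ SY K x hxN := le_SY K x hxN
        have hTcomm : ∀ g h : ↥(SY K x hxN), g * h = h * g := by
          intro g h
          obtain ⟨s, hs, k, hg⟩ := mem_SY.mp g.2
          obtain ⟨s', hs', k', hh⟩ := mem_SY.mp h.2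
          apply Subtype.ext
          show (g : G) * (h : G) = (h : G) * (g : G)
          rw [hg, hh]
          have hss' : Commute s s' := hKcomm s hs s' hs'
          have hsx : Commute s (x ^ k') := (hcom s hs).zpow_right k'
          have hxs' : Commute (x ^ k) s' := ((hcom s' hs').zpow_right k).symm
          have hxx : Commute (x ^ k) (x ^ k') := (Commute.refl x).zpow_zpow k k'
          exact ((hss'.mul_right hsx).mul_left (hxs'.mul_right hxx)).eq
        have hnormal : ∀ S : Sylow 2 ↥(SY K x hxN), (S : Subgroup ↥(SY K x hxN)).Normal := by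
          intro S
          constructor
          intro n hn g
          rw [hTcomm g n, mul_inv_cancel_right]
          exact hn
        have hKp : IsPGroup 2 (K.subgroupOf (SY K x hxN)) := (hPp.to_le hKP).comap_subtype
        have hT := hR (SY K x hxN) hnormal (by
          intro S _
          have h1 : IsPGroup 2 ↥((S : Subgroup ↥(SY K x hxN)) ⊔ K.subgroupOf (SY K x hxN)) :=
            IsPGroup.to_sup_of_normal_left S.isPGroup' hKp
          have h2 := S.is_maximal' h1 le_sup_left
          have hKS : K.subgroupOf (SY K x hxN) ≤ (S : Subgroup ↥(SY K x hxN)) := by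
            rw [← h2]
            exact le_sup_right
          rw [isCyclic_iff_exists_zpowers_eq_top]
          refine ⟨QuotientGroup.mk ⟨x, self_mem_SY K x hxN⟩, ?_⟩
          rw [Subgroup.eq_top_iff']
          intro q
          obtain ⟨h, rfl⟩ := QuotientGroup.mk_surjective q
          obtain ⟨s, hs, k, hg⟩ := mem_SY.mp h.2
          rw [Subgroup.mem_zpowers_iff]
          refine ⟨k, ?_⟩
          rw [← QuotientGroup.mk_zpow, QuotientGroup.eq]
          apply hKS
          rw [Subgroup.mem_subgroupOf]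
          have hc : ((((⟨x, self_mem_SY K x hxN⟩ : ↥(SY K x hxN)) ^ k)⁻¹ * h : ↥(SY K x hxN)) : G)
              = s := by
            rw [Subgroup.coe_mul, Subgroup.coe_inv, Subgroup.coe_zpow, hg]
            show (x ^ k)⁻¹ * (s * x ^ k) = s
            rw [((hcom s hs).zpow_right k).eq, inv_mul_cancel_left]
          rw [hc]
          exact hs)
        rcases hT with hcyc | ⟨n', ⟨e'⟩⟩ | ⟨⟨e'⟩⟩
        · exfalso
          haveI := hcyc
          haveI hKc : IsCyclic ↥K :=
            isCyclic_of_injective (Subgroup.inclusion hKT) (Subgroup.inclusion_injective hKT)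
          obtain ⟨g₀, hg₀⟩ := IsCyclic.exists_generator (α := ↥K)
          have ho : orderOf g₀ = 4 := by
            rw [orderOf_eq_card_of_forall_mem_zpowers hg₀, hK4]
          have h2 : g₀ ^ 2 = 1 := Subtype.ext (hKexp (g₀ : G) g₀.2)
          have h3 := orderOf_dvd_of_pow_eq_one h2
          rw [ho] at h3
          omega
        · have hDc : ∀ d d' : DihedralGroup (2 ^ n'), d * d' = d' * d := by
            intro d d'
            have h1 := hTcomm (e'.symm d) (e'.symm d')
            have h2 := congrArg e' h1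
            rwa [map_mul, map_mul, e'.apply_symm_apply, e'.apply_symm_apply] at h2
          have h1 := hDc (DihedralGroup.r 1) (DihedralGroup.sr 0)
          rw [DihedralGroup.r_mul_sr, DihedralGroup.sr_mul_r] at h1
          have h2 : (0 : ZMod (2 ^ n')) - 1 = 0 + 1 := DihedralGroup.sr.inj h1
          have h3 : (2 : ZMod (2 ^ n')) = 0 := by
            calc (2 : ZMod (2 ^ n')) = (0 + 1) - (0 - 1) := by ring
              _ = 0 := by rw [← h2]; ring
          have h4 : ((2 : ℕ) : ZMod (2 ^ n')) = 0 := by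
            rw [Nat.cast_ofNat]
            exact h3
          have h5 : 2 ^ n' ∣ 2 := (ZMod.natCast_eq_zero_iff 2 (2 ^ n')).mp h4
          have h6 : 2 ^ n' ≤ 2 := Nat.le_of_dvd (by norm_num) h5
          have hcT : Nat.card ↥(SY K x hxN) ≤ Nat.card ↥K := by
            rw [Nat.card_congr e'.toEquiv, DihedralGroup.nat_card, hK4]
            omega
          have hKeq : K = SY K x hxN := Subgroup.eq_of_le_of_card_ge hKT hcT
          rw [hKeq]
          exact self_mem_SY K x hxN
        · exfalso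
          have hAc : ∀ d d' : alternatingGroup (Fin 4), d * d' = d' * d := by
            intro d d'
            have h1 := hTcomm (e'.symm d) (e'.symm d')
            have h2 := congrArg e' h1
            rwa [map_mul, map_mul, e'.apply_symm_apply, e'.apply_symm_apply] at h2
          have hcen := alternatingGroup.center_eq_bot (α := Fin 4) (by rw [Nat.card_fin])
          have hone : ∀ d : alternatingGroup (Fin 4), d = 1 := by
            intro d
            have h1 : d ∈ Subgroup.center ↥(alternatingGroup (Fin 4)) := by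
              rw [Subgroup.mem_center_iff]
              intro g
              exact hAc g d
            rw [hcen] at h1
            exact Subgroup.mem_bot.mp h1
          haveI : Subsingleton ↥(alternatingGroup (Fin 4)) :=
            ⟨fun x y => by rw [hone x, hone y]⟩
          have h2 := Nat.card_of_subsingleton (1 : ↥(alternatingGroup (Fin 4)))
          rw [card_A4] at h2
          omega
      · intro x hx
        rw [Subgroup.mem_centralizer_iff]
        intro y hy
        exact hKcomm y hy x hx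
  · exfalso
    obtain ⟨a, ha⟩ := IsPGroup.exists_card_eq hPp
    have hc := Nat.card_congr e.toEquiv
    rw [ha, card_A4] at hc
    have h3 : 3 ∣ 2 ^ a := ⟨4, by rw [hc]⟩
    have h4 := Nat.Prime.dvd_of_dvd_pow Nat.prime_three h3
    omega

theorem bwd {G : Type*} [Group G] [Finite G] (P : Sylow 2 G)
    (hcond : IsCyclic ↥(P : Subgroup G) ∨
      ((∃ n : ℕ, 1 ≤ n ∧ Nonempty ((P : Subgroup G) ≃* DihedralGroup (2 ^ n))) ∧
        ∀ K : Subgroup G, K ≤ P → Nat.card K = 4 → (∀ k ∈ K, k ^ 2 = 1) →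
          Subgroup.centralizer (K : Set G) = K))
    (H : Subgroup G) (hN : ∀ S : Sylow 2 ↥H, (S : Subgroup ↥H).Normal)
    (hCq : ∀ (S : Sylow 2 ↥H) [(S : Subgroup ↥H).Normal], IsCyclic (↥H ⧸ (S : Subgroup ↥H))) :
    IsCyclic H ∨ (∃ n : ℕ, Nonempty (H ≃* DihedralGroup (2 ^ n))) ∨
      Nonempty (H ≃* alternatingGroup (Fin 4)) := by
  obtain ⟨S⟩ := (inferInstance : Nonempty (Sylow 2 ↥H))
  haveI hSn : (S : Subgroup ↥H).Normal := hN S
  haveI hSc : IsCyclic (↥H ⧸ (S : Subgroup ↥H)) := hCq S
  by_cases hScyc : IsCyclic ↥(S : Subgroup ↥H)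
  · left
    exact cyc_of_cyc_sylow S hScyc
  · right
    have hSG : IsPGroup 2 ((S : Subgroup ↥H).map H.subtype) := S.isPGroup'.map H.subtype
    obtain ⟨P', hP'⟩ := hSG.exists_le_sylow
    obtain ⟨g, hg⟩ := Cfsg.Agent.S4196.sylow_conj P P'
    obtain ⟨c, hconj⟩ : ∃ c : G, ∀ s : ↥H, s ∈ (S : Subgroup ↥H) →
        c * (s : G) * c⁻¹ ∈ (P : Subgroup G) := by
      refine ⟨g⁻¹, ?_⟩
      intro s hs
      obtain ⟨z, hz, hzy⟩ := hg (s : G) (hP' (Subgroup.mem_map_of_mem H.subtype hs))
      rw [hzy]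
      have h1 : g⁻¹ * (g * z * g⁻¹) * g⁻¹⁻¹ = z := by group
      rw [h1]
      exact hz
    have hcj_inj : ∀ u v : G, c * u * c⁻¹ = c * v * c⁻¹ → u = v :=
      fun u v h => mul_left_cancel (mul_right_cancel h)
    obtain ⟨ψ, hψdef⟩ : ∃ ψ : ↥(S : Subgroup ↥H) →* ↥(P : Subgroup G),
        ∀ s, ((ψ s : ↥(P : Subgroup G)) : G) = c * ((s : ↥H) : G) * c⁻¹ :=
      ⟨{ toFun := fun s => ⟨c * ((s : ↥H) : G) * c⁻¹, hconj s.1 s.2⟩
         map_one' := by
           apply Subtype.ext
           show c * (1 : G) * c⁻¹ = 1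
           group
         map_mul' := by
           intro a b
           apply Subtype.ext
           show c * (((a : ↥H) : G) * ((b : ↥H) : G)) * c⁻¹
             = c * ((a : ↥H) : G) * c⁻¹ * (c * ((b : ↥H) : G) * c⁻¹)
           group }, fun s => rfl⟩
    have hψ : Function.Injective ψ := by
      intro x y hxy
      have h1 := congrArg Subtype.val hxy
      rw [hψdef, hψdef] at h1
      exact Subtype.ext (Subtype.ext (hcj_inj _ _ h1))
    rcases hcond with hPc | ⟨⟨n, hn1, ⟨e⟩⟩, hK⟩
    · exfalso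
      haveI := hPc
      exact hScyc (isCyclic_of_injective ψ hψ)
    · obtain ⟨a, b, ha1, hbb, hinv, hb', hcard, hdecS⟩ :=
        sub_dihedral (e.toMonoidHom.comp ψ) (e.injective.comp hψ) hScyc
      apply noncyc_case S (a : ↥H) (b : ↥H) a.2 b.2
      · intro h
        exact ha1 (Subtype.ext h)
      · exact congrArg Subtype.val hbb
      · exact congrArg Subtype.val hinv
      · intro h
        obtain ⟨i, hi⟩ := Subgroup.mem_zpowers_iff.mp h
        apply hb'
        rw [Subgroup.mem_zpowers_iff]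
        refine ⟨i, Subtype.ext ?_⟩
        rw [Subgroup.coe_zpow]
        exact hi
      · rw [hcard, Subgroup.orderOf_coe]
      · intro s hs
        rcases hdecS ⟨s, hs⟩ with h | ⟨i, hi⟩
        · left
          obtain ⟨i, hi⟩ := Subgroup.mem_zpowers_iff.mp h
          rw [Subgroup.mem_zpowers_iff]
          refine ⟨i, ?_⟩
          rw [← Subgroup.coe_zpow]
          exact congrArg Subtype.val hi
        · right
          refine ⟨i, ?_⟩
          have h0 := congrArg Subtype.val hi
          rw [Subgroup.coe_mul, Subgroup.coe_zpow] at h0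
          exact h0
      · intro K' hK'S hK'4 hK'exp h hh
        obtain ⟨θ, hθ⟩ : ∃ θ : ↥H →* G, ∀ x : ↥H, θ x = c * (x : G) * c⁻¹ :=
          ⟨(MulAut.conj c).toMonoidHom.comp H.subtype, fun x => rfl⟩
        have hθinj : Function.Injective θ := by
          intro x y hxy
          rw [hθ, hθ] at hxy
          exact Subtype.ext (hcj_inj _ _ hxy)
        have h1 : K'.map θ ≤ (P : Subgroup G) := by
          intro y hy
          obtain ⟨x, hx, rfl⟩ := Subgroup.mem_map.mp hy
          rw [hθ]
          exact hconj x (hK'S hx)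
        have h2 : Nat.card (K'.map θ) = 4 := by
          rw [Subgroup.card_map_of_injective hθinj, hK'4]
        have h3 : ∀ y ∈ K'.map θ, y ^ 2 = 1 := by
          intro y hy
          obtain ⟨x, hx, rfl⟩ := Subgroup.mem_map.mp hy
          rw [← map_pow, hK'exp x hx, map_one]
        have h4 := hK (K'.map θ) h1 h2 h3
        have h5 : θ h ∈ Subgroup.centralizer ((K'.map θ : Subgroup G) : Set G) := by
          rw [Subgroup.mem_centralizer_iff]
          intro y hy
          obtain ⟨x, hx, rfl⟩ := Subgroup.mem_map.mp hy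
          rw [← map_mul, ← map_mul, hh x hx]
        rw [h4] at h5
        obtain ⟨x, hx, hxh⟩ := Subgroup.mem_map.mp h5
        have h6 : x = h := hθinj hxh
        rw [← h6]
        exact hx

/-- Let G be a finite group with Sylow 2-subgroup P. Every subgroup H of G whose Sylow 2-subgroup is normal in H with cyclic quotient is cyclic, dihedral of 2-power order, or isomorphic to the alternating group of degree 4, if and only if either P is cyclic, or P is dihedral (of order at least 4) and every elementary abelian subgroup K of order 4 of P satisfies C_G(K) = K. -/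
theorem result {G : Type*} [Group G] [Finite G] (P : Sylow 2 G) :
    (∀ H : Subgroup G, (∀ S : Sylow 2 ↥H, (S : Subgroup ↥H).Normal) →
        (∀ (S : Sylow 2 ↥H) [(S : Subgroup ↥H).Normal], IsCyclic (↥H ⧸ (S : Subgroup ↥H))) →
        IsCyclic H ∨ (∃ n : ℕ, Nonempty (H ≃* DihedralGroup (2 ^ n))) ∨ Nonempty (H ≃* alternatingGroup (Fin 4))) ↔
    (IsCyclic P ∨
      ((∃ n : ℕ, 1 ≤ n ∧ Nonempty ((P : Subgroup G) ≃* DihedralGroup (2 ^ n))) ∧
        ∀ K : Subgroup G, K ≤ P → Nat.card K = 4 → (∀ k ∈ K, k ^ 2 = 1) → Subgroup.centralizer (K : Set G) = K)) := by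
  constructor
  · intro hR
    exact fwd P hR
  · intro hcond H hN hCq
    exact bwd P hcond H hN hCq

end Cfsg.Agent.S4083
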