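import Mathlib
import Cfsg.Statements.S4113

set_option autoImplicit false
open Cfsg

namespace Cfsg.Agent.S4113

theorem mem_map_conj {G : Type*} [Group G] (H : Subgroup G) (g y : G) :
    y ∈ H.map (MulAut.conj g).toMonoidHom ↔ ∃ k ∈ H, g * k * g⁻¹ = y := by
  rw [Subgroup.mem_map]
  rfl

theorem claim1 {G : Type*} [Group G] (N M H : Subgroup G) (hHM' : H ⊓ M = ⊥)
    (hTI : ∀ g : G, g ∉ H → H ⊓ H.map (MulAut.conj g).toMonoidHom ≤ N)
    (m₁ m₂ h₁ h₂ : G) (hm₁ : m₁ ∈ M) (hm₂ : m₂ ∈ M) (hh₁ : h₁ ∈ H) (hh₂ : h₂ ∈ H) (hN : h₁ ∉ N)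
    (e : m₁ * h₁ * m₁⁻¹ = m₂ * h₂ * m₂⁻¹) : m₁ = m₂ := by
  have hg : m₁⁻¹ * m₂ ∈ M := M.mul_mem (M.inv_mem hm₁) hm₂
  have e2 : (m₁⁻¹ * m₂) * h₂ * (m₁⁻¹ * m₂)⁻¹ = h₁ := by
    calc (m₁⁻¹ * m₂) * h₂ * (m₁⁻¹ * m₂)⁻¹ = m₁⁻¹ * (m₂ * h₂ * m₂⁻¹) * m₁ := by group
      _ = m₁⁻¹ * (m₁ * h₁ * m₁⁻¹) * m₁ := by rw [e]
      _ = h₁ := by group
  by_cases hgH : m₁⁻¹ * m₂ ∈ H
  · have : m₁⁻¹ * m₂ ∈ H ⊓ M := ⟨hgH, hg⟩
    rw [hHM', Subgroup.mem_bot] at this
    exact (inv_mul_eq_one.mp this)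
  · exfalso
    apply hN
    apply hTI _ hgH
    exact Subgroup.mem_inf.mpr ⟨hh₁, (mem_map_conj H _ _).mpr ⟨h₂, hh₂, e2⟩⟩

theorem result {G : Type*} [Group G] [Finite G] (N M : Subgroup G) [N.Normal] [M.Normal] (hMN : M ≤ N) (hM1 : M ≠ ⊥) (hN2 : N ≠ ⊤)
    (H : Subgroup G) (hHM : H ⊔ M = ⊤) (hHM' : H ⊓ M = ⊥) :
    (∀ x ∈ M, x ≠ 1 → Subgroup.centralizer ({x} : Set G) ≤ N) ↔
      (H ≠ ⊥ ∧ H ≠ ⊤ ∧ H ⊓ N < H ∧ ∀ g : G, g ∉ H → H ⊓ H.map (MulAut.conj g).toMonoidHom ≤ N) := by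
  have hdecomp : ∀ g : G, ∃ h ∈ H, ∃ m ∈ M, h * m = g := by
    intro g
    have : g ∈ H ⊔ M := by rw [hHM]; trivial
    rwa [Subgroup.mem_sup_of_normal_right] at this
  constructor
  · intro h1
    refine ⟨?_, ?_, ?_, ?_⟩
    · intro hH
      rw [hH, bot_sup_eq] at hHM
      apply hN2
      rw [← top_le_iff, ← hHM]
      exact hMN
    · intro hH
      rw [hH, top_inf_eq] at hHM'
      exact hM1 hHM'
    · apply lt_of_le_of_ne inf_le_left
      intro hH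
      have hHN : H ≤ N := by rw [← hH]; exact inf_le_right
      apply hN2
      rw [← top_le_iff, ← hHM]
      exact sup_le hHN hMN
    · intro g hg y hy
      obtain ⟨hyH, hy2⟩ := Subgroup.mem_inf.mp hy
      rw [mem_map_conj] at hy2
      obtain ⟨k, hk, hky⟩ := hy2
      obtain ⟨h, hh, m, hm, rfl⟩ := hdecomp g
      have hm1 : m ≠ 1 := by
        rintro rfl
        apply hg
        rw [mul_one]; exact hh
      have hy' : m * k * m⁻¹ ∈ H := by
        have e : m * k * m⁻¹ = h⁻¹ * y * h := by rw [← hky]; group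
        rw [e]
        exact H.mul_mem (H.mul_mem (H.inv_mem hh) hyH) hh
      have hmem : m * k * m⁻¹ * k⁻¹ ∈ H ⊓ M := by
        refine ⟨H.mul_mem hy' (H.inv_mem hk), ?_⟩
        have e : m * k * m⁻¹ * k⁻¹ = m * (k * m⁻¹ * k⁻¹) := by group
        rw [e]
        exact M.mul_mem hm (Subgroup.Normal.conj_mem inferInstance _ (M.inv_mem hm) _)
      rw [hHM', Subgroup.mem_bot] at hmem
      have hkC : k ∈ Subgroup.centralizer ({m} : Set G) := by
        rw [Subgroup.mem_centralizer_iff]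
        intro z hz
        rw [Set.mem_singleton_iff] at hz
        subst hz
        calc z * k = (z * k * z⁻¹ * k⁻¹) * (k * z) := by group
          _ = k * z := by rw [hmem, one_mul]
      have hkN : k ∈ N := h1 m hm hm1 hkC
      rw [← hky]
      exact Subgroup.Normal.conj_mem inferInstance _ hkN _
  · rintro ⟨-, -, -, hTI⟩ x hxM hx1 c hc
    by_contra hcN
    obtain ⟨h, hh, n, hn, rfl⟩ := hdecomp c
    have hhN : h ∉ N := by
      intro hhN
      exact hcN (N.mul_mem hhN (hMN hn))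
    have hinj : Function.Injective (fun m : M => (⟨(m : G) * h * (m : G)⁻¹ * h⁻¹, by
        have e : (m : G) * h * (m : G)⁻¹ * h⁻¹ = (m : G) * (h * (m : G)⁻¹ * h⁻¹) := by group
        rw [e]
        exact M.mul_mem m.2 (Subgroup.Normal.conj_mem inferInstance _ (M.inv_mem m.2) _)⟩ : M)) := by
      intro m₁ m₂ e
      have e' := congrArg Subtype.val e
      simp only at e'
      have e'' : (m₁ : G) * h * (m₁ : G)⁻¹ = (m₂ : G) * h * (m₂ : G)⁻¹ := by
        have := congrArg (fun z => z * h) e'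
        simpa using this
      exact Subtype.ext (claim1 N M H hHM' hTI _ _ h h m₁.2 m₂.2 hh hh hhN e'')
    have hsurj := Finite.surjective_of_injective hinj
    have hconj : h * n * h⁻¹ ∈ M := Subgroup.Normal.conj_mem inferInstance _ hn _
    obtain ⟨m, hm⟩ := hsurj ⟨h * n * h⁻¹, hconj⟩
    have hm' : (m : G) * h * (m : G)⁻¹ * h⁻¹ = h * n * h⁻¹ := congrArg Subtype.val hm
    have hc' : h * n = (m : G) * h * (m : G)⁻¹ := by
      calc h * n = (h * n * h⁻¹) * h := by group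
        _ = ((m : G) * h * (m : G)⁻¹ * h⁻¹) * h := by rw [hm']
        _ = (m : G) * h * (m : G)⁻¹ := by group
    have hcx : x * (h * n) * x⁻¹ = h * n := by
      have := (Subgroup.mem_centralizer_iff.mp hc) x rfl
      calc x * (h * n) * x⁻¹ = (h * n) * x * x⁻¹ := by rw [this]
        _ = h * n := by group
    have e3 : (x * (m : G)) * h * (x * (m : G))⁻¹ = (m : G) * h * (m : G)⁻¹ := by
      calc (x * (m : G)) * h * (x * (m : G))⁻¹ = x * ((m : G) * h * (m : G)⁻¹) * x⁻¹ := by group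
        _ = x * (h * n) * x⁻¹ := by rw [hc']
        _ = h * n := hcx
        _ = (m : G) * h * (m : G)⁻¹ := hc'
    have := claim1 N M H hHM' hTI _ _ h h (M.mul_mem hxM m.2) m.2 hh hh hhN e3
    apply hx1
    exact mul_eq_right.mp this

end Cfsg.Agent.S4113
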