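import Mathlib
import Cfsg.Statements.S4160
import Cfsg.Agent.Lib.Helper22.Pronormal
import Cfsg.Agent.Lib.Helper12.SylowBasic
import Cfsg.Agent.Lib.Lead.Cores

set_option autoImplicit false
open Cfsg

namespace Cfsg.Agent.S4160

theorem cover_bound {G : Type*} [Group G] [Finite G] (r : ℕ) [Fact r.Prime] (R : Sylow r G) :
    Set.ncard {x : G | ¬ r ∣ (Subgroup.centralizer ({x} : Set G)).index} *
      (Subgroup.centralizer ((R : Subgroup G) : Set G)).relIndex
        (Subgroup.normalizer ((R : Subgroup G) : Set G)) ≤ Nat.card G := by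
  obtain ⟨C, hC⟩ : ∃ C, C = Subgroup.centralizer ((R : Subgroup G) : Set G) := ⟨_, rfl⟩
  obtain ⟨N, hN⟩ : ∃ N, N = Subgroup.normalizer ((R : Subgroup G) : Set G) := ⟨_, rfl⟩
  rw [← hC, ← hN]
  have hCN : C ≤ N := by rw [hC, hN]; exact Subgroup.centralizer_le_normalizer _
  let φ : (G ⧸ N) × C → G := fun cz => cz.1.out * (cz.2 : G) * (cz.1.out)⁻¹
  have hsub : {x : G | ¬ r ∣ (Subgroup.centralizer ({x} : Set G)).index} ⊆ Set.range φ := by
    intro x hx
    obtain ⟨R', hR'⟩ := Cfsg.Agent.Lib.Helper22.Pronormal.exists_sylow_le_of_not_dvd_index _ hx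
    obtain ⟨g, hg⟩ := MulAction.exists_smul_eq G R R'
    obtain ⟨n, hn⟩ := QuotientGroup.mk_out_eq_mul N g
    have hz : (g * n)⁻¹ * x * (g * n) ∈ C := by
      rw [hC, Subgroup.mem_centralizer_iff]
      intro y hy
      have h1 : (n : G) * y * (n : G)⁻¹ ∈ (R : Subgroup G) := by
        have hn2 : (n : G) ∈ Subgroup.normalizer ((R : Subgroup G) : Set G) := (le_of_eq hN) n.2
        rw [Subgroup.mem_normalizer_iff] at hn2
        exact (hn2 y).mp hy
      have h2 : (g * n) * y * (g * n)⁻¹ ∈ ((g • R : Sylow r G) : Subgroup G) := by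
        rw [Cfsg.Agent.Lib.Helper12.SylowBasic.mem_smul_sylow_iff]
        have e : g⁻¹ * ((g * n) * y * (g * n)⁻¹) * g = (n : G) * y * (n : G)⁻¹ := by group
        rw [e]; exact h1
      rw [hg] at h2
      have h3 := hR' h2
      rw [Subgroup.mem_centralizer_iff] at h3
      have h4 := h3 x (Set.mem_singleton x)
      have e1 : y * ((g * n)⁻¹ * x * (g * n)) =
          (g * n)⁻¹ * (((g * n) * y * (g * n)⁻¹) * x) * (g * n) := by group
      have e2 : (g * n)⁻¹ * x * (g * n) * y =
          (g * n)⁻¹ * (x * ((g * n) * y * (g * n)⁻¹)) * (g * n) := by group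
      rw [e1, e2, h4]
    refine ⟨((QuotientGroup.mk g : G ⧸ N), ⟨_, hz⟩), ?_⟩
    show (QuotientGroup.mk g : G ⧸ N).out * ((g * n)⁻¹ * x * (g * n)) *
      ((QuotientGroup.mk g : G ⧸ N).out)⁻¹ = x
    rw [hn]; group
  have h1 : Set.ncard {x : G | ¬ r ∣ (Subgroup.centralizer ({x} : Set G)).index} ≤
      Nat.card ((G ⧸ N) × C) := by
    calc _ ≤ Set.ncard (Set.range φ) := Set.ncard_le_ncard hsub (Set.toFinite _)
      _ = Set.ncard (φ '' Set.univ) := by rw [Set.image_univ]
      _ ≤ Set.ncard (Set.univ : Set ((G ⧸ N) × C)) := Set.ncard_image_le (Set.toFinite _)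
      _ = Nat.card ((G ⧸ N) × C) := Set.ncard_univ _
  rw [Nat.card_prod] at h1
  have h2 : Nat.card (G ⧸ N) = N.index := (Subgroup.index_eq_card N).symm
  have h3 : Nat.card C * C.relIndex N = Nat.card N :=
    Cfsg.Agent.Lib.Lead.Cores.card_mul_relIndex_of_le hCN
  have h4 : N.index * Nat.card N = Nat.card G := Subgroup.index_mul_card N
  calc _ ≤ (Nat.card (G ⧸ N) * Nat.card C) * C.relIndex N := Nat.mul_le_mul_right _ h1
    _ = Nat.card G := by rw [mul_assoc, h3, h2, h4]

theorem npc_of_relIndex_one {G : Type*} [Group G] [Finite G] (r : ℕ) [Fact r.Prime] (R : Sylow r G)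
    (h : (Subgroup.centralizer ((R : Subgroup G) : Set G)).relIndex
      (Subgroup.normalizer ((R : Subgroup G) : Set G)) = 1) :
    Cfsg.HasNormalPComplement r G := by
  have hP : Subgroup.normalizer ((R : Subgroup G) : Set G) ≤
      Subgroup.centralizer ((R : Subgroup G) : Set G) := Subgroup.relIndex_eq_one.mp h
  exact ⟨R, (MonoidHom.transferSylow R hP).ker, inferInstance,
    MonoidHom.ker_transferSylow_isComplement' R hP⟩

theorem result {G : Type*} [Group G] [Finite G] (p q : ℕ) (hp : p.Prime) (hq : q.Prime) (hpq : p ≠ q)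
    (hp' : ∃ x : G, p ∣ (Subgroup.centralizer ({x} : Set G)).index) (hq' : ∃ x : G, q ∣ (Subgroup.centralizer ({x} : Set G)).index) (h : ∀ x : G, ¬ p * q ∣ (Subgroup.centralizer ({x} : Set G)).index) :
    Cfsg.HasNormalPComplement p G ∨ Cfsg.HasNormalPComplement q G := by
  haveI : Fact p.Prime := ⟨hp⟩
  haveI : Fact q.Prime := ⟨hq⟩
  obtain ⟨P⟩ : Nonempty (Sylow p G) := inferInstance
  obtain ⟨Q⟩ : Nonempty (Sylow q G) := inferInstance
  by_contra hcon
  push_neg at hcon
  have hP1 : (Subgroup.centralizer ((P : Subgroup G) : Set G)).relIndex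
      (Subgroup.normalizer ((P : Subgroup G) : Set G)) ≠ 1 :=
    fun h1 => hcon.1 (npc_of_relIndex_one p P h1)
  have hQ1 : (Subgroup.centralizer ((Q : Subgroup G) : Set G)).relIndex
      (Subgroup.normalizer ((Q : Subgroup G) : Set G)) ≠ 1 :=
    fun h1 => hcon.2 (npc_of_relIndex_one q Q h1)
  have hP0 : (Subgroup.centralizer ((P : Subgroup G) : Set G)).relIndex
      (Subgroup.normalizer ((P : Subgroup G) : Set G)) ≠ 0 := by
    unfold Subgroup.relIndex; exact Subgroup.index_ne_zero_of_finite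
  have hQ0 : (Subgroup.centralizer ((Q : Subgroup G) : Set G)).relIndex
      (Subgroup.normalizer ((Q : Subgroup G) : Set G)) ≠ 0 := by
    unfold Subgroup.relIndex; exact Subgroup.index_ne_zero_of_finite
  have hone : ∀ r : ℕ, r.Prime →
      (1 : G) ∈ {x : G | ¬ r ∣ (Subgroup.centralizer ({x} : Set G)).index} := by
    intro r hr
    have h1 : Subgroup.centralizer ({1} : Set G) = ⊤ :=
      Subgroup.centralizer_eq_top_iff_subset.mpr
        (Set.singleton_subset_iff.mpr (Subgroup.one_mem _))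
    show ¬ r ∣ (Subgroup.centralizer ({1} : Set G)).index
    rw [h1, Subgroup.index_top]
    exact hr.not_dvd_one
  have hun : {x : G | ¬ p ∣ (Subgroup.centralizer ({x} : Set G)).index} ∪
      {x : G | ¬ q ∣ (Subgroup.centralizer ({x} : Set G)).index} = Set.univ := by
    ext x
    simp only [Set.mem_union, Set.mem_setOf_eq, Set.mem_univ, iff_true]
    by_contra hx
    push_neg at hx
    exact h x (Nat.Coprime.mul_dvd_of_dvd_of_dvd ((Nat.coprime_primes hp hq).mpr hpq) hx.1 hx.2)
  have hint : 1 ≤ Set.ncard ({x : G | ¬ p ∣ (Subgroup.centralizer ({x} : Set G)).index} ∩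
      {x : G | ¬ q ∣ (Subgroup.centralizer ({x} : Set G)).index}) := by
    rw [Nat.succ_le_iff, Set.ncard_pos (Set.toFinite _)]
    exact ⟨1, hone p hp, hone q hq⟩
  have hsum := Set.ncard_union_add_ncard_inter
    {x : G | ¬ p ∣ (Subgroup.centralizer ({x} : Set G)).index}
    {x : G | ¬ q ∣ (Subgroup.centralizer ({x} : Set G)).index}
  rw [hun, Set.ncard_univ] at hsum
  have b1 := cover_bound p P
  have b2 := cover_bound q Q
  have c1 : Set.ncard {x : G | ¬ p ∣ (Subgroup.centralizer ({x} : Set G)).index} * 2 ≤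
      Nat.card G := le_trans (Nat.mul_le_mul_left _ (by omega)) b1
  have c2 : Set.ncard {x : G | ¬ q ∣ (Subgroup.centralizer ({x} : Set G)).index} * 2 ≤
      Nat.card G := le_trans (Nat.mul_le_mul_left _ (by omega)) b2
  omega

end Cfsg.Agent.S4160
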