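import Mathlib
import Cfsg.Statements.S4263
import Cfsg.Agent.Lib.Helper12.SylowBasic
import Cfsg.Agent.Lib.Lead.Cores

set_option autoImplicit false
open Cfsg

namespace Cfsg.Agent.S4263

theorem pow_index_mem_of_nilpotent {F : Type*} [Group F] [Finite F] [Group.IsNilpotent F] :
    ∀ n : ℕ, ∀ L : Subgroup F, L.index = n → ∀ x : F, x ^ L.index ∈ L := by
  intro n
  induction n using Nat.strong_induction_on with
  | _ n ih =>
    intro L hL x
    by_cases htop : L = ⊤
    · rw [htop]; exact Subgroup.mem_top _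
    have hlt : L < Subgroup.normalizer (L : Set F) :=
      Group.normalizerCondition_of_isNilpotent L (lt_top_iff_ne_top.mpr htop)
    obtain ⟨M, hM⟩ : ∃ M, M = Subgroup.normalizer (L : Set F) := ⟨_, rfl⟩
    rw [← hM] at hlt
    have h3 : L.relIndex M * M.index = L.index := Subgroup.relIndex_mul_index hlt.le
    have hr1 : L.relIndex M ≠ 1 := by
      intro h1
      exact (not_le_of_gt hlt) (Subgroup.relIndex_eq_one.mp h1)
    have hr0 : L.relIndex M ≠ 0 := by
      unfold Subgroup.relIndex; exact Subgroup.index_ne_zero_of_finite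
    have hM0 : M.index ≠ 0 := Subgroup.index_ne_zero_of_finite
    have hidx : M.index < n := by
      rw [← hL, ← h3]
      have h2 : 2 ≤ L.relIndex M := by omega
      have hMpos : 0 < M.index := Nat.pos_of_ne_zero hM0
      nlinarith
    have h1 : x ^ M.index ∈ M := ih M.index hidx M rfl x
    haveI : (L.subgroupOf M).Normal := by rw [hM]; exact Subgroup.normal_in_normalizer
    have h2 : (⟨x ^ M.index, h1⟩ : M) ^ (L.subgroupOf M).index ∈ L.subgroupOf M :=
      Subgroup.pow_index_mem _ _
    rw [Subgroup.mem_subgroupOf, Subgroup.coe_pow] at h2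
    rw [← h3, mul_comm, pow_mul]
    exact h2

theorem relIndex_sup_eq {G : Type*} [Group G] [Finite G] (H F : Subgroup G) [F.Normal] :
    H.relIndex F ∣ H.index := by
  have e1 : F.relIndex (H ⊔ F) = F.relIndex H := Subgroup.relIndex_sup_right H F
  have c1 : Nat.card F * F.relIndex (H ⊔ F) = Nat.card (H ⊔ F : Subgroup G) :=
    Cfsg.Agent.Lib.Lead.Cores.card_mul_relIndex_of_le le_sup_right
  have c2 : Nat.card H * H.relIndex (H ⊔ F) = Nat.card (H ⊔ F : Subgroup G) :=
    Cfsg.Agent.Lib.Lead.Cores.card_mul_relIndex_of_le le_sup_left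
  have c3 : Nat.card (H ⊓ F : Subgroup G) * (H ⊓ F).relIndex F = Nat.card F :=
    Cfsg.Agent.Lib.Lead.Cores.card_mul_relIndex_of_le inf_le_right
  have c4 : Nat.card (H ⊓ F : Subgroup G) * (H ⊓ F).relIndex H = Nat.card H :=
    Cfsg.Agent.Lib.Lead.Cores.card_mul_relIndex_of_le inf_le_left
  rw [Subgroup.inf_relIndex_right] at c3
  rw [Subgroup.inf_relIndex_left] at c4
  have hpos : 0 < Nat.card (H ⊓ F : Subgroup G) := Nat.card_pos
  have hpos2 : 0 < F.relIndex H := by
    apply Nat.pos_of_ne_zero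
    unfold Subgroup.relIndex; exact Subgroup.index_ne_zero_of_finite
  have key : H.relIndex (H ⊔ F) = H.relIndex F := by
    have e2 : Nat.card (H ⊓ F : Subgroup G) * F.relIndex H * H.relIndex (H ⊔ F) =
        Nat.card (H ⊓ F : Subgroup G) * F.relIndex H * H.relIndex F := by
      calc _ = Nat.card H * H.relIndex (H ⊔ F) := by rw [c4]
        _ = Nat.card F * F.relIndex H := by rw [c2, ← c1, e1]
        _ = _ := by rw [← c3]; ring
    exact Nat.eq_of_mul_eq_mul_left (Nat.mul_pos hpos hpos2) e2
  rw [← key]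
  exact Subgroup.relIndex_dvd_index_of_le le_sup_left

theorem result {G : Type*} [Group G] [Finite G] (x : G) :
    x ∈ Cfsg.fittingSubgroup G ↔ ∀ H : Subgroup G, x ^ H.index ∈ H := by
  haveI hFn := Cfsg.Agent.Lib.Lead.Cores.fittingSubgroup_normal (G := G)
  constructor
  · intro hx H
    haveI := Cfsg.Agent.Lib.Lead.Cores.fittingSubgroup_isNilpotent (G := G)
    have h1 := pow_index_mem_of_nilpotent (F := ↥(fittingSubgroup G)) _
      (H.subgroupOf (fittingSubgroup G)) rfl ⟨x, hx⟩
    rw [Subgroup.mem_subgroupOf, Subgroup.coe_pow] at h1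
    have h2 : x ^ (H.relIndex (fittingSubgroup G)) ∈ H := h1
    obtain ⟨c, hc⟩ := relIndex_sup_eq H (fittingSubgroup G)
    rw [hc, pow_mul]
    exact H.pow_mem h2 c
  · intro hx
    by_contra hxF
    have hne : (QuotientGroup.mk x : G ⧸ fittingSubgroup G) ≠ 1 := by
      rwa [Ne, QuotientGroup.eq_one_iff]
    have hd : orderOf (QuotientGroup.mk x : G ⧸ fittingSubgroup G) ≠ 1 := by
      rwa [Ne, orderOf_eq_one_iff]
    obtain ⟨r, hr, hrd⟩ := Nat.exists_prime_and_dvd hd
    haveI : Fact r.Prime := ⟨hr⟩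
    obtain ⟨R⟩ : Nonempty (Sylow r G) := inferInstance
    have hK : ∀ Q : Sylow r G, x ^ (R : Subgroup G).index ∈ (Q : Subgroup G) := by
      intro Q
      have e : (Q : Subgroup G).index = (R : Subgroup G).index := by
        have e1 : Nat.card (Q : Subgroup G) = Nat.card (R : Subgroup G) := by
          rw [Sylow.card_eq_multiplicity, Sylow.card_eq_multiplicity]
        have e2 := Subgroup.card_mul_index (Q : Subgroup G)
        have e3 := Subgroup.card_mul_index (R : Subgroup G)
        rw [e1, ← e3] at e2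
        exact Nat.eq_of_mul_eq_mul_left Nat.card_pos e2
      rw [← e]; exact hx Q
    obtain ⟨K, hKdef⟩ : ∃ K : Subgroup G, K = ⨅ Q : Sylow r G, (Q : Subgroup G) := ⟨_, rfl⟩
    have hxK : x ^ (R : Subgroup G).index ∈ K := by
      rw [hKdef, Subgroup.mem_iInf]; exact hK
    have hKn : K.Normal := by
      constructor
      intro y hy g
      rw [hKdef, Subgroup.mem_iInf] at hy ⊢
      intro Q
      have h1 := hy (g⁻¹ • Q)
      rw [Cfsg.Agent.Lib.Helper12.SylowBasic.mem_smul_sylow_iff] at h1
      simpa using h1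
    have hKp : IsPGroup r K := R.2.to_le (by rw [hKdef]; exact iInf_le _ R)
    have hKnil : Group.IsNilpotent K := hKp.isNilpotent
    have hKF : K ≤ fittingSubgroup G := Cfsg.Agent.Lib.Lead.Cores.le_fittingSubgroup hKn hKnil
    have h1 : (QuotientGroup.mk x : G ⧸ fittingSubgroup G) ^ (R : Subgroup G).index = 1 := by
      rw [← QuotientGroup.mk_pow, QuotientGroup.eq_one_iff]; exact hKF hxK
    have h2 := orderOf_dvd_of_pow_eq_one h1
    exact R.not_dvd_index (hrd.trans h2)

end Cfsg.Agent.S4263
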