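import Mathlib
import Cfsg.Statements.S4176
import Cfsg.Agent.S4263

set_option autoImplicit false
open Cfsg

namespace Cfsg.Agent.S4176

universe u v w

theorem prod_of_coprime {X : Type*} [Group X] [Finite X] (A C : Subgroup X)
    (hcop : Nat.Coprime A.index C.index) (g : X) : ∃ u ∈ A, u⁻¹ * g ∈ C := by
  have h1 : (A ⊓ C).relIndex A * A.index = (A ⊓ C).index := Subgroup.relIndex_mul_index inf_le_left
  have h2 : (A ⊓ C).relIndex C * C.index = (A ⊓ C).index := Subgroup.relIndex_mul_index inf_le_right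
  rw [Subgroup.inf_relIndex_left] at h1
  rw [Subgroup.inf_relIndex_right] at h2
  have hne : C.relIndex A ≠ 0 := by
    unfold Subgroup.relIndex
    exact Subgroup.index_ne_zero_of_finite
  have hge : C.index ≤ C.relIndex A := by
    have h3 : C.index ∣ C.relIndex A * A.index := by
      rw [h1, ← h2]
      exact Dvd.intro_left _ rfl
    have h4 : C.index ∣ C.relIndex A := hcop.symm.dvd_of_dvd_mul_right h3
    exact Nat.le_of_dvd (Nat.pos_of_ne_zero hne) h4
  obtain ⟨ψ, hψ⟩ : ∃ ψ : ↥A ⧸ C.subgroupOf A → X ⧸ C,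
      ∀ u : ↥A, ψ (QuotientGroup.mk u) = QuotientGroup.mk (u : X) :=
    ⟨Quotient.map' (fun u : ↥A => (u : X)) (by
      intro x y h
      rw [QuotientGroup.leftRel_apply] at h ⊢
      exact h), fun u => rfl⟩
  have hinj : Function.Injective ψ := by
    intro q₁ q₂ h
    obtain ⟨x, rfl⟩ := QuotientGroup.mk_surjective q₁
    obtain ⟨y, rfl⟩ := QuotientGroup.mk_surjective q₂
    rw [hψ, hψ, QuotientGroup.eq] at h
    exact QuotientGroup.eq.mpr h
  have hcard : Nat.card (X ⧸ C) ≤ Nat.card (↥A ⧸ C.subgroupOf A) := by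
    rw [← Subgroup.index_eq_card, ← Subgroup.index_eq_card]
    exact hge
  have hbij := hinj.bijective_of_nat_card_le hcard
  obtain ⟨q, hq⟩ := hbij.2 (QuotientGroup.mk g)
  obtain ⟨u, rfl⟩ := QuotientGroup.mk_surjective q
  rw [hψ, QuotientGroup.eq] at hq
  exact ⟨u, u.2, hq⟩

section basics

variable {k : Type u} {V : Type v} {H : Type w} [Field k] [AddCommGroup V] [Module k V] [Group H]

theorem rho_mul (ρ : Representation k H V) (x y : H) (z : V) : ρ (x * y) z = ρ x (ρ y z) := by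
  rw [map_mul]
  rfl

theorem rho_one (ρ : Representation k H V) (z : V) : ρ 1 z = z := by
  rw [map_one]
  rfl

theorem rho_inv_cancel (ρ : Representation k H V) (x : H) (z : V) : ρ x⁻¹ (ρ x z) = z := by
  rw [← rho_mul, inv_mul_cancel, rho_one]

def stab (ρ : Representation k H V) (z : V) : Subgroup H where
  carrier := {h | ρ h z = z}
  mul_mem' := by
    intro x y hx hy
    show ρ (x * y) z = z
    rw [rho_mul, (hy : ρ y z = z), (hx : ρ x z = z)]
  one_mem' := rho_one ρ z
  inv_mem' := by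
    intro x hx
    show ρ x⁻¹ z = z
    have h1 := rho_inv_cancel ρ x z
    rwa [(hx : ρ x z = z)] at h1

theorem mem_stab (ρ : Representation k H V) (z : V) (h : H) : h ∈ stab ρ z ↔ ρ h z = z := Iff.rfl

theorem orbit_card [Finite H] (ρ : Representation k H V) (z : V) :
    Nat.card {u : V | ∃ h : H, ρ h z = u} = (stab ρ z).index := by
  letI : MulAction H V :=
    { smul := fun h x => ρ h x
      one_smul := fun x => rho_one ρ x
      mul_smul := fun x y t => rho_mul ρ x y t }
  have h1 := MulAction.index_stabilizer H z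
  have h2 : MulAction.stabilizer H z = stab ρ z := by
    ext h
    exact Iff.rfl
  have h3 : MulAction.orbit H z = {u : V | ∃ h : H, ρ h z = u} := by
    ext u
    exact Iff.rfl
  rw [← h2, h1, h3, Nat.card_coe_set_eq]

def fixedSub (ρ : Representation k H V) (N : Subgroup H) : Submodule k V where
  carrier := {z | ∀ g ∈ N, ρ g z = z}
  add_mem' := by
    intro x y hx hy g hg
    rw [map_add, hx g hg, hy g hg]
  zero_mem' := by
    intro g hg
    rw [map_zero]
  smul_mem' := by
    intro c x hx g hg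
    rw [map_smul, hx g hg]

theorem mem_fixedSub (ρ : Representation k H V) (N : Subgroup H) (z : V) :
    z ∈ fixedSub ρ N ↔ ∀ g ∈ N, ρ g z = z := Iff.rfl

theorem fixedSub_invariant (ρ : Representation k H V) (N : Subgroup H) (hN : N.Normal) (h : H) :
    fixedSub ρ N ≤ (fixedSub ρ N).comap (ρ h) := by
  intro z hz
  rw [Submodule.mem_comap, mem_fixedSub]
  intro g hg
  have h1 : h⁻¹ * g * h ∈ N := by
    have := hN.conj_mem g hg h⁻¹
    rwa [inv_inv] at this
  have h2 : g * h = h * (h⁻¹ * g * h) := by group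
  rw [← rho_mul, h2, rho_mul, (mem_fixedSub ρ N z).1 hz _ h1]

theorem avg_exists [Finite H] (p : ℕ) [Fact p.Prime] [CharP k p] (ρ : Representation k H V)
    (M K : Subgroup H) (hK : ∀ g ∈ K, ∀ z : V, ρ g z = z) (hcop : ¬ p ∣ K.relIndex M) :
    ∃ E : V →ₗ[k] V, (∀ g ∈ M, ∀ z, ρ g (E z) = E z) ∧ (∀ g ∈ M, ∀ z, E (ρ g z) = E z) ∧
      (∀ (L : V →ₗ[k] V) (x y : V), (∀ g ∈ M, L (ρ g x) = y) → L (E x) = y) ∧
      (∀ h : H, (∀ g ∈ M, h * g * h⁻¹ ∈ M) → ∀ z, ρ h (E z) = E (ρ h z)) := by
  classical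
  obtain ⟨ρu, hρu⟩ : ∃ ρu : H →* (V →ₗ[k] V)ˣ, ∀ x : H, ((ρu x : (V →ₗ[k] V)ˣ) : V →ₗ[k] V) = ρ x :=
    ⟨MonoidHom.toHomUnits ρ, fun x => rfl⟩
  obtain ⟨φ, hφ⟩ : ∃ φ : ↥M →* (V →ₗ[k] V)ˣ, ∀ g : ↥M, φ g = ρu (g : H) :=
    ⟨ρu.comp M.subtype, fun g => rfl⟩
  have hφval : ∀ g : ↥M, ((φ g : (V →ₗ[k] V)ˣ) : V →ₗ[k] V) = ρ (g : H) := by
    intro g
    rw [hφ, hρu]
  haveI : Finite φ.range := Finite.of_surjective φ.rangeRestrict φ.rangeRestrict_surjective
  haveI : Fintype φ.range := Fintype.ofFinite _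
  have hker : K.subgroupOf M ≤ φ.ker := by
    intro g hg
    rw [MonoidHom.mem_ker]
    apply Units.ext
    rw [hφval]
    ext z
    exact hK _ (Subgroup.mem_subgroupOf.1 hg) z
  have ht : ((Nat.card φ.range : ℕ) : k) ≠ 0 := by
    intro h0
    apply hcop
    have h1 : p ∣ Nat.card φ.range := (CharP.cast_eq_zero_iff k p _).1 h0
    have h2 : Nat.card φ.range ∣ K.relIndex M := by
      rw [← Subgroup.index_ker]
      exact Subgroup.index_dvd_of_le hker
    exact h1.trans h2
  obtain ⟨Sg, hSg⟩ : ∃ Sg : V →ₗ[k] V,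
      Sg = ∑ T : φ.range, ((T : (V →ₗ[k] V)ˣ) : V →ₗ[k] V) := ⟨_, rfl⟩
  have hL : ∀ g : ↥M, ρ (g : H) * Sg = Sg := by
    intro g
    rw [hSg, Finset.mul_sum, ← hφval g]
    exact Equiv.sum_comp (Equiv.mulLeft (⟨φ g, g, rfl⟩ : φ.range))
      (fun T : φ.range => ((T : (V →ₗ[k] V)ˣ) : V →ₗ[k] V))
  have hR : ∀ g : ↥M, Sg * ρ (g : H) = Sg := by
    intro g
    rw [hSg, Finset.sum_mul, ← hφval g]
    exact Equiv.sum_comp (Equiv.mulRight (⟨φ g, g, rfl⟩ : φ.range))
      (fun T : φ.range => ((T : (V →ₗ[k] V)ˣ) : V →ₗ[k] V))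
  refine ⟨((Nat.card φ.range : ℕ) : k)⁻¹ • Sg, ?_, ?_, ?_, ?_⟩
  · intro g hg z
    have h1 := hL ⟨g, hg⟩
    have h2 : ρ g (Sg z) = Sg z := congrArg (fun f : V →ₗ[k] V => f z) h1
    rw [LinearMap.smul_apply, map_smul, h2]
  · intro g hg z
    have h1 := hR ⟨g, hg⟩
    have h2 : Sg (ρ g z) = Sg z := congrArg (fun f : V →ₗ[k] V => f z) h1
    rw [LinearMap.smul_apply, LinearMap.smul_apply, h2]
  · intro L x y hxy
    rw [LinearMap.smul_apply, map_smul, hSg, LinearMap.sum_apply, map_sum]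
    have h1 : ∀ T : φ.range, L (((T : (V →ₗ[k] V)ˣ) : V →ₗ[k] V) x) = y := by
      rintro ⟨T, g, rfl⟩
      show L (((φ g : (V →ₗ[k] V)ˣ) : V →ₗ[k] V) x) = y
      rw [hφval]
      exact hxy _ g.2
    rw [Finset.sum_congr rfl (fun T _ => h1 T), Finset.sum_const, Finset.card_univ,
      ← Nat.card_eq_fintype_card, ← Nat.cast_smul_eq_nsmul k, smul_smul, inv_mul_cancel₀ ht,
      one_smul]
  · intro h hnorm z
    have hU : ∀ g : ↥M, ρu h * φ g * (ρu h)⁻¹ = φ ⟨h * g * h⁻¹, hnorm g g.2⟩ := by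
      intro g
      rw [hφ, hφ, ← map_inv, ← map_mul, ← map_mul]
    have hcj : ∀ T : φ.range, ρu h * (T : (V →ₗ[k] V)ˣ) * (ρu h)⁻¹ ∈ φ.range := by
      rintro ⟨T, g, rfl⟩
      show ρu h * φ g * (ρu h)⁻¹ ∈ φ.range
      rw [hU]
      exact ⟨_, rfl⟩
    obtain ⟨cj, hcjdef⟩ : ∃ cj : φ.range → φ.range,
        ∀ T : φ.range, ((cj T : φ.range) : (V →ₗ[k] V)ˣ) = ρu h * (T : (V →ₗ[k] V)ˣ) * (ρu h)⁻¹ :=
      ⟨fun T => ⟨ρu h * (T : (V →ₗ[k] V)ˣ) * (ρu h)⁻¹, hcj T⟩, fun T => rfl⟩
    have hinj : Function.Injective cj := by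
      intro T T' hTT
      have h1 : ρu h * (T : (V →ₗ[k] V)ˣ) * (ρu h)⁻¹ = ρu h * (T' : (V →ₗ[k] V)ˣ) * (ρu h)⁻¹ := by
        rw [← hcjdef, ← hcjdef, hTT]
      exact Subtype.ext (mul_left_cancel (mul_right_cancel h1))
    have hbij : Function.Bijective cj := Finite.injective_iff_bijective.1 hinj
    have e1 : Sg = ∑ T : φ.range, (((cj T : φ.range) : (V →ₗ[k] V)ˣ) : V →ₗ[k] V) := by
      rw [hSg]
      exact (Equiv.sum_comp (Equiv.ofBijective cj hbij)
        (fun T : φ.range => ((T : (V →ₗ[k] V)ˣ) : V →ₗ[k] V))).symm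
    have hcomm : ρ h * Sg = Sg * ρ h := by
      calc ρ h * Sg = ∑ T : φ.range, ρ h * ((T : (V →ₗ[k] V)ˣ) : V →ₗ[k] V) := by
            rw [hSg, Finset.mul_sum]
        _ = ∑ T : φ.range, (((cj T : φ.range) : (V →ₗ[k] V)ˣ) : V →ₗ[k] V) * ρ h := by
            apply Finset.sum_congr rfl
            intro T _
            rw [hcjdef, ← hρu h, ← Units.val_mul, ← Units.val_mul, inv_mul_cancel_right]
        _ = Sg * ρ h := by rw [← Finset.sum_mul, ← e1]
    have h2 : ρ h (Sg z) = Sg (ρ h z) := congrArg (fun f : V →ₗ[k] V => f z) hcomm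
    rw [LinearMap.smul_apply, LinearMap.smul_apply, map_smul, h2]

end basics

section main

variable {k : Type u} {H : Type w} [Field k] [Group H]

theorem claim [Finite H] (p : ℕ) [Fact p.Prime] [CharP k p] (n : ℕ) (Hs : Fin (n + 1) → Subgroup H)
    (hlast : Hs (Fin.last n) = ⊤) (hmono : Monotone Hs) (hnorm : ∀ i, (Hs i).Normal)
    (hstep : ∀ i : Fin n, (∃ m : ℕ, (Hs i.castSucc).relIndex (Hs i.succ) = p ^ m) ∨
      ((Hs i.castSucc).relIndex (Hs i.succ)).Coprime p) (i : Fin (n + 1)) :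
    ∀ (V : Type v) [AddCommGroup V] [Module k V] (ρ : Representation k H V) (a : V),
      (∃ P : Sylow p H, ∀ x : H, x ∈ (P : Subgroup H) → ρ x a = a) →
      Submodule.span k {u : V | ∃ h : H, ρ h a = u} = ⊤ →
      (∀ g ∈ Hs i, ∀ z : V, ρ g z = z) →
      (∃ v₀ : V, ∀ z : V, (∀ h : H, ρ h z = z) → ∃ c : k, c • v₀ = z) ∧
      ∀ b : V, (Nat.card {u : V | ∃ h : H, ρ h a = u}).Coprime
        (Nat.card {u : V | ∃ h : H, ρ h b = u}) → ∀ h : H, ρ h b = b := by
  have hp : p.Prime := Fact.out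
  induction i using Fin.reverseInduction with
  | last =>
    intro V _ _ ρ a hP hspan htriv
    have hall : ∀ (g : H) (z : V), ρ g z = z := fun g z => htriv g (by rw [hlast]; trivial) z
    refine ⟨⟨a, ?_⟩, fun b _ h => hall h b⟩
    intro z _
    have h1 : {u : V | ∃ h : H, ρ h a = u} = {a} := by
      ext u
      constructor
      · rintro ⟨h, rfl⟩
        exact hall h a
      · intro hu
        rw [Set.mem_singleton_iff] at hu
        exact ⟨1, by rw [hu]; exact hall 1 a⟩
    have h2 : z ∈ Submodule.span k {u : V | ∃ h : H, ρ h a = u} := by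
      rw [hspan]
      trivial
    rw [h1] at h2
    exact Submodule.mem_span_singleton.1 h2
  | cast i ih =>
    intro V _ _ ρ a hP hspan htriv
    obtain ⟨P, hPa⟩ := hP
    haveI hNn : (Hs i.succ).Normal := hnorm _
    have hKN : Hs i.castSucc ≤ Hs i.succ := hmono (Fin.castSucc_le_succ i)
    rcases hstep i with ⟨m, hm⟩ | hcop
    · apply ih V ρ a ⟨P, hPa⟩ hspan
      have hKa : Hs i.castSucc ≤ stab ρ a := fun g hg => htriv g hg a
      have hPa' : (P : Subgroup H) ≤ stab ρ a := fun x hx => hPa x hx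
      have h1 : (stab ρ a).relIndex (Hs i.succ) ∣ p ^ m := by
        rw [← hm]
        exact Subgroup.relIndex_dvd_of_le_left _ hKa
      have h2 : (stab ρ a).relIndex (Hs i.succ) ∣ (P : Subgroup H).index :=
        (Subgroup.relIndex_dvd_of_le_left _ hPa').trans
          (Cfsg.Agent.S4263.relIndex_sup_eq (P : Subgroup H) (Hs i.succ))
      have h3 : (stab ρ a).relIndex (Hs i.succ) = 1 := by
        obtain ⟨j, -, hj⟩ := (Nat.dvd_prime_pow hp).1 h1
        rcases Nat.eq_zero_or_pos j with rfl | hjpos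
        · simpa using hj
        · exfalso
          apply P.not_dvd_index
          rw [hj] at h2
          exact (dvd_pow_self p hjpos.ne').trans h2
      have h4 : Hs i.succ ≤ stab ρ a := Subgroup.relIndex_eq_one.1 h3
      have h5 : (⊤ : Submodule k V) ≤ fixedSub ρ (Hs i.succ) := by
        rw [← hspan, Submodule.span_le]
        rintro u ⟨h, rfl⟩
        show ρ h a ∈ fixedSub ρ (Hs i.succ)
        rw [mem_fixedSub]
        intro g hg
        have h6 : h⁻¹ * g * h ∈ Hs i.succ := by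
          have := hNn.conj_mem g hg h⁻¹
          rwa [inv_inv] at this
        have h7 : g * h = h * (h⁻¹ * g * h) := by group
        rw [← rho_mul, h7, rho_mul, (mem_stab ρ a _).1 (h4 h6)]
      intro g hg z
      exact (mem_fixedSub ρ _ z).1 (h5 trivial) g hg
    · have hcop' : ¬ p ∣ (Hs i.castSucc).relIndex (Hs i.succ) :=
        (Nat.Prime.coprime_iff_not_dvd hp).1 hcop.symm
      obtain ⟨F, hFL, hFR, hFP, hFE⟩ := avg_exists p ρ (Hs i.succ) (Hs i.castSucc) htriv hcop'
      have hFeq : ∀ (h : H) (z : V), ρ h (F z) = F (ρ h z) := fun h =>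
        hFE h (fun g hg => hNn.conj_mem g hg h)
      have hFfix : ∀ z : V, (∀ g ∈ Hs i.succ, ρ g z = z) → F z = z := fun z hz =>
        hFP LinearMap.id z z hz
      obtain ⟨W, hW⟩ : ∃ W : Submodule k V, W = fixedSub ρ (Hs i.succ) := ⟨_, rfl⟩
      have hWinv : ∀ h : H, W ≤ W.comap (ρ h) := by
        intro h
        rw [hW]
        exact fixedSub_invariant ρ _ hNn h
      have hFW : ∀ z : V, F z ∈ W := by
        intro z
        rw [hW, mem_fixedSub]
        exact fun g hg => hFL g hg z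
      have hWmem : ∀ z : V, z ∈ W ↔ ∀ g ∈ Hs i.succ, ρ g z = z := by
        intro z
        rw [hW]
        exact Iff.rfl
      obtain ⟨ρ', hρ'⟩ : ∃ ρ' : Representation k H W,
          ∀ (h : H) (z : W), ((ρ' h z : W) : V) = ρ h (z : V) :=
        ⟨ρ.subrepresentation W hWinv, fun h z => rfl⟩
      have ha' : ∃ P : Sylow p H, ∀ x : H, x ∈ (P : Subgroup H) →
          ρ' x ⟨F a, hFW a⟩ = ⟨F a, hFW a⟩ := by
        refine ⟨P, fun x hx => ?_⟩
        apply Subtype.ext
        rw [hρ']
        show ρ x (F a) = F a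
        rw [hFeq, hPa x hx]
      have hspan' : Submodule.span k {u : W | ∃ h : H, ρ' h ⟨F a, hFW a⟩ = u} = ⊤ := by
        rw [eq_top_iff]
        intro z _
        have h1 : (⊤ : Submodule k V) ≤
            (Submodule.span k {u : W | ∃ h : H, ρ' h ⟨F a, hFW a⟩ = u}).comap
              (F.codRestrict W hFW) := by
          rw [← hspan, Submodule.span_le]
          rintro u ⟨h, rfl⟩
          show F.codRestrict W hFW (ρ h a) ∈
            Submodule.span k {u : W | ∃ h : H, ρ' h ⟨F a, hFW a⟩ = u}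
          apply Submodule.subset_span
          refine ⟨h, ?_⟩
          apply Subtype.ext
          rw [hρ']
          show ρ h (F a) = F (ρ h a)
          exact hFeq h a
        have h2 := h1 (Submodule.mem_top : (z : V) ∈ (⊤ : Submodule k V))
        have h3 : F.codRestrict W hFW (z : V) = z := by
          apply Subtype.ext
          show F (z : V) = (z : V)
          exact hFfix _ ((hWmem _).1 z.2)
        rw [Submodule.mem_comap, h3] at h2
        exact h2
      have htriv' : ∀ g ∈ Hs i.succ, ∀ z : W, ρ' g z = z := by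
        intro g hg z
        apply Subtype.ext
        rw [hρ']
        exact (hWmem _).1 z.2 g hg
      obtain ⟨⟨v₀', hv₀'⟩, h2'⟩ := ih W ρ' ⟨F a, hFW a⟩ ha' hspan' htriv'
      refine ⟨⟨(v₀' : V), ?_⟩, ?_⟩
      · intro z hz
        have hzW : z ∈ W := (hWmem z).2 (fun g _ => hz g)
        obtain ⟨c, hc⟩ := hv₀' ⟨z, hzW⟩ (fun h => Subtype.ext (by rw [hρ']; exact hz h))
        refine ⟨c, ?_⟩
        have h3 := congrArg Subtype.val hc
        simpa using h3
      · intro b hb
        have hidx_b : (stab ρ b).relIndex (Hs i.succ) ∣ Nat.card {u : V | ∃ h : H, ρ h b = u} := by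
          rw [orbit_card]
          exact Cfsg.Agent.S4263.relIndex_sup_eq _ _
        have horb : ∀ h₀ : H, {u : V | ∃ h : H, ρ h (ρ h₀ a) = u} = {u : V | ∃ h : H, ρ h a = u} := by
          intro h₀
          ext u
          constructor
          · rintro ⟨h, rfl⟩
            exact ⟨h * h₀, rho_mul ρ h h₀ a⟩
          · rintro ⟨h, rfl⟩
            exact ⟨h * h₀⁻¹, by rw [rho_mul, rho_inv_cancel]⟩
        have hidx_x : ∀ h₀ : H, (stab ρ (ρ h₀ a)).relIndex (Hs i.succ) ∣
            Nat.card {u : V | ∃ h : H, ρ h a = u} := by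
          intro h₀
          rw [← horb h₀, orbit_card]
          exact Cfsg.Agent.S4263.relIndex_sup_eq _ _
        have hbW : b ∈ W := by
          obtain ⟨B, hB⟩ : ∃ B : Subgroup H, B = stab ρ b := ⟨_, rfl⟩
          have hKB : Hs i.castSucc ≤ B := by
            intro g hg
            rw [hB, mem_stab]
            exact htriv g hg b
          have hKM : Hs i.castSucc ≤ B ⊓ Hs i.succ := le_inf hKB hKN
          have hcopM : ¬ p ∣ (Hs i.castSucc).relIndex (B ⊓ Hs i.succ) := by
            intro hd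
            apply hcop'
            rw [← Subgroup.relIndex_mul_relIndex (Hs i.castSucc) (B ⊓ Hs i.succ) (Hs i.succ) hKM
              inf_le_right]
            exact Dvd.dvd.mul_right hd _
          obtain ⟨Eb, hEL, hER, hEP, -⟩ :=
            avg_exists p ρ (B ⊓ Hs i.succ) (Hs i.castSucc) htriv hcopM
          have hEfix : ∀ z : V, (∀ g ∈ B ⊓ Hs i.succ, ρ g z = z) → Eb z = z := fun z hz =>
            hEP LinearMap.id z z hz
          have hEb : Eb b = b := hEfix b (fun g hg => by
            have h1 : g ∈ stab ρ b := by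
              rw [← hB]
              exact hg.1
            exact h1)
          have hkey : ∀ x : V, (∃ h : H, ρ h a = x) → Eb x = F x := by
            rintro x ⟨h₀, rfl⟩
            have e1 : Eb (F (ρ h₀ a)) = F (ρ h₀ a) := hEfix _ (fun g hg => hFL g hg.2 _)
            have e2 : Eb (F (ρ h₀ a)) = Eb (ρ h₀ a) := by
              apply hFP Eb (ρ h₀ a) (Eb (ρ h₀ a))
              intro g hg
              have hcopidx : Nat.Coprime ((stab ρ b).relIndex (Hs i.succ))
                  ((stab ρ (ρ h₀ a)).relIndex (Hs i.succ)) :=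
                ((hb.symm).coprime_dvd_left hidx_b).coprime_dvd_right (hidx_x h₀)
              obtain ⟨t, ht, hts⟩ := prod_of_coprime ((stab ρ b).subgroupOf (Hs i.succ))
                ((stab ρ (ρ h₀ a)).subgroupOf (Hs i.succ)) hcopidx ⟨g, hg⟩
              have ht' : (t : H) ∈ stab ρ b := Subgroup.mem_subgroupOf.1 ht
              have hts' : (t : H)⁻¹ * g ∈ stab ρ (ρ h₀ a) := Subgroup.mem_subgroupOf.1 hts
              have h4 : ρ ((t : H)⁻¹ * g) (ρ h₀ a) = ρ h₀ a := (mem_stab ρ _ _).1 hts'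
              have h5 : g = (t : H) * ((t : H)⁻¹ * g) := by group
              have h3 : ρ g (ρ h₀ a) = ρ (t : H) (ρ h₀ a) := by
                calc ρ g (ρ h₀ a) = ρ ((t : H) * ((t : H)⁻¹ * g)) (ρ h₀ a) := by rw [← h5]
                  _ = ρ (t : H) (ρ h₀ a) := by rw [rho_mul, h4]
              rw [h3]
              exact hER (t : H) ⟨by rw [hB]; exact ht', t.2⟩ _
            rw [← e2, e1]
          have h1 : (⊤ : Submodule k V) ≤ W.comap Eb := by
            rw [← hspan, Submodule.span_le]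
            intro x hx
            show Eb x ∈ W
            rw [hkey x hx]
            exact hFW x
          have h2 : Eb b ∈ W := h1 (Submodule.mem_top : b ∈ (⊤ : Submodule k V))
          rwa [hEb] at h2
        have hstab_b : stab ρ' ⟨b, hbW⟩ = stab ρ b := by
          ext h
          rw [mem_stab, mem_stab]
          constructor
          · intro hh
            have h3 := congrArg Subtype.val hh
            rw [hρ'] at h3
            exact h3
          · intro hh
            apply Subtype.ext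
            rw [hρ']
            exact hh
        have hstab_a : stab ρ a ≤ stab ρ' ⟨F a, hFW a⟩ := by
          intro h hh
          rw [mem_stab] at hh ⊢
          apply Subtype.ext
          rw [hρ']
          show ρ h (F a) = F a
          rw [hFeq, hh]
        have hcop2 : (Nat.card {u : W | ∃ h : H, ρ' h ⟨F a, hFW a⟩ = u}).Coprime
            (Nat.card {u : W | ∃ h : H, ρ' h ⟨b, hbW⟩ = u}) := by
          rw [orbit_card, orbit_card, hstab_b]
          rw [orbit_card, orbit_card] at hb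
          exact Nat.Coprime.coprime_dvd_left (Subgroup.index_dvd_of_le hstab_a) hb
        intro h
        have h3 := congrArg Subtype.val (h2' ⟨b, hbW⟩ hcop2 h)
        rw [hρ'] at h3
        exact h3

end main

theorem result {k V H : Type*} [Field k] (p : ℕ) [Fact p.Prime] [CharP k p] [AddCommGroup V] [Module k V]
    [Group H] [Finite H] (hsol : Cfsg.IsPSolvable p H) (ρ : Representation k H V) (a : V)
    (hfix : ∃ P : Sylow p H, ∀ x : H, x ∈ (P : Subgroup H) → ρ x a = a)
    (hspan : Submodule.span k {u : V | ∃ h : H, ρ h a = u} = ⊤) :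
    Module.finrank k ρ.invariants ≤ 1 ∧
    ∀ b : V, (Nat.card {u : V | ∃ h : H, ρ h a = u}).Coprime (Nat.card {u : V | ∃ h : H, ρ h b = u}) → ∀ h : H, ρ h b = b := by
  obtain ⟨n, Hs, h0, hlast, hmono, hnorm, hstep⟩ := hsol
  have hmain := claim p n Hs hlast hmono hnorm hstep 0 V ρ a hfix hspan (by
    intro g hg z
    rw [h0, Subgroup.mem_bot] at hg
    rw [hg]
    exact rho_one ρ z)
  obtain ⟨⟨v₀, hv₀⟩, h2⟩ := hmain
  refine ⟨?_, h2⟩
  by_cases hex : ∃ z : ρ.invariants, z ≠ 0
  · obtain ⟨w₁, hw₁⟩ := hex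
    apply finrank_le_one w₁
    intro z
    obtain ⟨c₁, hc₁⟩ := hv₀ (w₁ : V) ((Representation.mem_invariants ρ _).1 w₁.2)
    obtain ⟨c, hc⟩ := hv₀ (z : V) ((Representation.mem_invariants ρ _).1 z.2)
    have hc₁0 : c₁ ≠ 0 := by
      rintro rfl
      apply hw₁
      apply Subtype.ext
      rw [← hc₁, zero_smul]
      rfl
    refine ⟨c * c₁⁻¹, ?_⟩
    apply Subtype.ext
    rw [Submodule.coe_smul, ← hc₁, ← hc, smul_smul, mul_assoc, inv_mul_cancel₀ hc₁0, mul_one]
  · push_neg at hex
    apply finrank_le_one (0 : ρ.invariants)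
    intro z
    exact ⟨0, by rw [hex z, smul_zero]⟩

end Cfsg.Agent.S4176
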