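import Mathlib
import Cfsg.Statements.S4208

set_option autoImplicit false
open Cfsg

namespace Cfsg.Agent.S4208

universe u

theorem pgroup_coatom {G : Type*} [Group G] [Finite G] {p : ℕ} [Fact p.Prime] (hG : IsPGroup p G)
    (M : Subgroup G) (hM : IsCoatom M) :
    (∀ x : G, x ^ p ∈ M) ∧ ∀ x y : G, x * y * x⁻¹ * y⁻¹ ∈ M := by
  have hnil : Group.IsNilpotent G := hG.isNilpotent
  have hn : M.Normal :=
    Subgroup.NormalizerCondition.normal_of_coatom M Group.normalizerCondition_of_isNilpotent hM
  obtain ⟨k, hk⟩ := hG.index M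
  have hk0 : k ≠ 0 := by
    rintro rfl
    rw [pow_zero, Subgroup.index_eq_one] at hk
    exact hM.1 hk
  have hdvd : p ∣ Nat.card (G ⧸ M) := by
    rw [← Subgroup.index_eq_card, hk]
    exact dvd_pow_self p hk0
  obtain ⟨q₀, hq₀⟩ := exists_prime_orderOf_dvd_card' p hdvd
  have hMK : M ≤ (Subgroup.zpowers q₀).comap (QuotientGroup.mk' M) := by
    intro m hm
    rw [Subgroup.mem_comap]
    have : QuotientGroup.mk' M m = 1 := (QuotientGroup.eq_one_iff m).mpr hm
    rw [this]
    exact one_mem _
  have hKtop : (Subgroup.zpowers q₀).comap (QuotientGroup.mk' M) = ⊤ := by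
    by_contra hne
    have hlt_or := lt_or_eq_of_le hMK
    rcases hlt_or with hlt | heq
    · exact hne (hM.2 _ hlt)
    · obtain ⟨g, rfl⟩ := QuotientGroup.mk_surjective q₀
      have hg : g ∈ (Subgroup.zpowers (QuotientGroup.mk g : G ⧸ M)).comap (QuotientGroup.mk' M) := by
        rw [Subgroup.mem_comap]
        exact Subgroup.mem_zpowers _
      rw [← heq] at hg
      have h1 : (QuotientGroup.mk g : G ⧸ M) = 1 := (QuotientGroup.eq_one_iff g).mpr hg
      rw [h1, orderOf_one] at hq₀
      exact (Fact.out : p.Prime).one_lt.ne hq₀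
  have hall : ∀ x : G, ∃ i : ℤ, q₀ ^ i = QuotientGroup.mk' M x := by
    intro x
    have hx : x ∈ (Subgroup.zpowers q₀).comap (QuotientGroup.mk' M) := by
      rw [hKtop]
      trivial
    rw [Subgroup.mem_comap, Subgroup.mem_zpowers_iff] at hx
    exact hx
  have hq₀p : q₀ ^ p = 1 := by
    rw [← hq₀]
    exact pow_orderOf_eq_one q₀
  constructor
  · intro x
    obtain ⟨i, hi⟩ := hall x
    rw [← QuotientGroup.eq_one_iff, QuotientGroup.mk_pow]
    have h1 : (QuotientGroup.mk x : G ⧸ M) = q₀ ^ i := hi.symm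
    rw [h1, ← zpow_natCast, ← zpow_mul, mul_comm, zpow_mul, zpow_natCast, hq₀p, one_zpow]
  · intro x y
    obtain ⟨i, hi⟩ := hall x
    obtain ⟨j, hj⟩ := hall y
    rw [← QuotientGroup.eq_one_iff]
    have h1 : ((x * y * x⁻¹ * y⁻¹ : G) : G ⧸ M)
        = (QuotientGroup.mk' M x) * (QuotientGroup.mk' M y) * (QuotientGroup.mk' M x)⁻¹ *
          (QuotientGroup.mk' M y)⁻¹ := by
      simp
    rw [h1, ← hi, ← hj, ← zpow_add, ← zpow_neg, ← zpow_add, ← zpow_neg, ← zpow_add]
    have : i + j + -i + -j = 0 := by ring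
    rw [this, zpow_zero]

theorem mem_frattini_of_forall {G : Type*} [Group G] (x : G)
    (h : ∀ M : Subgroup G, IsCoatom M → x ∈ M) : x ∈ frattini G := by
  unfold frattini Order.radical
  simp only [Subgroup.mem_iInf]
  intro M hM
  exact h M hM

theorem card_gen_tuples_comm (p : ℕ) [hp : Fact p.Prime] (r : ℕ) (Q : Type u) [CommGroup Q]
    [Finite Q] (hpow : ∀ a : Q, a ^ p = 1) (hcard : Nat.card Q = p ^ r) :
    Nat.card {y : Fin r → Q // Subgroup.closure (Set.range y) = ⊤} =
      ∏ i ∈ Finset.range r, (p ^ r - p ^ i) := by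
  classical
  have : NeZero p := ⟨hp.out.ne_zero⟩
  let _ : Module (ZMod p) (Additive Q) :=
    AddCommGroup.zmodModule (n := p) (fun x => congrArg Additive.ofMul (hpow x.toMul))
  let _ : Fintype (Additive Q) := Fintype.ofFinite _
  have hfr : Module.finrank (ZMod p) (Additive Q) = r := by
    have h1 := Module.card_eq_pow_finrank (K := ZMod p) (V := Additive Q)
    rw [ZMod.card, ← Nat.card_eq_fintype_card] at h1
    have h2 : Nat.card (Additive Q) = p ^ r := hcard
    rw [h2] at h1
    exact (Nat.pow_right_injective hp.out.two_le h1).symm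
  have key : ∀ y : Fin r → Q, Subgroup.closure (Set.range y) = ⊤ ↔
      LinearIndependent (ZMod p) (fun i => Additive.ofMul (y i)) := by
    intro y
    have h1 : ∀ x : Q, x ∈ Subgroup.closure (Set.range y) → Additive.ofMul x ∈
        Submodule.span (ZMod p) (Set.range (fun i => Additive.ofMul (y i))) := by
      intro x hx
      induction hx using Subgroup.closure_induction with
      | mem x hx => obtain ⟨i, rfl⟩ := hx; exact Submodule.subset_span ⟨i, rfl⟩
      | one => exact Submodule.zero_mem _
      | mul a b _ _ ha hb => exact Submodule.add_mem _ ha hb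
      | inv a _ ha => exact Submodule.neg_mem _ ha
    have h2 : ∀ x : Additive Q,
        x ∈ Submodule.span (ZMod p) (Set.range (fun i => Additive.ofMul (y i))) →
        x.toMul ∈ Subgroup.closure (Set.range y) := by
      intro x hx
      induction hx using Submodule.span_induction with
      | mem x hx => obtain ⟨i, rfl⟩ := hx; exact Subgroup.subset_closure ⟨i, rfl⟩
      | zero => exact Subgroup.one_mem _
      | add a b _ _ ha hb => exact Subgroup.mul_mem _ ha hb
      | smul c a _ ha =>
        have hc : c • a = c.val • a := by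
          rw [← Nat.cast_smul_eq_nsmul (ZMod p), ZMod.natCast_zmod_val]
        rw [hc]
        exact Subgroup.pow_mem _ ha _
    rw [linearIndependent_iff_card_eq_finrank_span, Fintype.card_fin]
    constructor
    · intro h
      have h3 : Submodule.span (ZMod p) (Set.range (fun i => Additive.ofMul (y i))) = ⊤ := by
        rw [eq_top_iff]; intro x _
        exact h1 x.toMul (by rw [h]; exact Subgroup.mem_top _)
      show r = Module.finrank (ZMod p)
        (Submodule.span (ZMod p) (Set.range (fun i => Additive.ofMul (y i))))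
      rw [h3, finrank_top, hfr]
    · intro h
      have h3 : Submodule.span (ZMod p) (Set.range (fun i => Additive.ofMul (y i))) = ⊤ := by
        apply Submodule.eq_top_of_finrank_eq
        rw [hfr]; exact h.symm
      rw [eq_top_iff]; intro x _
      exact h2 (Additive.ofMul x) (by rw [h3]; exact Submodule.mem_top)
  have hequiv : {y : Fin r → Q // Subgroup.closure (Set.range y) = ⊤} ≃
      {s : Fin r → Additive Q // LinearIndependent (ZMod p) s} :=
    Equiv.subtypeEquiv (Equiv.piCongrRight fun _ => Additive.ofMul) (fun y => key y)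
  rw [Nat.card_congr hequiv]
  rw [card_linearIndependent (by rw [hfr]), ZMod.card, hfr, Finset.prod_range]

theorem card_gen_tuples (p : ℕ) [hp : Fact p.Prime] (r : ℕ) (Q : Type u) [inst : Group Q]
    [Finite Q] (hcomm : ∀ a b : Q, a * b = b * a) (hpow : ∀ a : Q, a ^ p = 1)
    (hcard : Nat.card Q = p ^ r) :
    Nat.card {y : Fin r → Q // Subgroup.closure (Set.range y) = ⊤} =
      ∏ i ∈ Finset.range r, (p ^ r - p ^ i) :=
  @card_gen_tuples_comm p hp r Q { inst with mul_comm := hcomm } _ hpow hcard

theorem result {P : Type*} [Group P] [Finite P] {p n r : ℕ} [Fact p.Prime] (hP : Nat.card P = p ^ n) (hr : (frattini P).index = p ^ r) : Nat.card (MulAut P) ∣ p ^ (r * (n - r)) * ∏ i ∈ Finset.range r, (p ^ r - p ^ i) := by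
  have hp : p.Prime := Fact.out
  have hPp : IsPGroup p P := IsPGroup.of_card hP
  have hpowΦ : ∀ x : P, x ^ p ∈ frattini P :=
    fun x => mem_frattini_of_forall _ (fun M hM => (pgroup_coatom hPp M hM).1 x)
  have hcommΦ : ∀ x y : P, x * y * x⁻¹ * y⁻¹ ∈ frattini P :=
    fun x y => mem_frattini_of_forall _ (fun M hM => (pgroup_coatom hPp M hM).2 x y)
  have hQ : Nat.card (P ⧸ frattini P) = p ^ r := by
    rw [← Subgroup.index_eq_card]; exact hr
  have hQcomm : ∀ a b : P ⧸ frattini P, a * b = b * a := by
    intro a b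
    obtain ⟨x, rfl⟩ := QuotientGroup.mk_surjective a
    obtain ⟨y, rfl⟩ := QuotientGroup.mk_surjective b
    rw [← QuotientGroup.mk_mul, ← QuotientGroup.mk_mul, QuotientGroup.eq]
    have := hcommΦ y⁻¹ x⁻¹
    have e : (x * y)⁻¹ * (y * x) = y⁻¹ * x⁻¹ * y⁻¹⁻¹ * x⁻¹⁻¹ := by group
    rw [e]; exact this
  have hQpow : ∀ a : P ⧸ frattini P, a ^ p = 1 := by
    intro a
    obtain ⟨x, rfl⟩ := QuotientGroup.mk_surjective a
    rw [← QuotientGroup.mk_pow, QuotientGroup.eq_one_iff]
    exact hpowΦ x
  have hY := card_gen_tuples p r (P ⧸ frattini P) hQcomm hQpow hQ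
  have hgen : ∀ z : Fin r → P,
      Subgroup.closure (Set.range (fun i => (QuotientGroup.mk (z i) : P ⧸ frattini P))) = ⊤ →
      Subgroup.closure (Set.range z) = ⊤ := by
    intro z hz
    apply frattini_nongenerating
    have hmap : (Subgroup.closure (Set.range z)).map (QuotientGroup.mk' (frattini P)) = ⊤ := by
      rw [MonoidHom.map_closure, ← hz, ← Set.range_comp]
      rfl
    rw [eq_top_iff]
    intro g _
    have hg : (QuotientGroup.mk' (frattini P)) g ∈
        (Subgroup.closure (Set.range z)).map (QuotientGroup.mk' (frattini P)) := by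
      rw [hmap]; trivial
    obtain ⟨s, hs, hsg⟩ := hg
    have hsg' : (QuotientGroup.mk s : P ⧸ frattini P) = QuotientGroup.mk g := hsg
    rw [QuotientGroup.eq] at hsg'
    have : g = s * (s⁻¹ * g) := by group
    rw [this]
    exact Subgroup.mul_mem _ (Subgroup.mem_sup_left hs) (Subgroup.mem_sup_right hsg')
  have hgen' : ∀ z : Fin r → P, Subgroup.closure (Set.range z) = ⊤ →
      Subgroup.closure (Set.range (fun i => (QuotientGroup.mk (z i) : P ⧸ frattini P))) = ⊤ := by
    intro z hz
    have h1 : Set.range (fun i => (QuotientGroup.mk (z i) : P ⧸ frattini P)) =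
        (QuotientGroup.mk' (frattini P)) '' Set.range z := by
      rw [← Set.range_comp]; rfl
    rw [h1, ← MonoidHom.map_closure, hz, ← MonoidHom.range_eq_map, MonoidHom.range_eq_top]
    exact QuotientGroup.mk'_surjective _
  let X := {z : Fin r → P // Subgroup.closure (Set.range z) = ⊤}
  let act : MulAction (MulAut P) X :=
    { smul := fun α z => ⟨fun i => α (z.1 i), by
        have h1 : Set.range (fun i => α (z.1 i)) = (α.toMonoidHom : P →* P) '' Set.range z.1 := by
          ext g; constructor
          · rintro ⟨i, rfl⟩; exact ⟨z.1 i, ⟨i, rfl⟩, rfl⟩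
          · rintro ⟨_, ⟨i, rfl⟩, rfl⟩; exact ⟨i, rfl⟩
        rw [h1, ← MonoidHom.map_closure, z.2, ← MonoidHom.range_eq_map, MonoidHom.range_eq_top]
        exact α.surjective⟩
      one_smul := fun z => Subtype.ext (funext fun i => rfl)
      mul_smul := fun α β z => Subtype.ext (funext fun i => rfl) }
  have hsmul : ∀ (α : MulAut P) (z : X) (i : Fin r), (α • z).1 i = α (z.1 i) := fun _ _ _ => rfl
  have hfree : ∀ z : X, MulAction.stabilizer (MulAut P) z = ⊥ := by
    intro z
    rw [eq_bot_iff]
    intro α hα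
    rw [MulAction.mem_stabilizer_iff] at hα
    rw [Subgroup.mem_bot]
    have h1 : ∀ i, α (z.1 i) = z.1 i := by
      intro i
      rw [← hsmul, hα]
    have h2 : (α : P ≃* P).toMonoidHom = MonoidHom.id P := by
      apply MonoidHom.eq_of_eqOn_dense z.2
      rintro _ ⟨i, rfl⟩
      exact h1 i
    apply MulEquiv.ext
    intro g
    have := congrArg (fun f : P →* P => f g) h2
    exact this
  have hequiv := MulAction.selfEquivOrbitsQuotientProd hfree
  have hcard := Nat.card_congr hequiv
  rw [Nat.card_prod] at hcard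
  have hs : ∀ q : P ⧸ frattini P, (QuotientGroup.mk (Quotient.out q) : P ⧸ frattini P) = q :=
    fun q => QuotientGroup.out_eq' q
  let e : X ≃ {y : Fin r → P ⧸ frattini P // Subgroup.closure (Set.range y) = ⊤} ×
      (Fin r → frattini P) :=
    { toFun := fun z => (⟨fun i => QuotientGroup.mk (z.1 i), hgen' z.1 z.2⟩,
        fun i => ⟨z.1 i * (Quotient.out (QuotientGroup.mk (z.1 i) : P ⧸ frattini P))⁻¹, by
          rw [← QuotientGroup.eq_one_iff, QuotientGroup.mk_mul, QuotientGroup.mk_inv, hs,
            mul_inv_cancel]⟩)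
      invFun := fun yw => ⟨fun i => (yw.2 i : P) * Quotient.out (yw.1.1 i), by
        apply hgen
        have h1 : (fun i => (QuotientGroup.mk ((yw.2 i : P) * Quotient.out (yw.1.1 i)) :
            P ⧸ frattini P)) = yw.1.1 := by
          funext i
          rw [QuotientGroup.mk_mul, hs, (QuotientGroup.eq_one_iff _).mpr (yw.2 i).2, one_mul]
        rw [h1]
        exact yw.1.2⟩
      left_inv := fun z => Subtype.ext (funext fun i => by simp)
      right_inv := fun yw => by
        have h1 : ∀ i, (QuotientGroup.mk ((yw.2 i : P) * Quotient.out (yw.1.1 i)) :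
            P ⧸ frattini P) = yw.1.1 i := by
          intro i
          rw [QuotientGroup.mk_mul, hs, (QuotientGroup.eq_one_iff _).mpr (yw.2 i).2, one_mul]
        refine Prod.ext (Subtype.ext (funext fun i => h1 i)) (funext fun i => Subtype.ext ?_)
        show (yw.2 i : P) * Quotient.out (yw.1.1 i) *
          (Quotient.out (QuotientGroup.mk ((yw.2 i : P) * Quotient.out (yw.1.1 i)) :
            P ⧸ frattini P))⁻¹ = (yw.2 i : P)
        rw [h1 i, mul_inv_cancel_right] }
  have hXcard : Nat.card X = (∏ i ∈ Finset.range r, (p ^ r - p ^ i)) *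
      Nat.card (frattini P) ^ r := by
    rw [Nat.card_congr e, Nat.card_prod, hY, Nat.card_fun, Nat.card_fin]
  have hΦ : Nat.card (frattini P) * p ^ r = p ^ n := by
    rw [← hr, ← hP]; exact Subgroup.card_mul_index _
  have hrn : r ≤ n := by
    have h1 : p ^ r ∣ p ^ n := ⟨Nat.card (frattini P), by rw [← hΦ]; ring⟩
    exact (Nat.pow_dvd_pow_iff_le_right hp.one_lt).mp h1
  have hΦ' : Nat.card (frattini P) = p ^ (n - r) := by
    have h1 : p ^ (n - r) * p ^ r = p ^ n := by
      rw [← pow_add, Nat.sub_add_cancel hrn]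
    exact Nat.eq_of_mul_eq_mul_right (pow_pos hp.pos r) (hΦ.trans h1.symm)
  rw [hΦ', ← pow_mul] at hXcard
  rw [mul_comm r (n - r), mul_comm (p ^ ((n - r) * r)), ← hXcard, hcard]
  exact Dvd.intro_left _ rfl

end Cfsg.Agent.S4208
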