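import Cfsg.Statements.S4348
import Mathlib

set_option autoImplicit false
open Cfsg

namespace Cfsg.Agent.S4348

theorem result {G : Type*} [Group G] [Finite G]
    (p : ℕ) [Fact p.Prime] (P : Sylow p G)
    [hn : ((Cfsg.pCore p G).subgroupOf (P : Subgroup G)).Normal]
    (hc : IsCyclic ((P : Subgroup G) ⧸ (Cfsg.pCore p G).subgroupOf (P : Subgroup G))) :
    ∃ x : G, (∃ k : ℕ, orderOf x = p ^ k) ∧ ∃! Q : Sylow p G, x ∈ Q := by
  have hcoreN : (Cfsg.pCore p G).Normal := Subgroup.sSup_normal _ (fun _ h => h.1)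
  have hcoreP : IsPGroup p (Cfsg.pCore p G) :=
    Sylow.sSup_of_normal _ (fun _ h => h.2) (fun _ h => h.1)
  have hcore_le : ∀ Q : Sylow p G, Cfsg.pCore p G ≤ (Q : Subgroup G) := by
    intro Q
    have hpg : IsPGroup p ((Q : Subgroup G) ⊔ Cfsg.pCore p G : Subgroup G) :=
      IsPGroup.to_sup_of_normal_right Q.isPGroup' hcoreP
    have h1 := Q.is_maximal' hpg le_sup_left
    rw [← h1]
    exact le_sup_right
  obtain ⟨g, hg⟩ := hc.exists_generator
  obtain ⟨x', rfl⟩ := QuotientGroup.mk_surjective g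
  refine ⟨(x' : G), ?_, P, x'.2, ?_⟩
  · obtain ⟨k, hk⟩ := P.isPGroup' x'
    have h1 : orderOf x' ∣ p ^ k := orderOf_dvd_of_pow_eq_one hk
    obtain ⟨j, _, hj⟩ := (Nat.dvd_prime_pow (Fact.out)).1 h1
    exact ⟨j, by rw [Subgroup.orderOf_coe, hj]⟩
  · intro Q hQ
    have hle : (P : Subgroup G) ≤ (Q : Subgroup G) := by
      intro y hy
      obtain ⟨k, hk⟩ := Subgroup.mem_zpowers_iff.1 (hg (QuotientGroup.mk (⟨y, hy⟩ : (P : Subgroup G))))
      rw [← QuotientGroup.mk_zpow, QuotientGroup.eq] at hk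
      have h1 : ((x' ^ k)⁻¹ * (⟨y, hy⟩ : (P : Subgroup G)) : G) ∈ Cfsg.pCore p G := by
        simpa [Subgroup.mem_subgroupOf] using hk
      have h2 : ((x' : G) ^ k)⁻¹ * y ∈ (Q : Subgroup G) := by
        apply hcore_le Q
        simpa using h1
      have h3 : (x' : G) ^ k ∈ (Q : Subgroup G) := Subgroup.zpow_mem _ hQ k
      have := (Q : Subgroup G).mul_mem h3 h2
      simpa using this
    exact Sylow.ext (P.is_maximal' Q.isPGroup' hle)

end Cfsg.Agent.S4348
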