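import Cfsg.Statements.S4356
import Mathlib
import Cfsg.Agent.Lib.Helper14.Redund2

set_option autoImplicit false
open Cfsg

namespace Cfsg.Agent.S4356

/-- Let F be a finite field with q elements, p a prime and G = PSL(2, F). Say a Sylow p-subgroup Q of G is redundant when every element of p-power order lies in some Sylow p-subgroup other than Q. Then G has a redundant Sylow p-subgroup if and only if p = 2 and q is not of any of the forms 2ᵏ - 1, 2ᵏ, 2ᵏ + 1. -/
theorem result {F : Type*} [Field F] [Fintype F] (p : ℕ) [Fact p.Prime] :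
    (∃ Q : Sylow p (Matrix.ProjectiveSpecialLinearGroup (Fin 2) F), ∀ x : Matrix.ProjectiveSpecialLinearGroup (Fin 2) F,
        (∃ k : ℕ, orderOf x = p ^ k) → ∃ P : Sylow p (Matrix.ProjectiveSpecialLinearGroup (Fin 2) F), P ≠ Q ∧ x ∈ P) ↔
      (p = 2 ∧ (¬ ∃ k : ℕ, Fintype.card F + 1 = 2 ^ k) ∧ (¬ ∃ k : ℕ, Fintype.card F = 2 ^ k) ∧
        ¬ ∃ k : ℕ, Fintype.card F = 2 ^ k + 1) := by
  have hf : Function.Surjective
      (QuotientGroup.mk' (Subgroup.center (Matrix.SpecialLinearGroup (Fin 2) F))) :=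
    QuotientGroup.mk'_surjective _
  have hker : ∀ z ∈ (QuotientGroup.mk' (Subgroup.center (Matrix.SpecialLinearGroup (Fin 2) F))).ker,
      ∀ g : Matrix.SpecialLinearGroup (Fin 2) F, g * z = z * g := by
    intro z hz g
    rw [QuotientGroup.ker_mk'] at hz
    exact Subgroup.mem_center_iff.mp hz g
  constructor
  · intro hQ
    by_contra hcon
    obtain ⟨x, hx, P₀, hu⟩ := Cfsg.Agent.Lib.Helper14.Redund.sl_unique p hcon
    have hu' := Cfsg.Agent.Lib.Helper14.Redund.unique_map _ hf hker x hx P₀ hu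
    refine Cfsg.Agent.Lib.Helper14.Redund.not_redundant_of_unique
      (G := Matrix.ProjectiveSpecialLinearGroup (Fin 2) F) _ ?_ _ hu' hQ
    rw [Cfsg.Agent.Lib.Helper14.Redund.pelt_iff] at hx ⊢
    obtain ⟨n, hn⟩ := hx
    exact ⟨n, by rw [← map_pow, hn, map_one]⟩
  · rintro ⟨rfl, h1, hB, h2⟩
    apply Cfsg.Agent.Lib.Helper14.Redund.redundant_of_two
      (G := Matrix.ProjectiveSpecialLinearGroup (Fin 2) F)
    apply Cfsg.Agent.Lib.Helper14.Redund.two_map _ hf hker ?_
      (Cfsg.Agent.Lib.Helper14.Redund.sl_two h1 hB h2)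
    intro z hz
    rw [Cfsg.Agent.Lib.Helper14.Redund.pelt_iff]
    refine ⟨1, ?_⟩
    have hs : Cfsg.Agent.Lib.Helper14.GL2Conj.IsScalarMat (z : Matrix (Fin 2) (Fin 2) F) :=
      (Cfsg.Agent.Lib.Helper14.PSL2.mk_eq_one_iff z).mp (MonoidHom.mem_ker.mp hz)
    rw [pow_one, pow_two]
    exact Cfsg.Agent.S2475.scalar_sq z hs

end Cfsg.Agent.S4356
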