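import Cfsg.Statements.S4357
import Mathlib
import Cfsg.Agent.Lib.Helper14.Redund2

set_option autoImplicit false
open Cfsg

namespace Cfsg.Agent.S4357

/-- Let F be a finite field with q elements, p a prime and G = SL(2, F). Say a Sylow p-subgroup Q of G is redundant when every element of p-power order lies in some Sylow p-subgroup other than Q. Then G has a redundant Sylow p-subgroup if and only if p = 2 and q is not of any of the forms 2ᵏ - 1, 2ᵏ, 2ᵏ + 1. -/
theorem result {F : Type*} [Field F] [Fintype F] (p : ℕ) [Fact p.Prime] :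
    (∃ Q : Sylow p (Matrix.SpecialLinearGroup (Fin 2) F), ∀ x : Matrix.SpecialLinearGroup (Fin 2) F,
        (∃ k : ℕ, orderOf x = p ^ k) → ∃ P : Sylow p (Matrix.SpecialLinearGroup (Fin 2) F), P ≠ Q ∧ x ∈ P) ↔
      (p = 2 ∧ (¬ ∃ k : ℕ, Fintype.card F + 1 = 2 ^ k) ∧ (¬ ∃ k : ℕ, Fintype.card F = 2 ^ k) ∧
        ¬ ∃ k : ℕ, Fintype.card F = 2 ^ k + 1) := by
  constructor
  · intro hQ
    by_contra hcon
    obtain ⟨x, hx, P₀, hu⟩ := Cfsg.Agent.Lib.Helper14.Redund.sl_unique p hcon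
    exact Cfsg.Agent.Lib.Helper14.Redund.not_redundant_of_unique x hx P₀ hu hQ
  · rintro ⟨rfl, h1, hB, h2⟩
    exact Cfsg.Agent.Lib.Helper14.Redund.redundant_of_two
      (Cfsg.Agent.Lib.Helper14.Redund.sl_two h1 hB h2)

end Cfsg.Agent.S4357
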