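import Mathlib
import Cfsg.Statements.S4358
import Cfsg.Agent.Lib.Helper25.RedSylB

set_option autoImplicit false
open Cfsg

namespace Cfsg.Agent.S4358

/-- Let p be an odd prime and F a finite field with q elements such that p divides q - 1 but p² does not. Then GL(p, F) has a Sylow p-subgroup Q such that every element of p-power order lies in some Sylow p-subgroup other than Q (a redundant Sylow p-subgroup). -/
theorem result {F : Type*} [Field F] [Fintype F] (p : ℕ) [Fact p.Prime]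
    (hp : p ≠ 2) (h1 : p ∣ Fintype.card F - 1) (h2 : ¬ p ^ 2 ∣ Fintype.card F - 1) :
    ∃ Q : Sylow p (Matrix.GeneralLinearGroup (Fin p) F), ∀ x : Matrix.GeneralLinearGroup (Fin p) F,
      (∃ k : ℕ, orderOf x = p ^ k) → ∃ P : Sylow p (Matrix.GeneralLinearGroup (Fin p) F), P ≠ Q ∧ x ∈ P := by
  classical
  have hpp : p.Prime := Fact.out
  haveI : NeZero p := ⟨hpp.ne_zero⟩
  have h3 : 3 ≤ p := by have := hpp.two_le; omega
  have hq : 1 < Fintype.card F := Fintype.one_lt_card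
  obtain ⟨ζ, hζ⟩ : ∃ ζ : F, IsPrimitiveRoot ζ p := by
    have hdiv : p ∣ Fintype.card Fˣ := by rw [Fintype.card_units]; exact h1
    obtain ⟨u, hu⟩ := exists_prime_orderOf_dvd_card p hdiv
    refine ⟨(u : F), ?_⟩
    have h4 : orderOf (u : F) = p := by rw [orderOf_units]; exact hu
    rw [← h4]; exact IsPrimitiveRoot.orderOf _
  have hcardQ := Cfsg.Agent.Lib.Helper25.RedSyl.card_Q0 (F := F) hpp.pos hζ
  have hG : (Nat.card (Matrix.GeneralLinearGroup (Fin p) F)).factorization p = p + 1 := by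
    rw [Matrix.card_GL_field,
      Fin.prod_univ_eq_prod_range (fun i => Fintype.card F ^ p - Fintype.card F ^ i) p]
    exact Cfsg.Agent.Lib.Helper25.RedSyl.val_prod p (Fintype.card F) hp h1 h2 hq
  have hQcard : Nat.card (Cfsg.Agent.Lib.Helper25.RedSyl.Q0 F p)
      = p ^ (Nat.card (Matrix.GeneralLinearGroup (Fin p) F)).factorization p := by
    rw [hcardQ, hG]
  refine ⟨Sylow.ofCard (Cfsg.Agent.Lib.Helper25.RedSyl.Q0 F p) hQcard, ?_⟩
  rintro x ⟨k, hk⟩
  have hpg : IsPGroup p (Subgroup.zpowers x) :=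
    IsPGroup.of_card (n := k) (by rw [Nat.card_zpowers, hk])
  obtain ⟨P0, hP0⟩ := hpg.exists_le_sylow
  by_cases hPQ : P0 = Sylow.ofCard (Cfsg.Agent.Lib.Helper25.RedSyl.Q0 F p) hQcard
  · have hxQ : x ∈ Cfsg.Agent.Lib.Helper25.RedSyl.Q0 F p := by
      have h5 := hP0 (Subgroup.mem_zpowers x)
      rw [hPQ, Sylow.coe_ofCard] at h5
      exact h5
    obtain ⟨g, hg1, y, hy, hg2⟩ :=
      Cfsg.Agent.Lib.Helper25.RedSyl.good_all hpp h3 hζ hcardQ x hxQ
    refine ⟨g • Sylow.ofCard (Cfsg.Agent.Lib.Helper25.RedSyl.Q0 F p) hQcard, ?_, ?_⟩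
    · intro hEq
      apply hg2
      have hmem : g * y * g⁻¹ ∈ ((g • Sylow.ofCard (Cfsg.Agent.Lib.Helper25.RedSyl.Q0 F p) hQcard :
          Sylow p (Matrix.GeneralLinearGroup (Fin p) F)) :
            Subgroup (Matrix.GeneralLinearGroup (Fin p) F)) := by
        rw [Cfsg.Agent.Lib.Helper25.RedSyl.sylow_conj_mem, Sylow.coe_ofCard]
        have e : g⁻¹ * (g * y * g⁻¹) * g = y := by group
        rw [e]; exact hy
      rw [hEq, Sylow.coe_ofCard] at hmem
      exact hmem
    · show x ∈ ((g • Sylow.ofCard (Cfsg.Agent.Lib.Helper25.RedSyl.Q0 F p) hQcard :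
          Sylow p (Matrix.GeneralLinearGroup (Fin p) F)) :
            Subgroup (Matrix.GeneralLinearGroup (Fin p) F))
      rw [Cfsg.Agent.Lib.Helper25.RedSyl.sylow_conj_mem, Sylow.coe_ofCard]
      exact hg1
  · exact ⟨P0, hPQ, hP0 (Subgroup.mem_zpowers x)⟩

end Cfsg.Agent.S4358
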