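import Mathlib
import Cfsg.Statements.S4364
import Cfsg.Agent.Lib.Helper9.Cores
import Cfsg.Agent.Lib.Helper21.Kazarin
import Cfsg.Agent.Lib.Helper21.Kazarin3

set_option autoImplicit false
open Cfsg

namespace Cfsg.Agent.S4364

open Cfsg.Agent.Lib.Helper21.Kazarin

/-- Let G be a finite group, p a prime and x an element whose conjugacy class has p-power size. Then for any two conjugates y and z of x, the commutator y z y⁻¹ z⁻¹ lies in O_p(G), the largest normal p-subgroup of G. -/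
theorem result {G : Type*} [Group G] [Finite G] (p : ℕ) [Fact p.Prime]
    (x : G) (hx : ∃ a : ℕ, (Subgroup.centralizer ({x} : Set G)).index = p ^ a) (g h : G) :
    (g * x * g⁻¹) * (h * x * h⁻¹) * (g * x * g⁻¹)⁻¹ * (h * x * h⁻¹)⁻¹ ∈ Cfsg.pCore p G := by
  have hp : p.Prime := Fact.out
  have hOp : ∀ P : Subgroup (G ⧸ Cfsg.pCore p G), P.Normal → IsPGroup p P → P = ⊥ := by
    intro P hPn hPp
    have h1 := Cfsg.Agent.Lib.Helper9.le_pCore hPn hPp
    rw [Cfsg.Agent.Lib.Helper9.pCore_quotient_eq_bot] at h1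
    exact le_bot_iff.1 h1
  have hxq : PP p (QuotientGroup.mk' (Cfsg.pCore p G) x) :=
    PP.map hp hx _ (QuotientGroup.mk'_surjective _)
  have key := comm_of_core_bot p hOp _ hxq
  have hmem : ∀ g : G, QuotientGroup.mk' (Cfsg.pCore p G) (g * x * g⁻¹) ∈
      Subgroup.normalClosure ({QuotientGroup.mk' (Cfsg.pCore p G) x} : Set (G ⧸ Cfsg.pCore p G)) := by
    intro g
    rw [map_mul, map_mul, map_inv]
    exact Subgroup.normalClosure_normal.conj_mem _
      (Subgroup.subset_normalClosure (Set.mem_singleton _)) _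
  have h1 := key _ (hmem g) _ (hmem h)
  have h2 : QuotientGroup.mk' (Cfsg.pCore p G)
      ((g * x * g⁻¹) * (h * x * h⁻¹) * (g * x * g⁻¹)⁻¹ * (h * x * h⁻¹)⁻¹) = 1 := by
    have e : ∀ a b : G, QuotientGroup.mk' (Cfsg.pCore p G) (a * b * a⁻¹ * b⁻¹) =
        QuotientGroup.mk' (Cfsg.pCore p G) a * QuotientGroup.mk' (Cfsg.pCore p G) b *
          (QuotientGroup.mk' (Cfsg.pCore p G) a)⁻¹ * (QuotientGroup.mk' (Cfsg.pCore p G) b)⁻¹ := by
      intro a b
      rw [map_mul, map_mul, map_mul, map_inv, map_inv]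
    rw [e, h1, mul_inv_cancel_right, mul_inv_cancel]
  exact (QuotientGroup.eq_one_iff _).1 h2

end Cfsg.Agent.S4364
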