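import Cfsg.Statements.S4370
import Mathlib
import Cfsg.Agent.Lib.Helper18.UniqueInvolution
import Cfsg.Agent.Lib.Lead.Cores
import Cfsg.Agent.Lib.Helper17.Syl2

set_option autoImplicit false
open Cfsg

namespace Cfsg.Agent.S4370

theorem zmod_two_mul {n : ℕ} [NeZero n] (j : ZMod (2 * n)) (h : j + j = 0) :
    j = 0 ∨ j = (n : ZMod (2 * n)) := by
  have hv : ((j.val + j.val : ℕ) : ZMod (2 * n)) = 0 := by
    push_cast; rw [ZMod.natCast_zmod_val]; exact h
  rw [ZMod.natCast_eq_zero_iff] at hv
  have hlt : j.val < 2 * n := ZMod.val_lt j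
  obtain ⟨c, hc⟩ := hv
  have hc' : c = 0 ∨ c = 1 := by
    rcases c with _ | _ | c
    · left; rfl
    · right; rfl
    · exfalso; nlinarith
  rcases hc' with rfl | rfl
  · left
    have : j.val = 0 := by omega
    exact (ZMod.val_eq_zero j).1 this
  · right
    have : j.val = n := by omega
    calc j = ((j.val : ℕ) : ZMod (2 * n)) := (ZMod.natCast_zmod_val j).symm
      _ = (n : ZMod (2 * n)) := congrArg _ this

theorem quat_centralizer_cyclic {n : ℕ} [NeZero n] (q : QuaternionGroup n)
    (hq : q ∉ Subgroup.center (QuaternionGroup n)) :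
    IsCyclic (Subgroup.centralizer ({q} : Set (QuaternionGroup n))) := by
  cases q with
  | a i =>
    have hi : i + i ≠ 0 := by
      intro h
      apply hq
      rw [Subgroup.mem_center_iff]
      intro g
      cases g with
      | a j => rw [QuaternionGroup.a_mul_a, QuaternionGroup.a_mul_a, add_comm]
      | xa j =>
        rw [QuaternionGroup.xa_mul_a, QuaternionGroup.a_mul_xa]
        congr 1
        linear_combination h
    refine ⟨⟨⟨QuaternionGroup.a 1, ?_⟩, ?_⟩⟩
    · rw [Subgroup.mem_centralizer_singleton_iff, QuaternionGroup.a_mul_a, QuaternionGroup.a_mul_a,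
        add_comm]
    · rintro ⟨y, hy⟩
      rw [Subgroup.mem_centralizer_singleton_iff] at hy
      cases y with
      | a j =>
        refine Subgroup.mem_zpowers_iff.2 ⟨(j.val : ℤ), ?_⟩
        apply Subtype.ext
        rw [zpow_natCast]
        show (QuaternionGroup.a 1 : QuaternionGroup n) ^ j.val = QuaternionGroup.a j
        rw [QuaternionGroup.a_one_pow, ZMod.natCast_zmod_val]
      | xa j =>
        exfalso
        rw [QuaternionGroup.xa_mul_a, QuaternionGroup.a_mul_xa] at hy
        have h3 : j + i = j - i := QuaternionGroup.xa.inj hy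
        apply hi
        linear_combination h3
  | xa i =>
    refine ⟨⟨⟨QuaternionGroup.xa i, Subgroup.mem_centralizer_singleton_iff.2 rfl⟩, ?_⟩⟩
    rintro ⟨y, hy⟩
    rw [Subgroup.mem_centralizer_singleton_iff] at hy
    have hnn : (n : ZMod (2 * n)) + n = 0 := by
      have : ((2 * n : ℕ) : ZMod (2 * n)) = 0 := ZMod.natCast_self _
      rw [← this]; push_cast; ring
    cases y with
    | a j =>
      rw [QuaternionGroup.a_mul_xa, QuaternionGroup.xa_mul_a] at hy
      have hj : i - j = i + j := QuaternionGroup.xa.inj hy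
      have hjj : j + j = 0 := by linear_combination -hj
      rcases zmod_two_mul j hjj with rfl | rfl
      · exact Subgroup.mem_zpowers_iff.2 ⟨0, by apply Subtype.ext; rw [zpow_zero]; rfl⟩
      · refine Subgroup.mem_zpowers_iff.2 ⟨2, ?_⟩
        apply Subtype.ext
        show (QuaternionGroup.xa i : QuaternionGroup n) ^ (2 : ℤ) = QuaternionGroup.a n
        rw [show (2 : ℤ) = ((2 : ℕ) : ℤ) by norm_num, zpow_natCast, QuaternionGroup.xa_sq]
    | xa j =>
      rw [QuaternionGroup.xa_mul_xa, QuaternionGroup.xa_mul_xa] at hy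
      have hj : (n : ZMod (2 * n)) + i - j = n + j - i := QuaternionGroup.a.inj hy
      have hjj : (j - i) + (j - i) = 0 := by linear_combination -hj
      rcases zmod_two_mul (j - i) hjj with h | h
      · have hji : j = i := sub_eq_zero.1 h
        subst hji
        exact Subgroup.mem_zpowers_iff.2 ⟨1, by rw [zpow_one]⟩
      · have hji : j = i + n := by rw [← h]; ring
        subst hji
        refine Subgroup.mem_zpowers_iff.2 ⟨3, ?_⟩
        apply Subtype.ext
        show (QuaternionGroup.xa i : QuaternionGroup n) ^ (3 : ℤ) =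
          QuaternionGroup.xa (i + (n : ZMod (2 * n)))
        rw [show (3 : ℤ) = ((3 : ℕ) : ℤ) by norm_num, zpow_natCast, pow_succ, QuaternionGroup.xa_sq,
          QuaternionGroup.a_mul_xa]
        congr 1
        linear_combination -hnn

theorem prod_centralizer_cyclic {k m : ℕ} (hm : Odd m)
    (X : QuaternionGroup (2 ^ k) × Multiplicative (ZMod m))
    (hX : X ∉ Subgroup.center (QuaternionGroup (2 ^ k) × Multiplicative (ZMod m))) :
    IsCyclic (Subgroup.centralizer ({X} : Set (QuaternionGroup (2 ^ k) × Multiplicative (ZMod m)))) := by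
  obtain ⟨q, c⟩ := X
  have : NeZero (2 ^ k) := ⟨by positivity⟩
  have : NeZero m := ⟨by rintro rfl; exact absurd hm (by decide)⟩
  have hq : q ∉ Subgroup.center (QuaternionGroup (2 ^ k)) := by
    intro h
    apply hX
    rw [Subgroup.mem_center_iff]
    rintro ⟨q', c'⟩
    rw [Prod.mk_mul_mk, Prod.mk_mul_mk, Subgroup.mem_center_iff.1 h q', mul_comm c' c]
  have heq : Subgroup.centralizer ({(q, c)} : Set (QuaternionGroup (2 ^ k) × Multiplicative (ZMod m))) =
      (Subgroup.centralizer ({q} : Set (QuaternionGroup (2 ^ k)))).prod ⊤ := by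
    ext ⟨q', c'⟩
    rw [Subgroup.mem_centralizer_singleton_iff, Subgroup.mem_prod,
      Subgroup.mem_centralizer_singleton_iff, Prod.mk_mul_mk, Prod.mk_mul_mk, Prod.mk.injEq]
    simp [mul_comm c' c]
  rw [heq]
  have hcyc := quat_centralizer_cyclic q hq
  have hC : IsCyclic (Multiplicative (ZMod m)) := inferInstance
  have hprod : IsCyclic (↥(Subgroup.centralizer ({q} : Set (QuaternionGroup (2 ^ k)))) ×
      ↥(⊤ : Subgroup (Multiplicative (ZMod m)))) := by
    rw [Group.isCyclic_prod_iff]
    refine ⟨hcyc, ?_, ?_⟩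
    · exact (Subgroup.topEquiv.isCyclic).2 hC
    · have h1 : Nat.card (Subgroup.centralizer ({q} : Set (QuaternionGroup (2 ^ k)))) ∣ 2 ^ (k + 2) := by
        have := Subgroup.card_subgroup_dvd_card
          (Subgroup.centralizer ({q} : Set (QuaternionGroup (2 ^ k))))
        rw [Nat.card_eq_fintype_card (α := QuaternionGroup (2 ^ k)), QuaternionGroup.card] at this
        convert this using 1; ring
      have h2 : Nat.card (⊤ : Subgroup (Multiplicative (ZMod m))) = m := by
        rw [Subgroup.card_top, Nat.card_eq_fintype_card]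
        simp [ZMod.card]
      rw [h2]
      exact Nat.Coprime.coprime_dvd_left h1 (Nat.Coprime.pow_left _ (Nat.coprime_two_left.2 hm))
  exact ((Subgroup.prodEquiv _ _).isCyclic).2 hprod

section fwd

variable {G : Type*} [Group G] [Finite G]

theorem sylow_normal (hG : Group.IsNilpotent G) (q : ℕ) [hq : Fact q.Prime] (Q : Sylow q G) :
    (Q : Subgroup G).Normal := by
  have h : Group.IsNilpotent G ↔ ∀ (p : ℕ), Fact (Nat.Prime p) → ∀ (P : Sylow p G),
      (↑P : Subgroup G).Normal := (Group.isNilpotent_of_finite_tfae (G := G)).out 0 3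
  exact h.1 hG q hq Q

theorem exists_noncomm_sylow (hG : Group.IsNilpotent G) (hna : ¬ IsMulCommutative G) :
    ∃ (p : ℕ) (_ : Fact p.Prime) (P : Sylow p G), ¬ IsMulCommutative ↥(P : Subgroup G) := by
  by_contra hcon
  push Not at hcon
  apply hna
  let e := Sylow.directProductOfNormal (G := G) (fun {p} _ P => sylow_normal hG p P)
  refine ⟨⟨fun a b => ?_⟩⟩
  have h : e.symm a * e.symm b = e.symm b * e.symm a := by
    funext p P
    have hp : Fact (p : ℕ).Prime := ⟨Nat.prime_of_mem_primeFactors p.2⟩
    have := hcon p hp P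
    exact this.is_comm.comm _ _
  have := congrArg e h
  simpa using this

theorem exists_normal_complement
    (hnorm : ∀ (q : ℕ) [Fact q.Prime] (Q : Sylow q G), (Q : Subgroup G).Normal)
    (p : ℕ) [Fact p.Prime] (P : Sylow p G) :
    ∃ H : Subgroup G, H.Normal ∧ (Nat.card H).Coprime p ∧
      Nat.card (P : Subgroup G) * Nat.card H = Nat.card G ∧ (P : Subgroup G) ⊓ H = ⊥ := by
  have hp : p.Prime := Fact.out
  set 𝒮 : Set (Subgroup G) := {N | N.Normal ∧ (Nat.card N).Coprime p} with h𝒮
  obtain ⟨hHn, hHc⟩ := Cfsg.Agent.Lib.Lead.Cores.sSup_normal_card_coprime p 𝒮 (fun N hN => hN)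
  set H := sSup 𝒮 with hH
  have hPn := hnorm p P
  have hdisj : (P : Subgroup G) ⊓ H = ⊥ := by
    apply Disjoint.eq_bot
    apply Subgroup.disjoint_of_coprime_natCard
    rw [P.card_eq_multiplicity]; exact Nat.Coprime.pow_left _ hHc.symm
  have hcard1 : Nat.card ((P : Subgroup G) ⊔ H : Subgroup G) =
      Nat.card (P : Subgroup G) * Nat.card H := by
    have h1 := Cfsg.Agent.Lib.Helper17.CD.card_mulSet_mul_card_inf (P : Subgroup G) H
    rw [← Subgroup.mul_normal (P : Subgroup G) H] at h1
    have h1' : Nat.card ↥((P : Subgroup G) ⊔ H) * Nat.card ↥((P : Subgroup G) ⊓ H) =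
        Nat.card ↥(P : Subgroup G) * Nat.card ↥H := h1
    rw [hdisj, Subgroup.card_bot, mul_one] at h1'
    exact h1'
  have htop : (P : Subgroup G) ⊔ H = ⊤ := by
    apply (Subgroup.card_eq_iff_eq_top _).1
    apply Nat.dvd_antisymm (Subgroup.card_subgroup_dvd_card _)
    rw [← Nat.factorization_prime_le_iff_dvd Nat.card_pos.ne' Nat.card_pos.ne']
    intro q hq
    have hqf : Fact q.Prime := ⟨hq⟩
    obtain Q : Sylow q G := default
    have hQn := hnorm q Q
    have hQle : (Q : Subgroup G) ≤ (P : Subgroup G) ⊔ H := by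
      by_cases hqp : q = p
      · subst hqp
        exact (Q.isPGroup'.le_sylow_of_normal P).trans le_sup_left
      · refine le_trans (le_sSup (show (Q : Subgroup G) ∈ 𝒮 from ⟨hQn, ?_⟩)) le_sup_right
        rw [Q.card_eq_multiplicity]
        exact Nat.Coprime.pow_left _ ((Nat.coprime_primes hq hp).2 hqp)
    have := Subgroup.card_dvd_of_le hQle
    rw [Q.card_eq_multiplicity] at this
    exact (hq.pow_dvd_iff_le_factorization Nat.card_pos.ne').1 this
  refine ⟨H, hHn, hHc, ?_, hdisj⟩
  rw [← hcard1, htop, Subgroup.card_top]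

theorem mem_zpowers_of_cyclic {C : Type*} [Group C] [Finite C] [IsCyclic C] {p : ℕ} (hp : p.Prime)
    (z g : C) (hz : orderOf z = p) (hg : g ^ p = 1) : g ∈ Subgroup.zpowers z := by
  classical
  have := Fintype.ofFinite C
  have h1 := IsCyclic.card_pow_eq_one_le (α := C) hp.pos
  have hsub : (Finset.univ.filter (fun a : C => a ∈ Subgroup.zpowers z)) ⊆
      Finset.univ.filter (fun a : C => a ^ p = 1) := by
    intro a ha
    rw [Finset.mem_filter] at ha ⊢
    refine ⟨Finset.mem_univ _, ?_⟩
    obtain ⟨k, rfl⟩ := Subgroup.mem_zpowers_iff.1 ha.2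
    rw [← zpow_natCast, ← zpow_mul, mul_comm, zpow_mul, zpow_natCast, ← hz, pow_orderOf_eq_one,
      one_zpow]
  have hcard : (Finset.univ.filter (fun a : C => a ∈ Subgroup.zpowers z)).card = p := by
    rw [← hz, ← Nat.card_zpowers, Nat.card_eq_fintype_card, Fintype.card_subtype]
  have heq := Finset.eq_of_subset_of_card_le hsub (by rw [hcard]; exact h1)
  have hmem : g ∈ Finset.univ.filter (fun a : C => a ^ p = 1) :=
    Finset.mem_filter.2 ⟨Finset.mem_univ _, hg⟩
  rw [← heq] at hmem
  exact (Finset.mem_filter.1 hmem).2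

end fwd

theorem result {G : Type*} [Group G] [Finite G] (hG : Group.IsNilpotent G)
    (hna : ¬ IsMulCommutative G) :
    (∀ x : G, x ∉ Subgroup.center G → IsCyclic (Subgroup.centralizer ({x} : Set G))) ↔
      ∃ (k m : ℕ), 1 ≤ k ∧ Odd m ∧ Nonempty (G ≃* QuaternionGroup (2 ^ k) × Multiplicative (ZMod m)) := by
  classical
  constructor
  · intro hcent
    obtain ⟨p, hpf, P, hPnc⟩ := exists_noncomm_sylow hG hna
    have hp : p.Prime := hpf.out
    have hnorm : ∀ (q : ℕ) [Fact q.Prime] (Q : Sylow q G), (Q : Subgroup G).Normal :=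
      fun q _ Q => sylow_normal hG q Q
    obtain ⟨H, hHn, hHc, hcard, hdisj⟩ := exists_normal_complement hnorm p P
    have hPn := hnorm p P
    have hcomm : ∀ x ∈ (P : Subgroup G), ∀ y ∈ H, Commute x y :=
      fun x hx y hy => Subgroup.commute_of_normal_of_disjoint _ _ hPn hHn
        (disjoint_iff.2 hdisj) x y hx hy
    obtain ⟨x, hxP, y, hyP, hxy⟩ :
        ∃ x ∈ (P : Subgroup G), ∃ y ∈ (P : Subgroup G), x * y ≠ y * x := by
      by_contra h
      push Not at h
      exact hPnc ⟨⟨fun a b => Subtype.ext (h a a.2 b b.2)⟩⟩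
    have hxc : x ∉ Subgroup.center G := fun h => hxy ((Subgroup.mem_center_iff.1 h y).symm)
    have hCx := hcent x hxc
    have hHle : H ≤ Subgroup.centralizer ({x} : Set G) := fun h hh =>
      Subgroup.mem_centralizer_singleton_iff.2 (hcomm x hxP h hh).eq.symm
    have hHcyc : IsCyclic H := by
      have : IsCyclic (H.subgroupOf (Subgroup.centralizer ({x} : Set G))) := inferInstance
      exact ((Subgroup.subgroupOfEquivOfLe hHle).isCyclic).1 this
    have hPnt : Nontrivial ↥(P : Subgroup G) :=
      ⟨⟨⟨x, hxP⟩, 1, fun h => hxy (by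
        have : x = 1 := congrArg Subtype.val h
        rw [this, one_mul, mul_one])⟩⟩
    have hcnt := P.isPGroup'.center_nontrivial
    have hdvd : p ∣ Nat.card (Subgroup.center ↥(P : Subgroup G)) := by
      rcases (P.isPGroup'.to_subgroup (Subgroup.center ↥(P : Subgroup G))).card_eq_or_dvd with h | h
      · exact absurd h (Finite.one_lt_card_iff_nontrivial.2 hcnt).ne'
      · exact h
    obtain ⟨z, hz⟩ := exists_prime_orderOf_dvd_card' p hdvd
    set z₀ : G := ((z : ↥(P : Subgroup G)) : G) with hz₀def
    have hz₀ : orderOf z₀ = p := by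
      rw [hz₀def, Subgroup.orderOf_coe, Subgroup.orderOf_coe]; exact hz
    have hz₀P : z₀ ∈ (P : Subgroup G) := (z : ↥(P : Subgroup G)).2
    have hz₀c : ∀ g ∈ (P : Subgroup G), g * z₀ = z₀ * g := by
      intro g hg
      have := Subgroup.mem_center_iff.1 z.2 ⟨g, hg⟩
      exact congrArg Subtype.val this
    have key : ∀ g ∈ (P : Subgroup G), g ^ p = 1 → g ∈ Subgroup.centralizer ({x} : Set G) := by
      intro g hg hgp
      by_cases hgc : ∀ y' ∈ (P : Subgroup G), y' * g = g * y'
      · exact Subgroup.mem_centralizer_singleton_iff.2 (hgc x hxP).symm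
      · exfalso
        apply hgc
        have hgnc : g ∉ Subgroup.center G := by
          intro h
          apply hgc
          intro y' _
          exact Subgroup.mem_center_iff.1 h y'
        have hCg := hcent g hgnc
        have hzCg : z₀ ∈ Subgroup.centralizer ({g} : Set G) :=
          Subgroup.mem_centralizer_singleton_iff.2 (hz₀c g hg).symm
        have hgCg : g ∈ Subgroup.centralizer ({g} : Set G) :=
          Subgroup.mem_centralizer_singleton_iff.2 rfl
        have hmem := mem_zpowers_of_cyclic hp
          (⟨z₀, hzCg⟩ : ↥(Subgroup.centralizer ({g} : Set G))) ⟨g, hgCg⟩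
          (by rw [← hz₀]; exact Subgroup.orderOf_mk z₀ hzCg) (Subtype.ext hgp)
        obtain ⟨j, hj⟩ := Subgroup.mem_zpowers_iff.1 hmem
        have hj' : z₀ ^ j = g := congrArg Subtype.val hj
        intro y' hy'
        rw [← hj']
        exact ((Commute.zpow_right (hz₀c y' hy') j)).eq
    have hT : Set.ncard {g : ↥(P : Subgroup G) | g ^ p = 1} ≤ p := by
      have hfin := Fintype.ofFinite ↥(Subgroup.centralizer ({x} : Set G))
      have h1 := IsCyclic.card_pow_eq_one_le (α := ↥(Subgroup.centralizer ({x} : Set G))) hp.pos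
      have h2 : Set.ncard {a : ↥(Subgroup.centralizer ({x} : Set G)) | a ^ p = 1} ≤ p := by
        rw [Set.ncard_eq_toFinset_card']
        convert h1 using 2
        ext a; simp
      have h3 : (Subtype.val '' {g : ↥(P : Subgroup G) | g ^ p = 1} : Set G) ⊆
          Subtype.val '' {a : ↥(Subgroup.centralizer ({x} : Set G)) | a ^ p = 1} := by
        rintro _ ⟨g, hg, rfl⟩
        have hg' : (g : G) ^ p = 1 := by
          have := congrArg Subtype.val (show g ^ p = 1 from hg)
          simpa using this
        exact ⟨⟨g.1, key g.1 g.2 hg'⟩, Subtype.ext hg', rfl⟩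
      have h4 := Set.ncard_le_ncard h3 (Set.toFinite _)
      rw [Set.ncard_image_of_injective _ Subtype.val_injective,
        Set.ncard_image_of_injective _ Subtype.val_injective] at h4
      exact h4.trans h2
    rcases Cfsg.Agent.Lib.Helper18.UniqueInvolution.cyclic_or_quaternion_of_unique p P.isPGroup' hT
      with hcyc | ⟨hp2, n, ⟨e₁⟩⟩
    · exact absurd IsCyclic.isMulCommutative hPnc
    · subst hp2
      have hn : 1 ≤ n := by
        by_contra h0
        have hn0 : n = 0 := by omega
        subst hn0
        apply hPnc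
        apply IsPGroup.isMulCommutative_of_card_eq_prime_sq (p := 2)
        rw [Nat.card_congr e₁.toEquiv, Nat.card_eq_fintype_card, QuaternionGroup.card]
        norm_num
      have hodd : Odd (Nat.card H) := Nat.coprime_two_right.1 hHc
      have e₂ := zmodCyclicMulEquiv hHcyc
      let φ : ↥(P : Subgroup G) × ↥H →* G :=
        MonoidHom.noncommCoprod (P : Subgroup G).subtype H.subtype
          (fun a b => hcomm a.1 a.2 b.1 b.2)
      have hinj : Function.Injective φ := by
        refine (MonoidHom.noncommCoprod_injective _ _ _).2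
          ⟨Subgroup.subtype_injective _, Subgroup.subtype_injective _, ?_⟩
        rw [Subgroup.range_subtype, Subgroup.range_subtype]
        exact disjoint_iff.2 hdisj
      have hbij : Function.Bijective φ := by
        apply hinj.bijective_of_nat_card_le
        rw [Nat.card_prod, hcard]
      exact ⟨n, Nat.card H, hn, hodd,
        ⟨(MulEquiv.ofBijective φ hbij).symm.trans (MulEquiv.prodCongr e₁ e₂.symm)⟩⟩
  · rintro ⟨k, m, hk, hm, ⟨e⟩⟩ x hx
    have hX : e x ∉ Subgroup.center (QuaternionGroup (2 ^ k) × Multiplicative (ZMod m)) := by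
      intro h
      apply hx
      rw [Subgroup.mem_center_iff] at h ⊢
      intro g
      apply e.injective
      rw [map_mul, map_mul]; exact h (e g)
    have hc := prod_centralizer_cyclic hm (e x) hX
    let f : ↥(Subgroup.centralizer ({x} : Set G)) ≃*
        ↥(Subgroup.centralizer ({e x} : Set (QuaternionGroup (2 ^ k) × Multiplicative (ZMod m)))) :=
      { toFun := fun g => ⟨e g.1, by
          rw [Subgroup.mem_centralizer_singleton_iff, ← map_mul, ← map_mul,
            Subgroup.mem_centralizer_singleton_iff.1 g.2]⟩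
        invFun := fun g => ⟨e.symm g.1, by
          rw [Subgroup.mem_centralizer_singleton_iff]
          apply e.injective
          rw [map_mul, map_mul, MulEquiv.apply_symm_apply]
          exact Subgroup.mem_centralizer_singleton_iff.1 g.2⟩
        left_inv := fun g => by simp
        right_inv := fun g => by simp
        map_mul' := fun a b => by apply Subtype.ext; simp }
    exact (f.isCyclic).2 hc

end Cfsg.Agent.S4370
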