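import Cfsg.Statements.S4381
import Mathlib
import Cfsg.Agent.S0023
import Cfsg.Agent.S3775
import Cfsg.Agent.S4218
import Cfsg.Agent.Lib.Helper20.ESpecial
import Cfsg.Agent.Lib.Helper10.SZ
import Cfsg.Agent.Lib.Helper10.Coprime

set_option autoImplicit false
open Pointwise
open Cfsg

namespace Cfsg.Agent.S4381

section aux

variable {A G : Type*} [Group A] [Finite A] [Group G] [Finite G] [MulDistribMulAction A G]

theorem exists_inv_sylow (hcop : (Nat.card A).Coprime (Nat.card G))
    (hsol : Group.IsSolvable A ∨ Group.IsSolvable G) (p : ℕ) [Fact p.Prime] :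
    ∃ P : Sylow p G, ∀ a : A, ∀ x ∈ P, a • x ∈ P := by
  let φ : A →* MulAut G := MulDistribMulAction.toMulAut A G
  haveI : Finite (G ⋊[φ] A) := Finite.of_equiv _ SemidirectProduct.equivProd.symm
  let K : Subgroup (G ⋊[φ] A) := (SemidirectProduct.inl : G →* G ⋊[φ] A).range
  let B : Subgroup (G ⋊[φ] A) := (SemidirectProduct.inr : A →* G ⋊[φ] A).range
  have hKn : K.Normal := by
    have h1 : K = (SemidirectProduct.rightHom : G ⋊[φ] A →* A).ker :=
      SemidirectProduct.range_inl_eq_ker_rightHom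
    rw [h1]; infer_instance
  have hBK : B ≤ Subgroup.normalizer (K : Set (G ⋊[φ] A)) := by
    rw [Subgroup.normalizer_eq_top]; exact le_top
  let eK : G ≃* K := MonoidHom.ofInjective SemidirectProduct.inl_injective
  let eB : A ≃* B := MonoidHom.ofInjective SemidirectProduct.inr_injective
  have hcK : Nat.card K = Nat.card G := (Nat.card_congr eK.toEquiv).symm
  have hcB : Nat.card B = Nat.card A := (Nat.card_congr eB.toEquiv).symm
  have hsol' : Group.IsSolvable B ∨ Group.IsSolvable K := by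
    rcases hsol with h | h
    · left; exact Group.isSolvable_of_surjective (f := eB.toMonoidHom) eB.surjective
    · right; exact Group.isSolvable_of_surjective (f := eK.toMonoidHom) eK.surjective
  obtain ⟨P', hP'⟩ := Cfsg.Agent.S0023.result B K hBK (by rw [hcK, hcB]; exact hcop) hsol' p
  let P : Sylow p G := P'.comapOfInjective eK.toMonoidHom eK.injective
    (fun y _ => ⟨eK.symm y, eK.apply_symm_apply y⟩)
  have hmem : ∀ x : G, x ∈ P ↔ (SemidirectProduct.inl x : G ⋊[φ] A) ∈
      (P' : Subgroup K).map K.subtype := by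
    intro x
    have h1 : x ∈ P ↔ eK x ∈ P' := Iff.rfl
    rw [h1, Subgroup.mem_map]
    constructor
    · intro h
      exact ⟨eK x, h, rfl⟩
    · rintro ⟨y, hy, hyx⟩
      have h2 : y = eK x := Subtype.ext hyx
      rw [← h2]; exact hy
  refine ⟨P, fun a x hx => ?_⟩
  rw [hmem] at hx ⊢
  have ha : (SemidirectProduct.inr a : G ⋊[φ] A) ∈ B := ⟨a, rfl⟩
  have h1 := (Subgroup.mem_normalizer_iff.1 (hP' ha) _).1 hx
  have h2 : (SemidirectProduct.inl (a • x) : G ⋊[φ] A) =
      SemidirectProduct.inr a * SemidirectProduct.inl x * (SemidirectProduct.inr a)⁻¹ := by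
    rw [← map_inv, ← SemidirectProduct.inl_aut]
    rfl
  rw [h2]
  exact h1

theorem exists_maxinv (H : Subgroup G) (hH : H ≠ ⊤) (hinv : ∀ a : A, ∀ x ∈ H, a • x ∈ H) :
    ∃ M : Subgroup G, H ≤ M ∧ (M ≠ ⊤ ∧ (∀ a : A, ∀ x ∈ M, a • x ∈ M) ∧
      ∀ L : Subgroup G, M < L → (∀ a : A, ∀ x ∈ L, a • x ∈ L) → L = ⊤) := by
  obtain ⟨M, hHM, hmax⟩ := Finite.exists_le_maximal
    (p := fun X : Subgroup G => X ≠ ⊤ ∧ ∀ a : A, ∀ x ∈ X, a • x ∈ X) (a := H) ⟨hH, hinv⟩
  refine ⟨M, hHM, hmax.prop.1, hmax.prop.2, fun L hML hL => ?_⟩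
  by_contra hLtop
  exact absurd (hmax.le_of_ge ⟨hLtop, hL⟩ (le_of_lt hML)) (not_le_of_gt hML)

theorem inv_frattini (a : A) (x : G) (hx : x ∈ frattini G) : a • x ∈ frattini G := by
  have h := Subgroup.characteristic_iff_map_le.1 (frattini_characteristic (G := G))
    (MulDistribMulAction.toMulAut A G a)
  exact h (Subgroup.mem_map_of_mem _ hx)

theorem inv_sup (M N : Subgroup G) (hM : ∀ a : A, ∀ x ∈ M, a • x ∈ M)
    (hN : ∀ a : A, ∀ x ∈ N, a • x ∈ N) : ∀ a : A, ∀ x ∈ M ⊔ N, a • x ∈ M ⊔ N := by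
  intro a x hx
  have h : M ⊔ N ≤ (M ⊔ N).comap (MulDistribMulAction.toMonoidHom G a) :=
    sup_le (fun y hy => Subgroup.mem_sup_left (hM a y hy))
      (fun y hy => Subgroup.mem_sup_right (hN a y hy))
  exact h hx

theorem part2 (hR : ∀ L : Subgroup G, frattini G < L → (∀ a : A, ∀ x ∈ L, a • x ∈ L) → L = ⊤)
    (M : Subgroup G) :
    (M ≠ ⊤ ∧ (∀ a : A, ∀ x ∈ M, a • x ∈ M) ∧
      ∀ L : Subgroup G, M < L → (∀ a : A, ∀ x ∈ L, a • x ∈ L) → L = ⊤) ↔
      (M = frattini G ∧ M ≠ ⊤) := by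
  constructor
  · rintro ⟨hM, hMinv, hMmax⟩
    refine ⟨?_, hM⟩
    have hJinv := inv_sup (frattini G) M (fun a x hx => inv_frattini a x hx) hMinv
    have hJtop : frattini G ⊔ M ≠ ⊤ := by
      intro h
      exact hM (frattini_nongenerating (by rw [sup_comm]; exact h))
    have hJ : frattini G ⊔ M = frattini G := by
      by_contra hne
      exact hJtop (hR _ (lt_of_le_of_ne le_sup_left (Ne.symm hne)) hJinv)
    have hle : M ≤ frattini G := by rw [← hJ]; exact le_sup_right
    by_contra hne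
    have h1 := hMmax (frattini G) (lt_of_le_of_ne hle hne) (fun a x hx => inv_frattini a x hx)
    apply hJtop
    rw [h1]
    exact top_sup_eq M
  · rintro ⟨rfl, hM⟩
    exact ⟨hM, fun a x hx => inv_frattini a x hx, hR⟩

theorem maschke_frattini (hcop : (Nat.card A).Coprime (Nat.card G)) {p : ℕ} [Fact p.Prime]
    (hG : IsPGroup p G) (L : Subgroup G) (hL : frattini G < L)
    (hLinv : ∀ a : A, ∀ x ∈ L, a • x ∈ L) :
    ∃ U : Subgroup G, (∀ a : A, ∀ x ∈ U, a • x ∈ U) ∧ U ⊔ L = ⊤ ∧ U ≠ ⊤ := by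
  classical
  haveI hΦn : (frattini G).Normal := Subgroup.normal_of_characteristic _
  letI cg : CommGroup (G ⧸ frattini G) :=
    { (inferInstance : Group (G ⧸ frattini G)) with
      mul_comm := fun x y => by
        induction x using QuotientGroup.induction_on with
        | H a =>
          induction y using QuotientGroup.induction_on with
          | H b =>
            rw [← QuotientGroup.mk_mul, ← QuotientGroup.mk_mul, QuotientGroup.eq]
            have h := Cfsg.Agent.S4218.comm_mem_frattini hG b⁻¹ a⁻¹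
            have h2 : (a * b)⁻¹ * (b * a) = b⁻¹ * a⁻¹ * b⁻¹⁻¹ * a⁻¹⁻¹ := by group
            rw [h2]; exact h }
  have hmap : ∀ a : A,
      (frattini G).map (MulDistribMulAction.toMulAut A G a).toMonoidHom = frattini G :=
    fun a => Subgroup.characteristic_iff_map_eq.1 frattini_characteristic _
  let f : A →* MulAut (G ⧸ frattini G) :=
    { toFun := fun a => QuotientGroup.congr (frattini G) (frattini G)
        (MulDistribMulAction.toMulAut A G a) (hmap a)
      map_one' := by
        ext q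
        induction q using QuotientGroup.induction_on with
        | H g => simp
      map_mul' := fun a b => by
        ext q
        induction q using QuotientGroup.induction_on with
        | H g => simp [mul_smul] }
  have hf : ∀ (a : A) (g : G), f a (QuotientGroup.mk' (frattini G) g) =
      QuotientGroup.mk' (frattini G) (a • g) := fun a g => rfl
  obtain ⟨x₀, hx₀L, hx₀Φ⟩ := SetLike.exists_of_lt hL
  have hGnt : Nat.card G ≠ 1 := by
    intro h
    haveI : Subsingleton G := (Nat.card_eq_one_iff_unique.1 h).1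
    apply hx₀Φ
    rw [Subsingleton.elim x₀ 1]
    exact Subgroup.one_mem _
  let X : Subgroup (MulAut (G ⧸ frattini G)) := f.range
  have hX : (Nat.card X).Coprime p := by
    have h1 : Nat.card X ∣ Nat.card A := Subgroup.card_range_dvd f
    obtain ⟨n, hn⟩ := IsPGroup.iff_card.1 hG
    have hn0 : n ≠ 0 := by
      rintro rfl
      rw [pow_zero] at hn
      exact hGnt hn
    have h2 : (Nat.card A).Coprime p := by
      rw [hn] at hcop
      exact Nat.Coprime.coprime_dvd_right (dvd_pow_self p hn0) hcop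
    exact Nat.Coprime.coprime_dvd_left h1 h2
  have hQ : IsPGroup p (G ⧸ frattini G) := hG.to_quotient (frattini G)
  let W : Subgroup (G ⧸ frattini G) := L.map (QuotientGroup.mk' (frattini G))
  have hWinv : ∀ x ∈ X, ∀ b ∈ W, x b ∈ W := by
    rintro _ ⟨a, rfl⟩ b ⟨l, hl, rfl⟩
    exact ⟨a • l, hLinv a l hl, (hf a l).symm⟩
  have hpow : ∀ q : G ⧸ frattini G, q ^ p = 1 := by
    intro q
    induction q using QuotientGroup.induction_on with
    | H g =>
      rw [← QuotientGroup.mk_pow, QuotientGroup.eq_one_iff]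
      exact Cfsg.Agent.Lib.Helper20.ESpecial.pow_mem_frattini hG g
  obtain ⟨C, -, -, hCW, hsup⟩ := Cfsg.Agent.S3775.exists_compl hQ ⊥ W ⊤ bot_le le_top
    (fun C _ _ _ g _ _ => ⟨1, W.one_mem, by rw [inv_one, mul_one, hpow]; exact C.one_mem⟩)
  obtain ⟨C', hC'inv, -, -, hC'W, hC'sup⟩ := Cfsg.Agent.S3775.avg hQ X hX ⊥ W ⊤ C
    (fun x _ b hb => by rw [Subgroup.mem_bot] at hb ⊢; rw [hb, map_one]) hWinv
    (fun _ _ _ _ => Subgroup.mem_top _) bot_le le_top hCW hsup
  refine ⟨C'.comap (QuotientGroup.mk' (frattini G)), ?_, ?_, ?_⟩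
  · intro a x hx
    rw [Subgroup.mem_comap] at hx ⊢
    rw [← hf]
    exact hC'inv (f a) ⟨a, rfl⟩ _ hx
  · rw [Subgroup.eq_top_iff']
    intro g
    have h1 : (QuotientGroup.mk' (frattini G) g) ∈ C' ⊔ W := hC'sup (Subgroup.mem_top _)
    obtain ⟨y, hy, z, hz, hyz⟩ := Subgroup.mem_sup.1 h1
    obtain ⟨l, hl, rfl⟩ := hz
    have h2 : g * l⁻¹ ∈ C'.comap (QuotientGroup.mk' (frattini G)) := by
      rw [Subgroup.mem_comap, map_mul, map_inv, ← hyz, mul_inv_cancel_right]
      exact hy
    have h3 : g = (g * l⁻¹) * l := by group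
    rw [h3]
    exact Subgroup.mul_mem _ (Subgroup.mem_sup_left h2) (Subgroup.mem_sup_right hl)
  · intro hU
    apply absurd hL
    apply not_lt_of_ge
    intro l hl
    have h1 : l ∈ C'.comap (QuotientGroup.mk' (frattini G)) := by
      rw [hU]; exact Subgroup.mem_top l
    have h2 : QuotientGroup.mk' (frattini G) l ∈ C' ⊓ W :=
      Subgroup.mem_inf.2 ⟨h1, ⟨l, hl, rfl⟩⟩
    have h3 := hC'W h2
    rw [Subgroup.mem_bot] at h3
    exact (QuotientGroup.eq_one_iff l).1 h3

end aux

/-- Let the finite group A act by automorphisms on the finite group G with the orders of A and G coprime, and assume that A or G is solvable. Call a proper A-invariant subgroup of G maximal A-invariant when no A-invariant subgroup lies strictly between it and G. Then all maximal A-invariant subgroups of G are conjugate under elements of the fixed-point subgroup C_G(A) if and only if G is a p-group for some prime p and A leaves invariant no subgroup strictly between the Frattini subgroup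 of G and G. In that case, if G is nontrivial, the Frattini subgroup is the only maximal A-invariant subgroup (a trivial G has none). -/
theorem result {A G : Type*} [Group A] [Finite A]
    [Group G] [Finite G] [MulDistribMulAction A G] (hcop : (Nat.card A).Coprime (Nat.card G)) (hsol : Group.IsSolvable A ∨ Group.IsSolvable G) :
    ((∀ M N : Subgroup G, (M ≠ ⊤ ∧ (∀ a : A, ∀ x ∈ M, a • x ∈ M) ∧ ∀ L : Subgroup G, M < L → (∀ a : A, ∀ x ∈ L, a • x ∈ L) → L = ⊤) → (N ≠ ⊤ ∧ (∀ a : A, ∀ x ∈ N, a • x ∈ N) ∧ ∀ L : Subgroup G, N < L → (∀ a : A, ∀ x ∈ L, a • x ∈ L) → L = ⊤) →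
        ∃ c : G, (∀ a : A, a • c = c) ∧ N = MulAut.conj c • M) ↔
      ((∃ p : ℕ, p.Prime ∧ IsPGroup p G) ∧ ∀ L : Subgroup G, frattini G < L → (∀ a : A, ∀ x ∈ L, a • x ∈ L) → L = ⊤)) ∧
    (((∃ p : ℕ, p.Prime ∧ IsPGroup p G) ∧ ∀ L : Subgroup G, frattini G < L → (∀ a : A, ∀ x ∈ L, a • x ∈ L) → L = ⊤) →
      ∀ M : Subgroup G, (M ≠ ⊤ ∧ (∀ a : A, ∀ x ∈ M, a • x ∈ M) ∧ ∀ L : Subgroup G, M < L → (∀ a : A, ∀ x ∈ L, a • x ∈ L) → L = ⊤) ↔ (M = frattini G ∧ M ≠ ⊤)) := by
  refine ⟨⟨fun hall => ?_, fun hR M N hM hN => ?_⟩, fun hR M => part2 hR.2 M⟩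
  · have hp : ∃ p : ℕ, p.Prime ∧ IsPGroup p G := by
      by_cases htriv : Nat.card G = 1
      · haveI : Fact (Nat.Prime 2) := ⟨Nat.prime_two⟩
        exact ⟨2, Nat.prime_two, IsPGroup.of_card (n := 0) (by rw [htriv, pow_zero])⟩
      · obtain ⟨p, hp, hpdvd⟩ := Nat.exists_prime_and_dvd htriv
        refine ⟨p, hp, ?_⟩
        by_contra hnp
        have hsyl : ∀ q : ℕ, q.Prime → ∃ Q : Subgroup G, Q ≠ ⊤ ∧ (∀ a : A, ∀ x ∈ Q, a • x ∈ Q) ∧
            Nat.card Q = q ^ (Nat.card G).factorization q := by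
          intro q hq
          haveI : Fact q.Prime := ⟨hq⟩
          obtain ⟨Q, hQ⟩ := exists_inv_sylow hcop hsol q
          refine ⟨Q, ?_, hQ, Q.card_eq_multiplicity⟩
          intro hQtop
          have h1 : Nat.card G = q ^ (Nat.card G).factorization q := by
            rw [← Q.card_eq_multiplicity, hQtop, Subgroup.card_top]
          have h2 : p ∣ q ^ (Nat.card G).factorization q := by rw [← h1]; exact hpdvd
          have h3 : p = q := (Nat.prime_dvd_prime_iff_eq hp hq).1 (hp.dvd_of_dvd_pow h2)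
          subst h3
          exact hnp (IsPGroup.of_card h1)
        obtain ⟨P, hPtop, hPinv, -⟩ := hsyl p hp
        obtain ⟨M, -, hM⟩ := exists_maxinv P hPtop hPinv
        apply hM.1
        apply Subgroup.eq_top_of_card_eq
        apply Nat.dvd_antisymm (Subgroup.card_subgroup_dvd_card M)
        have hM0 : Nat.card M ≠ 0 := Nat.card_pos.ne'
        have hG0 : Nat.card G ≠ 0 := Nat.card_pos.ne'
        rw [← Nat.factorization_prime_le_iff_dvd hG0 hM0]
        intro q hq
        obtain ⟨Q, hQtop, hQinv, hQcard⟩ := hsyl q hq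
        obtain ⟨M', hQM', hM'⟩ := exists_maxinv Q hQtop hQinv
        obtain ⟨c, -, hc⟩ := hall M M' hM hM'
        have h1 : Nat.card Q ∣ Nat.card M := by
          rw [← Cfsg.Agent.Lib.Helper10.SZ.card_conj_smul c M, ← hc]
          exact Subgroup.card_dvd_of_le hQM'
        rw [hQcard] at h1
        exact (hq.pow_dvd_iff_le_factorization hM0).1 h1
    refine ⟨hp, fun L hΦL hLinv => ?_⟩
    obtain ⟨p, hpp, hG⟩ := hp
    haveI : Fact p.Prime := ⟨hpp⟩
    by_contra hLtop
    obtain ⟨U, hUinv, hUL, hUtop⟩ := maschke_frattini hcop hG L hΦL hLinv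
    obtain ⟨M1, hLM1, hM1⟩ := exists_maxinv L hLtop hLinv
    obtain ⟨M2, hUM2, hM2⟩ := exists_maxinv U hUtop hUinv
    obtain ⟨c, -, hc⟩ := hall M1 M2 hM1 hM2
    have hnorm : ∀ g : G, ∀ m ∈ M1, g * m * g⁻¹ ∈ M1 := by
      intro g m hm
      have h1 : g * m * g⁻¹ * m⁻¹ ∈ M1 :=
        hLM1 (le_of_lt hΦL (Cfsg.Agent.S4218.comm_mem_frattini hG g m))
      have h2 : g * m * g⁻¹ = (g * m * g⁻¹ * m⁻¹) * m := by group
      rw [h2]
      exact M1.mul_mem h1 hm
    have hUM1 : U ≤ M1 := by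
      intro u hu
      have h1 : u ∈ MulAut.conj c • M1 := by rw [← hc]; exact hUM2 hu
      rw [Cfsg.Agent.Lib.Helper10.Coprime.mem_conj_smul_iff] at h1
      have h2 := hnorm c _ h1
      have h3 : c * (c⁻¹ * u * c) * c⁻¹ = u := by group
      rw [h3] at h2
      exact h2
    apply hM1.1
    rw [eq_top_iff, ← hUL]
    exact sup_le hUM1 hLM1
  · have h1 := (part2 hR.2 M).1 hM
    have h2 := (part2 hR.2 N).1 hN
    exact ⟨1, fun a => smul_one a, by rw [h1.1, h2.1, map_one, one_smul]⟩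

end Cfsg.Agent.S4381
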