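import Cfsg.Statements.S4399
import Mathlib
import Cfsg.Agent.Lib.Lead.MaxClass2
import Cfsg.Agent.Lib.Lead.CyclicMax
import Cfsg.Agent.Lib.Helper18.DihedralEquiv
import Cfsg.Agent.Lib.Helper18.QuatHom

set_option autoImplicit false
open Cfsg

namespace Cfsg.Agent.S4399

universe u

theorem eq_of_card_two {α : Type*} (h : Nat.card α = 2) (a b c : α) (hab : a ≠ b) :
    c = a ∨ c = b := by
  obtain ⟨u, v, huv, huniv⟩ := Nat.card_eq_two_iff.1 h
  have hmem : ∀ y : α, y = u ∨ y = v := by
    intro y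
    have hy : y ∈ ({u, v} : Set α) := by rw [huniv]; exact Set.mem_univ y
    simpa using hy
  rcases hmem a with rfl | rfl <;> rcases hmem b with rfl | rfl <;> rcases hmem c with rfl | rfl
  all_goals first | exact Or.inl rfl | exact Or.inr rfl | exact absurd rfl hab

theorem core (e : ℕ) (he : 1 ≤ e) (S : Type u) [Group S] [Finite S]
    (hS : Nat.card S = 2 ^ (e + 2)) (a x : S) (hao : orderOf a = 2 ^ (e + 1))
    (hx : x ∉ Subgroup.zpowers a) (hZ : Nat.card (Subgroup.center S) = 2) :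
    ((∃ k : ℕ, Nonempty (S ≃* DihedralGroup (2 ^ (k + 2)))) ∨
      (∃ k : ℕ, Nat.card S = 2 ^ (k + 4) ∧ ∃ a b : S, orderOf a = 2 ^ (k + 3) ∧ orderOf b = 2 ∧
        b * a * b⁻¹ = a ^ (2 ^ (k + 2) - 1)) ∨
      (∃ k : ℕ, Nonempty (S ≃* QuaternionGroup (2 ^ (k + 1))))) := by
  have hCi : (Subgroup.zpowers a).index = 2 := by
    have h1 := Subgroup.card_mul_index (Subgroup.zpowers a)
    rw [Nat.card_zpowers, hao, hS, pow_succ] at h1
    exact Nat.eq_of_mul_eq_mul_left (by positivity) h1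
  have hCn : (Subgroup.zpowers a).Normal := Subgroup.normal_of_index_eq_two hCi
  have hM : ∀ u ∈ Subgroup.zpowers a, ∀ v ∈ Subgroup.zpowers a, u * v = v * u := by
    intro u hu v hv
    obtain ⟨i, rfl⟩ := Subgroup.mem_zpowers_iff.1 hu
    obtain ⟨j, rfl⟩ := Subgroup.mem_zpowers_iff.1 hv
    rw [← zpow_add, ← zpow_add, add_comm]
  have hapow : a ^ (2 ^ (e + 1)) = 1 := by rw [← hao]; exact pow_orderOf_eq_one a
  obtain ⟨z, hz⟩ : ∃ z : S, z = a ^ (2 ^ e) := ⟨_, rfl⟩
  have hz2 : z * z = 1 := by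
    rw [hz, ← pow_add, ← two_mul, ← pow_succ']; exact hapow
  have hz1 : z ≠ 1 := by
    rw [hz]
    apply pow_ne_one_of_lt_orderOf (by positivity)
    rw [hao]
    exact Nat.pow_lt_pow_right (by norm_num) (by omega)
  obtain ⟨r, hr⟩ := Cfsg.Agent.Lib.Lead.CyclicMax.exists_nat_pow
    (hCn.conj_mem a (Subgroup.mem_zpowers a) x)
  have hconj_pow : ∀ i : ℕ, x * a ^ i * x⁻¹ = a ^ (r * i) := by
    intro i
    rw [← conj_pow, hr, pow_mul]
  have hx2Z : x ^ 2 ∈ Subgroup.center S :=
    Cfsg.Agent.Lib.Lead.MaxClass2.sq_mem_center (Subgroup.zpowers a) hCi hM x hx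
  have hrr : r * r ≡ 1 [MOD 2 ^ (e + 1)] := by
    have hc := Subgroup.mem_center_iff.1 hx2Z a
    have h1 : x ^ 2 * a * (x ^ 2)⁻¹ = a := by
      calc x ^ 2 * a * (x ^ 2)⁻¹ = a * x ^ 2 * (x ^ 2)⁻¹ := by rw [hc]
        _ = a := by group
    have h2 : x ^ 2 * a * (x ^ 2)⁻¹ = x * (x * a * x⁻¹) * x⁻¹ := by rw [pow_two]; group
    rw [h2, hr, hconj_pow] at h1
    rw [← hao]
    exact pow_eq_pow_iff_modEq.1 (h1.trans (pow_one a).symm)
  have hrodd : r % 2 = 1 := by
    have h1 : r * r ≡ 1 [MOD 2] :=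
      Nat.ModEq.of_dvd (dvd_pow_self 2 (by omega)) hrr
    have h2 : r * r % 2 = 1 := h1
    rw [Nat.mul_mod] at h2
    rcases Nat.mod_two_eq_zero_or_one r with h3 | h3
    · rw [h3] at h2; norm_num at h2
    · exact h3
  have hzr : z ^ r = z := by
    have h1 : r = 2 * (r / 2) + 1 := by omega
    rw [h1, pow_succ, pow_mul, pow_two, hz2, one_pow, one_mul]
  have hzZ : z ∈ Subgroup.center S := by
    apply Cfsg.Agent.Lib.Lead.MaxClass2.mem_center_of_comm (Subgroup.zpowers a) hCi hM x hx z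
      (by rw [hz]; exact Subgroup.pow_mem _ (Subgroup.mem_zpowers a) _)
    have h1 : x * z * x⁻¹ = z := by
      rw [hz, hconj_pow, mul_comm, pow_mul, ← hz, hzr]
    calc z * x = x * z * x⁻¹ * x := by rw [h1]
      _ = x * z := by group
  have hZ2 : ∀ w ∈ Subgroup.center S, w = 1 ∨ w = z := by
    intro w hw
    have h1 := eq_of_card_two hZ (1 : ↥(Subgroup.center S)) ⟨z, hzZ⟩ ⟨w, hw⟩
      (fun h => hz1 (congrArg Subtype.val h).symm)
    rcases h1 with h | h
    · left; exact congrArg Subtype.val h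
    · right; exact congrArg Subtype.val h
  have hx2 : x ^ 2 = 1 ∨ x ^ 2 = z := hZ2 _ hx2Z
  have hx1 : x ≠ 1 := fun h => hx (h ▸ Subgroup.one_mem _)
  have hinv_case : x * a * x⁻¹ = a⁻¹ →
      ((∃ k : ℕ, Nonempty (S ≃* DihedralGroup (2 ^ (k + 2)))) ∨
      (∃ k : ℕ, Nat.card S = 2 ^ (k + 4) ∧ ∃ a b : S, orderOf a = 2 ^ (k + 3) ∧ orderOf b = 2 ∧
        b * a * b⁻¹ = a ^ (2 ^ (k + 2) - 1)) ∨
      (∃ k : ℕ, Nonempty (S ≃* QuaternionGroup (2 ^ (k + 1))))) := by
    intro hxa
    rcases hx2 with h | h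
    · left
      refine ⟨e - 1, ?_⟩
      have h1 := Cfsg.Agent.Lib.Helper18.DihedralEquiv.dihedral_equiv (2 ^ (e + 1))
        (by positivity) a x hao h hxa hx (by rw [hS]; ring)
      have he' : e - 1 + 2 = e + 1 := by omega
      rw [he']; exact h1
    · right; right
      refine ⟨e - 1, ?_⟩
      have he' : e - 1 + 1 = e := by omega
      rw [he']
      obtain ⟨f, hf1, hf2, -, -⟩ := Cfsg.Agent.Lib.Helper18.QuatHom.exists_quat_hom (2 ^ e)
        (by positivity) a x (by rw [← pow_succ']; exact hapow) (by rw [h, hz]) hxa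
      have hsurj : Function.Surjective f := by
        rw [← MonoidHom.range_eq_top]
        have hle : Subgroup.zpowers a ≤ f.range := by
          rw [Subgroup.zpowers_le]; exact ⟨_, hf1⟩
        have hxr : x ∈ f.range := ⟨_, hf2⟩
        have hdvd : f.range.index ∣ 2 := by
          have h0 := Subgroup.index_dvd_of_le hle
          rw [hCi] at h0
          exact h0
        rcases (Nat.dvd_prime Nat.prime_two).1 hdvd with h1 | h1
        · exact Subgroup.index_eq_one.1 h1
        · exfalso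
          apply hx
          have h2 : Subgroup.zpowers a = f.range := by
            apply Subgroup.eq_of_le_of_card_ge hle
            have h3 := Subgroup.card_mul_index (Subgroup.zpowers a)
            have h4 := Subgroup.card_mul_index f.range
            rw [hCi] at h3
            rw [h1] at h4
            have h5 : Nat.card f.range * 2 = Nat.card (Subgroup.zpowers a) * 2 := by
              rw [h3, h4]
            exact le_of_eq (Nat.eq_of_mul_eq_mul_right (by norm_num) h5)
          rw [h2]; exact hxr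
      have hne0 : NeZero (2 ^ e) := ⟨by positivity⟩
      have hcard : Nat.card (QuaternionGroup (2 ^ e)) ≤ Nat.card S := by
        rw [Nat.card_eq_fintype_card, QuaternionGroup.card, hS]
        apply le_of_eq
        ring
      exact ⟨(MulEquiv.ofBijective f (hsurj.bijective_of_nat_card_le hcard)).symm⟩
  have hab_case : x * a * x⁻¹ = a → False := by
    intro hxa
    have hcomm := Cfsg.Agent.Lib.Lead.CyclicMax.comm_of_conj_eq Nat.prime_two a x hCi hx hxa
    have h1 : Subgroup.center S = ⊤ := by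
      rw [Subgroup.eq_top_iff']
      intro g
      rw [Subgroup.mem_center_iff]
      intro y
      exact hcomm y g
    rw [h1, Subgroup.card_top, hS] at hZ
    have h2 : 2 ^ 3 ≤ 2 ^ (e + 2) := Nat.pow_le_pow_right (by norm_num) (by omega)
    omega
  rcases Cfsg.Agent.Lib.Lead.CyclicMax.sq_mod_cases e r he hrr with h | h | h | h
  · exfalso
    apply hab_case
    rw [hr]
    have h1 : a ^ r = a ^ 1 := pow_eq_pow_iff_modEq.2 (by rw [hao]; exact h)
    rw [h1, pow_one]
  · apply hinv_case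
    rw [hr]
    have h1 : a ^ r = a ^ (2 ^ (e + 1) - 1) := pow_eq_pow_iff_modEq.2 (by rw [hao]; exact h)
    rw [h1]
    apply eq_inv_of_mul_eq_one_left
    rw [← pow_succ, Nat.sub_add_cancel (Nat.one_le_two_pow)]
    exact hapow
  · have har : x * a * x⁻¹ = a ^ (1 + 2 ^ e) := by
      rw [hr]; exact pow_eq_pow_iff_modEq.2 (by rw [hao]; exact h)
    have ha2Z : a ^ 2 ∈ Subgroup.center S := by
      apply Cfsg.Agent.Lib.Lead.MaxClass2.mem_center_of_comm (Subgroup.zpowers a) hCi hM x hx
        (a ^ 2) (Subgroup.pow_mem _ (Subgroup.mem_zpowers a) 2)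
      have h1 : x * a ^ 2 * x⁻¹ = a ^ 2 := by
        rw [← conj_pow, har, ← pow_mul]
        have h2 : (1 + 2 ^ e) * 2 = 2 + 2 ^ (e + 1) := by ring
        rw [h2, pow_add, hapow, mul_one]
      calc a ^ 2 * x = x * a ^ 2 * x⁻¹ * x := by rw [h1]
        _ = x * a ^ 2 := by group
    rcases hZ2 _ ha2Z with h1 | h1
    · exfalso
      have h2 := orderOf_dvd_of_pow_eq_one h1
      rw [hao] at h2
      have h3 := Nat.le_of_dvd (by norm_num) h2
      have h4 : 2 ^ 2 ≤ 2 ^ (e + 1) := Nat.pow_le_pow_right (by norm_num) (by omega)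
      omega
    · have h2 : 2 ≡ 2 ^ e [MOD 2 ^ (e + 1)] := by
        rw [← hao]; exact pow_eq_pow_iff_modEq.1 (by rw [h1, hz])
      have he1 : e = 1 := by
        by_contra hne
        have h3 : 2 % 2 ^ (e + 1) = 2 ^ e % 2 ^ (e + 1) := h2
        have h4 : 2 ^ 2 ≤ 2 ^ e := Nat.pow_le_pow_right (by norm_num) (by omega)
        have h5 : 2 ^ e < 2 ^ (e + 1) := Nat.pow_lt_pow_right (by norm_num) (by omega)
        rw [Nat.mod_eq_of_lt (by omega), Nat.mod_eq_of_lt h5] at h3
        omega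
      subst he1
      apply hinv_case
      rw [har]
      apply eq_inv_of_mul_eq_one_left
      rw [← pow_succ]
      exact hapow
  · have har : x * a * x⁻¹ = a ^ (2 ^ e - 1) := by
      rw [hr]; exact pow_eq_pow_iff_modEq.2 (by rw [hao]; exact h)
    rcases Nat.lt_or_ge e 2 with he2 | he2
    · have he1 : e = 1 := by omega
      subst he1
      exfalso
      apply hab_case
      rw [har]
      norm_num
    · right; left
      obtain ⟨k, rfl⟩ : ∃ k, e = k + 2 := ⟨e - 2, by omega⟩
      have hS' : Nat.card S = 2 ^ (k + 4) := hS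
      have hao'' : orderOf a = 2 ^ (k + 3) := hao
      rcases hx2 with h1 | h1
      · exact ⟨k, hS', a, x, hao'', orderOf_eq_prime h1 hx1, har⟩
      · have hb2 : (x * a) ^ 2 = 1 := by
          have hc := Subgroup.mem_center_iff.1 hzZ (a ^ (2 ^ (k + 2) - 1))
          calc (x * a) ^ 2 = (x * a * x⁻¹) * x ^ 2 * a := by rw [pow_two, pow_two]; group
            _ = a ^ (2 ^ (k + 2) - 1) * z * a := by rw [har, h1]
            _ = z * (a ^ (2 ^ (k + 2) - 1) * a) := by rw [hc]; group
            _ = z * z := by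
              rw [← pow_succ, Nat.sub_add_cancel (Nat.one_le_two_pow), ← hz]
            _ = 1 := hz2
        have hb1 : x * a ≠ 1 := by
          intro h2
          apply hx
          have h3 : x = a⁻¹ := eq_inv_of_mul_eq_one_left h2
          rw [h3]
          exact Subgroup.inv_mem _ (Subgroup.mem_zpowers a)
        refine ⟨k, hS', a, x * a, hao'', orderOf_eq_prime hb2 hb1, ?_⟩
        rw [← har]
        group

/-- Taussky's theorem: a finite 2-group whose abelianization is a four-group (elementary abelian of order 4) either has order 4 or is dihedral, semidihedral, or generalized quaternion. -/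
theorem result {S : Type*} [Group S] [Finite S] (h2 : IsPGroup 2 S) (hab : Nat.card (Abelianization S) = 4)
    (hexp : ∀ x : Abelianization S, x ^ 2 = 1) :
    Nat.card S = 4 ∨
    ((∃ k : ℕ, Nonempty (S ≃* DihedralGroup (2 ^ (k + 2)))) ∨
      (∃ k : ℕ, Nat.card S = 2 ^ (k + 4) ∧ ∃ a b : S, orderOf a = 2 ^ (k + 3) ∧ orderOf b = 2 ∧ b * a * b⁻¹ = a ^ (2 ^ (k + 2) - 1)) ∨
      (∃ k : ℕ, Nonempty (S ≃* QuaternionGroup (2 ^ (k + 1))))) := by
  have hf2 : Fact (Nat.Prime 2) := ⟨Nat.prime_two⟩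
  obtain ⟨n, hn⟩ := h2.exists_card_eq
  have hidx : (commutator S).index = 4 := by rw [Subgroup.index_eq_card]; exact hab
  have h4 : 4 ∣ 2 ^ n := by rw [← hn, ← hidx]; exact Subgroup.index_dvd_card _
  rcases Nat.lt_or_ge n 3 with hlt | hge
  · left
    interval_cases n
    · norm_num at h4
    · norm_num at h4
    · rw [hn]; norm_num
  · right
    obtain ⟨⟨C, hCc, hCi⟩, hZ, -, -⟩ := Cfsg.Agent.Lib.Lead.MaxClass2.taussky n hge S hn hidx
    obtain ⟨a, hCa, hao⟩ :=
      Cfsg.Agent.Lib.Lead.CyclicMax.exists_generator Nat.prime_two n hn C hCc hCi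
    obtain ⟨e, rfl⟩ : ∃ e, n = e + 2 := ⟨n - 2, by omega⟩
    have hao' : orderOf a = 2 ^ (e + 1) := by
      have h1 : orderOf a * 2 = 2 ^ (e + 1) * 2 := by rw [hao, ← pow_succ]
      exact Nat.eq_of_mul_eq_mul_right (by norm_num) h1
    have hne : Subgroup.zpowers a ≠ ⊤ := by
      intro h
      rw [← hCa] at h
      rw [h, Subgroup.index_top] at hCi
      omega
    obtain ⟨x, hx⟩ : ∃ x, x ∉ Subgroup.zpowers a := by
      by_contra hall
      push Not at hall
      exact hne ((Subgroup.eq_top_iff' _).2 hall)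
    exact core e (by omega) S hn a x hao' hx hZ

end Cfsg.Agent.S4399
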