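import Cfsg.Statements.S4398
import Mathlib
import Cfsg.Agent.S4399

set_option autoImplicit false
open Cfsg

namespace Cfsg.Agent.S4398

universe u

structure MC {S : Type*} [Group S] (M : Subgroup S) (e : ℕ) (c x : S) (r : ℕ) : Prop where
  he : 1 ≤ e
  hc : c ∈ M
  hx : x ∈ M
  card : Nat.card M = 2 ^ (e + 2)
  ord : orderOf c = 2 ^ (e + 1)
  hxc : x ∉ Subgroup.zpowers c
  conj : x * c * x⁻¹ = c ^ r
  hr : r % 4 = 3

section facts

variable {S : Type*} [Group S] [Finite S] {M : Subgroup S} {e : ℕ} {c x : S} {r : ℕ}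

theorem MC.le (h : MC M e c x r) : Subgroup.zpowers c ≤ M := by
  rw [Subgroup.zpowers_le]; exact h.hc

theorem MC.pow_card (h : MC M e c x r) : c ^ (2 ^ (e + 1)) = 1 := by
  rw [← h.ord]; exact pow_orderOf_eq_one c

theorem MC.idx (h : MC M e c x r) : ((Subgroup.zpowers c).subgroupOf M).index = 2 := by
  have h1 := Subgroup.card_mul_index ((Subgroup.zpowers c).subgroupOf M)
  rw [Nat.card_congr (Subgroup.subgroupOfEquivOfLe h.le).toEquiv, Nat.card_zpowers, h.ord, h.card,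
    pow_succ] at h1
  exact Nat.eq_of_mul_eq_mul_left (by positivity) h1

theorem MC.mem_or (h : MC M e c x r) (m : S) (hm : m ∈ M) :
    m ∈ Subgroup.zpowers c ∨ x⁻¹ * m ∈ Subgroup.zpowers c := by
  have h1 := Cfsg.Agent.Lib.Lead.MaxClass2.mem_or ((Subgroup.zpowers c).subgroupOf M) h.idx
    ⟨x, h.hx⟩ (by rw [Subgroup.mem_subgroupOf]; exact h.hxc) ⟨m, hm⟩
  rcases h1 with h2 | h2
  · left; exact Subgroup.mem_subgroupOf.1 h2
  · right
    have h3 := Subgroup.mem_subgroupOf.1 h2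
    simpa using h3

theorem MC.mul_mem (h : MC M e c x r) (m m' : S) (hm : m ∈ M) (hm' : m' ∈ M)
    (hmA : m ∉ Subgroup.zpowers c) (hm'A : m' ∉ Subgroup.zpowers c) :
    m * m' ∈ Subgroup.zpowers c := by
  have h1 := (Subgroup.mul_mem_iff_of_index_two h.idx (a := (⟨m, hm⟩ : ↥M))
    (b := (⟨m', hm'⟩ : ↥M))).2
    ⟨fun h2 => absurd (Subgroup.mem_subgroupOf.1 h2) hmA,
      fun h2 => absurd (Subgroup.mem_subgroupOf.1 h2) hm'A⟩
  exact Subgroup.mem_subgroupOf.1 h1

theorem MC.sq_mem (h : MC M e c x r) (m : S) (hm : m ∈ M) : m ^ 2 ∈ Subgroup.zpowers c := by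
  have h1 := Subgroup.sq_mem_of_index_two h.idx (⟨m, hm⟩ : ↥M)
  exact Subgroup.mem_subgroupOf.1 h1

theorem MC.conj_pow (h : MC M e c x r) (i : ℕ) : x * c ^ i * x⁻¹ = c ^ (r * i) := by
  rw [← _root_.conj_pow, h.conj, pow_mul]

theorem MC.r_odd (h : MC M e c x r) : r % 2 = 1 := by
  have := h.hr
  omega

theorem MC.fix (h : MC M e c x r) (j : ℕ) (hj : c ^ (r * j) = c ^ j) : 2 ^ e ∣ j := by
  have h1 : r * j ≡ j [MOD 2 ^ (e + 1)] := by
    rw [← h.ord]; exact pow_eq_pow_iff_modEq.1 hj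
  have hr1 : 1 ≤ r := by have := h.hr; omega
  have h2 : 2 ^ (e + 1) ∣ r * j - j :=
    (Nat.modEq_iff_dvd' (Nat.le_mul_of_pos_left j hr1)).1 h1.symm
  obtain ⟨q, hq⟩ : ∃ q, r = 4 * q + 3 := ⟨r / 4, by have := h.hr; omega⟩
  have h3 : r * j - j = 2 * ((2 * q + 1) * j) := by
    rw [hq]
    have h4 : (4 * q + 3) * j = 2 * ((2 * q + 1) * j) + j := by ring
    rw [h4, Nat.add_sub_cancel]
  rw [h3, pow_succ, mul_comm (2 ^ e) 2] at h2
  have h5 : 2 ^ e ∣ (2 * q + 1) * j := Nat.dvd_of_mul_dvd_mul_left (by norm_num) h2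
  have hcop : Nat.Coprime (2 ^ e) (2 * q + 1) := by
    apply Nat.Coprime.pow_left
    exact (Nat.Prime.coprime_iff_not_dvd Nat.prime_two).2 (by omega)
  exact hcop.dvd_of_dvd_mul_left h5

theorem MC.z_sq (h : MC M e c x r) : c ^ (2 ^ e) * c ^ (2 ^ e) = 1 := by
  rw [← pow_add, ← two_mul, ← pow_succ']; exact h.pow_card

theorem MC.z_ne (h : MC M e c x r) : c ^ (2 ^ e) ≠ 1 := by
  apply pow_ne_one_of_lt_orderOf (by positivity)
  rw [h.ord]
  exact Nat.pow_lt_pow_right (by norm_num) (by omega)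

theorem MC.pow_z (h : MC M e c x r) (j : ℕ) (hj : 2 ^ e ∣ j) :
    c ^ j = 1 ∨ c ^ j = c ^ (2 ^ e) := by
  obtain ⟨q, rfl⟩ := hj
  rw [pow_mul]
  rcases Nat.even_or_odd q with ⟨s, hs⟩ | ⟨s, hs⟩
  · left
    rw [hs, ← two_mul, pow_mul, pow_two, h.z_sq, one_pow]
  · right
    rw [hs, pow_succ, pow_mul, pow_two, h.z_sq, one_pow, one_mul]

theorem MC.conj_of_not_mem (h : MC M e c x r) (m : S) (hm : m ∈ M)
    (hmA : m ∉ Subgroup.zpowers c) : m * c * m⁻¹ = c ^ r := by
  rcases h.mem_or m hm with h1 | h1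
  · exact absurd h1 hmA
  · obtain ⟨i, hi⟩ := Subgroup.mem_zpowers_iff.1 h1
    have h2 : m = x * c ^ i := by rw [hi]; group
    rw [h2, ← h.conj]
    group

theorem MC.not_comm (h : MC M e c x r) (m : S) (hm : m ∈ M)
    (hmA : m ∉ Subgroup.zpowers c) : m * c ≠ c * m := by
  intro hcomm
  have h1 := h.conj_of_not_mem m hm hmA
  have h2 : m * c * m⁻¹ = c := by rw [hcomm]; group
  rw [h2] at h1
  have h3 : c ^ (r * 1) = c ^ 1 := by rw [mul_one, pow_one]; exact h1.symm
  have h4 := h.fix 1 h3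
  have h5 : 2 ^ 1 ≤ 2 ^ e := Nat.pow_le_pow_right (by norm_num) h.he
  have h6 := Nat.le_of_dvd (by norm_num) h4
  omega

theorem MC.sq_of_not_mem (h : MC M e c x r) (m : S) (hm : m ∈ M)
    (hmA : m ∉ Subgroup.zpowers c) : m ^ 2 = 1 ∨ m ^ 2 = c ^ (2 ^ e) := by
  obtain ⟨j, hj⟩ := Cfsg.Agent.Lib.Lead.CyclicMax.exists_nat_pow (h.sq_mem m hm)
  rw [hj]
  apply h.pow_z
  apply h.fix
  have h1 : m * c ^ j * m⁻¹ = c ^ j := by rw [← hj]; rw [pow_two]; group
  rw [← _root_.conj_pow, h.conj_of_not_mem m hm hmA, ← pow_mul] at h1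
  exact h1

theorem MC.two_dvd (h : MC M e c x r) (j : ℕ) (hj : 2 ^ e ∣ j) : 2 ∣ j :=
  (dvd_pow_self 2 (by have := h.he; omega)).trans hj

theorem MC.sq_mem_sq (h : MC M e c x r) (m : S) (hm : m ∈ M) :
    m ^ 2 ∈ Subgroup.zpowers (c ^ 2) := by
  by_cases hmA : m ∈ Subgroup.zpowers c
  · obtain ⟨i, hi⟩ := Subgroup.mem_zpowers_iff.1 hmA
    have h1 : m ^ 2 = (c ^ 2) ^ i := by
      rw [← hi, ← zpow_natCast (c ^ i) 2, ← zpow_mul, mul_comm, zpow_mul, zpow_natCast]
    rw [h1]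
    exact Subgroup.zpow_mem _ (Subgroup.mem_zpowers _) i
  · rcases h.sq_of_not_mem m hm hmA with h1 | h1
    · rw [h1]; exact Subgroup.one_mem _
    · rw [h1]
      obtain ⟨q, hq⟩ := h.two_dvd (2 ^ e) dvd_rfl
      rw [hq, pow_mul]
      exact Subgroup.pow_mem _ (Subgroup.mem_zpowers _) q

theorem MC.norm (h : MC M e c x r) (m : S) (hm : m ∈ M) :
    m * c * m⁻¹ ∈ Subgroup.zpowers c := by
  by_cases hmA : m ∈ Subgroup.zpowers c
  · obtain ⟨i, rfl⟩ := Subgroup.mem_zpowers_iff.1 hmA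
    have h1 : c ^ i * c * (c ^ i)⁻¹ = c := by group
    rw [h1]; exact Subgroup.mem_zpowers c
  · rw [h.conj_of_not_mem m hm hmA]; exact Subgroup.pow_mem _ (Subgroup.mem_zpowers c) r

theorem MC.card_sq (h : MC M e c x r) : Nat.card (Subgroup.zpowers (c ^ 2)) = 2 ^ e := by
  rw [Nat.card_zpowers, orderOf_pow_of_dvd (by norm_num)
    (by rw [h.ord]; exact dvd_pow_self 2 (by omega)), h.ord, pow_succ,
    Nat.mul_div_cancel _ (by norm_num)]

theorem rank_contra (hr : Cfsg.SectionalPRankLE 2 2 S)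
    (K N : Subgroup S) (hNK : N ≤ K) (hnorm : ∀ k ∈ K, ∀ n ∈ N, k * n * k⁻¹ ∈ N)
    (hsq : ∀ k ∈ K, k ^ 2 ∈ N) (hcard : Nat.card K = 8 * Nat.card N) : False := by
  haveI hN' : (N.subgroupOf K).Normal := ⟨fun n hn k => by
    rw [Subgroup.mem_subgroupOf] at hn ⊢
    exact hnorm k k.2 n hn⟩
  have hsq' : ∀ q : ↥K ⧸ N.subgroupOf K, q ^ 2 = 1 := by
    intro q
    induction q using QuotientGroup.induction_on with
    | H k =>
      rw [← QuotientGroup.mk_pow, QuotientGroup.eq_one_iff, Subgroup.mem_subgroupOf]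
      exact hsq k k.2
  have hcomm : ∀ a b : ↥K ⧸ N.subgroupOf K, a * b = b * a := by
    intro a b
    have h1 := hsq' a
    have h2 := hsq' b
    have h3 := hsq' (a * b)
    rw [pow_two] at h1 h2 h3
    calc a * b = a * (a * b * (a * b)) * b := by rw [h3, mul_one]
      _ = (a * a) * b * a * (b * b) := by group
      _ = b * a := by rw [h1, h2, one_mul, mul_one]
  have hA := hr K (N.subgroupOf K) ⊤ ⟨⟨fun a b => Subtype.ext (hcomm a b)⟩⟩
    (fun a _ => hsq' a)
  have hidx : (N.subgroupOf K).index = 8 := by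
    have h1 := Subgroup.card_mul_index (N.subgroupOf K)
    rw [Nat.card_congr (Subgroup.subgroupOfEquivOfLe hNK).toEquiv, hcard] at h1
    have hpos : 0 < Nat.card N := Nat.card_pos
    have h2 : Nat.card N * (N.subgroupOf K).index = Nat.card N * 8 := by rw [h1]; ring
    exact Nat.eq_of_mul_eq_mul_left hpos h2
  rw [Subgroup.card_top, ← Subgroup.index_eq_card, hidx] at hA
  norm_num at hA

theorem idx_two (M K : Subgroup S) (hMK : M ≤ K) (hc : Nat.card K = 2 * Nat.card M) :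
    (M.subgroupOf K).index = 2 := by
  have h1 := Subgroup.card_mul_index (M.subgroupOf K)
  rw [Nat.card_congr (Subgroup.subgroupOfEquivOfLe hMK).toEquiv, hc] at h1
  have hpos : 0 < Nat.card M := Nat.card_pos
  have h2 : Nat.card M * (M.subgroupOf K).index = Nat.card M * 2 := by rw [h1]; ring
  exact Nat.eq_of_mul_eq_mul_left hpos h2

theorem norm2 (M K : Subgroup S) (hi : (M.subgroupOf K).index = 2) (k : S) (hk : k ∈ K)
    (m : S) (hm : m ∈ M) (hmK : m ∈ K) : k * m * k⁻¹ ∈ M := by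
  have hn : (M.subgroupOf K).Normal := Subgroup.normal_of_index_eq_two hi
  have h1 := hn.conj_mem ⟨m, hmK⟩ (Subgroup.mem_subgroupOf.2 hm) ⟨k, hk⟩
  exact Subgroup.mem_subgroupOf.1 h1

theorem mem_or2 (M K : Subgroup S) (hi : (M.subgroupOf K).index = 2) (g : S) (hg : g ∈ K)
    (hgM : g ∉ M) (k : S) (hk : k ∈ K) : k ∈ M ∨ g⁻¹ * k ∈ M := by
  have h1 := Cfsg.Agent.Lib.Lead.MaxClass2.mem_or (M.subgroupOf K) hi ⟨g, hg⟩
    (by rw [Subgroup.mem_subgroupOf]; exact hgM) ⟨k, hk⟩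
  rcases h1 with h2 | h2
  · left; exact Subgroup.mem_subgroupOf.1 h2
  · right
    have h3 := Subgroup.mem_subgroupOf.1 h2
    simpa using h3

theorem sq_mem2 (M K : Subgroup S) (hi : (M.subgroupOf K).index = 2) (k : S) (hk : k ∈ K) :
    k ^ 2 ∈ M := by
  have h1 := Subgroup.sq_mem_of_index_two hi (⟨k, hk⟩ : ↥K)
  exact Subgroup.mem_subgroupOf.1 h1

theorem exists_not_mem2 (M K : Subgroup S) (hi : (M.subgroupOf K).index = 2) :
    ∃ g ∈ K, g ∉ M := by
  by_contra hcon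
  push Not at hcon
  have h1 : M.subgroupOf K = ⊤ := by
    rw [Subgroup.eq_top_iff']
    intro k
    rw [Subgroup.mem_subgroupOf]
    exact hcon k k.2
  rw [h1, Subgroup.index_top] at hi
  omega

theorem conj_zpow_mem {c : S} (a : S) (ha : a * c * a⁻¹ ∈ Subgroup.zpowers c) (y : S)
    (hy : y ∈ Subgroup.zpowers c) : a * y * a⁻¹ ∈ Subgroup.zpowers c := by
  obtain ⟨i, rfl⟩ := Subgroup.mem_zpowers_iff.1 hy
  rw [← conj_zpow]
  exact Subgroup.zpow_mem _ ha i

theorem conj_mul_mem {c : S} (a b : S) (ha : a * c * a⁻¹ ∈ Subgroup.zpowers c)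
    (hb : b * c * b⁻¹ ∈ Subgroup.zpowers c) :
    (a * b) * c * (a * b)⁻¹ ∈ Subgroup.zpowers c := by
  have h1 := conj_zpow_mem a ha _ hb
  have h2 : a * b * c * (a * b)⁻¹ = a * (b * c * b⁻¹) * a⁻¹ := by group
  rw [h2]; exact h1

theorem conj_sq_mem {c : S} (k : S) (hk : k * c * k⁻¹ ∈ Subgroup.zpowers c) (n : S)
    (hn : n ∈ Subgroup.zpowers (c ^ 2)) : k * n * k⁻¹ ∈ Subgroup.zpowers (c ^ 2) := by
  obtain ⟨i, rfl⟩ := Subgroup.mem_zpowers_iff.1 hn
  obtain ⟨s, hs⟩ := Cfsg.Agent.Lib.Lead.CyclicMax.exists_nat_pow hk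
  rw [← conj_zpow, ← _root_.conj_pow, hs, ← pow_mul, mul_comm, pow_mul]
  exact Subgroup.zpow_mem _ (Subgroup.pow_mem _ (Subgroup.mem_zpowers _) s) i

theorem MC.rank_false (hr : Cfsg.SectionalPRankLE 2 2 S) (h : MC M e c x r) (K : Subgroup S)
    (hMK : M ≤ K) (hcard : Nat.card K = 2 * Nat.card M)
    (hn : ∀ k ∈ K, k * c * k⁻¹ ∈ Subgroup.zpowers c)
    (hsq : ∀ k ∈ K, k ^ 2 ∈ Subgroup.zpowers (c ^ 2)) : False := by
  apply rank_contra hr K (Subgroup.zpowers (c ^ 2))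
    (Subgroup.zpowers_le.2 (K.pow_mem (hMK h.hc) 2))
    (fun k hk n hn' => conj_sq_mem k (hn k hk) n hn') hsq
  rw [hcard, h.card, h.card_sq]
  ring

theorem q8_rel (c y : S) (h4 : c ^ 4 = 1) (hy2 : y ^ 2 = c ^ 2) (hconj : y * c * y⁻¹ = c ^ 3) :
    (y * c) ^ 2 = c ^ 2 ∧ c * (y * c) * c⁻¹ = (y * c) ^ 3 ∧ c⁻¹ * y = y * c := by
  have hc3 : c ^ 3 = c⁻¹ := by
    apply eq_inv_of_mul_eq_one_left
    rw [← pow_succ]; exact h4
  rw [hc3] at hconj
  have h1 : y * c = c⁻¹ * y := by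
    calc y * c = (y * c * y⁻¹) * y := by group
      _ = c⁻¹ * y := by rw [hconj]
  have h2 : (y * c) ^ 2 = c ^ 2 := by
    calc (y * c) ^ 2 = y * c * (y * c) := pow_two _
      _ = c⁻¹ * y * (y * c) := by rw [h1]
      _ = c⁻¹ * (y ^ 2) * c := by rw [pow_two]; group
      _ = c ^ 2 := by rw [hy2, pow_two]; group
  refine ⟨h2, ?_, h1.symm⟩
  calc c * (y * c) * c⁻¹ = c * y := by group
    _ = c * c * (c⁻¹ * y) := by group
    _ = (y * c) ^ 2 * (y * c) := by rw [h2, h1, pow_two]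
    _ = (y * c) ^ 3 := by rw [← pow_succ]

theorem norm_step (h : MC M e c x r) (K : Subgroup S) (hMK : M ≤ K)
    (hi : (M.subgroupOf K).index = 2) :
    ∃ c' x' r', MC M e c' x' r' ∧ ∀ k ∈ K, k * c' * k⁻¹ ∈ Subgroup.zpowers c' := by
  by_cases hA : ∀ m ∈ M, orderOf m = 2 ^ (e + 1) → m ∈ Subgroup.zpowers c
  · refine ⟨c, x, r, h, fun k hk => ?_⟩
    apply hA
    · exact norm2 M K hi k hk c h.hc (hMK h.hc)
    · have h1 : orderOf (k * c * k⁻¹) = orderOf c := (MulAut.conj k).orderOf_eq c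
      rw [h1, h.ord]
  · push Not at hA
    obtain ⟨m, hm, hmo, hmA⟩ := hA
    have hm4 : m ^ 4 = 1 := by
      have h0 : m ^ 4 = (m ^ 2) ^ 2 := by rw [← pow_mul]
      rcases h.sq_of_not_mem m hm hmA with h1 | h1
      · rw [h0, h1, one_pow]
      · rw [h0, h1, pow_two, h.z_sq]
    have he1 : e = 1 := by
      have h1 : 2 ^ (e + 1) ∣ 4 := by rw [← hmo]; exact orderOf_dvd_of_pow_eq_one hm4
      have h2 : 2 ^ (e + 1) ≤ 2 ^ 2 := Nat.le_of_dvd (by norm_num) h1
      have h3 : e + 1 ≤ 2 := (Nat.pow_le_pow_iff_right (by norm_num)).1 h2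
      have := h.he
      omega
    subst he1
    have hc4 : c ^ 4 = 1 := h.pow_card
    have hcr : c ^ r = c ^ 3 := by
      obtain ⟨q, hq⟩ : ∃ q, r = 4 * q + 3 := ⟨r / 4, by have := h.hr; omega⟩
      rw [hq, pow_add, pow_mul, hc4, one_pow, one_mul]
    have hsq4 : ∀ y ∈ M, y ∉ Subgroup.zpowers c → orderOf y = 4 → y ^ 2 = c ^ 2 := by
      intro y hy hyA hyo
      rcases h.sq_of_not_mem y hy hyA with h1 | h1
      · exfalso
        have h2 := orderOf_dvd_of_pow_eq_one h1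
        rw [hyo] at h2
        norm_num at h2
      · exact h1
    obtain ⟨g, hgK, hgM⟩ := exists_not_mem2 M K hi
    have hy : g * c * g⁻¹ ∈ M := norm2 M K hi g hgK c h.hc (hMK h.hc)
    have hyo : orderOf (g * c * g⁻¹) = 4 := by
      have h1 : orderOf (g * c * g⁻¹) = orderOf c := (MulAut.conj g).orderOf_eq c
      rw [h1, h.ord]; norm_num
    by_cases hyA : g * c * g⁻¹ ∈ Subgroup.zpowers c
    · refine ⟨c, x, r, h, fun k hk => ?_⟩
      rcases mem_or2 M K hi g hgK hgM k hk with h1 | h1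
      · exact h.norm k h1
      · have h2 := conj_mul_mem g (g⁻¹ * k) hyA (h.norm _ h1)
        rw [mul_inv_cancel_left] at h2
        exact h2
    · obtain ⟨y, hydef⟩ : ∃ y, y = g * c * g⁻¹ := ⟨_, rfl⟩
      rw [← hydef] at hy hyo hyA
      have hy2 := hsq4 y hy hyA hyo
      have hyc : y * c * y⁻¹ = c ^ 3 := by rw [h.conj_of_not_mem y hy hyA, hcr]
      obtain ⟨hq1, hq2, hq3⟩ := q8_rel c y hc4 hy2 hyc
      have hord : orderOf (y * c) = 2 ^ (1 + 1) := by
        apply orderOf_eq_prime_pow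
        · rw [pow_one, hq1]
          exact h.z_ne
        · have h0 : (y * c) ^ 2 ^ (1 + 1) = ((y * c) ^ 2) ^ 2 := by rw [← pow_mul]; norm_num
          rw [h0, hq1, ← pow_mul]
          exact hc4
      have hcc' : c ∉ Subgroup.zpowers (y * c) := by
        intro hmem
        obtain ⟨i, hi'⟩ := Subgroup.mem_zpowers_iff.1 hmem
        have h1 : c * (y * c) = (y * c) * c := by
          have h0 : (y * c) ^ i * (y * c) = (y * c) * (y * c) ^ i :=
            ((Commute.refl (y * c)).zpow_left i).eq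
          rw [hi'] at h0
          exact h0
        apply h.not_comm y hy hyA
        have h2 : c * y = y * c := by
          calc c * y = c * (y * c) * c⁻¹ := by group
            _ = y * c := by rw [h1]; group
        exact h2.symm
      have h' : MC M 1 (y * c) c 3 :=
        ⟨le_refl 1, M.mul_mem hy h.hc, h.hc, h.card, hord, hcc', hq2, by norm_num⟩
      have hgc' : g * (y * c) * g⁻¹ ∈ Subgroup.zpowers (y * c) := by
        have h1 : g * (y * c) * g⁻¹ = (g ^ 2 * c * (g ^ 2)⁻¹) * y := by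
          rw [hydef, pow_two]; group
        have hg2 : g ^ 2 ∈ M := sq_mem2 M K hi g hgK
        by_cases hg2A : g ^ 2 ∈ Subgroup.zpowers c
        · obtain ⟨i, hi'⟩ := Subgroup.mem_zpowers_iff.1 hg2A
          have h2 : g ^ 2 * c * (g ^ 2)⁻¹ = c := by rw [← hi']; group
          rw [h1, h2]
          have h3 : c * y = (y * c) ^ 3 := by
            rw [← hq2]; group
          rw [h3]
          exact Subgroup.pow_mem _ (Subgroup.mem_zpowers _) 3
        · have h2 : g ^ 2 * c * (g ^ 2)⁻¹ = c⁻¹ := by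
            rw [h.conj_of_not_mem _ hg2 hg2A, hcr]
            apply eq_inv_of_mul_eq_one_left
            rw [← pow_succ]; exact hc4
          rw [h1, h2, hq3]
          exact Subgroup.mem_zpowers _
      refine ⟨y * c, c, 3, h', fun k hk => ?_⟩
      rcases mem_or2 M K hi g hgK hgM k hk with h1 | h1
      · exact h'.norm k h1
      · have h2 := conj_mul_mem g (g⁻¹ * k) hgc' (h'.norm _ h1)
        rw [mul_inv_cancel_left] at h2
        exact h2

theorem exists_comm (hr : Cfsg.SectionalPRankLE 2 2 S) (h : MC M e c x r) (K : Subgroup S)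
    (hMK : M ≤ K) (hcard : Nat.card K = 2 * Nat.card M) (hi : (M.subgroupOf K).index = 2)
    (hn : ∀ k ∈ K, k * c * k⁻¹ ∈ Subgroup.zpowers c) : ∃ t ∈ K, t ∉ M ∧ t * c = c * t := by
  by_contra hcon
  push Not at hcon
  have hsqc : ∀ k ∈ K, k ∉ M → k ^ 2 ∈ Subgroup.zpowers c := by
    intro k hk hkM
    by_contra hk2
    obtain ⟨s, hs⟩ := Cfsg.Agent.Lib.Lead.CyclicMax.exists_nat_pow (hn k hk)
    have h1 := h.conj_of_not_mem (k ^ 2) (sq_mem2 M K hi k hk) hk2
    have h2 : k ^ 2 * c * (k ^ 2)⁻¹ = c ^ (s * s) := by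
      have h0 : k ^ 2 * c * (k ^ 2)⁻¹ = k * (k * c * k⁻¹) * k⁻¹ := by rw [pow_two]; group
      rw [h0, hs, ← _root_.conj_pow, hs, ← pow_mul]
    rw [h2] at h1
    have h3 : s * s ≡ r [MOD 2 ^ (e + 1)] := by
      rw [← h.ord]; exact pow_eq_pow_iff_modEq.1 h1
    have h4 : s * s ≡ r [MOD 4] := h3.of_dvd (by
      obtain ⟨f, rfl⟩ : ∃ f, e = f + 1 := ⟨e - 1, by have := h.he; omega⟩
      exact ⟨2 ^ f, by ring⟩)
    have h5 : s * s % 4 = 3 := by
      have h6 : s * s % 4 = r % 4 := h4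
      rw [h6, h.hr]
    have h6 : s % 4 < 4 := Nat.mod_lt _ (by norm_num)
    rw [Nat.mul_mod] at h5
    interval_cases (s % 4) <;> omega
  have hsq : ∀ k ∈ K, k ^ 2 ∈ Subgroup.zpowers (c ^ 2) := by
    intro k hk
    by_cases hkM : k ∈ M
    · exact h.sq_mem_sq k hkM
    · obtain ⟨j, hj⟩ := Cfsg.Agent.Lib.Lead.CyclicMax.exists_nat_pow (hsqc k hk hkM)
      rcases Nat.even_or_odd j with ⟨i, hi'⟩ | hodd
      · rw [hj, hi', ← two_mul, pow_mul]
        exact Subgroup.pow_mem _ (Subgroup.mem_zpowers _) i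
      · exfalso
        apply hcon k hk hkM
        have hcop : Nat.Coprime j (orderOf c) := by
          rw [h.ord, Nat.coprime_comm]
          apply Nat.Coprime.pow_left
          exact (Nat.Prime.coprime_iff_not_dvd Nat.prime_two).2
            (by rw [Nat.two_dvd_ne_zero]; exact Nat.odd_iff.1 hodd)
        obtain ⟨m, hm⟩ := exists_pow_eq_self_of_coprime hcop
        have h1 : c = (k ^ 2) ^ m := by rw [hj, hm]
        have h2 : c = k ^ (2 * m) := by rw [h1, pow_mul]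
        rw [h2, ← pow_succ', ← pow_succ]
  exact h.rank_false hr K hMK hcard hn hsq

theorem up_step (hr : Cfsg.SectionalPRankLE 2 2 S) (h : MC M e c x r) (K : Subgroup S)
    (hMK : M ≤ K) (hcard : Nat.card K = 2 * Nat.card M)
    (hn : ∀ k ∈ K, k * c * k⁻¹ ∈ Subgroup.zpowers c) :
    ∃ c' x' r', MC K (e + 1) c' x' r' := by
  have hi := idx_two M K hMK hcard
  obtain ⟨t, htK, htM, htc⟩ := exists_comm hr h K hMK hcard hi hn
  have ht2M : t ^ 2 ∈ M := sq_mem2 M K hi t htK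
  have ht2c : t ^ 2 ∈ Subgroup.zpowers c := by
    by_contra hcon
    apply h.not_comm (t ^ 2) ht2M hcon
    rw [pow_two, mul_assoc, htc, ← mul_assoc, htc, mul_assoc]
  obtain ⟨j, hj⟩ := Cfsg.Agent.Lib.Lead.CyclicMax.exists_nat_pow ht2c
  have htC : Commute t c := htc
  rcases Nat.even_or_odd j with ⟨i, hi'⟩ | hodd
  · exfalso
    obtain ⟨t₁, ht₁⟩ : ∃ t₁, t₁ = t * (c ^ i)⁻¹ := ⟨_, rfl⟩
    have hciK : c ^ i ∈ K := K.pow_mem (hMK h.hc) i
    have ht1K : t₁ ∈ K := by rw [ht₁]; exact K.mul_mem htK (K.inv_mem hciK)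
    have ht1M : t₁ ∉ M := by
      intro hcon
      apply htM
      have h1 : t = t₁ * c ^ i := by rw [ht₁]; group
      rw [h1]; exact M.mul_mem hcon (M.pow_mem h.hc i)
    have ht1C : Commute t₁ c := by
      rw [ht₁]
      exact htC.mul_left ((Commute.refl c).pow_left i).inv_left
    have ht1sq : t₁ * t₁ = 1 := by
      have hcomm2 : (c ^ i)⁻¹ * t = t * (c ^ i)⁻¹ := ((htC.pow_right i).inv_right).eq.symm
      rw [ht₁]
      calc t * (c ^ i)⁻¹ * (t * (c ^ i)⁻¹) = t * ((c ^ i)⁻¹ * t) * (c ^ i)⁻¹ := by group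
        _ = t * (t * (c ^ i)⁻¹) * (c ^ i)⁻¹ := by rw [hcomm2]
        _ = t ^ 2 * (c ^ i * c ^ i)⁻¹ := by rw [pow_two]; group
        _ = 1 := by rw [hj, hi', ← pow_add, mul_inv_cancel]
    have hinv : t₁⁻¹ = t₁ := inv_eq_of_mul_eq_one_left ht1sq
    apply h.rank_false hr K hMK hcard hn
    intro k hk
    by_cases hkM : k ∈ M
    · exact h.sq_mem_sq k hkM
    · rcases mem_or2 M K hi t₁ ht1K ht1M k hk with h1 | h1
      · exact absurd h1 hkM
      · obtain ⟨m, hmdef⟩ : ∃ m, m = t₁⁻¹ * k := ⟨_, rfl⟩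
        rw [← hmdef] at h1
        have hk_eq : k = t₁ * m := by rw [hmdef]; group
        by_cases hmA : m ∈ Subgroup.zpowers c
        · obtain ⟨i', hi''⟩ := Subgroup.mem_zpowers_iff.1 hmA
          have hcm : m * t₁ = t₁ * m := by
            rw [← hi'']; exact (ht1C.zpow_right i').eq.symm
          have hk2 : k ^ 2 = m ^ 2 := by
            rw [hk_eq, pow_two, pow_two]
            calc t₁ * m * (t₁ * m) = t₁ * (m * t₁) * m := by group
              _ = t₁ * (t₁ * m) * m := by rw [hcm]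
              _ = (t₁ * t₁) * (m * m) := by group
              _ = m * m := by rw [ht1sq, one_mul]
          rw [hk2]
          exact h.sq_mem_sq m h1
        · have hm' : t₁ * m * t₁⁻¹ ∈ M := norm2 M K hi t₁ ht1K m h1 (hMK h1)
          have hm'c : t₁ * m * t₁⁻¹ ∉ Subgroup.zpowers c := by
            intro hcon
            apply hmA
            have h2 : t₁⁻¹ * (t₁ * m * t₁⁻¹) * t₁ = m := by group
            obtain ⟨i', hi''⟩ := Subgroup.mem_zpowers_iff.1 hcon
            have h3 : t₁⁻¹ * (c ^ i') * t₁ = c ^ i' := by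
              have h4 := (ht1C.zpow_right i').eq
              rw [mul_assoc, ← h4]; group
            rw [← h2, ← hi'', h3]
            exact Subgroup.zpow_mem _ (Subgroup.mem_zpowers c) i'
          obtain ⟨l, hl⟩ := Cfsg.Agent.Lib.Lead.CyclicMax.exists_nat_pow
            (h.mul_mem _ m hm' h1 hm'c hmA)
          have hl1 : t₁ * m * t₁ * m = c ^ l := by rw [← hl, hinv]
          have hk2 : k ^ 2 = c ^ l := by
            rw [← hl1, hk_eq, pow_two]; group
          have hl2 : m * t₁ * m * t₁ = c ^ l := by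
            have h3 : t₁ * c ^ l * t₁ = c ^ l := by
              have h4 := (ht1C.pow_right l).eq
              rw [h4, mul_assoc, ht1sq, mul_one]
            calc m * t₁ * m * t₁ = (t₁ * t₁) * m * t₁ * m * t₁ := by rw [ht1sq, one_mul]
              _ = t₁ * (t₁ * m * t₁ * m) * t₁ := by group
              _ = c ^ l := by rw [hl1, h3]
          have hl3 : m * c ^ l * m⁻¹ = c ^ l := by
            calc m * c ^ l * m⁻¹ = m * (t₁ * m * t₁ * m) * m⁻¹ := by rw [hl1]
              _ = m * t₁ * m * t₁ := by group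
              _ = c ^ l := hl2
          rw [← _root_.conj_pow, h.conj_of_not_mem m h1 hmA, ← pow_mul] at hl3
          obtain ⟨q, hq⟩ := h.two_dvd l (h.fix l hl3)
          rw [hk2, hq, pow_mul]
          exact Subgroup.pow_mem _ (Subgroup.mem_zpowers _) q
  · have hz : t ^ 2 ^ (e + 1) = c ^ 2 ^ e := by
      obtain ⟨i, hi'⟩ := hodd
      have h1 : j * 2 ^ e = 2 ^ (e + 1) * i + 2 ^ e := by rw [hi']; ring
      rw [pow_succ' 2 e, pow_mul, hj, ← pow_mul, h1, pow_add, pow_mul, h.pow_card, one_pow,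
        one_mul]
    have hord : orderOf t = 2 ^ (e + 1 + 1) := by
      apply orderOf_eq_prime_pow
      · rw [hz]; exact h.z_ne
      · rw [pow_succ 2 (e + 1), pow_mul, hz, pow_two, h.z_sq]
    have hxt : x ∉ Subgroup.zpowers t := by
      intro hmem
      obtain ⟨i, hi''⟩ := Subgroup.mem_zpowers_iff.1 hmem
      exact h.not_comm x h.hx h.hxc (by rw [← hi'']; exact (htC.zpow_left i).eq)
    have hKc : Nat.card K = 2 ^ (e + 1 + 2) := by rw [hcard, h.card]; ring
    have hit : ((Subgroup.zpowers t).subgroupOf K).index = 2 :=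
      idx_two _ K (Subgroup.zpowers_le.2 htK) (by rw [Nat.card_zpowers, hord, hKc]; ring)
    obtain ⟨r', hr'⟩ := Cfsg.Agent.Lib.Lead.CyclicMax.exists_nat_pow
      (norm2 _ K hit x (hMK h.hx) t (Subgroup.mem_zpowers t) htK)
    have hmod : r' % 4 = 3 := by
      have h1 : x * t ^ 2 * x⁻¹ = t ^ (r' * 2) := by
        rw [← _root_.conj_pow, hr', ← pow_mul]
      have h2 : x * t ^ 2 * x⁻¹ = t ^ (2 * r) := by
        rw [hj, h.conj_pow, mul_comm r j, pow_mul, ← hj, ← pow_mul]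
      rw [h1] at h2
      have h3 : r' * 2 ≡ 2 * r [MOD 2 ^ (e + 1 + 1)] := by
        rw [← hord]; exact pow_eq_pow_iff_modEq.1 h2
      have h4 : r' * 2 ≡ 2 * r [MOD 8] := h3.of_dvd (by
        obtain ⟨f, rfl⟩ : ∃ f, e = f + 1 := ⟨e - 1, by have := h.he; omega⟩
        exact ⟨2 ^ f, by ring⟩)
      have h5 : r' * 2 % 8 = 2 * r % 8 := h4
      have := h.hr
      omega
    exact ⟨t, x, r', by omega, htK, hMK h.hx, hKc, hord, hxt, hr', hmod⟩

theorem step (hr : Cfsg.SectionalPRankLE 2 2 S) (h : MC M e c x r) (K : Subgroup S)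
    (hMK : M ≤ K) (hcard : Nat.card K = 2 * Nat.card M) :
    ∃ c' x' r', MC K (e + 1) c' x' r' := by
  have hi := idx_two M K hMK hcard
  obtain ⟨c', x', r', h', hn⟩ := norm_step h K hMK hi
  exact up_step hr h' K hMK hcard hn

theorem base_dihedral (H : Subgroup S) (f : ↥H ≃* DihedralGroup 4) :
    ∃ c x r, MC H 1 c x r := by
  refine ⟨(f.symm (DihedralGroup.r 1) : S), (f.symm (DihedralGroup.sr 0) : S), 3, le_refl 1,
    (f.symm _).2, (f.symm _).2, ?_, ?_, ?_, ?_, by norm_num⟩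
  · rw [Nat.card_congr f.toEquiv, DihedralGroup.nat_card]; norm_num
  · rw [Subgroup.orderOf_coe, MulEquiv.orderOf_eq, DihedralGroup.orderOf_r_one]; norm_num
  · intro hmem
    obtain ⟨i, hi⟩ := Subgroup.mem_zpowers_iff.1 hmem
    have hcomm : (f.symm (DihedralGroup.sr 0) : S) * (f.symm (DihedralGroup.r 1) : S) =
        (f.symm (DihedralGroup.r 1) : S) * (f.symm (DihedralGroup.sr 0) : S) := by
      rw [← hi]; exact ((Commute.refl _).zpow_left i).eq
    have h1 : f.symm (DihedralGroup.sr 0) * f.symm (DihedralGroup.r 1) =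
        f.symm (DihedralGroup.r 1) * f.symm (DihedralGroup.sr 0) :=
      Subtype.ext (by rw [Subgroup.coe_mul, Subgroup.coe_mul]; exact hcomm)
    rw [← map_mul, ← map_mul] at h1
    have h2 := f.symm.injective h1
    revert h2
    decide
  · have h1 : (DihedralGroup.sr 0 : DihedralGroup 4) * DihedralGroup.r 1 *
        (DihedralGroup.sr 0)⁻¹ = (DihedralGroup.r 1) ^ 3 := by decide
    have h2 := congrArg f.symm h1
    rw [map_mul, map_mul, map_inv, map_pow] at h2
    exact congrArg Subtype.val h2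

theorem base_quaternion (H : Subgroup S) (f : ↥H ≃* QuaternionGroup 2) :
    ∃ c x r, MC H 1 c x r := by
  refine ⟨(f.symm (QuaternionGroup.a 1) : S), (f.symm (QuaternionGroup.xa 0) : S), 3, le_refl 1,
    (f.symm _).2, (f.symm _).2, ?_, ?_, ?_, ?_, by norm_num⟩
  · rw [Nat.card_congr f.toEquiv, Nat.card_eq_fintype_card, QuaternionGroup.card]; norm_num
  · rw [Subgroup.orderOf_coe, MulEquiv.orderOf_eq, QuaternionGroup.orderOf_a_one]; norm_num
  · intro hmem
    obtain ⟨i, hi⟩ := Subgroup.mem_zpowers_iff.1 hmem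
    have hcomm : (f.symm (QuaternionGroup.xa 0) : S) * (f.symm (QuaternionGroup.a 1) : S) =
        (f.symm (QuaternionGroup.a 1) : S) * (f.symm (QuaternionGroup.xa 0) : S) := by
      rw [← hi]; exact ((Commute.refl _).zpow_left i).eq
    have h1 : f.symm (QuaternionGroup.xa 0) * f.symm (QuaternionGroup.a 1) =
        f.symm (QuaternionGroup.a 1) * f.symm (QuaternionGroup.xa 0) :=
      Subtype.ext (by rw [Subgroup.coe_mul, Subgroup.coe_mul]; exact hcomm)
    rw [← map_mul, ← map_mul] at h1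
    have h2 := f.symm.injective h1
    revert h2
    decide
  · have h1 : (QuaternionGroup.xa 0 : QuaternionGroup 2) * QuaternionGroup.a 1 *
        (QuaternionGroup.xa 0)⁻¹ = (QuaternionGroup.a 1) ^ 3 := by decide
    have h2 := congrArg f.symm h1
    rw [map_mul, map_mul, map_inv, map_pow] at h2
    exact congrArg Subtype.val h2

theorem chain (hr : Cfsg.SectionalPRankLE 2 2 S) (n : ℕ) (hS : Nat.card S = 2 ^ n) :
    ∀ (d e : ℕ) (M : Subgroup S) (c x : S) (r : ℕ), MC M e c x r → e + 2 + d = n →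
      ∃ e' c' x' r', MC (⊤ : Subgroup S) e' c' x' r' := by
  haveI : Fact (Nat.Prime 2) := ⟨Nat.prime_two⟩
  intro d
  induction d with
  | zero =>
    intro e M c x r h hn
    have hM : M = ⊤ := Subgroup.eq_top_of_card_eq M (by rw [h.card, hS, ← hn])
    subst hM
    exact ⟨e, c, x, r, h⟩
  | succ d ih =>
    intro e M c x r h hn
    obtain ⟨K, hK, hMK⟩ := Sylow.exists_subgroup_card_pow_succ (p := 2) (n := e + 2)
      (by rw [hS]; exact pow_dvd_pow 2 (by omega)) h.card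
    obtain ⟨c', x', r', h'⟩ := step hr h K hMK (by rw [hK, h.card, pow_succ]; ring)
    exact ih (e + 1) K c' x' r' h' (by omega)

end facts

/-- Let S be a finite 2-group of sectional 2-rank at most 2 that contains a subgroup isomorphic to the dihedral group of order 8 or to the quaternion group of order 8. Then S is dihedral of order at least 8, semidihedral of order at least 16 (order 2^(k+4) with an element a of order 2^(k+3) and an involution b with b a b⁻¹ = a^(2^(k+2)−1)), or generalized quaternion of order at least 8. -/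
theorem result {S : Type*} [Group S] [Finite S] (h2 : IsPGroup 2 S) (hr : Cfsg.SectionalPRankLE 2 2 S)
    (hsub : ∃ H : Subgroup S, Nonempty (↥H ≃* DihedralGroup 4) ∨ Nonempty (↥H ≃* QuaternionGroup 2)) :
    ((∃ k : ℕ, Nonempty (S ≃* DihedralGroup (2 ^ (k + 2)))) ∨
      (∃ k : ℕ, Nat.card S = 2 ^ (k + 4) ∧ ∃ a b : S, orderOf a = 2 ^ (k + 3) ∧ orderOf b = 2 ∧ b * a * b⁻¹ = a ^ (2 ^ (k + 2) - 1)) ∨
      (∃ k : ℕ, Nonempty (S ≃* QuaternionGroup (2 ^ (k + 1))))) := by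
  haveI : Fact (Nat.Prime 2) := ⟨Nat.prime_two⟩
  obtain ⟨n, hn⟩ := IsPGroup.iff_card.1 h2
  obtain ⟨H, hH⟩ := hsub
  obtain ⟨c0, x0, r0, h0⟩ : ∃ c x r, MC H 1 c x r := by
    rcases hH with ⟨⟨f⟩⟩ | ⟨⟨f⟩⟩
    · exact base_dihedral H f
    · exact base_quaternion H f
  have hle : 1 + 2 ≤ n := by
    have h1 := Subgroup.card_subgroup_dvd_card H
    rw [h0.card, hn] at h1
    exact (Nat.pow_dvd_pow_iff_le_right (by norm_num)).1 h1
  obtain ⟨e, c, x, r, h⟩ := chain hr n hn (n - 3) 1 H c0 x0 r0 h0 (by omega)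
  have hcard : Nat.card S = 2 ^ (e + 2) := by rw [← h.card, Subgroup.card_top]
  apply Cfsg.Agent.S4399.core e h.he S hcard c x h.ord h.hxc
  have hzc : c ^ 2 ^ e ∈ Subgroup.center S := by
    rw [Subgroup.mem_center_iff]
    intro g
    have hxz : x * c ^ 2 ^ e * x⁻¹ = c ^ 2 ^ e := by
      rw [h.conj_pow]
      rcases h.pow_z (r * 2 ^ e) (dvd_mul_left _ _) with h1 | h1
      · exfalso
        apply h.z_ne
        have h3 : x * c ^ 2 ^ e * x⁻¹ = 1 := by rw [h.conj_pow, h1]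
        have h4 : c ^ 2 ^ e = x⁻¹ * (x * c ^ 2 ^ e * x⁻¹) * x := by group
        rw [h4, h3]; group
      · exact h1
    have hxz' : x * c ^ 2 ^ e = c ^ 2 ^ e * x := by
      calc x * c ^ 2 ^ e = (x * c ^ 2 ^ e * x⁻¹) * x := by group
        _ = c ^ 2 ^ e * x := by rw [hxz]
    rcases h.mem_or g (Subgroup.mem_top g) with h1 | h1
    · obtain ⟨i, hi⟩ := Subgroup.mem_zpowers_iff.1 h1
      rw [← hi]
      exact (((Commute.refl c).pow_left (2 ^ e)).zpow_right i).eq.symm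
    · obtain ⟨i, hi⟩ := Subgroup.mem_zpowers_iff.1 h1
      have hg : g = x * c ^ i := by rw [hi]; group
      have hci : c ^ i * c ^ 2 ^ e = c ^ 2 ^ e * c ^ i :=
        (((Commute.refl c).pow_left (2 ^ e)).zpow_right i).eq.symm
      rw [hg, mul_assoc, hci, ← mul_assoc, hxz', mul_assoc]
  have hcen : Subgroup.center S = Subgroup.zpowers (c ^ 2 ^ e) := by
    apply le_antisymm
    · intro w hw
      have hwc := Subgroup.mem_center_iff.1 hw
      have hwA : w ∈ Subgroup.zpowers c := by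
        by_contra hcon
        exact h.not_comm w (Subgroup.mem_top w) hcon (hwc c).symm
      obtain ⟨j, hj⟩ := Cfsg.Agent.Lib.Lead.CyclicMax.exists_nat_pow hwA
      have h1 : c ^ (r * j) = c ^ j := by
        rw [← h.conj_pow, ← hj, hwc x]; group
      rcases h.pow_z j (h.fix j h1) with h3 | h3
      · rw [hj, h3]; exact Subgroup.one_mem _
      · rw [hj, h3]; exact Subgroup.mem_zpowers _
    · rw [Subgroup.zpowers_le]; exact hzc
  rw [hcen, Nat.card_zpowers]
  exact orderOf_eq_prime (by rw [pow_two]; exact h.z_sq) h.z_ne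

end Cfsg.Agent.S4398
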