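import Cfsg.Statements.S4400
import Mathlib
import Cfsg.Agent.S3190
import Cfsg.Agent.Lib.Helper20.ESpecial
import Cfsg.Agent.Lib.Lead.Cores
import Cfsg.Agent.Lib.Helper17.Syl2

set_option autoImplicit false
open Cfsg

namespace Cfsg.Agent.S4400

open Cfsg.Agent.Lib.Helper20.ESpecial

variable {S : Type*} [Group S] [Finite S]

def sq (P : Subgroup S) : Subgroup S := Subgroup.normalClosure {s | ∃ x ∈ P, s = x ^ 2}

omit [Finite S] in
theorem sq_normal (P : Subgroup S) : (sq P).Normal := Subgroup.normalClosure_normal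

omit [Finite S] in
theorem sq_le (P : Subgroup S) [P.Normal] : sq P ≤ P :=
  Subgroup.normalClosure_le_normal (by rintro _ ⟨x, hx, rfl⟩; exact P.pow_mem hx 2)

omit [Finite S] in
theorem sq_mem (P : Subgroup S) {x : S} (hx : x ∈ P) : x ^ 2 ∈ sq P :=
  Subgroup.subset_normalClosure ⟨x, hx, rfl⟩

theorem sq_le_frattini (h2 : IsPGroup 2 S) (P : Subgroup S) [P.Normal] :
    sq P ≤ (frattini ↥P).map P.subtype := by
  have : ((frattini ↥P).map P.subtype).Normal := ConjAct.normal_of_characteristic_of_normal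
  apply Subgroup.normalClosure_le_normal
  rintro _ ⟨x, hx, rfl⟩
  exact ⟨⟨x, hx⟩ ^ 2, pow_mem_frattini (h2.to_subgroup P) ⟨x, hx⟩, rfl⟩

theorem four_mul_card_sq_le (h2 : IsPGroup 2 S) (P : Subgroup S) [P.Normal]
    (hP : ¬ IsMulCommutative ↥P) : 4 * Nat.card (sq P) ≤ Nat.card P := by
  by_contra hlt
  push Not at hlt
  apply hP
  set F := frattini ↥P with hF
  have hle : Nat.card (sq P) ≤ Nat.card F := by
    have h1 := Subgroup.card_le_of_le (sq_le_frattini h2 P)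
    rwa [← Nat.card_congr (Subgroup.equivMapOfInjective _ _ P.subtype_injective).toEquiv] at h1
  have hFi := F.card_mul_index
  have hidx : F.index ≤ 3 := by
    by_contra h4
    push Not at h4
    nlinarith
  have hidx2 : F.index = 1 ∨ F.index = 2 := by
    obtain ⟨k, hk⟩ := (h2.to_subgroup P).index F
    rcases k with _ | _ | k
    · left; simpa using hk
    · right; simpa using hk
    · exfalso
      rw [hk] at hidx
      have : 4 ≤ 2 ^ (k + 1 + 1) := by
        have : 1 ≤ 2 ^ k := Nat.one_le_two_pow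
        rw [pow_succ, pow_succ]; omega
      omega
  have hcyc : IsCyclic (↥P ⧸ F) := by
    rcases hidx2 with h | h
    · haveI : Subsingleton (↥P ⧸ F) := by
        rw [← Finite.card_le_one_iff_subsingleton]
        exact h.le
      exact isCyclic_of_subsingleton
    · exact isCyclic_of_prime_card (p := 2) h
  obtain ⟨g, hg⟩ := hcyc.exists_generator
  obtain ⟨x, rfl⟩ := QuotientGroup.mk_surjective g
  have htop : Subgroup.zpowers x ⊔ F = ⊤ := by
    rw [eq_top_iff]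
    intro y _
    obtain ⟨k, hk⟩ := Subgroup.mem_zpowers_iff.1 (hg (QuotientGroup.mk y))
    have h3 : (x ^ k)⁻¹ * y ∈ F := by
      rw [← QuotientGroup.eq]; simpa using hk
    have e : y = x ^ k * ((x ^ k)⁻¹ * y) := by group
    rw [e]
    exact Subgroup.mul_mem _ (Subgroup.mem_sup_left (Subgroup.zpow_mem_zpowers x k))
      (Subgroup.mem_sup_right h3)
  have hz := frattini_nongenerating htop
  have hc : IsCyclic ↥P := ⟨⟨x, fun y => by
    have : y ∈ Subgroup.zpowers x := by rw [hz]; exact Subgroup.mem_top y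
    exact this⟩⟩
  exact IsCyclic.isMulCommutative

theorem le_of_card_two {Z X : Subgroup S} (hZ : Nat.card Z = 2) {w : S} (hwZ : w ∈ Z)
    (hw1 : w ≠ 1) (hwX : w ∈ X) : Z ≤ X := by
  have hz : Subgroup.zpowers w = Z := by
    apply Subgroup.eq_of_le_of_card_ge (Subgroup.zpowers_le.2 hwZ)
    rw [hZ, Nat.card_zpowers]
    have h0 : 0 < orderOf w := orderOf_pos w
    have h1 : orderOf w ≠ 1 := fun h => hw1 (orderOf_eq_one_iff.1 h)
    omega
  rw [← hz]; exact Subgroup.zpowers_le.2 hwX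

theorem center_le_sq (h2 : IsPGroup 2 S) (P : Subgroup S) [P.Normal] (hP : ¬ IsMulCommutative ↥P)
    (hZP : Nat.card ((Subgroup.center ↥P).map P.subtype) = 2) :
    (Subgroup.center ↥P).map P.subtype ≤ sq P := by
  have hne : sq P ≠ ⊥ := by
    intro h
    apply hP
    have hsq : ∀ x : ↥P, x * x = 1 := fun x => by
      have := sq_mem P x.2
      rw [h, Subgroup.mem_bot] at this
      apply Subtype.ext
      show (x : S) * x = 1
      rw [← pow_two]; exact this
    refine ⟨⟨fun a b => ?_⟩⟩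
    have hab := hsq (a * b)
    calc a * b = a * (a * b * (a * b)) * b := by rw [hab, mul_one]
      _ = (a * a) * (b * a) * (b * b) := by group
      _ = b * a := by rw [hsq a, hsq b, one_mul, mul_one]
  obtain ⟨w, hw, hw1, hwc⟩ := Cfsg.Agent.S3190.normal_pgroup_fixed P (sq P) (h2.to_subgroup P)
    (sq_le P) (fun g _ w hw => (sq_normal P).conj_mem w hw g) hne
  have hwZ : w ∈ (Subgroup.center ↥P).map P.subtype :=
    (mem_center_map_iff P w).2 ⟨sq_le P hw, hwc⟩
  exact le_of_card_two hZP hwZ hw1 hw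

theorem result {S : Type*} [Group S] [Finite S] (h2 : IsPGroup 2 S) (hr : Cfsg.SectionalPRankLE 2 4 S)
    (P Q : Subgroup S) [P.Normal] [Q.Normal] (hP : ¬ IsMulCommutative ↥P) (hQ : ¬ IsMulCommutative ↥Q)
    (hZP : Nat.card ↥(Subgroup.center ↥P) = 2) (hZQ : Nat.card ↥(Subgroup.center ↥Q) = 2)
    (hne : (Subgroup.center ↥P).map P.subtype ≠ (Subgroup.center ↥Q).map Q.subtype) :
    ⁅P, Q⁆ = ⊥ ∧ P ⊓ Q = ⊥ ∧ Subgroup.centralizer ((P ⊔ Q : Subgroup S) : Set S) ≤ P ⊔ Q := by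
  classical
  set ZP := (Subgroup.center ↥P).map P.subtype with hZPdef
  set ZQ := (Subgroup.center ↥Q).map Q.subtype with hZQdef
  have hcZP : Nat.card ZP = 2 := by
    rw [← hZP]
    exact (Nat.card_congr (Subgroup.equivMapOfInjective _ _ P.subtype_injective).toEquiv).symm
  have hcZQ : Nat.card ZQ = 2 := by
    rw [← hZQ]
    exact (Nat.card_congr (Subgroup.equivMapOfInjective _ _ Q.subtype_injective).toEquiv).symm
  have hnZP : ZP.Normal := center_map_normal P
  have hnZQ : ZQ.Normal := center_map_normal Q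
  have hZPc : ZP ≤ Subgroup.center S := le_center_of_normal_card_prime h2 ZP hcZP
  have hZQc : ZQ ≤ Subgroup.center S := le_center_of_normal_card_prime h2 ZQ hcZQ
  have hPQ : P ⊓ Q = ⊥ := by
    by_contra hne'
    obtain ⟨w, hw, hw1, hwc⟩ := Cfsg.Agent.S3190.normal_pgroup_fixed P (P ⊓ Q) (h2.to_subgroup P)
      inf_le_left (fun g _ w hw => (inferInstance : (P ⊓ Q).Normal).conj_mem w hw g) hne'
    have hwZP : w ∈ ZP := (mem_center_map_iff P w).2 ⟨hw.1, hwc⟩
    have hwZQ : w ∈ ZQ := (mem_center_map_iff Q w).2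
      ⟨hw.2, fun q _ => (Subgroup.mem_center_iff.1 (hZPc hwZP) q)⟩
    exact hne (le_antisymm (le_of_card_two hcZP hwZP hw1 hwZQ) (le_of_card_two hcZQ hwZQ hw1 hwZP))
  have hcomm : ⁅P, Q⁆ = ⊥ := by
    rw [eq_bot_iff, ← hPQ]; exact Subgroup.commutator_le_inf P Q
  refine ⟨hcomm, hPQ, ?_⟩
  have hPQc : ∀ x ∈ P, ∀ y ∈ Q, x * y = y * x := by
    intro x hx y hy
    have := Subgroup.commutator_eq_bot_iff_le_centralizer.1 hcomm hx
    exact (Subgroup.mem_centralizer_iff.1 this y hy).symm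
  by_contra hcon
  obtain ⟨c₀, hc₀C, hc₀⟩ := SetLike.not_le_iff_exists.1 hcon
  set C := Subgroup.centralizer ((P ⊔ Q : Subgroup S) : Set S) with hC
  have hex : ∃ n : ℕ, c₀ ^ 2 ^ n ∈ P ⊔ Q := by
    obtain ⟨n, hn⟩ := h2 c₀
    exact ⟨n, by rw [hn]; exact Subgroup.one_mem _⟩
  have hn0 : Nat.find hex ≠ 0 := by
    intro h0
    have := Nat.find_spec hex
    rw [h0] at this
    simp only [pow_zero, pow_one] at this
    exact hc₀ this
  obtain ⟨m, hm⟩ := Nat.exists_eq_succ_of_ne_zero hn0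
  set c := c₀ ^ 2 ^ m with hc
  have hcC : c ∈ C := Subgroup.pow_mem _ hc₀C _
  have hcn : c ∉ P ⊔ Q := Nat.find_min hex (by omega : m < Nat.find hex)
  have hc2 : c ^ 2 ∈ P ⊔ Q := by
    have := Nat.find_spec hex
    rw [hm, pow_succ, pow_mul] at this
    exact this
  have hCc : ∀ g ∈ P ⊔ Q, ∀ z ∈ C, g * z = z * g := fun g hg z hz =>
    Subgroup.mem_centralizer_iff.1 hz g hg
  obtain ⟨x₀, hx₀, y₀, hy₀, e⟩ := Subgroup.mem_sup_of_normal_right.1 hc2
  have hc2C : c ^ 2 ∈ C := Subgroup.pow_mem _ hcC _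
  have hx₀Z : x₀ ∈ ZP := by
    refine (mem_center_map_iff P x₀).2 ⟨hx₀, fun g hg => ?_⟩
    have e1 : g * c ^ 2 = c ^ 2 * g := hCc g (Subgroup.mem_sup_left hg) _ hc2C
    have e2 : g * y₀ = y₀ * g := hPQc g hg y₀ hy₀
    have e3 : x₀ = c ^ 2 * y₀⁻¹ := eq_mul_inv_of_mul_eq e
    have e4 : g * y₀⁻¹ = y₀⁻¹ * g := by
      have : y₀⁻¹ * (g * y₀) * y₀⁻¹ = y₀⁻¹ * (y₀ * g) * y₀⁻¹ := by rw [e2]
      rw [show y₀⁻¹ * (g * y₀) * y₀⁻¹ = y₀⁻¹ * g by group,
        show y₀⁻¹ * (y₀ * g) * y₀⁻¹ = g * y₀⁻¹ by group] at this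
      exact this.symm
    rw [e3, ← mul_assoc, e1, mul_assoc, e4, mul_assoc]
  have hy₀Z : y₀ ∈ ZQ := by
    refine (mem_center_map_iff Q y₀).2 ⟨hy₀, fun g hg => ?_⟩
    have e1 : g * c ^ 2 = c ^ 2 * g := hCc g (Subgroup.mem_sup_right hg) _ hc2C
    have e2 : x₀ * g = g * x₀ := hPQc x₀ hx₀ g hg
    have e3 : y₀ = x₀⁻¹ * c ^ 2 := eq_inv_mul_of_mul_eq e
    have e4 : g * x₀⁻¹ = x₀⁻¹ * g := by
      have : x₀⁻¹ * (x₀ * g) * x₀⁻¹ = x₀⁻¹ * (g * x₀) * x₀⁻¹ := by rw [e2]
      rw [show x₀⁻¹ * (x₀ * g) * x₀⁻¹ = g * x₀⁻¹ by group,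
        show x₀⁻¹ * (g * x₀) * x₀⁻¹ = x₀⁻¹ * g by group] at this
      exact this
    rw [e3, ← mul_assoc, e4, mul_assoc, e1, mul_assoc]
  have hnsP : (sq P).Normal := sq_normal P
  have hnsQ : (sq Q).Normal := sq_normal Q
  set N' := sq P ⊔ sq Q with hN'
  have hc2N : c ^ 2 ∈ N' := by
    rw [← e]
    exact Subgroup.mul_mem _ (Subgroup.mem_sup_left (center_le_sq h2 P hP hcZP hx₀Z))
      (Subgroup.mem_sup_right (center_le_sq h2 Q hQ hcZQ hy₀Z))
  set H := (P ⊔ Q) ⊔ Subgroup.zpowers c with hH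
  have hsqH : ∀ h ∈ H, h ^ 2 ∈ N' := by
    intro h hh
    obtain ⟨u, hu, z, hz, rfl⟩ := Subgroup.mem_sup_of_normal_left.1 hh
    obtain ⟨x, hx, y, hy, rfl⟩ := Subgroup.mem_sup_of_normal_right.1 hu
    have hzC : z ∈ C := (Subgroup.zpowers_le.2 hcC) hz
    have e1 : x * z = z * x := hCc x (Subgroup.mem_sup_left hx) z hzC
    have e2 : y * z = z * y := hCc y (Subgroup.mem_sup_right hy) z hzC
    have e3 : x * y = y * x := hPQc x hx y hy
    have e4 : (x * y * z) ^ 2 = x ^ 2 * y ^ 2 * z ^ 2 := by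
      calc (x * y * z) ^ 2 = x * y * (z * x) * y * z := by rw [pow_two]; group
        _ = x * y * (x * z) * y * z := by rw [e1]
        _ = x * (y * x) * (z * y) * z := by group
        _ = x * (x * y) * (y * z) * z := by rw [← e3, ← e2]
        _ = x ^ 2 * y ^ 2 * z ^ 2 := by simp only [pow_two, mul_assoc]
    rw [e4]
    have hz2 : z ^ 2 ∈ N' := by
      obtain ⟨i, rfl⟩ := Subgroup.mem_zpowers_iff.1 hz
      have : (c ^ i) ^ 2 = (c ^ 2) ^ i := by group
      rw [this]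
      exact Subgroup.zpow_mem _ hc2N i
    exact Subgroup.mul_mem _ (Subgroup.mul_mem _ (Subgroup.mem_sup_left (sq_mem P hx))
      (Subgroup.mem_sup_right (sq_mem Q hy))) hz2
  have hexp : ∀ a : ↥H ⧸ N'.subgroupOf H, a * a = 1 := by
    intro a
    obtain ⟨h, rfl⟩ := QuotientGroup.mk_surjective a
    rw [← QuotientGroup.mk_mul, QuotientGroup.eq_one_iff, Subgroup.mem_subgroupOf]
    have := hsqH h h.2
    rw [pow_two] at this
    exact this
  have hsec := hr H (N'.subgroupOf H) (⊤ : Subgroup (↥H ⧸ N'.subgroupOf H))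
    ⟨⟨fun a b => by
      apply Subtype.ext
      have hab := hexp ((a : ↥H ⧸ N'.subgroupOf H) * b)
      show (a : ↥H ⧸ N'.subgroupOf H) * b = b * a
      calc (a : ↥H ⧸ N'.subgroupOf H) * b = a * (a * b * (a * b)) * b := by rw [hab, mul_one]
        _ = (a * a) * (b * a) * (b * b) := by group
        _ = b * a := by rw [hexp a, hexp b, one_mul, mul_one]⟩⟩
    (fun a _ => by rw [pow_two]; exact hexp a)
  rw [Subgroup.card_top] at hsec
  have hN'H : N' ≤ H :=
    (sup_le_sup (sq_le P) (sq_le Q)).trans le_sup_left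
  have hrel : Nat.card N' * N'.relIndex H = Nat.card H :=
    Cfsg.Agent.Lib.Helper17.Syl.card_mul_relIndex_le hN'H
  have hidx : Nat.card (↥H ⧸ N'.subgroupOf H) = N'.relIndex H := rfl
  rw [hidx] at hsec
  have hN'card : Nat.card N' ≤ Nat.card (sq P) * Nat.card (sq Q) :=
    Nat.le_of_dvd (Nat.mul_pos Nat.card_pos Nat.card_pos)
      (Cfsg.Agent.Lib.Lead.Cores.card_sup_dvd (sq P) (sq Q))
  have hPQcard : Nat.card (P ⊔ Q : Subgroup S) = Nat.card P * Nat.card Q := by
    have h1 := Cfsg.Agent.Lib.Helper17.CD.card_mulSet_mul_card_inf P Q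
    rw [← Subgroup.mul_normal P Q] at h1
    have h1' : Nat.card ↥(P ⊔ Q) * Nat.card ↥(P ⊓ Q) = Nat.card ↥P * Nat.card ↥Q := h1
    rw [hPQ, Subgroup.card_bot, mul_one] at h1'
    exact h1'
  have hHcard : 2 * Nat.card (P ⊔ Q : Subgroup S) ≤ Nat.card H := by
    obtain ⟨k, hk⟩ := Subgroup.card_dvd_of_le (le_sup_left : P ⊔ Q ≤ H)
    have hk0 : k ≠ 0 := by
      rintro rfl
      rw [mul_zero] at hk
      exact Nat.card_pos.ne' hk
    have hk1 : k ≠ 1 := by
      rintro rfl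
      rw [mul_one] at hk
      have := Subgroup.eq_of_le_of_card_ge (le_sup_left : P ⊔ Q ≤ H) hk.le
      apply hcn
      rw [this]
      exact Subgroup.mem_sup_right (Subgroup.mem_zpowers c)
    rw [hk, mul_comm]
    exact Nat.mul_le_mul_left _ (by omega)
  have h4P := four_mul_card_sq_le h2 P hP
  have h4Q := four_mul_card_sq_le h2 Q hQ
  have hposP : 0 < Nat.card (sq P) := Nat.card_pos
  have hposQ : 0 < Nat.card (sq Q) := Nat.card_pos
  have hposN : 0 < Nat.card N' := Nat.card_pos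
  have hA : Nat.card H ≤ 16 * (Nat.card (sq P) * Nat.card (sq Q)) := by
    rw [← hrel]
    calc Nat.card N' * N'.relIndex H ≤ (Nat.card (sq P) * Nat.card (sq Q)) * 2 ^ 4 :=
          Nat.mul_le_mul hN'card hsec
      _ = 16 * (Nat.card (sq P) * Nat.card (sq Q)) := by ring
  have hB : 32 * (Nat.card (sq P) * Nat.card (sq Q)) ≤ Nat.card H := by
    calc 32 * (Nat.card (sq P) * Nat.card (sq Q))
        = 2 * ((4 * Nat.card (sq P)) * (4 * Nat.card (sq Q))) := by ring
      _ ≤ 2 * (Nat.card P * Nat.card Q) := Nat.mul_le_mul_left _ (Nat.mul_le_mul h4P h4Q)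
      _ = 2 * Nat.card (P ⊔ Q : Subgroup S) := by rw [hPQcard]
      _ ≤ Nat.card H := hHcard
  have hpos : 0 < Nat.card (sq P) * Nat.card (sq Q) := Nat.mul_pos hposP hposQ
  omega

end Cfsg.Agent.S4400
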