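import Cfsg.Statements.S4405
import Mathlib
import Cfsg.Agent.S4398
import Cfsg.Agent.Lib.Helper20.ESpecial
import Cfsg.Agent.Lib.Helper12.SylowBasic
import Cfsg.Agent.Lib.Helper17.Syl
import Cfsg.Agent.Lib.Lead.Hall

set_option autoImplicit false
open Cfsg
open scoped commutatorElement

namespace Cfsg.Agent.S4405

section flat

variable {G : Type*} [Group G] [Finite G]

theorem card_modEq_centralizer (H : Subgroup G) [hn : H.Normal] (f : G) (p : ℕ) [Fact p.Prime]
    (hf : orderOf f = p) :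
    Nat.card H ≡ Nat.card ↥(H ⊓ Subgroup.centralizer {f}) [MOD p] := by
  classical
  letI : MulAction (Subgroup.zpowers f) ↥H :=
    MulAction.compHom ↥H ((MulAut.conjNormal (H := H)).comp (Subgroup.zpowers f).subtype)
  have hP : IsPGroup p (Subgroup.zpowers f) :=
    IsPGroup.of_card (n := 1) (by rw [Nat.card_zpowers, hf, pow_one])
  have h1 := hP.card_modEq_card_fixedPoints ↥H
  have hsmul : ∀ (g : Subgroup.zpowers f) (h : H),
      ((g • h : H) : G) = (g : G) * h * (g : G)⁻¹ := fun g h => rfl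
  have e : MulAction.fixedPoints (Subgroup.zpowers f) ↥H ≃ ↥(H ⊓ Subgroup.centralizer {f}) :=
    { toFun := fun x => ⟨x.1.1, Subgroup.mem_inf.2 ⟨x.1.2, by
        rw [Subgroup.mem_centralizer_iff]
        intro y hy
        rw [Set.mem_singleton_iff] at hy
        subst hy
        have h2 := congrArg Subtype.val (x.2 ⟨y, Subgroup.mem_zpowers y⟩)
        rw [hsmul] at h2
        calc y * (x.1 : G) = (y * (x.1 : G) * y⁻¹) * y := by group
          _ = (x.1 : G) * y := by rw [h2]⟩⟩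
      invFun := fun y => ⟨⟨y.1, (Subgroup.mem_inf.1 y.2).1⟩, by
        intro g
        apply Subtype.ext
        rw [hsmul]
        obtain ⟨k, hk⟩ := Subgroup.mem_zpowers_iff.1 g.2
        have h2 : f * (y : G) = (y : G) * f :=
          Subgroup.mem_centralizer_iff.1 (Subgroup.mem_inf.1 y.2).2 f rfl
        have h3 : Commute (g : G) (y : G) := by
          rw [← hk]; exact Commute.zpow_left h2 k
        show (g : G) * (y : G) * (g : G)⁻¹ = (y : G)
        rw [h3.eq, mul_inv_cancel_right]⟩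
      left_inv := fun x => rfl
      right_inv := fun y => rfl }
  rw [Nat.card_congr e] at h1
  exact h1

structure Dat (H : Subgroup G) (z : G) : Prop where
  hn : H.Normal
  card : Nat.card H = 32
  zH : z ∈ H
  z1 : z ≠ 1
  zz : z * z = 1
  cen : ∀ w ∈ H, (∀ h ∈ H, h * w = w * h) → w = 1 ∨ w = z
  comm : ∀ a ∈ H, ∀ b ∈ H, a * b * a⁻¹ * b⁻¹ = 1 ∨ a * b * a⁻¹ * b⁻¹ = z
  sq : ∀ a ∈ H, a ^ 2 = 1 ∨ a ^ 2 = z
  zcH : ∀ h ∈ H, h * z = z * h

theorem exists_dat (H : Subgroup G) [hn : H.Normal] (hex : Cfsg.IsExtraspecial 2 ↥H)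
    (h32 : Nat.card ↥H = 32) : ∃ z : G, Dat H z := by
  haveI : Fact (Nat.Prime 2) := ⟨Nat.prime_two⟩
  obtain ⟨⟨hP, hfr, hcm⟩, hc2⟩ := hex
  haveI : Nontrivial ↥(Subgroup.center ↥H) := by
    rw [← Finite.one_lt_card_iff_nontrivial, hc2]; norm_num
  obtain ⟨zc, hzc⟩ := exists_ne (1 : ↥(Subgroup.center ↥H))
  have hmem : ∀ w : ↥(Subgroup.center ↥H), w = 1 ∨ w = zc :=
    fun w => Cfsg.Agent.S4399.eq_of_card_two hc2 1 zc w (Ne.symm hzc)
  have hzz : zc * zc = 1 := by
    have h1 : zc ^ Nat.card ↥(Subgroup.center ↥H) = 1 := pow_card_eq_one'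
    rw [hc2, pow_two] at h1
    exact h1
  have hval : ∀ w : ↥H, w ∈ Subgroup.center ↥H → (w : G) = 1 ∨ (w : G) = ((zc : ↥H) : G) := by
    intro w hw
    rcases hmem ⟨w, hw⟩ with h | h
    · left
      have := congrArg (fun t : ↥(Subgroup.center ↥H) => ((t : ↥H) : G)) h
      simpa using this
    · right
      have := congrArg (fun t : ↥(Subgroup.center ↥H) => ((t : ↥H) : G)) h
      simpa using this
  refine ⟨((zc : ↥H) : G), hn, h32, (zc : ↥H).2, ?_, ?_, ?_, ?_, ?_, ?_⟩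
  · intro h
    apply hzc
    apply Subtype.ext
    apply Subtype.ext
    simpa using h
  · have := congrArg (fun t : ↥(Subgroup.center ↥H) => ((t : ↥H) : G)) hzz
    simpa using this
  · intro w hw hall
    apply hval ⟨w, hw⟩
    rw [Subgroup.mem_center_iff]
    intro g
    apply Subtype.ext
    exact hall g g.2
  · intro a ha b hb
    have h1 : ⁅(⟨a, ha⟩ : ↥H), (⟨b, hb⟩ : ↥H)⁆ ∈ commutator ↥H := by
      rw [commutator_def]
      exact Subgroup.commutator_mem_commutator (Subgroup.mem_top _) (Subgroup.mem_top _)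
    rw [hcm] at h1
    have h2 := hval _ h1
    simpa [commutatorElement_def] using h2
  · intro a ha
    have h1 : (⟨a, ha⟩ : ↥H) ^ 2 ∈ frattini ↥H :=
      Cfsg.Agent.Lib.Helper20.ESpecial.pow_mem_frattini hP _
    rw [hfr] at h1
    have h2 := hval _ h1
    simpa using h2
  · intro h hh
    have h1 := Subgroup.mem_center_iff.1 zc.2 ⟨h, hh⟩
    have := congrArg (fun t : ↥H => (t : G)) h1
    simpa using this

theorem Dat.zc {H : Subgroup G} {z : G} (d : Dat H z) (g : G) : g * z = z * g := by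
  haveI := d.hn
  have h1 : g * z * g⁻¹ ∈ H := d.hn.conj_mem z d.zH g
  have h2 : ∀ h ∈ H, h * (g * z * g⁻¹) = (g * z * g⁻¹) * h := by
    intro h hh
    have h3 := d.zcH (g⁻¹ * h * g) (by simpa using d.hn.conj_mem h hh g⁻¹)
    calc h * (g * z * g⁻¹) = g * ((g⁻¹ * h * g) * z) * g⁻¹ := by group
      _ = g * (z * (g⁻¹ * h * g)) * g⁻¹ := by rw [h3]
      _ = (g * z * g⁻¹) * h := by group
  rcases d.cen _ h1 h2 with h3 | h3
  · exfalso
    apply d.z1
    have h4 : z = g⁻¹ * (g * z * g⁻¹) * g := by group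
    rw [h4, h3]; group
  · calc g * z = (g * z * g⁻¹) * g := by group
      _ = z * g := by rw [h3]

theorem Dat.ord {H : Subgroup G} {z : G} (d : Dat H z) : orderOf z = 2 := by
  haveI : Fact (Nat.Prime 2) := ⟨Nat.prime_two⟩
  exact orderOf_eq_prime (by rw [pow_two]; exact d.zz) d.z1

theorem relIndex_card {A K : Subgroup G} (hAK : A ≤ K) :
    Nat.card A * A.relIndex K = Nat.card K := by
  have h1 := Subgroup.card_mul_index (A.subgroupOf K)
  rw [Nat.card_congr (Subgroup.subgroupOfEquivOfLe hAK).toEquiv] at h1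
  exact h1

theorem not_centralize (H : Subgroup G) (hn : H.Normal) (h32 : Nat.card H = 32)
    (hG : Nat.card G = 320)
    (hF : ∀ N : Subgroup G, N.Normal → Group.IsNilpotent N → N ≤ H) (hH2 : IsPGroup 2 H)
    (f : G) (hf : orderOf f = 5) (hcent : ∀ h ∈ H, f * h = h * f) : False := by
  haveI : Fact (Nat.Prime 2) := ⟨Nat.prime_two⟩
  haveI : Fact (Nat.Prime 5) := ⟨by norm_num⟩
  obtain ⟨K, hKdef⟩ : ∃ K : Subgroup G, K = H ⊔ Subgroup.zpowers f := ⟨_, rfl⟩
  have hfK : f ∈ K := by rw [hKdef]; exact Subgroup.mem_sup_right (Subgroup.mem_zpowers f)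
  have h1 : 32 ∣ Nat.card K := by
    rw [← h32, hKdef]; exact Subgroup.card_dvd_of_le le_sup_left
  have h2 : 5 ∣ Nat.card K := by rw [← hf]; exact Subgroup.orderOf_dvd_natCard K hfK
  have h3 : 32 * 5 ∣ Nat.card K := Nat.Coprime.mul_dvd_of_dvd_of_dvd (by norm_num) h1 h2
  have h4 := Subgroup.card_mul_index K
  rw [hG] at h4
  have hKn : K.Normal := by
    obtain ⟨c, hc⟩ := h3
    have h5 : c * K.index = 2 := by
      rw [hc] at h4
      have h6 : 160 * (c * K.index) = 160 * 2 := by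
        have h7 : 160 * (c * K.index) = 32 * 5 * c * K.index := by ring
        rw [h7, h4]
      exact Nat.eq_of_mul_eq_mul_left (by norm_num) h6
    have h7 : K.index ∣ 2 := ⟨c, by rw [← h5, mul_comm]⟩
    rcases (Nat.dvd_prime Nat.prime_two).1 h7 with h | h
    · rw [Subgroup.index_eq_one] at h; rw [h]; infer_instance
    · exact Subgroup.normal_of_index_eq_two h
  have hKnil : Group.IsNilpotent K := by
    haveI : Group.IsNilpotent H := hH2.isNilpotent
    haveI : Group.IsNilpotent (Subgroup.zpowers f) :=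
      (IsPGroup.of_card (p := 5) (n := 1) (by rw [Nat.card_zpowers, hf, pow_one])).isNilpotent
    let φ : ↥H × ↥(Subgroup.zpowers f) →* G :=
      MonoidHom.noncommCoprod H.subtype (Subgroup.zpowers f).subtype (fun m n => by
        obtain ⟨k, hk⟩ := Subgroup.mem_zpowers_iff.1 n.2
        show Commute (m : G) (n : G)
        rw [← hk]
        exact (Commute.zpow_left (hcent m m.2) k).symm)
    have hφ : φ.range = K := by
      rw [hKdef, MonoidHom.noncommCoprod_range, Subgroup.range_subtype, Subgroup.range_subtype]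
    rw [← hφ]
    exact Group.nilpotent_of_surjective φ.rangeRestrict φ.rangeRestrict_surjective
  have h5 := hF K hKn hKnil hfK
  have h6 := Subgroup.orderOf_dvd_natCard H h5
  rw [hf, h32] at h6
  norm_num at h6

theorem cf (H : Subgroup G) (z : G) (d : Dat H z) (hG : Nat.card G = 320)
    (hF : ∀ N : Subgroup G, N.Normal → Group.IsNilpotent N → N ≤ H) (hH2 : IsPGroup 2 H)
    (f : G) (hf : orderOf f = 5) : ∀ h ∈ H, f * h = h * f → h = 1 ∨ h = z := by
  haveI := d.hn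
  haveI : Fact (Nat.Prime 5) := ⟨by norm_num⟩
  have h1 := card_modEq_centralizer H f 5 hf
  rw [d.card] at h1
  have h2 : Nat.card ↥(H ⊓ Subgroup.centralizer {f}) ∣ 2 ^ 5 := by
    have h0 := Subgroup.card_dvd_of_le (inf_le_left : H ⊓ Subgroup.centralizer {f} ≤ H)
    rw [d.card] at h0
    exact h0
  obtain ⟨k, hk, hk2⟩ := (Nat.dvd_prime_pow Nat.prime_two).1 h2
  have h3 : k = 1 ∨ k = 5 := by
    rw [hk2] at h1
    have h4 : 32 % 5 = 2 ^ k % 5 := h1
    interval_cases k <;> simp_all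
  have hmemC : ∀ w ∈ H, f * w = w * f → w ∈ H ⊓ Subgroup.centralizer {f} := by
    intro w hw hfw
    refine Subgroup.mem_inf.2 ⟨hw, ?_⟩
    rw [Subgroup.mem_centralizer_iff]
    intro y hy
    rw [Set.mem_singleton_iff] at hy
    rw [hy]; exact hfw
  rcases h3 with rfl | rfl
  · intro h hh hfh
    have h5 := Cfsg.Agent.S4399.eq_of_card_two (α := ↥(H ⊓ Subgroup.centralizer {f}))
      (by rw [hk2]; norm_num) ⟨1, Subgroup.one_mem _⟩ ⟨z, hmemC z d.zH (d.zc f)⟩
      ⟨h, hmemC h hh hfh⟩ (by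
        intro hcon
        exact d.z1 (congrArg Subtype.val hcon).symm)
    rcases h5 with h5 | h5
    · left; exact congrArg Subtype.val h5
    · right; exact congrArg Subtype.val h5
  · exfalso
    apply not_centralize H d.hn d.card hG hF hH2 f hf
    have h5 : H ⊓ Subgroup.centralizer {f} = H :=
      Subgroup.eq_of_le_of_card_ge inf_le_left (by rw [hk2, d.card]; norm_num)
    intro h hh
    have h6 : h ∈ H ⊓ Subgroup.centralizer {f} := by rw [h5]; exact hh
    exact Subgroup.mem_centralizer_iff.1 (Subgroup.mem_inf.1 h6).2 f rfl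

theorem gen_top (H : Subgroup G) (hn : H.Normal) (h32 : Nat.card H = 32) (hG : Nat.card G = 320)
    (hO2 : ∀ N : Subgroup G, N.Normal → IsPGroup 2 N → N ≤ H) (hH2 : IsPGroup 2 H)
    (T : G) (hT : orderOf T = 2) (hTH : T ∉ H) (f : G) (hf : orderOf f = 5)
    (D : Subgroup G) (hHD : H ≤ D) (hTD : T ∈ D) (hT1D : f * T * f⁻¹ ∈ D) : D = ⊤ := by
  haveI : Fact (Nat.Prime 2) := ⟨Nat.prime_two⟩
  haveI := hn
  have hTp : IsPGroup 2 (Subgroup.zpowers T) :=
    IsPGroup.of_card (n := 1) (by rw [Nat.card_zpowers, hT, pow_one])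
  obtain ⟨S, hS⟩ := hTp.exists_le_sylow
  have hTS : T ∈ (S : Subgroup G) := hS (Subgroup.mem_zpowers T)
  have hHS : H ≤ (S : Subgroup G) :=
    Cfsg.Agent.Lib.Helper12.SylowBasic.normal_pgroup_le_sylow S H hH2
  have hS64 : Nat.card (S : Subgroup G) = 64 := by
    obtain ⟨k, hk⟩ := IsPGroup.iff_card.1 S.isPGroup'
    have h1 := Subgroup.card_mul_index (S : Subgroup G)
    have h2 : ¬ 2 ∣ (S : Subgroup G).index := S.not_dvd_index
    rw [hG] at h1
    have hle : Nat.card (S : Subgroup G) ≤ 320 := by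
      rw [← hG]; exact Subgroup.card_le_card_group _
    have hk9 : k < 9 := by
      by_contra hcon
      have h3 : 2 ^ 9 ≤ 2 ^ k := Nat.pow_le_pow_right (by norm_num) (by omega)
      rw [← hk] at h3
      omega
    have hk' : Nat.card (S : Subgroup G) = 2 ^ k := hk
    rw [hk'] at h1 ⊢
    interval_cases k <;> omega
  have hi := Cfsg.Agent.S4398.idx_two H (S : Subgroup G) hHS (by rw [hS64, h32])
  have hSD : (S : Subgroup G) ≤ D := by
    intro s hs
    rcases Cfsg.Agent.S4398.mem_or2 H (S : Subgroup G) hi T hTS hTH s hs with h | h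
    · exact hHD h
    · have h0 : s = T * (T⁻¹ * s) := by group
      rw [h0]; exact D.mul_mem hTD (hHD h)
  by_contra hD
  have hD64 : Nat.card D = 64 := by
    obtain ⟨c, hc⟩ : 64 ∣ Nat.card D := by rw [← hS64]; exact Subgroup.card_dvd_of_le hSD
    have h1 : Nat.card D ∣ 320 := by rw [← hG]; exact Subgroup.card_subgroup_dvd_card D
    rw [hc] at h1
    have h2 : c ∣ 5 := by
      have h3 : 64 * c ∣ 64 * 5 := h1
      exact Nat.dvd_of_mul_dvd_mul_left (by norm_num) h3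
    rcases (Nat.dvd_prime (by norm_num : Nat.Prime 5)).1 h2 with h | h
    · rw [hc, h]
    · exfalso
      apply hD
      apply Subgroup.eq_top_of_card_eq
      rw [hc, h, hG]
  have hDS : (S : Subgroup G) = D := Subgroup.eq_of_le_of_card_ge hSD (by rw [hD64, hS64])
  have hfN : f ∈ Subgroup.normalizer ((S : Subgroup G) : Set G) := by
    apply Cfsg.Agent.Lib.Helper17.Syl.mem_normalizer_of_conj_mem
    intro s hs
    rcases Cfsg.Agent.S4398.mem_or2 H (S : Subgroup G) hi T hTS hTH s hs with h | h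
    · exact hHS (hn.conj_mem s h f)
    · have h0 : f * s * f⁻¹ = (f * T * f⁻¹) * (f * (T⁻¹ * s) * f⁻¹) := by group
      rw [h0, hDS]
      exact D.mul_mem hT1D (hHD (hn.conj_mem _ h f))
  have h1 : 64 ∣ Nat.card (Subgroup.normalizer ((S : Subgroup G) : Set G)) := by
    rw [← hS64]; exact Subgroup.card_dvd_of_le Subgroup.le_normalizer
  have h2 : 5 ∣ Nat.card (Subgroup.normalizer ((S : Subgroup G) : Set G)) := by
    rw [← hf]; exact Subgroup.orderOf_dvd_natCard _ hfN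
  have h3 : 64 * 5 ∣ Nat.card (Subgroup.normalizer ((S : Subgroup G) : Set G)) :=
    Nat.Coprime.mul_dvd_of_dvd_of_dvd (by norm_num) h1 h2
  have h4 : Subgroup.normalizer ((S : Subgroup G) : Set G) = ⊤ := by
    apply Subgroup.eq_top_of_card_eq
    apply Nat.dvd_antisymm (Subgroup.card_subgroup_dvd_card _)
    rw [hG]; exact h3
  have hSn : (S : Subgroup G).Normal := Subgroup.normalizer_eq_top_iff.1 h4
  have h5 := Subgroup.card_le_of_le (hO2 (S : Subgroup G) hSn S.isPGroup')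
  rw [hS64, h32] at h5
  norm_num at h5

end flat

section quot

variable {G : Type*} [Group G] [Finite G] {H : Subgroup G} {z : G}

theorem Dat.zn (d : Dat H z) : (Subgroup.zpowers z).Normal := ⟨fun n hn g => by
  obtain ⟨k, rfl⟩ := Subgroup.mem_zpowers_iff.1 hn
  have h1 : g * z ^ k * g⁻¹ = z ^ k := by
    have h0 := (Commute.zpow_right (d.zc g) k).eq
    rw [h0, mul_inv_cancel_right]
  rw [h1]; exact Subgroup.zpow_mem _ (Subgroup.mem_zpowers z) k⟩

theorem Dat.mem_Z (d : Dat H z) {y : G} (hy : y ∈ Subgroup.zpowers z) : y = 1 ∨ y = z :=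
  Cfsg.Agent.Lib.Lead.MaxClass2.mem_zpowers_two d.ord hy

theorem Dat.Z_mem (_d : Dat H z) {y : G} (hy : y = 1 ∨ y = z) : y ∈ Subgroup.zpowers z := by
  rcases hy with rfl | rfl
  · exact Subgroup.one_mem _
  · exact Subgroup.mem_zpowers _

theorem Dat.cardZ (d : Dat H z) : Nat.card (Subgroup.zpowers z) = 2 := by
  rw [Nat.card_zpowers, d.ord]

def Cq (z : G) [(Subgroup.zpowers z).Normal] (g : G) : Subgroup G :=
  (Subgroup.centralizer {QuotientGroup.mk' (Subgroup.zpowers z) g}).comap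
    (QuotientGroup.mk' (Subgroup.zpowers z))

theorem mem_Cq (z : G) [(Subgroup.zpowers z).Normal] (g h : G) :
    h ∈ Cq z g ↔ g * h * g⁻¹ * h⁻¹ ∈ Subgroup.zpowers z := by
  unfold Cq
  rw [Subgroup.mem_comap, Subgroup.mem_centralizer_iff, ← QuotientGroup.eq_one_iff]
  constructor
  · intro hh
    have h1 : QuotientGroup.mk' (Subgroup.zpowers z) g * QuotientGroup.mk' (Subgroup.zpowers z) h =
        QuotientGroup.mk' (Subgroup.zpowers z) h * QuotientGroup.mk' (Subgroup.zpowers z) g :=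
      hh _ rfl
    have h2 : ((g * h * g⁻¹ * h⁻¹ : G) : G ⧸ Subgroup.zpowers z) =
        QuotientGroup.mk' (Subgroup.zpowers z) g * QuotientGroup.mk' (Subgroup.zpowers z) h *
          (QuotientGroup.mk' (Subgroup.zpowers z) g)⁻¹ *
          (QuotientGroup.mk' (Subgroup.zpowers z) h)⁻¹ := rfl
    rw [h2, h1]; group
  · intro hh y hy
    rw [Set.mem_singleton_iff] at hy
    rw [hy]
    have h2 : QuotientGroup.mk' (Subgroup.zpowers z) g * QuotientGroup.mk' (Subgroup.zpowers z) h *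
          (QuotientGroup.mk' (Subgroup.zpowers z) g)⁻¹ *
          (QuotientGroup.mk' (Subgroup.zpowers z) h)⁻¹ = 1 := hh
    calc QuotientGroup.mk' (Subgroup.zpowers z) g * QuotientGroup.mk' (Subgroup.zpowers z) h
        = (QuotientGroup.mk' (Subgroup.zpowers z) g * QuotientGroup.mk' (Subgroup.zpowers z) h *
          (QuotientGroup.mk' (Subgroup.zpowers z) g)⁻¹ *
          (QuotientGroup.mk' (Subgroup.zpowers z) h)⁻¹) *
          (QuotientGroup.mk' (Subgroup.zpowers z) h * QuotientGroup.mk' (Subgroup.zpowers z) g) := by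
            group
      _ = QuotientGroup.mk' (Subgroup.zpowers z) h * QuotientGroup.mk' (Subgroup.zpowers z) g := by
            rw [h2, one_mul]

theorem Cq_symm (z : G) [hZn : (Subgroup.zpowers z).Normal] (g h : G) (hh : h ∈ Cq z g) :
    g ∈ Cq z h := by
  rw [mem_Cq] at hh ⊢
  have h1 := Subgroup.inv_mem _ hh
  have h2 : (g * h * g⁻¹ * h⁻¹)⁻¹ = h * g * h⁻¹ * g⁻¹ := by group
  rw [h2] at h1
  exact h1

theorem conj_comm_inv (T h : G) (hT2 : T * T = 1) :
    T * (T * h * T⁻¹ * h⁻¹) * T⁻¹ = (T * h * T⁻¹ * h⁻¹)⁻¹ := by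
  have hTinv : T⁻¹ = T := inv_eq_of_mul_eq_one_left hT2
  have e1 : T * (T * h * T⁻¹ * h⁻¹) * T⁻¹ = (T * T) * h * T⁻¹ * h⁻¹ * T⁻¹ := by group
  have e2 : (T * h * T⁻¹ * h⁻¹)⁻¹ = h * T * h⁻¹ * T⁻¹ := by group
  rw [e1, e2, hT2, one_mul]
  conv_lhs => rw [hTinv]
  conv_rhs => rw [hTinv]

theorem main (H : Subgroup G) (z : G) (d : Dat H z) (hG : Nat.card G = 320)
    (hO2 : ∀ N : Subgroup G, N.Normal → IsPGroup 2 N → N ≤ H)
    (hF : ∀ N : Subgroup G, N.Normal → Group.IsNilpotent N → N ≤ H) (hH2 : IsPGroup 2 H)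
    (hminus : ∀ A : Subgroup G, A ≤ H → Cfsg.IsElementaryAbelian 2 A → Nat.card ↥A ≤ 4)
    (T : G) (hT : orderOf T = 2) (hTH : T ∉ H)
    (V : Subgroup G) (hV : V ≤ H ⊓ Subgroup.centralizer ({T} : Set G)) (hV4 : Nat.card ↥V = 4) :
    Nat.card ↥(H ⊓ Subgroup.centralizer ({T} : Set G)) = 4 := by
  haveI hZn := d.zn
  haveI hHn := d.hn
  haveI : Fact (Nat.Prime 5) := ⟨by norm_num⟩
  obtain ⟨f, hf⟩ := exists_prime_orderOf_dvd_card' (G := G) 5 (by rw [hG]; norm_num)
  have hT2 : T * T = 1 := by rw [← pow_two, ← hT]; exact pow_orderOf_eq_one T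
  have hTinv : T⁻¹ = T := inv_eq_of_mul_eq_one_left hT2
  have hE1 : ∀ h ∈ H, H ≤ Cq z h := by
    intro h hh a ha
    rw [mem_Cq]
    exact d.Z_mem (d.comm h hh a ha)
  have hE2 : (H ⊓ Cq z T) ⊓ (H ⊓ Cq z (f * T * f⁻¹)) ≤ Subgroup.zpowers z := by
    intro h hh
    obtain ⟨hh1, hh2⟩ := Subgroup.mem_inf.1 hh
    obtain ⟨hhH, hh1'⟩ := Subgroup.mem_inf.1 hh1
    obtain ⟨-, hh2'⟩ := Subgroup.mem_inf.1 hh2
    have hD : Cq z h = ⊤ := gen_top H d.hn d.card hG hO2 hH2 T hT hTH f hf (Cq z h) (hE1 h hhH)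
      (Cq_symm z T h hh1') (Cq_symm z _ h hh2')
    have hfD : f ∈ Cq z h := by rw [hD]; exact Subgroup.mem_top f
    rw [mem_Cq] at hfD
    have hcomm : f * h = h * f := by
      rcases d.mem_Z hfD with h1 | h1
      · calc f * h = (h * f * h⁻¹ * f⁻¹)⁻¹ * (h * f) := by group
          _ = h * f := by rw [h1, inv_one, one_mul]
      · exfalso
        have h2 : h * f * h⁻¹ = z * f := by
          calc h * f * h⁻¹ = (h * f * h⁻¹ * f⁻¹) * f := by group
            _ = z * f := by rw [h1]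
        have h3 : (h * f * h⁻¹) ^ 5 = 1 := by
          rw [conj_pow, ← hf, pow_orderOf_eq_one]; group
        have hzf : Commute z f := (d.zc f).symm
        rw [h2, hzf.mul_pow, ← hf, pow_orderOf_eq_one, mul_one, hf] at h3
        have h4 : z ^ 5 = z := by
          rw [show (5 : ℕ) = 2 * 2 + 1 from rfl, pow_succ, pow_mul, pow_two z, d.zz, one_pow, one_mul]
        rw [h4] at h3
        exact d.z1 h3
    exact d.Z_mem (cf H z d hG hF hH2 f hf h hhH hcomm)
  have hE3 : Nat.card ↥(H ⊓ Cq z T) ≤ Nat.card ↥(H ⊓ Cq z (f * T * f⁻¹)) := by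
    apply Nat.card_le_card_of_injective (fun x : ↥(H ⊓ Cq z T) =>
      (⟨f * (x : G) * f⁻¹, by
        obtain ⟨hx1, hx2⟩ := Subgroup.mem_inf.1 x.2
        refine Subgroup.mem_inf.2 ⟨hHn.conj_mem _ hx1 f, ?_⟩
        rw [mem_Cq] at hx2 ⊢
        have h1 := hZn.conj_mem _ hx2 f
        have h2 : f * T * f⁻¹ * (f * (x : G) * f⁻¹) * (f * T * f⁻¹)⁻¹ * (f * (x : G) * f⁻¹)⁻¹ =
            f * (T * (x : G) * T⁻¹ * (x : G)⁻¹) * f⁻¹ := by group
        rw [h2]; exact h1⟩ : ↥(H ⊓ Cq z (f * T * f⁻¹))))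
    intro x y hxy
    have h1 : f * (x : G) * f⁻¹ = f * (y : G) * f⁻¹ := congrArg Subtype.val hxy
    apply Subtype.ext
    calc (x : G) = f⁻¹ * (f * (x : G) * f⁻¹) * f := by group
      _ = (y : G) := by rw [h1]; group
  have hX8 : Nat.card ↥(H ⊓ Cq z T) ≤ 8 := by
    by_contra hcon
    have h9 : 9 ≤ Nat.card ↥(H ⊓ Cq z T) := by omega
    have h9' : 9 ≤ Nat.card ↥(H ⊓ Cq z (f * T * f⁻¹)) := le_trans h9 hE3
    have hr0 := relIndex_card (inf_le_left : H ⊓ Cq z T ≤ H)
    have hr1 := relIndex_card (inf_le_left : H ⊓ Cq z (f * T * f⁻¹) ≤ H)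
    have hrm := relIndex_card
      ((inf_le_left.trans inf_le_left) : (H ⊓ Cq z T) ⊓ (H ⊓ Cq z (f * T * f⁻¹)) ≤ H)
    have hle := Subgroup.relIndex_inf_le (H := H ⊓ Cq z T) (K := H ⊓ Cq z (f * T * f⁻¹)) (L := H)
    have hm : Nat.card ↥((H ⊓ Cq z T) ⊓ (H ⊓ Cq z (f * T * f⁻¹))) ≤ 2 := by
      rw [← d.cardZ]; exact Subgroup.card_le_of_le hE2
    rw [d.card] at hr0 hr1 hrm
    have hr0' : (H ⊓ Cq z T).relIndex H ≤ 3 := by
      by_contra hc
      have h4 : 4 ≤ (H ⊓ Cq z T).relIndex H := by omega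
      have := Nat.mul_le_mul h9 h4
      omega
    have hr1' : (H ⊓ Cq z (f * T * f⁻¹)).relIndex H ≤ 3 := by
      by_contra hc
      have h4 : 4 ≤ (H ⊓ Cq z (f * T * f⁻¹)).relIndex H := by omega
      have := Nat.mul_le_mul h9' h4
      omega
    have h5 := Nat.mul_le_mul hr0' hr1'
    have h6 : ((H ⊓ Cq z T) ⊓ (H ⊓ Cq z (f * T * f⁻¹))).relIndex H ≤ 9 := le_trans hle h5
    have h7 := Nat.mul_le_mul hm h6
    omega
  have hCX : H ⊓ Subgroup.centralizer ({T} : Set G) ≤ H ⊓ Cq z T := by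
    intro h hh
    obtain ⟨hh1, hh2⟩ := Subgroup.mem_inf.1 hh
    refine Subgroup.mem_inf.2 ⟨hh1, ?_⟩
    rw [mem_Cq]
    have h1 : T * h = h * T := Subgroup.mem_centralizer_iff.1 hh2 T rfl
    have h2 : T * h * T⁻¹ * h⁻¹ = 1 := by rw [h1]; group
    rw [h2]; exact Subgroup.one_mem _
  have h4n : 4 ∣ Nat.card ↥(H ⊓ Subgroup.centralizer ({T} : Set G)) := by
    rw [← hV4]; exact Subgroup.card_dvd_of_le hV
  have hn8 : Nat.card ↥(H ⊓ Subgroup.centralizer ({T} : Set G)) ≤ 8 :=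
    le_trans (Subgroup.card_le_of_le hCX) hX8
  have hnpos : 0 < Nat.card ↥(H ⊓ Subgroup.centralizer ({T} : Set G)) := Nat.card_pos
  by_contra hne
  have hn : Nat.card ↥(H ⊓ Subgroup.centralizer ({T} : Set G)) = 8 := by
    obtain ⟨c, hc⟩ := h4n
    omega
  have hCeq : H ⊓ Subgroup.centralizer ({T} : Set G) = H ⊓ Cq z T :=
    Subgroup.eq_of_le_of_card_ge hCX (by rw [hn]; exact hX8)
  have hX8' : Nat.card ↥(H ⊓ Cq z T) = 8 := by rw [← hCeq]; exact hn
  have hcmem : ∀ h ∈ H, T * h * T⁻¹ * h⁻¹ ∈ H ⊓ Cq z T := by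
    intro h hh
    have hcH : T * h * T⁻¹ * h⁻¹ ∈ H := H.mul_mem (hHn.conj_mem h hh T) (H.inv_mem hh)
    refine Subgroup.mem_inf.2 ⟨hcH, ?_⟩
    rw [mem_Cq, conj_comm_inv T h hT2, ← mul_inv_rev, ← pow_two]
    exact Subgroup.inv_mem _ (d.Z_mem (d.sq _ hcH))
  have hcsq : ∀ h ∈ H, (T * h * T⁻¹ * h⁻¹) ^ 2 = 1 := by
    intro h hh
    have h1 := hcmem h hh
    rw [← hCeq] at h1
    have hA := conj_comm_inv T h hT2
    obtain ⟨c, hc⟩ : ∃ c, c = T * h * T⁻¹ * h⁻¹ := ⟨_, rfl⟩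
    rw [← hc] at h1 hA ⊢
    have h2 : T * c = c * T := Subgroup.mem_centralizer_iff.1 (Subgroup.mem_inf.1 h1).2 T rfl
    have h3 : T * c * T⁻¹ = c := by rw [h2]; group
    rw [h3] at hA
    calc c ^ 2 = c * c := pow_two c
      _ = c * c⁻¹ := by rw [← hA]
      _ = 1 := mul_inv_cancel c
  have hπconj : ∀ a ∈ H, ∀ w ∈ H, (QuotientGroup.mk' (Subgroup.zpowers z)) (a * w * a⁻¹) =
      (QuotientGroup.mk' (Subgroup.zpowers z)) w := by
    intro a ha w hw
    rw [QuotientGroup.mk'_apply, QuotientGroup.mk'_apply, QuotientGroup.eq]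
    have h1 := d.comm a ha w⁻¹ (H.inv_mem hw)
    have h2 : (a * w * a⁻¹)⁻¹ * w = a * w⁻¹ * a⁻¹ * w⁻¹⁻¹ := by group
    rw [h2]; exact d.Z_mem h1
  let φ : ↥H →* G ⧸ Subgroup.zpowers z := MonoidHom.mk'
    (fun h => QuotientGroup.mk' (Subgroup.zpowers z) (T * (h : G) * T⁻¹ * (h : G)⁻¹)) (by
      intro a b
      have hcb : T * (b : G) * T⁻¹ * (b : G)⁻¹ ∈ H := (Subgroup.mem_inf.1 (hcmem b b.2)).1
      have h1 : T * ((a * b : ↥H) : G) * T⁻¹ * ((a * b : ↥H) : G)⁻¹ =
          (T * (a : G) * T⁻¹ * (a : G)⁻¹) *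
            ((a : G) * (T * (b : G) * T⁻¹ * (b : G)⁻¹) * (a : G)⁻¹) := by
        rw [Subgroup.coe_mul]; group
      show QuotientGroup.mk' _ (T * ((a * b : ↥H) : G) * T⁻¹ * ((a * b : ↥H) : G)⁻¹) = _
      rw [h1, map_mul, hπconj a a.2 _ hcb])
  have hφ : ∀ h : ↥H, φ h =
      QuotientGroup.mk' (Subgroup.zpowers z) (T * (h : G) * T⁻¹ * (h : G)⁻¹) := fun h => rfl
  have hker : φ.ker = (H ⊓ Cq z T).subgroupOf H := by
    ext h
    rw [MonoidHom.mem_ker, Subgroup.mem_subgroupOf, Subgroup.mem_inf, mem_Cq, hφ,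
      QuotientGroup.mk'_apply, QuotientGroup.eq_one_iff]
    exact ⟨fun hh => ⟨h.2, hh⟩, fun hh => hh.2⟩
  have hcardker : Nat.card φ.ker = 8 := by
    rw [hker, Nat.card_congr (Subgroup.subgroupOfEquivOfLe
      (inf_le_left : H ⊓ Cq z T ≤ H)).toEquiv, hX8']
  have hcardrange : Nat.card φ.range = 4 := by
    have h1 := Subgroup.card_mul_index φ.ker
    rw [Subgroup.index_ker, hcardker, d.card] at h1
    omega
  have hZX : Subgroup.zpowers z ≤ H ⊓ Cq z T := by
    rw [Subgroup.zpowers_le]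
    refine Subgroup.mem_inf.2 ⟨d.zH, ?_⟩
    rw [mem_Cq]
    have h1 : T * z * T⁻¹ * z⁻¹ = 1 := by rw [d.zc T]; group
    rw [h1]; exact Subgroup.one_mem _
  obtain ⟨M, hMdef⟩ : ∃ M : Subgroup (G ⧸ Subgroup.zpowers z),
      M = (H ⊓ Cq z T).map (QuotientGroup.mk' (Subgroup.zpowers z)) := ⟨_, rfl⟩
  have hM : Nat.card M = 4 := by
    have h1 := Cfsg.Agent.Lib.Lead.Hall.card_comap_mk (Subgroup.zpowers z) M
    rw [hMdef, QuotientGroup.comap_map_mk', sup_eq_right.2 hZX, hX8', d.cardZ, ← hMdef] at h1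
    omega
  have hrange_le : φ.range ≤ M := by
    rintro _ ⟨h, rfl⟩
    rw [hMdef]
    exact ⟨_, hcmem h h.2, rfl⟩
  have hrange_eq : φ.range = M :=
    Subgroup.eq_of_le_of_card_ge hrange_le (by rw [hM, hcardrange])
  have hexp : ∀ x ∈ H ⊓ Subgroup.centralizer ({T} : Set G), x ^ 2 = 1 := by
    intro x hx
    have hxX : x ∈ H ⊓ Cq z T := hCX hx
    have h1 : QuotientGroup.mk' (Subgroup.zpowers z) x ∈ M := by
      rw [hMdef]; exact ⟨x, hxX, rfl⟩
    rw [← hrange_eq] at h1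
    obtain ⟨h, hh⟩ := h1
    rw [hφ, QuotientGroup.mk'_apply, QuotientGroup.mk'_apply, QuotientGroup.eq] at hh
    obtain ⟨c, hc⟩ : ∃ c, c = T * (h : G) * T⁻¹ * (h : G)⁻¹ := ⟨_, rfl⟩
    have hc2 : c ^ 2 = 1 := by rw [hc]; exact hcsq h h.2
    rw [← hc] at hh
    rcases d.mem_Z hh with h3 | h3
    · have hx' : x = c := by
        calc x = c * (c⁻¹ * x) := by group
          _ = c := by rw [h3, mul_one]
      rw [hx']; exact hc2
    · have hx' : x = c * z := by
        calc x = c * (c⁻¹ * x) := by group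
          _ = c * z := by rw [h3]
      rw [hx', pow_two]
      calc c * z * (c * z) = c * (z * c) * z := by group
        _ = c * (c * z) * z := by rw [← d.zc c]
        _ = (c * c) * (z * z) := by group
        _ = 1 := by rw [d.zz, mul_one, ← pow_two, hc2]
  have hEA : Cfsg.IsElementaryAbelian 2 (H ⊓ Subgroup.centralizer ({T} : Set G)) := by
    refine ⟨⟨⟨fun a b => ?_⟩⟩, hexp⟩
    apply Subtype.ext
    have ha := hexp a a.2
    have hb := hexp b b.2
    have hab := hexp (a * b) (Subgroup.mul_mem _ a.2 b.2)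
    rw [pow_two] at ha hb hab
    show (a : G) * b = b * a
    calc (a : G) * b = a * (a * b * (a * b)) * b := by rw [hab, mul_one]
      _ = (a * a) * b * a * (b * b) := by group
      _ = b * a := by rw [ha, hb, one_mul, mul_one]
  have hfin := hminus _ inf_le_left hEA
  omega

end quot

/-- Let G be a finite group of order 320 = 64·5 whose largest normal 2-subgroup H = O₂(G) equals the Fitting subgroup F(G) and is extraspecial of order 32 containing no elementary abelian subgroup of order 8 (so H is the central product of a quaternion group and a dihedral group of order 8). If T is an involution of G outside H whose centralizer in H contains an elementary abelian subgroup of order 4, then C_H(T) itself is elementary abelian of order 4. -/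
theorem result {G : Type*} [Group G] [Finite G]
    (hG : Nat.card G = 320) (hHF : Cfsg.pCore 2 G = Cfsg.fittingSubgroup G)
    (hex : Cfsg.IsExtraspecial 2 ↥(Cfsg.pCore 2 G)) (h32 : Nat.card ↥(Cfsg.pCore 2 G) = 32)
    (hminus : ∀ A : Subgroup G, A ≤ Cfsg.pCore 2 G → Cfsg.IsElementaryAbelian 2 A → Nat.card ↥A ≤ 4)
    (T : G) (hT : orderOf T = 2) (hTH : T ∉ Cfsg.pCore 2 G)
    (V : Subgroup G) (hV : V ≤ Cfsg.pCore 2 G ⊓ Subgroup.centralizer ({T} : Set G)) (hV4 : Nat.card ↥V = 4) (hVe : Cfsg.IsElementaryAbelian 2 V) :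
    Nat.card ↥(Cfsg.pCore 2 G ⊓ Subgroup.centralizer ({T} : Set G)) = 4 ∧
      Cfsg.IsElementaryAbelian 2 (Cfsg.pCore 2 G ⊓ Subgroup.centralizer ({T} : Set G)) := by
  obtain ⟨z, d⟩ := exists_dat (Cfsg.pCore 2 G) hex h32
  have hcard := main (Cfsg.pCore 2 G) z d hG (fun N hN hp => le_sSup ⟨hN, hp⟩)
    (fun N hN hnil => by rw [hHF]; exact le_sSup ⟨hN, hnil⟩) hex.1.1 hminus T hT hTH V hV hV4
  refine ⟨hcard, ?_⟩
  have hVeq : V = Cfsg.pCore 2 G ⊓ Subgroup.centralizer ({T} : Set G) :=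
    Subgroup.eq_of_le_of_card_ge hV (by rw [hcard, hV4])
  rw [← hVeq]
  exact hVe

end Cfsg.Agent.S4405
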