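import Mathlib
import Cfsg.Statements.S4413
import Cfsg.Agent.Lib.Helper25.ExS5D

set_option autoImplicit false
open Cfsg

namespace Cfsg.Agent.S4413

/-- Let P be an extraspecial 2-group of order 32 with no elementary abelian subgroup of order 8 (the central product of a dihedral and a quaternion group of order 8). Then the inner automorphism group of P has order 16 and the outer automorphism group Aut(P)/Inn(P) is isomorphic to the symmetric group of degree 5; in particular Aut(P) has order 1920. -/
theorem result {P : Type*} [Group P] [Finite P]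
    (hex : Cfsg.IsExtraspecial 2 P) (h32 : Nat.card P = 32)
    (hminus : ∀ A : Subgroup P, Cfsg.IsElementaryAbelian 2 A → Nat.card ↥A ≤ 4)
    [(MulAut.conj : P →* MulAut P).range.Normal] :
    Nat.card ↥(MulAut.conj : P →* MulAut P).range = 16 ∧ Nat.card (MulAut P) = 1920 ∧
      Nonempty ((MulAut P ⧸ (MulAut.conj : P →* MulAut P).range) ≃* Equiv.Perm (Fin 5)) := by
  obtain ⟨z, hz⟩ := Cfsg.Agent.Lib.Helper25.ExS5.es_of_extraspecial hex
  have hE := Cfsg.Agent.Lib.Helper25.ExS5.noE8_of_hminus hminus
  obtain ⟨φ, hsurj, hker, hinn⟩ := Cfsg.Agent.Lib.Helper25.ExS5.main_hom hz h32 hE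
  have iso : (MulAut P ⧸ (MulAut.conj : P →* MulAut P).range) ≃* Equiv.Perm (Fin 5) :=
    (QuotientGroup.quotientMulEquivOfEq hker.symm).trans
      (QuotientGroup.quotientKerEquivOfSurjective φ hsurj)
  refine ⟨hinn, ?_, ⟨iso⟩⟩
  have h1 := Subgroup.card_eq_card_quotient_mul_card_subgroup
    (MulAut.conj : P →* MulAut P).range
  rw [h1, hinn, Nat.card_congr iso.toEquiv, Nat.card_eq_fintype_card, Fintype.card_perm,
    Fintype.card_fin]
  rfl

end Cfsg.Agent.S4413
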