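import Cfsg.Statements.S4750
import Cfsg.Agent.Lib.Helper1.CharReg
import Cfsg.Agent.Lib.Helper1.CharPRes
import Cfsg.Agent.Lib.Helper10.TISmall4

set_option autoImplicit false
open scoped Pointwise
open Cfsg

namespace Cfsg.Agent.S4750

open scoped BigOperators ComplexConjugate
open Cfsg.Agent.Lib.Helper1 Cfsg.Agent.Lib.Helper10.TISmall

/-- the averaging operator of a representation -/
noncomputable def avg {K : Type*} [Group K] [Fintype K] {n : ℕ}
    (σ : Representation ℂ K (Fin n → ℂ)) : (Fin n → ℂ) →ₗ[ℂ] (Fin n → ℂ) :=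
  (Nat.card K : ℂ)⁻¹ • ∑ g, σ g

theorem avg_apply {K : Type*} [Group K] [Fintype K] {n : ℕ}
    (σ : Representation ℂ K (Fin n → ℂ)) (v : Fin n → ℂ) :
    avg σ v = (Nat.card K : ℂ)⁻¹ • ∑ g, σ g v := by
  simp only [avg, LinearMap.smul_apply, LinearMap.sum_apply]

theorem avg_isProj {K : Type*} [Group K] [Fintype K] {n : ℕ}
    (σ : Representation ℂ K (Fin n → ℂ)) : LinearMap.IsProj σ.invariants (avg σ) := by
  have hcard : (Nat.card K : ℂ) ≠ 0 := Nat.cast_ne_zero.mpr Nat.card_pos.ne'
  constructor
  · intro v h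
    show σ h (avg σ v) = avg σ v
    rw [avg_apply, map_smul, map_sum]
    congr 1
    rw [← Equiv.sum_comp (Equiv.mulLeft h) (fun g => σ g v)]
    refine Finset.sum_congr rfl (fun g _ => ?_)
    simp [map_mul]
  · intro v hv
    rw [avg_apply]
    rw [Finset.sum_congr rfl (fun g _ => hv g)]
    rw [Finset.sum_const, Finset.card_univ, ← Nat.cast_smul_eq_nsmul ℂ, smul_smul,
      ← Nat.card_eq_fintype_card, inv_mul_cancel₀ hcard, one_smul]

theorem avg_comp {K : Type*} [Group K] [Fintype K] {n : ℕ}
    (σ : Representation ℂ K (Fin n → ℂ)) (h : K) (v : Fin n → ℂ) :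
    avg σ (σ h v) = avg σ v := by
  rw [avg_apply, avg_apply]
  congr 1
  rw [← Equiv.sum_comp (Equiv.mulRight h) (fun g => σ g v)]
  refine Finset.sum_congr rfl (fun g _ => ?_)
  simp [map_mul]

theorem avg_char {K : Type*} [Group K] [Fintype K] {n : ℕ}
    (σ : Representation ℂ K (Fin n → ℂ)) :
    (Nat.card K : ℂ)⁻¹ * ∑ g, σ.character g = (Module.finrank ℂ σ.invariants : ℂ) := by
  have htr := (avg_isProj σ).trace
  rw [← htr]
  simp only [avg, map_smul, map_sum, smul_eq_mul]
  rfl

/-- Let P be a Sylow p-subgroup of the finite group G that meets each conjugate g P g⁻¹ with g outside N_G(P) trivially, χ a character of G with χ(1)² ≤ |P|, and H a subgroup of G containing N_G(P). Then the inner product of χ with itself over G equals the inner product over H of the restriction of χ to H. -/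
theorem result {G : Type*} [Group G] [Fintype G] [DecidableEq G] (p : ℕ) [Fact p.Prime] (P : Sylow p G) (hTI : ∀ g : G, g ∉ Subgroup.normalizer ((P : Subgroup G) : Set G) → (P : Subgroup G) ⊓ (MulAut.conj g • (P : Subgroup G)) = ⊥) (χ : G → ℂ) (hχ : Cfsg.IsCharacter G χ) (hdeg : Cfsg.charDegree χ ^ 2 ≤ Nat.card ↥(P : Subgroup G)) (H : Subgroup G) [Fintype ↥H] (hH : Subgroup.normalizer ((P : Subgroup G) : Set G) ≤ H) : Cfsg.classInner χ χ = Cfsg.classInner (fun h : ↥H => χ h) (fun h : ↥H => χ h) := by
  classical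
  have hp : p.Prime := Fact.out
  have hψ : Cfsg.IsCharacter G (χ * fun g => conj (χ g)) :=
    IsCharacter.mul hχ (IsCharacter.conj hχ)
  obtain ⟨n, ρ, hρ⟩ := hψ
  have hρg : ∀ g, ρ.character g = χ g * conj (χ g) := fun g => congrFun hρ g
  let σ : Representation ℂ ↥H (Fin n → ℂ) := ρ.comp H.subtype
  have hG : Cfsg.classInner χ χ = (Module.finrank ℂ ρ.invariants : ℂ) := by
    rw [← avg_char ρ]
    unfold Cfsg.classInner
    congr 1
    exact Finset.sum_congr rfl (fun g _ => (hρg g).symm)
  have hHin : Cfsg.classInner (fun h : ↥H => χ h) (fun h : ↥H => χ h)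
      = (Module.finrank ℂ σ.invariants : ℂ) := by
    rw [← avg_char σ]
    unfold Cfsg.classInner
    congr 1
    exact Finset.sum_congr rfl (fun g _ => (hρg g).symm)
  rw [hG, hHin]
  -- the degree
  obtain ⟨d, hd⟩ := IsCharacter.degree_nat hχ
  have hdeg' : Cfsg.charDegree χ = d := charDegree_eq hd
  have hn : n = d ^ 2 := by
    have h1 : ρ.character 1 = (n : ℂ) := by
      rw [Representation.char_one]
      simp
    rw [hρg 1, hd] at h1
    have h2 : ((d ^ 2 : ℕ) : ℂ) = (n : ℂ) := by
      rw [← h1]
      simp [sq]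
    exact (Nat.cast_injective h2).symm
  have hnP : n ≤ Nat.card ↥(P : Subgroup G) := by
    rw [hn, ← hdeg']
    exact hdeg
  have hPpos : 0 < Nat.card ↥(P : Subgroup G) := Nat.card_pos
  -- invariants are nonzero unless `n = 0`
  have hapos : n ≠ 0 → Module.finrank ℂ ρ.invariants ≠ 0 := by
    intro hn0 ha
    have h1 : Cfsg.classInner χ χ = 0 := by rw [hG, ha]; simp
    unfold Cfsg.classInner at h1
    have hcard : (Nat.card G : ℂ) ≠ 0 := Nat.cast_ne_zero.mpr Nat.card_pos.ne'
    have h2 : ∑ g : G, χ g * conj (χ g) = 0 := by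
      rcases mul_eq_zero.mp h1 with h | h
      · exact absurd (inv_eq_zero.mp h) hcard
      · exact h
    have h3 : ∑ g : G, Complex.normSq (χ g) = 0 := by
      have h4 : ((∑ g : G, Complex.normSq (χ g) : ℝ) : ℂ) = 0 := by
        rw [← h2]
        push_cast
        exact Finset.sum_congr rfl (fun g _ => (Complex.mul_conj (χ g)).symm)
      exact_mod_cast h4
    have h5 := (Finset.sum_eq_zero_iff_of_nonneg (fun g _ => Complex.normSq_nonneg (χ g))).mp h3 1
      (Finset.mem_univ _)
    have h6 : χ 1 = 0 := Complex.normSq_eq_zero.mp h5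
    rw [hd] at h6
    have h7 : d = 0 := by exact_mod_cast h6
    rw [h7] at hn
    exact hn0 (by rw [hn]; norm_num)
  -- kernel of the averaging operator
  have hproj := avg_isProj ρ
  have hrange : LinearMap.range (avg ρ) = ρ.invariants := by
    apply le_antisymm
    · rintro _ ⟨v, rfl⟩
      exact hproj.map_mem v
    · intro v hv
      exact ⟨v, hproj.map_id v hv⟩
  have hdimker : Module.finrank ℂ (LinearMap.ker (avg ρ)) < Nat.card ↥(P : Subgroup G) := by
    have h1 := LinearMap.finrank_range_add_finrank_ker (avg ρ)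
    rw [hrange] at h1
    have h2 : Module.finrank ℂ (Fin n → ℂ) = n := by simp
    rw [h2] at h1
    by_cases hn0 : n = 0
    · omega
    · have := hapos hn0
      omega
  have heq : σ.invariants = ρ.invariants := by
    apply le_antisymm
    · intro v hv
      have hvH : ∀ h : ↥H, ρ h v = v := hv
      have hker : v - avg ρ v ∈ LinearMap.ker (avg ρ) := by
        rw [LinearMap.mem_ker, map_sub, hproj.map_id _ (hproj.map_mem v), sub_self]
      have h0 : v - avg ρ v = 0 := by
        refine key p P hTI ρ (LinearMap.ker (avg ρ)) ?_ hdimker ?_ (v - avg ρ v) hker ?_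
        · intro g w hw
          rw [LinearMap.mem_ker] at hw ⊢
          rw [avg_comp, hw]
        · intro w hw hwG
          rw [LinearMap.mem_ker] at hw
          rw [← hproj.map_id w hwG, hw]
        · intro g hg
          rw [map_sub, hvH ⟨g, hH hg⟩]
          congr 1
          exact hproj.map_mem v g
      rw [sub_eq_zero.mp h0]
      exact hproj.map_mem v
    · intro v hv h
      exact hv h
  rw [heq]

end Cfsg.Agent.S4750
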