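import Cfsg.Statements.S4464
import Cfsg.Agent.Lib.Helper1.CharReg
import Cfsg.Agent.Lib.Helper1.CharPRes
import Cfsg.Agent.Lib.Helper1.CharInt
import Cfsg.Agent.Lib.Helper1.CharInd
import Cfsg.Agent.Lib.Helper1.CharMisc
import Cfsg.Agent.Lib.Helper1.CharPElem
import Cfsg.Agent.Lib.Helper10.TISmall4
import Cfsg.Agent.S4750

set_option autoImplicit false
open Cfsg

namespace Cfsg.Agent.S4464

open scoped BigOperators ComplexConjugate
open Cfsg.Agent.Lib.Helper1 Cfsg.Agent.Lib.Helper10.TISmall

universe u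

/-- the small-degree hypothesis -/
def Hyp (p : ℕ) (G : Type*) [Group G] : Prop :=
  ∀ χ : Cfsg.IrrCharacter G, Cfsg.charDegree (χ : G → ℂ) < p

theorem hyp_subgroup {G : Type*} [Group G] [Finite G] {p : ℕ} (h : Hyp p G) (H : Subgroup G) :
    Hyp p ↥H := by
  classical
  haveI := Fintype.ofFinite G
  haveI : Fintype ↥H := Fintype.ofFinite _
  haveI : Fintype (Cfsg.IrrCharacter G) := irrFintype
  intro ψ
  have hπ : Cfsg.IsCharacter G (Cfsg.indFun H (ψ : H → ℂ)) :=
    indFun_isCharacter H (IsIrrCharacter.isCharacter ψ.2)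
  obtain ⟨m, hm1, hm2⟩ := IsCharacter.eq_sum_irr hπ
  obtain ⟨d, hd0, hd⟩ := IsIrrCharacter.degree_pos ψ.2
  have h1 : Cfsg.indFun H (ψ : H → ℂ) 1 ≠ 0 := by
    rw [indFun_one, hd]
    have : H.index ≠ 0 := Subgroup.index_ne_zero_of_finite
    exact mul_ne_zero (Nat.cast_ne_zero.mpr this) (Nat.cast_ne_zero.mpr hd0.ne')
  have h2 : ∃ χ : Cfsg.IrrCharacter G, m χ ≠ 0 := by
    by_contra hcon
    push_neg at hcon
    apply h1
    rw [hm2]
    simp [hcon]
  obtain ⟨χ, hχ⟩ := h2
  have h3 : Cfsg.classInner (Cfsg.indFun H (ψ : H → ℂ)) (χ : G → ℂ) ≠ 0 := by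
    rw [hm1 χ]
    exact Nat.cast_ne_zero.mpr hχ
  rw [frobenius_reciprocity H _
    (IsCharacter.isClassFunction (IsIrrCharacter.isCharacter χ.2))] at h3
  have h4 : Cfsg.classInner (fun h : H => (χ : G → ℂ) h) (ψ : H → ℂ) ≠ 0 := by
    rw [← classInner_conj_symm]
    intro h0
    apply h3
    have := congrArg (starRingEnd ℂ) h0
    simpa using this
  obtain ⟨e, he⟩ := IsCharacter.degree_nat (IsIrrCharacter.isCharacter χ.2)
  have h5 : d ≤ e := degree_le_of_classInner_ne_zero
    (IsCharacter.restrict (IsIrrCharacter.isCharacter χ.2) H) ψ.2 h4 hd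
    (show (χ : G → ℂ) ((1 : H) : G) = e by rw [Subgroup.coe_one]; exact he)
  have h6 := h χ
  rw [charDegree_eq he] at h6
  rw [charDegree_eq hd]
  omega

theorem hyp_quotient {G : Type*} [Group G] [Finite G] {p : ℕ} (h : Hyp p G) (D : Subgroup G)
    [D.Normal] : Hyp p (G ⧸ D) := by
  classical
  haveI := Fintype.ofFinite G
  haveI : Fintype (G ⧸ D) := Fintype.ofFinite _
  intro ψ
  have h1 := IsIrrCharacter.inflate D ψ.2
  have h2 := h ⟨_, h1⟩
  exact h2

theorem sylow_comm {G : Type*} [Group G] [Finite G] {p : ℕ} [Fact p.Prime] (h : Hyp p G)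
    (P : Sylow p G) :
    ∀ x ∈ (P : Subgroup G), ∀ y ∈ (P : Subgroup G), x * y = y * x := by
  classical
  have hp : p.Prime := Fact.out
  haveI : Fintype ↥(P : Subgroup G) := Fintype.ofFinite _
  have hP := hyp_subgroup h (P : Subgroup G)
  have hlin : ∀ χ : Cfsg.IrrCharacter ↥(P : Subgroup G),
      (χ : ↥(P : Subgroup G) → ℂ) 1 = 1 := by
    intro χ
    obtain ⟨n, ρ, hρ, hχ⟩ := χ.2
    haveI := hρ
    have h1 : Module.finrank ℂ (Fin n → ℂ) ∣ Nat.card ↥(P : Subgroup G) := degree_dvd_card ρ
    have h2 : Module.finrank ℂ (Fin n → ℂ) = n := by simp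
    rw [h2] at h1
    have h3 : (χ : ↥(P : Subgroup G) → ℂ) 1 = (n : ℂ) := by
      rw [← hχ, Representation.char_one]
      simp
    have h4 := hP χ
    rw [charDegree_eq h3] at h4
    obtain ⟨k, hk⟩ := (IsPGroup.iff_card.mp P.isPGroup')
    rw [hk] at h1
    obtain ⟨j, hj, rfl⟩ := (Nat.dvd_prime_pow hp).mp h1
    have hj0 : j = 0 := by
      by_contra hj0
      have h5 : p ^ 1 ≤ p ^ j := Nat.pow_le_pow_right hp.pos (Nat.one_le_iff_ne_zero.mpr hj0)
      rw [pow_one] at h5
      omega
    rw [h3, hj0]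
    simp
  intro x hx y hy
  have := abelian_of_all_linear hlin ⟨x, hx⟩ ⟨y, hy⟩
  exact congrArg Subtype.val this

open scoped Pointwise in
theorem normal_of_TI {G : Type*} [Group G] [Fintype G] (p : ℕ) [Fact p.Prime] (P : Sylow p G)
    (hTI : ∀ g : G, g ∉ Subgroup.normalizer ((P : Subgroup G) : Set G) →
      (P : Subgroup G) ⊓ (MulAut.conj g • (P : Subgroup G)) = ⊥)
    (hb : ∀ χ : Cfsg.IrrCharacter G,
      Cfsg.charDegree (χ : G → ℂ) < Nat.card (P : Subgroup G)) :
    Subgroup.normalizer ((P : Subgroup G) : Set G) = ⊤ := by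
  classical
  haveI : Fintype (Cfsg.IrrCharacter G) := irrFintype
  set N := Subgroup.normalizer ((P : Subgroup G) : Set G) with hNdef
  have hone : Cfsg.IsCharacter ↥N (fun _ => (1 : ℂ)) := isCharacter_one
  have hπ : Cfsg.IsCharacter G (Cfsg.indFun N (fun _ => (1 : ℂ))) := indFun_isCharacter N hone
  obtain ⟨m, hm1, hm2⟩ := IsCharacter.eq_sum_irr hπ
  let triv : Cfsg.IrrCharacter G := ⟨fun _ => 1, isIrrCharacter_one⟩
  have hNcard : (Nat.card ↥N : ℂ) ≠ 0 := Nat.cast_ne_zero.mpr Nat.card_pos.ne'
  have hm_triv : m triv = 1 := by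
    have h1 := hm1 triv
    rw [frobenius_reciprocity N _ (IsCharacter.isClassFunction isCharacter_one)] at h1
    have h2 : Cfsg.classInner (fun _ : ↥N => (1 : ℂ)) (fun h : ↥N => (triv : G → ℂ) h) = 1 := by
      unfold Cfsg.classInner
      simp only [triv, map_one, mul_one, Finset.sum_const, Finset.card_univ, nsmul_eq_mul]
      rw [← Nat.card_eq_fintype_card, inv_mul_cancel₀ hNcard]
    rw [h2] at h1
    exact_mod_cast h1.symm
  have hm_other : ∀ ξ : Cfsg.IrrCharacter G, ξ ≠ triv → m ξ = 0 := by
    intro ξ hξ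
    have h1 := hm1 ξ
    rw [frobenius_reciprocity N _
      (IsCharacter.isClassFunction (IsIrrCharacter.isCharacter ξ.2))] at h1
    obtain ⟨n, ρ, hρirr, hρ⟩ := ξ.2
    have hGinv : Module.finrank ℂ ρ.invariants = 0 := by
      have h2 := Cfsg.Agent.S4750.avg_char ρ
      have h3 : Cfsg.classInner (ξ : G → ℂ) (triv : G → ℂ) = 0 :=
        classInner_irr_ne ξ.2 triv.2 (fun h => hξ (Subtype.ext h))
      unfold Cfsg.classInner at h3
      have h4 : (Nat.card G : ℂ)⁻¹ * ∑ g, ρ.character g = 0 := by
        rw [← h3]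
        congr 1
        refine Finset.sum_congr rfl (fun g _ => ?_)
        rw [hρ]
        simp [triv]
      rw [h4] at h2
      exact_mod_cast h2.symm
    have hNinv : Module.finrank ℂ (Representation.invariants (ρ.comp N.subtype)) = 0 := by
      by_contra hne
      have hpos : 0 < Module.finrank ℂ (Representation.invariants (ρ.comp N.subtype)) := Nat.pos_of_ne_zero hne
      haveI := Module.finrank_pos_iff.mp hpos
      obtain ⟨v, hv0⟩ : ∃ v : Representation.invariants (ρ.comp N.subtype), v ≠ 0 := exists_ne 0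
      have hv : ∀ g ∈ N, ρ g v.1 = v.1 := fun g hg => v.2 ⟨g, hg⟩
      have h0 : (v : Fin n → ℂ) = 0 := by
        refine key p P hTI ρ ⊤ ?_ ?_ ?_ v.1 Submodule.mem_top hv
        · intro g w _
          exact Submodule.mem_top
        · rw [finrank_top]
          have h5 := hb ξ
          have h6 : (ξ : G → ℂ) 1 = (n : ℂ) := by
            rw [← hρ, Representation.char_one]
            simp
          rw [charDegree_eq h6] at h5
          simpa using h5
        · intro w _ hw
          have h7 : w ∈ ρ.invariants := hw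
          have h8 : ρ.invariants = ⊥ := Submodule.finrank_eq_zero.mp hGinv
          rw [h8] at h7
          exact (Submodule.mem_bot _).mp h7
      exact hv0 (Subtype.ext h0)
    have h5 : Cfsg.classInner (fun x : ↥N => ρ.character x) (fun _ => (1 : ℂ)) = 0 := by
      rw [classInner_restrict_one ρ N, hNinv]
      simp
    have h6 : Cfsg.classInner (fun _ : ↥N => (1 : ℂ)) (fun h : ↥N => (ξ : G → ℂ) h) = 0 := by
      rw [← classInner_conj_symm, ← hρ, h5]
      simp
    rw [h6] at h1
    exact_mod_cast h1.symm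
  have hπ1 : Cfsg.indFun N (fun _ => (1 : ℂ)) 1 = 1 := by
    rw [hm2]
    rw [Finset.sum_apply, Finset.sum_eq_single triv]
    · rw [hm_triv]
      simp [triv]
    · intro ξ _ hξ
      rw [hm_other ξ hξ]
      simp
    · intro h
      exact absurd (Finset.mem_univ _) h
  rw [indFun_one] at hπ1
  have h8 : N.index = 1 := by
    have : (N.index : ℂ) = 1 := by simpa using hπ1
    exact_mod_cast this
  exact Subgroup.index_eq_one.mp h8

open scoped Pointwise in
theorem sylow_normal_aux (p : ℕ) [Fact p.Prime] : ∀ (n : ℕ) (G : Type u) [Group G] [Finite G],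
    Nat.card G = n → Hyp p G → ∀ P : Sylow p G, (P : Subgroup G).Normal := by
  intro n
  induction n using Nat.strong_induction_on with
  | _ n ih =>
  intro G _ _ hn hG P
  classical
  haveI := Fintype.ofFinite G
  have hp : p.Prime := Fact.out
  by_cases hP1 : Nat.card (P : Subgroup G) = 1
  · have h1 : (P : Subgroup G) = ⊥ := Subgroup.card_eq_one.mp hP1
    rw [h1]
    infer_instance
  have hPge : p ≤ Nat.card (P : Subgroup G) := by
    obtain ⟨k, hk⟩ := IsPGroup.iff_card.mp P.isPGroup'
    rw [hk] at hP1 ⊢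
    have hk0 : k ≠ 0 := by
      rintro rfl
      simp at hP1
    calc p = p ^ 1 := (pow_one p).symm
      _ ≤ p ^ k := Nat.pow_le_pow_right hp.pos (Nat.one_le_iff_ne_zero.mpr hk0)
  have hTI : ∀ g : G, g ∉ Subgroup.normalizer ((P : Subgroup G) : Set G) →
      (P : Subgroup G) ⊓ (MulAut.conj g • (P : Subgroup G)) = ⊥ := by
    intro g hg
    by_contra hD
    set D : Subgroup G := (P : Subgroup G) ⊓ (MulAut.conj g • (P : Subgroup G)) with hDdef
    let Q : Sylow p G := g • P
    have hQ : (Q : Subgroup G) = MulAut.conj g • (P : Subgroup G) := Sylow.coe_subgroup_smul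
    have hPc := sylow_comm hG P
    have hQc := sylow_comm hG Q
    set C : Subgroup G := Subgroup.centralizer (D : Set G) with hCdef
    have hPC : (P : Subgroup G) ≤ C := by
      intro x hx
      rw [hCdef, Subgroup.mem_centralizer_iff]
      intro d hd
      exact hPc d hd.1 x hx
    have hQC : (Q : Subgroup G) ≤ C := by
      intro x hx
      rw [hCdef, Subgroup.mem_centralizer_iff]
      intro d hd
      have hd2 : d ∈ (Q : Subgroup G) := by
        rw [hQ]
        exact hd.2
      exact hQc d hd2 x hx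
    have hPQ : P ≠ Q := by
      intro h
      apply hg
      have h1 : g • P = P := h.symm
      exact Sylow.smul_eq_iff_mem_normalizer.mp h1
    by_cases hCtop : C = ⊤
    · have hDc : ∀ d ∈ D, ∀ x : G, x * d = d * x := by
        intro d hd x
        have hx : x ∈ C := by
          rw [hCtop]
          trivial
        rw [hCdef, Subgroup.mem_centralizer_iff] at hx
        exact (hx d hd).symm
      haveI hDn : D.Normal := ⟨fun d hd x => by
        have h1 : x * d * x⁻¹ = d := by
          rw [hDc d hd x]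
          group
        rw [h1]
        exact hd⟩
      have hcard : Nat.card (G ⧸ D) < n := by
        rw [← hn, Subgroup.card_eq_card_quotient_mul_card_subgroup D]
        have h1 : 1 < Nat.card D := (Subgroup.one_lt_card_iff_ne_bot D).mpr hD
        have h2 : 0 < Nat.card (G ⧸ D) := Nat.card_pos
        nlinarith
      have hsurj : Function.Surjective (QuotientGroup.mk' D) := QuotientGroup.mk'_surjective D
      have h3 := ih _ hcard (G ⧸ D) rfl (hyp_quotient hG D) (P.mapSurjective hsurj)
      rw [Sylow.coe_mapSurjective] at h3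
      have h4 : ((P : Subgroup G).map (QuotientGroup.mk' D)).comap (QuotientGroup.mk' D)
          = (P : Subgroup G) := by
        rw [Subgroup.comap_map_eq, QuotientGroup.ker_mk']
        exact sup_eq_left.mpr inf_le_left
      have h5 : (P : Subgroup G).Normal := by
        rw [← h4]
        exact h3.comap _
      apply hg
      rw [Subgroup.normalizer_eq_top_iff.mpr h5]
      trivial
    · have hcard : Nat.card ↥C < n := by
        rw [← hn]
        have h1 : Nat.card ↥C ≤ Nat.card G := Subgroup.card_le_card_group C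
        have h2 : Nat.card ↥C ≠ Nat.card G := fun h => hCtop ((Subgroup.card_eq_iff_eq_top C).mp h)
        omega
      have h3 := ih _ hcard ↥C rfl (hyp_subgroup hG C)
      haveI hP' := h3 (P.subtype hPC)
      have h4 : Q.subtype hQC = P.subtype hPC := by
        obtain ⟨c, hc⟩ := MulAction.exists_smul_eq ↥C (P.subtype hPC) (Q.subtype hQC)
        rw [← hc]
        exact Sylow.smul_eq_of_normal
      exact hPQ (Sylow.subtype_injective h4).symm
  have hN := normal_of_TI p P hTI (fun χ => lt_of_lt_of_le (hG χ) hPge)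
  exact Subgroup.normalizer_eq_top_iff.mp hN

/-- Let p be a prime and G a finite group all of whose irreducible character degrees are less than p. Then G has a normal abelian Sylow p-subgroup. -/
theorem result {G : Type*} [Group G] [Finite G] (p : ℕ) (hp : p.Prime) (hb : ∀ χ : Cfsg.IrrCharacter G, Cfsg.charDegree (χ : G → ℂ) < p) : ∃ P : Subgroup G, P.Normal ∧ (∀ x ∈ P, ∀ y ∈ P, x * y = y * x) ∧ IsPGroup p P ∧ ¬ p ∣ P.index := by
  haveI : Fact p.Prime := ⟨hp⟩
  obtain ⟨P⟩ : Nonempty (Sylow p G) := inferInstance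
  have hG : Hyp p G := hb
  have hn := sylow_normal_aux p (Nat.card G) G rfl hG P
  refine ⟨(P : Subgroup G), hn, sylow_comm hG P, P.isPGroup', ?_⟩
  exact P.not_dvd_index

end Cfsg.Agent.S4464
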