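import Mathlib
import Cfsg.Statements.S4517
import Cfsg.Agent.Lib.Helper6.RealCls
import Cfsg.Agent.Lib.Helper24.Defect

set_option autoImplicit false
open Cfsg

namespace Cfsg.Agent.S4517

/-- Let G be a finite group, M a maximal ideal of the algebraic integers containing 2, and k a natural number coprime to the order of G with g ^ k = g⁻¹ for every element g of odd order (so that g ↦ g ^ k induces a field automorphism of the character values inverting the roots of unity of odd order). If B is a 2-block of full defect (its defect equals the exponent of 2 in the order of G) that is stable under χ ↦ χ ∘ (· ^ k), then B is the principal 2-block. -/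
theorem result {G : Type*} [Group G] [Finite G] (M : Ideal Cfsg.AlgInt) (hM : Cfsg.IsPModular 2 M) (k : ℕ) (hk : Nat.Coprime k (Nat.card G)) (hk₂ : ∀ g : G, Odd (orderOf g) → g ^ k = g⁻¹) (B : Set (Cfsg.IrrCharacter G)) (hB : Cfsg.IsPBlock M B) (hdef : Cfsg.blockDefect 2 B = (Nat.card G).factorization 2) (hstab : ∀ χ ∈ B, ∃ ψ ∈ B, ∀ g : G, (ψ : G → ℂ) g = (χ : G → ℂ) (g ^ k)) : B = Cfsg.principalBlock M G := by
  classical
  haveI : Fintype G := Fintype.ofFinite G
  have hmax := hM.2.1
  obtain ⟨χ₀, hχ₀B, hht, -⟩ := Cfsg.Agent.Lib.Helper24.Defect.exists_height_zero 2 B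
    (Cfsg.Agent.Lib.Helper24.Defect.block_nonempty hmax B hB)
  rw [hdef] at hht
  have hfac : (charDegree (χ₀ : G → ℂ)).factorization 2 = 0 := by omega
  have hpos := (Cfsg.Agent.Lib.Helper24.Defect.charDegree_dvd_card χ₀).2
  have hoddd : Odd (charDegree (χ₀ : G → ℂ)) := by
    rcases (Nat.factorization_eq_zero_iff _ _).mp hfac with h | h | h
    · exact absurd Nat.prime_two h
    · exact Nat.not_even_iff_odd.mp (fun he => h (even_iff_two_dvd.mp he))
    · omega
  obtain ⟨ψ, hψB, hψ⟩ := hstab χ₀ hχ₀B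
  have hsb : SameBlock M (χ₀ : G → ℂ) (ψ : G → ℂ) :=
    Cfsg.Agent.Lib.Helper24.Defect.sameBlock_of_mem hmax B hB hχ₀B hψB
  have hmem : χ₀ ∈ principalBlock M G := by
    apply Cfsg.Agent.Lib.Helper6.mem_principalBlock_of_invol hM χ₀
    · intro g hg
      have h1 : centralChar (ψ : G → ℂ) g = centralChar (χ₀ : G → ℂ) g⁻¹ := by
        unfold centralChar
        rw [hψ g, hψ 1, one_pow, hk₂ g hg, Cfsg.Agent.Lib.Helper6.centralizer_singleton_inv]
      rw [← h1]
      exact hsb g
    · intro g hg
      exact Cfsg.Agent.Lib.Helper6.centralChar_mem_of_even_index hM χ₀ hoddd g hg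
  rw [Cfsg.Agent.Lib.Helper24.Defect.block_eq_blockOf hmax B hB hχ₀B]
  ext φ
  constructor
  · intro hφ
    exact Cfsg.Agent.Lib.Helper6.sameBlock_trans hmax hmem hφ
  · intro hφ
    exact Cfsg.Agent.Lib.Helper6.sameBlock_trans hmax
      (Cfsg.Agent.Lib.Helper6.sameBlock_symm hmem) hφ

end Cfsg.Agent.S4517
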