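import Mathlib
import Cfsg.Statements.S4490
import Cfsg.Agent.S4517
import Cfsg.Agent.S0908

set_option autoImplicit false
open Cfsg

namespace Cfsg.Agent.S4490

/-- Let G be a finite group and M a maximal ideal of the algebraic integers containing 2. Every 2-block B of G whose defect groups are the Sylow 2-subgroups of G (a block of full defect) and which is not the principal block is different from its complex-conjugate block, the block formed by the complex conjugates of the members of B. -/
theorem result {G : Type*} [Group G] [Finite G] (M : Ideal Cfsg.AlgInt) (hM : Cfsg.IsPModular 2 M) (B : Set (Cfsg.IrrCharacter G)) (hB : Cfsg.IsPBlock M B) (P : Sylow 2 G) (hfull : Cfsg.IsDefectGroup 2 M B (P : Subgroup G)) (hnp : B ≠ Cfsg.principalBlock M G) : {ψ : Cfsg.IrrCharacter G | ∃ χ ∈ B, (ψ : G → ℂ) = fun g => (starRingEnd ℂ) ((χ : G → ℂ) g)} ≠ B := by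
  classical
  haveI : Fact (Nat.Prime 2) := ⟨Nat.prime_two⟩
  intro hEq
  apply hnp
  have hmax := hM.2.1
  have hcard := Cfsg.Agent.S0908.result 2 M hM B hB (P : Subgroup G) hfull
  have hP : Nat.card (P : Subgroup G) = 2 ^ (Nat.card G).factorization 2 :=
    P.card_eq_multiplicity
  have hdef : blockDefect 2 B = (Nat.card G).factorization 2 := by
    rw [hcard] at hP
    exact Nat.pow_right_injective (le_refl 2) hP
  have hn : 0 < Nat.card G := Nat.card_pos
  have hpow : ∀ g : G, g ^ (Nat.card G - 1) = g⁻¹ := by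
    intro g
    have h1 : g ^ (Nat.card G - 1) * g = 1 := by
      rw [← pow_succ, Nat.sub_add_cancel hn, pow_card_eq_one']
    exact eq_inv_of_mul_eq_one_left h1
  apply Cfsg.Agent.S4517.result M hM (Nat.card G - 1) ?_ (fun g _ => hpow g) B hB hdef
  · intro χ hχ
    have h2 : χ ∈ {ψ : IrrCharacter G | ∃ χ ∈ B,
        (ψ : G → ℂ) = fun g => (starRingEnd ℂ) ((χ : G → ℂ) g)} := by
      rw [hEq]
      exact hχ
    obtain ⟨χ', hχ', heq⟩ := h2
    refine ⟨χ', hχ', ?_⟩
    intro g
    rw [hpow g, Cfsg.Agent.Lib.Helper24.CharBasic.char_inv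
      (Cfsg.Agent.Lib.Helper24.CharBasic.isCharacter_of_irr χ.2) g, heq]
    exact (Complex.conj_conj _).symm
  · obtain ⟨m, hm⟩ : ∃ m, Nat.card G = m + 1 := Nat.exists_eq_succ_of_ne_zero hn.ne'
    rw [hm, Nat.add_sub_cancel]
    exact (Nat.coprime_self_add_right).mpr (Nat.coprime_one_right m)

end Cfsg.Agent.S4490
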