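import Mathlib
import Cfsg.Statements.S4553
import Cfsg.Agent.Lib.Helper6.PRes2

set_option autoImplicit false
open Cfsg

namespace Cfsg.Agent.S4553

/-- Let G be a finite group, p a prime, P a Sylow p-subgroup, N the p-residual of G (the subgroup generated by the elements of order prime to p, the smallest normal subgroup with G/N a p-group), and M a maximal ideal of the algebraic integers containing p; suppose G/N is cyclic and nontrivial. Let k be a natural number with g ^ k = g ^ (1 + p) for every p-element g and g ^ k = g for every element g of order prime to p (so that χ (g ^ k) is the image of χ g under the field automorphism that raises p-power roots of unity to the power 1 + p and fixes the roots of unity of order prime to p). Then the number of members χ of the principal block of G of degree prime to p with χ (g ^ k) = χ g for all g equals p times the number of members θ of the principal block of N of degree prime to p that are invariant under conjugation by P and satisfy θ (n ^ k) = θ n for all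 n. -/
theorem result {G : Type*} [Group G] [Finite G] (p : ℕ) [Fact p.Prime] (M : Ideal Cfsg.AlgInt) (hM : Cfsg.IsPModular p M) (P : Sylow p G) (N : Subgroup G) [hN : N.Normal] (hNres : N = Cfsg.pResidual p G) (hcyc : IsCyclic (G ⧸ N)) (hnt : N ≠ ⊤) (k : ℕ) (hk₁ : ∀ g : G, (∃ j : ℕ, orderOf g = p ^ j) → g ^ k = g ^ (1 + p)) (hk₂ : ∀ g : G, Nat.Coprime (orderOf g) p → g ^ k = g) : Nat.card {χ : Cfsg.IrrCharacter G // χ ∈ Cfsg.principalBlock M G ∧ ¬ p ∣ Cfsg.charDegree (χ : G → ℂ) ∧ ∀ g : G, (χ : G → ℂ) (g ^ k) = (χ : G → ℂ) g} = p * Nat.card {θ : Cfsg.IrrCharacter ↥N // θ ∈ Cfsg.principalBlock M ↥N ∧ ¬ p ∣ Cfsg.charDegree (θ : ↥N → ℂ) ∧ (∀ x ∈ (P : Subgroup G), ∀ n : ↥N, (θ : ↥N → ℂ) ⟨x * n * x⁻¹, hN.conj_mem n n.2 x⟩ = (θ : ↥N → ℂ) n) ∧ ∀ n : ↥N, (θ : ↥N → ℂ) (n ^ k) = (θ : ↥N → ℂ) n} := by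
  classical
  obtain ⟨_⟩ := nonempty_fintype G
  haveI : Fintype N := Fintype.ofFinite N
  have hp' : p.Prime := Fact.out
  have hQ : IsPGroup p (G ⧸ N) := by
    subst hNres
    exact Cfsg.Agent.Lib.Helper16.Residual.quotient_pResidual_isPGroup hN
  obtain ⟨a, ha⟩ := hQ.exists_card_eq
  have hidx : N.index = p ^ a := by
    rw [Subgroup.index_eq_card]
    exact ha
  have hapos : 0 < a := by
    rcases Nat.eq_zero_or_pos a with h0 | h
    · exfalso
      apply hnt
      rw [h0, pow_zero] at hidx
      exact Subgroup.index_eq_one.mp hidx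
    · exact h
  have hPN : (P : Subgroup G) ⊔ N = ⊤ := by
    subst hNres
    exact Cfsg.Agent.Lib.Helper16.Residual.sylow_sup_pResidual_eq_top P
  have hlin : ∀ (ν : N →* ℂˣ) (y : N), ν y ^ (ordCompl[p] (Nat.card G)) = 1 := by
    subst hNres
    intro ν y
    have h1 := Cfsg.Agent.Lib.Helper1.pow_eq_one_of_mem_pResidual p ν y
    have h2 : ordCompl[p] (Nat.card ↥(Cfsg.pResidual p G)) ∣ ordCompl[p] (Nat.card G) :=
      Nat.ordCompl_dvd_ordCompl_of_dvd (Subgroup.card_subgroup_dvd_card _) p
    obtain ⟨t, ht⟩ := h2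
    rw [ht, pow_mul, h1, one_pow]
  exact Cfsg.Agent.Lib.Helper6.PRes.card_fixed p hM (P : Subgroup G) N hapos hidx hcyc hPN hlin
    hk₁ hk₂

end Cfsg.Agent.S4553
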