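import Cfsg.Statements.S4565
import Cfsg.Agent.Lib.Helper1.CharRamified
open Cfsg.Agent.Lib.Helper1 Representation
open scoped ComplexConjugate

set_option autoImplicit false
open Cfsg

namespace Cfsg.Agent.S4565

/-- Let χ be an irreducible character of the finite group H that is fully ramified over the normal subgroup Z: the restriction of χ to Z is e times an irreducible character of Z with e ^ 2 equal to the index of Z. If Z ≠ H, then H/Z has no cyclic subgroup that is its own centralizer. -/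
theorem result {H : Type*} [Group H] [Finite H] (Z : Subgroup H) [Z.Normal] (χ : Cfsg.IrrCharacter H) (hfr : ∃ (θ : Cfsg.IrrCharacter ↥Z) (e : ℕ), e ^ 2 = Z.index ∧ ∀ z : ↥Z, (χ : H → ℂ) z = (e : ℂ) * (θ : ↥Z → ℂ) z) (hZ : Z ≠ ⊤) (C : Subgroup (H ⧸ Z)) (hC : IsCyclic C) : Subgroup.centralizer (C : Set (H ⧸ Z)) ≠ C := by
  classical
  have hfin := Fintype.ofFinite H
  haveI : Fintype Z := Fintype.ofFinite _
  intro hcent
  obtain ⟨θ, e, he, hres⟩ := hfr
  obtain ⟨g, hg⟩ := hC.exists_generator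
  obtain ⟨c, hc⟩ := QuotientGroup.mk_surjective (g : H ⧸ Z)
  have hCpow : ∀ y ∈ C, ∃ i : ℤ, (g : H ⧸ Z) ^ i = y := by
    intro y hy
    obtain ⟨i, hi⟩ := Subgroup.mem_zpowers_iff.mp (hg ⟨y, hy⟩)
    exact ⟨i, by rw [← Subgroup.coe_zpow, hi]⟩
  obtain ⟨A, hA⟩ : ∃ A : Subgroup H, A = C.comap (QuotientGroup.mk' Z) := ⟨_, rfl⟩
  have hmemA : ∀ x : H, x ∈ A ↔ (x : H ⧸ Z) ∈ C := by
    intro x
    rw [hA]
    rfl
  have hZA : Z ≤ A := by
    intro z hz
    rw [hmemA, (QuotientGroup.eq_one_iff z).mpr hz]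
    exact C.one_mem
  have hcA : c ∈ A := by
    rw [hmemA, hc]
    exact g.2
  haveI : Fintype A := Fintype.ofFinite _
  by_cases hcZ : c ∈ Z
  · apply hZ
    rw [eq_top_iff]
    intro h _
    have hg1 : (g : H ⧸ Z) = 1 := by
      rw [← hc]
      exact (QuotientGroup.eq_one_iff c).mpr hcZ
    have hCbot : ∀ y ∈ C, y = 1 := by
      intro y hy
      obtain ⟨i, hi⟩ := hCpow y hy
      rw [← hi, hg1, one_zpow]
    have h1 : (h : H ⧸ Z) ∈ Subgroup.centralizer (C : Set (H ⧸ Z)) := by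
      rw [Subgroup.mem_centralizer_iff]
      intro y hy
      rw [hCbot y hy, one_mul, mul_one]
    rw [hcent] at h1
    exact (QuotientGroup.eq_one_iff h).mp (hCbot _ h1)
  · have hcyc : IsCyclic (A ⧸ Z.subgroupOf A) := by
      obtain ⟨f, hf⟩ : ∃ f : A →* C, ∀ a : A, ((f a : C) : H ⧸ Z) = ((a : H) : H ⧸ Z) :=
        ⟨{ toFun := fun a => ⟨((a : H) : H ⧸ Z), (hmemA a).mp a.2⟩
           map_one' := rfl
           map_mul' := fun a b => rfl }, fun a => rfl⟩
      have hker : Z.subgroupOf A ≤ f.ker := by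
        intro a ha
        rw [MonoidHom.mem_ker]
        apply Subtype.ext
        rw [hf]
        exact (QuotientGroup.eq_one_iff (a : H)).mpr (Subgroup.mem_subgroupOf.mp ha)
      apply isCyclic_of_injective (QuotientGroup.lift (Z.subgroupOf A) f hker)
      rw [injective_iff_map_eq_one]
      intro q hq
      obtain ⟨a, rfl⟩ := QuotientGroup.mk_surjective q
      rw [QuotientGroup.lift_mk] at hq
      rw [QuotientGroup.eq_one_iff, Subgroup.mem_subgroupOf]
      have h1 := congrArg (Subtype.val : C → H ⧸ Z) hq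
      rw [hf] at h1
      exact (QuotientGroup.eq_one_iff (a : H)).mp h1
    apply fully_ramified_aux Z χ.2 θ.2 e he hres A hZA hcyc c hcA hcZ
    intro x hx
    rw [hmemA, ← hcent, Subgroup.mem_centralizer_iff]
    intro y hy
    obtain ⟨i, hi⟩ := hCpow y hy
    have h1 : ((x⁻¹ * c * x * c⁻¹ : H) : H ⧸ Z) = 1 := (QuotientGroup.eq_one_iff _).mpr hx
    rw [QuotientGroup.mk_mul, QuotientGroup.mk_mul, QuotientGroup.mk_mul, QuotientGroup.mk_inv,
      QuotientGroup.mk_inv, hc] at h1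
    have h2 : (g : H ⧸ Z) * (x : H ⧸ Z) = (x : H ⧸ Z) * (g : H ⧸ Z) := by
      have h3 : (x : H ⧸ Z)⁻¹ * (g : H ⧸ Z) * (x : H ⧸ Z) = (g : H ⧸ Z) := by
        have := mul_inv_eq_one.mp h1
        exact this
      have h4 : (g : H ⧸ Z) * (x : H ⧸ Z) =
          (x : H ⧸ Z) * ((x : H ⧸ Z)⁻¹ * (g : H ⧸ Z) * (x : H ⧸ Z)) := by group
      rw [h4, h3]
    rw [← hi]
    exact ((Commute.zpow_left (show Commute (g : H ⧸ Z) (x : H ⧸ Z) from h2) i)).eq

end Cfsg.Agent.S4565
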