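import Mathlib
import Cfsg.Statements.S4580
import Cfsg.Agent.Lib.Helper6.Third
import Cfsg.Agent.Lib.Helper6.Conv
import Cfsg.Agent.Lib.Helper6.LocalRing
import Cfsg.Agent.Lib.Helper6.BlockVanish
import Cfsg.Agent.Lib.Helper1.CharDetExt
import Cfsg.Agent.Lib.Helper1.CharReg
import Cfsg.Agent.Lib.Helper24.CharBasic
import Cfsg.Agent.Lib.Helper25.CliffordExt

set_option autoImplicit false
open Cfsg

namespace Cfsg.Agent.S4580

/-- Let N be a normal subgroup of the finite group G, M a maximal ideal of the algebraic integers containing 2, and θ a real-valued irreducible character of N of odd degree that extends to G (some irreducible character of G restricts to θ). Then θ has an extension to G lying in the principal 2-block of G. -/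
theorem result {G : Type*} [Group G] [Finite G] (N : Subgroup G) [N.Normal] (M : Ideal Cfsg.AlgInt) (hM : Cfsg.IsPModular 2 M) (θ : Cfsg.IrrCharacter N) (hreal : ∀ n : N, ((θ : N → ℂ) n).im = 0) (hodd : Odd (Cfsg.charDegree (θ : N → ℂ))) (hext : ∃ η : Cfsg.IrrCharacter G, ∀ n : N, (η : G → ℂ) n = (θ : N → ℂ) n) :
    ∃ η : Cfsg.IrrCharacter G, (∀ n : N, (η : G → ℂ) n = (θ : N → ℂ) n) ∧ η ∈ Cfsg.principalBlock M G := by
  classical
  obtain ⟨_⟩ := nonempty_fintype G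
  haveI : Fintype N := Fintype.ofFinite N
  have hmax := hM.2.1
  obtain ⟨η, hηN⟩ := hext
  have hηc : Cfsg.IsIrrCharacter G (fun g => (starRingEnd ℂ) ((η : G → ℂ) g)) :=
    Cfsg.Agent.Lib.Helper1.IsIrrCharacter.conj η.2
  have hηcN : ∀ n : N, (fun g => (starRingEnd ℂ) ((η : G → ℂ) g)) n = (θ : N → ℂ) n := by
    intro n
    show (starRingEnd ℂ) ((η : G → ℂ) n) = (θ : N → ℂ) n
    rw [hηN n]
    exact Complex.conj_eq_iff_im.mpr (hreal n)
  obtain ⟨β, hβN, hβ⟩ := Cfsg.Agent.Lib.Helper1.gallagher_linear N θ.2 η.2 hηN hηc hηcN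
  have hβ' : ∀ g : G, (starRingEnd ℂ) ((η : G → ℂ) g) = (η : G → ℂ) g * ((β g : ℂˣ) : ℂ) := hβ
  obtain ⟨m, hm⟩ : ∃ m : ℕ, m = Nat.card G / 2 ^ (Nat.card G).factorization 2 := ⟨_, rfl⟩
  have hG0 : Nat.card G ≠ 0 := Nat.card_pos.ne'
  have hm2 : ¬ 2 ∣ m := by
    rw [hm]
    exact Nat.not_dvd_ordCompl Nat.prime_two hG0
  have hmdvd : ∀ u : G, ¬ 2 ∣ orderOf u → orderOf u ∣ m := by
    intro u hu
    have h1 : orderOf u ∣ 2 ^ (Nat.card G).factorization 2 * m := by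
      rw [hm, Nat.ordProj_mul_ordCompl_eq_self]
      exact orderOf_dvd_natCard u
    have hcop : Nat.Coprime (orderOf u) (2 ^ (Nat.card G).factorization 2) := by
      apply Nat.Coprime.pow_right
      exact (Nat.coprime_comm.mp ((Nat.Prime.coprime_iff_not_dvd Nat.prime_two).mpr hu))
    exact hcop.dvd_of_dvd_mul_left h1
  obtain ⟨c, hc⟩ : ∃ c : ℕ, 2 * c = m + 1 := by
    refine ⟨(m + 1) / 2, ?_⟩
    omega
  obtain ⟨η', hη'⟩ : ∃ η' : G → ℂ,
      η' = fun g => (((β ^ c) g : ℂˣ) : ℂ) * (η : G → ℂ) g := ⟨_, rfl⟩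
  have hη'irr : Cfsg.IsIrrCharacter G η' := by
    rw [hη']
    exact Cfsg.Agent.Lib.Helper25.CliffordExt.irr_mul_hom η.2 (β ^ c)
  have hη'val : ∀ g : G, η' g = ((β g : ℂˣ) : ℂ) ^ c * (η : G → ℂ) g := by
    intro g
    rw [hη']
    show (((β ^ c) g : ℂˣ) : ℂ) * (η : G → ℂ) g = _
    rw [MonoidHom.pow_apply, Units.val_pow_eq_pow_val]
  have hη'N : ∀ n : N, η' n = (θ : N → ℂ) n := by
    intro n
    rw [hη'val, hβN n, Units.val_one, one_pow, one_mul, hηN n]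
  have hreal' : ∀ u : G, ¬ 2 ∣ orderOf u → (starRingEnd ℂ) (η' u) = η' u := by
    intro u hu
    obtain ⟨z, hz⟩ : ∃ z : ℂ, z = ((β u : ℂˣ) : ℂ) := ⟨_, rfl⟩
    have hzm : z ^ m = 1 := by
      obtain ⟨k, hk⟩ := hmdvd u hu
      have h1 : (β u) ^ orderOf u = 1 := by
        rw [← map_pow, pow_orderOf_eq_one, map_one]
      rw [hz, ← Units.val_pow_eq_pow_val, hk, pow_mul, h1, one_pow, Units.val_one]
    have hz0 : z ≠ 0 := by
      rw [hz]
      exact Units.ne_zero _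
    have hm0 : m ≠ 0 := by
      intro h0
      rw [h0] at hm2
      exact hm2 (dvd_zero 2)
    have hnorm : ‖z‖ = 1 := Complex.norm_eq_one_of_pow_eq_one hzm hm0
    have hconj : (starRingEnd ℂ) z = z⁻¹ := (Complex.inv_eq_conj hnorm).symm
    rw [hη'val, ← hz, map_mul, map_pow, hconj, hβ' u, ← hz]
    have hzc : z ^ c ≠ 0 := pow_ne_zero c hz0
    apply mul_left_cancel₀ hzc
    have e1 : z ^ c * (z⁻¹ ^ c * ((η : G → ℂ) u * z)) = (η : G → ℂ) u * z := by
      rw [← mul_assoc, ← mul_pow, mul_inv_cancel₀ hz0, one_pow, one_mul]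
    have e2 : z ^ c * (z ^ c * (η : G → ℂ) u) = (η : G → ℂ) u * z := by
      rw [← mul_assoc, ← pow_add, ← two_mul, hc, pow_succ, hzm, one_mul, mul_comm]
    rw [e1, e2]
  refine ⟨⟨η', hη'irr⟩, hη'N, ?_⟩
  by_contra hnot
  have h0 := Cfsg.Agent.Lib.Helper6.sum_regular_eq_zero hM (⟨η', hη'irr⟩ : Cfsg.IrrCharacter G) hnot
  rw [Finset.sum_filter] at h0
  obtain ⟨w, hw⟩ : ∃ w : G → ℂ,
      w = fun x => if x ≠ 1 ∧ ¬ 2 ∣ orderOf x then η' x else 0 := ⟨_, rfl⟩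
  have h1 : ∑ x : G, (w x + if x = 1 then η' 1 else 0) = 0 := by
    refine (Finset.sum_congr rfl ?_).trans h0
    intro x _
    rw [hw]
    show ((if x ≠ 1 ∧ ¬ 2 ∣ orderOf x then η' x else 0) + if x = 1 then η' 1 else 0) = _
    by_cases hx : x = 1
    · subst hx
      have h2 : ¬ 2 ∣ orderOf (1 : G) := by
        rw [orderOf_one]
        norm_num
      rw [if_neg (by simp), if_pos rfl, if_pos h2, zero_add]
    · by_cases h2 : 2 ∣ orderOf x
      · rw [if_neg (fun h => h.2 h2), if_neg hx, if_neg (not_not.mpr h2), add_zero]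
      · rw [if_pos ⟨hx, h2⟩, if_neg hx, if_pos h2, add_zero]
  rw [Finset.sum_add_distrib, Finset.sum_ite_eq' Finset.univ (1 : G) (fun _ => η' 1),
    if_pos (Finset.mem_univ _)] at h1
  let act : MulAction ℤˣ G :=
    { smul := fun a x => x ^ ((a : ℤˣ) : ℤ)
      one_smul := fun x => by
        show x ^ (((1 : ℤˣ) : ℤˣ) : ℤ) = x
        simp
      mul_smul := fun a b x => by
        show x ^ (((a * b : ℤˣ)) : ℤ) = (x ^ ((b : ℤˣ) : ℤ)) ^ ((a : ℤˣ) : ℤ)
        rw [← zpow_mul, Units.val_mul, mul_comm] }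
  have hsm : ∀ (u : ℤˣ) (a : G), u • a = a ^ ((u : ℤˣ) : ℤ) := fun u a => rfl
  have hP : IsPGroup 2 ℤˣ := by
    apply IsPGroup.of_card (n := 1)
    rw [Nat.card_eq_fintype_card, Fintype.card_units_int, pow_one]
  have hwinv : ∀ a : G, w a⁻¹ = w a := by
    intro a
    rw [hw]
    show (if a⁻¹ ≠ 1 ∧ ¬ 2 ∣ orderOf a⁻¹ then η' a⁻¹ else 0) =
      (if a ≠ 1 ∧ ¬ 2 ∣ orderOf a then η' a else 0)
    rw [orderOf_inv]
    by_cases h : a ≠ 1 ∧ ¬ 2 ∣ orderOf a
    · have h' : a⁻¹ ≠ 1 ∧ ¬ 2 ∣ orderOf a := ⟨fun e => h.1 (inv_eq_one.mp e), h.2⟩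
      rw [if_pos h, if_pos h',
        Cfsg.Agent.Lib.Helper1.IsCharacter.inv
          (Cfsg.Agent.Lib.Helper1.IsIrrCharacter.isCharacter hη'irr) a, hreal' a h.2]
    · have h' : ¬ (a⁻¹ ≠ 1 ∧ ¬ 2 ∣ orderOf a) := fun e => h ⟨fun e1 => e.1 (inv_eq_one.mpr e1), e.2⟩
      rw [if_neg h, if_neg h']
  have hmem := Cfsg.Agent.Lib.Helper6.pgroup_sum_mem hM hP (α := G) w
    (by
      intro u a
      rw [hsm]
      rcases Int.units_eq_one_or u with rfl | rfl
      · simp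
      · have : a ^ (((-1 : ℤˣ) : ℤˣ) : ℤ) = a⁻¹ := by simp
        rw [this, hwinv])
    (by
      intro a
      rw [hw]
      show Cfsg.MemLocalRing M (if a ≠ 1 ∧ ¬ 2 ∣ orderOf a then η' a else 0)
      split_ifs
      · exact Cfsg.Agent.Lib.Helper6.memLocalRing_of_isIntegral hmax
          (Cfsg.Agent.Lib.Helper6.isIntegral_irr (⟨η', hη'irr⟩ : Cfsg.IrrCharacter G) a)
      · exact Cfsg.Agent.Lib.Helper6.memLocalRing_zero hmax)
    (by
      intro a ha
      have h2 : (-1 : ℤˣ) • a = a := ha (-1)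
      rw [hsm] at h2
      have h3 : a⁻¹ = a := by
        have : a ^ (((-1 : ℤˣ) : ℤˣ) : ℤ) = a⁻¹ := by simp
        rw [← this]; exact h2
      have h4 : a ^ 2 = 1 := by
        rw [pow_two]
        nth_rewrite 1 [← h3]
        exact inv_mul_cancel a
      rw [hw]
      show (if a ≠ 1 ∧ ¬ 2 ∣ orderOf a then η' a else 0) = 0
      rw [if_neg]
      rintro ⟨ha1, ha2⟩
      have h5 : orderOf a ∣ 2 := orderOf_dvd_of_pow_eq_one h4
      have h6 : orderOf a = 1 ∨ orderOf a = 2 := (Nat.dvd_prime Nat.prime_two).mp h5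
      rcases h6 with h6 | h6
      · exact ha1 (orderOf_eq_one_iff.mp h6)
      · exact ha2 (by rw [h6]))
  have h7 : η' 1 = -(∑ x : G, w x) := by
    rw [eq_neg_iff_add_eq_zero, add_comm]
    exact h1
  have h8 : η' 1 = ((Cfsg.charDegree (θ : N → ℂ) : ℕ) : ℂ) := by
    have := hη'N 1
    rw [Subgroup.coe_one] at this
    rw [this]
    exact Cfsg.Agent.Lib.Helper24.CharBasic.char_one_nat
      (Cfsg.Agent.Lib.Helper1.IsIrrCharacter.isCharacter θ.2)
  have h9 : Cfsg.MemLocalIdeal M (((Cfsg.charDegree (θ : N → ℂ) : ℕ) : ℂ)) := by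
    rw [← h8, h7]
    exact Cfsg.Agent.Lib.Helper6.MemLocalIdeal.neg hmem
  have h10 := (Cfsg.Agent.Lib.Helper6.memLocalIdeal_natCast_iff hM _).mp h9
  exact (Nat.not_even_iff_odd.mpr hodd) (even_iff_two_dvd.mpr h10)

end Cfsg.Agent.S4580
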