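import Mathlib
import Cfsg.Statements.S4583
import Cfsg.Agent.Lib.Helper6.PrimeDeg
import Cfsg.Agent.Lib.Helper6.Covering2

set_option autoImplicit false
open Cfsg

namespace Cfsg.Agent.S4583

/-- Let N be a normal subgroup of the finite group G, p a prime, M a maximal ideal of the algebraic integers containing p, and P a Sylow p-subgroup of G. Let θ be an irreducible character of N of degree prime to p lying in the principal p-block of N, and suppose θ extends to the subgroup NP (some irreducible character of NP restricts to θ). Then some irreducible character χ of G of degree prime to p in the principal p-block of G lies over θ (θ is a constituent of the restriction of χ to N). -/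
theorem result {G : Type*} [Group G] [Finite G] (N : Subgroup G) [N.Normal] (p : ℕ) [Fact p.Prime] (M : Ideal Cfsg.AlgInt) (hM : Cfsg.IsPModular p M) (P : Sylow p G)
    (θ : Cfsg.IrrCharacter N) (hθ : θ ∈ Cfsg.principalBlock M N) (hdeg : ¬ p ∣ Cfsg.charDegree (θ : N → ℂ))
    (hext : ∃ η : Cfsg.IrrCharacter ↥(N ⊔ (P : Subgroup G)), ∀ n : N, (η : ↥(N ⊔ (P : Subgroup G)) → ℂ) (Subgroup.inclusion le_sup_left n) = (θ : N → ℂ) n) :
    ∃ χ : Cfsg.IrrCharacter G, χ ∈ Cfsg.principalBlock M G ∧ ¬ p ∣ Cfsg.charDegree (χ : G → ℂ) ∧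
      haveI := Fintype.ofFinite N; Cfsg.classInner (fun n : N => (χ : G → ℂ) n) (θ : N → ℂ) ≠ 0 := by
  classical
  obtain ⟨_⟩ := nonempty_fintype G
  haveI hfN : Fintype N := Fintype.ofFinite N
  haveI hfH : Fintype ↥(N ⊔ (P : Subgroup G)) := Fintype.ofFinite _
  have hp := (Fact.out : p.Prime)
  have hmax := hM.2.1
  obtain ⟨η, hηN⟩ := hext
  have hidx : ¬ p ∣ (N ⊔ (P : Subgroup G)).index := by
    intro h
    exact P.not_dvd_index (dvd_trans h (Subgroup.index_dvd_of_le le_sup_right))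
  obtain ⟨k, hk⟩ : ∃ k : ℕ, (N.subgroupOf (N ⊔ (P : Subgroup G))).index = p ^ k := by
    have h1 : (N.subgroupOf (N ⊔ (P : Subgroup G))).index = N.relIndex (P : Subgroup G) :=
      Subgroup.relIndex_sup_left (K := N) (H := (P : Subgroup G))
    have h2 : N.relIndex (P : Subgroup G) ∣ Nat.card (P : Subgroup G) :=
      Subgroup.relIndex_dvd_card N (P : Subgroup G)
    obtain ⟨n, hn⟩ := IsPGroup.iff_card.mp P.isPGroup'
    rw [hn] at h2
    obtain ⟨j, -, hj⟩ := (Nat.dvd_prime_pow hp).mp h2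
    exact ⟨j, h1.trans hj⟩
  have hreg : ∀ h : ↥(N ⊔ (P : Subgroup G)), ¬ p ∣ orderOf h → (h : G) ∈ N := by
    intro h hh
    have := Cfsg.Agent.Lib.Helper6.mem_of_regular_of_index_pow hp
      (N.subgroupOf (N ⊔ (P : Subgroup G))) hk hh
    exact Subgroup.mem_subgroupOf.mp this
  have hS : ∑ x ∈ Finset.univ.filter (fun x : ↥(N ⊔ (P : Subgroup G)) => ¬ p ∣ orderOf x),
      (η : ↥(N ⊔ (P : Subgroup G)) → ℂ) x
      = ∑ n ∈ Finset.univ.filter (fun n : N => ¬ p ∣ orderOf n), (θ : N → ℂ) n := by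
    symm
    refine Finset.sum_nbij' (fun n : N => (Subgroup.inclusion le_sup_left n : ↥(N ⊔ (P : Subgroup G))))
      (fun h : ↥(N ⊔ (P : Subgroup G)) => if hh : (h : G) ∈ N then (⟨(h : G), hh⟩ : N) else 1)
      ?_ ?_ ?_ ?_ ?_
    · intro n hn
      rw [Finset.mem_filter] at hn ⊢
      refine ⟨Finset.mem_univ _, ?_⟩
      rw [orderOf_injective (Subgroup.inclusion (le_sup_left : N ≤ N ⊔ (P : Subgroup G)))
        (Subgroup.inclusion_injective _) n]
      exact hn.2
    · intro h hh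
      rw [Finset.mem_filter] at hh ⊢
      refine ⟨Finset.mem_univ _, ?_⟩
      rw [dif_pos (hreg h hh.2)]
      have e1 : orderOf (⟨(h : G), hreg h hh.2⟩ : N) = orderOf (h : G) :=
        (Subgroup.orderOf_coe (⟨(h : G), hreg h hh.2⟩ : N)).symm
      rw [e1, Subgroup.orderOf_coe]
      exact hh.2
    · intro n hn
      have hmem : ((Subgroup.inclusion (le_sup_left : N ≤ N ⊔ (P : Subgroup G)) n :
          ↥(N ⊔ (P : Subgroup G))) : G) ∈ N := n.2
      show (if hh : ((Subgroup.inclusion (le_sup_left : N ≤ N ⊔ (P : Subgroup G)) n :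
          ↥(N ⊔ (P : Subgroup G))) : G) ∈ N then (⟨_, hh⟩ : N) else 1) = n
      rw [dif_pos hmem]
      rfl
    · intro h hh
      rw [Finset.mem_filter] at hh
      show Subgroup.inclusion (le_sup_left : N ≤ N ⊔ (P : Subgroup G))
        (if hh' : (h : G) ∈ N then (⟨(h : G), hh'⟩ : N) else 1) = h
      rw [dif_pos (hreg h hh.2)]
      rfl
    · intro n hn
      exact (hηN n).symm
  have hθS := (Cfsg.Agent.Lib.Helper6.sum_regular_not_mem_iff hM θ).mpr ⟨hθ, hdeg⟩
  have hηB := (Cfsg.Agent.Lib.Helper6.sum_regular_not_mem_iff hM η).mp (by rw [hS]; exact hθS)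
  obtain ⟨χ, hχB, hχdeg, hχη⟩ := Cfsg.Agent.Lib.Helper6.exists_pprime_principal_over hM
    (N ⊔ (P : Subgroup G)) hidx η hηB.1 hηB.2
  refine ⟨χ, hχB, hχdeg, ?_⟩
  haveI : Fintype (Cfsg.IrrCharacter ↥(N ⊔ (P : Subgroup G))) := Cfsg.Agent.Lib.Helper1.irrFintype
  obtain ⟨m, hm1, hm2⟩ := Cfsg.Agent.Lib.Helper1.IsCharacter.eq_sum_irr
    (Cfsg.Agent.Lib.Helper1.IsCharacter.restrict
      (Cfsg.Agent.Lib.Helper1.IsIrrCharacter.isCharacter χ.2) (N ⊔ (P : Subgroup G)))
  have hk' : ∀ ψ : Cfsg.IrrCharacter ↥(N ⊔ (P : Subgroup G)), ∃ k : ℕ,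
      Cfsg.classInner (fun n : N => (ψ : ↥(N ⊔ (P : Subgroup G)) → ℂ)
        (Subgroup.inclusion le_sup_left n)) (θ : N → ℂ) = (k : ℂ) := by
    intro ψ
    exact Cfsg.Agent.Lib.Helper1.IsCharacter.classInner_nat
      (Cfsg.Agent.Lib.Helper1.IsCharacter.comp
        (Cfsg.Agent.Lib.Helper1.IsIrrCharacter.isCharacter ψ.2)
        (Subgroup.inclusion (le_sup_left : N ≤ N ⊔ (P : Subgroup G))))
      (Cfsg.Agent.Lib.Helper1.IsIrrCharacter.isCharacter θ.2)
  choose kk hkk using hk'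
  have hval : ∀ n : N, (χ : G → ℂ) n = ∑ ψ : Cfsg.IrrCharacter ↥(N ⊔ (P : Subgroup G)),
      (m ψ : ℂ) * (ψ : ↥(N ⊔ (P : Subgroup G)) → ℂ) (Subgroup.inclusion le_sup_left n) := by
    intro n
    have h1 := congrFun hm2 (Subgroup.inclusion (le_sup_left : N ≤ N ⊔ (P : Subgroup G)) n)
    rw [Finset.sum_apply] at h1
    exact h1
  have hexp : Cfsg.classInner (fun n : N => (χ : G → ℂ) n) (θ : N → ℂ) =
      ((∑ ψ : Cfsg.IrrCharacter ↥(N ⊔ (P : Subgroup G)), m ψ * kk ψ : ℕ) : ℂ) := by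
    rw [Nat.cast_sum]
    have h2 : ∀ ψ : Cfsg.IrrCharacter ↥(N ⊔ (P : Subgroup G)), ((m ψ * kk ψ : ℕ) : ℂ) =
        (m ψ : ℂ) * Cfsg.classInner (fun n : N => (ψ : ↥(N ⊔ (P : Subgroup G)) → ℂ)
        (Subgroup.inclusion le_sup_left n)) (θ : N → ℂ) := by
      intro ψ
      rw [hkk ψ, Nat.cast_mul]
    rw [Finset.sum_congr rfl (fun ψ _ => h2 ψ)]
    have hfun : (fun n : N => (χ : G → ℂ) n) = fun n : N =>
        ∑ ψ : Cfsg.IrrCharacter ↥(N ⊔ (P : Subgroup G)),
          (m ψ : ℂ) * (ψ : ↥(N ⊔ (P : Subgroup G)) → ℂ) (Subgroup.inclusion le_sup_left n) :=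
      funext hval
    rw [hfun]
    simp only [Cfsg.classInner, Finset.sum_mul, Finset.mul_sum]
    rw [Finset.sum_comm]
    apply Finset.sum_congr rfl
    intro ψ _
    apply Finset.sum_congr rfl
    intro n _
    ring
  have hfinal : Cfsg.classInner (fun n : N => (χ : G → ℂ) n) (θ : N → ℂ) ≠ 0 := by
    rw [hexp]
    have hmη : m η ≠ 0 := by
      intro h0
      apply hχη
      rw [hm1 η, h0, Nat.cast_zero]
    have hkη : kk η = 1 := by
      have h3 := hkk η
      have h4 : (fun n : N => (η : ↥(N ⊔ (P : Subgroup G)) → ℂ)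
          (Subgroup.inclusion le_sup_left n)) = (θ : N → ℂ) := funext hηN
      rw [h4, Cfsg.Agent.Lib.Helper1.classInner_irr_self θ.2] at h3
      exact_mod_cast h3.symm
    have hle : m η * kk η ≤ ∑ ψ : Cfsg.IrrCharacter ↥(N ⊔ (P : Subgroup G)), m ψ * kk ψ :=
      Finset.single_le_sum (f := fun ψ => m ψ * kk ψ) (fun _ _ => Nat.zero_le _) (Finset.mem_univ η)
    rw [hkη, mul_one] at hle
    have hpos : 0 < ∑ ψ : Cfsg.IrrCharacter ↥(N ⊔ (P : Subgroup G)), m ψ * kk ψ :=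
      lt_of_lt_of_le (Nat.pos_of_ne_zero hmη) hle
    exact_mod_cast hpos.ne'
  have hinst : hfN = Fintype.ofFinite N := Subsingleton.elim _ _
  subst hinst
  exact hfinal

end Cfsg.Agent.S4583
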