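import Cfsg.Statements.S4584
import Cfsg.Agent.S3190
import Mathlib

set_option autoImplicit false

namespace Cfsg.Agent.S4584

open scoped commutatorElement

variable {P : Type*} [Group P]

def cHom (hc : ∀ a b : P, a * b * a⁻¹ * b⁻¹ ∈ Subgroup.center P) (x : P) : P →* P where
  toFun g := x * g * x⁻¹ * g⁻¹
  map_one' := by simp
  map_mul' g h := by
    have h1 := Subgroup.mem_center_iff.mp (hc x h)
    have h2 := h1 g⁻¹
    calc x * (g * h) * x⁻¹ * (g * h)⁻¹ = x * g * x⁻¹ * ((x * h * x⁻¹ * h⁻¹) * g⁻¹) := by group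
      _ = x * g * x⁻¹ * (g⁻¹ * (x * h * x⁻¹ * h⁻¹)) := by rw [h2]
      _ = _ := by group

theorem cHom_apply (hc : ∀ a b : P, a * b * a⁻¹ * b⁻¹ ∈ Subgroup.center P) (x g : P) :
    cHom hc x g = x * g * x⁻¹ * g⁻¹ := rfl

theorem cHom_ker (hc : ∀ a b : P, a * b * a⁻¹ * b⁻¹ ∈ Subgroup.center P) (x : P) :
    (cHom hc x).ker = Subgroup.centralizer ({x} : Set P) := by
  ext g
  rw [MonoidHom.mem_ker, Subgroup.mem_centralizer_iff, cHom_apply]
  constructor
  · intro h y hy
    rw [Set.mem_singleton_iff] at hy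
    subst hy
    have e : y * g = (y * g * y⁻¹ * g⁻¹) * (g * y) := by group
    rw [e, h, one_mul]
  · intro h
    have h1 := h x rfl
    calc x * g * x⁻¹ * g⁻¹ = (x * g) * x⁻¹ * g⁻¹ := by group
      _ = (g * x) * x⁻¹ * g⁻¹ := by rw [h1]
      _ = 1 := by group

theorem comm_mem (a b : P) : a * b * a⁻¹ * b⁻¹ ∈ commutator P := by
  have h : ⁅a, b⁆ ∈ commutator P := by
    rw [commutator_def]
    exact Subgroup.commutator_mem_commutator (Subgroup.mem_top a) (Subgroup.mem_top b)
  rwa [commutatorElement_def] at h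

theorem card_pow [Finite P] (p : ℕ) [Fact p.Prime] (hP : Nat.card P = p ^ 4) (H : Subgroup P) :
    ∃ k, k ≤ 4 ∧ Nat.card H = p ^ k := by
  have h := Subgroup.card_subgroup_dvd_card H
  rw [hP] at h
  exact (Nat.dvd_prime_pow (Fact.out)).mp h

theorem card_lt [Finite P] {H K : Subgroup P} (h : H < K) : Nat.card H < Nat.card K := by
  by_contra hcon
  push Not at hcon
  exact h.ne (Subgroup.eq_of_le_of_card_ge h.le hcon)

theorem comm_of_index [Finite P] (p : ℕ) [Fact p.Prime]
    (hi : (Subgroup.center P).index = 1 ∨ (Subgroup.center P).index = p) :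
    ∀ a b : P, a * b = b * a := by
  have hcyc : IsCyclic (P ⧸ Subgroup.center P) := by
    rcases hi with hi | hi
    · rw [Subgroup.index_eq_card] at hi
      haveI := (Nat.card_eq_one_iff_unique.mp hi).1
      exact isCyclic_of_subsingleton
    · rw [Subgroup.index_eq_card] at hi
      exact isCyclic_of_prime_card hi
  exact commutative_of_cyclic_center_quotient (QuotientGroup.mk' (Subgroup.center P))
    (by rw [QuotientGroup.ker_mk'])

theorem comm_bot (h : ∀ a b : P, a * b = b * a) : commutator P = ⊥ := by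
  rw [eq_bot_iff, commutator_def, Subgroup.commutator_le]
  intro a _ b _
  rw [Subgroup.mem_bot, commutatorElement_def, h a b]
  group

theorem mem_cent_self (x : P) : x ∈ Subgroup.centralizer ({x} : Set P) := by
  rw [Subgroup.mem_centralizer_iff]
  intro h hh
  rw [Set.mem_singleton_iff] at hh
  rw [hh]

theorem mem_cent_iff (x g : P) : g ∈ Subgroup.centralizer ({x} : Set P) ↔ x * g = g * x := by
  rw [Subgroup.mem_centralizer_iff]
  constructor
  · intro h
    exact h x rfl
  · intro h y hy
    rw [Set.mem_singleton_iff] at hy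
    rw [hy]
    exact h

theorem cent_ne_top {x : P} (hx : x ∉ Subgroup.center P) :
    Subgroup.centralizer ({x} : Set P) ≠ ⊤ := by
  intro ht
  apply hx
  rw [Subgroup.mem_center_iff]
  intro g
  have hg : g ∈ Subgroup.centralizer ({x} : Set P) := ht ▸ Subgroup.mem_top g
  exact ((mem_cent_iff x g).mp hg).symm

theorem exists_not_mem {H : Subgroup P} (h : H ≠ ⊤) : ∃ x, x ∉ H := by
  by_contra hcon
  push Not at hcon
  exact h ((Subgroup.eq_top_iff' H).mpr hcon)

theorem dir1 [Finite P] (p : ℕ) [Fact p.Prime] (hP : Nat.card P = p ^ 4)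
    (h : Nat.card (commutator P) = p) : (Subgroup.center P).index = p ^ 2 := by
  have hp : p.Prime := Fact.out
  have hPG : IsPGroup p P := IsPGroup.of_card hP
  have hcZ : commutator P ≤ Subgroup.center P := by
    have hNb : commutator P ≠ ⊥ := by
      intro hb
      rw [hb, Subgroup.card_bot] at h
      exact hp.one_lt.ne h
    obtain ⟨w, hwN, hw1, hwc⟩ := Cfsg.Agent.S3190.normal_pgroup_fixed (⊤ : Subgroup P)
      (commutator P) (hPG.to_subgroup ⊤) le_top
      (fun g _ w hw => (inferInstance : (commutator P).Normal).conj_mem w hw g) hNb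
    have hz : Subgroup.zpowers w = commutator P := by
      apply Subgroup.eq_of_le_of_card_ge (Subgroup.zpowers_le.mpr hwN)
      rw [h, Nat.card_zpowers]
      have h1 : orderOf w ∣ p := by
        rw [← h]
        exact Subgroup.orderOf_dvd_natCard _ hwN
      rcases (Nat.dvd_prime hp).mp h1 with h2 | h2
      · exact absurd (orderOf_eq_one_iff.mp h2) hw1
      · exact h2.ge
    intro x hx
    rw [← hz] at hx
    obtain ⟨k, rfl⟩ := Subgroup.mem_zpowers_iff.mp hx
    rw [Subgroup.mem_center_iff]
    intro g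
    have hcomm : Commute g w := hwc g (Subgroup.mem_top g)
    exact (hcomm.zpow_right k).eq
  have hc : ∀ a b : P, a * b * a⁻¹ * b⁻¹ ∈ Subgroup.center P := fun a b => hcZ (comm_mem a b)
  have hidx : ∀ x : P, (Subgroup.centralizer ({x} : Set P)).index = 1 ∨
      (Subgroup.centralizer ({x} : Set P)).index = p := by
    intro x
    rw [← cHom_ker hc x, Subgroup.index_ker]
    have hle : (cHom hc x).range ≤ commutator P := by
      rintro _ ⟨g, rfl⟩
      rw [cHom_apply]
      exact comm_mem x g
    have h1 := Subgroup.card_dvd_of_le hle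
    rw [h] at h1
    exact (Nat.dvd_prime hp).mp h1
  have hidx' : ∀ x : P, x ∉ Subgroup.center P →
      Nat.card (Subgroup.centralizer ({x} : Set P)) = p ^ 3 := by
    intro x hx
    have h1 : (Subgroup.centralizer ({x} : Set P)).index = p := by
      rcases hidx x with h1 | h1
      · exact absurd (Subgroup.index_eq_one.mp h1) (cent_ne_top hx)
      · exact h1
    have h2 := Subgroup.card_mul_index (Subgroup.centralizer ({x} : Set P))
    rw [h1, hP] at h2
    have h4 : p ^ 4 = p ^ 3 * p := by ring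
    rw [h4] at h2
    exact Nat.eq_of_mul_eq_mul_right hp.pos h2
  have hnab : ¬ ∀ a b : P, a * b = b * a := by
    intro hab
    rw [comm_bot hab, Subgroup.card_bot] at h
    exact hp.one_lt.ne h
  obtain ⟨k, hk4, hk⟩ := card_pow p hP (Subgroup.center P)
  have hmi := Subgroup.card_mul_index (Subgroup.center P)
  rw [hk, hP] at hmi
  have hk0 : k ≠ 0 := by
    rintro rfl
    haveI : Nontrivial P := by
      rw [← Finite.one_lt_card_iff_nontrivial, hP]
      exact Nat.one_lt_pow (by norm_num) hp.one_lt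
    have hb := hPG.bot_lt_center
    have := card_lt hb
    rw [Subgroup.card_bot, hk] at this
    simp at this
  have hk3 : k ≠ 3 := by
    rintro rfl
    apply hnab
    apply comm_of_index p
    right
    have h4 : p ^ 4 = p ^ 3 * p := by ring
    rw [h4] at hmi
    exact Nat.eq_of_mul_eq_mul_left (pow_pos hp.pos 3) hmi
  have hk4' : k ≠ 4 := by
    rintro rfl
    apply hnab
    apply comm_of_index p
    left
    exact Nat.eq_of_mul_eq_mul_left (pow_pos hp.pos 4) (hmi.trans (mul_one _).symm)
  have hk1 : k ≠ 1 := by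
    rintro rfl
    have hZtop : Subgroup.center P ≠ ⊤ := by
      intro ht
      apply hnab
      intro a b
      have ha : a ∈ Subgroup.center P := ht ▸ Subgroup.mem_top a
      exact ((Subgroup.mem_center_iff.mp ha) b).symm
    obtain ⟨x, hx⟩ := exists_not_mem hZtop
    have hCx := hidx' x hx
    have hCxt := cent_ne_top hx
    obtain ⟨y, hy⟩ := exists_not_mem hCxt
    have hyZ : y ∉ Subgroup.center P := fun hyz => hy (Subgroup.center_le_centralizer _ hyz)
    have hCy := hidx' y hyZ
    have hxy : x * y ≠ y * x := fun e => hy ((mem_cent_iff x y).mpr e)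
    have hDidx : (Subgroup.centralizer ({x} : Set P) ⊓ Subgroup.centralizer ({y} : Set P)).index
        ≤ p * p := by
      have h1 := Subgroup.index_inf_le (H := Subgroup.centralizer ({x} : Set P))
        (K := Subgroup.centralizer ({y} : Set P))
      have hix : (Subgroup.centralizer ({x} : Set P)).index = p := by
        rcases hidx x with h1 | h1
        · exact absurd (Subgroup.index_eq_one.mp h1) hCxt
        · exact h1
      have hiy : (Subgroup.centralizer ({y} : Set P)).index = p := by
        rcases hidx y with h1 | h1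
        · exact absurd (Subgroup.index_eq_one.mp h1) (cent_ne_top hyZ)
        · exact h1
      rw [hix, hiy] at h1
      exact h1
    have hDcard : p ^ 2 ≤ Nat.card ↥(Subgroup.centralizer ({x} : Set P) ⊓
        Subgroup.centralizer ({y} : Set P)) := by
      have h1 := Subgroup.card_mul_index (Subgroup.centralizer ({x} : Set P) ⊓
        Subgroup.centralizer ({y} : Set P))
      rw [hP] at h1
      have h2 : p ^ 2 * (p * p) ≤ Nat.card ↥(Subgroup.centralizer ({x} : Set P) ⊓
          Subgroup.centralizer ({y} : Set P)) * (p * p) := by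
        calc p ^ 2 * (p * p) = p ^ 4 := by ring
          _ = _ := h1.symm
          _ ≤ _ := Nat.mul_le_mul_left _ hDidx
      exact Nat.le_of_mul_le_mul_right h2 (Nat.mul_pos hp.pos hp.pos)
    have hxD : x ∉ Subgroup.centralizer ({x} : Set P) ⊓ Subgroup.centralizer ({y} : Set P) := by
      intro hxd
      exact hxy ((mem_cent_iff y x).mp hxd.2).symm
    have hDlt : Subgroup.centralizer ({x} : Set P) ⊓ Subgroup.centralizer ({y} : Set P) <
        Subgroup.centralizer ({x} : Set P) :=
      lt_of_le_of_ne inf_le_left (fun e => hxD (by rw [e]; exact mem_cent_self x))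
    obtain ⟨d, hd4, hd⟩ := card_pow p hP (Subgroup.centralizer ({x} : Set P) ⊓
      Subgroup.centralizer ({y} : Set P))
    have hd2 : d = 2 := by
      have h1 := card_lt hDlt
      rw [hd, hCx] at h1
      rw [hd] at hDcard
      have h2 := (Nat.pow_lt_pow_iff_right hp.one_lt).mp h1
      have h3 := (Nat.pow_le_pow_iff_right hp.one_lt).mp hDcard
      omega
    subst hd2
    have hDab := IsPGroup.commutative_of_card_eq_prime_sq hd
    obtain ⟨w, hwD, hwZ⟩ : ∃ w, w ∈ Subgroup.centralizer ({x} : Set P) ⊓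
        Subgroup.centralizer ({y} : Set P) ∧ w ∉ Subgroup.center P := by
      by_contra hcon
      push Not at hcon
      have hle : Subgroup.centralizer ({x} : Set P) ⊓ Subgroup.centralizer ({y} : Set P) ≤
          Subgroup.center P := fun w hw => hcon w hw
      have h1 := Subgroup.card_le_of_le hle
      rw [hd, hk] at h1
      have h2 := (Nat.pow_le_pow_iff_right hp.one_lt).mp h1
      omega
    have hCw := hidx' w hwZ
    have hDU : Subgroup.centralizer ({x} : Set P) ⊓ Subgroup.centralizer ({y} : Set P) ≤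
        Subgroup.centralizer ({w} : Set P) ⊓ Subgroup.centralizer ({x} : Set P) := by
      intro g hg
      refine ⟨?_, hg.1⟩
      have := hDab ⟨w, hwD⟩ ⟨g, hg⟩
      exact (mem_cent_iff w g).mpr (congrArg Subtype.val this)
    have hxw : x * w = w * x := (mem_cent_iff x w).mp hwD.1
    have hyw : y * w = w * y := (mem_cent_iff y w).mp hwD.2
    have hxU : x ∈ Subgroup.centralizer ({w} : Set P) ⊓ Subgroup.centralizer ({x} : Set P) :=
      ⟨(mem_cent_iff w x).mpr hxw.symm, mem_cent_self x⟩
    have hDUlt : Subgroup.centralizer ({x} : Set P) ⊓ Subgroup.centralizer ({y} : Set P) <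
        Subgroup.centralizer ({w} : Set P) ⊓ Subgroup.centralizer ({x} : Set P) :=
      lt_of_le_of_ne hDU (fun e => hxD (by rw [e]; exact hxU))
    have hyU : y ∉ Subgroup.centralizer ({w} : Set P) ⊓ Subgroup.centralizer ({x} : Set P) :=
      fun hyu => hy hyu.2
    have hyCw : y ∈ Subgroup.centralizer ({w} : Set P) := (mem_cent_iff w y).mpr hyw.symm
    have hUlt : Subgroup.centralizer ({w} : Set P) ⊓ Subgroup.centralizer ({x} : Set P) <
        Subgroup.centralizer ({w} : Set P) :=
      lt_of_le_of_ne inf_le_left (fun e => hyU (by rw [e]; exact hyCw))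
    obtain ⟨u, hu4, hu⟩ := card_pow p hP (Subgroup.centralizer ({w} : Set P) ⊓
      Subgroup.centralizer ({x} : Set P))
    have h1 := card_lt hDUlt
    have h2 := card_lt hUlt
    rw [hd, hu] at h1
    rw [hu, hCw] at h2
    have h3 := (Nat.pow_lt_pow_iff_right hp.one_lt).mp h1
    have h4 := (Nat.pow_lt_pow_iff_right hp.one_lt).mp h2
    omega
  have hk2 : k = 2 := by omega
  subst hk2
  have h4 : p ^ 4 = p ^ 2 * p ^ 2 := by ring
  rw [h4] at hmi
  exact Nat.eq_of_mul_eq_mul_left (pow_pos hp.pos 2) hmi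

theorem dir2 [Finite P] (p : ℕ) [Fact p.Prime] (hP : Nat.card P = p ^ 4)
    (h : (Subgroup.center P).index = p ^ 2) : Nat.card (commutator P) = p := by
  have hp : p.Prime := Fact.out
  have hZc : Nat.card (Subgroup.center P) = p ^ 2 := by
    have h1 := Subgroup.card_mul_index (Subgroup.center P)
    rw [h, hP] at h1
    have h4 : p ^ 4 = p ^ 2 * p ^ 2 := by ring
    rw [h4] at h1
    exact Nat.eq_of_mul_eq_mul_right (pow_pos hp.pos 2) h1
  have hQ : Nat.card (P ⧸ Subgroup.center P) = p ^ 2 := by
    rw [← Subgroup.index_eq_card]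
    exact h
  have hQc := IsPGroup.commutative_of_card_eq_prime_sq hQ
  have hc : ∀ a b : P, a * b * a⁻¹ * b⁻¹ ∈ Subgroup.center P := by
    intro a b
    rw [← QuotientGroup.eq_one_iff]
    have e : ((a * b * a⁻¹ * b⁻¹ : P) : P ⧸ Subgroup.center P) =
        (a : P ⧸ Subgroup.center P) * b * (a : P ⧸ Subgroup.center P)⁻¹ *
          (b : P ⧸ Subgroup.center P)⁻¹ := rfl
    rw [e, hQc (a : P ⧸ Subgroup.center P) (b : P ⧸ Subgroup.center P)]
    group
  have hZtop : Subgroup.center P ≠ ⊤ := by
    intro ht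
    rw [ht, Subgroup.index_top] at h
    exact (Nat.one_lt_pow (by norm_num) hp.one_lt).ne h
  obtain ⟨x, hx⟩ := exists_not_mem hZtop
  have hcent : ∀ x : P, x ∉ Subgroup.center P → Nat.card (cHom hc x).range = p := by
    intro x hx
    rw [← Subgroup.index_ker, cHom_ker]
    have hlt1 : Subgroup.center P < Subgroup.centralizer ({x} : Set P) :=
      lt_of_le_of_ne (Subgroup.center_le_centralizer _)
        (fun e => hx (by rw [e]; exact mem_cent_self x))
    have hlt2 : Subgroup.centralizer ({x} : Set P) < ⊤ := lt_top_iff_ne_top.mpr (cent_ne_top hx)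
    obtain ⟨a, ha4, ha⟩ := card_pow p hP (Subgroup.centralizer ({x} : Set P))
    have h1 := card_lt hlt1
    have h2 := card_lt hlt2
    rw [hZc, ha] at h1
    rw [ha, Subgroup.card_top, hP] at h2
    have h3 := (Nat.pow_lt_pow_iff_right hp.one_lt).mp h1
    have h4 := (Nat.pow_lt_pow_iff_right hp.one_lt).mp h2
    have ha3 : a = 3 := by omega
    subst ha3
    have h5 := Subgroup.card_mul_index (Subgroup.centralizer ({x} : Set P))
    rw [ha, hP] at h5
    have h6 : p ^ 4 = p ^ 3 * p := by ring
    rw [h6] at h5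
    exact Nat.eq_of_mul_eq_mul_left (pow_pos hp.pos 3) h5
  have hrange : ∀ x g : P, x ∉ Subgroup.center P → x * g * x⁻¹ * g⁻¹ ≠ 1 →
      (cHom hc x).range = Subgroup.zpowers (x * g * x⁻¹ * g⁻¹) := by
    intro x g hx hne
    have hmem : x * g * x⁻¹ * g⁻¹ ∈ (cHom hc x).range := ⟨g, rfl⟩
    symm
    apply Subgroup.eq_of_le_of_card_ge (Subgroup.zpowers_le.mpr hmem)
    rw [hcent x hx, Nat.card_zpowers]
    have h1 : orderOf (x * g * x⁻¹ * g⁻¹) ∣ p := by
      rw [← hcent x hx]
      exact Subgroup.orderOf_dvd_natCard _ hmem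
    rcases (Nat.dvd_prime hp).mp h1 with h2 | h2
    · exact absurd (orderOf_eq_one_iff.mp h2) hne
    · exact h2.ge
  obtain ⟨y, hy⟩ := exists_not_mem (cent_ne_top hx)
  have hyZ : y ∉ Subgroup.center P := fun hyz => hy (Subgroup.center_le_centralizer _ hyz)
  have hxy : x * y ≠ y * x := fun e => hy ((mem_cent_iff x y).mpr e)
  obtain ⟨c, hcdef⟩ : ∃ c, c = x * y * x⁻¹ * y⁻¹ := ⟨_, rfl⟩
  have hc1 : c ≠ 1 := by
    intro h1
    apply hxy
    have e : x * y = c * (y * x) := by rw [hcdef]; group
    rw [e, h1, one_mul]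
  have hc' : y * x * y⁻¹ * x⁻¹ = c⁻¹ := by rw [hcdef]; group
  have hc'1 : y * x * y⁻¹ * x⁻¹ ≠ 1 := by
    rw [hc']
    exact inv_ne_one.mpr hc1
  have hRx : (cHom hc x).range = Subgroup.zpowers c := by
    rw [hcdef]
    exact hrange x y hx (hcdef ▸ hc1)
  have hRy : (cHom hc y).range = Subgroup.zpowers c := by
    rw [hrange y x hyZ hc'1, hc', Subgroup.zpowers_inv]
  obtain ⟨S, hS⟩ : ∃ S : Subgroup P, ∀ a : P, a ∈ S ↔
      ∀ b : P, b * a * b⁻¹ * a⁻¹ ∈ Subgroup.zpowers c := by
    refine ⟨⨅ b : P, (Subgroup.zpowers c).comap (cHom hc b), fun a => ?_⟩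
    simp only [Subgroup.mem_iInf, Subgroup.mem_comap, cHom_apply]
  have hxS : x ∈ S := by
    rw [hS]
    intro b
    have h1 : x * b * x⁻¹ * b⁻¹ ∈ Subgroup.zpowers c := by
      rw [← hRx]
      exact ⟨b, rfl⟩
    have e : b * x * b⁻¹ * x⁻¹ = (x * b * x⁻¹ * b⁻¹)⁻¹ := by group
    rw [e]
    exact Subgroup.inv_mem _ h1
  have hyS : y ∈ S := by
    rw [hS]
    intro b
    have h1 : y * b * y⁻¹ * b⁻¹ ∈ Subgroup.zpowers c := by
      rw [← hRy]
      exact ⟨b, rfl⟩
    have e : b * y * b⁻¹ * y⁻¹ = (y * b * y⁻¹ * b⁻¹)⁻¹ := by group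
    rw [e]
    exact Subgroup.inv_mem _ h1
  have hZS : Subgroup.center P ≤ S := by
    intro z hz
    rw [hS]
    intro b
    have h1 := (Subgroup.mem_center_iff.mp hz) b
    have e : b * z * b⁻¹ * z⁻¹ = 1 := by rw [h1]; group
    rw [e]
    exact Subgroup.one_mem _
  have hStop : S = ⊤ := by
    have hZU : Subgroup.center P < S ⊓ Subgroup.centralizer ({x} : Set P) :=
      lt_of_le_of_ne (le_inf hZS (Subgroup.center_le_centralizer _))
        (fun e => hx (by rw [e]; exact ⟨hxS, mem_cent_self x⟩))
    have hUS : S ⊓ Subgroup.centralizer ({x} : Set P) < S := by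
      refine lt_of_le_of_ne inf_le_left (fun e => hy ?_)
      have h1 : y ∈ S ⊓ Subgroup.centralizer ({x} : Set P) := by rw [e]; exact hyS
      exact h1.2
    obtain ⟨u, hu4, hu⟩ := card_pow p hP (S ⊓ Subgroup.centralizer ({x} : Set P))
    obtain ⟨s, hs4, hs⟩ := card_pow p hP S
    have h1 := card_lt hZU
    have h2 := card_lt hUS
    rw [hZc, hu] at h1
    rw [hu, hs] at h2
    have h3 := (Nat.pow_lt_pow_iff_right hp.one_lt).mp h1
    have h4 := (Nat.pow_lt_pow_iff_right hp.one_lt).mp h2
    have hs4' : s = 4 := by omega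
    rw [← Subgroup.card_eq_iff_eq_top, hs, hs4', hP]
  have hle : commutator P ≤ Subgroup.zpowers c := by
    rw [commutator_def, Subgroup.commutator_le]
    intro a _ b _
    rw [commutatorElement_def]
    have hb : b ∈ S := hStop ▸ Subgroup.mem_top b
    exact (hS b).mp hb a
  have hdvd := Subgroup.card_dvd_of_le hle
  rw [Nat.card_zpowers] at hdvd
  have hord : orderOf c = p := by
    have h1 : orderOf c ∣ p := by
      rw [← hcent x hx, hcdef]
      exact Subgroup.orderOf_dvd_natCard _ ⟨y, rfl⟩
    rcases (Nat.dvd_prime hp).mp h1 with h2 | h2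
    · exact absurd (orderOf_eq_one_iff.mp h2) hc1
    · exact h2
  rw [hord] at hdvd
  rcases (Nat.dvd_prime hp).mp hdvd with h1 | h1
  · exfalso
    have hb : commutator P = ⊥ := Subgroup.card_eq_one.mp h1
    have hcm : c ∈ commutator P := by rw [hcdef]; exact comm_mem x y
    rw [hb, Subgroup.mem_bot] at hcm
    exact hc1 hcm
  · exact h1

theorem result {P : Type*} [Group P] [Finite P] (p : ℕ) [Fact p.Prime] (hP : Nat.card P = p ^ 4) :
    Nat.card (commutator P) = p ↔ (Subgroup.center P).index = p ^ 2 := by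
  exact ⟨dir1 p hP, dir2 p hP⟩

end Cfsg.Agent.S4584
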