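import Cfsg.Statements.S4585
import Cfsg.Agent.S4584
import Cfsg.Agent.S3190
import Mathlib

set_option autoImplicit false

namespace Cfsg.Agent.S4585

open scoped commutatorElement
open Cfsg.Agent.S4584

variable {P : Type*} [Group P]

theorem normal_le_center [Finite P] (p : ℕ) [Fact p.Prime] (hPG : IsPGroup p P)
    (N : Subgroup P) [hN : N.Normal] (h : Nat.card N = p) : N ≤ Subgroup.center P := by
  have hp : p.Prime := Fact.out
  have hNb : N ≠ ⊥ := by
    intro hb
    rw [hb, Subgroup.card_bot] at h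
    exact hp.one_lt.ne h
  obtain ⟨w, hwN, hw1, hwc⟩ := Cfsg.Agent.S3190.normal_pgroup_fixed (⊤ : Subgroup P)
    N (hPG.to_subgroup ⊤) le_top (fun g _ w hw => hN.conj_mem w hw g) hNb
  have hz : Subgroup.zpowers w = N := by
    apply Subgroup.eq_of_le_of_card_ge (Subgroup.zpowers_le.mpr hwN)
    rw [h, Nat.card_zpowers]
    have h1 : orderOf w ∣ p := by
      rw [← h]
      exact Subgroup.orderOf_dvd_natCard _ hwN
    rcases (Nat.dvd_prime hp).mp h1 with h2 | h2
    · exact absurd (orderOf_eq_one_iff.mp h2) hw1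
    · exact h2.ge
  intro x hx
  rw [← hz] at hx
  obtain ⟨k, rfl⟩ := Subgroup.mem_zpowers_iff.mp hx
  rw [Subgroup.mem_center_iff]
  intro g
  have hcomm : Commute g w := hwc g (Subgroup.mem_top g)
  exact (hcomm.zpow_right k).eq

theorem comm_of_card_le_sq {R : Type*} [Group R] [Finite R] (p : ℕ) [Fact p.Prime] (b : ℕ)
    (hb : b ≤ 2) (hR : Nat.card R = p ^ b) : ∀ x y : R, x * y = y * x := by
  interval_cases b
  · rw [pow_zero] at hR
    have := (Nat.card_eq_one_iff_unique.mp hR).1
    intro x y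
    rw [Subsingleton.elim x y]
  · rw [pow_one] at hR
    have := isCyclic_of_prime_card hR
    intro x y
    exact (IsCyclic.commutative (α := R)).is_comm.comm x y
  · exact IsPGroup.commutative_of_card_eq_prime_sq hR

theorem card_quot_center {Q : Type*} [Group Q] [Finite Q] (p : ℕ) [Fact p.Prime] (a : ℕ)
    (hQ : Nat.card Q = p ^ a) :
    ∃ b, Nat.card (Q ⧸ Subgroup.center Q) = p ^ b ∧ b ≤ a ∧ (0 < a → b < a) := by
  have hp : p.Prime := Fact.out
  have hmi := Subgroup.card_mul_index (Subgroup.center Q)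
  rw [hQ, Subgroup.index_eq_card] at hmi
  have hd : Nat.card (Q ⧸ Subgroup.center Q) ∣ p ^ a := Dvd.intro_left _ hmi
  obtain ⟨b, hba, hb⟩ := (Nat.dvd_prime_pow hp).mp hd
  refine ⟨b, hb, hba, fun ha => ?_⟩
  rcases Nat.lt_or_ge b a with h1 | h1
  · exact h1
  · exfalso
    have hba' : b = a := le_antisymm hba h1
    rw [hb, hba'] at hmi
    have h2 : Nat.card (Subgroup.center Q) = 1 := by
      have h3 : Nat.card (Subgroup.center Q) * p ^ a = 1 * p ^ a := by rw [hmi, one_mul]
      exact Nat.eq_of_mul_eq_mul_right (pow_pos hp.pos a) h3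
    have hQG : IsPGroup p Q := IsPGroup.of_card hQ
    haveI : Nontrivial Q := by
      rw [← Finite.one_lt_card_iff_nontrivial, hQ]
      exact Nat.one_lt_pow (by omega) hp.one_lt
    have hb2 := hQG.bot_lt_center
    have h4 := card_lt hb2
    rw [Subgroup.card_bot, h2] at h4
    exact lt_irrefl _ h4

theorem class_le_three [Finite P] (p : ℕ) [Fact p.Prime] (hP : Nat.card P = p ^ 4) :
    Group.nilpotencyClass P ≤ 3 := by
  have h1 := Group.nilpotencyClass_quotient_center (G := P)
  have h2 := Group.nilpotencyClass_quotient_center (G := P ⧸ Subgroup.center P)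
  obtain ⟨a, ha, ha4, ha'⟩ := card_quot_center p 4 hP
  obtain ⟨b, hb, hba, hb'⟩ := card_quot_center p a ha
  have hb2 : b ≤ 2 := by
    have := ha' (by norm_num)
    rcases Nat.eq_zero_or_pos a with h0 | h0
    · omega
    · have := hb' h0
      omega
  have hcomm := comm_of_card_le_sq p b hb2 hb
  haveI : Group.IsNilpotent ((P ⧸ Subgroup.center P) ⧸ Subgroup.center (P ⧸ Subgroup.center P)) :=
    (IsPGroup.of_card hb).isNilpotent
  have h3 : Group.nilpotencyClass
      ((P ⧸ Subgroup.center P) ⧸ Subgroup.center (P ⧸ Subgroup.center P)) ≤ 1 := by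
    rw [Group.IsNilpotent.nilpotencyClass_le_one_iff]
    exact ⟨⟨hcomm⟩⟩
  omega

theorem class_le_two_iff [Finite P] (p : ℕ) [Fact p.Prime] (hP : Nat.card P = p ^ 4) :
    Group.nilpotencyClass P ≤ 2 ↔ commutator P ≤ Subgroup.center P := by
  haveI : Group.IsNilpotent P := (IsPGroup.of_card hP).isNilpotent
  rw [← Subgroup.lowerCentralSeries_eq_bot_iff_nilpotencyClass_le]
  rw [show (2 : ℕ) = 1 + 1 from rfl, Subgroup.lowerCentralSeries_succ,
    Subgroup.top_lowerCentralSeries_one, Subgroup.commutator_top_right_eq_bot_iff_le_center]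

theorem card_comm_le [Finite P] (p : ℕ) [Fact p.Prime] (hP : Nat.card P = p ^ 4)
    (hnab : ¬ ∀ a b : P, a * b = b * a) : ∃ m, m ≤ 2 ∧ Nat.card (commutator P) = p ^ m := by
  have hp : p.Prime := Fact.out
  have hPG : IsPGroup p P := IsPGroup.of_card hP
  have hmax : ∀ x : P, ∃ K : Subgroup P, Nat.card K = p ^ 3 ∧ x ∈ K := by
    intro x
    obtain ⟨n, hn4, hn⟩ := card_pow p hP (Subgroup.zpowers x)
    have hn3 : n ≤ 3 := by
      by_contra hcon
      have hn4' : n = 4 := by omega
      subst hn4'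
      apply hnab
      have htop : Subgroup.zpowers x = ⊤ := by
        rw [← Subgroup.card_eq_iff_eq_top, hn, hP]
      intro a b
      have ha : a ∈ Subgroup.zpowers x := htop ▸ Subgroup.mem_top a
      have hb : b ∈ Subgroup.zpowers x := htop ▸ Subgroup.mem_top b
      obtain ⟨i, rfl⟩ := Subgroup.mem_zpowers_iff.mp ha
      obtain ⟨j, rfl⟩ := Subgroup.mem_zpowers_iff.mp hb
      rw [← zpow_add, ← zpow_add, add_comm]
    have hdvd : p ^ 3 ∣ Nat.card P := by
      rw [hP]
      exact pow_dvd_pow p (by norm_num)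
    obtain ⟨K, hK, hle⟩ := Sylow.exists_subgroup_card_pow_prime_le p hdvd (Subgroup.zpowers x) hn hn3
    exact ⟨K, hK, hle (Subgroup.mem_zpowers x)⟩
  have hle : ∀ K : Subgroup P, Nat.card K = p ^ 3 → commutator P ≤ K := by
    intro K hK
    have hidx : K.index = p := by
      have h1 := Subgroup.card_mul_index K
      rw [hK, hP] at h1
      have h4 : p ^ 4 = p ^ 3 * p := by ring
      rw [h4] at h1
      exact Nat.eq_of_mul_eq_mul_left (pow_pos hp.pos 3) h1
    haveI hKn : K.Normal := by
      apply Subgroup.normal_of_index_eq_minFac_card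
      rw [hidx, hP, Nat.pow_minFac (by norm_num), hp.minFac_eq]
    have hQ : Nat.card (P ⧸ K) = p ^ 1 := by
      rw [← Subgroup.index_eq_card, hidx, pow_one]
    have hQc := comm_of_card_le_sq p 1 (by norm_num) hQ
    rw [commutator_def, Subgroup.commutator_le]
    intro a _ b _
    rw [commutatorElement_def, ← QuotientGroup.eq_one_iff]
    have e : ((a * b * a⁻¹ * b⁻¹ : P) : P ⧸ K) =
        (a : P ⧸ K) * b * (a : P ⧸ K)⁻¹ * (b : P ⧸ K)⁻¹ := rfl
    rw [e, hQc (a : P ⧸ K) (b : P ⧸ K)]
    group
  obtain ⟨M₁, hM₁, -⟩ := hmax 1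
  have hM₁top : M₁ ≠ ⊤ := by
    intro ht
    rw [ht, Subgroup.card_top, hP] at hM₁
    have := Nat.pow_right_injective hp.two_le hM₁
    omega
  obtain ⟨x, hx⟩ := exists_not_mem hM₁top
  obtain ⟨M₂, hM₂, hxM₂⟩ := hmax x
  have hlt : M₁ ⊓ M₂ < M₂ := by
    refine lt_of_le_of_ne inf_le_right (fun e => hx ?_)
    have h1 : x ∈ M₁ ⊓ M₂ := by rw [e]; exact hxM₂
    exact h1.1
  obtain ⟨m, hm4, hm⟩ := card_pow p hP (commutator P)
  refine ⟨m, ?_, hm⟩
  have h1 := Subgroup.card_le_of_le (le_inf (hle M₁ hM₁) (hle M₂ hM₂))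
  have h2 := card_lt hlt
  rw [hM₂] at h2
  rw [hm] at h1
  have h3 := lt_of_le_of_lt h1 h2
  have h4 := (Nat.pow_lt_pow_iff_right hp.one_lt).mp h3
  omega

theorem result {P : Type*} [Group P] [Finite P] (p : ℕ) [Fact p.Prime] (hP : Nat.card P = p ^ 4) :
    (commutator P).index = p ^ 2 ↔ Group.nilpotencyClass P = 3 := by
  have hp : p.Prime := Fact.out
  have hPG : IsPGroup p P := IsPGroup.of_card hP
  have h3 := class_le_three p hP
  have h2 := class_le_two_iff p hP
  constructor
  · intro h
    have hc : Nat.card (commutator P) = p ^ 2 := by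
      have h1 := Subgroup.card_mul_index (commutator P)
      rw [h, hP] at h1
      have h4 : p ^ 4 = p ^ 2 * p ^ 2 := by ring
      rw [h4] at h1
      exact Nat.eq_of_mul_eq_mul_right (pow_pos hp.pos 2) h1
    have hnab : ¬ ∀ a b : P, a * b = b * a := by
      intro hab
      rw [comm_bot hab, Subgroup.card_bot] at hc
      exact (Nat.one_lt_pow (by norm_num) hp.one_lt).ne hc
    have hn2 : ¬ Group.nilpotencyClass P ≤ 2 := by
      rw [h2]
      intro hle
      obtain ⟨k, hk4, hk⟩ := card_pow p hP (Subgroup.center P)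
      have h1 := Subgroup.card_le_of_le hle
      rw [hc, hk] at h1
      have hk2 := (Nat.pow_le_pow_iff_right hp.one_lt).mp h1
      have hmi := Subgroup.card_mul_index (Subgroup.center P)
      rw [hk, hP] at hmi
      have hk3 : k ≠ 3 := by
        rintro rfl
        apply hnab
        apply comm_of_index p
        right
        have h4 : p ^ 4 = p ^ 3 * p := by ring
        rw [h4] at hmi
        exact Nat.eq_of_mul_eq_mul_left (pow_pos hp.pos 3) hmi
      have hk4' : k ≠ 4 := by
        rintro rfl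
        apply hnab
        apply comm_of_index p
        left
        exact Nat.eq_of_mul_eq_mul_left (pow_pos hp.pos 4) (hmi.trans (mul_one _).symm)
      have hk2' : k = 2 := by omega
      subst hk2'
      have hidx : (Subgroup.center P).index = p ^ 2 := by
        have h4 : p ^ 4 = p ^ 2 * p ^ 2 := by ring
        rw [h4] at hmi
        exact Nat.eq_of_mul_eq_mul_left (pow_pos hp.pos 2) hmi
      have h5 := dir2 p hP hidx
      rw [hc] at h5
      have h6 : p ^ 2 = p ^ 1 := by rw [pow_one]; exact h5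
      have := Nat.pow_right_injective hp.two_le h6
      omega
    omega
  · intro h
    have hn2 : ¬ commutator P ≤ Subgroup.center P := by
      rw [← h2]
      omega
    have hnab : ¬ ∀ a b : P, a * b = b * a := by
      intro hab
      apply hn2
      rw [comm_bot hab]
      exact bot_le
    obtain ⟨m, hm2, hm⟩ := card_comm_le p hP hnab
    have hm0 : m ≠ 0 := by
      rintro rfl
      apply hn2
      rw [pow_zero] at hm
      rw [Subgroup.card_eq_one.mp hm]
      exact bot_le
    have hm1 : m ≠ 1 := by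
      rintro rfl
      rw [pow_one] at hm
      exact hn2 (normal_le_center p hPG (commutator P) hm)
    have hm2' : m = 2 := by omega
    subst hm2'
    have h1 := Subgroup.card_mul_index (commutator P)
    rw [hm, hP] at h1
    have h4 : p ^ 4 = p ^ 2 * p ^ 2 := by ring
    rw [h4] at h1
    exact Nat.eq_of_mul_eq_mul_left (pow_pos hp.pos 2) h1

end Cfsg.Agent.S4585
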