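import Mathlib
import Cfsg.Statements.S4604
import Cfsg.Agent.S0876
import Cfsg.Agent.Lib.Helper25.KGV

set_option autoImplicit false
open Cfsg

namespace Cfsg.Agent.S4604

open Cfsg.Agent.Lib.Helper1 Cfsg.Agent.Lib.Helper6

/-- The Frobenius congruence for a finite sum of algebraic integers. -/
theorem sum_pow_congr {ι : Type*} (p : ℕ) (hp : p.Prime) (n : ℕ) (s : Finset ι) (u : ι → ℂ)
    (hu : ∀ i ∈ s, IsIntegral ℤ (u i)) :
    ∃ γ : AlgInt, (∑ i ∈ s, u i) ^ (p ^ n) = ∑ i ∈ s, (u i) ^ (p ^ n) + (p : ℂ) * (γ : ℂ) := by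
  classical
  induction s using Finset.induction_on with
  | empty =>
    refine ⟨0, ?_⟩
    have hpn : p ^ n ≠ 0 := pow_ne_zero _ hp.ne_zero
    rw [Finset.sum_empty, Finset.sum_empty, zero_pow hpn]
    simp
  | insert a s ha ih =>
    obtain ⟨γ, hγ⟩ := ih (fun i hi => hu i (Finset.mem_insert_of_mem hi))
    have h1 : IsIntegral ℤ (u a) := hu a (Finset.mem_insert_self a s)
    have h2 : IsIntegral ℤ (∑ i ∈ s, u i) :=
      IsIntegral.sum _ (fun i hi => hu i (Finset.mem_insert_of_mem hi))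
    obtain ⟨r, hr⟩ := exists_add_pow_prime_pow_eq hp (⟨u a, h1⟩ : AlgInt)
      (⟨∑ i ∈ s, u i, h2⟩ : AlgInt) n
    have hr' := congrArg (fun z : AlgInt => (z : ℂ)) hr
    push_cast at hr'
    refine ⟨(⟨u a, h1⟩ : AlgInt) * (⟨∑ i ∈ s, u i, h2⟩ : AlgInt) * r + γ, ?_⟩
    rw [Finset.sum_insert ha, Finset.sum_insert ha, hr', hγ]
    push_cast
    ring

/-- Frobenius congruence for character values. -/
theorem char_pow_congr {G : Type*} [Group G] [Finite G] (p : ℕ) (hp : p.Prime) {χ : G → ℂ}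
    (hχ : IsCharacter G χ) (u v : G) (huv : Commute u v) (n : ℕ) (hu : u ^ (p ^ n) = 1) :
    ∃ γ : AlgInt, χ (u * v) ^ (p ^ n) - χ v ^ (p ^ n) = (p : ℂ) * (γ : ℂ) := by
  obtain ⟨d, ρ, rfl⟩ := hχ
  have hf : (ρ u) ^ (p ^ n) = 1 := by
    rw [← map_pow, hu, map_one]
  have hh : (ρ v) ^ (orderOf v) = 1 := by
    rw [← map_pow, pow_orderOf_eq_one, map_one]
  have hc : Commute (ρ u) (ρ v) := by
    show ρ u * ρ v = ρ v * ρ u
    rw [← map_mul, ← map_mul, huv.eq]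
  obtain ⟨s, t, h1, h2, h3, h4⟩ := Cfsg.Agent.Lib.Helper24.PSection.trace_sub_of_commute
    (ρ u) (ρ v) (p ^ n) (pow_pos hp.pos n) hf hc (orderOf v) (orderOf_pos v) hh
  have e1 : ρ.character (u * v) = ∑ μ ∈ s, μ * t μ := by
    rw [← h3]
    show LinearMap.trace ℂ _ (ρ (u * v)) = _
    rw [map_mul]
  have e2 : ρ.character v = ∑ μ ∈ s, t μ := by
    rw [← h4]
    rfl
  have hμint : ∀ μ ∈ s, IsIntegral ℤ μ := by
    intro μ hμ
    apply IsIntegral.of_pow (pow_pos hp.pos n)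
    rw [h1 μ hμ]
    exact isIntegral_one
  obtain ⟨γ1, hγ1⟩ := sum_pow_congr p hp n s (fun μ => μ * t μ)
    (fun μ hμ => IsIntegral.mul (hμint μ hμ) (h2 μ))
  obtain ⟨γ2, hγ2⟩ := sum_pow_congr p hp n s t (fun μ _ => h2 μ)
  refine ⟨γ1 - γ2, ?_⟩
  rw [e1, e2, hγ1, hγ2]
  have e3 : ∑ μ ∈ s, (μ * t μ) ^ (p ^ n) = ∑ μ ∈ s, (t μ) ^ (p ^ n) :=
    Finset.sum_congr rfl (fun μ hμ => by rw [mul_pow, h1 μ hμ, one_mul])
  rw [e3]
  push_cast
  ring

/-- Let G be a finite group, p a prime and p^a the p-part of the order of G. Let x, y ∈ G and let x′, y′ be their p-regular parts: x′ has order prime to p, commutes with x·x′⁻¹, and x·x′⁻¹ has p-power order (likewise for y). Then x′ and y′ are conjugate in G if and only if for every irreducible character χ of G the algebraic integer χ(x)^(p^a) − χ(y)^(p^a) is p times an algebraic integer. -/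
theorem result {G : Type*} [Group G] [Finite G] (p : ℕ) [Fact p.Prime] (x y x' y' : G)
    (hx : (∃ k : ℕ, orderOf (x * x'⁻¹) = p ^ k) ∧ Commute (x * x'⁻¹) x' ∧ ¬ p ∣ orderOf x')
    (hy : (∃ k : ℕ, orderOf (y * y'⁻¹) = p ^ k) ∧ Commute (y * y'⁻¹) y' ∧ ¬ p ∣ orderOf y') :
    IsConj x' y' ↔ ∀ χ : Cfsg.IrrCharacter G, ∃ γ : Cfsg.AlgInt,
      (χ : G → ℂ) x ^ (p ^ (Nat.card G).factorization p) - (χ : G → ℂ) y ^ (p ^ (Nat.card G).factorization p) = (p : ℂ) * (γ : ℂ) := by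
  classical
  have hp : p.Prime := Fact.out
  haveI : Fintype G := Fintype.ofFinite G
  obtain ⟨⟨k, hk⟩, hcx, hx'⟩ := hx
  obtain ⟨⟨l, hl⟩, hcy, hy'⟩ := hy
  obtain ⟨a, ha⟩ : ∃ a : ℕ, a = (Nat.card G).factorization p := ⟨_, rfl⟩
  rw [← ha]
  have hN0 : Nat.card G ≠ 0 := Nat.card_pos.ne'
  have hpow : ∀ (z : G) (j : ℕ), orderOf z = p ^ j → z ^ (p ^ a) = 1 := by
    intro z j hj
    have h1 : p ^ j ∣ Nat.card G := by rw [← hj]; exact orderOf_dvd_natCard z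
    have h2 : j ≤ a := by
      rw [ha]
      exact (Nat.Prime.pow_dvd_iff_le_factorization hp hN0).mp h1
    exact orderOf_dvd_iff_pow_eq_one.mp (by rw [hj]; exact pow_dvd_pow p h2)
  have ex : x = (x * x'⁻¹) * x' := by group
  have ey : y = (y * y'⁻¹) * y' := by group
  constructor
  · intro hconj χ
    have hχ := IsIrrCharacter.isCharacter χ.2
    obtain ⟨γ1, h1⟩ := char_pow_congr p hp hχ (x * x'⁻¹) x' hcx a (hpow _ k hk)
    obtain ⟨γ2, h2⟩ := char_pow_congr p hp hχ (y * y'⁻¹) y' hcy a (hpow _ l hl)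
    rw [← ex] at h1
    rw [← ey] at h2
    have h3 : (χ : G → ℂ) x' = (χ : G → ℂ) y' :=
      IsClassFunction.eq_of_isConj (IsCharacter.isClassFunction hχ) hconj
    refine ⟨γ1 - γ2, ?_⟩
    push_cast
    rw [mul_sub, ← h1, ← h2, h3]
    ring
  · intro hall
    obtain ⟨M, hM⟩ := Cfsg.Agent.Lib.Helper25.KGV.exists_pModular p hp
    have hmax := hM.2.1
    have hPx : IsPPart p x (x * x'⁻¹) := ⟨x', ex.symm, hcx, ⟨k, hk⟩, hx'⟩
    have hPy : IsPPart p y (y * y'⁻¹) := ⟨y', ey.symm, hcy, ⟨l, hl⟩, hy'⟩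
    have key := (Cfsg.Agent.S0876.result p M hM x y _ _ hPx hPy).mpr ?_
    · have e1 : (x * x'⁻¹)⁻¹ * x = x' := by group
      have e2 : (y * y'⁻¹)⁻¹ * y = y' := by group
      rwa [e1, e2] at key
    · intro χ
      obtain ⟨γ, hγ⟩ := hall χ
      obtain ⟨n, ρ, hρ, hρχ⟩ := χ.2
      have hix : IsIntegral ℤ ((χ : G → ℂ) x) := by
        rw [← hρχ]
        exact isIntegral_char ρ x
      have hiy : IsIntegral ℤ ((χ : G → ℂ) y) := by
        rw [← hρχ]
        exact isIntegral_char ρ y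
      obtain ⟨ux, hux⟩ : ∃ ux : AlgInt, (ux : ℂ) = (χ : G → ℂ) x := ⟨⟨_, hix⟩, rfl⟩
      obtain ⟨uy, huy⟩ : ∃ uy : AlgInt, (uy : ℂ) = (χ : G → ℂ) y := ⟨⟨_, hiy⟩, rfl⟩
      obtain ⟨r, hr⟩ := exists_add_pow_prime_pow_eq hp (ux - uy) uy a
      rw [sub_add_cancel] at hr
      have hmem : (ux - uy) ^ (p ^ a) ∈ M := by
        have e : (ux - uy) ^ (p ^ a) = (p : AlgInt) * (γ - (ux - uy) * uy * r) := by
          apply Subtype.ext
          have hr' := congrArg (fun z : AlgInt => (z : ℂ)) hr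
          rw [← hux, ← huy] at hγ
          push_cast at hr' ⊢
          linear_combination hγ - hr'
        rw [e]
        exact M.mul_mem_right _ hM.2.2
      have hmem2 := (Ideal.IsMaximal.isPrime hmax).mem_of_pow_mem _ hmem
      have h5 := memLocalIdeal_of_mem hmax hmem2
      rw [← hux, ← huy]
      exact_mod_cast h5

end Cfsg.Agent.S4604
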