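import Cfsg.Statements.S4657
import Cfsg.Agent.Lib.Helper24.Brauer

set_option autoImplicit false
open Cfsg

namespace Cfsg.Agent.S4657

open Cfsg.Agent.Lib.Helper1 Cfsg.Agent.Lib.Helper6 Cfsg.Agent.Lib.Helper24

theorem result {G : Type*} [Group G] [Fintype G] (p : ℕ) [Fact p.Prime] (M : Ideal Cfsg.AlgInt) (hM : Cfsg.IsPModular p M) (P : Subgroup G) (e : Set (Cfsg.IrrCharacter (Subgroup.centralizer (P : Set G)))) (hPe : Cfsg.IsBrauerPair p M P e) : ∃! B : Set (Cfsg.IrrCharacter G), Cfsg.IsBrauerPairOf p M B P e := by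
  classical
  have hmax := hM.2.1
  have hfin : Fintype (IrrCharacter G) := irrFintype
  obtain ⟨hP, he⟩ := hPe
  obtain ⟨ξ, hξ⟩ := Defect.block_nonempty hmax e he
  obtain ⟨χ, hχ⟩ := Brauer.global_key hM P hP ξ
  have hval : ∀ B : Set (IrrCharacter G), IsPBlock M B → ∀ ξ' ∈ e,
      MemLocalIdeal M (brauerOmega P (blockCoeff B)
        (ξ' : Subgroup.centralizer (P : Set G) → ℂ) - (if χ ∈ B then 1 else 0)) := by
    intro B hB ξ' hξ'
    have hS : SVal M (blockCoeff B) := fun g => osima' hmax B hB g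
    have h1 := hχ (blockCoeff B) (isClassFunction_blockCoeff B) hS
    rw [omega_blockCoeff] at h1
    have h2 := Brauer.brauerOmega_congr hmax P hS
      (Brauer.inv_of_isClassFunction (isClassFunction_blockCoeff B) _) e he hξ' hξ
    have h3 := MemLocalIdeal.add hmax h2 h1
    convert h3 using 1
    ring
  refine ⟨blockOf M (χ : G → ℂ), ⟨⟨hP, he⟩, ⟨χ, rfl⟩, ?_⟩, ?_⟩
  · intro ξ' hξ'
    have h := hval _ ⟨χ, rfl⟩ ξ' hξ'
    rwa [if_pos (mem_blockOf_self hmax χ)] at h
  · rintro B' ⟨_, hB', h3⟩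
    have h4 := hval B' hB' ξ hξ
    by_cases hmem : χ ∈ B'
    · exact Defect.block_eq_blockOf hmax B' hB' hmem
    · exfalso
      rw [if_neg hmem, sub_zero] at h4
      have h5 := MemLocalIdeal.sub hmax h4 (h3 ξ hξ)
      apply not_memLocalIdeal_one hmax
      convert h5 using 1
      ring

end Cfsg.Agent.S4657
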