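import Cfsg.Statements.S4742
import Cfsg.Agent.Lib.Helper24.ClassMult

set_option autoImplicit false
open Cfsg

namespace Cfsg.Agent.S4742

open Cfsg.Agent.Lib.Helper24.ClassMult
open Cfsg.Agent.Lib.Helper24.CharBasic

theorem result {G : Type*} [Group G] [Finite G] (p q : ℕ) [Fact p.Prime] [Fact q.Prime] (hppq : p ≠ q) (hpG : p ∣ Nat.card G) (hqG : q ∣ Nat.card G) (hC : ∀ g : G, g ≠ 1 → (∃ k : ℕ, orderOf g = p ^ k) → ¬ q ∣ Nat.card ↥(Subgroup.centralizer ({g} : Set G))) : (∃ χ : Cfsg.IrrCharacter G, (Cfsg.charDegree (χ : G → ℂ)).factorization p = (Nat.card G).factorization p) ∨ ∀ z : G, z ≠ 1 → (∃ k : ℕ, orderOf z = q ^ k) → ∃ g h : G, IsConj z g ∧ IsConj z h ∧ g * h⁻¹ ≠ 1 ∧ ∃ k : ℕ, orderOf (g * h⁻¹) = p ^ k := by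
  classical
  have hp : p.Prime := Fact.out
  have hq : q.Prime := Fact.out
  by_cases hsec : ∀ z : G, z ≠ 1 → (∃ k : ℕ, orderOf z = q ^ k) → ∃ g h : G, IsConj z g ∧ IsConj z h ∧ g * h⁻¹ ≠ 1 ∧ ∃ k : ℕ, orderOf (g * h⁻¹) = p ^ k
  · exact Or.inr hsec
  · left
    push Not at hsec
    obtain ⟨z, hz1, ⟨kz, hkz⟩, hz⟩ := hsec
    obtain ⟨P⟩ : Nonempty (Sylow p G) := inferInstance
    have hPcard : Nat.card (P : Subgroup G) = p ^ (Nat.card G).factorization p :=
      P.card_eq_multiplicity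
    have hno : ∀ w ∈ (P : Subgroup G), w ≠ 1 → ∀ a b : G,
        a * z * a⁻¹ * (b * z⁻¹ * b⁻¹) ≠ w := by
      intro w hw hw1 a b hab
      have e : b * z⁻¹ * b⁻¹ = (b * z * b⁻¹)⁻¹ := by group
      rw [e] at hab
      have h1 := hz (a * z * a⁻¹) (b * z * b⁻¹) (isConj_iff.mpr ⟨a, rfl⟩)
        (isConj_iff.mpr ⟨b, rfl⟩) (by rw [hab]; exact hw1)
      obtain ⟨k, hk⟩ := P.2 ⟨w, hw⟩
      have hk' : w ^ p ^ k = 1 := congrArg Subtype.val hk
      obtain ⟨j, _, hj⟩ := (Nat.dvd_prime_pow hp).mp (orderOf_dvd_of_pow_eq_one hk')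
      exact h1 j (by rw [hab]; exact hj)
    obtain ⟨χ, hχ⟩ := core p z (P : Subgroup G) _ hPcard hno
    have hcent : (Nat.card (Subgroup.centralizer ({z} : Set G))).factorization p = 0 := by
      apply Nat.factorization_eq_zero_of_not_dvd
      intro hdvd
      obtain ⟨y, hy⟩ := exists_prime_orderOf_dvd_card' (G := Subgroup.centralizer ({z} : Set G)) p hdvd
      have hy' : orderOf (y : G) = p := by rw [Subgroup.orderOf_coe]; exact hy
      have hy1 : (y : G) ≠ 1 := by
        intro h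
        rw [h, orderOf_one] at hy'
        exact hp.one_lt.ne hy'
      apply hC (y : G) hy1 ⟨1, by rw [hy', pow_one]⟩
      have hzc : z ∈ Subgroup.centralizer ({(y : G)} : Set G) := by
        rw [Subgroup.mem_centralizer_singleton_iff]
        have := Subgroup.mem_centralizer_singleton_iff.mp y.2
        exact this.symm
      have h1 : orderOf z ∣ Nat.card (Subgroup.centralizer ({(y : G)} : Set G)) := by
        have h2 : orderOf (⟨z, hzc⟩ : Subgroup.centralizer ({(y : G)} : Set G)) = orderOf z :=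
          Subgroup.orderOf_mk z hzc
        rw [← h2]
        exact orderOf_dvd_natCard _
      have hkz0 : kz ≠ 0 := by
        intro h0
        rw [h0, pow_zero] at hkz
        exact hz1 (orderOf_eq_one_iff.mp hkz)
      rw [hkz] at h1
      exact (dvd_pow_self q hkz0).trans h1
    rw [hcent, Nat.sub_zero] at hχ
    refine ⟨χ, ?_⟩
    have hfin : Fintype G := Fintype.ofFinite G
    obtain ⟨n, hn1, hn2, hn3⟩ := Cfsg.Agent.Lib.Helper1.IsIrrCharacter.degree_dvd_card χ.2
    have hn : charDegree (χ : G → ℂ) = n := by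
      have h1 := char_one_nat (isCharacter_of_irr χ.2)
      rw [hn1] at h1
      exact_mod_cast h1.symm
    rw [hn] at hχ ⊢
    apply le_antisymm
    · exact (Nat.factorization_le_iff_dvd hn3.ne' Nat.card_pos.ne').mpr hn2 p
    · exact (hp.pow_dvd_iff_le_factorization hn3.ne').mp hχ

end Cfsg.Agent.S4742
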