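import Cfsg.Statements.S4743
import Cfsg.Agent.Lib.Helper1.CharDefZero
open Cfsg.Agent.Lib.Helper1

set_option autoImplicit false
open Cfsg

namespace Cfsg.Agent.S4743

/-- Let p ≠ q be primes dividing the order of the finite group G, suppose the centralizer of every non-identity p-element has order prime to q, and suppose G is p-solvable or q-solvable. Then G has an irreducible character of p-defect zero or an irreducible character of q-defect zero. -/
theorem result {G : Type*} [Group G] [Finite G] (p q : ℕ) [Fact p.Prime] [Fact q.Prime] (hppq : p ≠ q) (hpG : p ∣ Nat.card G) (hqG : q ∣ Nat.card G) (hC : ∀ g : G, g ≠ 1 → (∃ k : ℕ, orderOf g = p ^ k) → ¬ q ∣ Nat.card ↥(Subgroup.centralizer ({g} : Set G))) (hsolv : Cfsg.IsPSolvable p G ∨ Cfsg.IsPSolvable q G) : (∃ χ : Cfsg.IrrCharacter G, (Cfsg.charDegree (χ : G → ℂ)).factorization p = (Nat.card G).factorization p) ∨ (∃ χ : Cfsg.IrrCharacter G, (Cfsg.charDegree (χ : G → ℂ)).factorization q = (Nat.card G).factorization q) := by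
  have hno : ∀ a b : G, orderOf a = p → orderOf b = q → a * b ≠ b * a := by
    intro a b ha hb hab
    have ha1 : a ≠ 1 := by
      intro h; rw [h, orderOf_one] at ha; exact (Fact.out : p.Prime).one_lt.ne' ha.symm
    apply hC a ha1 ⟨1, by rw [ha, pow_one]⟩
    have hbc : b ∈ Subgroup.centralizer ({a} : Set G) := by
      rw [Subgroup.mem_centralizer_iff]
      intro h hh
      rw [Set.mem_singleton_iff] at hh
      rw [hh]; exact hab
    have := orderOf_dvd_natCard (⟨b, hbc⟩ : Subgroup.centralizer ({a} : Set G))
    rwa [Subgroup.orderOf_mk, hb] at this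
  rcases hsolv with h | h
  · exact defzero_psolv p q hppq hpG hno h
  · exact (defzero_psolv q p hppq.symm hqG (fun a b ha hb hab => hno b a hb ha hab.symm) h).symm

end Cfsg.Agent.S4743
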