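import Cfsg.Statements.S4744
import Cfsg.Agent.S4742

set_option autoImplicit false
open Cfsg

namespace Cfsg.Agent.S4744

open Subgroup
open scoped Pointwise

theorem inverts_of_fpf {G : Type*} [Group G] (Q : Subgroup G) [Finite Q] (t : G)
    (ht : t * t = 1) (hnorm : ∀ u ∈ Q, t * u * t⁻¹ ∈ Q)
    (hfpf : ∀ u ∈ Q, t * u * t⁻¹ = u → u = 1) :
    (∀ u ∈ Q, t * u * t⁻¹ = u⁻¹) ∧ ∀ u ∈ Q, ∀ v ∈ Q, u * v = v * u := by
  let φ : Q → Q := fun u =>
    ⟨u.1⁻¹ * (t * u.1 * t⁻¹), Q.mul_mem (Q.inv_mem u.2) (hnorm u.1 u.2)⟩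
  have hinj : Function.Injective φ := by
    intro u v h
    have h1 : u.1⁻¹ * (t * u.1 * t⁻¹) = v.1⁻¹ * (t * v.1 * t⁻¹) := congrArg Subtype.val h
    have h2 : t * (v.1 * u.1⁻¹) * t⁻¹ = v.1 * u.1⁻¹ := by
      have h3 : v.1 * u.1⁻¹ = (t * v.1 * t⁻¹) * (t * u.1 * t⁻¹)⁻¹ := by
        calc v.1 * u.1⁻¹ = v.1 * (u.1⁻¹ * (t * u.1 * t⁻¹)) * (t * u.1 * t⁻¹)⁻¹ := by group
          _ = v.1 * (v.1⁻¹ * (t * v.1 * t⁻¹)) * (t * u.1 * t⁻¹)⁻¹ := by rw [h1]
          _ = (t * v.1 * t⁻¹) * (t * u.1 * t⁻¹)⁻¹ := by group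
      have h4 : t * (v.1 * u.1⁻¹) * t⁻¹ = (t * v.1 * t⁻¹) * (t * u.1 * t⁻¹)⁻¹ := by group
      rw [h4, ← h3]
    have h3 := hfpf (v.1 * u.1⁻¹) (Q.mul_mem v.2 (Q.inv_mem u.2)) h2
    exact Subtype.ext (mul_inv_eq_one.mp h3).symm
  have hsurj := Finite.surjective_of_injective hinj
  have htinv : t⁻¹ = t := inv_eq_of_mul_eq_one_left ht
  have hinv : ∀ u ∈ Q, t * u * t⁻¹ = u⁻¹ := by
    intro w hw
    obtain ⟨u, hu⟩ := hsurj ⟨w, hw⟩
    have hw' : w = u.1⁻¹ * (t * u.1 * t⁻¹) := (congrArg Subtype.val hu).symm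
    rw [hw', htinv]
    have e1 : t * (u.1⁻¹ * (t * u.1 * t)) * t = t * u.1⁻¹ * t * u.1 * (t * t) := by group
    have e2 : (u.1⁻¹ * (t * u.1 * t))⁻¹ = t⁻¹ * u.1⁻¹ * t⁻¹ * u.1 := by group
    rw [e1, e2, ht, htinv, mul_one]
  refine ⟨hinv, ?_⟩
  intro u hu v hv
  have h1 := hinv (u * v) (Q.mul_mem hu hv)
  have h2 : t * (u * v) * t⁻¹ = (t * u * t⁻¹) * (t * v * t⁻¹) := by group
  rw [h2, hinv u hu, hinv v hv, mul_inv_rev] at h1
  have h3 : (u⁻¹ * v⁻¹)⁻¹ = (v⁻¹ * u⁻¹)⁻¹ := by rw [h1]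
  simp only [mul_inv_rev, inv_inv] at h3
  exact h3.symm

theorem exists_invariant_sylow {G : Type*} [Group G] [Finite G] (p : ℕ) [Fact p.Prime]
    (C : Subgroup G) (hodd : Odd (Nat.card C)) (t : G) (ht : t * t = 1)
    (hnorm : ∀ c ∈ C, t * c * t⁻¹ ∈ C) :
    ∃ Q : Subgroup G, Q ≤ C ∧ IsPGroup p Q ∧ (∀ u ∈ Q, t * u * t⁻¹ ∈ Q) ∧
      (∀ R : Subgroup G, R ≤ C → IsPGroup p R → Q ≤ R → R ≤ Q) ∧
      Nat.card Q = p ^ (Nat.card C).factorization p := by
  classical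
  have h2 : Fact (Nat.Prime 2) := ⟨Nat.prime_two⟩
  have htinv : t⁻¹ = t := inv_eq_of_mul_eq_one_left ht
  let σ : MulAut C :=
    { toFun := fun c => ⟨t * c.1 * t⁻¹, hnorm c.1 c.2⟩
      invFun := fun c => ⟨t * c.1 * t⁻¹, hnorm c.1 c.2⟩
      left_inv := fun c => Subtype.ext (by
        show t * (t * c.1 * t⁻¹) * t⁻¹ = c.1
        rw [htinv]
        have e : t * (t * c.1 * t) * t = (t * t) * c.1 * (t * t) := by group
        rw [e, ht, one_mul, mul_one])
      right_inv := fun c => Subtype.ext (by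
        show t * (t * c.1 * t⁻¹) * t⁻¹ = c.1
        rw [htinv]
        have e : t * (t * c.1 * t) * t = (t * t) * c.1 * (t * t) := by group
        rw [e, ht, one_mul, mul_one])
      map_mul' := fun c d => Subtype.ext (by
        show t * (c.1 * d.1) * t⁻¹ = (t * c.1 * t⁻¹) * (t * d.1 * t⁻¹)
        group) }
  have hσ2 : σ * σ = 1 := by
    ext c
    show t * (t * c.1 * t⁻¹) * t⁻¹ = c.1
    rw [htinv]
    have e : t * (t * c.1 * t) * t = (t * t) * c.1 * (t * t) := by group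
    rw [e, ht, one_mul, mul_one]
  let f : Function.End (Sylow p C) := fun Q => σ • Q
  have hf : f ^ 2 ^ 1 = 1 := by
    rw [pow_one, pow_two]
    funext Q
    show σ • (σ • Q) = Q
    rw [← mul_smul, hσ2, one_smul]
  have hfin : Fintype (Sylow p C) := Fintype.ofFinite _
  have key := Equiv.Perm.card_fixedPoints_modEq (p := 2) (n := 1) (f := f) hf
  have hoddS : Odd (Fintype.card (Sylow p C)) := by
    obtain ⟨Q⟩ : Nonempty (Sylow p C) := inferInstance
    have h1 : Nat.card (Sylow p C) ∣ (Q : Subgroup C).index := Q.card_dvd_index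
    have h2 : (Q : Subgroup C).index ∣ Nat.card C := Subgroup.index_dvd_card _
    rw [← Nat.card_eq_fintype_card]
    exact Odd.of_dvd_nat hodd (h1.trans h2)
  have hne : (Function.fixedPoints f).Nonempty := by
    by_contra hemp
    rw [Set.not_nonempty_iff_eq_empty] at hemp
    have h0 : Fintype.card (Function.fixedPoints f) = 0 := by
      rw [Fintype.card_eq_zero_iff, hemp]
      exact Set.isEmpty_coe_sort.mpr rfl
    rw [h0] at key
    have h3 : 2 ∣ Fintype.card (Sylow p C) := (Nat.modEq_zero_iff_dvd).mp key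
    exact (Nat.not_even_iff_odd.mpr hoddS) (even_iff_two_dvd.mpr h3)
  obtain ⟨Q, hQ⟩ := hne
  have hQ' : σ • Q = Q := hQ
  refine ⟨(Q : Subgroup C).map C.subtype, ?_, Q.2.map _, ?_, ?_, ?_⟩
  · rintro _ ⟨u, _, rfl⟩
    exact u.2
  · rintro _ ⟨u, hu, rfl⟩
    have h1 : σ • u ∈ σ • (Q : Subgroup C) := Subgroup.smul_mem_pointwise_smul u σ _ hu
    have h2 : (σ • Q : Sylow p C) = Q := hQ'
    have h3 : σ • (Q : Subgroup C) = ((σ • Q : Sylow p C) : Subgroup C) := rfl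
    rw [h3, h2] at h1
    exact ⟨σ • u, h1, rfl⟩
  · intro R hRC hR hQR
    have h1 : IsPGroup p (R.subgroupOf C) := hR.comap_subtype
    have h2 : (Q : Subgroup C) ≤ R.subgroupOf C := by
      intro u hu
      rw [Subgroup.mem_subgroupOf]
      exact hQR ⟨u, hu, rfl⟩
    have h3 := Q.is_maximal' h1 h2
    intro r hr
    have h4 : (⟨r, hRC hr⟩ : C) ∈ R.subgroupOf C := by
      rw [Subgroup.mem_subgroupOf]; exact hr
    rw [h3] at h4
    exact ⟨⟨r, hRC hr⟩, h4, rfl⟩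
  · rw [Nat.card_congr (Subgroup.equivMapOfInjective (Q : Subgroup C) C.subtype
      (Subgroup.subtype_injective C)).symm.toEquiv]
    exact Q.card_eq_multiplicity

theorem mem_of_commute {G : Type*} [Group G] {p : ℕ} [Fact p.Prime] (C Q : Subgroup G)
    (hQC : Q ≤ C) (hQ : IsPGroup p Q)
    (hmax : ∀ R : Subgroup G, R ≤ C → IsPGroup p R → Q ≤ R → R ≤ Q) (u : G) (huC : u ∈ C)
    (hu : IsPGroup p (zpowers u)) (hcomm : ∀ v ∈ Q, u * v = v * u) : u ∈ Q := by
  have hnorm : zpowers u ≤ normalizer (Q : Set G) := by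
    rw [zpowers_le, mem_normalizer_iff]
    intro h
    constructor
    · intro hh
      have e : u * h * u⁻¹ = h := by rw [hcomm h hh]; group
      rw [e]; exact hh
    · intro hh
      have e : h = u⁻¹ * (u * h * u⁻¹) * u := by group
      have h1 := hcomm _ hh
      have e2 : u⁻¹ * (u * h * u⁻¹) * u = u * h * u⁻¹ := by
        rw [mul_assoc, ← h1]; group
      rw [e, e2]; exact hh
  have hR : IsPGroup p (zpowers u ⊔ Q : Subgroup G) := hu.to_sup_of_normal_right' hQ hnorm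
  exact hmax _ (sup_le (zpowers_le.mpr huC) hQC) hR le_sup_right
    (le_sup_left (a := zpowers u) (mem_zpowers u))

theorem two_dvd_of_mem {G : Type*} [Group G] [Finite G] (H : Subgroup G) (t : G) (ht : t * t = 1)
    (ht1 : t ≠ 1) (hH : t ∈ H) : 2 ∣ Nat.card H := by
  have h2 : Fact (Nat.Prime 2) := ⟨Nat.prime_two⟩
  have ho : orderOf t = 2 := orderOf_eq_prime (by rw [pow_two]; exact ht) ht1
  have h1 : orderOf (⟨t, hH⟩ : H) = 2 := by
    rw [← ho, ← Subgroup.orderOf_coe]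
  rw [← h1]
  exact orderOf_dvd_natCard _

theorem norm_centralizer {G : Type*} [Group G] (t w : G) (ht : t * t = 1)
    (hw : t * w * t⁻¹ = w⁻¹) :
    ∀ c ∈ centralizer ({w} : Set G), t * c * t⁻¹ ∈ centralizer ({w} : Set G) := by
  intro c hc
  rw [mem_centralizer_singleton_iff] at hc ⊢
  have htinv : t⁻¹ = t := inv_eq_of_mul_eq_one_left ht
  have hw' : w = t * w⁻¹ * t⁻¹ := by
    have : t * w⁻¹ * t⁻¹ = (t * w * t⁻¹)⁻¹ := by group
    rw [this, hw, inv_inv]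
  have hc' : c * w⁻¹ = w⁻¹ * c := by
    have : c * w⁻¹ = w⁻¹ * (w * c) * w⁻¹ := by group
    rw [this, ← hc]; group
  calc t * c * t⁻¹ * w = t * c * t⁻¹ * (t * w⁻¹ * t⁻¹) := by rw [← hw']
    _ = t * (c * w⁻¹) * t⁻¹ := by group
    _ = t * (w⁻¹ * c) * t⁻¹ := by rw [hc']
    _ = (t * w⁻¹ * t⁻¹) * (t * c * t⁻¹) := by group
    _ = w * (t * c * t⁻¹) := by rw [← hw']

theorem pow_order_of_mem {G : Type*} [Group G] {p : ℕ} [Fact p.Prime] (Q : Subgroup G)
    (hQ : IsPGroup p Q) (u : G) (hu : u ∈ Q) : ∃ k : ℕ, orderOf u = p ^ k := by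
  have hp : p.Prime := Fact.out
  obtain ⟨k, hk⟩ := hQ ⟨u, hu⟩
  have hk' : u ^ p ^ k = 1 := congrArg Subtype.val hk
  obtain ⟨j, _, hj⟩ := (Nat.dvd_prime_pow hp).mp (orderOf_dvd_of_pow_eq_one hk')
  exact ⟨j, hj⟩

theorem zpowers_pgroup {G : Type*} [Group G] {p : ℕ} [Fact p.Prime] (u : G)
    (hu : ∃ k : ℕ, orderOf u = p ^ k) : IsPGroup p (zpowers u) := by
  obtain ⟨k, hk⟩ := hu
  rintro ⟨v, hv⟩
  obtain ⟨n, rfl⟩ := mem_zpowers_iff.mp hv
  refine ⟨k, Subtype.ext ?_⟩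
  show (u ^ n) ^ p ^ k = 1
  rw [← zpow_natCast, ← zpow_mul, mul_comm, zpow_mul, zpow_natCast, ← hk, pow_orderOf_eq_one,
    one_zpow]

theorem main_aux {G : Type*} [Group G] [Finite G] (p : ℕ) [Fact p.Prime]
    (hC : ∀ g : G, g ≠ 1 → (∃ k : ℕ, orderOf g = p ^ k) →
      Odd (Nat.card ↥(Subgroup.centralizer ({g} : Set G))))
    (t y : G) (ht : t * t = 1) (ht1 : t ≠ 1) (hy1 : y ≠ 1) (hyp : ∃ k : ℕ, orderOf y = p ^ k)
    (hty : t * y * t⁻¹ = y⁻¹) :
    ∃ Q : Sylow p G, (∀ u ∈ (Q : Subgroup G), ∀ v ∈ (Q : Subgroup G), u * v = v * u) ∧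
      ∀ u ∈ (Q : Subgroup G), t * u * t⁻¹ ∈ (Q : Subgroup G) := by
  classical
  have hp : p.Prime := Fact.out
  have hfix : ∀ u : G, u ≠ 1 → (∃ k : ℕ, orderOf u = p ^ k) → t * u * t⁻¹ ≠ u := by
    intro u hu1 hup hfix
    have hodd := hC u hu1 hup
    have htC : t ∈ centralizer ({u} : Set G) := by
      rw [mem_centralizer_singleton_iff]
      have : t * u = t * u * t⁻¹ * t := by group
      rw [this, hfix]
    exact (Nat.not_even_iff_odd.mpr hodd) (even_iff_two_dvd.mpr (two_dvd_of_mem _ t ht ht1 htC))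
  obtain ⟨Q₁, hQ₁C, hQ₁p, hQ₁t, hQ₁max, -⟩ :=
    exists_invariant_sylow p (centralizer ({y} : Set G)) (hC y hy1 hyp) t ht
      (norm_centralizer t y ht hty)
  have hfpf₁ : ∀ u ∈ Q₁, t * u * t⁻¹ = u → u = 1 := by
    intro u hu hfx
    by_contra hu1
    exact hfix u hu1 (pow_order_of_mem Q₁ hQ₁p u hu) hfx
  obtain ⟨hinv₁, -⟩ := inverts_of_fpf Q₁ t ht hQ₁t hfpf₁
  have hyQ₁ : y ∈ Q₁ := by
    apply mem_of_commute (centralizer ({y} : Set G)) Q₁ hQ₁C hQ₁p hQ₁max y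
      (mem_centralizer_singleton_iff.mpr rfl) (zpowers_pgroup y hyp)
    intro v hv
    exact (mem_centralizer_singleton_iff.mp (hQ₁C hv)).symm
  obtain ⟨P, hP⟩ := hQ₁p.exists_le_sylow
  have hyP : y ∈ (P : Subgroup G) := hP hyQ₁
  have hnt : Nontrivial (P : Subgroup G) :=
    ⟨⟨⟨y, hyP⟩, 1, fun h => hy1 (congrArg Subtype.val h)⟩⟩
  have hcnt : Nontrivial (Subgroup.center (P : Subgroup G)) := P.2.center_nontrivial
  obtain ⟨w', hw'⟩ := exists_ne (1 : Subgroup.center (P : Subgroup G))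
  have hw1 : ((w' : (P : Subgroup G)) : G) ≠ 1 := by
    intro h
    apply hw'
    apply Subtype.ext
    apply Subtype.ext
    exact h
  have hwP : ((w' : (P : Subgroup G)) : G) ∈ (P : Subgroup G) := (w' : (P : Subgroup G)).2
  have hwcomm : ∀ v ∈ (P : Subgroup G), ((w' : (P : Subgroup G)) : G) * v
      = v * ((w' : (P : Subgroup G)) : G) := by
    intro v hv
    have h1 := Subgroup.mem_center_iff.mp w'.2 ⟨v, hv⟩
    exact (congrArg Subtype.val h1).symm
  set w : G := ((w' : (P : Subgroup G)) : G) with hwdef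
  have hwp : ∃ k : ℕ, orderOf w = p ^ k := pow_order_of_mem (P : Subgroup G) P.2 w hwP
  have hwQ₁ : w ∈ Q₁ := by
    apply mem_of_commute (centralizer ({y} : Set G)) Q₁ hQ₁C hQ₁p hQ₁max w
      (mem_centralizer_singleton_iff.mpr (hwcomm y hyP)) (zpowers_pgroup w hwp)
    intro v hv
    exact hwcomm v (hP hv)
  have htw : t * w * t⁻¹ = w⁻¹ := hinv₁ w hwQ₁
  have hPC₂ : (P : Subgroup G) ≤ centralizer ({w} : Set G) := by
    intro v hv
    exact mem_centralizer_singleton_iff.mpr (hwcomm v hv).symm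
  obtain ⟨Q₂, hQ₂C, hQ₂p, hQ₂t, hQ₂max, hQ₂card⟩ :=
    exists_invariant_sylow p (centralizer ({w} : Set G)) (hC w hw1 hwp) t ht
      (norm_centralizer t w ht htw)
  have hfpf₂ : ∀ u ∈ Q₂, t * u * t⁻¹ = u → u = 1 := by
    intro u hu hfx
    by_contra hu1
    exact hfix u hu1 (pow_order_of_mem Q₂ hQ₂p u hu) hfx
  obtain ⟨-, hab₂⟩ := inverts_of_fpf Q₂ t ht hQ₂t hfpf₂
  have hfac : (Nat.card (centralizer ({w} : Set G))).factorization p
      = (Nat.card G).factorization p := by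
    have hG0 : Nat.card G ≠ 0 := Nat.card_pos.ne'
    have hC0 : Nat.card (centralizer ({w} : Set G)) ≠ 0 := Nat.card_pos.ne'
    apply le_antisymm
    · exact (Nat.factorization_le_iff_dvd hC0 hG0).mpr (Subgroup.card_subgroup_dvd_card _) p
    · have h1 : Nat.card (P : Subgroup G) ∣ Nat.card (centralizer ({w} : Set G)) :=
        Subgroup.card_dvd_of_le hPC₂
      rw [P.card_eq_multiplicity] at h1
      exact (hp.pow_dvd_iff_le_factorization hC0).mp h1
  rw [hfac] at hQ₂card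
  refine ⟨Sylow.ofCard Q₂ hQ₂card, ?_, ?_⟩
  · intro u hu v hv
    exact hab₂ u hu v hv
  · intro u hu
    exact hQ₂t u hu

theorem result {G : Type*} [Group G] [Finite G] (p : ℕ) [Fact p.Prime] (hp2 : p ≠ 2) (hpG : p ∣ Nat.card G) (h2G : 2 ∣ Nat.card G) (hC : ∀ g : G, g ≠ 1 → (∃ k : ℕ, orderOf g = p ^ k) → Odd (Nat.card ↥(Subgroup.centralizer ({g} : Set G)))) : (∃ χ : Cfsg.IrrCharacter G, (Cfsg.charDegree (χ : G → ℂ)).factorization p = (Nat.card G).factorization p) ∨ ∀ P : Sylow p G, Even (Nat.card ↥(Subgroup.normalizer ((P : Subgroup G) : Set G))) ∧ IsMulCommutative ↥(P : Subgroup G) := by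
  classical
  have hp : p.Prime := Fact.out
  have h2 : Fact (Nat.Prime 2) := ⟨Nat.prime_two⟩
  have hC' : ∀ g : G, g ≠ 1 → (∃ k : ℕ, orderOf g = p ^ k) →
      ¬ 2 ∣ Nat.card ↥(Subgroup.centralizer ({g} : Set G)) := by
    intro g hg hk h
    exact (Nat.not_even_iff_odd.mpr (hC g hg hk)) (even_iff_two_dvd.mpr h)
  rcases Cfsg.Agent.S4742.result p 2 hp2 hpG h2G hC' with h | h
  · exact Or.inl h
  · right
    obtain ⟨z, hz⟩ := exists_prime_orderOf_dvd_card' (G := G) 2 h2G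
    have hz1 : z ≠ 1 := by
      intro h1
      rw [h1, orderOf_one] at hz
      exact absurd hz (by norm_num)
    have hzz : z * z = 1 := by
      rw [← pow_two, ← hz, pow_orderOf_eq_one]
    obtain ⟨g, h', hzg, hzh, hne, hk⟩ := h z hz1 ⟨1, by rw [hz, pow_one]⟩
    obtain ⟨a, ha⟩ := isConj_iff.mp hzg
    obtain ⟨b, hb⟩ := isConj_iff.mp hzh
    have hgg : g * g = 1 := by
      rw [← ha]
      have : a * z * a⁻¹ * (a * z * a⁻¹) = a * (z * z) * a⁻¹ := by group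
      rw [this, hzz]; group
    have hhh : h' * h' = 1 := by
      rw [← hb]
      have : b * z * b⁻¹ * (b * z * b⁻¹) = b * (z * z) * b⁻¹ := by group
      rw [this, hzz]; group
    have hg1 : g ≠ 1 := by
      intro h1
      apply hz1
      rw [h1] at ha
      have : z = a⁻¹ * (a * z * a⁻¹) * a := by group
      rw [this, ha]; group
    have hginv : g⁻¹ = g := inv_eq_of_mul_eq_one_left hgg
    have hhinv : h'⁻¹ = h' := inv_eq_of_mul_eq_one_left hhh
    have hty : g * (g * h'⁻¹) * g⁻¹ = (g * h'⁻¹)⁻¹ := by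
      rw [mul_inv_rev, inv_inv, hginv, hhinv, ← mul_assoc, hgg, one_mul]
    obtain ⟨Q, hQab, hQt⟩ := main_aux p hC g (g * h'⁻¹) hgg hg1 hne hk hty
    intro P
    obtain ⟨c, hc⟩ := MulAction.exists_smul_eq G Q P
    have hcoe : (P : Subgroup G) = MulAut.conj c • (Q : Subgroup G) := by
      rw [← hc]; rfl
    have hmem : ∀ u : G, u ∈ (P : Subgroup G) ↔ c⁻¹ * u * c ∈ (Q : Subgroup G) := by
      intro u
      rw [hcoe, Subgroup.mem_pointwise_smul_iff_inv_smul_mem]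
      have : (MulAut.conj c)⁻¹ • u = c⁻¹ * u * c := by
        rw [← map_inv, MulAut.smul_def, MulAut.conj_apply, inv_inv]
      rw [this]
    constructor
    · have hmemN : c * g * c⁻¹ ∈ Subgroup.normalizer ((P : Subgroup G) : Set G) := by
        rw [Subgroup.mem_normalizer_iff]
        intro u
        have key : ∀ v : G, v ∈ (P : Subgroup G) →
            c * g * c⁻¹ * v * (c * g * c⁻¹)⁻¹ ∈ (P : Subgroup G) := by
          intro v hv
          rw [hmem] at hv ⊢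
          have e : c⁻¹ * (c * g * c⁻¹ * v * (c * g * c⁻¹)⁻¹) * c = g * (c⁻¹ * v * c) * g⁻¹ := by
            group
          rw [e]
          exact hQt _ hv
        constructor
        · exact key u
        · intro hu
          have h3 := key _ hu
          have e : c * g * c⁻¹ * (c * g * c⁻¹ * u * (c * g * c⁻¹)⁻¹) * (c * g * c⁻¹)⁻¹
              = c * (g * g) * c⁻¹ * u * (c * (g * g) * c⁻¹)⁻¹ := by group
          rw [e, hgg] at h3
          simpa using h3
      have hsq : c * g * c⁻¹ * (c * g * c⁻¹) = 1 := by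
        have : c * g * c⁻¹ * (c * g * c⁻¹) = c * (g * g) * c⁻¹ := by group
        rw [this, hgg]; group
      have hne1 : c * g * c⁻¹ ≠ 1 := by
        intro h1
        apply hg1
        have : g = c⁻¹ * (c * g * c⁻¹) * c := by group
        rw [this, h1]; group
      exact even_iff_two_dvd.mpr (two_dvd_of_mem _ _ hsq hne1 hmemN)
    · refine ⟨⟨fun u v => Subtype.ext ?_⟩⟩
      show (u : G) * (v : G) = (v : G) * (u : G)
      have hu := (hmem u.1).mp u.2
      have hv := (hmem v.1).mp v.2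
      have h3 := hQab _ hu _ hv
      have e1 : (u : G) * (v : G) = c * ((c⁻¹ * (u : G) * c) * (c⁻¹ * (v : G) * c)) * c⁻¹ := by
        group
      have e2 : (v : G) * (u : G) = c * ((c⁻¹ * (v : G) * c) * (c⁻¹ * (u : G) * c)) * c⁻¹ := by
        group
      rw [e1, e2, h3]

end Cfsg.Agent.S4744
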