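import Cfsg.Statements.S4746
import Cfsg.Agent.S4742
import Cfsg.Agent.Lib.Helper1.CharComplete
import Cfsg.Agent.Lib.Helper1.CharInt
import Cfsg.Agent.Lib.Helper24.CharBasic

set_option autoImplicit false
open Cfsg

namespace Cfsg.Agent.S4746

open Cfsg.Agent.Lib.Helper1 Cfsg.Agent.Lib.Helper24
open scoped ComplexConjugate

theorem sq_sum {ι : Type*} (s : Finset ι) (a : ι → ℂ) (ha : ∀ i ∈ s, IsIntegral ℤ (a i)) :
    ∃ r : ℂ, IsIntegral ℤ r ∧ (∑ i ∈ s, a i) ^ 2 = ∑ i ∈ s, a i ^ 2 + 2 * r := by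
  classical
  induction s using Finset.induction_on with
  | empty => exact ⟨0, isIntegral_zero, by simp⟩
  | insert b s hb ih =>
    obtain ⟨r, hr, hr2⟩ := ih (fun i hi => ha i (Finset.mem_insert_of_mem hi))
    refine ⟨r + a b * ∑ i ∈ s, a i, ?_, ?_⟩
    · exact hr.add ((ha b (Finset.mem_insert_self b s)).mul
        (IsIntegral.sum _ (fun i hi => ha i (Finset.mem_insert_of_mem hi))))
    · rw [Finset.sum_insert hb, Finset.sum_insert hb, add_sq, hr2]
      ring

theorem even_degree_of_real {G : Type*} [Group G] [Finite G] (t y : G) (hy1 : y ≠ 1)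
    (hty : t * y * t⁻¹ = y⁻¹)
    (hodd : Odd (Nat.card (Subgroup.centralizer ({y} : Set G)))) :
    ∃ χ : Cfsg.IrrCharacter G, Even (Cfsg.charDegree (χ : G → ℂ)) := by
  classical
  by_contra hcon
  push Not at hcon
  have hfinG : Fintype G := Fintype.ofFinite G
  have hfin : Fintype (Cfsg.IrrCharacter G) := irrFintype
  have hint : ∀ χ : Cfsg.IrrCharacter G, IsIntegral ℤ ((χ : G → ℂ) y) := fun χ =>
    CharBasic.char_isIntegral (CharBasic.isCharacter_of_irr χ.2) y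
  have hreal : ∀ χ : Cfsg.IrrCharacter G, conj ((χ : G → ℂ) y) = (χ : G → ℂ) y := by
    intro χ
    rw [← CharBasic.char_inv (CharBasic.isCharacter_of_irr χ.2) y, ← hty,
      CharBasic.char_conj_invariant (CharBasic.isCharacter_of_irr χ.2)]
  have h1 := col_orth y (1 : G)
  rw [if_neg (by rw [isConj_one_left]; exact hy1)] at h1
  have h2 := col_orth y y
  rw [if_pos (IsConj.refl y)] at h2
  have hm : ∀ χ : Cfsg.IrrCharacter G, ∃ m : ℕ, Cfsg.charDegree (χ : G → ℂ) = 2 * m + 1 := by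
    intro χ
    exact Nat.not_even_iff_odd.mp (hcon χ)
  choose m hm using hm
  have hS : ∑ χ : Cfsg.IrrCharacter G, (χ : G → ℂ) y
      = 2 * (-∑ χ : Cfsg.IrrCharacter G, (m χ : ℂ) * (χ : G → ℂ) y) := by
    have e : ∀ χ : Cfsg.IrrCharacter G, (χ : G → ℂ) y * conj ((χ : G → ℂ) 1)
        = (χ : G → ℂ) y + 2 * ((m χ : ℂ) * (χ : G → ℂ) y) := by
      intro χ
      rw [CharBasic.char_one_nat (CharBasic.isCharacter_of_irr χ.2), hm χ, Complex.conj_natCast]
      push_cast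
      ring
    rw [Finset.sum_congr rfl (fun χ _ => e χ), Finset.sum_add_distrib, ← Finset.mul_sum] at h1
    linear_combination h1
  have hsint : IsIntegral ℤ (-∑ χ : Cfsg.IrrCharacter G, (m χ : ℂ) * (χ : G → ℂ) y) :=
    (IsIntegral.sum _ (fun χ _ => (isIntegral_natCast _).mul (hint χ))).neg
  have hsq : ∑ χ : Cfsg.IrrCharacter G, ((χ : G → ℂ) y) ^ 2
      = (Nat.card (Subgroup.centralizer ({y} : Set G)) : ℂ) := by
    rw [← h2]
    apply Finset.sum_congr rfl
    intro χ _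
    rw [hreal χ, pow_two]
  obtain ⟨r, hr, hr2⟩ := sq_sum (Finset.univ : Finset (Cfsg.IrrCharacter G))
    (fun χ => (χ : G → ℂ) y) (fun χ _ => hint χ)
  rw [hS, hsq] at hr2
  have hdiv : IsIntegral ℤ ((Nat.card (Subgroup.centralizer ({y} : Set G)) : ℂ) / ((2 : ℕ) : ℂ)) := by
    have e' : (Nat.card (Subgroup.centralizer ({y} : Set G)) : ℂ)
        = 2 * (2 * (-∑ χ : Cfsg.IrrCharacter G, (m χ : ℂ) * (χ : G → ℂ) y) ^ 2 - r) := by
      linear_combination (-1 : ℂ) * hr2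
    have h2i : IsIntegral ℤ (2 : ℂ) := by
      have := isIntegral_natCast (R := ℤ) (B := ℂ) (a := 2)
      simpa using this
    have e : (Nat.card (Subgroup.centralizer ({y} : Set G)) : ℂ) / ((2 : ℕ) : ℂ)
        = 2 * (-∑ χ : Cfsg.IrrCharacter G, (m χ : ℂ) * (χ : G → ℂ) y) ^ 2 - r := by
      rw [e']
      push_cast
      rw [mul_div_cancel_left₀ _ (two_ne_zero)]
    rw [e]
    exact (h2i.mul (hsint.pow 2)).sub hr
  have h2dvd := nat_dvd_of_isIntegral_div (by norm_num) hdiv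
  exact (Nat.not_even_iff_odd.mpr hodd) (even_iff_two_dvd.mpr h2dvd)

theorem result {G : Type*} [Group G] [Finite G] (p : ℕ) [Fact p.Prime] (hp2 : p ≠ 2) (hpG : p ∣ Nat.card G) (h2G : 2 ∣ Nat.card G) (hC : ∀ g : G, g ≠ 1 → (∃ k : ℕ, orderOf g = p ^ k) → Odd (Nat.card ↥(Subgroup.centralizer ({g} : Set G)))) : (∃ χ : Cfsg.IrrCharacter G, (Cfsg.charDegree (χ : G → ℂ)).factorization p = (Nat.card G).factorization p) ∨ ∃ χ : Cfsg.IrrCharacter G, Even (Cfsg.charDegree (χ : G → ℂ)) := by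
  classical
  have hp : p.Prime := Fact.out
  have h2 : Fact (Nat.Prime 2) := ⟨Nat.prime_two⟩
  have hC' : ∀ g : G, g ≠ 1 → (∃ k : ℕ, orderOf g = p ^ k) →
      ¬ 2 ∣ Nat.card ↥(Subgroup.centralizer ({g} : Set G)) := by
    intro g hg hk h
    exact (Nat.not_even_iff_odd.mpr (hC g hg hk)) (even_iff_two_dvd.mpr h)
  rcases Cfsg.Agent.S4742.result p 2 hp2 hpG h2G hC' with h | h
  · exact Or.inl h
  · right
    obtain ⟨z, hz⟩ := exists_prime_orderOf_dvd_card' (G := G) 2 h2G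
    have hz1 : z ≠ 1 := by
      intro h1
      rw [h1, orderOf_one] at hz
      exact absurd hz (by norm_num)
    have hzz : z * z = 1 := by
      rw [← pow_two, ← hz, pow_orderOf_eq_one]
    obtain ⟨g, h', hzg, hzh, hne, hk⟩ := h z hz1 ⟨1, by rw [hz, pow_one]⟩
    obtain ⟨a, ha⟩ := isConj_iff.mp hzg
    obtain ⟨b, hb⟩ := isConj_iff.mp hzh
    have hgg : g * g = 1 := by
      rw [← ha]
      have : a * z * a⁻¹ * (a * z * a⁻¹) = a * (z * z) * a⁻¹ := by group
      rw [this, hzz]; group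
    have hhh : h' * h' = 1 := by
      rw [← hb]
      have : b * z * b⁻¹ * (b * z * b⁻¹) = b * (z * z) * b⁻¹ := by group
      rw [this, hzz]; group
    have hginv : g⁻¹ = g := inv_eq_of_mul_eq_one_left hgg
    have hhinv : h'⁻¹ = h' := inv_eq_of_mul_eq_one_left hhh
    have hty : g * (g * h'⁻¹) * g⁻¹ = (g * h'⁻¹)⁻¹ := by
      rw [mul_inv_rev, inv_inv, hginv, hhinv, ← mul_assoc, hgg, one_mul]
    exact even_degree_of_real g (g * h'⁻¹) hne hty (hC _ hne hk)

end Cfsg.Agent.S4746
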