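import Cfsg.Statements.S4748
import Cfsg.Agent.Lib.Helper10.TISolv5

set_option autoImplicit false
open scoped Pointwise
open Cfsg

namespace Cfsg.Agent.S4748

open Cfsg.Agent.Lib.Helper10.TISolv Cfsg.Agent.Lib.Helper1


/-- Let G be a finite p-solvable group whose Sylow p-subgroup P meets each conjugate g P g⁻¹ with g outside N_G(P) trivially, and let χ be a faithful character of G (χ g = χ 1 only for g = 1) whose degree d satisfies d² ≤ |P|. Then P is normal in G. -/
theorem result {G : Type*} [Group G] [Finite G] (p : ℕ) [Fact p.Prime] (hsolv : Cfsg.IsPSolvable p G) (P : Sylow p G) (hTI : ∀ g : G, g ∉ Subgroup.normalizer ((P : Subgroup G) : Set G) → (P : Subgroup G) ⊓ (MulAut.conj g • (P : Subgroup G)) = ⊥) (χ : G → ℂ) (hχ : Cfsg.IsCharacter G χ) (hfaith : ∀ g : G, χ g = χ 1 → g = 1) (hdeg : Cfsg.charDegree χ ^ 2 ≤ Nat.card ↥(P : Subgroup G)) : (P : Subgroup G).Normal := by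
  classical
  by_contra hnn
  obtain ⟨K, hKn, hKp, hnc⟩ := exists_not_centralized hsolv P hTI hnn
  have huni : ∀ x ∈ (P : Subgroup G), x ≠ 1 → ∀ c ∈ K, c * x = x * c →
      ∀ y ∈ (P : Subgroup G), c * y = y * c :=
    fun x hx hx1 c hc hcx y hy => uniform_centralizers P hTI K hKp x hx hx1 c hc hcx y hy
  have hPK : (P : Subgroup G) ≤ Subgroup.normalizer (K : Set G) := by
    rw [Subgroup.normalizer_eq_top_iff.mpr hKn]; exact le_top
  obtain ⟨n, hn⟩ := IsCharacter.degree_nat hχ
  have hdn : Cfsg.charDegree χ = n := Cfsg.Agent.Lib.Helper1.charDegree_eq hn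
  have h := main_bound (P : Subgroup G) P.isPGroup' K hPK hKp huni hnc χ hχ hfaith n hn
  rw [hdn] at hdeg
  omega

end Cfsg.Agent.S4748
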