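import Cfsg.Statements.S4825
import Mathlib
import Cfsg.Agent.Lib.Helper24.PSection
import Cfsg.Agent.Lib.Helper1.CharMisc
import Cfsg.Agent.Lib.Helper25.CharConv

set_option autoImplicit false
open Cfsg

namespace Cfsg.Agent.S4825

open Cfsg.Agent.Lib.Helper1 Cfsg.Agent.Lib.Helper6 Cfsg.Agent.Lib.Helper24
open scoped ComplexConjugate

universe u

/-- Induced functions from a normal subgroup vanish outside it. -/
theorem indFun_eq_zero {G : Type u} [Group G] [Fintype G] (N : Subgroup G) [hN : N.Normal]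
    (θ : N → ℂ) {w : G} (hw : w ∉ N) : indFun N θ w = 0 := by
  rw [indFun_apply, Finset.sum_eq_zero, mul_zero]
  intro x _
  apply extendByZero_of_not_mem
  intro h
  apply hw
  have h1 := hN.conj_mem _ h x
  have h2 : x * (x⁻¹ * w * x) * x⁻¹ = w := by group
  rwa [h2] at h1

/-- Osima: the block sum `∑_{χ ∈ B} χ(1) χ(w)` vanishes on `p`-singular elements. -/
theorem block_sum_singular {G : Type u} [Group G] [Fintype G] {p : ℕ} {M : Ideal AlgInt}
    (hM : IsPModular p M) (B : Set (IrrCharacter G)) (hB : IsPBlock M B)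
    [Fintype (IrrCharacter G)] [DecidablePred (fun χ : IrrCharacter G => χ ∈ B)]
    (w : G) (hw : p ∣ orderOf w) :
    ∑ χ ∈ Finset.univ.filter (fun χ : IrrCharacter G => χ ∈ B),
      (χ : G → ℂ) 1 * (χ : G → ℂ) w = 0 := by
  have h := Defect.blockCoeff_eq_zero_of_singular hM B hB w hw
  unfold blockCoeff at h
  rw [Defect.finsum_block_eq_sum] at h
  have hne : (Nat.card G : ℂ)⁻¹ ≠ 0 := by
    apply inv_ne_zero
    exact_mod_cast (Nat.card_pos (α := G)).ne'
  have h' := (mul_eq_zero.mp h).resolve_left hne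
  have h'' := congrArg conj h'
  rw [map_sum, map_zero] at h''
  rw [← h'']
  apply Finset.sum_congr rfl
  intro χ _
  rw [map_mul, Complex.conj_conj, CharBasic.char_one_nat (CharBasic.isCharacter_of_irr χ.2),
    Complex.conj_natCast]

/-- The key vanishing statement. -/
theorem key {G : Type u} [Group G] [Fintype G] {p : ℕ} {M : Ideal AlgInt}
    (hM : IsPModular p M) (B : Set (IrrCharacter G)) (hB : IsPBlock M B)
    [Fintype (IrrCharacter G)] [DecidablePred (fun χ : IrrCharacter G => χ ∈ B)]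
    (N : Subgroup G) [hN : N.Normal] [Fintype N] (θ : N → ℂ) (x : G) (hxN : x ∉ N) {k : ℕ}
    (hx : x ^ (p ^ k) = 1) :
    ∑ χ ∈ Finset.univ.filter (fun χ : IrrCharacter G => χ ∈ B),
      classInner (fun n : N => (χ : G → ℂ) n) θ * (χ : G → ℂ) x = 0 := by
  have hp : p.Prime := hM.1
  have hcard : (Nat.card G : ℂ) ≠ 0 := by exact_mod_cast (Nat.card_pos (α := G)).ne'
  -- the class function f = conj (Ind θ)
  have hf : IsClassFunction G (fun g => conj (indFun N θ g)) := by
    intro g h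
    show conj (indFun N θ (h * g * h⁻¹)) = conj (indFun N θ g)
    rw [indFun_isClassFunction N θ g h]
  have h1 : ∀ χ : IrrCharacter G, ∑ g : G, conj (indFun N θ g) * (χ : G → ℂ) (g * x) =
      (Nat.card G : ℂ) * classInner (fun n : N => (χ : G → ℂ) n) θ * (χ : G → ℂ) x /
        (χ : G → ℂ) 1 := by
    intro χ
    have h2 := Cfsg.Agent.Lib.Helper25.CharConv.gen_orth_cf hf χ.2 x
    rw [h2]
    have h3 : ∑ g : G, conj (indFun N θ g) * (χ : G → ℂ) g =
        (Nat.card G : ℂ) * classInner (fun n : N => (χ : G → ℂ) n) θ := by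
      rw [← classInner_conj_symm, ← frobenius_reciprocity N θ (IsIrrCharacter.isClassFunction χ.2)]
      unfold classInner
      rw [map_mul, map_inv₀, Complex.conj_natCast, ← mul_assoc, mul_inv_cancel₀ hcard, one_mul,
        map_sum]
      apply Finset.sum_congr rfl
      intro g _
      rw [map_mul, Complex.conj_conj]
    rw [h3]
  -- sum over the block
  have h4 : ∑ χ ∈ Finset.univ.filter (fun χ : IrrCharacter G => χ ∈ B),
      (χ : G → ℂ) 1 * ∑ g : G, conj (indFun N θ g) * (χ : G → ℂ) (g * x) = 0 := by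
    simp only [Finset.mul_sum]
    rw [Finset.sum_comm]
    apply Finset.sum_eq_zero
    intro g _
    have h5 : ∑ χ ∈ Finset.univ.filter (fun χ : IrrCharacter G => χ ∈ B),
        (χ : G → ℂ) 1 * (conj (indFun N θ g) * (χ : G → ℂ) (g * x)) =
        conj (indFun N θ g) * ∑ χ ∈ Finset.univ.filter (fun χ : IrrCharacter G => χ ∈ B),
          (χ : G → ℂ) 1 * (χ : G → ℂ) (g * x) := by
      rw [Finset.mul_sum]
      apply Finset.sum_congr rfl
      intro χ _
      ring
    rw [h5]
    by_cases hg : g ∈ N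
    · -- `g * x` is `p`-singular
      have hsing : p ∣ orderOf (g * x) := by
        by_contra hreg
        apply hxN
        have e1 : (QuotientGroup.mk (g * x) : G ⧸ N) = QuotientGroup.mk x := by
          rw [QuotientGroup.mk_mul, (QuotientGroup.eq_one_iff g).mpr hg, one_mul]
        have e2 : (QuotientGroup.mk x : G ⧸ N) ^ orderOf (g * x) = 1 := by
          rw [← e1, ← QuotientGroup.mk_pow, pow_orderOf_eq_one, QuotientGroup.mk_one]
        have e3 : (QuotientGroup.mk x : G ⧸ N) ^ (p ^ k) = 1 := by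
          rw [← QuotientGroup.mk_pow, hx, QuotientGroup.mk_one]
        have d1 := orderOf_dvd_of_pow_eq_one e2
        have d2 := orderOf_dvd_of_pow_eq_one e3
        have hcop : Nat.Coprime (p ^ k) (orderOf (g * x)) :=
          Nat.Coprime.pow_left k ((Nat.Prime.coprime_iff_not_dvd hp).mpr hreg)
        have e4 : orderOf (QuotientGroup.mk x : G ⧸ N) = 1 :=
          Nat.eq_one_of_dvd_coprimes hcop d2 d1
        exact (QuotientGroup.eq_one_iff x).mp (orderOf_eq_one_iff.mp e4)
      rw [block_sum_singular hM B hB (g * x) hsing, mul_zero]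
    · rw [indFun_eq_zero N θ hg, map_zero, zero_mul]
  have h6 : ∑ χ ∈ Finset.univ.filter (fun χ : IrrCharacter G => χ ∈ B),
      (χ : G → ℂ) 1 * ∑ g : G, conj (indFun N θ g) * (χ : G → ℂ) (g * x) =
      (Nat.card G : ℂ) * ∑ χ ∈ Finset.univ.filter (fun χ : IrrCharacter G => χ ∈ B),
        classInner (fun n : N => (χ : G → ℂ) n) θ * (χ : G → ℂ) x := by
    rw [Finset.mul_sum]
    apply Finset.sum_congr rfl
    intro χ _
    rw [h1 χ]
    have hχ1 : (χ : G → ℂ) 1 ≠ 0 := CharBasic.irr_one_ne_zero χ.2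
    field_simp
  rw [h6] at h4
  exact (mul_eq_zero.mp h4).resolve_left hcard

/-- Let p be a prime, G a finite group with Sylow p-subgroup P, M a maximal ideal of the algebraic integers containing p, and B a p-block of G with defect group P. Let N be a normal subgroup of G not containing P and θ an irreducible character of N. Then the number of irreducible characters in B of degree prime to p lying over θ (having θ as a constituent on restriction to N) is either 0 or at least 2, and when p ≤ 3 it is divisible by p. -/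
theorem result {G : Type*} [Group G] [Fintype G] (p : ℕ) [Fact p.Prime] (P : Sylow p G) (M : Ideal Cfsg.AlgInt) (hM : Cfsg.IsPModular p M) (B : Set (Cfsg.IrrCharacter G)) (hB : Cfsg.IsPBlock M B) (hBP : Cfsg.IsDefectGroup p M B P) (N : Subgroup G) [N.Normal] [Fintype N] (hPN : ¬ (P : Subgroup G) ≤ N) (θ : Cfsg.IrrCharacter N) :
    (Nat.card {χ : Cfsg.IrrCharacter G // χ ∈ B ∧ ¬ p ∣ Cfsg.charDegree (χ : G → ℂ) ∧ Cfsg.classInner (fun n : N => (χ : G → ℂ) n) (θ : N → ℂ) ≠ 0} = 0 ∨
      2 ≤ Nat.card {χ : Cfsg.IrrCharacter G // χ ∈ B ∧ ¬ p ∣ Cfsg.charDegree (χ : G → ℂ) ∧ Cfsg.classInner (fun n : N => (χ : G → ℂ) n) (θ : N → ℂ) ≠ 0}) ∧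
    (p ≤ 3 → p ∣ Nat.card {χ : Cfsg.IrrCharacter G // χ ∈ B ∧ ¬ p ∣ Cfsg.charDegree (χ : G → ℂ) ∧ Cfsg.classInner (fun n : N => (χ : G → ℂ) n) (θ : N → ℂ) ≠ 0}) := by
  classical
  have hp : p.Prime := hM.1
  have hmax := hM.2.1
  let _ : Fintype (IrrCharacter G) := irrFintype
  -- an element of `P` outside `N`
  obtain ⟨x, hxP, hxN⟩ : ∃ x ∈ (P : Subgroup G), x ∉ N := by
    by_contra hcon
    push Not at hcon
    exact hPN hcon
  obtain ⟨k, hk⟩ := P.isPGroup' ⟨x, hxP⟩
  have hx : x ^ (p ^ k) = 1 := congrArg Subtype.val hk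
  have hkey := key hM B hB N (θ : N → ℂ) x hxN hx
  -- Clifford's scalar
  obtain ⟨s, hs⟩ : ∃ s : ℂ, s =
      (∑ᶠ ψ ∈ {ψ : N → ℂ | ∃ g : G, ψ = conjChar N (θ : N → ℂ) g}, ψ) 1 := ⟨_, rfl⟩
  have hcl : ∀ χ : IrrCharacter G,
      classInner (fun n : N => (χ : G → ℂ) n) (θ : N → ℂ) ≠ 0 →
      classInner (fun n : N => (χ : G → ℂ) n) (θ : N → ℂ) * s = (χ : G → ℂ) 1 := by
    intro χ hχ
    have h1 := congrFun (clifford N χ.2 θ.2 hχ) 1
    simp only [Pi.smul_apply, smul_eq_mul] at h1
    rw [hs, ← h1]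
    rfl
  -- the sum over the characters of `B` lying over `θ`
  have hS : ∑ χ ∈ Finset.univ.filter (fun χ : IrrCharacter G => χ ∈ B ∧
      classInner (fun n : N => (χ : G → ℂ) n) (θ : N → ℂ) ≠ 0),
      (χ : G → ℂ) 1 * (χ : G → ℂ) x = 0 := by
    have h1 : ∑ χ ∈ Finset.univ.filter (fun χ : IrrCharacter G => χ ∈ B),
        (classInner (fun n : N => (χ : G → ℂ) n) (θ : N → ℂ) * s) * (χ : G → ℂ) x = 0 := by
      have h2 : ∀ χ : IrrCharacter G,
          (classInner (fun n : N => (χ : G → ℂ) n) (θ : N → ℂ) * s) * (χ : G → ℂ) x =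
          s * (classInner (fun n : N => (χ : G → ℂ) n) (θ : N → ℂ) * (χ : G → ℂ) x) := by
        intro χ; ring
      simp only [h2]
      rw [← Finset.mul_sum, hkey, mul_zero]
    rw [Finset.sum_filter] at h1 ⊢
    refine Eq.trans ?_ h1
    apply Finset.sum_congr rfl
    intro χ _
    by_cases hχB : χ ∈ B
    · by_cases hE : classInner (fun n : N => (χ : G → ℂ) n) (θ : N → ℂ) = 0
      · rw [if_neg (fun h => h.2 hE), if_pos hχB, hE, zero_mul, zero_mul]
      · rw [if_pos ⟨hχB, hE⟩, if_pos hχB, hcl χ hE]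
    · rw [if_neg (fun h => hχB h.1), if_neg hχB]
  -- the congruence
  have hdvd : p ∣ ∑ χ ∈ Finset.univ.filter (fun χ : IrrCharacter G => χ ∈ B ∧
      classInner (fun n : N => (χ : G → ℂ) n) (θ : N → ℂ) ≠ 0), charDegree (χ : G → ℂ) ^ 2 := by
    rw [← memLocalIdeal_natCast_iff hM]
    have h2 : ((∑ χ ∈ Finset.univ.filter (fun χ : IrrCharacter G => χ ∈ B ∧
        classInner (fun n : N => (χ : G → ℂ) n) (θ : N → ℂ) ≠ 0),
        charDegree (χ : G → ℂ) ^ 2 : ℕ) : ℂ) =
        ∑ χ ∈ Finset.univ.filter (fun χ : IrrCharacter G => χ ∈ B ∧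
          classInner (fun n : N => (χ : G → ℂ) n) (θ : N → ℂ) ≠ 0),
          (χ : G → ℂ) 1 * (χ : G → ℂ) x -
        ∑ χ ∈ Finset.univ.filter (fun χ : IrrCharacter G => χ ∈ B ∧
          classInner (fun n : N => (χ : G → ℂ) n) (θ : N → ℂ) ≠ 0),
          (χ : G → ℂ) 1 * ((χ : G → ℂ) x - (χ : G → ℂ) 1) := by
      rw [← Finset.sum_sub_distrib]
      push_cast
      apply Finset.sum_congr rfl
      intro χ _
      rw [CharBasic.char_one_nat (CharBasic.isCharacter_of_irr χ.2)]
      ring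
    rw [h2, hS, zero_sub]
    apply MemLocalIdeal.neg
    apply memLocalIdeal_sum hmax
    intro χ _
    apply MemLocalIdeal.mul_left hmax
    · rw [CharBasic.char_one_nat (CharBasic.isCharacter_of_irr χ.2)]
      exact memLocalRing_natCast hmax _
    · have h3 := PSection.char_mul_pElement_congr hM (CharBasic.isCharacter_of_irr χ.2) x 1
        (Commute.one_right x) hx
      rwa [mul_one] at h3
  -- restrict to degrees prime to `p`
  obtain ⟨K, hK⟩ : ∃ K : Finset (IrrCharacter G), K = Finset.univ.filter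
      (fun χ : IrrCharacter G => χ ∈ B ∧ ¬ p ∣ charDegree (χ : G → ℂ) ∧
        classInner (fun n : N => (χ : G → ℂ) n) (θ : N → ℂ) ≠ 0) := ⟨_, rfl⟩
  have hKmem : ∀ χ ∈ K, ¬ p ∣ charDegree (χ : G → ℂ) := by
    intro χ hχ
    rw [hK, Finset.mem_filter] at hχ
    exact hχ.2.2.1
  have hdvdK : p ∣ ∑ χ ∈ K, charDegree (χ : G → ℂ) ^ 2 := by
    have h1 := Finset.sum_filter_add_sum_filter_not (Finset.univ.filter
      (fun χ : IrrCharacter G => χ ∈ B ∧
        classInner (fun n : N => (χ : G → ℂ) n) (θ : N → ℂ) ≠ 0))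
      (fun χ : IrrCharacter G => ¬ p ∣ charDegree (χ : G → ℂ))
      (fun χ : IrrCharacter G => charDegree (χ : G → ℂ) ^ 2)
    have h2 : (Finset.univ.filter (fun χ : IrrCharacter G => χ ∈ B ∧
        classInner (fun n : N => (χ : G → ℂ) n) (θ : N → ℂ) ≠ 0)).filter
        (fun χ : IrrCharacter G => ¬ p ∣ charDegree (χ : G → ℂ)) = K := by
      rw [hK]
      ext χ
      simp only [Finset.mem_filter, Finset.mem_univ, true_and]
      tauto
    rw [h2] at h1
    have h3 : p ∣ ∑ χ ∈ (Finset.univ.filter (fun χ : IrrCharacter G => χ ∈ B ∧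
        classInner (fun n : N => (χ : G → ℂ) n) (θ : N → ℂ) ≠ 0)).filter
        (fun χ : IrrCharacter G => ¬ ¬ p ∣ charDegree (χ : G → ℂ)),
        charDegree (χ : G → ℂ) ^ 2 := by
      apply Finset.dvd_sum
      intro χ hχ
      rw [Finset.mem_filter, not_not] at hχ
      exact dvd_pow hχ.2 (by norm_num)
    rw [← h1] at hdvd
    exact (Nat.dvd_add_left h3).mp hdvd
  have hcard : Nat.card {χ : Cfsg.IrrCharacter G // χ ∈ B ∧ ¬ p ∣ Cfsg.charDegree (χ : G → ℂ) ∧
      Cfsg.classInner (fun n : N => (χ : G → ℂ) n) (θ : N → ℂ) ≠ 0} = K.card := by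
    rw [Nat.card_eq_fintype_card, Fintype.card_subtype, hK]
  rw [hcard]
  constructor
  · by_contra hcon
    push Not at hcon
    have h1 : K.card = 1 := by omega
    obtain ⟨χ₀, hχ₀⟩ := Finset.card_eq_one.mp h1
    rw [hχ₀, Finset.sum_singleton] at hdvdK
    apply hKmem χ₀ (by rw [hχ₀]; exact Finset.mem_singleton_self _)
    exact hp.dvd_of_dvd_pow hdvdK
  · intro hp3
    have hmod : ∀ χ ∈ K, charDegree (χ : G → ℂ) ^ 2 % p = 1 := by
      intro χ hχ
      have h1 := hKmem χ hχ
      have h2 : 2 ≤ p := hp.two_le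
      have h3 : p = 2 ∨ p = 3 := by omega
      rcases h3 with h3 | h3
      · subst h3
        have h4 : charDegree (χ : G → ℂ) % 2 = 1 := by omega
        rw [Nat.pow_mod, h4]
      · subst h3
        have h4 : charDegree (χ : G → ℂ) % 3 = 1 ∨ charDegree (χ : G → ℂ) % 3 = 2 := by omega
        rcases h4 with h4 | h4
        · rw [Nat.pow_mod, h4]
        · rw [Nat.pow_mod, h4]
    have h5 : (∑ χ ∈ K, charDegree (χ : G → ℂ) ^ 2) % p = K.card % p := by
      rw [Finset.sum_nat_mod, Finset.sum_congr rfl hmod]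
      simp
    rw [Nat.dvd_iff_mod_eq_zero] at hdvdK ⊢
    rw [← h5, hdvdK]

end Cfsg.Agent.S4825
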