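import Mathlib
import Cfsg.Statements.S4845
import Cfsg.Agent.Lib.Helper25.GalConj
import Cfsg.Agent.Lib.Helper25.GalConj3

set_option autoImplicit false
open Cfsg

namespace Cfsg.Agent.S4845

open Cfsg.Agent.Lib.Helper1 Cfsg.Agent.Lib.Helper25.GalConj
open scoped commutatorElement

/-- Let p be a prime and P a finite non-commutative p-group. Then every two irreducible characters of P of the same degree greater than 1 are Galois conjugate (one is obtained from the other by composing with g ↦ g^k for some k prime to the order of P) if and only if the centre of P is cyclic and the derived subgroup of P has order p. -/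
theorem result {P : Type*} [Group P] [Finite P] (p : ℕ) [Fact p.Prime] (hP : IsPGroup p P) (hna : ¬ IsMulCommutative P) :
    (∀ χ ψ : Cfsg.IrrCharacter P, Cfsg.charDegree (χ : P → ℂ) ≠ 1 → Cfsg.charDegree (χ : P → ℂ) = Cfsg.charDegree (ψ : P → ℂ) → ∃ k : ℕ, Nat.Coprime k (Nat.card P) ∧ ∀ g : P, (ψ : P → ℂ) g = (χ : P → ℂ) (g ^ k)) ↔
      (IsCyclic (Subgroup.center P) ∧ Nat.card (commutator P) = p) := by
  classical
  haveI : Fintype P := Fintype.ofFinite P
  have hne : commutator P ≠ ⊥ := by
    intro h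
    apply hna
    refine ⟨⟨fun a b => ?_⟩⟩
    have h1 : ⁅a, b⁆ ∈ commutator P := by
      rw [commutator_def]
      exact Subgroup.commutator_mem_commutator (Subgroup.mem_top a) (Subgroup.mem_top b)
    rw [h, Subgroup.mem_bot, commutatorElement_eq_one_iff_mul_comm] at h1
    exact h1
  have hdeg : ∀ χ : P → ℂ, IsIrrCharacter P χ → ∃ n : ℕ, χ 1 = n ∧ charDegree χ = n := by
    intro χ hχ
    obtain ⟨n, -, hn⟩ := IsIrrCharacter.degree_pos hχ
    exact ⟨n, hn, charDegree_eq hn⟩
  constructor
  · intro H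
    have hH : GalH P := by
      intro χ ψ hχ hψ h1 h2
      obtain ⟨n, hn, hn'⟩ := hdeg χ hχ
      obtain ⟨m, hm, hm'⟩ := hdeg ψ hψ
      have hnm : n = m := by
        have h3 : (n : ℂ) = m := by rw [← hn, ← hm]; exact h2
        exact_mod_cast h3
      exact H ⟨χ, hχ⟩ ⟨ψ, hψ⟩ (by
        show charDegree χ ≠ 1
        rw [hn']
        rintro rfl
        exact h1 (by rw [hn]; simp)) (by
        show charDegree χ = charDegree ψ
        rw [hn', hm', hnm])
    have hcard := card_commutator_of_galH (p := p) (Nat.card P) P rfl hP hH hne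
    exact ⟨(lemA hP hH hcard).1, hcard⟩
  · rintro ⟨hcyc, hcard⟩ χ ψ h1 h2
    have hH := galH_of_cyclic hP hcyc hcard
    obtain ⟨n, hn, hn'⟩ := hdeg χ.1 χ.2
    obtain ⟨m, hm, hm'⟩ := hdeg ψ.1 ψ.2
    refine hH χ.1 ψ.1 χ.2 ψ.2 ?_ ?_
    · intro h
      apply h1
      show charDegree χ.1 = 1
      rw [hn']
      have h3 : (n : ℂ) = 1 := by rw [← hn]; exact h
      exact_mod_cast h3
    · rw [hn, hm]
      have h3 : n = m := by rw [← hn', ← hm']; exact h2
      rw [h3]

end Cfsg.Agent.S4845
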