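import Cfsg.Statements.S4871
import Mathlib
import Cfsg.Agent.Lib.Helper1.AbTwoB
import Cfsg.Agent.Lib.Helper25.RealLin
import Cfsg.Agent.Lib.Helper1.CharPRes
open Cfsg.Agent.Lib.Helper1 Cfsg.Agent.Lib.Helper25.RealLin

set_option autoImplicit false
open Cfsg

namespace Cfsg.Agent.S4871

/-- Let G be a finite group that is the semidirect product of a normal elementary abelian subgroup N of odd order by a non-trivial 2-subgroup P, with N the unique minimal normal subgroup of G. Consider the strongly real irreducible complex characters of G (Frobenius–Schur indicator +1) whose degree is 1 or even. Then their average degree is at least 4/3: four times their number is at most three times the sum of their degrees. -/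
theorem result {G : Type*} [Group G] [Finite G] (N P : Subgroup G) (hN : N.Normal) (q : ℕ) [Fact q.Prime] (hq : q ≠ 2) (hNel : Cfsg.IsElementaryAbelian q N) (hP : IsPGroup 2 ↥P) (hP1 : P ≠ ⊥) (hdisj : N ⊓ P = ⊥) (hprod : N ⊔ P = ⊤) (hmin : N ≠ ⊥ ∧ ∀ M : Subgroup G, M.Normal → M ≠ ⊥ → N ≤ M) : 4 * Nat.card {χ : Cfsg.IrrCharacter G // (Cfsg.charDegree (χ : G → ℂ) = 1 ∨ 2 ∣ Cfsg.charDegree (χ : G → ℂ)) ∧ (Nat.card G : ℂ)⁻¹ * ∑ᶠ g : G, (χ : G → ℂ) (g * g) = 1} ≤ 3 * (∑ᶠ χ : {χ : Cfsg.IrrCharacter G // (Cfsg.charDegree (χ : G → ℂ) = 1 ∨ 2 ∣ Cfsg.charDegree (χ : G → ℂ)) ∧ (Nat.card G : ℂ)⁻¹ * ∑ᶠ g : G, (χ : G → ℂ) (g * g) = 1}, Cfsg.charDegree (χ.1 : G → ℂ)) := by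
  classical
  haveI : Fintype G := Fintype.ofFinite G
  haveI : Fintype (IrrCharacter G) := irrFintype
  haveI : N.Normal := hN
  obtain ⟨T, χ₁, hidx2, hχ₁irr, hχ₁one, hχ₁sum, hfib⟩ :=
    Cfsg.Agent.Lib.Helper1.AbTwo.exists_strongly_real N P q hq hNel hP hP1 hdisj hprod hmin.1 hmin.2
  haveI : Fintype T := Fintype.ofFinite T
  have hG0 : (Nat.card G : ℂ) ≠ 0 := by exact_mod_cast Nat.card_pos.ne'
  have hk2 : 2 ≤ T.index := by
    have h0 : T.index ≠ 0 := Subgroup.index_ne_zero_of_finite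
    obtain ⟨c, hc⟩ := hidx2
    omega
  have hlin : ∀ χ : IrrCharacter G, charDegree (χ : G → ℂ) = 1 →
      ∃ lam : G →* ℂˣ, ∀ g, (χ : G → ℂ) g = ((lam g : ℂˣ) : ℂ) := by
    intro χ h
    obtain ⟨d, hd0, hd⟩ := IsIrrCharacter.degree_pos χ.2
    have h1 := charDegree_eq hd
    rw [h] at h1
    apply IsIrrCharacter.exists_monoidHom χ.2
    rw [hd, ← h1]
    simp
  have hFS : ∀ χ : IrrCharacter G,
      (Nat.card G : ℂ)⁻¹ * ∑ᶠ g : G, (χ : G → ℂ) (g * g) = 1 ↔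
        ∑ g : G, (χ : G → ℂ) (g * g) = (Nat.card G : ℂ) := by
    intro χ
    rw [finsum_eq_sum_of_fintype]
    constructor
    · intro h
      field_simp at h
      exact h
    · intro h
      rw [h]
      field_simp
  have hLfacts : ∀ χ : IrrCharacter G, charDegree (χ : G → ℂ) = 1 →
      ∑ g : G, (χ : G → ℂ) (g * g) = (Nat.card G : ℂ) →
      ∃ lam : G →* ℂˣ, (∀ g, (χ : G → ℂ) g = ((lam g : ℂˣ) : ℂ)) ∧
        ∀ g, ((lam g : ℂˣ) : ℂ) * ((lam g : ℂˣ) : ℂ) = 1 := by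
    intro χ h1 h2
    obtain ⟨lam, hlam⟩ := hlin χ h1
    refine ⟨lam, hlam, ?_⟩
    apply real_linear lam
    have h3 : ∑ g : G, ((lam (g * g) : ℂˣ) : ℂ) = (Nat.card G : ℂ) := by
      rw [← h2]
      exact Finset.sum_congr rfl (fun g _ => (hlam _).symm)
    rw [h3]
    field_simp
  have hmulirr : ∀ χ : IrrCharacter G, charDegree (χ : G → ℂ) = 1 →
      IsIrrCharacter G (fun g => (χ : G → ℂ) g * χ₁ g) := by
    intro χ h
    obtain ⟨lam, hlam⟩ := hlin χ h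
    have h1 := IsIrrCharacter.mul_linear hχ₁irr lam
    have e : (fun g => (χ : G → ℂ) g * χ₁ g) = fun g => ((lam g : ℂˣ) : ℂ) * χ₁ g := by
      funext g
      rw [hlam g]
    rw [e]
    exact h1
  obtain ⟨F, hF⟩ : ∃ F : IrrCharacter G → IrrCharacter G,
      ∀ χ : IrrCharacter G, charDegree (χ : G → ℂ) = 1 →
        (F χ : G → ℂ) = fun g => (χ : G → ℂ) g * χ₁ g := by
    refine ⟨fun χ => if h : charDegree (χ : G → ℂ) = 1 then ⟨_, hmulirr χ h⟩ else χ, ?_⟩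
    intro χ h
    simp only [dif_pos h]
  -- the finsets
  obtain ⟨X, hXdef⟩ : ∃ X : Finset (IrrCharacter G), X = Finset.univ.filter
      (fun χ : IrrCharacter G => (Cfsg.charDegree (χ : G → ℂ) = 1 ∨
        2 ∣ Cfsg.charDegree (χ : G → ℂ)) ∧
        (Nat.card G : ℂ)⁻¹ * ∑ᶠ g : G, (χ : G → ℂ) (g * g) = 1) := ⟨_, rfl⟩
  have hXmem : ∀ χ : IrrCharacter G, χ ∈ X ↔ (Cfsg.charDegree (χ : G → ℂ) = 1 ∨
        2 ∣ Cfsg.charDegree (χ : G → ℂ)) ∧
        (Nat.card G : ℂ)⁻¹ * ∑ᶠ g : G, (χ : G → ℂ) (g * g) = 1 := by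
    intro χ
    rw [hXdef, Finset.mem_filter]
    simp
  have hcard : Nat.card {χ : Cfsg.IrrCharacter G // (Cfsg.charDegree (χ : G → ℂ) = 1 ∨
        2 ∣ Cfsg.charDegree (χ : G → ℂ)) ∧
        (Nat.card G : ℂ)⁻¹ * ∑ᶠ g : G, (χ : G → ℂ) (g * g) = 1} = X.card := by
    rw [Nat.card_eq_fintype_card, Fintype.card_subtype, hXdef]
  have hsumX : (∑ᶠ χ : {χ : Cfsg.IrrCharacter G // (Cfsg.charDegree (χ : G → ℂ) = 1 ∨
        2 ∣ Cfsg.charDegree (χ : G → ℂ)) ∧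
        (Nat.card G : ℂ)⁻¹ * ∑ᶠ g : G, (χ : G → ℂ) (g * g) = 1},
          Cfsg.charDegree (χ.1 : G → ℂ)) = ∑ χ ∈ X, Cfsg.charDegree (χ : G → ℂ) := by
    rw [finsum_eq_sum_of_fintype]
    exact (Finset.sum_subtype X hXmem (fun χ : IrrCharacter G => Cfsg.charDegree (χ : G → ℂ))).symm
  rw [hcard, hsumX]
  obtain ⟨X₁, hX₁def⟩ : ∃ X₁ : Finset (IrrCharacter G),
      X₁ = X.filter (fun χ : IrrCharacter G => Cfsg.charDegree (χ : G → ℂ) = 1) := ⟨_, rfl⟩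
  obtain ⟨X₂, hX₂def⟩ : ∃ X₂ : Finset (IrrCharacter G),
      X₂ = X.filter (fun χ : IrrCharacter G => ¬ Cfsg.charDegree (χ : G → ℂ) = 1) := ⟨_, rfl⟩
  obtain ⟨Y, hYdef⟩ : ∃ Y : Finset (IrrCharacter G), Y = Finset.univ.filter
      (fun χ : IrrCharacter G => Cfsg.charDegree (χ : G → ℂ) = T.index ∧
        (Nat.card G : ℂ)⁻¹ * ∑ᶠ g : G, (χ : G → ℂ) (g * g) = 1) := ⟨_, rfl⟩
  have hYmem : ∀ χ : IrrCharacter G, χ ∈ Y ↔ Cfsg.charDegree (χ : G → ℂ) = T.index ∧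
        (Nat.card G : ℂ)⁻¹ * ∑ᶠ g : G, (χ : G → ℂ) (g * g) = 1 := by
    intro χ
    rw [hYdef, Finset.mem_filter]
    simp
  have hX₁mem : ∀ χ : IrrCharacter G, χ ∈ X₁ ↔ Cfsg.charDegree (χ : G → ℂ) = 1 ∧
        (Nat.card G : ℂ)⁻¹ * ∑ᶠ g : G, (χ : G → ℂ) (g * g) = 1 := by
    intro χ
    rw [hX₁def, Finset.mem_filter, hXmem]
    constructor
    · rintro ⟨⟨-, h2⟩, h3⟩
      exact ⟨h3, h2⟩
    · rintro ⟨h1, h2⟩
      exact ⟨⟨Or.inl h1, h2⟩, h1⟩
  have hcardsplit : X₁.card + X₂.card = X.card := by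
    rw [hX₁def, hX₂def]
    exact Finset.card_filter_add_card_filter_not _
  have hsumsplit : ∑ χ ∈ X, Cfsg.charDegree (χ : G → ℂ)
      = X₁.card + ∑ χ ∈ X₂, Cfsg.charDegree (χ : G → ℂ) := by
    rw [← Finset.sum_filter_add_sum_filter_not X (fun χ : IrrCharacter G => Cfsg.charDegree (χ : G → ℂ) = 1),
      ← hX₁def, ← hX₂def]
    congr 1
    rw [Finset.card_eq_sum_ones]
    refine Finset.sum_congr rfl (fun χ hχ => ?_)
    exact ((hX₁mem χ).mp hχ).1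
  have hYsub : Y ⊆ X₂ := by
    intro χ hχ
    obtain ⟨h1, h2⟩ := (hYmem χ).mp hχ
    rw [hX₂def, Finset.mem_filter, hXmem]
    refine ⟨⟨Or.inr ?_, h2⟩, ?_⟩
    · rw [h1]
      exact hidx2
    · rw [h1]
      omega
  have hX₂deg : ∀ χ ∈ X₂, 4 + (if χ ∈ Y then T.index else 0)
      ≤ 3 * Cfsg.charDegree (χ : G → ℂ) := by
    intro χ hχ
    rw [hX₂def, Finset.mem_filter, hXmem] at hχ
    obtain ⟨⟨h1, -⟩, h2⟩ := hχ
    have h3 : 2 ∣ Cfsg.charDegree (χ : G → ℂ) := by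
      rcases h1 with h | h
      · exact absurd h h2
      · exact h
    obtain ⟨d, hd0, hd⟩ := IsIrrCharacter.degree_pos χ.2
    have h4 := charDegree_eq hd
    have h5 : 2 ≤ Cfsg.charDegree (χ : G → ℂ) := by
      obtain ⟨c, hc⟩ := h3
      omega
    by_cases hY : χ ∈ Y
    · rw [if_pos hY]
      have h6 := ((hYmem χ).mp hY).1
      omega
    · rw [if_neg hY]
      omega
  have hfibre : X₁.card ≤ T.index * Y.card := by
    refine le_trans (Finset.card_le_mul_card_image (f := F) _ T.index ?_)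
      (Nat.mul_le_mul_left _ (Finset.card_le_card ?_))
    · -- fibre bound
      intro b hb
      obtain ⟨χ₀, hχ₀L, rfl⟩ := Finset.mem_image.mp hb
      obtain ⟨hχ₀d, hχ₀fs⟩ := (hX₁mem χ₀).mp hχ₀L
      obtain ⟨lam₀, hlam₀, hlam₀sq⟩ := hLfacts χ₀ hχ₀d ((hFS χ₀).mp hχ₀fs)
      obtain ⟨g', hg'⟩ : ∃ g' : IrrCharacter G → IrrCharacter G,
          ∀ χ : IrrCharacter G, (g' χ : G → ℂ) = fun x => ((lam₀ x : ℂˣ) : ℂ) * (χ : G → ℂ) x :=
        ⟨fun χ => ⟨_, IsIrrCharacter.mul_linear χ.2 lam₀⟩, fun χ => rfl⟩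
      refine le_trans (Finset.card_le_card_of_injOn g' ?_ ?_) (card_linear_trivial_le T)
      · -- maps to
        intro χ hχ
        have hχ' := Finset.mem_filter.mp (Finset.mem_coe.mp hχ)
        obtain ⟨hχd, hχfs⟩ := (hX₁mem χ).mp hχ'.1
        have hFeq : F χ = F χ₀ := hχ'.2
        obtain ⟨lam, hlam, hlamsq⟩ := hLfacts χ hχd ((hFS χ).mp hχfs)
        have hFeq' : ∀ g : G, ((lam g : ℂˣ) : ℂ) * χ₁ g = ((lam₀ g : ℂˣ) : ℂ) * χ₁ g := by
          intro g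
          have h1 := congrFun (congrArg Subtype.val hFeq) g
          rw [hF χ hχd, hF χ₀ hχ₀d] at h1
          rw [← hlam g, ← hlam₀ g]
          exact h1
        have hγfix : ∀ g : G, (((lam₀ * lam) g : ℂˣ) : ℂ) * χ₁ g = χ₁ g := by
          intro g
          rw [MonoidHom.mul_apply, Units.val_mul, mul_assoc, hFeq' g, ← mul_assoc, hlam₀sq g,
            one_mul]
        have hγsq : ∀ g : G, (((lam₀ * lam) g : ℂˣ) : ℂ) * (((lam₀ * lam) g : ℂˣ) : ℂ) = 1 := by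
          intro g
          rw [MonoidHom.mul_apply, Units.val_mul]
          calc ((lam₀ g : ℂˣ) : ℂ) * ((lam g : ℂˣ) : ℂ) * (((lam₀ g : ℂˣ) : ℂ) * ((lam g : ℂˣ) : ℂ))
              = (((lam₀ g : ℂˣ) : ℂ) * ((lam₀ g : ℂˣ) : ℂ))
                * (((lam g : ℂˣ) : ℂ) * ((lam g : ℂˣ) : ℂ)) := by ring
            _ = 1 := by rw [hlam₀sq g, hlamsq g, one_mul]
        have hγone := hfib (lam₀ * lam) hγsq hγfix
        rw [Finset.mem_coe, Finset.mem_filter]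
        refine ⟨Finset.mem_univ _, ?_, ?_⟩
        · rw [hg' χ]
          show ((lam₀ 1 : ℂˣ) : ℂ) * (χ : G → ℂ) 1 = 1
          rw [hlam 1, map_one, map_one]
          simp
        · intro x hx
          rw [hg' χ]
          show ((lam₀ x : ℂˣ) : ℂ) * (χ : G → ℂ) x = 1
          rw [hlam x, ← Units.val_mul, ← MonoidHom.mul_apply]
          rw [hγone x hx]
          rfl
      · -- injective
        intro χ _ χ' _ h
        apply Subtype.ext
        funext x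
        have h1 := congrFun (congrArg Subtype.val h) x
        rw [hg' χ, hg' χ'] at h1
        exact mul_left_cancel₀ (Units.ne_zero _) h1
    · -- image lies in Y
      intro b hb
      obtain ⟨χ, hχL, rfl⟩ := Finset.mem_image.mp hb
      obtain ⟨hχd, hχfs⟩ := (hX₁mem χ).mp hχL
      obtain ⟨lam, hlam, hlamsq⟩ := hLfacts χ hχd ((hFS χ).mp hχfs)
      rw [hYmem]
      refine ⟨?_, ?_⟩
      · apply charDegree_eq
        rw [hF χ hχd]
        show (χ : G → ℂ) 1 * χ₁ 1 = _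
        rw [hlam 1, map_one, hχ₁one]
        simp
      · rw [hFS, hF χ hχd, ← hχ₁sum]
        refine Finset.sum_congr rfl (fun g _ => ?_)
        show (χ : G → ℂ) (g * g) * χ₁ (g * g) = χ₁ (g * g)
        rw [hlam (g * g), map_mul, Units.val_mul, hlamsq g, one_mul]
  have hsum2 : 4 * X₂.card + T.index * Y.card ≤ ∑ χ ∈ X₂, 3 * Cfsg.charDegree (χ : G → ℂ) := by
    have h1 : ∑ χ ∈ X₂, (4 + (if χ ∈ Y then T.index else 0))
        ≤ ∑ χ ∈ X₂, 3 * Cfsg.charDegree (χ : G → ℂ) := Finset.sum_le_sum hX₂deg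
    have h2 : ∑ χ ∈ X₂, (4 + (if χ ∈ Y then T.index else 0))
        = 4 * X₂.card + ∑ χ ∈ X₂, (if χ ∈ Y then T.index else 0) := by
      rw [Finset.sum_add_distrib, Finset.sum_const, smul_eq_mul, mul_comm]
    have h3 : ∑ χ ∈ Y, (if χ ∈ Y then T.index else 0)
        ≤ ∑ χ ∈ X₂, (if χ ∈ Y then T.index else 0) :=
      Finset.sum_le_sum_of_subset hYsub
    have h4 : ∑ χ ∈ Y, (if χ ∈ Y then T.index else 0) = T.index * Y.card := by
      rw [Finset.sum_congr rfl (fun χ hχ => if_pos hχ), Finset.sum_const, smul_eq_mul, mul_comm]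
    omega
  rw [hsumsplit, ← hcardsplit]
  rw [← Finset.mul_sum] at hsum2
  omega

end Cfsg.Agent.S4871
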