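import Cfsg.Statements.S4873
import Mathlib
import Cfsg.Agent.Lib.Helper25.FrobSchur
import Cfsg.Agent.Lib.Helper10.FS2
import Cfsg.Agent.Lib.Helper1.CharReal
import Cfsg.Agent.Lib.Helper1.CharMisc
import Cfsg.Agent.Lib.Helper1.CharPRes

set_option autoImplicit false
open Cfsg

namespace Cfsg.Agent.S4873

open Cfsg.Agent.Lib.Helper1 Cfsg.Agent.Lib.Helper25.FrobSchur Cfsg.Agent.Lib.Helper10.FS
open scoped ComplexConjugate

/-- In a quotient of odd order, square roots of elements of `N` lie in `N`. -/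
theorem sq_mem {G : Type*} [Group G] [Finite G] (N : Subgroup G) [N.Normal] (hodd : Odd N.index)
    {u : G} (h : u * u ∈ N) : u ∈ N := by
  rw [← QuotientGroup.eq_one_iff]
  have h1 : ((u : G ⧸ N)) ^ 2 = 1 := by
    rw [pow_two, ← QuotientGroup.mk_mul, QuotientGroup.eq_one_iff]; exact h
  have h2 : orderOf (u : G ⧸ N) ∣ 2 := orderOf_dvd_of_pow_eq_one h1
  have h3 : orderOf (u : G ⧸ N) ∣ N.index := by
    rw [Subgroup.index_eq_card]; exact orderOf_dvd_natCard _
  have h4 : orderOf (u : G ⧸ N) ∣ Nat.gcd 2 N.index := Nat.dvd_gcd h2 h3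
  have h5 : Nat.gcd 2 N.index = 1 := Nat.coprime_two_left.mpr hodd
  rw [h5, Nat.dvd_one] at h4
  exact orderOf_eq_one_iff.mp h4

/-- Counting square roots in `G` of elements of `N`. -/
theorem sum_sqCount_restrict {G : Type*} [Group G] [Fintype G] (N : Subgroup G) [N.Normal]
    [Fintype N] (hodd : Odd N.index) (F : N → ℂ) :
    ∑ n : N, sqCount (n : G) * F n = ∑ u : N, F (u * u) := by
  classical
  unfold sqCount
  have h1 : ∀ n : N, (∑ u : G, if u * u = (n : G) then (1 : ℂ) else 0) * F n =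
      ∑ u : G, if u * u = (n : G) then F n else 0 := by
    intro n
    rw [Finset.sum_mul]
    apply Finset.sum_congr rfl
    intro u _
    split_ifs <;> simp
  rw [Finset.sum_congr rfl (fun n _ => h1 n), Finset.sum_comm]
  rw [← Fintype.sum_subtype_add_sum_subtype (fun u : G => u ∈ N)
    (fun u => ∑ n : N, if u * u = (n : G) then F n else 0)]
  have h2 : ∑ u : {u : G // u ∉ N}, ∑ n : N, (if (u : G) * (u : G) = (n : G) then F n else 0) = 0 := by
    apply Finset.sum_eq_zero
    intro u _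
    apply Finset.sum_eq_zero
    intro n _
    rw [if_neg]
    intro h
    apply u.2
    apply sq_mem N hodd
    rw [h]; exact n.2
  rw [h2, add_zero]
  refine Finset.sum_congr (by ext x; simp) ?_
  intro u _
  show (∑ n : N, if (u : G) * (u : G) = (n : G) then F n else 0) = F (u * u)
  rw [Finset.sum_eq_single (u * u)]
  · rw [if_pos]; rfl
  · intro n _ hne
    rw [if_neg]
    intro h
    apply hne
    apply Subtype.ext
    rw [← h]; rfl
  · intro h; exact absurd (Finset.mem_univ _) h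

/-- The relative Frobenius–Schur identity. -/
theorem key_identity {G : Type*} [Group G] [Fintype G] [Fintype (Cfsg.IrrCharacter G)]
    (N : Subgroup G) [N.Normal] [Fintype N] (hodd : Odd N.index) (φ : N → ℂ) :
    ∑ χ : Cfsg.IrrCharacter G, conj (ind (χ : G → ℂ)) *
        (∑ n : N, (χ : G → ℂ) n * conj (φ n)) = ∑ u : N, conj (φ (u * u)) := by
  rw [← sum_sqCount_restrict N hodd (fun n => conj (φ n))]
  have h1 : ∀ n : N, sqCount (n : G) * conj (φ n) =
      ∑ χ : Cfsg.IrrCharacter G, conj (ind (χ : G → ℂ)) * ((χ : G → ℂ) n * conj (φ n)) := by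
    intro n
    rw [sqCount_expansion, Finset.sum_mul]
    apply Finset.sum_congr rfl
    intro χ _
    have h2 : conj (ind (χ : G → ℂ)) =
        (Nat.card G : ℂ)⁻¹ * ∑ u : G, conj ((χ : G → ℂ) (u * u)) := by
      unfold ind
      rw [map_mul, map_inv₀, Complex.conj_natCast, map_sum]
    rw [h2]; ring
  rw [Finset.sum_congr rfl (fun n _ => h1 n), Finset.sum_comm]
  apply Finset.sum_congr rfl
  intro χ _
  rw [Finset.mul_sum]

/-- the principal character -/
noncomputable def triv (G : Type*) [Group G] : Cfsg.IrrCharacter G :=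
  ⟨fun _ => (1 : ℂ), isIrrCharacter_one⟩

/-- complex conjugate of an irreducible character -/
noncomputable def cj {G : Type*} [Group G] [Finite G] (η : Cfsg.IrrCharacter G) :
    Cfsg.IrrCharacter G :=
  ⟨fun g => conj ((η : G → ℂ) g), IsIrrCharacter.conj η.2⟩

/-- An irreducible character with the trivial character of `N` as a constituent is constant
on `N`. -/
theorem const_on_of_inner {G : Type*} [Group G] [Fintype G] (N : Subgroup G) [N.Normal]
    [Fintype N] {η : G → ℂ} (hη : Cfsg.IsIrrCharacter G η)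
    (h : Cfsg.classInner (fun n : N => η n) (fun _ : N => (1 : ℂ)) ≠ 0) :
    ∀ n ∈ N, η n = η 1 := by
  classical
  have hcl := clifford N hη (isIrrCharacter_one (G := N)) h
  have hS : {ψ : N → ℂ | ∃ g : G, ψ = conjChar N (fun _ : N => (1 : ℂ)) g} =
      {fun _ : N => (1 : ℂ)} := by
    ext ψ
    simp only [Set.mem_ofPred_eq, Set.mem_singleton_iff]
    constructor
    · rintro ⟨g, rfl⟩; rfl
    · intro hψ; exact ⟨1, by rw [hψ]; rfl⟩
  rw [hS, finsum_mem_singleton] at hcl
  intro n hn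
  have h1 := congrFun hcl ⟨n, hn⟩
  have h2 := congrFun hcl 1
  simp only [Pi.smul_apply, smul_eq_mul, mul_one] at h1 h2
  have h3 : η ((1 : N) : G) = η 1 := rfl
  rw [← h3, h2]
  exact h1

/-- Parity lemma: for a real character `ψ` of `G` and `N` normal of odd index, the
multiplicities of the principal characters in `ψ_N` and in `ψ` have the same parity. -/
theorem parity {G : Type*} [Group G] [Fintype G] (N : Subgroup G) [N.Normal] [Fintype N]
    (hodd : Odd N.index) {ψ : G → ℂ} (hψ : Cfsg.IsCharacter G ψ) (hreal : ∀ g, (ψ g).im = 0)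
    (a b : ℕ) (ha : Cfsg.classInner (fun n : N => ψ n) (fun _ : N => (1 : ℂ)) = (a : ℂ))
    (hb : Cfsg.classInner ψ (fun _ : G => (1 : ℂ)) = (b : ℂ)) : (a : ZMod 2) = (b : ZMod 2) := by
  classical
  haveI : Fintype (Cfsg.IrrCharacter G) := irrFintype
  obtain ⟨m, hm1, hm2⟩ := IsCharacter.eq_sum_irr hψ
  -- multiplicities of 1_N in η_N
  have hex : ∀ η : Cfsg.IrrCharacter G, ∃ k : ℕ,
      Cfsg.classInner (fun n : N => (η : G → ℂ) n) (fun _ : N => (1 : ℂ)) = (k : ℂ) := fun η =>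
    IsCharacter.classInner_irr_nat (IsCharacter.restrict (IsIrrCharacter.isCharacter η.2) N)
      isIrrCharacter_one
  choose k hk using hex
  have hconjψ : ∀ g, conj (ψ g) = ψ g := fun g => Complex.conj_eq_iff_im.mpr (hreal g)
  -- a = ∑ m η * k η
  have ha2 : (a : ℂ) = ∑ η : Cfsg.IrrCharacter G, ((m η * k η : ℕ) : ℂ) := by
    rw [← ha]
    have e1 : (fun n : N => ψ n) =
        ∑ η : Cfsg.IrrCharacter G, (m η : ℂ) • (fun n : N => (η : G → ℂ) n) := by
      funext n
      have := congrFun hm2 n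
      rw [this]
      simp only [Finset.sum_apply, Pi.smul_apply]
    rw [e1, classInner_sum_left]
    apply Finset.sum_congr rfl
    intro η _
    rw [classInner_smul_left, hk η]
    push_cast; ring
  have ha3 : a = ∑ η : Cfsg.IrrCharacter G, m η * k η := by
    have : (a : ℂ) = ((∑ η : Cfsg.IrrCharacter G, m η * k η : ℕ) : ℂ) := by
      rw [ha2]; push_cast; rfl
    exact_mod_cast this
  have hb2 : b = m (triv G) := by
    have h1 := hm1 (triv G)
    have h2 : Cfsg.classInner ψ ((triv G : Cfsg.IrrCharacter G) : G → ℂ) = (b : ℂ) := hb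
    rw [h2] at h1
    exact_mod_cast h1
  have hk1 : k (triv G) = 1 := by
    have h1 := hk (triv G)
    have h2 : Cfsg.classInner (fun n : N => ((triv G : Cfsg.IrrCharacter G) : G → ℂ) n)
        (fun _ : N => (1 : ℂ)) = 1 := classInner_irr_self (isIrrCharacter_one (G := N))
    rw [h2] at h1
    exact_mod_cast h1.symm
  -- symmetry under complex conjugation
  have hmc : ∀ η : Cfsg.IrrCharacter G, m (cj η) = m η := by
    intro η
    have h1 := hm1 (cj η)
    have h2 := hm1 η
    have h3 : Cfsg.classInner ψ ((cj η : Cfsg.IrrCharacter G) : G → ℂ) =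
        conj (Cfsg.classInner ψ (η : G → ℂ)) := by
      unfold Cfsg.classInner
      rw [map_mul, map_inv₀, Complex.conj_natCast, map_sum]
      congr 1
      apply Finset.sum_congr rfl
      intro g _
      show ψ g * conj (conj ((η : G → ℂ) g)) = conj (ψ g * conj ((η : G → ℂ) g))
      rw [map_mul, hconjψ]
    rw [h3, h2, Complex.conj_natCast] at h1
    exact_mod_cast h1.symm
  have hkc : ∀ η : Cfsg.IrrCharacter G, k (cj η) = k η := by
    intro η
    have h1 := hk (cj η)
    have h2 := hk η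
    have h3 : Cfsg.classInner (fun n : N => ((cj η : Cfsg.IrrCharacter G) : G → ℂ) n)
        (fun _ : N => (1 : ℂ)) =
        conj (Cfsg.classInner (fun n : N => (η : G → ℂ) n) (fun _ : N => (1 : ℂ))) := by
      unfold Cfsg.classInner
      rw [map_mul, map_inv₀, Complex.conj_natCast, map_sum]
      congr 1
      apply Finset.sum_congr rfl
      intro g _
      show conj ((η : G → ℂ) g) * conj (1 : ℂ) = conj ((η : G → ℂ) g * conj (1 : ℂ))
      simp
    rw [h3, h2, Complex.conj_natCast] at h1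
    exact_mod_cast h1.symm
  have hoddQ : Odd (Nat.card (G ⧸ N)) := by rw [← Subgroup.index_eq_card]; exact hodd
  -- a real irreducible character other than the principal one has k = 0
  have hk0 : ∀ η : Cfsg.IrrCharacter G, cj η = η → η ≠ triv G → k η = 0 := by
    intro η hη hne
    by_contra hk0
    have h1 : Cfsg.classInner (fun n : N => (η : G → ℂ) n) (fun _ : N => (1 : ℂ)) ≠ 0 := by
      rw [hk η]
      exact_mod_cast hk0
    have h2 := const_on_of_inner N η.2 h1
    obtain ⟨β', hβ', hβ⟩ := IsIrrCharacter.deflate N η.2 h2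
    have hrealβ : ∀ q : G ⧸ N, (β' q).im = 0 := by
      intro q
      obtain ⟨g, rfl⟩ := QuotientGroup.mk_surjective q
      rw [← hβ g]
      have h3 := congrArg (fun x : Cfsg.IrrCharacter G => (x : G → ℂ) g) hη
      exact Complex.conj_eq_iff_im.mp h3
    have h4 := real_irr_eq_one_of_odd hoddQ hβ' hrealβ
    apply hne
    apply Subtype.ext
    funext g
    rw [hβ g, h4]
    rfl
  have hcjcj : ∀ η : Cfsg.IrrCharacter G, cj (cj η) = η := by
    intro η
    apply Subtype.ext
    funext g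
    show conj (conj ((η : G → ℂ) g)) = (η : G → ℂ) g
    simp
  have hcjtriv : cj (triv G) = triv G := by
    apply Subtype.ext
    funext g
    show conj (1 : ℂ) = 1
    simp
  have hsum : ∑ η ∈ Finset.univ.erase (triv G), ((m η * k η : ℕ) : ZMod 2) = 0 := by
    refine Finset.sum_involution (fun η _ => cj η) ?_ ?_ ?_ ?_
    · intro η _
      rw [hmc, hkc]
      exact CharTwo.add_self_eq_zero _
    · intro η hmem hne heq
      apply hne
      rw [hk0 η heq (Finset.mem_erase.mp hmem).1]; simp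
    · intro η hmem
      rw [Finset.mem_erase]
      refine ⟨?_, Finset.mem_univ _⟩
      intro h
      apply (Finset.mem_erase.mp hmem).1
      rw [← hcjcj η, h, hcjtriv]
    · intro η _
      exact hcjcj η
  rw [ha3, hb2]
  push_cast
  rw [← Finset.add_sum_erase Finset.univ _ (Finset.mem_univ (triv G))]
  have := hsum
  push_cast at this
  rw [this, add_zero, hk1]
  simp

/-- Two real irreducible characters of `G` lying over the same irreducible character of a
normal subgroup of odd index coincide. -/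
theorem unique_real {G : Type*} [Group G] [Fintype G] (N : Subgroup G) [N.Normal] [Fintype N]
    (hodd : Odd N.index) {φ : N → ℂ} (hφ : Cfsg.IsIrrCharacter N φ)
    (χ₁ χ₂ : Cfsg.IrrCharacter G) (hr1 : ∀ g, ((χ₁ : G → ℂ) g).im = 0)
    (hr2 : ∀ g, ((χ₂ : G → ℂ) g).im = 0)
    (h1 : Cfsg.classInner (fun n : N => (χ₁ : G → ℂ) n) φ ≠ 0)
    (h2 : Cfsg.classInner (fun n : N => (χ₂ : G → ℂ) n) φ ≠ 0) : χ₁ = χ₂ := by
  classical
  have hc1 := clifford N χ₁.2 hφ h1
  have hc2 := clifford N χ₂.2 hφ h2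
  have hR1 := IsCharacter.restrict (IsIrrCharacter.isCharacter χ₁.2) N
  have hR2 := IsCharacter.restrict (IsIrrCharacter.isCharacter χ₂.2) N
  obtain ⟨e1, he1⟩ := IsCharacter.classInner_irr_nat hR1 hφ
  obtain ⟨e2, he2⟩ := IsCharacter.classInner_irr_nat hR2 hφ
  obtain ⟨Θ, hΘ⟩ : ∃ Θ : N → ℂ, Θ = ∑ᶠ ψ ∈ {ψ : N → ℂ | ∃ g : G, ψ = conjChar N φ g}, ψ :=
    ⟨_, rfl⟩
  rw [← hΘ, he1] at hc1
  rw [← hΘ, he2] at hc2
  obtain ⟨a, ha⟩ := IsCharacter.classInner_nat hR1 hR1
  obtain ⟨b, hb⟩ := IsCharacter.classInner_nat hR2 hR2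
  obtain ⟨c, hc⟩ := IsCharacter.classInner_nat hR1 hR2
  have hcab : c * c = a * b := by
    have : (c : ℂ) * c = a * b := by
      rw [← hc, ← ha, ← hb, hc1, hc2]
      simp only [classInner_smul_left, classInner_smul_right, Complex.conj_natCast]
      ring
    exact_mod_cast this
  have hcj1 : ∀ g, conj ((χ₁ : G → ℂ) g) = (χ₁ : G → ℂ) g :=
    fun g => Complex.conj_eq_iff_im.mpr (hr1 g)
  have hcj2 : ∀ g, conj ((χ₂ : G → ℂ) g) = (χ₂ : G → ℂ) g :=
    fun g => Complex.conj_eq_iff_im.mpr (hr2 g)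
  -- parity for products
  have hprod : ∀ (η₁ η₂ : Cfsg.IrrCharacter G), (∀ g, ((η₁ : G → ℂ) g).im = 0) →
      (∀ g, ((η₂ : G → ℂ) g).im = 0) → ∀ (x y : ℕ),
      Cfsg.classInner (fun n : N => (η₁ : G → ℂ) n) (fun n : N => (η₂ : G → ℂ) n) = (x : ℂ) →
      Cfsg.classInner (η₁ : G → ℂ) (η₂ : G → ℂ) = (y : ℂ) → (x : ZMod 2) = (y : ZMod 2) := by
    intro η₁ η₂ hre1 hre2 x y hx hy
    have hc2' : ∀ g, conj ((η₂ : G → ℂ) g) = (η₂ : G → ℂ) g :=
      fun g => Complex.conj_eq_iff_im.mpr (hre2 g)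
    apply parity N hodd (ψ := (η₁ : G → ℂ) * (η₂ : G → ℂ))
      (IsCharacter.mul (IsIrrCharacter.isCharacter η₁.2) (IsIrrCharacter.isCharacter η₂.2))
    · intro g
      show ((η₁ : G → ℂ) g * (η₂ : G → ℂ) g).im = 0
      rw [Complex.mul_im, hre1 g, hre2 g]; simp
    · rw [← hx]
      unfold Cfsg.classInner
      congr 1
      apply Finset.sum_congr rfl
      intro n _
      show (η₁ : G → ℂ) n * (η₂ : G → ℂ) n * conj (1 : ℂ) = (η₁ : G → ℂ) n * conj ((η₂ : G → ℂ) n)
      rw [hc2']; simp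
    · rw [← hy]
      unfold Cfsg.classInner
      congr 1
      apply Finset.sum_congr rfl
      intro g _
      show (η₁ : G → ℂ) g * (η₂ : G → ℂ) g * conj (1 : ℂ) = (η₁ : G → ℂ) g * conj ((η₂ : G → ℂ) g)
      rw [hc2']; simp
  have ha1 : (a : ZMod 2) = ((1 : ℕ) : ZMod 2) :=
    hprod χ₁ χ₁ hr1 hr1 a 1 ha (by rw [classInner_irr_self χ₁.2]; simp)
  have hb1 : (b : ZMod 2) = ((1 : ℕ) : ZMod 2) :=
    hprod χ₂ χ₂ hr2 hr2 b 1 hb (by rw [classInner_irr_self χ₂.2]; simp)
  by_contra hne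
  have hne' : (χ₁ : G → ℂ) ≠ (χ₂ : G → ℂ) := fun h => hne (Subtype.ext h)
  have hc0 : (c : ZMod 2) = ((0 : ℕ) : ZMod 2) :=
    hprod χ₁ χ₂ hr1 hr2 c 0 hc (by rw [classInner_irr_ne χ₁.2 χ₂.2 hne']; simp)
  have h3 : ((c * c : ℕ) : ZMod 2) = ((a * b : ℕ) : ZMod 2) := by rw [hcab]
  push_cast at h3
  rw [hc0, ha1, hb1] at h3
  simp at h3

/-- Let N be a normal subgroup of odd index in the finite group G. Then every irreducible complex character of N with Frobenius–Schur indicator +1 lies under exactly one irreducible character of G with Frobenius–Schur indicator +1. -/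
theorem result {G : Type*} [Group G] [Finite G] (N : Subgroup G) [N.Normal] (hodd : Odd N.index) (φ : Cfsg.IrrCharacter ↥N) (hφ : (Nat.card ↥N : ℂ)⁻¹ * ∑ᶠ g : ↥N, (φ : ↥N → ℂ) (g * g) = 1) : ∃! χ : Cfsg.IrrCharacter G, (Nat.card G : ℂ)⁻¹ * ∑ᶠ g : G, (χ : G → ℂ) (g * g) = 1 ∧ (∑ᶠ n : ↥N, (χ : G → ℂ) n * (starRingEnd ℂ) ((φ : ↥N → ℂ) n)) ≠ 0 := by
  classical
  haveI := Fintype.ofFinite G
  haveI : Fintype N := Fintype.ofFinite N
  haveI : Fintype (Cfsg.IrrCharacter G) := irrFintype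
  rw [finsum_eq_sum_of_fintype] at hφ
  have hNne : (Nat.card N : ℂ) ≠ 0 := by
    have := Nat.card_pos (α := N)
    exact_mod_cast this.ne'
  have hsumφ : ∑ u : N, (φ : N → ℂ) (u * u) = (Nat.card N : ℂ) := by
    have h1 : (Nat.card N : ℂ) * ((Nat.card N : ℂ)⁻¹ * ∑ u : N, (φ : N → ℂ) (u * u)) =
        (Nat.card N : ℂ) * 1 := by rw [hφ]
    rw [← mul_assoc, mul_inv_cancel₀ hNne, one_mul, mul_one] at h1
    exact h1
  have hkey := key_identity N hodd (φ : N → ℂ)
  have hrhs : ∑ u : N, conj ((φ : N → ℂ) (u * u)) = (Nat.card N : ℂ) := by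
    rw [← map_sum, hsumφ, Complex.conj_natCast]
  rw [hrhs] at hkey
  have hex : ∀ χ : Cfsg.IrrCharacter G, ∃ k : ℕ,
      Cfsg.classInner (fun n : N => (χ : G → ℂ) n) (φ : N → ℂ) = (k : ℂ) := fun χ =>
    IsCharacter.classInner_irr_nat (IsCharacter.restrict (IsIrrCharacter.isCharacter χ.2) N) φ.2
  choose k hk using hex
  have hS : ∀ χ : Cfsg.IrrCharacter G,
      ∑ n : N, (χ : G → ℂ) n * conj ((φ : N → ℂ) n) = (Nat.card N : ℂ) * k χ := by
    intro χ
    have h1 := hk χ
    unfold Cfsg.classInner at h1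
    rw [← h1, ← mul_assoc, mul_inv_cancel₀ hNne, one_mul]
  have hexists : ∃ χ : Cfsg.IrrCharacter G, ind (χ : G → ℂ) = 1 ∧ k χ ≠ 0 := by
    by_contra hcon
    push Not at hcon
    have hle : ∀ χ : Cfsg.IrrCharacter G, (conj (ind (χ : G → ℂ)) *
        (∑ n : N, (χ : G → ℂ) n * conj ((φ : N → ℂ) n))).re ≤ 0 := by
      intro χ
      rw [hS χ]
      rcases ind_irr χ.2 with ⟨h0, -⟩ | ⟨h1 | h1, -⟩
      · rw [h0]; simp
      · rw [hcon χ h1]; simp
      · rw [h1]
        have e : conj (-1 : ℂ) * ((Nat.card N : ℂ) * (k χ : ℂ)) =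
            ((-((Nat.card N : ℝ) * (k χ : ℝ)) : ℝ) : ℂ) := by
          push_cast; simp
        rw [e, Complex.ofReal_re]
        have : (0 : ℝ) ≤ (Nat.card N : ℝ) * (k χ : ℝ) := by positivity
        linarith
    have h2 : (∑ χ : Cfsg.IrrCharacter G, conj (ind (χ : G → ℂ)) *
        (∑ n : N, (χ : G → ℂ) n * conj ((φ : N → ℂ) n))).re ≤ 0 := by
      rw [Complex.re_sum]
      exact Finset.sum_nonpos (fun χ _ => hle χ)
    rw [hkey] at h2
    have h3 : (0 : ℝ) < (Nat.card N : ℝ) := by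
      have := Nat.card_pos (α := N)
      exact_mod_cast this
    rw [Complex.natCast_re] at h2
    linarith
  obtain ⟨χ, hχ1, hχk⟩ := hexists
  have hr : ∀ (η : Cfsg.IrrCharacter G), ind (η : G → ℂ) = 1 → ∀ g, ((η : G → ℂ) g).im = 0 := by
    intro η h
    rcases ind_irr η.2 with ⟨h0, -⟩ | ⟨-, hre⟩
    · rw [h] at h0; norm_num at h0
    · exact hre
  refine ⟨χ, ⟨?_, ?_⟩, ?_⟩
  · rw [finsum_eq_sum_of_fintype]; exact hχ1
  · rw [finsum_eq_sum_of_fintype, hS χ]
    exact mul_ne_zero hNne (by exact_mod_cast hχk)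
  · rintro χ' ⟨h1', h2'⟩
    rw [finsum_eq_sum_of_fintype] at h1' h2'
    have hk' : k χ' ≠ 0 := by
      intro h0; apply h2'; rw [hS χ', h0]; simp
    apply unique_real N hodd φ.2 χ' χ (hr χ' h1') (hr χ hχ1)
    · rw [hk χ']; exact_mod_cast hk'
    · rw [hk χ]; exact_mod_cast hχk

end Cfsg.Agent.S4873
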