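import Cfsg.Statements.S4888
import Mathlib
import Cfsg.Agent.Lib.Helper25.PrincNPC

set_option autoImplicit false
open Cfsg

namespace Cfsg.Agent.S4888

open Cfsg.Agent.Lib.Helper24 Cfsg.Agent.Lib.Helper25

/-- Let G be a finite group, p a prime and M a maximal ideal of the algebraic integers containing p. Then all height-zero irreducible characters of the principal p-block of G (equivalently, all its characters of degree prime to p) have the same degree if and only if G has a normal p-complement. -/
theorem result {G : Type*} [Group G] [Finite G] (p : ℕ) [Fact p.Prime] (M : Ideal Cfsg.AlgInt) (hM : Cfsg.IsPModular p M) : (∃ d : ℕ, ∀ χ : Cfsg.IrrCharacter G, χ ∈ (Cfsg.principalBlock M G) → Cfsg.blockHeight p (Cfsg.principalBlock M G) (χ : G → ℂ) = 0 → Cfsg.charDegree (χ : G → ℂ) = d) ↔ Cfsg.HasNormalPComplement p G := by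
  classical
  let _ : Fintype G := Fintype.ofFinite G
  have hmax := hM.2.1
  constructor
  · rintro ⟨d, hd⟩
    have hd1 : d = 1 := by
      have h1 := hd ⟨fun _ => 1, CharBasic.irr_trivial⟩ (DefectGroup.trivial_mem_principal hmax)
        ((PrincNPC.height_zero_iff p hmax _).mpr (by
          have h2 : charDegree (fun _ : G => (1 : ℂ)) = 1 := by
            unfold charDegree
            simp
          show (charDegree (fun _ : G => (1 : ℂ))).factorization p = 0
          rw [h2]
          simp))
      rw [← h1]
      unfold charDegree
      simp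
    have hH : ∀ χ : IrrCharacter G, χ ∈ principalBlock M G →
        (charDegree (χ : G → ℂ)).factorization p = 0 → charDegree (χ : G → ℂ) = 1 :=
      fun χ hχ h0 => (hd χ hχ ((PrincNPC.height_zero_iff p hmax χ).mpr h0)).trans hd1
    obtain ⟨P⟩ : Nonempty (Sylow p G) := inferInstance
    exact PrincNPC.npc_of_extend P (PrincNPC.exists_extension hM hH P)
  · intro h
    exact ⟨1, fun χ hχ hh =>
      PrincNPC.deg_one_of_npc hM h χ hχ ((PrincNPC.height_zero_iff p hmax χ).mp hh)⟩

end Cfsg.Agent.S4888
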