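import Mathlib
import Cfsg.Statements.S4911
import Cfsg.Agent.Lib.Helper10.Glaub13
import Cfsg.Agent.Lib.Helper1.CharReal

set_option autoImplicit false
set_option linter.unusedSectionVars false
open Cfsg

namespace Cfsg.Agent.S4911

open Cfsg.Agent.Lib.Helper1 Cfsg.Agent.Lib.Helper10.Glaub
open scoped ComplexConjugate

universe u

section aux

variable {Γ : Type u} [Group Γ]

/-- the Glauberman relation between characters of `H` and of `C` -/
def Rel (p : ℕ) {H C : Subgroup Γ} [Fintype H] [Fintype C] (hCH : C ≤ H) (χ : H → ℂ)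
    (β : C → ℂ) : Prop :=
  ∃ m : ℕ, classInner (res hCH χ) β = m ∧ ¬ p ∣ m

theorem rel_conj (p : ℕ) {H C : Subgroup Γ} [Fintype H] [Fintype C] (hCH : C ≤ H) {χ : H → ℂ}
    {β : C → ℂ} (h : Rel p hCH χ β) :
    Rel p hCH (fun g => conj (χ g)) (fun c => conj (β c)) := by
  obtain ⟨m, hm, hp⟩ := h
  refine ⟨m, ?_, hp⟩
  have h1 : classInner (res hCH (fun g => conj (χ g))) (fun c => conj (β c)) =
      conj (classInner (res hCH χ) β) := by
    simp only [classInner, res, map_mul, map_inv₀, Complex.conj_natCast, map_sum,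
      Complex.conj_conj]
  rw [h1, hm, Complex.conj_natCast]

theorem isConj_inv' {X : Type*} [Group X] {a b : X} (h : IsConj a b) : IsConj a⁻¹ b⁻¹ := by
  rw [isConj_iff] at h ⊢
  obtain ⟨c, hc⟩ := h
  exact ⟨c, by rw [← hc]; group⟩

end aux

set_option maxHeartbeats 1000000 in
/-- Let P and K be subgroups of a finite group with P a p-group normalizing K and K of order prime to p. Then the number of P-invariant real-valued irreducible complex characters of K equals the number of conjugacy classes of K that are real (closed under inversion) and P-invariant. Moreover, if every real-valued irreducible character of K is P-invariant, then every real element of K (one conjugate in K to its inverse) is conjugate in K to an element centralized by P. -/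
theorem result {G : Type*} [Group G] [Finite G] (p : ℕ) [Fact p.Prime] (P K : Subgroup G) (hP : IsPGroup p ↥P) (hK : ¬ p ∣ Nat.card ↥K) (hPK : P ≤ Subgroup.normalizer (K : Set G)) : Nat.card {θ : Cfsg.IrrCharacter ↥K // (∀ k : ↥K, ((θ : ↥K → ℂ) k).im = 0) ∧ (∀ x ∈ P, ∀ k k' : ↥K, (k' : G) = x * (k : G) * x⁻¹ → (θ : ↥K → ℂ) k' = (θ : ↥K → ℂ) k)} = Nat.card {c : ConjClasses ↥K // (∀ k : ↥K, ConjClasses.mk k = c → IsConj k k⁻¹) ∧ ∀ k : ↥K, ConjClasses.mk k = c → ∀ x ∈ P, ∀ k' : ↥K, (k' : G) = x * (k : G) * x⁻¹ → ConjClasses.mk k' = c} ∧ ((∀ θ : Cfsg.IrrCharacter ↥K, (∀ k : ↥K, ((θ : ↥K → ℂ) k).im = 0) → (∀ x ∈ P, ∀ k k' : ↥K, (k' : G) = x * (k : G) * x⁻¹ → (θ : ↥K → ℂ) k' = (θ : ↥K → ℂ) k)) → ∀ k : ↥K, IsConj k k⁻¹ → ∃ k' : ↥K, IsConj k k' ∧ ∀ x ∈ P, x * (k' : G) * x⁻¹ = (k' : G)) := by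
  classical
  have hp : p.Prime := Fact.out
  have hfinK : Fintype K := Fintype.ofFinite K
  obtain ⟨C, hCdef⟩ : ∃ C : Subgroup G, C = K ⊓ Subgroup.centralizer (P : Set G) := ⟨_, rfl⟩
  have hfinC : Fintype C := Fintype.ofFinite C
  have hfinIK : Fintype (IrrCharacter K) := irrFintype
  have hfinIC : Fintype (IrrCharacter C) := irrFintype
  have hCK : C ≤ K := by
    rw [hCdef]
    exact inf_le_left
  have hn : ∀ s ∈ P, ∀ h ∈ K, s * h * s⁻¹ ∈ K :=
    fun s hs h hh => (Subgroup.mem_normalizer_iff.mp (hPK hs) h).mp hh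
  have hpw : ∀ t ∈ P, ∃ k : ℕ, ∀ h ∈ K, t ^ p ^ k * h * (t ^ p ^ k)⁻¹ = h := by
    intro t ht
    obtain ⟨k, hk⟩ := hP ⟨t, ht⟩
    refine ⟨k, fun h _ => ?_⟩
    have h1 : t ^ p ^ k = 1 := by simpa using congrArg Subtype.val hk
    rw [h1]
    simp
  have hcent : ∀ d : C, ∀ s ∈ P, s * (d : G) * s⁻¹ = d := by
    intro d s hs
    have hd : (d : G) ∈ K ⊓ Subgroup.centralizer (P : Set G) := hCdef ▸ d.2
    have h1 := (Subgroup.mem_centralizer_iff.mp hd.2) s hs
    rw [h1]
    group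
  obtain ⟨hG1, hG2, hG3⟩ := gl_main P p hp hP (Nat.card K) K C hCK rfl hn (fun _ => hK) hCdef
  have huniq : ∀ χ : K → ℂ, IsIrrCharacter K χ → SInv P K χ → ∀ β β' : C → ℂ,
      IsIrrCharacter C β → IsIrrCharacter C β' → Rel p hCK χ β → Rel p hCK χ β' → β = β' := by
    intro χ hχ hinv β β' hβ hβ' hr hr'
    obtain ⟨β₀, hβ₀, -, hoth⟩ := hG1 χ hχ hinv
    have key : ∀ γ : C → ℂ, IsIrrCharacter C γ → Rel p hCK χ γ → γ = β₀ := by
      rintro γ hγ ⟨m, hm, hpm⟩
      by_contra hne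
      obtain ⟨n, hn', hpn⟩ := hoth γ hγ hne
      rw [hm] at hn'
      have h1 : m = n := by exact_mod_cast hn'
      rw [h1] at hpm
      exact hpm hpn
    rw [key β hβ hr, key β' hβ' hr']
  -- characters
  have hcard1 : Nat.card {θ : IrrCharacter K //
      (∀ k : K, ((θ : K → ℂ) k).im = 0) ∧ SInv P K (θ : K → ℂ)} =
      Nat.card {β : IrrCharacter C // ∀ c : C, ((β : C → ℂ) c).im = 0} := by
    apply le_antisymm
    · have hex : ∀ θ : {θ : IrrCharacter K //
          (∀ k : K, ((θ : K → ℂ) k).im = 0) ∧ SInv P K (θ : K → ℂ)},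
          ∃ β : IrrCharacter C, Rel p hCK (θ.1 : K → ℂ) (β : C → ℂ) := by
        intro θ
        obtain ⟨β, hβ, ⟨m, hm, hmod⟩, -⟩ := hG1 θ.1.1 θ.1.2 θ.2.2
        exact ⟨⟨β, hβ⟩, m, hm, not_dvd_of_modEq hp hmod⟩
      choose f hf using hex
      have hreal : ∀ θ, ∀ c : C, ((f θ : C → ℂ) c).im = 0 := by
        intro θ
        have h1 := rel_conj p hCK (hf θ)
        have h2 : (fun g => conj ((θ.1 : K → ℂ) g)) = (θ.1 : K → ℂ) :=
          funext (fun g => Complex.conj_eq_iff_im.mpr (θ.2.1 g))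
        rw [h2] at h1
        have h3 := huniq θ.1.1 θ.1.2 θ.2.2 _ _ (IsIrrCharacter.conj (f θ).2) (f θ).2 h1 (hf θ)
        intro c
        exact Complex.conj_eq_iff_im.mp (congrFun h3 c)
      apply Nat.card_le_card_of_injective (fun θ =>
        (⟨f θ, hreal θ⟩ : {β : IrrCharacter C // ∀ c : C, ((β : C → ℂ) c).im = 0}))
      intro θ θ' h
      have h1 : f θ = f θ' := congrArg Subtype.val h
      have h2 := hf θ
      have h3 := hf θ'
      rw [← h1] at h3
      obtain ⟨m, hm, hpm⟩ := h2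
      obtain ⟨m', hm', hpm'⟩ := h3
      have h4 := hG2 θ.1.1 θ'.1.1 θ.1.2 θ'.1.2 θ.2.2 θ'.2.2 (f θ).1 (f θ).2 m m' hm hpm hm' hpm'
      exact Subtype.ext (Subtype.ext h4)
    · have hex : ∀ β : {β : IrrCharacter C // ∀ c : C, ((β : C → ℂ) c).im = 0},
          ∃ θ : IrrCharacter K, SInv P K (θ : K → ℂ) ∧ Rel p hCK (θ : K → ℂ) (β.1 : C → ℂ) := by
        intro β
        obtain ⟨χ, hχ, hinv, m, hm, hpm⟩ := hG3 β.1.1 β.1.2
        exact ⟨⟨χ, hχ⟩, hinv, m, hm, hpm⟩
      choose g hg1 hg2 using hex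
      have hreal : ∀ β, ∀ k : K, ((g β : K → ℂ) k).im = 0 := by
        intro β
        have h1 := rel_conj p hCK (hg2 β)
        have h2 : (fun c => conj ((β.1 : C → ℂ) c)) = (β.1 : C → ℂ) :=
          funext (fun c => Complex.conj_eq_iff_im.mpr (β.2 c))
        rw [h2] at h1
        have hinv' : SInv P K (fun k => conj ((g β : K → ℂ) k)) := by
          intro s hs k k' hk
          show conj ((g β : K → ℂ) k') = conj ((g β : K → ℂ) k)
          rw [hg1 β s hs k k' hk]
        obtain ⟨m, hm, hpm⟩ := h1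
        obtain ⟨m', hm', hpm'⟩ := hg2 β
        have h3 := hG2 _ _ (IsIrrCharacter.conj (g β).2) (g β).2 hinv' (hg1 β) β.1.1 β.1.2 m m'
          hm hpm hm' hpm'
        intro k
        exact Complex.conj_eq_iff_im.mp (congrFun h3 k)
      apply Nat.card_le_card_of_injective (fun β =>
        (⟨g β, hreal β, hg1 β⟩ : {θ : IrrCharacter K //
          (∀ k : K, ((θ : K → ℂ) k).im = 0) ∧ SInv P K (θ : K → ℂ)}))
      intro β β' h
      have h1 : g β = g β' := congrArg Subtype.val h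
      have h2 := hg2 β
      have h3 := hg2 β'
      rw [← h1] at h3
      have h4 := huniq (g β).1 (g β).2 (hg1 β) _ _ β.1.2 β'.1.2 h2 h3
      exact Subtype.ext (Subtype.ext h4)
  -- classes
  obtain ⟨ι, hι⟩ : ∃ ι : C →* K, ι = Subgroup.inclusion hCK := ⟨_, rfl⟩
  have hιcoe : ∀ d : C, ι d = ⟨d, hCK d.2⟩ := by
    intro d
    rw [hι]
    rfl
  have hwd : ∀ c : {c : ConjClasses C // ∀ d : C, ConjClasses.mk d = c → IsConj d d⁻¹},
      (∀ k : K, ConjClasses.mk k = ConjClasses.map ι c.1 → IsConj k k⁻¹) ∧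
        CInv P K (ConjClasses.map ι c.1) := by
    rintro ⟨c, hc⟩
    obtain ⟨d, rfl⟩ := ConjClasses.mk_surjective c
    have hdreal : IsConj (ι d) (ι d)⁻¹ := by
      have h1 := hc d rfl
      have h2 := MonoidHom.map_isConj ι h1
      rwa [map_inv] at h2
    have hmap : ConjClasses.map ι (ConjClasses.mk d) = ConjClasses.mk (ι d) := rfl
    constructor
    · intro k hk
      rw [hmap] at hk
      have hk' : IsConj k (ι d) := ConjClasses.mk_eq_mk_iff_isConj.mp hk
      exact hk'.trans (hdreal.trans (isConj_inv' hk'.symm))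
    · intro s hs k k' hk hmk
      show ConjClasses.mk k' = ConjClasses.map ι (ConjClasses.mk d)
      rw [hmap] at hmk ⊢
      have hk1 : IsConj k (ι d) := ConjClasses.mk_eq_mk_iff_isConj.mp hmk
      rw [ConjClasses.mk_eq_mk_iff_isConj]
      rw [isConj_iff] at hk1 ⊢
      obtain ⟨x, hx⟩ := hk1
      refine ⟨⟨s * x * s⁻¹, hn s hs x x.2⟩, ?_⟩
      apply Subtype.ext
      have hx' : (x : G) * k * (x : G)⁻¹ = d := by
        have h1 := congrArg Subtype.val hx
        rw [hιcoe] at h1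
        exact h1
      show (s * x * s⁻¹) * (k' : G) * (s * x * s⁻¹)⁻¹ = ((ι d : K) : G)
      rw [hιcoe, hk]
      show s * ↑x * s⁻¹ * (s * ↑k * s⁻¹) * (s * ↑x * s⁻¹)⁻¹ = (d : G)
      calc s * ↑x * s⁻¹ * (s * ↑k * s⁻¹) * (s * ↑x * s⁻¹)⁻¹
          = s * ((x : G) * k * (x : G)⁻¹) * s⁻¹ := by group
        _ = d := by rw [hx', hcent d s hs]
  have hbij : Function.Bijective
      (fun c : {c : ConjClasses C // ∀ d : C, ConjClasses.mk d = c → IsConj d d⁻¹} =>
        (⟨ConjClasses.map ι c.1, hwd c⟩ : {c : ConjClasses K //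
          (∀ k : K, ConjClasses.mk k = c → IsConj k k⁻¹) ∧ CInv P K c})) := by
    constructor
    · rintro ⟨c, hc⟩ ⟨c', hc'⟩ h
      obtain ⟨d, rfl⟩ := ConjClasses.mk_surjective c
      obtain ⟨d', rfl⟩ := ConjClasses.mk_surjective c'
      have h1 : ConjClasses.mk (ι d) = ConjClasses.mk (ι d') := congrArg Subtype.val h
      rw [ConjClasses.mk_eq_mk_iff_isConj, hιcoe, hιcoe] at h1
      have h2 := conj_in_D P K C p hp hCK hCdef hn hK hpw d d' h1
      exact Subtype.ext (ConjClasses.mk_eq_mk_iff_isConj.mpr h2)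
    · rintro ⟨c, hcreal, hcinv⟩
      obtain ⟨d, hd⟩ := class_meets_D P K C p hp hCK hCdef hn hK hpw c hcinv
      refine ⟨⟨ConjClasses.mk d, ?_⟩, Subtype.ext ?_⟩
      · intro d' hd'
        have h1 : IsConj (⟨d, hCK d.2⟩ : K) (⟨d, hCK d.2⟩ : K)⁻¹ := hcreal _ hd
        have h2 : IsConj d d⁻¹ := conj_in_D P K C p hp hCK hCdef hn hK hpw d d⁻¹ h1
        have h3 : IsConj d' d := ConjClasses.mk_eq_mk_iff_isConj.mp hd'
        exact h3.trans (h2.trans (isConj_inv' h3.symm))
      · show ConjClasses.mk (ι d) = c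
        rw [hιcoe]
        exact hd
  have hcard2 := Nat.card_eq_of_bijective _ hbij
  have hcard3 := card_real_irr (G := C)
  have hcardK := card_real_irr (G := K)
  -- the class sets in the statement
  have hclsEq : Nat.card {c : ConjClasses K // (∀ k : K, ConjClasses.mk k = c → IsConj k k⁻¹) ∧
      ∀ k : K, ConjClasses.mk k = c → ∀ x ∈ P, ∀ k' : K, (k' : G) = x * (k : G) * x⁻¹ →
        ConjClasses.mk k' = c} =
      Nat.card {c : ConjClasses K // (∀ k : K, ConjClasses.mk k = c → IsConj k k⁻¹) ∧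
        CInv P K c} := by
    apply Nat.card_congr
    apply Equiv.subtypeEquivRight
    intro c
    constructor
    · rintro ⟨h1, h2⟩
      exact ⟨h1, fun s hs k k' hk hmk => h2 k hmk s hs k' hk⟩
    · rintro ⟨h1, h2⟩
      exact ⟨h1, fun k hmk s hs k' hk => h2 s hs k k' hk hmk⟩
  have hmain : Nat.card {θ : IrrCharacter K //
      (∀ k : K, ((θ : K → ℂ) k).im = 0) ∧ SInv P K (θ : K → ℂ)} =
      Nat.card {c : ConjClasses K // (∀ k : K, ConjClasses.mk k = c → IsConj k k⁻¹) ∧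
        CInv P K c} := by
    rw [hcard1, hcard3, hcard2]
  refine ⟨?_, ?_⟩
  · rw [hclsEq]
    exact hmain
  · intro hall k hk
    -- all real classes are invariant
    have hinj : Function.Injective (fun c : {c : ConjClasses K //
        (∀ k : K, ConjClasses.mk k = c → IsConj k k⁻¹) ∧ CInv P K c} =>
        (⟨c.1, c.2.1⟩ : {c : ConjClasses K // ∀ k : K, ConjClasses.mk k = c → IsConj k k⁻¹})) := by
      intro c c' h
      have h' : c.1 = c'.1 := congrArg
        (fun z : {c : ConjClasses K // ∀ k : K, ConjClasses.mk k = c → IsConj k k⁻¹} => z.1) h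
      exact Subtype.ext h'
    have hcardA : Nat.card {θ : IrrCharacter K //
        (∀ k : K, ((θ : K → ℂ) k).im = 0) ∧ SInv P K (θ : K → ℂ)} =
        Nat.card {θ : IrrCharacter K // ∀ k : K, ((θ : K → ℂ) k).im = 0} := by
      apply Nat.card_congr
      apply Equiv.subtypeEquivRight
      intro θ
      exact ⟨fun h => h.1, fun h => ⟨h, hall θ h⟩⟩
    have hle : Nat.card {c : ConjClasses K // ∀ k : K, ConjClasses.mk k = c → IsConj k k⁻¹} ≤
        Nat.card {c : ConjClasses K // (∀ k : K, ConjClasses.mk k = c → IsConj k k⁻¹) ∧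
          CInv P K c} := by
      rw [← hmain, hcardA, hcardK]
    have hsurj := (hinj.bijective_of_nat_card_le hle).2
    have hkreal : ∀ k' : K, ConjClasses.mk k' = ConjClasses.mk k → IsConj k' k'⁻¹ := by
      intro k' hk'
      have h3 : IsConj k' k := ConjClasses.mk_eq_mk_iff_isConj.mp hk'
      exact h3.trans (hk.trans (isConj_inv' h3.symm))
    obtain ⟨⟨c, hc1, hc2⟩, hc⟩ := hsurj ⟨ConjClasses.mk k, hkreal⟩
    have hceq : c = ConjClasses.mk k := congrArg Subtype.val hc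
    rw [hceq] at hc2
    obtain ⟨d, hd⟩ := class_meets_D P K C p hp hCK hCdef hn hK hpw _ hc2
    refine ⟨⟨d, hCK d.2⟩, (ConjClasses.mk_eq_mk_iff_isConj.mp hd).symm, ?_⟩
    intro x hx
    exact hcent d x hx

end Cfsg.Agent.S4911
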