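import Mathlib
import Cfsg.Statements.S4912
import Cfsg.Agent.Lib.Helper25.IndFS
import Cfsg.Agent.Lib.Helper25.RealLin
import Cfsg.Agent.Lib.Helper25.FrobSchur
import Cfsg.Agent.Lib.Helper24.FongRey1
import Cfsg.Agent.Lib.Helper1.CharPRes

set_option autoImplicit false
open Cfsg

namespace Cfsg.Agent.S4912

open Cfsg.Agent.Lib.Helper1 Cfsg.Agent.Lib.Helper25.IndFS Cfsg.Agent.Lib.Helper25.RealLin
open scoped ComplexConjugate commutatorElement

set_option maxHeartbeats 1600000 in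
/-- Let G be a finite group with a non-abelian minimal normal subgroup N, and let φ be an irreducible complex character of N with stabilizer I in G such that φ extends to an irreducible character of I with Frobenius–Schur indicator +1. Put d = φ(1)·[G : I]. Then the number of linear characters of G with Frobenius–Schur indicator +1 is at most [G : I] times the number of irreducible characters of G of degree d with Frobenius–Schur indicator +1. -/
theorem result {G : Type*} [Group G] [Finite G] (N : Subgroup G) (hN : N.Normal) (hN1 : N ≠ ⊥) (hmin : ∀ M : Subgroup G, M.Normal → M ≤ N → M = ⊥ ∨ M = N) (hna : ¬ IsMulCommutative ↥N) (φ : Cfsg.IrrCharacter ↥N) (I : Subgroup G) (hI : ∀ g : G, g ∈ I ↔ ∀ n n' : ↥N, (n' : G) = g * (n : G) * g⁻¹ → (φ : ↥N → ℂ) n' = (φ : ↥N → ℂ) n) (hNI : N ≤ I) (hext : ∃ ψ : Cfsg.IrrCharacter ↥I, (Nat.card ↥I : ℂ)⁻¹ * ∑ᶠ g : ↥I, (ψ : ↥I → ℂ) (g * g) = 1 ∧ ∀ n : ↥N, (ψ : ↥I → ℂ) (Subgroup.inclusion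 hNI n) = (φ : ↥N → ℂ) n) : Nat.card {χ : Cfsg.IrrCharacter G // Cfsg.charDegree (χ : G → ℂ) = 1 ∧ (Nat.card G : ℂ)⁻¹ * ∑ᶠ g : G, (χ : G → ℂ) (g * g) = 1} ≤ I.index * Nat.card {χ : Cfsg.IrrCharacter G // Cfsg.charDegree (χ : G → ℂ) = Cfsg.charDegree (φ : ↥N → ℂ) * I.index ∧ (Nat.card G : ℂ)⁻¹ * ∑ᶠ g : G, (χ : G → ℂ) (g * g) = 1} := by
  classical
  haveI : Fintype G := Fintype.ofFinite G
  haveI : Fintype N := Fintype.ofFinite N
  haveI : Fintype I := Fintype.ofFinite I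
  haveI : Fintype (IrrCharacter G) := irrFintype
  haveI : N.Normal := hN
  obtain ⟨ψ, hψfs, hψres⟩ := hext
  have hG0 : (Nat.card G : ℂ) ≠ 0 := by exact_mod_cast Nat.card_pos.ne'
  have hI0 : (Nat.card I : ℂ) ≠ 0 := by exact_mod_cast Nat.card_pos.ne'
  rw [finsum_eq_sum_of_fintype] at hψfs
  have hψsum : ∑ x : I, (ψ : I → ℂ) (x * x) = (Nat.card I : ℂ) := by
    field_simp at hψfs
    exact hψfs
  have hres : ∀ n : N, (ψ : I → ℂ) ⟨n, hNI n.2⟩ = (φ : N → ℂ) n := fun n => hψres n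
  have hI' : ∀ g : G, g ∈ I ↔ conjChar N (φ : N → ℂ) g = (φ : N → ℂ) := by
    intro g
    rw [hI g]
    constructor
    · intro h
      funext n
      exact h n ⟨g * n * g⁻¹, hN.conj_mem n n.2 g⟩ rfl
    · intro h n n' hn'
      have h1 := congrFun h n
      have e : n' = ⟨g * n * g⁻¹, hN.conj_mem n n.2 g⟩ := Subtype.ext hn'
      rw [e]
      exact h1
  have hψreal : (fun x => conj ((ψ : I → ℂ) x)) = (ψ : I → ℂ) := by
    apply Cfsg.Agent.Lib.Helper25.FrobSchur.real_of_sum_sq_ne_zero ψ.2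
    rw [hψsum]
    exact hI0
  have hφreal : ∀ n : N, conj ((φ : N → ℂ) n) = (φ : N → ℂ) n := by
    intro n
    rw [← hres n]
    exact congrFun hψreal _
  have hstab : charStab N (φ : N → ℂ) ≤ I := by
    intro g hg
    exact (hI' g).mpr hg
  have hresfun : (fun n : N => (ψ : I → ℂ) ⟨n, hNI n.2⟩) = (φ : N → ℂ) := funext hres
  have hover : classInner (fun n : N => (ψ : I → ℂ) ⟨n, hNI n.2⟩) (φ : N → ℂ) ≠ 0 := by
    rw [hresfun, classInner_irr_self φ.2]
    exact one_ne_zero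
  obtain ⟨hχ₁irr, -, huniq⟩ :=
    Cfsg.Agent.Lib.Helper24.FongRey.ind_irr N I hNI φ.2 hstab ψ.2 hover
  have hχ₁sum : ∑ g : G, indFun I (ψ : I → ℂ) (g * g) = (Nat.card G : ℂ) := by
    rw [sum_sq_ind hNI φ.2 ψ.2 hres hI' hφreal, hψsum, ← Nat.cast_mul, mul_comm,
      Subgroup.card_mul_index]
  obtain ⟨dφ, hdφ0, hdφ⟩ := IsIrrCharacter.degree_pos φ.2
  have hχ₁one : indFun I (ψ : I → ℂ) 1 = ((dφ * I.index : ℕ) : ℂ) := by
    rw [Cfsg.Agent.Lib.Helper1.indFun_one]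
    have h1 : (ψ : I → ℂ) 1 = (φ : N → ℂ) 1 := hres 1
    rw [h1, hdφ]
    push_cast
    ring
  have hperf : ∀ lam : G →* ℂˣ, ∀ n : G, n ∈ N → lam n = 1 := by
    intro lam n hn
    have hM : (⁅N, N⁆ : Subgroup G).Normal := Subgroup.commutator_normal N N
    have hMle : (⁅N, N⁆ : Subgroup G) ≤ N := Subgroup.commutator_le_right N N
    rcases hmin _ hM hMle with h | h
    · exfalso
      apply hna
      refine ⟨⟨fun a b => ?_⟩⟩
      have h1 : ⁅(a : G), (b : G)⁆ ∈ (⁅N, N⁆ : Subgroup G) :=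
        Subgroup.commutator_mem_commutator a.2 b.2
      rw [h, Subgroup.mem_bot] at h1
      apply Subtype.ext
      exact commutatorElement_eq_one_iff_mul_comm.mp h1
    · have h1 : n ∈ (⁅N, N⁆ : Subgroup G) := by
        rw [h]
        exact hn
      have h2 : (⁅N, N⁆ : Subgroup G) ≤ commutator G := Subgroup.commutator_mono le_top le_top
      exact Abelianization.commutator_subset_ker lam (h2 h1)
  have hlin : ∀ χ : IrrCharacter G, charDegree (χ : G → ℂ) = 1 →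
      ∃ lam : G →* ℂˣ, ∀ g, (χ : G → ℂ) g = ((lam g : ℂˣ) : ℂ) := by
    intro χ h
    obtain ⟨d, hd0, hd⟩ := IsIrrCharacter.degree_pos χ.2
    have h1 := charDegree_eq hd
    rw [h] at h1
    apply IsIrrCharacter.exists_monoidHom χ.2
    rw [hd, ← h1]
    simp
  have hFS : ∀ χ : IrrCharacter G,
      (Nat.card G : ℂ)⁻¹ * ∑ᶠ g : G, (χ : G → ℂ) (g * g) = 1 ↔
        ∑ g : G, (χ : G → ℂ) (g * g) = (Nat.card G : ℂ) := by
    intro χ
    rw [finsum_eq_sum_of_fintype]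
    constructor
    · intro h
      field_simp at h
      exact h
    · intro h
      rw [h]
      field_simp
  have hLfacts : ∀ χ : IrrCharacter G, charDegree (χ : G → ℂ) = 1 →
      ∑ g : G, (χ : G → ℂ) (g * g) = (Nat.card G : ℂ) →
      ∃ lam : G →* ℂˣ, (∀ g, (χ : G → ℂ) g = ((lam g : ℂˣ) : ℂ)) ∧
        ∀ g, ((lam g : ℂˣ) : ℂ) * ((lam g : ℂˣ) : ℂ) = 1 := by
    intro χ h1 h2
    obtain ⟨lam, hlam⟩ := hlin χ h1
    refine ⟨lam, hlam, ?_⟩
    apply real_linear lam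
    have h3 : ∑ g : G, ((lam (g * g) : ℂˣ) : ℂ) = (Nat.card G : ℂ) := by
      rw [← h2]
      exact Finset.sum_congr rfl (fun g _ => (hlam _).symm)
    rw [h3]
    field_simp
  have hcardL : Nat.card {χ : Cfsg.IrrCharacter G // Cfsg.charDegree (χ : G → ℂ) = 1 ∧
        (Nat.card G : ℂ)⁻¹ * ∑ᶠ g : G, (χ : G → ℂ) (g * g) = 1}
      = (Finset.univ.filter (fun χ : Cfsg.IrrCharacter G => Cfsg.charDegree (χ : G → ℂ) = 1 ∧
        (Nat.card G : ℂ)⁻¹ * ∑ᶠ g : G, (χ : G → ℂ) (g * g) = 1)).card := by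
    rw [Nat.card_eq_fintype_card, Fintype.card_subtype]
  have hcardR : Nat.card {χ : Cfsg.IrrCharacter G // Cfsg.charDegree (χ : G → ℂ)
        = Cfsg.charDegree (φ : ↥N → ℂ) * I.index ∧
        (Nat.card G : ℂ)⁻¹ * ∑ᶠ g : G, (χ : G → ℂ) (g * g) = 1}
      = (Finset.univ.filter (fun χ : Cfsg.IrrCharacter G => Cfsg.charDegree (χ : G → ℂ)
        = Cfsg.charDegree (φ : ↥N → ℂ) * I.index ∧
        (Nat.card G : ℂ)⁻¹ * ∑ᶠ g : G, (χ : G → ℂ) (g * g) = 1)).card := by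
    rw [Nat.card_eq_fintype_card, Fintype.card_subtype]
  rw [hcardL, hcardR]
  obtain ⟨χ₁, hχ₁def⟩ : ∃ χ₁ : G → ℂ, χ₁ = indFun I (ψ : I → ℂ) := ⟨_, rfl⟩
  rw [← hχ₁def] at hχ₁irr hχ₁sum hχ₁one huniq
  have hmulirr : ∀ χ : IrrCharacter G, charDegree (χ : G → ℂ) = 1 →
      IsIrrCharacter G (fun g => (χ : G → ℂ) g * χ₁ g) := by
    intro χ h
    obtain ⟨lam, hlam⟩ := hlin χ h
    have h1 := IsIrrCharacter.mul_linear hχ₁irr lam
    have e : (fun g => (χ : G → ℂ) g * χ₁ g) = fun g => ((lam g : ℂˣ) : ℂ) * χ₁ g := by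
      funext g
      rw [hlam g]
    rw [e]
    exact h1
  obtain ⟨F, hF⟩ : ∃ F : IrrCharacter G → IrrCharacter G,
      ∀ χ : IrrCharacter G, charDegree (χ : G → ℂ) = 1 →
        (F χ : G → ℂ) = fun g => (χ : G → ℂ) g * χ₁ g := by
    refine ⟨fun χ => if h : charDegree (χ : G → ℂ) = 1 then ⟨_, hmulirr χ h⟩ else χ, ?_⟩
    intro χ h
    simp only [dif_pos h]
  have hχ₁cf : IsClassFunction G χ₁ := IsIrrCharacter.isClassFunction hχ₁irr
  have hinner1 : classInner (fun t : I => χ₁ t) (ψ : I → ℂ) = 1 := by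
    rw [← classInner_conj_symm, ← frobenius_reciprocity I _ hχ₁cf, ← hχ₁def,
      classInner_irr_self hχ₁irr]
    simp
  refine le_trans (Finset.card_le_mul_card_image (f := F) _ I.index ?_)
    (Nat.mul_le_mul_left _ (Finset.card_le_card ?_))
  · -- fibre bound
    intro b hb
    obtain ⟨χ₀, hχ₀L, rfl⟩ := Finset.mem_image.mp hb
    obtain ⟨hχ₀d, hχ₀fs⟩ := (Finset.mem_filter.mp hχ₀L).2
    obtain ⟨lam₀, hlam₀, hlam₀sq⟩ := hLfacts χ₀ hχ₀d ((hFS χ₀).mp hχ₀fs)
    obtain ⟨g', hg'⟩ : ∃ g' : IrrCharacter G → IrrCharacter G,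
        ∀ χ : IrrCharacter G, (g' χ : G → ℂ) = fun x => ((lam₀ x : ℂˣ) : ℂ) * (χ : G → ℂ) x :=
      ⟨fun χ => ⟨_, IsIrrCharacter.mul_linear χ.2 lam₀⟩, fun χ => rfl⟩
    refine le_trans (Finset.card_le_card_of_injOn g' ?_ ?_) (card_linear_trivial_le I)
    · -- maps to
      intro χ hχ
      have hχ' := Finset.mem_filter.mp (Finset.mem_coe.mp hχ)
      obtain ⟨hχd, hχfs⟩ := (Finset.mem_filter.mp hχ'.1).2
      have hFeq : F χ = F χ₀ := hχ'.2
      obtain ⟨lam, hlam, hlamsq⟩ := hLfacts χ hχd ((hFS χ).mp hχfs)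
      have hFeq' : ∀ g : G, ((lam g : ℂˣ) : ℂ) * χ₁ g = ((lam₀ g : ℂˣ) : ℂ) * χ₁ g := by
        intro g
        have h1 := congrFun (congrArg Subtype.val hFeq) g
        rw [hF χ hχd, hF χ₀ hχ₀d] at h1
        rw [← hlam g, ← hlam₀ g]
        exact h1
      -- γ := lam₀ * lam
      have hγfix : ∀ g : G, (((lam₀ * lam) g : ℂˣ) : ℂ) * χ₁ g = χ₁ g := by
        intro g
        rw [MonoidHom.mul_apply, Units.val_mul, mul_assoc, hFeq' g, ← mul_assoc, hlam₀sq g,
          one_mul]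
      have hγsq : ∀ g : G, (((lam₀ * lam) g : ℂˣ) : ℂ) * (((lam₀ * lam) g : ℂˣ) : ℂ) = 1 := by
        intro g
        rw [MonoidHom.mul_apply, Units.val_mul]
        calc ((lam₀ g : ℂˣ) : ℂ) * ((lam g : ℂˣ) : ℂ) * (((lam₀ g : ℂˣ) : ℂ) * ((lam g : ℂˣ) : ℂ))
            = (((lam₀ g : ℂˣ) : ℂ) * ((lam₀ g : ℂˣ) : ℂ))
              * (((lam g : ℂˣ) : ℂ) * ((lam g : ℂˣ) : ℂ)) := by ring
          _ = 1 := by rw [hlam₀sq g, hlamsq g, one_mul]
      have hγreal : ∀ g : G, conj (((lam₀ * lam) g : ℂˣ) : ℂ) = (((lam₀ * lam) g : ℂˣ) : ℂ) := by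
        intro g
        have h1 := monoidHom_conj_mul_self (lam₀ * lam) g
        have h2 := hγsq g
        have h3 : (((lam₀ * lam) g : ℂˣ) : ℂ) ≠ 0 := Units.ne_zero _
        exact mul_right_cancel₀ h3 (h1.trans h2.symm)
      obtain ⟨γ, hγdef⟩ : ∃ γ : I →* ℂˣ, γ = (lam₀ * lam).comp I.subtype := ⟨_, rfl⟩
      have hγval : ∀ x : I, γ x = (lam₀ * lam) (x : G) := by
        intro x
        rw [hγdef]
        rfl
      have hψ'irr : IsIrrCharacter I (fun x => ((γ x : ℂˣ) : ℂ) * (ψ : I → ℂ) x) :=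
        IsIrrCharacter.mul_linear ψ.2 γ
      have hγN : ∀ n : N, γ ⟨n, hNI n.2⟩ = 1 := by
        intro n
        rw [hγval]
        exact hperf _ _ n.2
      have hψ'eq : (fun x => ((γ x : ℂˣ) : ℂ) * (ψ : I → ℂ) x) = (ψ : I → ℂ) := by
        by_contra hne
        have h1 : classInner (fun t : I => χ₁ t)
            (fun x => ((γ x : ℂˣ) : ℂ) * (ψ : I → ℂ) x) ≠ 0 := by
          have h2 : classInner (fun t : I => χ₁ t)
              (fun x => ((γ x : ℂˣ) : ℂ) * (ψ : I → ℂ) x)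
              = classInner (fun t : I => χ₁ t) (ψ : I → ℂ) := by
            unfold classInner
            congr 1
            refine Finset.sum_congr rfl (fun t _ => ?_)
            rw [map_mul, hγval t, hγreal, ← mul_assoc, mul_comm (χ₁ (t : G)), hγfix]
          rw [h2, hinner1]
          exact one_ne_zero
        have h3 := huniq _ hψ'irr hne h1
        have h4 : (fun n : N => (fun x => ((γ x : ℂˣ) : ℂ) * (ψ : I → ℂ) x) ⟨n, hNI n.2⟩)
            = (φ : N → ℂ) := by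
          funext n
          show ((γ ⟨n, hNI n.2⟩ : ℂˣ) : ℂ) * (ψ : I → ℂ) ⟨n, hNI n.2⟩ = (φ : N → ℂ) n
          rw [hγN n, hres n]
          simp
        rw [h4, classInner_irr_self φ.2] at h3
        exact one_ne_zero h3
      have hγone := gallagher_lite N I hNI φ.2 ψ.2 hres γ hγN
        (fun x => by rw [hγval x]; exact hγreal _) (fun x => congrFun hψ'eq x)
      rw [Finset.mem_coe, Finset.mem_filter]
      refine ⟨Finset.mem_univ _, ?_, ?_⟩
      · rw [hg' χ]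
        show ((lam₀ 1 : ℂˣ) : ℂ) * (χ : G → ℂ) 1 = 1
        rw [hlam 1, map_one, map_one]
        simp
      · intro x hx
        rw [hg' χ]
        show ((lam₀ x : ℂˣ) : ℂ) * (χ : G → ℂ) x = 1
        rw [hlam x, ← Units.val_mul, ← MonoidHom.mul_apply]
        have h1 := hγone ⟨x, hx⟩
        rw [hγval] at h1
        rw [h1]
        rfl
    · -- injective
      intro χ _ χ' _ h
      apply Subtype.ext
      funext x
      have h1 := congrFun (congrArg Subtype.val h) x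
      rw [hg' χ, hg' χ'] at h1
      exact mul_left_cancel₀ (Units.ne_zero _) h1
  · -- image lies in the right-hand set
    intro b hb
    obtain ⟨χ, hχL, rfl⟩ := Finset.mem_image.mp hb
    obtain ⟨hχd, hχfs⟩ := (Finset.mem_filter.mp hχL).2
    obtain ⟨lam, hlam, hlamsq⟩ := hLfacts χ hχd ((hFS χ).mp hχfs)
    rw [Finset.mem_filter]
    refine ⟨Finset.mem_univ _, ?_, ?_⟩
    · rw [charDegree_eq hdφ]
      apply charDegree_eq
      rw [hF χ hχd]
      show (χ : G → ℂ) 1 * χ₁ 1 = _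
      rw [hlam 1, map_one, hχ₁one]
      simp
    · rw [hFS, hF χ hχd, ← hχ₁sum]
      refine Finset.sum_congr rfl (fun g _ => ?_)
      show (χ : G → ℂ) (g * g) * χ₁ (g * g) = χ₁ (g * g)
      rw [hlam (g * g), map_mul, Units.val_mul, hlamsq g, one_mul]

end Cfsg.Agent.S4912
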