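import Cfsg.Statements.S4916
import Cfsg.Agent.S0914
import Cfsg.Agent.Lib.Helper24.Osima
import Cfsg.Agent.Lib.Helper25.Codegree

set_option autoImplicit false
open Cfsg

namespace Cfsg.Agent.S4916

open Cfsg.Agent.Lib.Helper1 Cfsg.Agent.Lib.Helper6 Cfsg.Agent.Lib.Helper24
  Cfsg.Agent.Lib.Helper25.Codegree
open scoped ComplexConjugate

/-- The trivial character is the only irreducible character of degree prime to p in the principal p-block of G exactly when p does not divide the order of G. -/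
theorem result {G : Type*} [Group G] [Finite G] (p : ℕ) [Fact p.Prime] (M : Ideal Cfsg.AlgInt) (hM : Cfsg.IsPModular p M) : (∀ χ : Cfsg.IrrCharacter G, χ ∈ Cfsg.principalBlock M G → ¬ p ∣ Cfsg.charDegree (χ : G → ℂ) → (χ : G → ℂ) = fun _ => (1 : ℂ)) ↔ ¬ p ∣ Nat.card G := by
  classical
  have hfinG : Fintype G := Fintype.ofFinite G
  have hfin : Fintype (IrrCharacter G) := irrFintype
  have hpp : p.Prime := Fact.out
  let χ₀ : IrrCharacter G := ⟨fun _ => 1, isIrrCharacter_one⟩
  have hdeg0 : charDegree (χ₀ : G → ℂ) = 1 := by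
    simp [charDegree, χ₀]
  have hS := Cfsg.Agent.S0914.result p M hM χ₀
  rw [hdeg0, Nat.div_one] at hS
  have hpb : principalBlock M G = blockOf M (χ₀ : G → ℂ) := rfl
  constructor
  · intro h hp
    obtain ⟨y, hy⟩ := exists_prime_orderOf_dvd_card' p hp
    have key := Osima.weak_block_orth hM (principalBlock M G) ⟨χ₀, hpb⟩ 1 y
      (by rw [orderOf_one]; exact hpp.one_lt.ne' ∘ Nat.dvd_one.mp) (by rw [hy])
    have h' := finsum_mem_setOf_eq_sum_filter (fun χ : IrrCharacter G => χ ∈ principalBlock M G)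
      (fun χ : IrrCharacter G => (χ : G → ℂ) 1 * conj ((χ : G → ℂ) y))
    rw [Set.ofPred_mem_eq] at h'
    rw [h'] at key
    have hmem0 : χ₀ ∈ Finset.univ.filter (fun χ : IrrCharacter G => χ ∈ principalBlock M G) := by
      rw [Finset.mem_filter]
      exact ⟨Finset.mem_univ _, by rw [hpb]; exact mem_blockOf_self hM.2.1 χ₀⟩
    rw [← Finset.add_sum_erase _ _ hmem0] at key
    have h0 : (χ₀ : G → ℂ) 1 * conj ((χ₀ : G → ℂ) y) = 1 := by simp [χ₀]
    rw [h0] at key
    -- every other term is p times an algebraic integer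
    have hterm : ∀ χ ∈ (Finset.univ.filter (fun χ : IrrCharacter G => χ ∈ principalBlock M G)).erase χ₀,
        ∃ m : ℕ, (χ : G → ℂ) 1 * conj ((χ : G → ℂ) y) = (p : ℂ) * ((m : ℂ) * conj ((χ : G → ℂ) y)) := by
      intro χ hχ
      rw [Finset.mem_erase, Finset.mem_filter] at hχ
      obtain ⟨hne, -, hχB⟩ := hχ
      have hdvd : p ∣ charDegree (χ : G → ℂ) := by
        by_contra hnd
        have := h χ hχB hnd
        exact hne (Subtype.ext this)
      obtain ⟨m, hm⟩ := hdvd
      refine ⟨m, ?_⟩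
      rw [charDegree_cast (IsIrrCharacter.isCharacter χ.2), hm]
      push_cast
      ring
    choose! m hm using hterm
    rw [Finset.sum_congr rfl hm, ← Finset.mul_sum] at key
    have hint : IsIntegral ℤ (∑ χ ∈ (Finset.univ.filter (fun χ : IrrCharacter G => χ ∈ principalBlock M G)).erase χ₀,
        ((m χ : ℂ) * conj ((χ : G → ℂ) y))) := by
      apply IsIntegral.sum
      intro χ _
      exact IsIntegral.mul (isIntegral_algebraMap (R := ℤ) (x := (m χ : ℤ)) |> fun h => by simpa using h)
        (isIntegral_conj_irr χ y)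
    generalize (∑ χ ∈ (Finset.univ.filter (fun χ : IrrCharacter G => χ ∈ principalBlock M G)).erase χ₀,
        ((m χ : ℂ) * conj ((χ : G → ℂ) y))) = β at key hint
    have hp0 : (p : ℂ) ≠ 0 := by exact_mod_cast hpp.ne_zero
    have hβ : -β = ((1 : ℕ) : ℂ) / (p : ℂ) := by
      field_simp
      push_cast
      linear_combination -key
    have hint2 : IsIntegral ℤ (((1 : ℕ) : ℂ) / (p : ℂ)) := by
      rw [← hβ]; exact hint.neg
    have := nat_dvd_of_isIntegral_div hpp.ne_zero hint2
    exact hpp.one_lt.ne' (Nat.dvd_one.mp this)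
  · intro hp χ hχ _
    have h1 : blockOf M (χ₀ : G → ℂ) = {χ₀} := hS.mp hp
    rw [hpb, h1] at hχ
    have h2 : χ = χ₀ := hχ
    rw [h2]

end Cfsg.Agent.S4916
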