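import Cfsg.Statements.S5001
import Mathlib
import Cfsg.Agent.Lib.Helper24.DefectGroup
import Cfsg.Agent.Lib.Helper1.CharReg
import Cfsg.Agent.Lib.Helper1.CharInt

set_option autoImplicit false
open Cfsg

namespace Cfsg.Agent.S5001

open Cfsg.Agent.Lib.Helper1 Cfsg.Agent.Lib.Helper6 Cfsg.Agent.Lib.Helper24
open scoped ComplexConjugate

universe u

/-- A central element acts on an irreducible character through a root of unity. -/
theorem central_char {C : Type u} [Group C] [Finite C] {θ : C → ℂ} (hθ : IsIrrCharacter C θ)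
    {z : C} (hz : z ∈ Subgroup.center C) :
    ∃ c : ℂ, c ^ orderOf z = 1 ∧ conj c * c = 1 ∧ ∀ g, θ (z * g) = c * θ g := by
  classical
  have hfin : Fintype C := Fintype.ofFinite C
  obtain ⟨n, ρ, hρ, rfl⟩ := hθ
  have := hρ
  obtain ⟨c, h1, h2⟩ := central_scalar ρ hz
  have hmul : ∀ g, ρ.character (z * g) = c * ρ.character g := by
    intro g
    rw [character_apply, character_apply, map_mul, h1]
    rw [show (c • (LinearMap.id : (Fin n → ℂ) →ₗ[ℂ] (Fin n → ℂ))) * ρ g = c • ρ g from by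
      ext v; simp]
    rw [map_smul, smul_eq_mul]
  refine ⟨c, ?_, h2, hmul⟩
  -- `c ^ orderOf z = 1`
  have hpow : ∀ k : ℕ, ∀ g, ρ.character (z ^ k * g) = c ^ k * ρ.character g := by
    intro k
    induction k with
    | zero => intro g; simp
    | succ k ih =>
      intro g
      rw [pow_succ, mul_assoc, ih, hmul, pow_succ]; ring
  have h3 := hpow (orderOf z) 1
  rw [pow_orderOf_eq_one, mul_one] at h3
  have h4 : ρ.character 1 ≠ 0 := Cfsg.Agent.Lib.Helper24.CharBasic.irr_one_ne_zero ⟨n, ρ, hρ, rfl⟩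
  have h5 : (c ^ orderOf z - 1) * ρ.character 1 = 0 := by rw [sub_mul, ← h3]; ring
  rcases mul_eq_zero.mp h5 with h | h
  · exact sub_eq_zero.mp h
  · exact absurd h h4

/-- If B (defect group D ≥ Z central) has a height-zero character over λ ∈ Irr(Z), then λ extends to D. -/
theorem result {G : Type*} [Group G] [Finite G] (p : ℕ) [Fact p.Prime] (M : Ideal Cfsg.AlgInt) (hM : Cfsg.IsPModular p M) (B : Set (Cfsg.IrrCharacter G)) (hB : Cfsg.IsPBlock M B) (D : Subgroup G) (hD : Cfsg.IsDefectGroup p M B D) (Z : Subgroup G) (hZc : Z ≤ Subgroup.center G) (hZp : IsPGroup p ↥Z) (hZD : Z ≤ D) (lam : ↥Z →* ℂˣ) (χ : Cfsg.IrrCharacter G) (hχ : χ ∈ B) (hover : (∀ z : ↥Z, (χ : G → ℂ) z = (χ : G → ℂ) 1 * (lam z : ℂ))) (h0 : Cfsg.blockHeight p B (χ : G → ℂ) = 0) : (∃ μ : ↥D →* ℂˣ, ∀ z : ↥Z, μ ⟨(z : G), hZD z.2⟩ = lam z) := by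
  classical
  have hp : p.Prime := hM.1
  have hmax := hM.2.1
  have hcardD := DefectGroup.card_defectGroup hM B hB D hD
  obtain ⟨y, hy, P, hDP⟩ := hD
  -- χ(y) is not in the local ideal
  have hχy : ¬ MemLocalIdeal M ((χ : G → ℂ) y) := by
    have hh := PSection.height_zero_eq p B χ hχ h0
    have := PSection.char_not_mem_of_defectClass hM B hB y hy χ hχ hh 1 (Commute.one_left y)
      (k := 0) (by simp)
    simpa using this
  -- the centralizer
  obtain ⟨C, hC⟩ : ∃ C : Subgroup G, C = Subgroup.centralizer ({y} : Set G) := ⟨_, rfl⟩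
  have hDy : D ≤ C := by
    rw [hDP, hC]
    exact Subgroup.map_subtype_le _
  have hyC : y ∈ C := by
    rw [hC]
    exact Subgroup.mem_centralizer_iff.mpr (fun h hh => by
      rw [Set.mem_singleton_iff] at hh; rw [hh])
  have hycen : (⟨y, hyC⟩ : C) ∈ Subgroup.center C := by
    rw [Subgroup.mem_center_iff]
    intro g
    apply Subtype.ext
    have h1 : (g : G) ∈ Subgroup.centralizer ({y} : Set G) := hC ▸ g.2
    rw [Subgroup.mem_centralizer_iff] at h1
    exact (h1 y rfl).symm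
  let _ : Fintype G := Fintype.ofFinite G
  let _ : Fintype C := Fintype.ofFinite C
  let _ : Fintype D := Fintype.ofFinite D
  let _ : Fintype (IrrCharacter C) := irrFintype
  let _ : Fintype (IrrCharacter D) := irrFintype
  have hχC : IsCharacter C (fun c : C => (χ : G → ℂ) c) :=
    IsCharacter.restrict (IsIrrCharacter.isCharacter χ.2) C
  obtain ⟨m, hm1, hm2⟩ := IsCharacter.eq_sum_irr hχC
  -- central scalars
  have hc : ∀ θ : IrrCharacter C, ∃ c : ℂ, c ^ orderOf (⟨y, hyC⟩ : C) = 1 ∧ conj c * c = 1 ∧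
      ∀ g, (θ : C → ℂ) (⟨y, hyC⟩ * g) = c * (θ : C → ℂ) g := fun θ => central_char θ.2 hycen
  choose c hc1 hc2 hc3 using hc
  -- restrictions to D
  have hθD : ∀ θ : IrrCharacter C,
      IsCharacter D (fun d : D => (θ : C → ℂ) (Subgroup.inclusion hDy d)) := fun θ =>
    IsCharacter.comp (IsIrrCharacter.isCharacter θ.2) (Subgroup.inclusion hDy)
  have hk : ∀ θ : IrrCharacter C, ∃ k : IrrCharacter D → ℕ,
      (∀ μ : IrrCharacter D, classInner (fun d : D => (θ : C → ℂ) (Subgroup.inclusion hDy d))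
        (μ : D → ℂ) = (k μ : ℂ)) ∧
      (fun d : D => (θ : C → ℂ) (Subgroup.inclusion hDy d)) =
        ∑ μ : IrrCharacter D, (k μ : ℂ) • (μ : D → ℂ) := fun θ => IsCharacter.eq_sum_irr (hθD θ)
  choose k hk1 hk2 using hk
  -- the value χ(y)
  have hval : (χ : G → ℂ) y = ∑ θ : IrrCharacter C, (m θ : ℂ) * (c θ *
      ∑ μ : IrrCharacter D, (k θ μ : ℂ) * (charDegree (μ : D → ℂ) : ℂ)) := by
    have h1 := congrFun hm2 ⟨y, hyC⟩
    simp only [Finset.sum_apply, Pi.smul_apply, smul_eq_mul] at h1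
    rw [h1]
    apply Finset.sum_congr rfl
    intro θ _
    congr 1
    have h2 := hc3 θ 1
    rw [mul_one] at h2
    rw [h2]
    congr 1
    have h3 := congrFun (hk2 θ) 1
    simp only [Finset.sum_apply, Pi.smul_apply, smul_eq_mul, map_one] at h3
    rw [h3]
    apply Finset.sum_congr rfl
    intro μ _
    rw [CharBasic.char_one_nat (CharBasic.isCharacter_of_irr μ.2)]
  -- there is a linear constituent
  have hex : ∃ (θ : IrrCharacter C) (μ : IrrCharacter D), m θ ≠ 0 ∧ k θ μ ≠ 0 ∧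
      ¬ p ∣ charDegree (μ : D → ℂ) := by
    by_contra hcon
    push Not at hcon
    apply hχy
    rw [hval]
    apply memLocalIdeal_sum hmax
    intro θ _
    by_cases hmθ : m θ = 0
    · rw [hmθ]
      simpa using memLocalIdeal_zero hmax
    · apply MemLocalIdeal.mul_left hmax (memLocalRing_natCast hmax _)
      have hcint : IsIntegral ℤ (c θ) := by
        have hpos : 0 < orderOf (⟨y, hyC⟩ : C) := orderOf_pos _
        apply IsIntegral.of_pow hpos
        rw [hc1 θ]
        exact isIntegral_one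
      apply MemLocalIdeal.mul_left hmax (memLocalRing_of_isIntegral hmax hcint)
      apply memLocalIdeal_sum hmax
      intro μ _
      by_cases hkμ : k θ μ = 0
      · rw [hkμ]
        simpa using memLocalIdeal_zero hmax
      · exact MemLocalIdeal.mul_left hmax (memLocalRing_natCast hmax _)
          ((memLocalIdeal_natCast_iff hM _).2 (hcon θ μ hmθ hkμ))
  obtain ⟨θ₀, μ, hm0, hk0, hpμ⟩ := hex
  -- μ is linear
  have hdeg : charDegree (μ : D → ℂ) = 1 := by
    have h1 := (Defect.charDegree_dvd_card μ).1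
    rw [hcardD] at h1
    obtain ⟨j, -, hj⟩ := (Nat.dvd_prime_pow hp).1 h1
    rcases Nat.eq_zero_or_pos j with h | h
    · rw [hj, h, pow_zero]
    · exfalso
      apply hpμ
      rw [hj]
      exact dvd_pow_self p h.ne'
  have hμ1 : (μ : D → ℂ) 1 = 1 := by
    rw [CharBasic.char_one_nat (CharBasic.isCharacter_of_irr μ.2), hdeg]
    simp
  obtain ⟨f, hf⟩ := IsIrrCharacter.exists_monoidHom μ.2 hμ1
  refine ⟨f, fun z => ?_⟩
  -- the inner product of χ restricted to D with μ is nonzero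
  have hχD : (fun d : D => (χ : G → ℂ) d) = ∑ θ : IrrCharacter C,
      (m θ : ℂ) • (fun d : D => (θ : C → ℂ) (Subgroup.inclusion hDy d)) := by
    funext d
    have h1 := congrFun hm2 (Subgroup.inclusion hDy d)
    simp only [Finset.sum_apply, Pi.smul_apply, smul_eq_mul] at h1
    simp only [Finset.sum_apply, Pi.smul_apply, smul_eq_mul]
    rw [← h1]
    rfl
  have hinner : classInner (fun d : D => (χ : G → ℂ) d) (μ : D → ℂ) ≠ 0 := by
    rw [hχD, classInner_sum_left]
    simp only [classInner_smul_left, hk1]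
    have h1 : (∑ θ : IrrCharacter C, (m θ : ℂ) * (k θ μ : ℂ)) =
        ((∑ θ : IrrCharacter C, m θ * k θ μ : ℕ) : ℂ) := by push_cast; rfl
    rw [h1, Nat.cast_ne_zero]
    have h2 : m θ₀ * k θ₀ μ ≤ ∑ θ : IrrCharacter C, m θ * k θ μ :=
      Finset.single_le_sum (f := fun θ => m θ * k θ μ) (fun θ _ => Nat.zero_le _)
        (Finset.mem_univ _)
    have h3 : 0 < m θ₀ * k θ₀ μ := Nat.mul_pos (Nat.pos_of_ne_zero hm0) (Nat.pos_of_ne_zero hk0)
    omega
  have hS : (∑ d : D, (χ : G → ℂ) d * conj ((μ : D → ℂ) d)) ≠ 0 := by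
    intro h
    apply hinner
    unfold classInner
    rw [h, mul_zero]
  -- central action of z
  have hzD : (⟨(z : G), hZD z.2⟩ : D) ∈ Subgroup.center D := by
    rw [Subgroup.mem_center_iff]
    intro d
    apply Subtype.ext
    exact (Subgroup.mem_center_iff.mp (hZc z.2)) d
  obtain ⟨ω, -, hω2, hω3⟩ := central_char μ.2 hzD
  obtain ⟨c', -, -, hc'3⟩ := central_char χ.2 (hZc z.2)
  have hχ1 : (χ : G → ℂ) 1 ≠ 0 := CharBasic.irr_one_ne_zero χ.2
  have hc' : c' = (lam z : ℂ) := by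
    have h1 := hc'3 1
    rw [mul_one, hover z, mul_comm] at h1
    exact (mul_right_cancel₀ hχ1 h1).symm
  have hsum : (∑ d : D, (χ : G → ℂ) d * conj ((μ : D → ℂ) d)) =
      ((lam z : ℂ) * conj ω) * ∑ d : D, (χ : G → ℂ) d * conj ((μ : D → ℂ) d) := by
    have h1 := (Equiv.sum_comp (Equiv.mulLeft (⟨(z : G), hZD z.2⟩ : D))
      (fun d : D => (χ : G → ℂ) d * conj ((μ : D → ℂ) d))).symm
    refine h1.trans ?_
    rw [Finset.mul_sum]
    apply Finset.sum_congr rfl
    intro d _
    simp only [Equiv.coe_mulLeft]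
    rw [hω3 d, Subgroup.coe_mul, hc'3, hc', map_mul]
    ring
  have hone : (lam z : ℂ) * conj ω = 1 := by
    have h1 : ((lam z : ℂ) * conj ω - 1) *
        ∑ d : D, (χ : G → ℂ) d * conj ((μ : D → ℂ) d) = 0 := by
      rw [sub_mul, ← hsum]; ring
    rcases mul_eq_zero.mp h1 with h | h
    · exact sub_eq_zero.mp h
    · exact absurd h hS
  have hlam : (lam z : ℂ) = ω := by
    calc (lam z : ℂ) = ((lam z : ℂ) * conj ω) * ω := by rw [mul_assoc, hω2, mul_one]
      _ = ω := by rw [hone, one_mul]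
  apply Units.ext
  rw [← hf, hlam]
  have h1 := hω3 1
  rw [mul_one, hμ1, mul_one] at h1
  exact h1

end Cfsg.Agent.S5001
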