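import Cfsg.Statements.S5096
import Cfsg.Agent.Lib.Helper26.FusNK2

set_option autoImplicit false
open Cfsg

namespace Cfsg.Agent.S5096

open Cfsg.Agent.Lib.Helper26 Cfsg.FusionSystem

/-- For any fusion system over a subgroup S and any Q ≤ S, the maps of the normalizer system N_F(Q) — those maps between subgroups of N_S(Q) that extend to the subgroup generated with Q carrying Q onto Q — form a fusion system over N_S(Q). -/
theorem result {Ω : Type*} [Group Ω] {S : Subgroup Ω} (F : Cfsg.FusionSystem S) (Q : Subgroup Ω) (hQ : Q ≤ S) : ∃ E : Cfsg.FusionSystem (Cfsg.FusionSystem.normalizerIn S Q), F.IsNormalizerSystem Q E := by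
  have hK : ∀ g ∈ normalizerIn S Q, ∃ κ ∈ (⊤ : Subgroup (MulAut Q)),
      ∀ x : Q, ((κ x : Q) : Ω) = g * x * g⁻¹ := fun g hg =>
    ⟨Q.normalizerMonoidHom ⟨g, (mem_normalizerIn_iff.mp hg).2⟩, Subgroup.mem_top _,
      fun x => normalizerMonoidHom_coe _ x⟩
  refine ⟨nkSystemIn F Q ⊤ (normalizerIn S Q) (normalizerIn_le S Q) hQ hK, fun P => ?_⟩
  ext φ
  constructor
  · rintro ⟨⟨hφ, h⟩, hP, hφT⟩
    exact ⟨hφ, hP, hφT, (nk_top_iff F).mpr h⟩
  · rintro ⟨hφ, hP, hφT, h⟩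
    exact ⟨⟨hφ, (nk_top_iff F).mp h⟩, hP, hφT⟩

end Cfsg.Agent.S5096
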