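import Cfsg.Statements.S5179
import Cfsg.Agent.Lib.Helper26.ExtraEssB

set_option autoImplicit false
universe u
open Cfsg

namespace Cfsg.Agent.S5179

open Cfsg.Agent.Lib.Helper26 Cfsg.FusionSystem

/-- Let p be an odd prime, S a finite p-group of order at least p⁶ containing an extraspecial subgroup Q of index p, and F a saturated fusion system over S whose largest subgroup normal in F is trivial. Then no proper subgroup of Q is essential in F: an essential subgroup of F contained in Q equals Q. -/
theorem result {Ω : Type u} [Group Ω] {S : Subgroup Ω} [Finite S] (p : ℕ) [Fact p.Prime] (hp : Odd p) (hS : IsPGroup p S)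
    (Q : Subgroup Ω) (hQS : Q ≤ S) (hQ : Cfsg.IsExtraspecial p ↥Q) (hQi : (Q.subgroupOf S).index = p)
    (h6 : p ^ 6 ≤ Nat.card S)
    (F : Cfsg.FusionSystem S) (hF : F.IsSaturated p) (hO : F.core = ⊥)
    (E : Subgroup Ω) (hEQ : E ≤ Q) (hE : F.IsEssential p E) : E = Q := by
  obtain ⟨⟨hQp, hfr, hco⟩, hZ⟩ := hQ
  have hprime := (Fact.out : p.Prime)
  have hcomm : ∀ x y : Q, x * y * x⁻¹ * y⁻¹ ∈ Subgroup.center Q := by
    intro x y
    rw [← hco]
    have h1 := Subgroup.commutator_mem_commutator (Subgroup.mem_top x) (Subgroup.mem_top y)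
    rw [commutatorElement_def] at h1
    exact h1
  have hcard : p ^ 4 ≤ Nat.card Q := by
    have h1 : Nat.card (Q.subgroupOf S) = Nat.card Q :=
      Nat.card_congr (Subgroup.subgroupOfEquivOfLe hQS).toEquiv
    have h2 := Subgroup.card_mul_index (Q.subgroupOf S)
    rw [hQi, h1] at h2
    have h3 : p ^ 6 ≤ Nat.card Q * p := h2 ▸ h6
    have e6 : p ^ 6 = p ^ 5 * p := by ring
    rw [e6] at h3
    have h4 : p ^ 5 ≤ Nat.card Q := Nat.le_of_mul_le_mul_right h3 hprime.pos
    exact le_trans (Nat.pow_le_pow_right hprime.pos (by norm_num)) h4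
  exact eq_of_essential_le_extraspecial hS F hQS hcomm hZ hcard hEQ hE

end Cfsg.Agent.S5179
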