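import Mathlib
import Cfsg.Statements.S5298
import Cfsg.Agent.S5083
import Cfsg.Agent.Lib.Helper26.FusNK
import Cfsg.Agent.Lib.Helper27.OmegaAut

set_option autoImplicit false
open Cfsg

namespace Cfsg.Agent.S5298

open Cfsg.FusionSystem Cfsg.Agent.Lib.Helper26 Cfsg.Agent.Lib.Helper27
open Cfsg.Agent.Lib.Helper20.Omega

universe u

/-- The order of a nontrivial element with `x ^ expo p = 1` is `p` or `4`. -/
theorem order_small {G : Type*} [Group G] {p : ℕ} [hp : Fact p.Prime] {x : G} (hx : x ^ expo p = 1)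
    (hx1 : x ≠ 1) : orderOf x = p ∨ orderOf x = 4 := by
  have hd : orderOf x ∣ expo p := orderOf_dvd_of_pow_eq_one hx
  have hne : orderOf x ≠ 1 := fun h => hx1 (orderOf_eq_one_iff.mp h)
  unfold expo at hd
  by_cases h2 : p = 2
  · rw [if_pos h2] at hd
    have hle : orderOf x ≤ 4 := Nat.le_of_dvd (by norm_num) hd
    have hpos : 0 < orderOf x := Nat.pos_of_dvd_of_pos hd (by norm_num)
    interval_cases h : orderOf x
    · exact absurd rfl hne
    · left; exact h2.symm
    · norm_num at hd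
    · right; rfl
  · rw [if_neg h2] at hd
    left
    exact ((Nat.dvd_prime hp.out).mp hd).resolve_left hne

theorem aut_trivial {Ω : Type u} [Group Ω] {S : Subgroup Ω} [Finite S] (p : ℕ) [Fact p.Prime]
    (hS : IsPGroup p S) (F : Cfsg.FusionSystem S)
    (h : ∀ A B : Subgroup Ω, A ≤ (F.hyperfocalSubgroup p) → B ≤ (F.hyperfocalSubgroup p) → IsCyclic ↥A → (Nat.card ↥A = p ∨ Nat.card ↥A = 4) → IsCyclic ↥B → (Nat.card ↥B = p ∨ Nat.card ↥B = 4) →
      F.homSet A B ⊆ (Cfsg.innerFusionSystem S).Hom A)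
    {P : Subgroup Ω} (hP : P ≤ S) (α : MulAut P) (hαA : α ∈ F.autGroup P)
    (hαo : (orderOf α).Coprime p) : α = 1 := by
  have hfin : Finite P := finite_of_le hP
  have hPp : IsPGroup p P := hS.to_le hP
  have hα_res : (⟨α, hαA⟩ : F.autGroup P) ∈ pResidual p (F.autGroup P) := by
    apply Subgroup.subset_closure
    show Nat.Coprime (orderOf (⟨α, hαA⟩ : F.autGroup P)) p
    rw [Subgroup.orderOf_mk]
    exact hαo
  have hgen : ∀ x : P, ((x⁻¹ * α x : P) : Ω) ∈ F.hyperfocalSubgroup p := fun x =>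
    Subgroup.subset_closure ⟨P, ⟨α, hαA⟩, x, hP, hα_res, rfl⟩
  obtain ⟨H', hH'⟩ : ∃ H' : Subgroup P, H' = (F.hyperfocalSubgroup p).subgroupOf P := ⟨_, rfl⟩
  have hmemH' : ∀ y : P, y ∈ H' ↔ (y : Ω) ∈ F.hyperfocalSubgroup p := by
    intro y
    rw [hH', Subgroup.mem_subgroupOf]
  have hH'inv : ∀ y ∈ H', α y ∈ H' := by
    intro y hy
    have e : α y = y * (y⁻¹ * α y) := by group
    rw [e]
    exact H'.mul_mem hy ((hmemH' _).mpr (hgen y))
  have hpow_inv : ∀ j : ℕ, ∀ y ∈ H', (α ^ j) y ∈ H' := by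
    intro j
    induction j with
    | zero => intro y hy; simpa using hy
    | succ j ih =>
      intro y hy
      rw [pow_succ', MulAut.mul_apply]
      exact hH'inv _ (ih y hy)
  -- Step A: on small elements of `H'` the powers of `α` act as conjugations by elements of `S`
  have hconj : ∀ j : ℕ, ∀ x ∈ H', x ^ expo p = 1 →
      ∃ s ∈ S, (((α ^ j) x : P) : Ω) = s * (x : Ω) * s⁻¹ := by
    intro j x hx hxe
    by_cases hx1 : x = 1
    · refine ⟨1, S.one_mem, ?_⟩
      rw [hx1, map_one]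
      simp
    have hβA : α ^ j ∈ F.autGroup P := Subgroup.pow_mem _ hαA j
    have hxH : (x : Ω) ∈ F.hyperfocalSubgroup p := (hmemH' x).mp hx
    have hyH : (((α ^ j) x : P) : Ω) ∈ F.hyperfocalSubgroup p := (hmemH' _).mp (hpow_inv j x hx)
    have hAP : Subgroup.zpowers (x : Ω) ≤ P := (Subgroup.zpowers_le).mpr x.2
    have hord : orderOf (x : Ω) = p ∨ orderOf (x : Ω) = 4 := by
      rw [Subgroup.orderOf_coe]
      exact order_small hxe hx1
    have hord' : orderOf (((α ^ j) x : P) : Ω) = p ∨ orderOf (((α ^ j) x : P) : Ω) = 4 := by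
      rw [Subgroup.orderOf_coe, MulEquiv.orderOf_eq]
      rw [Subgroup.orderOf_coe] at hord
      exact hord
    have hφ := restrict_mem F (autGroup_hom_mem F hP hβA) hAP
    have himg : ∀ y : Subgroup.zpowers (x : Ω),
        ((P.subtype.comp (MulEquiv.toMonoidHom (α ^ j))).comp (Subgroup.inclusion hAP)) y ∈
          Subgroup.zpowers (((α ^ j) x : P) : Ω) := by
      rintro ⟨y, hy⟩
      obtain ⟨k, hk⟩ := Subgroup.mem_zpowers_iff.mp hy
      have e : Subgroup.inclusion hAP ⟨y, hy⟩ = x ^ k := Subtype.ext hk.symm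
      show (((α ^ j) (Subgroup.inclusion hAP ⟨y, hy⟩) : P) : Ω) ∈ _
      rw [e, map_zpow, Subgroup.coe_zpow]
      exact Subgroup.zpow_mem_zpowers _ k
    have hin := h (Subgroup.zpowers (x : Ω)) (Subgroup.zpowers (((α ^ j) x : P) : Ω))
      ((Subgroup.zpowers_le).mpr hxH) ((Subgroup.zpowers_le).mpr hyH)
      (Subgroup.isCyclic_zpowers _) (by rw [Nat.card_zpowers]; exact hord)
      (Subgroup.isCyclic_zpowers _) (by rw [Nat.card_zpowers]; exact hord') ⟨hφ, himg⟩
    obtain ⟨-, g, hg, hgx⟩ := hin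
    refine ⟨g, hg, ?_⟩
    exact hgx ⟨(x : Ω), Subgroup.mem_zpowers _⟩
  -- Step B: induction along the upper central series of `S`
  have hstep : ∀ i : ℕ, ∀ x ∈ H', x ^ expo p = 1 →
      Subgroup.inclusion hP x ∈ Subgroup.upperCentralSeries ↥S i → α x = x := by
    intro i
    induction i with
    | zero =>
      intro x _ _ hxZ
      rw [Subgroup.upperCentralSeries_zero, Subgroup.mem_bot] at hxZ
      have hx1 : x = 1 := by
        apply Subtype.ext
        exact congrArg (fun z : S => (z : Ω)) hxZ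
      rw [hx1, map_one]
    | succ i ih =>
      intro x hx hxe hxZ
      obtain ⟨Y₀, hY₀⟩ : ∃ Y₀ : Subgroup P, Y₀ = Subgroup.closure
          {u : P | ∃ j k : ℕ, u = ((α ^ j) x)⁻¹ * ((α ^ k) x)} := ⟨_, rfl⟩
      have hY₀inv : ∀ u ∈ Y₀, α u ∈ Y₀ := by
        intro u hu
        rw [hY₀] at hu ⊢
        induction hu using Subgroup.closure_induction with
        | mem u hu =>
          obtain ⟨j, k, rfl⟩ := hu
          apply Subgroup.subset_closure
          refine ⟨j + 1, k + 1, ?_⟩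
          rw [map_mul, map_inv, pow_succ' α j, pow_succ' α k, MulAut.mul_apply, MulAut.mul_apply]
        | one => rw [map_one]; exact Subgroup.one_mem _
        | mul a b _ _ ha hb => rw [map_mul]; exact Subgroup.mul_mem _ ha hb
        | inv a _ ha => rw [map_inv]; exact Subgroup.inv_mem _ ha
      have hY₀le : Y₀ ≤ H' ⊓ (Subgroup.upperCentralSeries ↥S i).comap (Subgroup.inclusion hP) := by
        rw [hY₀, Subgroup.closure_le]
        rintro u ⟨j, k, rfl⟩
        refine ⟨H'.mul_mem (H'.inv_mem (hpow_inv j x hx)) (hpow_inv k x hx), ?_⟩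
        show Subgroup.inclusion hP (((α ^ j) x)⁻¹ * ((α ^ k) x)) ∈ Subgroup.upperCentralSeries ↥S i
        obtain ⟨s, hs, hsx⟩ := hconj j x hx hxe
        obtain ⟨t, ht, htx⟩ := hconj k x hx hxe
        have e : Subgroup.inclusion hP (((α ^ j) x)⁻¹ * ((α ^ k) x)) =
            (⟨s, hs⟩ : S) * ((Subgroup.inclusion hP x)⁻¹ * ((⟨s, hs⟩ : S)⁻¹ * ⟨t, ht⟩) *
              ((Subgroup.inclusion hP x)⁻¹)⁻¹ * ((⟨s, hs⟩ : S)⁻¹ * ⟨t, ht⟩)⁻¹) * (⟨s, hs⟩ : S)⁻¹ := by
          apply Subtype.ext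
          show (((α ^ j) x : P) : Ω)⁻¹ * (((α ^ k) x : P) : Ω) =
            s * ((x : Ω)⁻¹ * (s⁻¹ * t) * ((x : Ω)⁻¹)⁻¹ * (s⁻¹ * t)⁻¹) * s⁻¹
          rw [hsx, htx]
          group
        rw [e]
        have hxinv : (Subgroup.inclusion hP x)⁻¹ ∈ Subgroup.upperCentralSeries ↥S (i + 1) :=
          Subgroup.inv_mem _ hxZ
        have h1 := (Subgroup.mem_upperCentralSeries_succ_iff).mp hxinv
          ((⟨s, hs⟩ : S)⁻¹ * ⟨t, ht⟩)
        exact (inferInstance : (Subgroup.upperCentralSeries ↥S i).Normal).conj_mem _ h1 _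
      have hfix : ∀ u ∈ Y₀, α u = u := by
        apply omega_aut hPp α hαo Y₀ hY₀inv
        intro u hu hue
        exact ih u (hY₀le hu).1 hue (hY₀le hu).2
      apply fix_of_fix_comm hPp α hαo
      apply hfix
      rw [hY₀]
      apply Subgroup.subset_closure
      exact ⟨0, 1, by simp⟩
  -- Step C
  have hnil : Group.IsNilpotent S := hS.isNilpotent
  obtain ⟨c, hc⟩ := hnil.nilpotent
  have hfixH' : ∀ y ∈ H', α y = y := by
    apply omega_aut hPp α hαo H' hH'inv
    intro y hy hye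
    apply hstep c y hy hye
    rw [hc]
    exact Subgroup.mem_top _
  apply MulEquiv.ext
  intro x
  rw [MulAut.one_apply]
  apply fix_of_fix_comm hPp α hαo
  exact hfixH' _ ((hmemH' _).mpr (hgen x))

theorem result {Ω : Type u} [Group Ω] {S : Subgroup Ω} [Finite S] (p : ℕ) [Fact p.Prime] (hS : IsPGroup p S)
    (F : Cfsg.FusionSystem S) (hF : F.IsSaturated p)
    (h : ∀ A B : Subgroup Ω, A ≤ (F.hyperfocalSubgroup p) → B ≤ (F.hyperfocalSubgroup p) → IsCyclic ↥A → (Nat.card ↥A = p ∨ Nat.card ↥A = 4) → IsCyclic ↥B → (Nat.card ↥B = p ∨ Nat.card ↥B = 4) →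
      F.homSet A B ⊆ (Cfsg.innerFusionSystem S).Hom A) :
    ∀ P : Subgroup Ω, F.Hom P = (Cfsg.innerFusionSystem S).Hom P := by
  have key : ∀ P : Subgroup Ω, P ≤ S → IsPGroup p (F.autGroup P) := by
    intro P hP
    have hfin : Finite P := finite_of_le hP
    exact isPGroup_of_coprime_trivial (F.autGroup P)
      (fun α hα hαo => aut_trivial p hS F h hP α hα hαo)
  intro P
  rw [Cfsg.Agent.S5083.result p hS F hF key]

end Cfsg.Agent.S5298
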