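import Cfsg.Statements.S5191
import Cfsg.Agent.Lib.Helper26.FusGrp

set_option autoImplicit false
open Cfsg

namespace Cfsg.Agent.S5191

open Cfsg.Agent.Lib.Helper26 Cfsg.FusionSystem

open scoped Pointwise

/-- Fusion in a finite group G and in its quotient by O_{p'}(G) agree. Let S be a Sylow p-subgroup of G, N = O_{p'}(G) and P ≤ S. If an element of G/N conjugates the image of P into the image of S, then some element g of G conjugates P into S and induces the same map on P modulo N. (Together with the injectivity of S → G/N this says that g ↦ gN induces an isomorphism of the fusion system of G on S with that of G/N on SN/N.) -/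
theorem result {G : Type*} [Group G] [Finite G] {p : ℕ} [Fact p.Prime]
    [hN : (Cfsg.pPrimeCore p G).Normal] (S : Sylow p G) (P : Subgroup G) (hP : P ≤ (S : Subgroup G))
    (γ : G ⧸ Cfsg.pPrimeCore p G)
    (hγ : ∀ x ∈ P, γ * QuotientGroup.mk x * γ⁻¹ ∈ ((S : Subgroup G).map (QuotientGroup.mk' (Cfsg.pPrimeCore p G)))) :
    ∃ g : G, ∀ x ∈ P, g * x * g⁻¹ ∈ S ∧
      (QuotientGroup.mk (g * x * g⁻¹) : G ⧸ Cfsg.pPrimeCore p G) = γ * QuotientGroup.mk x * γ⁻¹ := by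
  obtain ⟨g₀, rfl⟩ := QuotientGroup.mk_surjective γ
  have hA : IsPGroup p (P.map (MulAut.conj g₀).toMonoidHom) := (S.isPGroup'.to_le hP).map _
  have hAL : P.map (MulAut.conj g₀).toMonoidHom ≤ (S : Subgroup G) ⊔ Cfsg.pPrimeCore p G := by
    rintro _ ⟨x, hx, rfl⟩
    obtain ⟨s, hs, hsx⟩ := hγ x hx
    have h1 : (QuotientGroup.mk s : G ⧸ Cfsg.pPrimeCore p G) =
        QuotientGroup.mk (g₀ * x * g₀⁻¹) := by
      rw [QuotientGroup.mk_mul, QuotientGroup.mk_mul, QuotientGroup.mk_inv]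
      exact hsx
    have h2 : s⁻¹ * (g₀ * x * g₀⁻¹) ∈ Cfsg.pPrimeCore p G := QuotientGroup.eq.mp h1
    have h3 : g₀ * x * g₀⁻¹ = s * (s⁻¹ * (g₀ * x * g₀⁻¹)) := by group
    show g₀ * x * g₀⁻¹ ∈ _
    rw [h3]
    exact Subgroup.mul_mem _ (Subgroup.mem_sup_left hs) (Subgroup.mem_sup_right h2)
  obtain ⟨l, hl, hlA⟩ := (isSylowIn_of_sylow S
    (le_sup_left : (S : Subgroup G) ≤ (S : Subgroup G) ⊔ Cfsg.pPrimeCore p G)).conj_le hAL hA
  have hmul := Subgroup.mul_normal (S : Subgroup G) (Cfsg.pPrimeCore p G)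
  have hl' : l ∈ ((S : Subgroup G) : Set G) * ((Cfsg.pPrimeCore p G : Subgroup G) : Set G) := by
    rw [← hmul]
    exact hl
  obtain ⟨s, hs, n, hn, rfl⟩ := Set.mem_mul.mp hl'
  refine ⟨n * g₀, fun x hx => ⟨?_, ?_⟩⟩
  · have h1 := hlA (g₀ * x * g₀⁻¹) ⟨x, hx, rfl⟩
    have h2 : n * g₀ * x * (n * g₀)⁻¹ = s⁻¹ * (s * n * (g₀ * x * g₀⁻¹) * (s * n)⁻¹) * s := by
      group
    rw [h2]
    exact Subgroup.mul_mem _ (Subgroup.mul_mem _ (Subgroup.inv_mem _ hs) h1) hs
  · have h1 : (QuotientGroup.mk n : G ⧸ Cfsg.pPrimeCore p G) = 1 :=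
      (QuotientGroup.eq_one_iff n).mpr hn
    rw [QuotientGroup.mk_mul, QuotientGroup.mk_mul, QuotientGroup.mk_inv, QuotientGroup.mk_mul, h1]
    group

end Cfsg.Agent.S5191
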