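import Cfsg.Statements.S5235
import Cfsg.Agent.Lib.Helper26.GenExI
import Cfsg.Agent.Lib.Helper26.GenExJ
import Cfsg.Agent.S1896
import Cfsg.Agent.S5086

set_option autoImplicit false
open Cfsg

namespace Cfsg.Agent.S5235

open Cfsg.Agent.Lib.Helper26 Cfsg.FusionSystem

/-- Let F be a saturated fusion system over a finite 2-group S (p = 2) and P a metacyclic subgroup of S strongly closed in F that is not dihedral, not semidihedral and not generalized quaternion (here the group of order 2, the Klein four-group and the cyclic group of order 4 also count as excluded). Then P is normal in F. -/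
theorem result {Ω : Type*} [Group Ω] {S : Subgroup Ω} [Finite S] (p : ℕ) [Fact p.Prime] (hS : IsPGroup p S) (F : Cfsg.FusionSystem S) (hF : F.IsSaturated p) (P : Subgroup Ω) (hP : F.StronglyClosed P) (hp : p = 2) (hm : Cfsg.IsMetacyclic ↥P) (hd : ¬ ∃ m : ℕ, Nonempty (↥P ≃* DihedralGroup m)) (hq : ¬ ∃ m : ℕ, Nonempty (↥P ≃* QuaternionGroup m)) (hsd : ¬ Cfsg.IsQuasiDihedral ↥P) : F.IsNormal P := by
  subst hp
  apply (Cfsg.Agent.S5086.result 2 hS F hF P).mpr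
  refine ⟨hP, fun R hc hr => ?_⟩
  by_contra hPR
  have hR : R ≤ S := hc.1
  have hPS : P ≤ S := hP.1
  haveI hfinP : Finite ↥P := finite_of_le hPS
  have h2P : IsPGroup 2 ↥P := hS.to_le hPS
  haveI hfin0 : Finite ↥(P ⊓ R) := finite_of_le (le_trans inf_le_left hPS)
  have h20 : IsPGroup 2 ↥(P ⊓ R) := hS.to_le (le_trans inf_le_left hPS)
  have hm0 : Cfsg.IsMetacyclic ↥(P ⊓ R) := isMetacyclic_of_le inf_le_left hm
  have hkey : ∀ (K : Subgroup Ω) (hK : K ≤ P) (r u : ↥K), r ^ 4 = 1 → r ^ 2 ≠ 1 →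
      u * r * u⁻¹ = r⁻¹ → (u ^ 2 = 1 ∨ u ^ 2 = r ^ 2) → False := by
    intro K hK r u h1 h2 h3 h4
    rcases dqsd_of_hom h2P hm (Subgroup.inclusion hK) (Subgroup.inclusion_injective hK) r u
      h1 h2 h3 h4 with h | h | h
    · exact hd h
    · exact hq h
    · exact hsd h
  by_cases hA : IsPGroup 2 (MulAut ↥(P ⊓ R))
  · exact hPR (le_of_aut_isPGroup hS F hc hr hP hA)
  rcases Cfsg.Agent.S1896.result h20 hm0 hA with ⟨⟨e⟩⟩ | ⟨n, ⟨e⟩⟩
  · refine hkey (P ⊓ R) inf_le_left (e.symm (QuaternionGroup.a 1)) (e.symm (QuaternionGroup.xa 0))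
      ?_ ?_ ?_ ?_
    · have h1 : (QuaternionGroup.a 1 : QuaternionGroup 2) ^ 4 = 1 := by decide
      rw [← map_pow, h1, map_one]
    · intro h
      have h1 : (QuaternionGroup.a 1 : QuaternionGroup 2) ^ 2 ≠ 1 := by decide
      apply h1
      have h' := congrArg e h
      simpa only [map_pow, MulEquiv.apply_symm_apply, map_one] using h'
    · have h1 : (QuaternionGroup.xa 0 : QuaternionGroup 2) * QuaternionGroup.a 1 *
          (QuaternionGroup.xa 0)⁻¹ = (QuaternionGroup.a 1)⁻¹ := by decide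
      have h' := congrArg e.symm h1
      simpa only [map_mul, map_inv] using h'
    · right
      have h1 : (QuaternionGroup.xa 0 : QuaternionGroup 2) ^ 2 = (QuaternionGroup.a 1) ^ 2 := by
        decide
      have h' := congrArg e.symm h1
      simpa only [map_pow] using h'
  · obtain ⟨hab0, hexp0, hsq0⟩ := homocyclic_facts n e
    have hab : ∀ x ∈ P ⊓ R, ∀ y ∈ P ⊓ R, x * y = y * x := fun x hx y hy =>
      congrArg Subtype.val (hab0 ⟨x, hx⟩ ⟨y, hy⟩)
    have hexp : ∀ x ∈ P ⊓ R, x ^ (2 ^ n) = 1 := fun x hx =>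
      congrArg Subtype.val (hexp0 ⟨x, hx⟩)
    have hPn := stronglyClosed_le_normalizer F hP
    obtain ⟨q, hqP, hqN, hqR⟩ := exists_normalizer_not_mem hS hR hPS hPn hPR
    obtain ⟨T, hT⟩ : ∃ T : Subgroup Ω, T = P ⊓ Subgroup.normalizer (R : Set Ω) := ⟨_, rfl⟩
    have hTP : T ≤ P := hT ▸ inf_le_left
    have hTN : T ≤ Subgroup.normalizer (R : Set Ω) := hT ▸ inf_le_right
    have hAT : P ⊓ R ≤ T := hT ▸ inf_le_inf_left P Subgroup.le_normalizer
    have hqT : q ∈ T := hT ▸ ⟨hqP, hqN⟩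
    haveI hfinT : Finite ↥T := finite_of_le (le_trans hTP hPS)
    have h2T : IsPGroup 2 ↥T := hS.to_le (le_trans hTP hPS)
    have hmT : Cfsg.IsMetacyclic ↥T := isMetacyclic_of_le hTP hm
    haveI hAn : ((P ⊓ R).subgroupOf T).Normal := by
      constructor
      intro x hx t
      rw [Subgroup.mem_subgroupOf] at hx ⊢
      refine ⟨P.mul_mem (P.mul_mem (hTP t.2) hx.1) (P.inv_mem (hTP t.2)), ?_⟩
      exact (Subgroup.mem_normalizer_iff.mp (hTN t.2) _).mp hx.2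
    have hsqT : ∀ z ∈ (P ⊓ R).subgroupOf T, z ^ 2 = 1 →
        (∃ w ∈ (P ⊓ R).subgroupOf T, z = w ^ 2) ∨ ∀ x ∈ (P ⊓ R).subgroupOf T, x ^ 2 = 1 := by
      intro z hz hz2
      have hz' := Subgroup.mem_subgroupOf.mp hz
      have hz2' : ((z ^ 2 : ↥T) : Ω) = ((1 : ↥T) : Ω) := congrArg Subtype.val hz2
      rcases hsq0 ⟨z, hz'⟩ (Subtype.ext hz2') with ⟨w, hw⟩ | hel
      · left
        have hw' : (((⟨z, hz'⟩ : ↥(P ⊓ R)) : Ω)) = ((w ^ 2 : ↥(P ⊓ R)) : Ω) :=
          congrArg Subtype.val hw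
        exact ⟨⟨w, hAT w.2⟩, Subgroup.mem_subgroupOf.mpr w.2, Subtype.ext hw'⟩
      · right
        intro x hx
        have hx' : (((⟨x, Subgroup.mem_subgroupOf.mp hx⟩ : ↥(P ⊓ R)) ^ 2 : ↥(P ⊓ R)) : Ω) =
            ((1 : ↥(P ⊓ R)) : Ω) := congrArg Subtype.val (hel ⟨x, Subgroup.mem_subgroupOf.mp hx⟩)
        exact Subtype.ext hx'
    have hstabT : ∀ h : ↥T, (∀ x ∈ (P ⊓ R).subgroupOf T, ∃ w ∈ (P ⊓ R).subgroupOf T,
        x⁻¹ * (h * x * h⁻¹) = w ^ 2) → h ∈ (P ⊓ R).subgroupOf T := by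
      intro h hh
      apply Subgroup.mem_subgroupOf.mpr
      refine ⟨hTP h.2, ?_⟩
      refine mem_of_homocyclic_stab hS F hc hr hP hab n hexp h (hTN h.2) (hTP h.2) ?_
      intro x hx
      obtain ⟨w, hw, hw'⟩ := hh ⟨x, hAT hx⟩ (Subgroup.mem_subgroupOf.mpr hx)
      exact ⟨w, Subgroup.mem_subgroupOf.mp hw, congrArg Subtype.val hw'⟩
    obtain ⟨r, u, hr4, hr2, hu2, hur⟩ := exists_d8_of_stab h2T hmT ((P ⊓ R).subgroupOf T)
      (fun x hx y hy => Subtype.ext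
        (hab _ (Subgroup.mem_subgroupOf.mp hx) _ (Subgroup.mem_subgroupOf.mp hy)))
      hsqT ⟨q, hqT⟩ (fun h => hqR (Subgroup.mem_subgroupOf.mp h).2) hstabT
    exact hkey T hTP r u hr4 hr2 hur (Or.inl hu2)

end Cfsg.Agent.S5235
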