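import Mathlib
import Cfsg.Statements.S5256
import Cfsg.Agent.S5134
import Cfsg.Agent.Lib.Helper26.FusQuot2
import Cfsg.Agent.Lib.Helper26.FusHyp

set_option autoImplicit false
open Cfsg

namespace Cfsg.Agent.S5256

open Cfsg.FusionSystem Cfsg.Agent.Lib.Helper26

theorem pResidual_map_mem {G H : Type*} [Group G] [Group H] (p : ℕ) (f : G →* H) {g : G}
    (hg : g ∈ pResidual p G) : f g ∈ pResidual p H := by
  have hle : pResidual p G ≤ (pResidual p H).comap f := by
    show Subgroup.closure _ ≤ _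
    rw [Subgroup.closure_le]
    intro x hx
    show f x ∈ Subgroup.closure _
    apply Subgroup.subset_closure
    show Nat.Coprime (orderOf (f x)) p
    exact Nat.Coprime.coprime_dvd_left (orderOf_map_dvd f x) hx
  exact hle hg

theorem pResidual_lift {G H : Type*} [Group G] [Group H] [Finite G] {p : ℕ} [Fact p.Prime]
    (f : G →* H) (hf : Function.Surjective f) {h : H} (hh : h ∈ pResidual p H) :
    ∃ g ∈ pResidual p G, f g = h := by
  have hle : pResidual p H ≤ (pResidual p G).map f := by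
    show Subgroup.closure _ ≤ _
    rw [Subgroup.closure_le]
    intro y hy
    obtain ⟨g, rfl⟩ := hf y
    obtain ⟨k, hk⟩ := exists_pow_mem_pResidual' (p := p) g
    have hy' : Nat.Coprime (orderOf (f g)) p := hy
    have hcop : Nat.Coprime (p ^ k) (orderOf (f g)) := Nat.Coprime.pow_left k hy'.symm
    obtain ⟨c, hc⟩ := exists_pow_eq_self_of_coprime hcop
    refine ⟨(g ^ p ^ k) ^ c, Subgroup.pow_mem _ hk c, ?_⟩
    rw [map_pow, map_pow]
    exact hc
  obtain ⟨g, hg, hgh⟩ := hle hh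
  exact ⟨g, hg, hgh⟩

/-- Let F be a saturated fusion system over a finite p-group S, T a subgroup of S strongly closed in F, and E a factor system F/T realised along a homomorphism θ of S with kernel T. Then the hyperfocal subgroup of E is the image under θ of the hyperfocal subgroup of F (hyp(F/T) = T·hyp(F)/T). -/
theorem result {Ω : Type*} [Group Ω] {S : Subgroup Ω} [Finite S] (p : ℕ) [Fact p.Prime] (hS : IsPGroup p S) (F : Cfsg.FusionSystem S) (hF : F.IsSaturated p) (T : Subgroup Ω) (hT : F.StronglyClosed T) {Ω' : Type*} [Group Ω'] {S' : Subgroup Ω'} (θ : ↥S →* Ω') (E : Cfsg.FusionSystem S') (hE : F.IsFactorSystem T θ E) : E.hyperfocalSubgroup p = ((F.hyperfocalSubgroup p).subgroupOf S).map θ := by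
  have hsurj := Cfsg.Agent.S5134.result p hS F hF T hT θ E hE
  have hmor := hsurj.1
  have hrange : θ.range = S' := hE.2.2.1
  apply le_antisymm
  · show Subgroup.closure _ ≤ _
    rw [Subgroup.closure_le]
    rintro y ⟨P', γ, x', hP', hγ, rfl⟩
    have himg : imageAlong θ (preimageAlong θ P') = P' := by
      apply le_antisymm
      · intro z hz
        obtain ⟨s, hs, rfl⟩ := (mem_imageAlong_iff θ _).mp hz
        obtain ⟨_, h2⟩ := (mem_preimageAlong_iff θ P').mp hs
        exact h2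
      · intro z hz
        have h1 : z ∈ θ.range := hrange ▸ hP' hz
        obtain ⟨s, rfl⟩ := h1
        exact (mem_imageAlong_iff θ _).mpr ⟨s, (mem_preimageAlong_iff θ P').mpr ⟨s.2, hz⟩, rfl⟩
    obtain ⟨Q, hQS, hker, rfl⟩ : ∃ Q : Subgroup Ω, Q ≤ S ∧ preimageAlong θ ⊥ ≤ Q ∧
        imageAlong θ Q = P' :=
      ⟨_, preimageAlong_le θ P', ker_le_preimageAlong θ P', himg⟩
    have hfinQ : Finite Q := finite_of_le hQS
    have hfinA : Finite (MulAut Q) := inferInstance
    obtain ⟨f, hf⟩ : ∃ f : ↥(F.autGroup Q) →* ↥(E.autGroup (imageAlong θ Q)),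
        ∀ β, ((f β : ↥(E.autGroup (imageAlong θ Q))) : MulAut ↥(imageAlong θ Q)) =
          autMap F E θ hmor hQS β :=
      ⟨(autMap F E θ hmor hQS).codRestrict _ (fun β => autMap_mem F E θ hmor hQS β), fun β => rfl⟩
    have hfsurj : Function.Surjective f := by
      intro γ'
      obtain ⟨β, hβ⟩ := autMap_surj F E θ hsurj hQS hker γ' γ'.2
      exact ⟨β, Subtype.ext ((hf β).trans hβ)⟩
    obtain ⟨β, hβ, hβγ⟩ := pResidual_lift f hfsurj hγ
    obtain ⟨x, rfl⟩ := imgHom_surjective θ hQS x'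
    have hmem : (x : Ω)⁻¹ * (((β : MulAut Q) x : Q) : Ω) ∈ S :=
      S.mul_mem (S.inv_mem (hQS x.2)) (hQS (Subtype.property _))
    refine ⟨⟨(x : Ω)⁻¹ * (((β : MulAut Q) x : Q) : Ω), hmem⟩, ?_, ?_⟩
    · show _ ∈ (F.hyperfocalSubgroup p).subgroupOf S
      rw [Subgroup.mem_subgroupOf]
      exact mem_hyperfocal F p hQS β hβ x
    · have e1 : (⟨(x : Ω)⁻¹ * (((β : MulAut Q) x : Q) : Ω), hmem⟩ : S) =
          (⟨(x : Ω), hQS x.2⟩ : S)⁻¹ * ⟨(((β : MulAut Q) x : Q) : Ω), hQS (Subtype.property _)⟩ := rfl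
      rw [e1, map_mul, map_inv, ← hβγ, hf β, autMap_apply]
      rfl
  · rintro _ ⟨s, hs, rfl⟩
    have hs : (s : Ω) ∈ F.hyperfocalSubgroup p := Subgroup.mem_subgroupOf.mp hs
    have key : F.hyperfocalSubgroup p ≤ ((E.hyperfocalSubgroup p).comap θ).map S.subtype := by
      show Subgroup.closure _ ≤ _
      rw [Subgroup.closure_le]
      rintro y ⟨P, β, x, hP, hβ, rfl⟩
      have hmem : (x : Ω)⁻¹ * (((β : MulAut P) x : P) : Ω) ∈ S :=
        S.mul_mem (S.inv_mem (hP x.2)) (hP (Subtype.property _))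
      refine ⟨⟨(x : Ω)⁻¹ * (((β : MulAut P) x : P) : Ω), hmem⟩, ?_, rfl⟩
      show θ _ ∈ E.hyperfocalSubgroup p
      obtain ⟨f, hf⟩ : ∃ f : ↥(F.autGroup P) →* ↥(E.autGroup (imageAlong θ P)),
          ∀ β, ((f β : ↥(E.autGroup (imageAlong θ P))) : MulAut ↥(imageAlong θ P)) =
            autMap F E θ hmor hP β :=
        ⟨(autMap F E θ hmor hP).codRestrict _ (fun β => autMap_mem F E θ hmor hP β), fun β => rfl⟩
      have h1 := mem_hyperfocal E p (imageAlong_le θ hmor.1 P) (f β) (pResidual_map_mem p f hβ)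
        (imgHom θ hP x)
      rw [hf β, autMap_apply] at h1
      have e1 : (⟨(x : Ω)⁻¹ * (((β : MulAut P) x : P) : Ω), hmem⟩ : S) =
          (⟨(x : Ω), hP x.2⟩ : S)⁻¹ * ⟨(((β : MulAut P) x : P) : Ω), hP (Subtype.property _)⟩ := rfl
      rw [e1, map_mul, map_inv]
      exact h1
    obtain ⟨s', hs', hss'⟩ := key hs
    have e : s' = s := Subtype.ext hss'
    subst e
    exact hs'

end Cfsg.Agent.S5256
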