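import Mathlib
import Cfsg.Statements.S5270
import Cfsg.Agent.S5081
import Cfsg.Agent.Lib.Helper27.MaxClass
import Cfsg.Agent.Lib.Helper26.FusSat2

set_option autoImplicit false
open Cfsg

namespace Cfsg.Agent.S5270

open Cfsg.FusionSystem Cfsg.Agent.Lib.Helper26 Cfsg.Agent.Lib.Helper27

theorem fullyNormalized_of_normal {Ω : Type*} [Group Ω] {S : Subgroup Ω} [Finite S]
    (F : FusionSystem S) {P : Subgroup Ω} (hP : P ≤ S)
    (h : ∀ s ∈ S, ∀ y ∈ P, s * y * s⁻¹ ∈ P) : F.IsFullyNormalized P := by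
  refine ⟨hP, fun Q _ => ?_⟩
  have hfin : Finite P := finite_of_le hP
  have e : normalizerIn S P = S := by
    apply le_antisymm inf_le_left
    intro s hs
    exact ⟨hs, mem_normalizer_of_forall_conj_mem (h s hs)⟩
  rw [e]
  exact Subgroup.card_le_of_le (normalizerIn_le S Q)

/-- The automorphisms of `C` preserving membership in `Z`. -/
def memStab {Ω : Type*} [Group Ω] (C Z : Subgroup Ω) : Subgroup (MulAut C) where
  carrier := {γ | ∀ c : C, (c : Ω) ∈ Z ↔ ((γ c : C) : Ω) ∈ Z}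
  mul_mem' := by
    intro a b ha hb c
    exact (hb c).trans (ha (b c))
  one_mem' := by
    intro c
    exact Iff.rfl
  inv_mem' := by
    intro a ha c
    have h1 := ha (a⁻¹ c)
    rw [MulAut.apply_inv_self] at h1
    exact h1.symm

/-- Let p ≥ 5 be a prime, S a finite p-group of maximal class of order p^n with n ≥ 4, and F a saturated fusion system over S. If some map of F defined on the second centre Z₂(S) with image Z₂(S) does not carry Z(S) into itself, then the centralizer C_S(Z₂(S)) is an F-essential subgroup. -/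
theorem result {Ω : Type*} [Group Ω] {S : Subgroup Ω} [Finite S] (p : ℕ) [Fact p.Prime] (hS : IsPGroup p ↥S) (n : ℕ) (hn : Nat.card S = p ^ n) (h4 : 4 ≤ n) (hmax : Subgroup.lowerCentralSeries S (n - 2) ≠ ⊥) (F : Cfsg.FusionSystem S) (hF : F.IsSaturated p) (hp : 5 ≤ p) (φ : ↥((Subgroup.upperCentralSeries ↥S 2).map S.subtype) →* Ω) (hφ : φ ∈ F.Hom ((Subgroup.upperCentralSeries ↥S 2).map S.subtype)) (hφZ : φ.range = ((Subgroup.upperCentralSeries ↥S 2).map S.subtype)) (hmove : ∃ (z : Ω) (hz : z ∈ ((Subgroup.upperCentralSeries ↥S 2).map S.subtype)), z ∈ ((Subgroup.center ↥S).map S.subtype) ∧ φ ⟨z, hz⟩ ∉ ((Subgroup.center ↥S).map S.subtype)) : F.IsEssential p (S ⊓ Subgroup.centralizer (((Subgroup.upperCentralSeries ↥S 2).map S.subtype) : Set Ω)) := by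
  have hZ₂mem0 : ∀ y : Ω, y ∈ (Subgroup.upperCentralSeries ↥S 2).map S.subtype ↔
      ∃ s : S, s ∈ Subgroup.upperCentralSeries ↥S 2 ∧ (s : Ω) = y := fun y => Subgroup.mem_map
  generalize hZ₂def : (Subgroup.upperCentralSeries ↥S 2).map S.subtype = Z₂ at φ hφ hφZ hmove hZ₂mem0 ⊢
  have hZ₂S : Z₂ ≤ S := by
    intro y hy
    obtain ⟨s, -, rfl⟩ := (hZ₂mem0 y).mp hy
    exact s.2
  have hZ₂norm : ∀ s ∈ S, ∀ y ∈ Z₂, s * y * s⁻¹ ∈ Z₂ := by
    intro s hs y hy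
    obtain ⟨y₀, hy₀, rfl⟩ := (hZ₂mem0 y).mp hy
    have hnorm : (Subgroup.upperCentralSeries ↥S 2).Normal := inferInstance
    have h1 : (⟨s, hs⟩ : S) * y₀ * (⟨s, hs⟩ : S)⁻¹ ∈ Subgroup.upperCentralSeries ↥S 2 :=
      hnorm.conj_mem y₀ hy₀ ⟨s, hs⟩
    exact (hZ₂mem0 _).mpr ⟨(⟨s, hs⟩ : S) * y₀ * (⟨s, hs⟩ : S)⁻¹, h1, rfl⟩
  have hZcmem : ∀ y : Ω, y ∈ (Subgroup.center ↥S).map S.subtype ↔
      y ∈ S ∧ ∀ t ∈ S, t * y = y * t := by
    intro y
    constructor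
    · rintro ⟨s, hs, rfl⟩
      refine ⟨s.2, fun t ht => ?_⟩
      have := Subgroup.mem_center_iff.mp hs ⟨t, ht⟩
      exact congrArg Subtype.val this
    · rintro ⟨hy, h⟩
      exact ⟨⟨y, hy⟩, Subgroup.mem_center_iff.mpr (fun t => Subtype.ext (h t t.2)), rfl⟩
  obtain ⟨C, hCdef⟩ : ∃ C : Subgroup Ω, C = S ⊓ Subgroup.centralizer (Z₂ : Set Ω) := ⟨_, rfl⟩
  rw [← hCdef]
  have hCS : C ≤ S := hCdef ▸ inf_le_left
  have hCmem : ∀ g : Ω, g ∈ C ↔ g ∈ S ∧ ∀ y ∈ Z₂, y * g = g * y := by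
    intro g
    rw [hCdef, Subgroup.mem_inf, Subgroup.mem_centralizer_iff]
    exact Iff.rfl
  have hCnorm : ∀ s ∈ S, ∀ c ∈ C, s * c * s⁻¹ ∈ C := by
    intro s hs c hc
    obtain ⟨hcS, hcc⟩ := (hCmem c).mp hc
    refine (hCmem _).mpr ⟨S.mul_mem (S.mul_mem hs hcS) (S.inv_mem hs), fun y hy => ?_⟩
    have h1 := hcc (s⁻¹ * y * s⁻¹⁻¹) (hZ₂norm s⁻¹ (S.inv_mem hs) y hy)
    calc y * (s * c * s⁻¹) = s * ((s⁻¹ * y * s⁻¹⁻¹) * c) * s⁻¹ := by group
      _ = s * (c * (s⁻¹ * y * s⁻¹⁻¹)) * s⁻¹ := by rw [h1]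
      _ = s * c * s⁻¹ * y := by group
  -- maximality of `C`
  have hZ' : Subgroup.upperCentralSeries ↥S (n - 2) ≠ ⊤ := by
    intro htop
    apply hmax
    rw [← Subgroup.top_subtype_lowerCentralSeries,
      Subgroup.lowerCentralSeries_eq_bot_iff_upperCentralSeries_eq_top.mpr htop, Subgroup.map_bot]
  obtain ⟨hcZ, hcZ2⟩ := card_center_of_maxClass hn h4 hZ'
  have hcentC : ∀ s : S, s ∈ Subgroup.centralizer (Subgroup.upperCentralSeries ↥S 2 : Set ↥S) ↔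
      (s : Ω) ∈ C := by
    intro s
    rw [Subgroup.mem_centralizer_iff, hCmem]
    constructor
    · intro h
      refine ⟨s.2, fun y hy => ?_⟩
      obtain ⟨y₀, hy₀, rfl⟩ := (hZ₂mem0 y).mp hy
      exact congrArg Subtype.val (h y₀ hy₀)
    · rintro ⟨-, h⟩ y₀ hy₀
      exact Subtype.ext (h y₀ ((hZ₂mem0 _).mpr ⟨y₀, hy₀, rfl⟩))
  have hmaxC : ∀ Q : Subgroup Ω, Q ≤ S → C < Q → Q = S := by
    intro Q hQS hCQ
    obtain ⟨q, hqQ, hqC⟩ := SetLike.exists_of_lt hCQ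
    have h1 := centralizer_Z2_maximal hcZ hcZ2 (Q.subgroupOf S)
      (fun s hs => Subgroup.mem_subgroupOf.mpr (hCQ.le ((hcentC s).mp hs)))
      ⟨⟨q, hQS hqQ⟩, Subgroup.mem_subgroupOf.mpr hqQ, fun h => hqC ((hcentC _).mp h)⟩
    apply le_antisymm hQS
    intro s hs
    have h2 : (⟨s, hs⟩ : S) ∈ Q.subgroupOf S := h1 ▸ Subgroup.mem_top _
    exact Subgroup.mem_subgroupOf.mp h2
  -- extension of `φ`
  have hfnZ := fullyNormalized_of_normal F hZ₂S hZ₂norm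
  have hrec := fullyCentralized_receptive hS F hF (fullyNormalized_props hS F hF hfnZ).1
  obtain ⟨ψ, hψ, hψφ⟩ := hrec.2 Z₂ φ hφ hφZ
  have hCN : C ≤ extender S Z₂ φ := hCdef ▸ centralizerIn_le_extender S Z₂ φ
  have hZN : Z₂ ≤ extender S Z₂ φ := le_extender F hφ
  have hψC : ∀ c : C, ψ (Subgroup.inclusion hCN c) ∈ C := by
    intro c
    refine (hCmem _).mpr ⟨(F.le_of_mem hψ).2 _, fun y hy => ?_⟩
    have hy' : y ∈ φ.range := by rw [hφZ]; exact hy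
    obtain ⟨y₀, rfl⟩ := hy'
    have e' : φ y₀ = ψ ⟨y₀, hZN y₀.2⟩ := (hψφ (y₀ : Ω) y₀.2 (hZN y₀.2)).symm
    rw [e', ← map_mul, ← map_mul]
    congr 1
    apply Subtype.ext
    exact ((hCmem c).mp c.2).2 y₀ y₀.2
  have hψ₀ := restrict_mem F hψ hCN
  have hα₀ : (ψ.comp (Subgroup.inclusion hCN)).codRestrict C hψC ∈ HomTo F C C :=
    codRestrict_mem F hψ₀ hψC
  have hfinC : Finite C := finite_of_le hCS
  have hbij := Finite.injective_iff_bijective.mp (homTo_injective F hα₀)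
  have hαF0 : MulEquiv.ofBijective _ hbij ∈ F.autGroup C := (mem_autGroup_iff F hCS).mpr hα₀
  obtain ⟨α, hαF, hαdef⟩ : ∃ α : MulAut C, α ∈ F.autGroup C ∧
      ∀ c : C, ((α c : C) : Ω) = ψ (Subgroup.inclusion hCN c) := ⟨_, hαF0, fun c => rfl⟩
  -- `C` is a proper subgroup
  obtain ⟨z, hz, hzc, hzφ⟩ := hmove
  have hlt : C < S := by
    refine lt_of_le_of_ne hCS (fun heq => hzφ ?_)
    have hw : φ ⟨z, hz⟩ ∈ φ.range := ⟨_, rfl⟩
    rw [hφZ] at hw
    refine (hZcmem _).mpr ⟨hZ₂S hw, fun t ht => ?_⟩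
    have htC : t ∈ C := heq ▸ ht
    exact (((hCmem t).mp htC).2 _ hw).symm
  have hfnC := fullyNormalized_of_normal F hCS hCnorm
  rcases Cfsg.Agent.S5081.result p hS F hF C hlt hfnC _ rfl with ⟨-, hH⟩ | ⟨hess, -⟩
  · exfalso
    have hle : Subgroup.closure {α : MulAut C | ∃ (Q : Subgroup Ω) (hPQ : C < Q) (φ : Q →* Ω),
        φ ∈ F.Hom Q ∧ ∀ x : C, φ (Subgroup.inclusion hPQ.le x) = α x} ≤
        memStab C ((Subgroup.center ↥S).map S.subtype) := by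
      rw [Subgroup.closure_le]
      rintro γ ⟨Q, hCQ, φ', hφ', hγ⟩
      have hQS : Q ≤ S := (F.le_of_mem hφ').1
      have hQeq : Q = S := hmaxC Q hQS hCQ
      subst hQeq
      have hinj := F.injective_of_mem hφ'
      have hval := (F.le_of_mem hφ').2
      have hsurj : ∀ t ∈ Q, ∃ t₀ : Q, φ' t₀ = t := by
        intro t ht
        have hb2 := Finite.injective_iff_bijective.mp
          (show Function.Injective (φ'.codRestrict Q hval) from fun a b hab =>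
            hinj (congrArg Subtype.val hab))
        obtain ⟨t₀, ht₀⟩ := hb2.2 ⟨t, ht⟩
        exact ⟨t₀, congrArg Subtype.val ht₀⟩
      intro c
      show (c : Ω) ∈ _ ↔ ((γ c : C) : Ω) ∈ _
      rw [← hγ c, hZcmem, hZcmem]
      constructor
      · rintro ⟨-, h⟩
        refine ⟨hval _, fun t ht => ?_⟩
        obtain ⟨t₀, rfl⟩ := hsurj t ht
        rw [← map_mul, ← map_mul]
        congr 1
        apply Subtype.ext
        exact h t₀ t₀.2
      · rintro ⟨-, h⟩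
        refine ⟨hCQ.le c.2, fun t ht => ?_⟩
        have h1 := h (φ' ⟨t, ht⟩) (hval _)
        rw [← map_mul, ← map_mul] at h1
        exact congrArg Subtype.val (hinj h1)
    have hαK := hle (hH ▸ hαF)
    have hzC : z ∈ C := (hCmem z).mpr ⟨hZ₂S hz, fun y hy => ((hZcmem z).mp hzc).2 y (hZ₂S hy)⟩
    have h1 := (hαK ⟨z, hzC⟩).mp hzc
    rw [hαdef] at h1
    have h2 : ψ (Subgroup.inclusion hCN ⟨z, hzC⟩) = φ ⟨z, hz⟩ := hψφ z hz _
    rw [h2] at h1
    exact hzφ h1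
  · exact hess

end Cfsg.Agent.S5270
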