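import Mathlib
import Cfsg.Statements.S5315
import Cfsg.Agent.S5084
import Cfsg.Agent.S5088
import Cfsg.Agent.S5134
import Cfsg.Agent.Lib.Helper26.FusHyp
import Cfsg.Agent.Lib.Helper26.FusNK2

set_option autoImplicit false
open Cfsg

namespace Cfsg.Agent.S5315

open Cfsg.FusionSystem Cfsg.Agent.Lib.Helper26

theorem central_fixed {Ω : Type*} [Group Ω] {S : Subgroup Ω} (F : FusionSystem S) {Q : Subgroup Ω}
    (hQ : F.IsCentral Q) {P : Subgroup Ω} {φ : P →* Ω} (hφ : φ ∈ F.Hom P) (x : P)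
    (hx : (x : Ω) ∈ Q) : φ x = x := by
  obtain ⟨ψ, -, h1, h2⟩ := hQ.2 P φ hφ
  have e : Subgroup.inclusion (le_sup_left : P ≤ P ⊔ Q) x =
      Subgroup.inclusion (le_sup_right : Q ≤ P ⊔ Q) ⟨x, hx⟩ := Subtype.ext rfl
  rw [← h1 x, e, h2]

theorem hom_pResidual_one {A B : Type*} [Group A] [Group B] {p : ℕ} [Fact p.Prime]
    (hB : IsPGroup p B) (f : A →* B) {a : A} (ha : a ∈ pResidual p A) : f a = 1 := by
  have hle : pResidual p A ≤ f.ker := by
    show Subgroup.closure _ ≤ _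
    rw [Subgroup.closure_le]
    intro g hg
    have hg' : Nat.Coprime (orderOf g) p := hg
    rw [SetLike.mem_coe, MonoidHom.mem_ker]
    obtain ⟨k, hk⟩ := hB (f g)
    have h1 : orderOf (f g) ∣ orderOf g := orderOf_map_dvd f g
    have h2 : orderOf (f g) ∣ p ^ k := orderOf_dvd_of_pow_eq_one hk
    have h3 : Nat.Coprime (orderOf (f g)) (p ^ k) :=
      Nat.Coprime.pow_right k (Nat.Coprime.coprime_dvd_left h1 hg')
    have h4 : orderOf (f g) = 1 := Nat.Coprime.eq_one_of_dvd h3 h2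
    exact orderOf_eq_one_iff.mp h4
  exact hle ha

/-- An analogue of Grün's lemma for fusion systems. Let F be a saturated fusion system over a finite p-group S that is perfect in the sense that its hyperfocal subgroup is all of S (F coincides with its p-residual subsystem). Then the second centre of F equals its centre: every fusion system over S/(Z(F) ∩ S) that is the factor system of F modulo its centre Z(F), read through the quotient map, has trivial centre. -/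
theorem result {Ω : Type*} [Group Ω] {S : Subgroup Ω} [Finite S] (p : ℕ) [Fact p.Prime] (hS : IsPGroup p S) (F : Cfsg.FusionSystem S) (hF : F.IsSaturated p)
    (hperf : F.hyperfocalSubgroup p = S)
    (E : Cfsg.FusionSystem (⊤ : Subgroup (↥S ⧸ (F.center).subgroupOf S)))
    (hE : F.IsFactorSystem F.center (QuotientGroup.mk' ((F.center).subgroupOf S)) E) : E.center = ⊥ := by
  have hZc : F.IsCentral F.center := isCentral_center F
  have hZS : F.center ≤ S := hZc.1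
  have hθsurj : Function.Surjective (QuotientGroup.mk' ((F.center).subgroupOf S)) :=
    QuotientGroup.mk'_surjective _
  obtain ⟨θ, hθdef⟩ : ∃ θ : ↥S →* (↥S ⧸ (F.center).subgroupOf S),
      θ = QuotientGroup.mk' ((F.center).subgroupOf S) := ⟨_, rfl⟩
  rw [← hθdef] at hE hθsurj
  have hθker : ∀ s : S, θ s = 1 ↔ (s : Ω) ∈ F.center := hE.2.1
  have hZsc : F.StronglyClosed F.center := by
    refine ⟨hZS, fun R hR φ hφ x => ?_⟩
    rw [central_fixed F hZc hφ x (hR x.2)]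
    exact hR x.2
  have hmor : F.IsMorphism E θ := (Cfsg.Agent.S5134.result p hS F hF _ hZsc θ E hE).1
  have hEc : E.IsCentral E.center := isCentral_center E
  obtain ⟨Z₂, hZ₂def⟩ : ∃ Z₂ : Subgroup Ω, Z₂ = preimageAlong θ E.center := ⟨_, rfl⟩
  have hmemZ₂ : ∀ y : Ω, y ∈ Z₂ ↔ ∃ hy : y ∈ S, θ ⟨y, hy⟩ ∈ E.center := by
    intro y
    rw [hZ₂def]
    exact mem_preimageAlong_iff θ _
  have hZ₂S : Z₂ ≤ S := fun y hy => ((hmemZ₂ y).mp hy).1
  have hZZ₂ : F.center ≤ Z₂ := by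
    intro z hz
    rw [hmemZ₂]
    refine ⟨hZS hz, ?_⟩
    rw [(hθker ⟨z, hZS hz⟩).mpr hz]
    exact Subgroup.one_mem _
  -- maps of `F` move elements of `Z₂` by elements of the centre
  have hb : ∀ (P : Subgroup Ω) (φ : P →* Ω), φ ∈ F.Hom P → ∀ x : P, (x : Ω) ∈ Z₂ →
      (x : Ω)⁻¹ * φ x ∈ F.center := by
    intro P φ hφ x hx
    obtain ⟨φ', hφ', hP, hφS, hP', hind⟩ := hmor.2 P φ hφ
    obtain ⟨hxS, hxc⟩ := (hmemZ₂ _).mp hx
    have h1 := central_fixed E hEc hφ' ⟨θ ⟨x, hP x.2⟩, hP' x⟩ hxc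
    rw [hind x] at h1
    exact mem_of_theta_eq θ hθker (a := ⟨x, hP x.2⟩) (b := ⟨φ x, hφS x⟩) h1.symm
  have hZ₂sc : F.StronglyClosed Z₂ := by
    refine ⟨hZ₂S, fun R hR φ hφ x => ?_⟩
    have h1 := hb R φ hφ x (hR x.2)
    have e : φ x = (x : Ω) * ((x : Ω)⁻¹ * φ x) := by group
    rw [e]
    exact Z₂.mul_mem (hR x.2) (hZZ₂ h1)
  have hZcomm : ∀ z ∈ F.center, ∀ s ∈ S, s * z * s⁻¹ = z := by
    intro z hz s hs
    exact central_fixed F hZc (F.conj_mem hZS hs) (⟨z, hz⟩ : F.center) hz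
  have hcomm₂ : ∀ a ∈ Z₂, ∀ s ∈ S, a⁻¹ * (s * a * s⁻¹) ∈ F.center := by
    intro a ha s hs
    exact hb Z₂ (conjHom Z₂ s) (F.conj_mem hZ₂S hs) ⟨a, ha⟩ ha
  -- `Z₂` is normal in `F`
  have hZ₂n : F.IsNormal Z₂ := by
    apply (Cfsg.Agent.S5088.result p hS F hF Z₂).mpr
    obtain ⟨Qs', hQs'⟩ : ∃ Qs' : ℕ → Subgroup Ω,
        Qs' = fun k => if k = 0 then ⊥ else if k = 1 then F.center else Z₂ := ⟨_, rfl⟩
    have q0 : Qs' 0 = ⊥ := by rw [hQs']; simp
    have q1 : Qs' 1 = F.center := by rw [hQs']; simp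
    have q2 : ∀ k, 2 ≤ k → Qs' k = Z₂ := by
      intro k hk
      rw [hQs']
      have h0 : k ≠ 0 := by omega
      have h1 : k ≠ 1 := by omega
      simp [h0, h1]
    have hmono : Monotone Qs' := by
      apply monotone_nat_of_le_succ
      intro n
      rcases Nat.lt_or_ge n 2 with h | h
      · interval_cases n
        · rw [q0]
          exact bot_le
        · rw [q1, q2 2 le_rfl]
          exact hZZ₂
      · rw [q2 n h, q2 (n + 1) (by omega)]
    refine ⟨2, fun i => Qs' i.val, q0, q2 2 le_rfl, ?_, ?_⟩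
    · intro i j hij
      exact hmono (Fin.le_def.mp hij)
    · intro i
      fin_cases i
      · show F.StronglyClosed (Qs' 1) ∧ ⁅Z₂, Qs' 1⁆ ≤ Qs' 0
        rw [q1, q0]
        refine ⟨hZsc, ?_⟩
        rw [Subgroup.commutator_le]
        intro a ha b hb'
        rw [Subgroup.mem_bot, commutatorElement_def, hZcomm b hb' a (hZ₂S ha)]
        group
      · show F.StronglyClosed (Qs' 2) ∧ ⁅Z₂, Qs' 2⁆ ≤ Qs' 1
        rw [q2 2 le_rfl, q1]
        refine ⟨hZ₂sc, ?_⟩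
        rw [Subgroup.commutator_le]
        intro a ha b hb'
        rw [commutatorElement_def]
        have h1 := hcomm₂ b hb' a (hZ₂S ha)
        have h2 := hZcomm _ h1 b (hZ₂S hb')
        have e : a * b * a⁻¹ * b⁻¹ = b * (b⁻¹ * (a * b * a⁻¹)) * b⁻¹ := by group
        rw [e, h2]
        exact h1
  -- `Z₂` is central in `S`
  have ha : ∀ x ∈ Z₂, ∀ s ∈ S, s * x * s⁻¹ = x := by
    intro x hx
    have hlaminv : ∀ (P : Subgroup Ω) (φ : P →* Ω), φ ∈ F.Hom P → ∀ s : P,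
        φ s * x * (φ s)⁻¹ = (s : Ω) * x * (s : Ω)⁻¹ := by
      intro P φ hφ s
      have hPS : P ≤ S := (F.le_of_mem hφ).1
      obtain ⟨ψ, hψ, hψP, hψZ⟩ := hZ₂n.2 P φ hφ
      have hx' : x ∈ (Z₂.subgroupOf (P ⊔ Z₂)).map ψ := by rw [hψZ]; exact hx
      obtain ⟨x', hx'Z, hx'x⟩ := hx'
      have hx'Z : (x' : Ω) ∈ Z₂ := Subgroup.mem_subgroupOf.mp hx'Z
      have hz := hb _ ψ hψ x' hx'Z
      rw [hx'x] at hz
      obtain ⟨s', hs'⟩ : ∃ s' : ↥(P ⊔ Z₂), s' = Subgroup.inclusion le_sup_left s := ⟨_, rfl⟩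
      have hs'v : (s' : Ω) = (s : Ω) := by rw [hs']; rfl
      have hw : ((x'⁻¹ * (s' * x' * s'⁻¹) : ↥(P ⊔ Z₂)) : Ω) ∈ F.center := by
        have := hcomm₂ (x' : Ω) hx'Z (s : Ω) (hPS s.2)
        rw [← hs'v] at this
        exact this
      have h1 := central_fixed F hZc hψ (x'⁻¹ * (s' * x' * s'⁻¹)) hw
      rw [map_mul, map_inv, map_mul, map_mul, map_inv, hx'x, hs', hψP s] at h1
      -- h1 : x⁻¹ * (φ s * x * (φ s)⁻¹) = x'⁻¹ * (s * x' * s⁻¹)
      obtain ⟨z, hzdef⟩ : ∃ z : Ω, z = (x' : Ω)⁻¹ * x := ⟨_, rfl⟩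
      rw [← hzdef] at hz
      have hx'eq : (x' : Ω) = x * z⁻¹ := by rw [hzdef]; group
      have hzs : (s : Ω) * z * (s : Ω)⁻¹ = z := hZcomm z hz _ (hPS s.2)
      have hgS : x⁻¹ * ((s : Ω) * x * (s : Ω)⁻¹) ∈ S :=
        S.mul_mem (S.inv_mem (hZ₂S hx))
          (S.mul_mem (S.mul_mem (hPS s.2) (hZ₂S hx)) (S.inv_mem (hPS s.2)))
      have hgz := hZcomm z hz _ hgS
      have h2 : ((x'⁻¹ * (Subgroup.inclusion le_sup_left s * x' *
          (Subgroup.inclusion le_sup_left s)⁻¹) : ↥(P ⊔ Z₂)) : Ω) =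
          x⁻¹ * ((s : Ω) * x * (s : Ω)⁻¹) := by
        show (x' : Ω)⁻¹ * ((s : Ω) * (x' : Ω) * (s : Ω)⁻¹) = _
        rw [hx'eq]
        have e1 : (x * z⁻¹)⁻¹ * ((s : Ω) * (x * z⁻¹) * (s : Ω)⁻¹) =
            z * (x⁻¹ * ((s : Ω) * x * (s : Ω)⁻¹)) * ((s : Ω) * z * (s : Ω)⁻¹)⁻¹ := by group
        rw [e1, hzs]
        calc z * (x⁻¹ * ((s : Ω) * x * (s : Ω)⁻¹)) * z⁻¹
            = (x⁻¹ * ((s : Ω) * x * (s : Ω)⁻¹) * z * (x⁻¹ * ((s : Ω) * x * (s : Ω)⁻¹))⁻¹) *
                (x⁻¹ * ((s : Ω) * x * (s : Ω)⁻¹)) * z⁻¹ := by rw [hgz]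
          _ = x⁻¹ * ((s : Ω) * x * (s : Ω)⁻¹) := by group
      rw [h2] at h1
      exact mul_left_cancel h1
    have hle : F.hyperfocalSubgroup p ≤ Subgroup.centralizer ({x} : Set Ω) := by
      show Subgroup.closure _ ≤ _
      rw [Subgroup.closure_le]
      rintro y ⟨P, β, u, hP, -, rfl⟩
      have h1 := hlaminv P _ (autGroup_hom_mem F hP β.2) u
      have h1' : (((β : MulAut P) u : P) : Ω) * x * (((β : MulAut P) u : P) : Ω)⁻¹ =
          (u : Ω) * x * (u : Ω)⁻¹ := h1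
      rw [SetLike.mem_coe, Subgroup.mem_centralizer_iff]
      intro h hh
      rw [Set.mem_singleton_iff] at hh
      subst hh
      calc h * ((u : Ω)⁻¹ * (((β : MulAut P) u : P) : Ω))
          = (u : Ω)⁻¹ * ((u : Ω) * h * (u : Ω)⁻¹) * (((β : MulAut P) u : P) : Ω) := by group
        _ = (u : Ω)⁻¹ * ((((β : MulAut P) u : P) : Ω) * h * (((β : MulAut P) u : P) : Ω)⁻¹) *
              (((β : MulAut P) u : P) : Ω) := by rw [h1']
        _ = (u : Ω)⁻¹ * (((β : MulAut P) u : P) : Ω) * h := by group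
    intro s hs
    have hsS : s ∈ F.hyperfocalSubgroup p := by rw [hperf]; exact hs
    have h1 := Subgroup.mem_centralizer_iff.mp (hle hsS) x (Set.mem_singleton x)
    rw [← h1]
    group
  -- every map of `F` fixes the elements of `Z₂`
  have hall : ∀ (P : Subgroup Ω) (φ : P →* Ω), φ ∈ F.Hom P →
      ∀ u : P, (u : Ω) ∈ Z₂ → φ u = u := by
    apply alperin_induction hS F hF (fun P φ => ∀ u : P, (u : Ω) ∈ Z₂ → φ u = u)
    · intro P g hP hg u hu
      exact ha u hu g hg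
    · intro P Q φ ψ hφ hψ hCφ hCψ h u hu
      have h1 := hCφ u hu
      have h2 := hCψ ⟨φ u, h u⟩ (by show φ u ∈ Z₂; rw [h1]; exact hu)
      show ψ ⟨φ u, h u⟩ = u
      rw [h2]
      exact h1
    · intro P φ hφ hCφ ψ hψ hinv u hu
      obtain ⟨x₀, hx₀⟩ := u.2
      have e : u = ⟨φ x₀, ⟨x₀, rfl⟩⟩ := Subtype.ext hx₀.symm
      have h1 := hinv x₀
      rw [← e] at h1
      have h2 := hb _ ψ hψ u hu
      have h3 : (x₀ : Ω) ∈ Z₂ := by
        rw [← h1]
        have e2 : ψ u = (u : Ω) * ((u : Ω)⁻¹ * ψ u) := by group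
        rw [e2]
        exact Z₂.mul_mem hu (hZZ₂ h2)
      rw [h1, ← hx₀]
      exact (hCφ x₀ h3).symm
    · intro R hR α hα u hu
      have hRS : R ≤ S := by
        rcases hR with h | h
        · exact h.le
        · exact h.1.1
      have hfa := fullyAutomized_of_alperin hS F hF hR
      obtain ⟨β, t, s, hβ, hs, hts, hαβ⟩ := autGroup_decomp F hfa α hα
      have htu : t u = u := Subtype.ext ((hts u).trans (ha u hu s hs))
      show ((α u : R) : Ω) = u
      rw [hαβ u, htu]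
      -- the homomorphism `γ ↦ u⁻¹ γ(u)`
      have hwZ : ∀ γ : F.autGroup R, (u : Ω)⁻¹ * (((γ : MulAut R) u : R) : Ω) ∈ F.center :=
        fun γ => hb R _ (autGroup_hom_mem F hRS γ.2) u hu
      have hwS : ∀ γ : F.autGroup R, (u : Ω)⁻¹ * (((γ : MulAut R) u : R) : Ω) ∈ S :=
        fun γ => hZS (hwZ γ)
      have hmul : ∀ γ₁ γ₂ : F.autGroup R,
          (u : Ω)⁻¹ * ((((γ₁ * γ₂ : F.autGroup R) : MulAut R) u : R) : Ω) =
            ((u : Ω)⁻¹ * (((γ₁ : MulAut R) u : R) : Ω)) *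
              ((u : Ω)⁻¹ * (((γ₂ : MulAut R) u : R) : Ω)) := by
        intro γ₁ γ₂
        have h1 := central_fixed F hZc (autGroup_hom_mem F hRS γ₁.2)
          (u⁻¹ * (γ₂ : MulAut R) u) (hwZ γ₂)
        have h1' : (((γ₁ : MulAut R) (u⁻¹ * (γ₂ : MulAut R) u) : R) : Ω) =
            (u : Ω)⁻¹ * (((γ₂ : MulAut R) u : R) : Ω) := h1
        have h2 : (((γ₁ * γ₂ : F.autGroup R) : MulAut R) u) =
            (γ₁ : MulAut R) u * (γ₁ : MulAut R) (u⁻¹ * (γ₂ : MulAut R) u) := by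
          rw [← map_mul]
          show (γ₁ : MulAut R) ((γ₂ : MulAut R) u) = _
          congr 1
          group
        rw [h2, Subgroup.coe_mul, h1']
        group
      obtain ⟨Lam, hLam⟩ : ∃ Lam : ↥(F.autGroup R) →* ↥S, ∀ γ : F.autGroup R,
          ((Lam γ : S) : Ω) = (u : Ω)⁻¹ * (((γ : MulAut R) u : R) : Ω) := by
        refine ⟨{ toFun := fun γ => ⟨(u : Ω)⁻¹ * (((γ : MulAut R) u : R) : Ω), hwS γ⟩
                  map_one' := ?_
                  map_mul' := ?_ }, fun γ => rfl⟩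
        · apply Subtype.ext
          show (u : Ω)⁻¹ * ((((1 : F.autGroup R) : MulAut R) u : R) : Ω) = 1
          simp
        · intro γ₁ γ₂
          apply Subtype.ext
          exact hmul γ₁ γ₂
      have h1 := hom_pResidual_one hS Lam hβ
      have h2 := hLam β
      rw [h1] at h2
      have h3 : (1 : Ω) = (u : Ω)⁻¹ * (((β : MulAut R) u : R) : Ω) := h2
      have h4 : (((β : MulAut R) u : R) : Ω) = (u : Ω) := by
        have := congrArg (fun w => (u : Ω) * w) h3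
        simp only [mul_one, mul_inv_cancel_left] at this
        exact this.symm
      exact h4
  have hZ₂c : F.IsCentral Z₂ := by
    apply (Cfsg.Agent.S5084.result p hS F hF Z₂).mpr
    refine ⟨hZ₂S, fun x hx y hxy => ?_⟩
    obtain ⟨φ, hφ, hφx⟩ := hxy
    rw [← hφx]
    exact hall _ φ hφ ⟨x, Subgroup.mem_zpowers x⟩ hx
  have hZ₂Z : Z₂ ≤ F.center := le_sSup hZ₂c
  rw [eq_bot_iff]
  intro xbar hxbar
  obtain ⟨s, rfl⟩ := hθsurj xbar
  rw [Subgroup.mem_bot]
  apply (hθker s).mpr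
  apply hZ₂Z
  rw [hmemZ₂]
  exact ⟨s.2, hxbar⟩

end Cfsg.Agent.S5315
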