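import Cfsg.Statements.S5343
import Mathlib
import Cfsg.Agent.Lib.Helper27.RealNormal

set_option autoImplicit false
universe u
open Cfsg

namespace Cfsg.Agent.S5343

open Cfsg.FusionSystem Cfsg.Agent.Lib.Helper26 Cfsg.Agent.Lib.Helper27.RealNormal

/-- Let F be a simple saturated fusion system over a finite p-group S that is realized by some finite group on a Sylow p-subgroup. Then F is realized by a finite simple group on a Sylow p-subgroup. -/
theorem result {Ω : Type u} [Group Ω] {S : Subgroup Ω} [Finite S] (p : ℕ) [Fact p.Prime] (hS : IsPGroup p S) (F : Cfsg.FusionSystem S) (hsimple : F.IsSimple p) (hreal : F.IsRealizable p) : ∃ (G : Type u) (_ : Group G) (_ : Finite G) (_ : IsSimpleGroup G) (ι : ↥S →* G), F.IsRealizedBy ι ∧ ∃ T : Sylow p G, (T : Subgroup G) = ι.range := by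
  classical
  obtain ⟨hFsat, hSne, hsimp⟩ := hsimple
  have hex : ∃ n : ℕ, ∃ (G : Type u) (_ : Group G) (_ : Finite G) (ι : ↥S →* G),
      Nat.card G = n ∧ F.IsRealizedBy ι ∧ ∃ T : Sylow p G, (T : Subgroup G) = ι.range := by
    obtain ⟨G, hG, hfin, ι, h1, h2⟩ := hreal
    exact ⟨Nat.card G, G, hG, hfin, ι, rfl, h1, h2⟩
  obtain ⟨G, hG, hfin, ι, hcard, hreal', S₀, hS₀⟩ := Nat.find_spec hex
  have hmin : ∀ (G' : Type u) [Group G'] [Finite G'] (ι' : ↥S →* G'), F.IsRealizedBy ι' →
      (∃ T : Sylow p G', (T : Subgroup G') = ι'.range) → Nat.card G ≤ Nat.card G' := by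
    intro G' _ _ ι' h1 h2
    rw [hcard]
    exact Nat.find_min' hex ⟨G', inferInstance, inferInstance, ι', rfl, h1, h2⟩
  have hinj := hreal'.1
  refine ⟨G, hG, hfin, ?_, ι, hreal', S₀, hS₀⟩
  refine { exists_pair_ne := ?_, eq_bot_or_eq_top_of_normal := ?_ }
  · obtain ⟨s, hs, hs1⟩ : ∃ s ∈ S, s ≠ 1 := by
      by_contra hcon
      push Not at hcon
      exact hSne ((Subgroup.eq_bot_iff_forall S).2 hcon)
    refine ⟨ι ⟨s, hs⟩, 1, fun h => hs1 ?_⟩
    have h1 : ι ⟨s, hs⟩ = ι 1 := by rw [h, map_one]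
    exact congrArg (fun z : S => (z : Ω)) (hinj h1)
  · intro N hN
    haveI := hN
    by_contra hcon
    push Not at hcon
    obtain ⟨hNbot, hNtop⟩ := hcon
    have hnorm := subSys_isNormalIn F hFsat ι hreal' S₀ hS₀ N
    rcases hsimp _ _ hnorm with hT | ⟨hT, hE⟩
    · have hNS : ι.range ⊓ N = ⊥ := by
        rw [eq_bot_iff]
        rintro y ⟨⟨s, rfl⟩, hyN⟩
        have h1 : (s : Ω) ∈ preimageAlong ι N := (mem_preimageAlong_iff ι N).mpr ⟨s.2, hyN⟩
        rw [hT, Subgroup.mem_bot] at h1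
        have h2 : s = 1 := Subtype.ext h1
        rw [h2, map_one]
        exact Subgroup.one_mem _
      obtain ⟨hq1, hq2⟩ := quot_realized F ι hreal' S₀ hS₀ N hNS
      have h1 := hmin (G ⧸ N) _ hq1 hq2
      have h2 : Nat.card N * N.index = Nat.card G := Subgroup.card_mul_index N
      have h3 : Nat.card (G ⧸ N) = N.index := rfl
      have h4 : 1 < Nat.card N := N.one_lt_card_iff_ne_bot.mpr hNbot
      have h5 : 0 < N.index := Nat.pos_of_ne_zero Subgroup.index_ne_zero_of_finite
      rw [h3, ← h2] at h1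
      nlinarith
    · have hrange : ι.range ≤ N := by
        rintro _ ⟨s, rfl⟩
        have h1 : (s : Ω) ∈ preimageAlong ι N := by
          rw [hT]
          exact s.2
        obtain ⟨_, h⟩ := (mem_preimageAlong_iff ι N).mp h1
        exact h
      have hrealN : F.IsRealizedBy (ι.codRestrict N (fun s => hrange ⟨s, rfl⟩)) := by
        refine ⟨fun a b hab => hinj (congrArg Subtype.val hab), fun P hP φ hφ => ?_⟩
        constructor
        · intro h
          rw [← hE P] at h
          obtain ⟨-, -, -, n, hn, hnφ⟩ := h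
          exact ⟨⟨n, hn⟩, fun x => Subtype.ext (hnφ x (hP x.2) (hφ x))⟩
        · rintro ⟨g, hg⟩
          exact (hreal'.2 P hP φ hφ).mpr ⟨g, fun x => congrArg Subtype.val (hg x)⟩
      have hTN : (S₀ : Subgroup G) ≤ N := hS₀ ▸ hrange
      have hsylN : ((S₀.subtype hTN : Sylow p ↥N) : Subgroup ↥N) =
          (ι.codRestrict N (fun s => hrange ⟨s, rfl⟩)).range := by
        rw [Sylow.coe_subtype]
        ext y
        rw [Subgroup.mem_subgroupOf, hS₀]
        constructor
        · rintro ⟨s, hs⟩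
          exact ⟨s, Subtype.ext hs⟩
        · rintro ⟨s, hs⟩
          exact ⟨s, congrArg Subtype.val hs⟩
      have h1 := hmin N _ hrealN ⟨_, hsylN⟩
      exact hNtop (Subgroup.eq_top_of_le_card N h1)

end Cfsg.Agent.S5343
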