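import Cfsg.Statements.S5561
import Mathlib
import Cfsg.Agent.S1187
import Cfsg.Agent.S1253
import Cfsg.Agent.Lib.Helper9.Cores

set_option autoImplicit false
open Cfsg

namespace Cfsg.Agent.S5561

theorem mem_conj_iff {G : Type*} [Group G] {a d : G} :
    a ∈ conjugatesOf d ↔ ∃ g : G, g * d * g⁻¹ = a :=
  (show a ∈ conjugatesOf d ↔ IsConj d a from Iff.rfl).trans isConj_iff

theorem key {G : Type*} [Group G] [Finite G] (d : G) (hd : orderOf d = 2)
    (hprod : ∀ a ∈ conjugatesOf d, ∀ b ∈ conjugatesOf d, ∃ k : ℕ, orderOf (a * b) = 3 ^ k) :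
    ∃ P : Sylow 3 G, ∀ a ∈ conjugatesOf d, d * a ∈ P := by
  classical
  have hdd : d * d = 1 := by
    have h2 : d ^ 2 = 1 := by rw [← hd]; exact pow_orderOf_eq_one d
    rwa [pow_two] at h2
  have hdinv : d⁻¹ = d := inv_eq_of_mul_eq_one_left hdd
  have hdc : d ∈ conjugatesOf d := mem_conjugatesOf_self
  have hconj : ∀ g : G, g * d * g⁻¹ ∈ conjugatesOf d := fun g =>
    mem_conj_iff.mpr ⟨g, rfl⟩
  have hinvol : ∀ a ∈ conjugatesOf d, a * a = 1 := by
    intro a ha
    obtain ⟨g, rfl⟩ := mem_conj_iff.mp ha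
    calc g * d * g⁻¹ * (g * d * g⁻¹) = g * (d * d) * g⁻¹ := by group
      _ = 1 := by rw [hdd]; group
  have htrivq : ∀ (q : ℕ), q.Prime → q ≠ 3 → ∀ a ∈ conjugatesOf d, ∀ b ∈ conjugatesOf d,
      ∀ j : ℕ, (a * b) ^ (q ^ j) = 1 → a * b = 1 := by
    intro q hqp hq3 a ha b hb j hj
    obtain ⟨k, hk⟩ := hprod a ha b hb
    have h1 : orderOf (a * b) ∣ q ^ j := orderOf_dvd_of_pow_eq_one hj
    have h2 : Nat.Coprime (3 ^ k) (q ^ j) :=
      Nat.Coprime.pow _ _ ((Nat.coprime_primes Nat.prime_three hqp).mpr (Ne.symm hq3))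
    have h3 : orderOf (a * b) = 1 := by
      rw [hk] at h1 ⊢
      exact Nat.Coprime.eq_one_of_dvd h2 h1
    exact orderOf_eq_one_iff.mp h3
  have hiso : IsIsolatedInvolution d := by
    refine ⟨hd, fun g hc => ?_⟩
    have ha := hconj g
    have h1 : (d * (g * d * g⁻¹)) ^ (2 ^ 1) = 1 := by
      rw [pow_one, pow_two]
      calc d * (g * d * g⁻¹) * (d * (g * d * g⁻¹))
          = d * ((g * d * g⁻¹) * d) * (g * d * g⁻¹) := by group
        _ = d * (d * (g * d * g⁻¹)) * (g * d * g⁻¹) := by rw [← hc.eq]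
        _ = (d * d) * ((g * d * g⁻¹) * (g * d * g⁻¹)) := by group
        _ = 1 := by rw [hdd, hinvol _ ha, one_mul]
    have h2 := htrivq 2 Nat.prime_two (by norm_num) d hdc _ ha 1 h1
    have h3 : g * d * g⁻¹ = d⁻¹ := (inv_eq_of_mul_eq_one_right h2).symm
    rw [h3, hdinv]
  have hinvd : ∀ x : G, d * x * d⁻¹ = x⁻¹ → Odd (orderOf x) → d * x ∈ conjugatesOf d := by
    intro x hx hodd
    obtain ⟨j, hj⟩ := hodd
    obtain ⟨y, hy⟩ : ∃ y, y = x ^ (j + 1) := ⟨_, rfl⟩
    have hyy : y * y = x := by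
      rw [hy, ← pow_add]
      have : j + 1 + (j + 1) = orderOf x + 1 := by omega
      rw [this, pow_succ, pow_orderOf_eq_one, one_mul]
    have hdy : d * y * d⁻¹ = y⁻¹ := by
      rw [hy, ← inv_pow, ← hx, conj_pow]
    have h1 : d * y = y⁻¹ * d := by rw [← hdy]; group
    have h2 : d * x = y⁻¹ * d * (y⁻¹)⁻¹ := by
      rw [inv_inv, ← hyy, ← h1]; group
    rw [h2]; exact hconj _
  have hinv3 : ∀ x : G, d * x * d⁻¹ = x⁻¹ → Odd (orderOf x) → ∃ k, orderOf x = 3 ^ k := by
    intro x hx hodd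
    have := hprod d hdc (d * x) (hinvd x hx hodd)
    rwa [← mul_assoc, hdd, one_mul] at this
  have hsyl : ∀ (q : ℕ) [Fact q.Prime], ∃ Q : Sylow q G,
      d ∈ Subgroup.normalizer ((Q : Subgroup G) : Set G) := by
    intro q _
    have hne : Nonempty {Q : Subgroup G // IsPGroup q Q ∧ d ∈ Subgroup.normalizer (Q : Set G)} :=
      ⟨⟨⊥, IsPGroup.of_bot, by
        rw [Subgroup.mem_normalizer_iff]
        intro h
        simp⟩⟩
    obtain ⟨Q, hQ⟩ := Finite.exists_max
      (fun Q : {Q : Subgroup G // IsPGroup q Q ∧ d ∈ Subgroup.normalizer (Q : Set G)} =>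
        Nat.card (Q.1 : Subgroup G))
    obtain ⟨P, hP⟩ := Cfsg.Agent.S1187.result d hiso Q.1 Q.2.1 Q.2.2 (fun R hR hdR hQR => by
      have h1 := hQ ⟨R, hR, hdR⟩
      exact (Subgroup.eq_of_le_of_card_ge hQR h1).symm)
    exact ⟨P, by rw [hP]; exact Q.2.2⟩
  obtain ⟨C, hC⟩ : ∃ C : Subgroup G, C = Subgroup.centralizer ({d} : Set G) := ⟨_, rfl⟩
  have hq : ∀ q : ℕ, q.Prime → q ≠ 3 → ¬ q ∣ C.index := by
    intro q hqp hq3 hdvd
    have : Fact q.Prime := ⟨hqp⟩
    have hQC : ∃ Q : Sylow q G, (Q : Subgroup G) ≤ C := by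
      by_cases h2 : q = 2
      · subst h2
        obtain ⟨T, hT⟩ := IsPGroup.exists_le_sylow (p := 2) (P := Subgroup.zpowers d)
          (IsPGroup.of_card (n := 1) (by rw [Nat.card_zpowers, hd]; norm_num))
        refine ⟨T, fun x hx => ?_⟩
        have hdT : d ∈ T := hT (Subgroup.mem_zpowers d)
        have h1 : d * (x * d * x⁻¹) ∈ T :=
          T.mul_mem hdT (T.mul_mem (T.mul_mem hx hdT) (T.inv_mem hx))
        obtain ⟨j, hj⟩ := T.2 ⟨_, h1⟩
        have hj' : (d * (x * d * x⁻¹)) ^ (2 ^ j) = 1 := by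
          have := congrArg Subtype.val hj
          simpa using this
        have h2 := htrivq 2 Nat.prime_two (by norm_num) d hdc _ (hconj x) j hj'
        have h3 : x * d * x⁻¹ = d := by
          have := (inv_eq_of_mul_eq_one_right h2).symm
          rw [this, hdinv]
        rw [hC, Subgroup.mem_centralizer_iff]
        intro h hh
        rw [Set.mem_singleton_iff] at hh
        rw [hh]
        exact (mul_inv_eq_iff_eq_mul.mp h3).symm
      · obtain ⟨Q, hdQ⟩ := hsyl q
        refine ⟨Q, ?_⟩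
        obtain ⟨-, h2'⟩ := Cfsg.Agent.S1253.result d hiso h2 Q hdQ
        have hone : Nat.card {x : G // x ∈ Q ∧ d * x * d⁻¹ = x⁻¹} = 1 := by
          have key : ∀ x : {x : G // x ∈ Q ∧ d * x * d⁻¹ = x⁻¹}, (x : G) = 1 := by
            rintro ⟨x, hxQ, hx⟩
            obtain ⟨j, hj⟩ := Q.2 ⟨x, hxQ⟩
            have hj' : x ^ (q ^ j) = 1 := by
              have := congrArg Subtype.val hj
              simpa using this
            have hord : orderOf x ∣ q ^ j := orderOf_dvd_of_pow_eq_one hj'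
            have hodd : Odd (orderOf x) :=
              Odd.of_dvd_nat ((hqp.odd_of_ne_two h2).pow) hord
            obtain ⟨k, hk⟩ := hinv3 x hx hodd
            have hcop : Nat.Coprime (3 ^ k) (q ^ j) :=
              Nat.Coprime.pow _ _ ((Nat.coprime_primes Nat.prime_three hqp).mpr (Ne.symm hq3))
            have : orderOf x = 1 := by
              rw [hk] at hord ⊢; exact Nat.Coprime.eq_one_of_dvd hcop hord
            exact orderOf_eq_one_iff.mp this
          rw [Nat.card_eq_one_iff_unique]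
          exact ⟨⟨fun a b => Subtype.ext ((key a).trans (key b).symm)⟩,
            ⟨⟨1, Q.one_mem, by simp⟩⟩⟩
        rw [hone, ← hC] at h2'
        exact (Subgroup.relIndex_eq_one.mp h2').trans inf_le_right
    obtain ⟨Q, hQC⟩ := hQC
    have h1 := Subgroup.relIndex_mul_index hQC
    have h2 : q ∣ (Q : Subgroup G).index := by rw [← h1]; exact Dvd.dvd.mul_left hdvd _
    exact Q.not_dvd_index h2
  have hidx : ∃ a, C.index = 3 ^ a :=
    ⟨_, Nat.eq_prime_pow_of_unique_prime_dvd Subgroup.index_ne_zero_of_finite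
      (fun {q} hqp hqd => by by_contra h; exact hq q hqp h hqd)⟩
  have : Fact (Nat.Prime 3) := ⟨Nat.prime_three⟩
  obtain ⟨P, hdP⟩ := hsyl 3
  obtain ⟨h3a, h3b⟩ := Cfsg.Agent.S1253.result d hiso (by norm_num) P hdP
  rw [← hC] at h3a h3b
  obtain ⟨a, ha⟩ := hidx
  have e1 := Subgroup.relIndex_mul_index (inf_le_left : (P : Subgroup G) ⊓ C ≤ P)
  have e2 := Subgroup.relIndex_mul_index (inf_le_right : (P : Subgroup G) ⊓ C ≤ C)
  obtain ⟨e, he⟩ := IsPGroup.iff_card.mp P.2
  have hr : ((P : Subgroup G) ⊓ C).relIndex P ∣ 3 ^ e := by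
    rw [← he]; exact Subgroup.relIndex_dvd_card _ _
  obtain ⟨b, -, hb⟩ := (Nat.dvd_prime_pow Nat.prime_three).mp hr
  have hPi : ¬ 3 ∣ (P : Subgroup G).index := P.not_dvd_index
  have hab : a = b := by
    have h1 : 3 ^ b * (P : Subgroup G).index = ((P : Subgroup G) ⊓ C).relIndex C * 3 ^ a := by
      rw [← hb, ← ha, e1, e2]
    have c1 : Nat.Coprime (3 ^ a) (P : Subgroup G).index :=
      Nat.Coprime.pow_left _ ((Nat.Prime.coprime_iff_not_dvd Nat.prime_three).mpr hPi)
    have c2 : Nat.Coprime (3 ^ b) (((P : Subgroup G) ⊓ C).relIndex C) :=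
      Nat.Coprime.pow_left _ ((Nat.Prime.coprime_iff_not_dvd Nat.prime_three).mpr h3a)
    have d1 : 3 ^ a ∣ 3 ^ b := c1.dvd_of_dvd_mul_right (by rw [h1]; exact dvd_mul_left _ _)
    have d2 : 3 ^ b ∣ 3 ^ a := c2.dvd_of_dvd_mul_left (by rw [← h1]; exact dvd_mul_right _ _)
    exact le_antisymm ((Nat.pow_dvd_pow_iff_le_right (by norm_num)).mp d1)
      ((Nat.pow_dvd_pow_iff_le_right (by norm_num)).mp d2)
  have hsub : {x : G | x ∈ P ∧ d * x * d⁻¹ = x⁻¹} ⊆ (fun a => d * a) '' conjugatesOf d := by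
    rintro x ⟨hxP, hx⟩
    have hodd : Odd (orderOf x) := by
      obtain ⟨j, hj⟩ := P.2 ⟨x, hxP⟩
      have hj' : x ^ (3 ^ j) = 1 := by
        have := congrArg Subtype.val hj
        simpa using this
      exact Odd.of_dvd_nat (Odd.pow (by decide)) (orderOf_dvd_of_pow_eq_one hj')
    exact ⟨d * x, hinvd x hx hodd, by show d * (d * x) = x; rw [← mul_assoc, hdd, one_mul]⟩
  have hcardKP : ({x : G | x ∈ P ∧ d * x * d⁻¹ = x⁻¹} : Set G).ncard = 3 ^ a := by
    rw [← Nat.card_coe_set_eq, hab, ← hb]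
    exact h3b.symm
  have hcardconj : (conjugatesOf d).ncard ≤ C.index := by
    rw [← Nat.card_coe_set_eq]
    show Nat.card (conjugatesOf d) ≤ Nat.card (G ⧸ C)
    apply Nat.card_le_card_of_surjective
      (fun q : G ⧸ C => (⟨q.out * d * q.out⁻¹, hconj _⟩ : conjugatesOf d))
    rintro ⟨a, ha⟩
    obtain ⟨g, rfl⟩ := mem_conj_iff.mp ha
    refine ⟨(g : G ⧸ C), Subtype.ext ?_⟩
    obtain ⟨c, hc⟩ := QuotientGroup.mk_out_eq_mul C g
    show ((g : G ⧸ C)).out * d * ((g : G ⧸ C)).out⁻¹ = g * d * g⁻¹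
    rw [hc]
    have hcd : (c : G) * d = d * c := by
      have h0 : (c : G) ∈ Subgroup.centralizer ({d} : Set G) := hC ▸ c.2
      rw [Subgroup.mem_centralizer_iff] at h0
      exact (h0 d rfl).symm
    calc g * c * d * (g * c)⁻¹ = g * (c * d) * (c : G)⁻¹ * g⁻¹ := by group
      _ = g * d * g⁻¹ := by rw [hcd]; group
  have hcardK : ((fun a => d * a) '' conjugatesOf d).ncard ≤ 3 ^ a := by
    rw [← ha]
    exact (Set.ncard_image_le (Set.toFinite _)).trans hcardconj
  have hKeq := Set.eq_of_subset_of_ncard_le hsub (by rw [hcardKP]; exact hcardK) (Set.toFinite _)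
  refine ⟨P, fun a ha => ?_⟩
  have : d * a ∈ (fun a => d * a) '' conjugatesOf d := ⟨a, ha, rfl⟩
  rw [← hKeq] at this
  exact this.1

/-- The case p = 3 of the Z*-type result for involution classes. Let G be a finite group and d an involution of G such that the product of any two conjugates of d has order a power of 3. Then the product of any two conjugates of d lies in O₃(G); so the conjugacy class of d lies in the coset O₃(G)d. -/
theorem result {G : Type*} [Group G] [Finite G] (d : G) (hd : orderOf d = 2)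
    (hprod : ∀ a ∈ conjugatesOf d, ∀ b ∈ conjugatesOf d, ∃ k : ℕ, orderOf (a * b) = 3 ^ k) :
    ∀ a ∈ conjugatesOf d, ∀ b ∈ conjugatesOf d, a * b ∈ Cfsg.pCore 3 G := by
  obtain ⟨P, hP⟩ := key d hd hprod
  have hdd : d * d = 1 := by
    have h2 : d ^ 2 = 1 := by rw [← hd]; exact pow_orderOf_eq_one d
    rwa [pow_two] at h2
  have hinvol : ∀ a ∈ conjugatesOf d, a⁻¹ = a := by
    intro a ha
    obtain ⟨g, rfl⟩ := mem_conj_iff.mp ha
    apply inv_eq_of_mul_eq_one_left
    calc g * d * g⁻¹ * (g * d * g⁻¹) = g * (d * d) * g⁻¹ := by group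
      _ = 1 := by rw [hdd]; group
  have hcm : ∀ a ∈ conjugatesOf d, ∀ g : G, g * a * g⁻¹ ∈ conjugatesOf d := by
    intro a ha g
    obtain ⟨h, rfl⟩ := mem_conj_iff.mp ha
    exact mem_conj_iff.mpr ⟨g * h, by group⟩
  obtain ⟨gens, hgens⟩ : ∃ gens : Set G,
      gens = {x | ∃ a ∈ conjugatesOf d, ∃ b ∈ conjugatesOf d, x = a * b} := ⟨_, rfl⟩
  have hgP : gens ⊆ ((P : Subgroup G) : Set G) := by
    rw [hgens]
    rintro _ ⟨a, ha, b, hb, rfl⟩
    have h1 := hP a ha
    have h2 := hP b hb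
    have e : (d * a)⁻¹ * (d * b) = a⁻¹ * b := by group
    rw [hinvol a ha] at e
    rw [← e]
    exact (P : Subgroup G).mul_mem ((P : Subgroup G).inv_mem h1) h2
  have hN : (Subgroup.closure gens).Normal := by
    refine ⟨fun n hn g => ?_⟩
    induction hn using Subgroup.closure_induction with
    | mem x hx =>
      rw [hgens] at hx
      obtain ⟨a, ha, b, hb, rfl⟩ := hx
      apply Subgroup.subset_closure
      rw [hgens]
      exact ⟨g * a * g⁻¹, hcm a ha g, g * b * g⁻¹, hcm b hb g, by group⟩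
    | one => simp
    | mul x y _ _ hx hy =>
      have : g * (x * y) * g⁻¹ = (g * x * g⁻¹) * (g * y * g⁻¹) := by group
      rw [this]; exact Subgroup.mul_mem _ hx hy
    | inv x _ hx =>
      have : g * x⁻¹ * g⁻¹ = (g * x * g⁻¹)⁻¹ := by group
      rw [this]; exact Subgroup.inv_mem _ hx
  have hp : IsPGroup 3 (Subgroup.closure gens) :=
    IsPGroup.to_le P.2 ((Subgroup.closure_le _).mpr hgP)
  have hle := Cfsg.Agent.Lib.Helper9.le_pCore hN hp
  intro a ha b hb
  apply hle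
  apply Subgroup.subset_closure
  rw [hgens]
  exact ⟨a, ha, b, hb, rfl⟩

end Cfsg.Agent.S5561
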