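import Cfsg.Statements.S5346
import Mathlib
import Cfsg.Agent.S5561
import Cfsg.Agent.Lib.Helper9.Cores

set_option autoImplicit false
open Cfsg

namespace Cfsg.Agent.S5346

/-- Let D be a conjugation-invariant generating set of 3-transpositions of a finite group G and d a member of D. Then D has width 1 (no two different members of D commute) if and only if G is the product of the subgroup generated by d with the largest normal 3-subgroup of G. -/
theorem result {G : Type*} [Group G] [Finite G] {D : Set G} (hD : Cfsg.IsThreeTranspositionGroup D) {d : G} (hd : d ∈ D) : Cfsg.commutingWidth D = 1 ↔ Subgroup.zpowers d ⊔ Cfsg.pCore 3 G = ⊤ := by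
  classical
  obtain ⟨⟨hord, h3t⟩, hconjD, hgen⟩ := hD
  have hsq : ∀ a ∈ D, a * a = 1 := by
    intro a ha
    have h2 : a ^ 2 = 1 := by rw [← hord a ha]; exact pow_orderOf_eq_one a
    rwa [pow_two] at h2
  have hinv : ∀ a ∈ D, a⁻¹ = a := fun a ha => inv_eq_of_mul_eq_one_left (hsq a ha)
  have hbdd : BddAbove {n : ℕ | ∃ E : Set G, E ⊆ D ∧ E.Finite ∧
      (∀ a ∈ E, ∀ b ∈ E, Commute a b) ∧ E.ncard = n} :=
    ⟨Nat.card G, by rintro n ⟨E, -, -, -, rfl⟩; exact Set.ncard_le_card E⟩
  have h1mem : 1 ∈ {n : ℕ | ∃ E : Set G, E ⊆ D ∧ E.Finite ∧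
      (∀ a ∈ E, ∀ b ∈ E, Commute a b) ∧ E.ncard = n} :=
    ⟨{d}, Set.singleton_subset_iff.mpr hd, Set.finite_singleton d, by
      rintro a rfl b rfl; exact Commute.refl _, Set.ncard_singleton d⟩
  -- a squared-trivial product commutes
  have hcomm2 : ∀ a ∈ D, ∀ b ∈ D, (a * b) ^ 2 = 1 → Commute a b := by
    intro a ha b hb h
    have h1 : a * b * (a * b) = 1 := by rwa [pow_two] at h
    have h2 : (a * b)⁻¹ = a * b := inv_eq_of_mul_eq_one_left h1
    rw [mul_inv_rev, hinv a ha, hinv b hb] at h2
    exact h2.symm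
  constructor
  · intro hw
    have hnc : ∀ a ∈ D, ∀ b ∈ D, Commute a b → a = b := by
      intro a ha b hb hab
      by_contra hne
      have h2 : 2 ∈ {n : ℕ | ∃ E : Set G, E ⊆ D ∧ E.Finite ∧
          (∀ a ∈ E, ∀ b ∈ E, Commute a b) ∧ E.ncard = n} := by
        refine ⟨{a, b}, ?_, Set.toFinite _, ?_, Set.ncard_pair hne⟩
        · intro x hx
          rcases hx with rfl | rfl
          · exact ha
          · exact hb
        · rintro x (rfl | rfl) y (rfl | rfl)
          · exact Commute.refl _
          · exact hab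
          · exact hab.symm
          · exact Commute.refl _
      have h3 := le_csSup hbdd h2
      unfold commutingWidth at hw
      omega
    have hcl : ∀ a ∈ D, a ∈ conjugatesOf d := by
      intro a ha
      by_cases had : a = d
      · rw [had]; exact mem_conjugatesOf_self
      · have hncomm : ¬ Commute d a := fun h => had (hnc d hd a ha h).symm
        rcases h3t d hd a ha with h | h
        · exact absurd (hcomm2 d hd a ha h) hncomm
        · refine S5561.mem_conj_iff.mpr ⟨d * a, ?_⟩
          have h1 : d * a * (d * a) * (d * a) = 1 := by rw [← h]; simp [pow_succ]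
          rw [mul_inv_rev, hinv d hd, hinv a ha]
          have h2 : (d * a * d * (a * d)) * a = 1 := by rw [← h1]; group
          have h3 := eq_inv_of_mul_eq_one_left h2
          rw [h3, hinv a ha]
    have hprod : ∀ a ∈ conjugatesOf d, ∀ b ∈ conjugatesOf d,
        ∃ k : ℕ, orderOf (a * b) = 3 ^ k := by
      intro a ha b hb
      have haD : a ∈ D := by
        obtain ⟨g, rfl⟩ := S5561.mem_conj_iff.mp ha; exact hconjD g d hd
      have hbD : b ∈ D := by
        obtain ⟨g, rfl⟩ := S5561.mem_conj_iff.mp hb; exact hconjD g d hd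
      by_cases hab : a = b
      · refine ⟨0, ?_⟩
        rw [hab, hsq b hbD]; simp
      · refine ⟨1, ?_⟩
        have hnc' : ¬ Commute a b := fun h => hab (hnc a haD b hbD h)
        rcases h3t a haD b hbD with h | h
        · exact absurd (hcomm2 a haD b hbD h) hnc'
        · rw [pow_one]
          have : Fact (Nat.Prime 3) := ⟨Nat.prime_three⟩
          exact orderOf_eq_prime h (fun h1 => hab (by
            rw [← hinv b hbD]; exact eq_inv_of_mul_eq_one_left h1))
    have hcore := S5561.result d (hord d hd) hprod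
    rw [eq_top_iff, ← hgen, Subgroup.closure_le]
    intro a ha
    have h1 : d * a ∈ pCore 3 G := hcore d mem_conjugatesOf_self a (hcl a ha)
    have h3 : d * (d * a) ∈ Subgroup.zpowers d ⊔ pCore 3 G :=
      Subgroup.mul_mem _ (Subgroup.mem_sup_left (Subgroup.mem_zpowers d))
        (Subgroup.mem_sup_right h1)
    rwa [← mul_assoc, hsq d hd, one_mul] at h3
  · intro htop
    have hN : (pCore 3 G).Normal := by
      have := Cfsg.Agent.Lib.Helper9.pCore_characteristic 3 G
      infer_instance
    have hNp := Cfsg.Agent.Lib.Helper9.pCore_isPGroup 3 G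
    have hnot : ∀ a ∈ D, a ∉ pCore 3 G := by
      intro a ha hmem
      obtain ⟨k, hk⟩ := hNp ⟨a, hmem⟩
      have hk' : a ^ (3 ^ k) = 1 := by simpa using congrArg Subtype.val hk
      have h1 : orderOf a ∣ 3 ^ k := orderOf_dvd_of_pow_eq_one hk'
      rw [hord a ha] at h1
      have : 2 ∣ 3 := Nat.Prime.dvd_of_dvd_pow Nat.prime_two h1
      omega
    have hdec : ∀ a ∈ D, ∃ n ∈ pCore 3 G, a = d * n := by
      intro a ha
      have hmem : a ∈ ((Subgroup.zpowers d ⊔ pCore 3 G : Subgroup G) : Set G) := by
        rw [htop]; trivial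
      rw [Subgroup.mul_normal] at hmem
      obtain ⟨h, hh, n, hn, rfl⟩ := Set.mem_mul.mp hmem
      obtain ⟨k, rfl⟩ := Subgroup.mem_zpowers_iff.mp hh
      have hk2 : d ^ k = d ^ (k % 2) := by
        have := zpow_mod_orderOf d k
        rw [hord d hd] at this
        exact_mod_cast this.symm
      rcases Int.emod_two_eq_zero_or_one k with h0 | h0
      · exfalso
        apply hnot _ ha
        rw [hk2, h0, zpow_zero, one_mul]; exact hn
      · exact ⟨n, hn, by rw [hk2, h0, zpow_one]⟩
    have hnc : ∀ a ∈ D, ∀ b ∈ D, Commute a b → a = b := by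
      intro a ha b hb hab
      obtain ⟨n, hn, rfl⟩ := hdec a ha
      obtain ⟨m, hm, rfl⟩ := hdec b hb
      have h1 : (d * n)⁻¹ * (d * m) ∈ pCore 3 G := by
        have : (d * n)⁻¹ * (d * m) = n⁻¹ * m := by group
        rw [this]; exact Subgroup.mul_mem _ (Subgroup.inv_mem _ hn) hm
      rw [hinv _ ha] at h1
      have h2 : ((d * n) * (d * m)) ^ 2 = 1 := by
        rw [pow_two]
        calc d * n * (d * m) * (d * n * (d * m))
            = (d * n) * ((d * m) * (d * n)) * (d * m) := by group
          _ = (d * n) * ((d * n) * (d * m)) * (d * m) := by rw [← hab.eq]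
          _ = ((d * n) * (d * n)) * ((d * m) * (d * m)) := by group
          _ = 1 := by rw [hsq _ ha, hsq _ hb, one_mul]
      obtain ⟨k, hk⟩ := hNp ⟨_, h1⟩
      have hk' : ((d * n) * (d * m)) ^ (3 ^ k) = 1 := by simpa using congrArg Subtype.val hk
      have ho1 : orderOf ((d * n) * (d * m)) ∣ 2 := orderOf_dvd_of_pow_eq_one h2
      have ho2 : orderOf ((d * n) * (d * m)) ∣ 3 ^ k := orderOf_dvd_of_pow_eq_one hk'
      have hcop : Nat.Coprime (orderOf ((d * n) * (d * m))) (3 ^ k) :=
        Nat.Coprime.coprime_dvd_left ho1 (Nat.Coprime.pow_right _ (by norm_num))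
      have ho : orderOf ((d * n) * (d * m)) = 1 := Nat.Coprime.eq_one_of_dvd hcop ho2
      have h3 := orderOf_eq_one_iff.mp ho
      exact (hinv _ ha).symm.trans (inv_eq_of_mul_eq_one_right h3)
    unfold commutingWidth
    apply le_antisymm
    · apply csSup_le ⟨1, h1mem⟩
      rintro n ⟨E, hED, hEf, hEc, rfl⟩
      exact (Set.ncard_le_one hEf).mpr
        (fun a ha b hb => hnc a (hED ha) b (hED hb) (hEc a ha b hb))
    · exact le_csSup hbdd h1mem

end Cfsg.Agent.S5346
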