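import Cfsg.Statements.S5350
import Mathlib
import Cfsg.Agent.Lib.Lead.Cores
import Cfsg.Agent.S5349
import Cfsg.Agent.S5561

set_option autoImplicit false
open Cfsg

namespace Cfsg.Agent.S5350

open Cfsg.Agent.Lib.Lead.Cores

variable {G : Type*} [Group G]

/-- the commuting partners of `a` in `D` -/
def part (D : Set G) (a : G) : Set G := {y | y ∈ D ∧ y ≠ a ∧ Commute a y}

/-- the relation "same commuting partners" -/
def RelW (D : Set G) (a b : G) : Prop := part D a = part D b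

theorem relW_refl (D : Set G) (a : G) : RelW D a a := rfl

theorem relW_symm {D : Set G} {a b : G} (h : RelW D a b) : RelW D b a := Eq.symm h

theorem relW_trans {D : Set G} {a b c : G} (h : RelW D a b) (h' : RelW D b c) : RelW D a c :=
  Eq.trans h h'

theorem mem_part_conj {D : Set G} (hc : ∀ g : G, ∀ x ∈ D, g * x * g⁻¹ ∈ D) (g a y : G) :
    y ∈ part D (g * a * g⁻¹) ↔ g⁻¹ * y * g ∈ part D a := by
  constructor
  · rintro ⟨hy, hne, hcm⟩
    refine ⟨?_, ?_, ?_⟩
    · have := hc g⁻¹ y hy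
      rwa [inv_inv] at this
    · intro h
      apply hne
      rw [← h]
      group
    · have h1 : (g * a * g⁻¹) * y = y * (g * a * g⁻¹) := hcm
      show a * (g⁻¹ * y * g) = (g⁻¹ * y * g) * a
      calc a * (g⁻¹ * y * g) = g⁻¹ * ((g * a * g⁻¹) * y) * g := by group
        _ = g⁻¹ * (y * (g * a * g⁻¹)) * g := by rw [h1]
        _ = (g⁻¹ * y * g) * a := by group
  · rintro ⟨hy, hne, hcm⟩
    refine ⟨?_, ?_, ?_⟩
    · have := hc g _ hy
      have e : g * (g⁻¹ * y * g) * g⁻¹ = y := by group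
      rwa [e] at this
    · intro h
      apply hne
      rw [h]
      group
    · have h1 : a * (g⁻¹ * y * g) = (g⁻¹ * y * g) * a := hcm
      show (g * a * g⁻¹) * y = y * (g * a * g⁻¹)
      calc (g * a * g⁻¹) * y = g * (a * (g⁻¹ * y * g)) * g⁻¹ := by group
        _ = g * ((g⁻¹ * y * g) * a) * g⁻¹ := by rw [h1]
        _ = y * (g * a * g⁻¹) := by group

theorem relW_conj {D : Set G} (hc : ∀ g : G, ∀ x ∈ D, g * x * g⁻¹ ∈ D) {a b : G}
    (h : RelW D a b) (g : G) : RelW D (g * a * g⁻¹) (g * b * g⁻¹) := by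
  have h' : part D a = part D b := h
  show part D (g * a * g⁻¹) = part D (g * b * g⁻¹)
  ext y
  rw [mem_part_conj hc, mem_part_conj hc, h']

theorem relW_ncomm {D : Set G} {a b : G} (hb : b ∈ D) (h : RelW D a b) (hne : a ≠ b) :
    ¬ Commute a b := by
  intro hcm
  have h1 : b ∈ part D a := ⟨hb, fun e => hne e.symm, hcm⟩
  have h' : part D a = part D b := h
  rw [h'] at h1
  exact h1.2.1 rfl

theorem relW_comm_iff {D : Set G} {a b x : G} (hx : x ∈ D) (h : RelW D a b) (hxa : x ≠ a)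
    (hxb : x ≠ b) : Commute a x ↔ Commute b x := by
  have h' : part D a = part D b := h
  constructor
  · intro hcm
    have h1 : x ∈ part D a := ⟨hx, hxa, hcm⟩
    rw [h'] at h1
    exact h1.2.2
  · intro hcm
    have h1 : x ∈ part D b := ⟨hx, hxb, hcm⟩
    rw [← h'] at h1
    exact h1.2.2

theorem stab_gen {D : Set G} (hinv : ∀ a ∈ D, a * a = 1)
    (h3 : ∀ a ∈ D, ∀ b ∈ D, Commute a b ∨ (a * b) ^ 3 = 1)
    (hc : ∀ g : G, ∀ x ∈ D, g * x * g⁻¹ ∈ D) {a b : G} (ha : a ∈ D) (hb : b ∈ D)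
    (hab : RelW D a b) {x : G} (hx : x ∈ D) :
    RelW D ((a⁻¹ * b) * x * (a⁻¹ * b)⁻¹) x := by
  have ha2 := hinv a ha
  have hb2 := hinv b hb
  have hx2 := hinv x hx
  have hai : a⁻¹ = a := inv_eq_of_mul_eq_one_right ha2
  have hbi : b⁻¹ = b := inv_eq_of_mul_eq_one_right hb2
  have hxi : x⁻¹ = x := inv_eq_of_mul_eq_one_right hx2
  by_cases hab' : a = b
  · rw [← hab']
    have : (a⁻¹ * a) * x * (a⁻¹ * a)⁻¹ = x := by group
    rw [this]
    exact relW_refl D x
  have hnc : ¬ Commute a b := relW_ncomm hb hab hab'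
  have hab3 : (a * b) ^ 3 = 1 := (h3 a ha b hb).resolve_left hnc
  have e0 : a * b * a = b * a * b := S5349.braid ha2 hb2 hab3
  by_cases hxa : x = a
  · have : (a⁻¹ * b) * x * (a⁻¹ * b)⁻¹ = b := by
      rw [hxa, mul_inv_rev, inv_inv, hai, hbi]
      calc a * b * a * (b * a) = (a * b * a) * b * a := by simp only [mul_assoc]
        _ = (b * a * b) * b * a := by rw [e0]
        _ = b * a * (b * b) * a := by simp only [mul_assoc]
        _ = b := by rw [hb2, mul_one, mul_assoc, ha2, mul_one]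
    rw [this, hxa]
    exact relW_symm hab
  by_cases hxb : x = b
  · have : (a⁻¹ * b) * x * (a⁻¹ * b)⁻¹ = a * b * a⁻¹ := by
      rw [hxb, mul_inv_rev, inv_inv, hai, hbi]
      calc a * b * b * (b * a) = a * (b * b) * b * a := by simp only [mul_assoc]
        _ = a * b * a := by rw [hb2, mul_one]
    rw [this, hxb]
    have r1 := relW_conj hc hab a
    have e1 : a * a * a⁻¹ = a := by group
    rw [e1] at r1
    exact relW_trans (relW_symm r1) hab
  by_cases hax : Commute a x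
  · have hbx : Commute b x := (relW_comm_iff hx hab hxa hxb).1 hax
    have : (a⁻¹ * b) * x * (a⁻¹ * b)⁻¹ = x := by
      have h1 : a * x = x * a := hax
      have h2 : b * x = x * b := hbx
      rw [mul_inv_rev, inv_inv, hai, hbi]
      calc a * b * x * (b * a) = a * (b * x) * b * a := by simp only [mul_assoc]
        _ = a * (x * b) * b * a := by rw [h2]
        _ = (a * x) * (b * b) * a := by simp only [mul_assoc]
        _ = x * a * a := by rw [hb2, mul_one, h1]
        _ = x := by rw [mul_assoc, ha2, mul_one]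
    rw [this]
    exact relW_refl D x
  · have hbx : ¬ Commute b x := fun h => hax ((relW_comm_iff hx hab hxa hxb).2 h)
    have hax3 : (a * x) ^ 3 = 1 := (h3 a ha x hx).resolve_left hax
    have hbx3 : (b * x) ^ 3 = 1 := (h3 b hb x hx).resolve_left hbx
    have e1 : a * x * a = x * a * x := S5349.braid ha2 hx2 hax3
    have e2 : b * x * b = x * b * x := S5349.braid hb2 hx2 hbx3
    have r1 : RelW D (x * a * x⁻¹) (x * b * x⁻¹) := relW_conj hc hab x
    rw [hxi, ← e1, ← e2] at r1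
    have r2 := relW_conj hc r1 a
    have e3 : a * (a * x * a) * a⁻¹ = x := by
      rw [hai]
      calc a * (a * x * a) * a = (a * a) * x * (a * a) := by simp only [mul_assoc]
        _ = x := by rw [ha2, one_mul, mul_one]
    have e4 : a * (b * x * b) * a⁻¹ = (a⁻¹ * b) * x * (a⁻¹ * b)⁻¹ := by
      rw [mul_inv_rev, inv_inv, hai, hbi]
      simp only [mul_assoc]
    rw [e3, e4] at r2
    exact relW_symm r2

/-- the subgroup of elements preserving every class -/
def stab (D : Set G) (hc : ∀ g : G, ∀ x ∈ D, g * x * g⁻¹ ∈ D) : Subgroup G where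
  carrier := {g | ∀ x ∈ D, RelW D (g * x * g⁻¹) x}
  one_mem' := by
    intro x hx
    have : (1 : G) * x * 1⁻¹ = x := by group
    rw [this]
    exact relW_refl D x
  mul_mem' := by
    intro g h hg hh x hx
    have : g * h * x * (g * h)⁻¹ = g * (h * x * h⁻¹) * g⁻¹ := by group
    rw [this]
    exact relW_trans (hg _ (hc h x hx)) (hh x hx)
  inv_mem' := by
    intro g hg x hx
    have h1 := hg _ (hc g⁻¹ x hx)
    have : g * (g⁻¹ * x * g⁻¹⁻¹) * g⁻¹ = x := by group
    rw [this] at h1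
    exact relW_symm h1

/-- the odd part of a class -/
def oddPart (D : Set G) (c : G) : Subgroup G :=
  Subgroup.closure {t | ∃ a ∈ D, ∃ b ∈ D, RelW D a c ∧ RelW D b c ∧ t = a⁻¹ * b}

theorem oddPart_le_stab {D : Set G} (hinv : ∀ a ∈ D, a * a = 1)
    (h3 : ∀ a ∈ D, ∀ b ∈ D, Commute a b ∨ (a * b) ^ 3 = 1)
    (hc : ∀ g : G, ∀ x ∈ D, g * x * g⁻¹ ∈ D) (c : G) : oddPart D c ≤ stab D hc := by
  refine (Subgroup.closure_le _).2 ?_
  rintro t ⟨a, ha, b, hb, hac, hbc, rfl⟩
  intro x hx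
  exact stab_gen hinv h3 hc ha hb (relW_trans hac (relW_symm hbc)) hx

theorem stab_conj_oddPart {D : Set G} (hc : ∀ g : G, ∀ x ∈ D, g * x * g⁻¹ ∈ D) (c : G)
    {g : G} (hg : g ∈ stab D hc) : ∀ y ∈ oddPart D c, g * y * g⁻¹ ∈ oddPart D c := by
  apply S5349.conj_closure
  rintro t ⟨a, ha, b, hb, hac, hbc, rfl⟩
  apply Subgroup.subset_closure
  refine ⟨g * a * g⁻¹, hc g a ha, g * b * g⁻¹, hc g b hb, relW_trans (hg a ha) hac,
    relW_trans (hg b hb) hbc, ?_⟩
  group

theorem oddPart_isPGroup [Finite G] {D : Set G} (hord : ∀ a ∈ D, orderOf a = 2)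
    (hinv : ∀ a ∈ D, a * a = 1)
    (h3 : ∀ a ∈ D, ∀ b ∈ D, Commute a b ∨ (a * b) ^ 3 = 1)
    (hc : ∀ g : G, ∀ x ∈ D, g * x * g⁻¹ ∈ D) {c : G} (hcD : c ∈ D) :
    IsPGroup 3 (oddPart D c) := by
  classical
  haveI : Fact (Nat.Prime 3) := ⟨Nat.prime_three⟩
  obtain ⟨W, hW⟩ : ∃ W : Set G, W = {a | a ∈ D ∧ RelW D a c} := ⟨_, rfl⟩
  have hcW : c ∈ W := by rw [hW]; exact ⟨hcD, relW_refl D c⟩
  have hWD : ∀ a ∈ W, a ∈ D := by
    intro a ha
    rw [hW] at ha
    exact ha.1
  have hWrel : ∀ a ∈ W, ∀ b ∈ W, RelW D a b := by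
    intro a ha b hb
    rw [hW] at ha hb
    exact relW_trans ha.2 (relW_symm hb.2)
  have hWconj : ∀ a ∈ W, ∀ b ∈ W, a * b * a⁻¹ ∈ W := by
    intro a ha b hb
    have hbD := hWD b hb
    have r1 := relW_conj hc (hWrel b hb a ha) a
    have e1 : a * a * a⁻¹ = a := by group
    rw [e1] at r1
    have r2 : RelW D a c := by
      rw [hW] at ha
      exact ha.2
    rw [hW]
    exact ⟨hc a b hbD, relW_trans r1 r2⟩
  obtain ⟨H, hH⟩ : ∃ H : Subgroup G, H = Subgroup.closure W := ⟨_, rfl⟩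
  have hWH : ∀ a ∈ W, a ∈ H := by
    intro a ha
    rw [hH]
    exact Subgroup.subset_closure ha
  have hHconj : ∀ h ∈ H, (∀ b ∈ W, h * b * h⁻¹ ∈ W) ∧ (∀ b ∈ W, h⁻¹ * b * h ∈ W) := by
    intro h hh
    rw [hH] at hh
    induction hh using Subgroup.closure_induction with
    | mem x hx =>
      have hxi : x⁻¹ = x := inv_eq_of_mul_eq_one_right (hinv x (hWD x hx))
      refine ⟨fun b hb => hWconj x hx b hb, fun b hb => ?_⟩
      have := hWconj x hx b hb
      rw [hxi] at this ⊢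
      exact this
    | one => exact ⟨fun b hb => by simpa using hb, fun b hb => by simpa using hb⟩
    | mul x y _ _ hx hy =>
      refine ⟨fun b hb => ?_, fun b hb => ?_⟩
      · have e : x * y * b * (x * y)⁻¹ = x * (y * b * y⁻¹) * x⁻¹ := by group
        rw [e]
        exact hx.1 _ (hy.1 b hb)
      · have e : (x * y)⁻¹ * b * (x * y) = y⁻¹ * (x⁻¹ * b * x) * y := by group
        rw [e]
        exact hy.2 _ (hx.2 b hb)
    | inv x _ hx =>
      refine ⟨fun b hb => ?_, fun b hb => ?_⟩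
      · have e : x⁻¹ * b * x⁻¹⁻¹ = x⁻¹ * b * x := by group
        rw [e]
        exact hx.2 b hb
      · have e : x⁻¹⁻¹ * b * x⁻¹ = x * b * x⁻¹ := by group
        rw [e]
        exact hx.1 b hb
  have hcH : c ∈ H := hWH c hcW
  have hordc : orderOf (⟨c, hcH⟩ : ↥H) = 2 := by
    rw [Subgroup.orderOf_mk]
    exact hord c hcD
  have hconjW : ∀ a' : ↥H, a' ∈ conjugatesOf (⟨c, hcH⟩ : ↥H) → (a' : G) ∈ W := by
    intro a' ha'
    obtain ⟨g, hg⟩ := S5561.mem_conj_iff.1 ha'
    have : (a' : G) = (g : G) * c * (g : G)⁻¹ := by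
      rw [← hg]
      rfl
    rw [this]
    exact (hHconj g g.2).1 c hcW
  have hprod : ∀ a' ∈ conjugatesOf (⟨c, hcH⟩ : ↥H), ∀ b' ∈ conjugatesOf (⟨c, hcH⟩ : ↥H),
      ∃ k : ℕ, orderOf (a' * b') = 3 ^ k := by
    intro a' ha' b' hb'
    have haW := hconjW a' ha'
    have hbW := hconjW b' hb'
    have haD := hWD _ haW
    have hbD := hWD _ hbW
    have hcoe : orderOf (a' * b') = orderOf ((a' : G) * (b' : G)) :=
      (Subgroup.orderOf_coe (a' * b')).symm
    rw [hcoe]
    by_cases hab : (a' : G) = (b' : G)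
    · refine ⟨0, ?_⟩
      rw [hab, hinv _ hbD]
      simp
    · refine ⟨1, ?_⟩
      have hnc := relW_ncomm hbD (hWrel _ haW _ hbW) hab
      have h := (h3 _ haD _ hbD).resolve_left hnc
      rw [pow_one]
      exact orderOf_eq_prime h (fun h1 => hab (by
        have h2 := eq_inv_of_mul_eq_one_left h1
        rw [h2]
        exact inv_eq_of_mul_eq_one_right (hinv _ hbD)))
  have hcore := S5561.result (⟨c, hcH⟩ : ↥H) hordc hprod
  have hWconjc : ∀ a (ha : a ∈ W),
      (⟨a, hWH a ha⟩ : ↥H) ∈ conjugatesOf (⟨c, hcH⟩ : ↥H) := by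
    intro a ha
    rw [S5561.mem_conj_iff]
    refine ⟨⟨c, hcH⟩ * ⟨a, hWH a ha⟩, ?_⟩
    apply Subtype.ext
    have haD := hWD a ha
    have hca3 : (c * a) ^ 3 = 1 := by
      by_cases hca : c = a
      · rw [← hca, hinv c hcD]
        simp
      · exact (h3 c hcD a haD).resolve_left (relW_ncomm haD (hWrel c hcW a ha) hca)
    have e0 := S5349.braid (hinv c hcD) (hinv a haD) hca3
    have hci : c⁻¹ = c := inv_eq_of_mul_eq_one_right (hinv c hcD)
    have hai : a⁻¹ = a := inv_eq_of_mul_eq_one_right (hinv a haD)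
    show c * a * c * (c * a)⁻¹ = a
    rw [mul_inv_rev, hai, hci]
    calc c * a * c * (a * c) = (c * a * c) * a * c := by simp only [mul_assoc]
      _ = (a * c * a) * a * c := by rw [e0]
      _ = a * c * (a * a) * c := by simp only [mul_assoc]
      _ = a := by rw [hinv a haD, mul_one, mul_assoc, hinv c hcD, mul_one]
  have hP3 : IsPGroup 3 ((Cfsg.pCore 3 ↥H).map H.subtype) := (pCore_isPGroup 3).map _
  have hle : oddPart D c ≤ (Cfsg.pCore 3 ↥H).map H.subtype := by
    refine (Subgroup.closure_le _).2 ?_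
    rintro t ⟨a, ha, b, hb, hac, hbc, rfl⟩
    have haW : a ∈ W := by rw [hW]; exact ⟨ha, hac⟩
    have hbW : b ∈ W := by rw [hW]; exact ⟨hb, hbc⟩
    have h1 := hcore _ (hWconjc a haW) _ (hWconjc b hbW)
    have hai : a⁻¹ = a := inv_eq_of_mul_eq_one_right (hinv a ha)
    rw [hai]
    exact ⟨_, h1, rfl⟩
  exact hP3.to_le hle

/-- products of related pairs lie in the 3-core -/
theorem core_of_rel [Finite G] {D : Set G} (hord : ∀ a ∈ D, orderOf a = 2)
    (hinv : ∀ a ∈ D, a * a = 1)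
    (h3 : ∀ a ∈ D, ∀ b ∈ D, Commute a b ∨ (a * b) ^ 3 = 1)
    (hc : ∀ g : G, ∀ x ∈ D, g * x * g⁻¹ ∈ D) {a b : G} (ha : a ∈ D) (hb : b ∈ D)
    (hab : RelW D a b) : a⁻¹ * b ∈ Cfsg.pCore 3 G := by
  classical
  haveI : Fact (Nat.Prime 3) := ⟨Nat.prime_three⟩
  have hQ : ∀ c ∈ D, oddPart D c ≤ (Cfsg.pCore 3 ↥(stab D hc)).map (stab D hc).subtype := by
    intro c hcD
    have hle : oddPart D c ≤ stab D hc := oddPart_le_stab hinv h3 hc c
    have hn : ((oddPart D c).subgroupOf (stab D hc)).Normal := by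
      rw [Subgroup.normal_subgroupOf_iff hle]
      intro h k hh hk
      exact stab_conj_oddPart hc c hk h hh
    have hp : IsPGroup 3 ((oddPart D c).subgroupOf (stab D hc)) :=
      (oddPart_isPGroup hord hinv h3 hc hcD).comap_subtype
    have h1 : (oddPart D c).subgroupOf (stab D hc) ≤ Cfsg.pCore 3 ↥(stab D hc) :=
      le_pCore hn hp
    intro y hy
    exact ⟨⟨y, hle hy⟩, h1 (by rw [Subgroup.mem_subgroupOf]; exact hy), rfl⟩
  have hQp : IsPGroup 3 ((Cfsg.pCore 3 ↥(stab D hc)).map (stab D hc).subtype) :=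
    (pCore_isPGroup 3).map _
  obtain ⟨T, hT⟩ : ∃ T : Set G, T = {t | ∃ a ∈ D, ∃ b ∈ D, RelW D a b ∧ t = a⁻¹ * b} :=
    ⟨_, rfl⟩
  have hNle : Subgroup.closure T ≤ (Cfsg.pCore 3 ↥(stab D hc)).map (stab D hc).subtype := by
    refine (Subgroup.closure_le _).2 ?_
    intro t ht
    rw [hT] at ht
    obtain ⟨a, ha, b, hb, hab, rfl⟩ := ht
    exact hQ a ha (Subgroup.subset_closure ⟨a, ha, b, hb, relW_refl D a, relW_symm hab, rfl⟩)
  have hNp : IsPGroup 3 (Subgroup.closure T) := hQp.to_le hNle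
  have hNn : (Subgroup.closure T).Normal := by
    constructor
    intro n hn g
    refine S5349.conj_closure ?_ n hn
    intro t ht
    rw [hT] at ht
    obtain ⟨a, ha, b, hb, hab, rfl⟩ := ht
    apply Subgroup.subset_closure
    rw [hT]
    refine ⟨g * a * g⁻¹, hc g a ha, g * b * g⁻¹, hc g b hb, relW_conj hc hab g, ?_⟩
    group
  exact le_pCore hNn hNp (Subgroup.subset_closure (by rw [hT]; exact ⟨a, ha, b, hb, hab, rfl⟩))

/-- Let D be a conjugacy class of 3-transpositions generating the finite group G, with at least two members, and d a member of D. Then the set of members w of D whose commuting partners in D (other than w) are exactly those of d (other than d) coincides with the set of members of D lying in the coset of d modulo the largest normal 3-subgroup of G, and also with the orbit of d under conjugation by that normal 3-subgroup. -/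
theorem result {G : Type*} [Group G] [Finite G] {D : Set G} (hD : Cfsg.IsThreeTranspositionClass D) (hD2 : ∃ a ∈ D, ∃ b ∈ D, a ≠ b) {d : G} (hd : d ∈ D) : {w : G | w ∈ D ∧ {y : G | y ∈ D ∧ y ≠ d ∧ Commute d y} = {y : G | y ∈ D ∧ y ≠ w ∧ Commute w y}} = {w : G | w ∈ D ∧ d⁻¹ * w ∈ Cfsg.pCore 3 G} ∧ {w : G | w ∈ D ∧ {y : G | y ∈ D ∧ y ≠ d ∧ Commute d y} = {y : G | y ∈ D ∧ y ≠ w ∧ Commute w y}} = {w : G | ∃ g ∈ Cfsg.pCore 3 G, w = g * d * g⁻¹} := by
  classical
  haveI : Fact (Nat.Prime 3) := ⟨Nat.prime_three⟩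
  obtain ⟨⟨hord, h3t⟩, ⟨d0, hd0, hcls⟩, hgen⟩ := hD
  have hsq : ∀ a ∈ D, a * a = 1 := by
    intro a ha
    have h2 : a ^ 2 = 1 := by rw [← hord a ha]; exact pow_orderOf_eq_one a
    rwa [pow_two] at h2
  have hinv : ∀ a ∈ D, a⁻¹ = a := fun a ha => inv_eq_of_mul_eq_one_left (hsq a ha)
  have hc : ∀ g : G, ∀ x ∈ D, g * x * g⁻¹ ∈ D := by
    intro g x hx
    rw [hcls] at hx ⊢
    obtain ⟨k, rfl⟩ := S5561.mem_conj_iff.1 hx
    exact S5561.mem_conj_iff.2 ⟨g * k, by group⟩
  have hcomm2 : ∀ a ∈ D, ∀ b ∈ D, (a * b) ^ 2 = 1 → Commute a b := by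
    intro a ha b hb h
    have h1 : a * b * (a * b) = 1 := by rwa [pow_two] at h
    have h2 : (a * b)⁻¹ = a * b := inv_eq_of_mul_eq_one_left h1
    rw [mul_inv_rev, hinv a ha, hinv b hb] at h2
    exact h2.symm
  have h3 : ∀ a ∈ D, ∀ b ∈ D, Commute a b ∨ (a * b) ^ 3 = 1 := by
    intro a ha b hb
    rcases h3t a ha b hb with h | h
    · exact Or.inl (hcomm2 a ha b hb h)
    · exact Or.inr h
  have hN : (Cfsg.pCore 3 G).Normal := Cfsg.Agent.Lib.Lead.Cores.pCore_normal 3
  have hNp : IsPGroup 3 (Cfsg.pCore 3 G) := pCore_isPGroup 3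
  have h23 : ∀ x ∈ Cfsg.pCore 3 G, x * x = 1 → x = 1 := by
    intro x hx hxx
    obtain ⟨k, hk⟩ := hNp ⟨x, hx⟩
    have hk' : x ^ 3 ^ k = 1 := by simpa using congrArg Subtype.val hk
    have h1 : orderOf x ∣ 2 := orderOf_dvd_of_pow_eq_one (by rw [pow_two]; exact hxx)
    have h2 : orderOf x ∣ 3 ^ k := orderOf_dvd_of_pow_eq_one hk'
    have hcop : Nat.Coprime (orderOf x) (3 ^ k) :=
      Nat.Coprime.coprime_dvd_left h1 (Nat.Coprime.pow_right _ (by norm_num))
    exact orderOf_eq_one_iff.1 (Nat.Coprime.eq_one_of_dvd hcop h2)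
  have claimA : ∀ a ∈ D, ∀ b ∈ D, a⁻¹ * b ∈ Cfsg.pCore 3 G → Commute a b → a = b := by
    intro a ha b hb hab hcm
    have h1 : (a⁻¹ * b) * (a⁻¹ * b) = 1 := by
      rw [hinv a ha]
      have e : a * b = b * a := hcm
      calc a * b * (a * b) = a * (b * a) * b := by simp only [mul_assoc]
        _ = a * (a * b) * b := by rw [← e]
        _ = (a * a) * (b * b) := by simp only [mul_assoc]
        _ = 1 := by rw [hsq a ha, hsq b hb, one_mul]
    have h2 : a⁻¹ * b = 1 := h23 _ hab h1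
    rw [inv_mul_eq_one] at h2
    exact h2
  have claimB : ∀ a ∈ D, ∀ b ∈ D, ∀ e ∈ D, a⁻¹ * b ∈ Cfsg.pCore 3 G → Commute a e →
      ¬ Commute b e → e = a := by
    intro a ha b hb e he hab hae hbe
    have hbe3 : (b * e) ^ 3 = 1 := (h3 b hb e he).resolve_left hbe
    haveI := hN
    have hπ : ((b : G) : G ⧸ Cfsg.pCore 3 G) = ((a : G) : G ⧸ Cfsg.pCore 3 G) := by
      rw [QuotientGroup.eq]
      have := (Cfsg.pCore 3 G).inv_mem hab
      rwa [mul_inv_rev, inv_inv] at this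
    have hq : (b * e) * (b * e) ∈ Cfsg.pCore 3 G := by
      rw [← QuotientGroup.eq_one_iff]
      have h1 : (a * e) * (a * e) = 1 := by
        have h0 : a * e = e * a := hae
        calc (a * e) * (a * e) = (a * e) * (e * a) := by rw [← h0]
          _ = a * (e * e) * a := by simp only [mul_assoc]
          _ = 1 := by rw [hsq e he, mul_one, hsq a ha]
      have h2 : (((b * e) * (b * e) : G) : G ⧸ Cfsg.pCore 3 G) =
          (((a * e) * (a * e) : G) : G ⧸ Cfsg.pCore 3 G) := by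
        simp only [QuotientGroup.mk_mul, hπ]
      rw [h2, h1]
      rfl
    have hbe' : b * e ∈ Cfsg.pCore 3 G := by
      have h4 : b * e = ((b * e) * (b * e))⁻¹ := by
        rw [eq_inv_iff_mul_eq_one]
        have : (b * e) ^ 3 = (b * e) * ((b * e) * (b * e)) := by
          simp only [pow_succ, pow_zero, one_mul, mul_assoc]
        rw [← this, hbe3]
      rw [h4]
      exact (Cfsg.pCore 3 G).inv_mem hq
    have hae' : a⁻¹ * e ∈ Cfsg.pCore 3 G := by
      have : a⁻¹ * e = (a⁻¹ * b) * (b * e) := by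
        rw [mul_assoc, ← mul_assoc b b e, hsq b hb, one_mul]
      rw [this]
      exact (Cfsg.pCore 3 G).mul_mem hab hbe'
    exact (claimA a ha e he hae' hae).symm
  have hsub : ∀ a ∈ D, ∀ b ∈ D, a⁻¹ * b ∈ Cfsg.pCore 3 G → part D a ⊆ part D b := by
    intro a ha b hb hab y hy
    obtain ⟨hyD, hya, hcm⟩ := hy
    refine ⟨hyD, ?_, ?_⟩
    · intro hyb
      rw [hyb] at hya hcm
      exact hya (claimA a ha b hb hab hcm).symm
    · by_contra hnc
      exact hya (claimB a ha b hb y hyD hab hcm hnc)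
  have hrel : ∀ w, w ∈ D → d⁻¹ * w ∈ Cfsg.pCore 3 G → part D d = part D w := by
    intro w hw hdw
    have hwd : w⁻¹ * d ∈ Cfsg.pCore 3 G := by
      have := (Cfsg.pCore 3 G).inv_mem hdw
      rwa [mul_inv_rev, inv_inv] at this
    exact Set.Subset.antisymm (hsub d hd w hw hdw) (hsub w hw d hd hwd)
  have E1 : {w : G | w ∈ D ∧ part D d = part D w} =
      {w : G | w ∈ D ∧ d⁻¹ * w ∈ Cfsg.pCore 3 G} := by
    ext w
    constructor
    · rintro ⟨hw, hr⟩
      exact ⟨hw, core_of_rel hord hsq h3 hc hd hw hr⟩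
    · rintro ⟨hw, hdw⟩
      exact ⟨hw, hrel w hw hdw⟩
  have E2 : {w : G | w ∈ D ∧ d⁻¹ * w ∈ Cfsg.pCore 3 G} =
      {w : G | ∃ g ∈ Cfsg.pCore 3 G, w = g * d * g⁻¹} := by
    ext w
    constructor
    · rintro ⟨hw, hdw⟩
      refine ⟨d⁻¹ * w, hdw, ?_⟩
      have hdw3 : (d * w) ^ 3 = 1 := by
        rcases h3t d hd w hw with h | h
        · have h1 : (d⁻¹ * w) * (d⁻¹ * w) = 1 := by
            rw [hinv d hd, ← pow_two]
            exact h
          have h2 := h23 _ hdw h1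
          rw [hinv d hd] at h2
          rw [h2]
          simp
        · exact h
      have e0 := S5349.braid (hsq d hd) (hsq w hw) hdw3
      rw [mul_inv_rev, inv_inv, hinv d hd, hinv w hw]
      symm
      calc d * w * d * (w * d) = (d * w * d) * w * d := by simp only [mul_assoc]
        _ = (w * d * w) * w * d := by rw [e0]
        _ = w * d * (w * w) * d := by simp only [mul_assoc]
        _ = w := by rw [hsq w hw, mul_one, mul_assoc, hsq d hd, mul_one]
    · rintro ⟨g, hg, rfl⟩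
      refine ⟨hc g d hd, ?_⟩
      have : d⁻¹ * (g * d * g⁻¹) = (d⁻¹ * g * d⁻¹⁻¹) * g⁻¹ := by group
      rw [this]
      exact (Cfsg.pCore 3 G).mul_mem (hN.conj_mem g hg d⁻¹) ((Cfsg.pCore 3 G).inv_mem hg)
  exact ⟨E1, E1.trans E2⟩

end Cfsg.Agent.S5350
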