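import Cfsg.Statements.S5351
import Mathlib
import Cfsg.Prelude.Def_Local
import Cfsg.Agent.Lib.Lead.Cores
import Cfsg.Agent.Lib.Helper9.Components
import Cfsg.Agent.S5349
import Cfsg.Agent.S5350
import Cfsg.Agent.S5561

set_option autoImplicit false
open Cfsg

namespace Cfsg.Agent.S5351

open scoped commutatorElement

theorem eq_one_of_pow {H : Type*} [Group H] {u : H} {m n : ℕ} (hm : u ^ m = 1) (hn : u ^ n = 1)
    (hc : Nat.Coprime m n) : u = 1 := by
  have h1 : orderOf u ∣ Nat.gcd m n :=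
    Nat.dvd_gcd (orderOf_dvd_of_pow_eq_one hm) (orderOf_dvd_of_pow_eq_one hn)
  have hc' : Nat.gcd m n = 1 := hc
  rw [hc'] at h1
  exact orderOf_eq_one_iff.mp (Nat.dvd_one.mp h1)

theorem comm_central {H : Type*} [Group H] {c c' x y : H} (h1 : Commute c x) (h2 : Commute c y)
    (h3 : Commute c c') (h4 : Commute c' x) (h5 : Commute c' y) :
    (c * x) * (c' * y) * (c * x)⁻¹ * (c' * y)⁻¹ = x * y * x⁻¹ * y⁻¹ := by
  have e1 : (c * x) * (c' * y) * (c * x)⁻¹ * (c' * y)⁻¹ =
      c * (x * c' * y * x⁻¹) * c⁻¹ * y⁻¹ * c'⁻¹ := by group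
  have hc : Commute c (x * c' * y * x⁻¹) :=
    ((h1.mul_right h3).mul_right h2).mul_right h1.inv_right
  have e2 : c * (x * c' * y * x⁻¹) * c⁻¹ = x * c' * y * x⁻¹ := by
    rw [hc.eq, mul_inv_cancel_right]
  rw [e1, e2]
  have e3 : x * c' * y * x⁻¹ * y⁻¹ * c'⁻¹ = c' * (x * y * x⁻¹ * y⁻¹) * c'⁻¹ := by
    rw [← h4.eq]; group
  have hc' : Commute c' (x * y * x⁻¹ * y⁻¹) :=
    ((h4.mul_right h5).mul_right h4.inv_right).mul_right h5.inv_right
  rw [e3, hc'.eq, mul_inv_cancel_right]

/-- Let D be a conjugacy class of 3-transpositions generating the finite group G, with at least two members. Then for every prime p > 3 the largest normal p-subgroup of G is central, and exactly one of the following holds: the largest normal 2-subgroup of G is not central; the largest normal 3-subgroup of G is not central; the layer of G (the product of its components) is non-trivial. -/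
theorem result {G : Type*} [Group G] [Finite G] {D : Set G} (hD : Cfsg.IsThreeTranspositionClass D) (hD2 : ∃ a ∈ D, ∃ b ∈ D, a ≠ b) : (∀ p : ℕ, p.Prime → 3 < p → Cfsg.pCore p G ≤ Subgroup.center G) ∧ ((¬ Cfsg.pCore 2 G ≤ Subgroup.center G ∧ Cfsg.pCore 3 G ≤ Subgroup.center G ∧ Cfsg.layer G = ⊥) ∨ (Cfsg.pCore 2 G ≤ Subgroup.center G ∧ ¬ Cfsg.pCore 3 G ≤ Subgroup.center G ∧ Cfsg.layer G = ⊥) ∨ (Cfsg.pCore 2 G ≤ Subgroup.center G ∧ Cfsg.pCore 3 G ≤ Subgroup.center G ∧ Cfsg.layer G ≠ ⊥)) := by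
  classical
  haveI : Fact (Nat.Prime 3) := ⟨Nat.prime_three⟩
  haveI : Fact (Nat.Prime 2) := ⟨Nat.prime_two⟩
  obtain ⟨d, hd, d1, hd1, hdd1⟩ := hD2
  have h50 := Cfsg.Agent.S5350.result hD ⟨d, hd, d1, hd1, hdd1⟩ hd
  obtain ⟨hset, ⟨d0, hd0, hcls⟩, hgen⟩ := hD
  have hinv : ∀ a ∈ D, a * a = 1 := by
    intro a ha
    have := pow_orderOf_eq_one a
    rw [hset.1 a ha, pow_two] at this
    exact this
  have hinvi : ∀ a ∈ D, a⁻¹ = a := fun a ha => inv_eq_of_mul_eq_one_right (hinv a ha)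
  have hconj : ∀ g : G, ∀ x ∈ D, g * x * g⁻¹ ∈ D := by
    intro g x hx
    rw [hcls] at hx ⊢
    obtain ⟨c, rfl⟩ := Cfsg.Agent.S5561.mem_conj_iff.mp hx
    exact Cfsg.Agent.S5561.mem_conj_iff.mpr ⟨g * c, by group⟩
  have hcls' : ∀ x ∈ D, ∃ g : G, g * d * g⁻¹ = x := by
    intro x hx
    have hd' := hd
    rw [hcls] at hx hd'
    obtain ⟨c, hc⟩ := Cfsg.Agent.S5561.mem_conj_iff.mp hx
    obtain ⟨c', hc'⟩ := Cfsg.Agent.S5561.mem_conj_iff.mp hd'
    refine ⟨c * c'⁻¹, ?_⟩
    rw [← hc, ← hc']; group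
  have hcomm2 : ∀ x y : G, x * x = 1 → y * y = 1 → (x * y) ^ 2 = 1 → Commute x y := by
    intro x y hx hy h
    have h1 : x * y * (x * y) = 1 := by rwa [pow_two] at h
    have h2 : (x * y)⁻¹ = x * y := inv_eq_of_mul_eq_one_left h1
    rw [mul_inv_rev, inv_eq_of_mul_eq_one_right hx, inv_eq_of_mul_eq_one_right hy] at h2
    exact h2.symm
  have h3 : ∀ a ∈ D, ∀ b ∈ D, Commute a b ∨ (a * b) ^ 3 = 1 := by
    intro a ha b hb
    rcases hset.2 a ha b hb with h | h
    · exact Or.inl (hcomm2 a b (hinv a ha) (hinv b hb) h)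
    · exact Or.inr h
  have hdd := hinv d hd
  have hdi := hinvi d hd
  have hcentral : ∀ N : Subgroup G, N.Normal → (∀ x ∈ N, x * d = d * x) →
      N ≤ Subgroup.center G := by
    intro N hN hNd x hx
    rw [Subgroup.mem_center_iff]
    intro g
    have hg : g ∈ Subgroup.closure D := by rw [hgen]; exact Subgroup.mem_top g
    have hle : Subgroup.closure D ≤ Subgroup.centralizer {x} := by
      rw [Subgroup.closure_le]
      intro e he
      rw [SetLike.mem_coe, Subgroup.mem_centralizer_iff]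
      intro h hh
      rw [Set.mem_singleton_iff.mp hh]
      obtain ⟨c, rfl⟩ := hcls' e he
      have h1 := hNd (c⁻¹ * x * c) (by
        have := hN.conj_mem x hx c⁻¹
        rwa [inv_inv] at this)
      have e1 : x * (c * d * c⁻¹) = c * (c⁻¹ * x * c * d) * c⁻¹ := by group
      have e2 : c * d * c⁻¹ * x = c * (d * (c⁻¹ * x * c)) * c⁻¹ := by group
      rw [e1, e2, h1]
    exact (Subgroup.mem_centralizer_iff.mp (hle hg) x (Set.mem_singleton x)).symm
  obtain ⟨kk, hkk⟩ : ∃ kk : G → G, ∀ x, kk x = d * (x * d * x⁻¹) :=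
    ⟨fun x => d * (x * d * x⁻¹), fun _ => rfl⟩
  have hkkN : ∀ N : Subgroup G, N.Normal → ∀ x ∈ N, kk x ∈ N := by
    intro N hN x hx
    rw [hkk]
    have h1 := hN.conj_mem x hx d
    rw [hdi] at h1
    have e : d * (x * d * x⁻¹) = d * x * d * x⁻¹ := by group
    rw [e]
    exact N.mul_mem h1 (N.inv_mem hx)
  have hkk23 : ∀ x, (kk x) ^ 2 = 1 ∨ (kk x) ^ 3 = 1 := by
    intro x; rw [hkk]; exact hset.2 d hd _ (hconj x d hd)
  have hkk1 : ∀ x, kk x = 1 → x * d = d * x := by
    intro x h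
    rw [hkk] at h
    have h2 := eq_inv_of_mul_eq_one_right h
    rw [hdi] at h2
    have h4 := congrArg (fun t => t * x) h2
    simpa using h4
  have hkkmul : ∀ x y, kk (x * y) = kk x * (x * kk y * x⁻¹) := by
    intro x y
    rw [hkk, hkk, hkk]
    have e : d * (x * d * x⁻¹) * (x * (d * (y * d * y⁻¹)) * x⁻¹) =
        d * x * (d * d) * (y * d * y⁻¹) * x⁻¹ := by group
    rw [e, hdd]; group
  -- part (a)
  have hpartA : ∀ p : ℕ, p.Prime → 3 < p → Cfsg.pCore p G ≤ Subgroup.center G := by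
    intro p hp hp3
    haveI : Fact p.Prime := ⟨hp⟩
    apply hcentral _ (Cfsg.Agent.Lib.Lead.Cores.pCore_normal p)
    intro x hx
    apply hkk1
    have hu := hkkN _ (Cfsg.Agent.Lib.Lead.Cores.pCore_normal p) x hx
    obtain ⟨k, hk⟩ := (Cfsg.Agent.Lib.Lead.Cores.pCore_isPGroup (G := G) p) ⟨kk x, hu⟩
    have hk' : (kk x) ^ p ^ k = 1 := by simpa using congrArg Subtype.val hk
    have hp2 : Nat.Coprime 2 p := (Nat.coprime_primes Nat.prime_two hp).mpr (by omega)
    have hp3' : Nat.Coprime 3 p := (Nat.coprime_primes Nat.prime_three hp).mpr (by omega)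
    rcases hkk23 x with h | h
    · exact eq_one_of_pow h hk' (Nat.Coprime.pow_right k hp2)
    · exact eq_one_of_pow h hk' (Nat.Coprime.pow_right k hp3')
  obtain ⟨A2, hA2⟩ : ∃ A2 : Subgroup G, A2 = Cfsg.pCore 2 G := ⟨_, rfl⟩
  obtain ⟨A3, hA3⟩ : ∃ A3 : Subgroup G, A3 = Cfsg.pCore 3 G := ⟨_, rfl⟩
  obtain ⟨E, hE⟩ : ∃ E : Subgroup G, E = Cfsg.layer G := ⟨_, rfl⟩
  have hA2n : A2.Normal := by rw [hA2]; exact Cfsg.Agent.Lib.Lead.Cores.pCore_normal 2
  have hA3n : A3.Normal := by rw [hA3]; exact Cfsg.Agent.Lib.Lead.Cores.pCore_normal 3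
  have hEn : E.Normal := by rw [hE]; exact Cfsg.Agent.Lib.Helper9.layer_normal G
  have hA2p : ∀ x ∈ A2, ∃ k : ℕ, x ^ 2 ^ k = 1 := by
    intro x hx
    rw [hA2] at hx
    obtain ⟨k, hk⟩ := (Cfsg.Agent.Lib.Lead.Cores.pCore_isPGroup (G := G) 2) ⟨x, hx⟩
    exact ⟨k, by simpa using congrArg Subtype.val hk⟩
  have hA3p : ∀ x ∈ A3, ∃ k : ℕ, x ^ 3 ^ k = 1 := by
    intro x hx
    rw [hA3] at hx
    obtain ⟨k, hk⟩ := (Cfsg.Agent.Lib.Lead.Cores.pCore_isPGroup (G := G) 3) ⟨x, hx⟩
    exact ⟨k, by simpa using congrArg Subtype.val hk⟩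
  have hEA2 : ∀ x ∈ E, ∀ a ∈ A2, x * a = a * x := by
    intro x hx a ha
    rw [hE] at hx
    rw [hA2] at ha
    have h1 := Cfsg.Agent.Lib.Helper9.layer_le_centralizer_fitting G hx
    have h2 := Cfsg.Agent.Lib.Lead.Cores.pCore_le_fittingSubgroup (G := G) 2 ha
    exact (Subgroup.mem_centralizer_iff.mp h1 a h2).symm
  have hEA3 : ∀ x ∈ E, ∀ a ∈ A3, x * a = a * x := by
    intro x hx a ha
    rw [hE] at hx
    rw [hA3] at ha
    have h1 := Cfsg.Agent.Lib.Helper9.layer_le_centralizer_fitting G hx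
    have h2 := Cfsg.Agent.Lib.Lead.Cores.pCore_le_fittingSubgroup (G := G) 3 ha
    exact (Subgroup.mem_centralizer_iff.mp h1 a h2).symm
  have hA23 : ∀ a ∈ A2, ∀ b ∈ A3, a * b = b * a := by
    intro a ha b hb
    have h1 : a * b * a⁻¹ * b⁻¹ ∈ A3 := A3.mul_mem (hA3n.conj_mem b hb a) (A3.inv_mem hb)
    have h2 : a * b * a⁻¹ * b⁻¹ ∈ A2 := by
      have e : a * b * a⁻¹ * b⁻¹ = a * (b * a⁻¹ * b⁻¹) := by group
      rw [e]
      exact A2.mul_mem ha (hA2n.conj_mem a⁻¹ (A2.inv_mem ha) b)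
    obtain ⟨j, hj⟩ := hA2p _ h2
    obtain ⟨k, hk⟩ := hA3p _ h1
    have h3' : a * b * a⁻¹ * b⁻¹ = 1 := eq_one_of_pow hj hk (Nat.Coprime.pow j k (by norm_num))
    have h4 := congrArg (fun t => t * b * a) h3'
    simpa using h4
  have hwit : ∀ N : Subgroup G, N.Normal → ¬ N ≤ Subgroup.center G → ∃ a ∈ N, kk a ≠ 1 := by
    intro N hN hnc
    by_contra hcon
    apply hnc
    apply hcentral N hN
    intro x hx
    apply hkk1
    by_contra h
    exact hcon ⟨x, hx, h⟩
  -- O_2 and O_3 are not both non-central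
  have hF23 : ¬ (¬ A2 ≤ Subgroup.center G ∧ ¬ A3 ≤ Subgroup.center G) := by
    rintro ⟨h2, h3'⟩
    obtain ⟨a, haA, hz1⟩ := hwit A2 hA2n h2
    obtain ⟨b, hbA, hw1⟩ := hwit A3 hA3n h3'
    have hzA := hkkN A2 hA2n a haA
    have hwA := hkkN A3 hA3n b hbA
    have hzz : kk a ^ 2 = 1 := by
      rcases hkk23 a with h | h
      · exact h
      · exfalso
        obtain ⟨j, hj⟩ := hA2p _ hzA
        exact hz1 (eq_one_of_pow h hj (Nat.Coprime.pow_right j (by norm_num)))
    have hw3 : kk b ^ 3 = 1 := by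
      rcases hkk23 b with h | h
      · exfalso
        obtain ⟨j, hj⟩ := hA3p _ hwA
        exact hw1 (eq_one_of_pow h hj (Nat.Coprime.pow_right j (by norm_num)))
      · exact h
    have hcomm : Commute (kk b) (kk a) := (hA23 _ hzA _ hwA).symm
    have hmul : kk (b * a) = kk b * kk a := by
      rw [hkkmul]
      have h5 : b * kk a * b⁻¹ = kk a := by
        rw [← hA23 _ hzA b hbA, mul_inv_cancel_right]
      rw [h5]
    rcases hkk23 (b * a) with h | h
    · rw [hmul, hcomm.mul_pow, hzz, mul_one] at h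
      exact hw1 (eq_one_of_pow h hw3 (by norm_num))
    · rw [hmul, hcomm.mul_pow, hw3, one_mul] at h
      exact hz1 (eq_one_of_pow hzz h (by norm_num))
  -- if d acts on E through central elements, E is trivial
  have hEcent : (∀ x ∈ E, ∀ y ∈ E, kk x * y = y * kk x) → E = ⊥ := by
    intro hcen
    have hperf : ⁅E, E⁆ = E := by rw [hE]; exact Cfsg.Agent.Lib.Helper9.layer_perfect G
    have hdx : ∀ x ∈ E, d * x * d⁻¹ = kk x * x := by
      intro x hx
      rw [hkk, hdi]; group
    have h1 : ⁅E, E⁆ ≤ Subgroup.centralizer {d} := by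
      rw [Subgroup.commutator_le]
      intro x hx y hy
      rw [Subgroup.mem_centralizer_iff]
      intro h hh
      rw [Set.mem_singleton_iff.mp hh, commutatorElement_def]
      have e1 : d * (x * y * x⁻¹ * y⁻¹) * d⁻¹ =
          (d * x * d⁻¹) * (d * y * d⁻¹) * (d * x * d⁻¹)⁻¹ * (d * y * d⁻¹)⁻¹ := by group
      have hky := hkkN E hEn y hy
      have e2 := comm_central (c := kk x) (c' := kk y) (x := x) (y := y) (hcen x hx x hx)
        (hcen x hx y hy) (hcen x hx (kk y) hky) (hcen y hy x hx) (hcen y hy y hy)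
      rw [hdx x hx, hdx y hy, e2] at e1
      have h4 := congrArg (fun t => t * d) e1
      simpa using h4
    rw [hperf] at h1
    have h2 : E ≤ Subgroup.center G := by
      apply hcentral E hEn
      intro x hx
      exact (Subgroup.mem_centralizer_iff.mp (h1 hx) d (Set.mem_singleton d)).symm
    have h3' : ⁅E, E⁆ = ⊥ := by
      rw [eq_bot_iff, Subgroup.commutator_le]
      intro x hx y hy
      rw [Subgroup.mem_bot, commutatorElement_eq_one_iff_commute]
      exact (Subgroup.mem_center_iff.mp (h2 hx) y).symm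
    rw [hperf] at h3'
    exact h3'
  -- O_2 non-central forces E = 1
  have hFE2 : ¬ A2 ≤ Subgroup.center G → E = ⊥ := by
    intro h2
    obtain ⟨a, haA, hz1⟩ := hwit A2 hA2n h2
    have hzA := hkkN A2 hA2n a haA
    have hzz : kk a ^ 2 = 1 := by
      rcases hkk23 a with h | h
      · exact h
      · exfalso
        obtain ⟨j, hj⟩ := hA2p _ hzA
        exact hz1 (eq_one_of_pow h hj (Nat.Coprime.pow_right j (by norm_num)))
    have hsq : ∀ x ∈ E, kk x ^ 2 = 1 := by
      intro x hx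
      have huE := hkkN E hEn x hx
      have hcomm : Commute (kk x) (kk a) := hEA2 _ huE _ hzA
      have hmul : kk (x * a) = kk x * kk a := by
        rw [hkkmul]
        have h5 : x * kk a * x⁻¹ = kk a := by
          rw [hEA2 x hx _ hzA, mul_inv_cancel_right]
        rw [h5]
      rcases hkk23 x with h | h
      · exact h
      · rcases hkk23 (x * a) with h' | h'
        · rw [hmul, hcomm.mul_pow, hzz, mul_one] at h'
          exact h'
        · rw [hmul, hcomm.mul_pow, h, one_mul] at h'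
          exact absurd (eq_one_of_pow hzz h' (by norm_num)) hz1
    have hcd : ∀ x ∈ E, Commute d (x * d * x⁻¹) := by
      intro x hx
      have h5 := hsq x hx
      rw [hkk] at h5
      exact hcomm2 _ _ hdd (hinv _ (hconj x d hd)) h5
    have hcxy : ∀ x ∈ E, ∀ y ∈ E, Commute (x * d * x⁻¹) (y * d * y⁻¹) := by
      intro x hx y hy
      have h1 : d * ((x⁻¹ * y) * d * (x⁻¹ * y)⁻¹) = ((x⁻¹ * y) * d * (x⁻¹ * y)⁻¹) * d :=
        hcd _ (E.mul_mem (E.inv_mem hx) hy)
      show x * d * x⁻¹ * (y * d * y⁻¹) = y * d * y⁻¹ * (x * d * x⁻¹)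
      have e1 : x * d * x⁻¹ * (y * d * y⁻¹) =
          x * (d * ((x⁻¹ * y) * d * (x⁻¹ * y)⁻¹)) * x⁻¹ := by group
      have e2 : y * d * y⁻¹ * (x * d * x⁻¹) =
          x * (((x⁻¹ * y) * d * (x⁻¹ * y)⁻¹) * d) * x⁻¹ := by group
      rw [e1, e2, h1]
    have hkcomm : ∀ x ∈ E, ∀ y ∈ E, kk x * kk y = kk y * kk x := by
      intro x hx y hy
      rw [hkk, hkk]
      have c1 := hcd x hx
      have c2 := hcd y hy
      have c3 := hcxy x hx y hy
      exact (((Commute.refl d).mul_left c1.symm).mul_right (c2.mul_left c3)).eq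
    obtain ⟨S, hS⟩ : ∃ S : Set G, S = {t | ∃ x ∈ E, t = kk x} := ⟨_, rfl⟩
    have hSmem : ∀ x ∈ E, kk x ∈ S := by
      intro x hx; rw [hS]; exact ⟨x, hx, rfl⟩
    have hSel : ∀ t ∈ S, ∃ x ∈ E, t = kk x := by
      intro t ht; rw [hS] at ht; exact ht
    obtain ⟨N, hN⟩ : ∃ N : Subgroup G, N = Subgroup.closure S := ⟨_, rfl⟩
    have hNE : N ≤ E := by
      rw [hN, Subgroup.closure_le]
      intro t ht
      obtain ⟨x, hx, rfl⟩ := hSel t ht
      exact hkkN E hEn x hx
    have hNa : N ≤ Subgroup.centralizer S := by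
      rw [hN, Subgroup.closure_le]
      intro t ht
      obtain ⟨x, hx, rfl⟩ := hSel t ht
      rw [SetLike.mem_coe, Subgroup.mem_centralizer_iff]
      intro s hs
      obtain ⟨y, hy, rfl⟩ := hSel s hs
      exact hkcomm y hy x hx
    have hNcomm : ∀ s ∈ N, ∀ t ∈ N, s * t = t * s := by
      intro s hs
      have hle : N ≤ Subgroup.centralizer {s} := by
        rw [hN, Subgroup.closure_le]
        intro t ht
        rw [SetLike.mem_coe, Subgroup.mem_centralizer_iff]
        intro h hh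
        rw [Set.mem_singleton_iff.mp hh]
        exact (Subgroup.mem_centralizer_iff.mp (hNa hs) t ht).symm
      intro t ht
      exact Subgroup.mem_centralizer_iff.mp (hle ht) s (Set.mem_singleton s)
    have hNnorm : ∀ y ∈ E, ∀ n ∈ N, y * n * y⁻¹ ∈ N := by
      intro y hy
      rw [hN]
      apply Cfsg.Agent.S5349.conj_closure
      intro t ht
      obtain ⟨x, hx, rfl⟩ := hSel t ht
      have e : y * kk x * y⁻¹ = (kk y)⁻¹ * kk (y * x) := by
        rw [hkkmul y x]; group
      rw [e]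
      exact Subgroup.mul_mem _ (Subgroup.inv_mem _ (Subgroup.subset_closure (hSmem y hy)))
        (Subgroup.subset_closure (hSmem (y * x) (E.mul_mem hy hx)))
    have hNsub : (N.subgroupOf E).Normal := by
      constructor
      intro n hn g
      rw [Subgroup.mem_subgroupOf] at hn ⊢
      have h5 := hNnorm g g.2 n hn
      simpa using h5
    have hNsn : N.IsSubnormal := Subgroup.IsSubnormal.step N E hNE hEn.isSubnormal hNsub
    have hEN := Cfsg.Agent.Lib.Helper9.layer_le_centralizer_of_solvable hNsn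
      (Group.isSolvable_of_comm (fun a b => Subtype.ext (hNcomm a a.2 b b.2)))
    apply hEcent
    intro x hx y hy
    rw [hE] at hy
    exact Subgroup.mem_centralizer_iff.mp (hEN hy) (kk x)
      (by rw [hN]; exact Subgroup.subset_closure (hSmem x hx))
  -- O_3 non-central forces E = 1
  have hFE3 : ¬ A3 ≤ Subgroup.center G → E = ⊥ := by
    intro h3'
    obtain ⟨b, hbA, hw1⟩ := hwit A3 hA3n h3'
    have hwA := hkkN A3 hA3n b hbA
    have hw3 : kk b ^ 3 = 1 := by
      rcases hkk23 b with h | h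
      · exfalso
        obtain ⟨j, hj⟩ := hA3p _ hwA
        exact hw1 (eq_one_of_pow h hj (Nat.Coprime.pow_right j (by norm_num)))
      · exact h
    obtain ⟨w, hw⟩ : ∃ w : G, w = kk b := ⟨_, rfl⟩
    rw [← hw] at hw1 hwA hw3
    have hcube : ∀ x ∈ E, kk x ^ 3 = 1 := by
      intro x hx
      have huE := hkkN E hEn x hx
      have hcomm : Commute (kk x) w := hEA3 _ huE _ hwA
      have hmul : kk (x * b) = kk x * w := by
        rw [hkkmul, ← hw]
        have h5 : x * w * x⁻¹ = w := by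
          rw [hEA3 x hx _ hwA, mul_inv_cancel_right]
        rw [h5]
      rcases hkk23 x with h | h
      · rcases hkk23 (x * b) with h' | h'
        · rw [hmul, hcomm.mul_pow, h, one_mul] at h'
          exact absurd (eq_one_of_pow h' hw3 (by norm_num)) hw1
        · rw [hmul, hcomm.mul_pow, hw3, mul_one] at h'
          exact h'
      · exact h
    have hcubeD : ∀ y ∈ D, ∀ x ∈ E, (y * (x * y * x⁻¹)) ^ 3 = 1 := by
      intro y hy x hx
      obtain ⟨g, rfl⟩ := hcls' y hy
      have hx' : g⁻¹ * x * g ∈ E := by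
        have h5 := hEn.conj_mem x hx g⁻¹
        rwa [inv_inv] at h5
      have h := hcube _ hx'
      rw [hkk] at h
      have e : g * d * g⁻¹ * (x * (g * d * g⁻¹) * x⁻¹) =
          g * (d * (g⁻¹ * x * g * d * (g⁻¹ * x * g)⁻¹)) * g⁻¹ := by group
      rw [e, conj_pow, h]; group
    have hyw : ∀ y ∈ D, y ≠ d → Commute d y → y * w = w * y := by
      intro y hy hne hc
      have hmem : b * d * b⁻¹ ∈ {w : G | ∃ g ∈ Cfsg.pCore 3 G, w = g * d * g⁻¹} :=
        ⟨b, by rw [← hA3]; exact hbA, rfl⟩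
      rw [← h50.2] at hmem
      have heq := hmem.2
      have hy' : y ∈ {y : G | y ∈ D ∧ y ≠ d ∧ Commute d y} := ⟨hy, hne, hc⟩
      rw [heq] at hy'
      have hc2 : b * d * b⁻¹ * y = y * (b * d * b⁻¹) := hy'.2.2
      have hc1 : d * y = y * d := hc
      rw [hw, hkk]
      calc y * (d * (b * d * b⁻¹)) = (y * d) * (b * d * b⁻¹) := by group
        _ = (d * y) * (b * d * b⁻¹) := by rw [hc1]
        _ = d * (y * (b * d * b⁻¹)) := by group
        _ = d * ((b * d * b⁻¹) * y) := by rw [hc2]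
        _ = d * (b * d * b⁻¹) * y := by group
    have hdwd : d * w * d⁻¹ = w⁻¹ := by
      rw [hw, hkk, hdi]
      have hb2 := hinv _ (hconj b d hd)
      have e1 : d * (d * (b * d * b⁻¹)) * d = (d * d) * (b * d * b⁻¹) * d := by group
      have e2 : (d * (b * d * b⁻¹))⁻¹ = (b * d * b⁻¹)⁻¹ * d⁻¹ := by group
      rw [e1, e2, hdd, one_mul, hdi, inv_eq_of_mul_eq_one_right hb2]
    have hclaimC : ∀ y ∈ D, y ≠ d → Commute d y → ∀ x ∈ E, Commute d (x⁻¹ * y * x) := by
      intro y hy hne hc x hx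
      have hyy := hinv y hy
      have hxi : x⁻¹ ∈ E := E.inv_mem hx
      obtain ⟨v, hv⟩ : ∃ v : G, v = y * (x⁻¹ * y * x) := ⟨_, rfl⟩
      have hvE : v ∈ E := by
        have h1 := hEn.conj_mem x⁻¹ hxi y
        rw [hinvi y hy] at h1
        have e : v = y * x⁻¹ * y * x := by rw [hv]; group
        rw [e]
        exact E.mul_mem h1 hx
      have hyD' : x⁻¹ * y * x ∈ D := by
        have h5 := hconj x⁻¹ y hy
        rwa [inv_inv] at h5
      have hxyx : x⁻¹ * y * x = y * v := by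
        have e : y * (y * (x⁻¹ * y * x)) = (y * y) * (x⁻¹ * y * x) := by group
        rw [hv, e, hyy, one_mul]
      have hvw : v * w = w * v := hEA3 v hvE w hwA
      have hyw' := hyw y hy hne hc
      obtain ⟨s, hs⟩ : ∃ s : G, s = d * (x⁻¹ * y * x) := ⟨_, rfl⟩
      rcases hset.2 d hd _ hyD' with h | h
      · exact hcomm2 _ _ hdd (hinv _ hyD') h
      · exfalso
        rw [← hs] at h
        have hsw : s * w * s⁻¹ = w⁻¹ := by
          rw [hs, hxyx]
          have e : d * (y * v) * w * (d * (y * v))⁻¹ =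
              d * (y * (v * w * v⁻¹) * y⁻¹) * d⁻¹ := by group
          rw [e]
          have e2 : v * w * v⁻¹ = w := by rw [hvw, mul_inv_cancel_right]
          have e3 : y * w * y⁻¹ = w := by rw [hyw', mul_inv_cancel_right]
          rw [e2, e3, hdwd]
        have h1 : s ^ 3 * w * (s ^ 3)⁻¹ = w⁻¹ := by
          have e : s ^ 3 * w * (s ^ 3)⁻¹ = s * (s * (s * w * s⁻¹) * s⁻¹) * s⁻¹ := by
            rw [pow_three]; group
          rw [e, hsw]
          have e2 : s * w⁻¹ * s⁻¹ = (s * w * s⁻¹)⁻¹ := by group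
          rw [e2, hsw, inv_inv, hsw]
        rw [h, one_mul, inv_one, mul_one] at h1
        have h2 : w ^ 2 = 1 := by
          rw [pow_two]
          have h4 := congrArg (fun t => t * w) h1
          simpa using h4
        exact hw1 (eq_one_of_pow h2 hw3 (by norm_num))
    have hk1 : ∀ x ∈ E, Commute d (x * d * x⁻¹) → x * d * x⁻¹ = d := by
      intro x hx hc
      have h2 : kk x ^ 2 = 1 := by
        rw [hkk, pow_two]
        have hc' : d * (x * d * x⁻¹) = x * d * x⁻¹ * d := hc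
        have e : d * (x * d * x⁻¹) * (d * (x * d * x⁻¹)) =
            d * (x * d * x⁻¹ * d) * (x * d * x⁻¹) := by group
        rw [e, ← hc']
        have e2 : d * (d * (x * d * x⁻¹)) * (x * d * x⁻¹) =
            (d * d) * ((x * d * x⁻¹) * (x * d * x⁻¹)) := by group
        rw [e2, hdd, hinv _ (hconj x d hd), one_mul]
      have h1 := eq_one_of_pow h2 (hcube x hx) (by norm_num)
      rw [hkk] at h1
      have h4 := eq_inv_of_mul_eq_one_right h1
      rw [hdi] at h4
      exact h4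
    have hrel : ∀ x ∈ E, Cfsg.Agent.S5350.RelW D d (x * d * x⁻¹) := by
      intro x hx
      show Cfsg.Agent.S5350.part D d = Cfsg.Agent.S5350.part D (x * d * x⁻¹)
      ext y
      show (y ∈ D ∧ y ≠ d ∧ Commute d y) ↔
        (y ∈ D ∧ y ≠ x * d * x⁻¹ ∧ Commute (x * d * x⁻¹) y)
      constructor
      · rintro ⟨hyD, hyne, hyc⟩
        have hC := hclaimC y hyD hyne hyc x hx
        have hcc : Commute (x * d * x⁻¹) y := by
          show x * d * x⁻¹ * y = y * (x * d * x⁻¹)
          have hC' : d * (x⁻¹ * y * x) = x⁻¹ * y * x * d := hC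
          have e1 : x * d * x⁻¹ * y = x * (d * (x⁻¹ * y * x)) * x⁻¹ := by group
          have e2 : y * (x * d * x⁻¹) = x * (x⁻¹ * y * x * d) * x⁻¹ := by group
          rw [e1, e2, hC']
        refine ⟨hyD, ?_, hcc⟩
        intro heq
        rw [heq] at hyc
        exact hyne (by rw [heq]; exact hk1 x hx hyc)
      · rintro ⟨hyD, hyne, hyc⟩
        obtain ⟨y', hy'⟩ : ∃ y' : G, y' = x⁻¹ * y * x := ⟨_, rfl⟩
        have hy'D : y' ∈ D := by
          have h5 := hconj x⁻¹ y hyD
          rw [inv_inv] at h5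
          rw [hy']; exact h5
        have hy'c : Commute d y' := by
          show d * y' = y' * d
          have hyc' : x * d * x⁻¹ * y = y * (x * d * x⁻¹) := hyc
          have e1 : d * y' = x⁻¹ * (x * d * x⁻¹ * y) * x := by rw [hy']; group
          have e2 : y' * d = x⁻¹ * (y * (x * d * x⁻¹)) * x := by rw [hy']; group
          rw [e1, e2, hyc']
        have hy'ne : y' ≠ d := by
          intro heq
          apply hyne
          have e : y = x * y' * x⁻¹ := by rw [hy']; group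
          rw [e, heq]
        have hC := hclaimC y' hy'D hy'ne hy'c x⁻¹ (E.inv_mem hx)
        have e : x⁻¹⁻¹ * y' * x⁻¹ = y := by rw [hy']; group
        rw [e] at hC
        refine ⟨hyD, ?_, hC⟩
        intro heq
        rw [heq] at hyc hyne
        exact hyne (hk1 x hx hyc.symm).symm
    have hkA3 : ∀ x ∈ E, kk x ∈ A3 := by
      intro x hx
      have h5 := Cfsg.Agent.S5350.core_of_rel hset.1 hinv h3 hconj hd (hconj x d hd) (hrel x hx)
      rw [hdi] at h5
      rw [hkk, hA3]
      exact h5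
    apply hEcent
    intro x hx y hy
    exact (hEA3 y hy _ (hkA3 x hx)).symm
  -- O_2, O_3 central forces E ≠ 1
  have hFE0 : A2 ≤ Subgroup.center G → A3 ≤ Subgroup.center G → E ≠ ⊥ := by
    intro h2 h3' hEbot
    have hF : Cfsg.fittingSubgroup G ≤ Subgroup.center G := by
      rw [Cfsg.Agent.Lib.Lead.Cores.fittingSubgroup_eq_iSup_pCore]
      apply iSup_le
      intro p
      by_cases hp2 : (p : ℕ) = 2
      · rw [hp2, ← hA2]; exact h2
      · by_cases hp3 : (p : ℕ) = 3
        · rw [hp3, ← hA3]; exact h3'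
        · have hp := p.2
          have h2le := hp.two_le
          exact hpartA p hp (by omega)
    have hFstar : Cfsg.generalizedFittingSubgroup G ≤ Subgroup.center G := by
      unfold Cfsg.generalizedFittingSubgroup
      rw [← hE, hEbot, bot_sup_eq]
      exact hF
    have hcen := Cfsg.Agent.Lib.Helper9.centralizer_gfitting_le G
    have hdc : d ∈ Subgroup.center G := by
      apply hFstar
      apply hcen
      rw [Subgroup.mem_centralizer_iff]
      intro h hh
      exact (Subgroup.mem_center_iff.mp (hFstar hh) d).symm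
    apply hdd1
    obtain ⟨g, rfl⟩ := hcls' d1 hd1
    have h5 := Subgroup.mem_center_iff.mp hdc g
    rw [h5, mul_inv_cancel_right]
  refine ⟨hpartA, ?_⟩
  rw [← hA2, ← hA3, ← hE]
  by_cases h2 : A2 ≤ Subgroup.center G
  · by_cases h3' : A3 ≤ Subgroup.center G
    · exact Or.inr (Or.inr ⟨h2, h3', hFE0 h2 h3'⟩)
    · exact Or.inr (Or.inl ⟨h2, h3', hFE3 h3'⟩)
  · have h3' : A3 ≤ Subgroup.center G := by
      by_contra h; exact hF23 ⟨h2, h⟩
    exact Or.inl ⟨h2, h3', hFE2 h2⟩

end Cfsg.Agent.S5351
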