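import Cfsg.Statements.S5352
import Mathlib
import Cfsg.Prelude.Def_Local
import Cfsg.Agent.Lib.Lead.Cores
import Cfsg.Agent.Lib.Helper9.Components
import Cfsg.Agent.Lib.Helper9.Misc
import Cfsg.Agent.S0144
import Cfsg.Agent.S5349
import Cfsg.Agent.S5351
import Cfsg.Agent.S5561

set_option autoImplicit false
open Cfsg

namespace Cfsg.Agent.S5352

open scoped commutatorElement

universe u

/-- a finite group all of whose elements have order 1, 2 or 3 is solvable (Burnside). -/
theorem solvable_of_orders {S : Type*} [Group S] [Finite S]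
    (h : ∀ x : S, x ^ 2 = 1 ∨ x ^ 3 = 1) : Group.IsSolvable S := by
  have hn : Nat.card S ≠ 0 := Nat.card_pos.ne'
  obtain ⟨a, m, hm2, hnm⟩ := Nat.exists_eq_pow_mul_and_not_dvd hn 2 (by norm_num)
  have hm0 : m ≠ 0 := by
    rintro rfl
    rw [mul_zero] at hnm
    exact hn hnm
  obtain ⟨b, m', hm3, hmm'⟩ := Nat.exists_eq_pow_mul_and_not_dvd hm0 3 (by norm_num)
  have hm'1 : m' = 1 := by
    by_contra hne
    obtain ⟨p, hp, hpd⟩ := Nat.exists_prime_and_dvd hne
    haveI : Fact p.Prime := ⟨hp⟩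
    have hpn : p ∣ Nat.card S := by
      rw [hnm, hmm']
      exact Dvd.dvd.mul_left (Dvd.dvd.mul_left hpd _) _
    obtain ⟨x, hx⟩ := exists_prime_orderOf_dvd_card' p hpn
    rcases h x with h2 | h3
    · have h5 : p ∣ 2 := by rw [← hx]; exact orderOf_dvd_of_pow_eq_one h2
      have hp2 : p = 2 := (Nat.prime_dvd_prime_iff_eq hp Nat.prime_two).mp h5
      rw [hp2] at hpd
      exact hm2 (by rw [hmm']; exact Dvd.dvd.mul_left hpd _)
    · have h5 : p ∣ 3 := by rw [← hx]; exact orderOf_dvd_of_pow_eq_one h3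
      have hp3 : p = 3 := (Nat.prime_dvd_prime_iff_eq hp Nat.prime_three).mp h5
      rw [hp3] at hpd
      exact hm3 hpd
  rw [hm'1, mul_one] at hmm'
  rw [hmm'] at hnm
  exact Cfsg.Agent.S0144.result 2 3 a b Nat.prime_two Nat.prime_three hnm

section kk

variable {G : Type u} [Group G]

theorem kk_mul {d : G} (hdd : d * d = 1) (x y : G) :
    d * (x * y * d * (x * y)⁻¹) = d * (x * d * x⁻¹) * (x * (d * (y * d * y⁻¹)) * x⁻¹) := by
  have e : d * (x * d * x⁻¹) * (x * (d * (y * d * y⁻¹)) * x⁻¹) =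
      d * x * (d * d) * (y * d * y⁻¹) * x⁻¹ := by group
  rw [e, hdd]; group

theorem kk_mem {d : G} (hdd : d * d = 1) {N : Subgroup G} (hN : N.Normal) {x : G} (hx : x ∈ N) :
    d * (x * d * x⁻¹) ∈ N := by
  have hdi : d⁻¹ = d := inv_eq_of_mul_eq_one_right hdd
  have h1 := hN.conj_mem x hx d
  rw [hdi] at h1
  have e : d * (x * d * x⁻¹) = d * x * d * x⁻¹ := by group
  rw [e]
  exact N.mul_mem h1 (N.inv_mem hx)

theorem kk_eq_one {d : G} (hdd : d * d = 1) {x : G} (h : d * (x * d * x⁻¹) = 1) :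
    x * d = d * x := by
  have hdi : d⁻¹ = d := inv_eq_of_mul_eq_one_right hdd
  have h2 := eq_inv_of_mul_eq_one_right h
  rw [hdi] at h2
  have h4 := congrArg (fun t => t * x) h2
  simpa using h4

theorem kk_one_of_comm {d : G} (hdd : d * d = 1) {x : G} (h : x * d = d * x) :
    d * (x * d * x⁻¹) = 1 := by
  have e : d * (x * d * x⁻¹) = (d * x) * d * x⁻¹ := by group
  rw [e, ← h]
  have e2 : x * d * d * x⁻¹ = x * (d * d) * x⁻¹ := by group
  rw [e2, hdd]; group

/-- if the elements `d * (x d x⁻¹)`, `x ∈ K`, generate a solvable group, then the involution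
`d` centralises the normal component `K`. -/
theorem cent_of_solvable [Finite G] {K : Subgroup G} (hK : Cfsg.IsComponent K) (hKn : K.Normal)
    {d : G} (hdd : d * d = 1)
    (hsol : Group.IsSolvable ↥(Subgroup.closure {t : G | ∃ x ∈ K, t = d * (x * d * x⁻¹)})) :
    ∀ x ∈ K, x * d = d * x := by
  have hdi : d⁻¹ = d := inv_eq_of_mul_eq_one_right hdd
  obtain ⟨S, hS⟩ : ∃ S : Set G, S = {t : G | ∃ x ∈ K, t = d * (x * d * x⁻¹)} := ⟨_, rfl⟩
  rw [← hS] at hsol
  have hSmem : ∀ x ∈ K, d * (x * d * x⁻¹) ∈ S := by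
    intro x hx; rw [hS]; exact ⟨x, hx, rfl⟩
  have hSel : ∀ t ∈ S, ∃ x ∈ K, t = d * (x * d * x⁻¹) := by
    intro t ht; rw [hS] at ht; exact ht
  obtain ⟨N, hN⟩ : ∃ N : Subgroup G, N = Subgroup.closure S := ⟨_, rfl⟩
  rw [← hN] at hsol
  have hNK : N ≤ K := by
    rw [hN, Subgroup.closure_le]
    intro t ht
    obtain ⟨x, hx, rfl⟩ := hSel t ht
    exact kk_mem hdd hKn hx
  have hNnorm : ∀ y ∈ K, ∀ n ∈ N, y * n * y⁻¹ ∈ N := by
    intro y hy
    rw [hN]
    apply Cfsg.Agent.S5349.conj_closure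
    intro t ht
    obtain ⟨x, hx, rfl⟩ := hSel t ht
    have e : y * (d * (x * d * x⁻¹)) * y⁻¹ =
        (d * (y * d * y⁻¹))⁻¹ * (d * (y * x * d * (y * x)⁻¹)) := by
      rw [kk_mul hdd y x]; group
    rw [e]
    exact Subgroup.mul_mem _ (Subgroup.inv_mem _ (Subgroup.subset_closure (hSmem y hy)))
      (Subgroup.subset_closure (hSmem (y * x) (K.mul_mem hy hx)))
  have hNsub : (N.subgroupOf K).Normal := by
    constructor
    intro n hn g
    rw [Subgroup.mem_subgroupOf] at hn ⊢
    have h5 := hNnorm g g.2 n hn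
    simpa using h5
  have hNsn : N.IsSubnormal := Subgroup.IsSubnormal.step N K hNK hK.1 hNsub
  have hKN := Cfsg.Agent.Lib.Helper9.component_commute_of_solvable hK hNsn hsol
  rw [Subgroup.commutator_eq_bot_iff_le_centralizer] at hKN
  have hcen : ∀ x ∈ K, ∀ y ∈ K, d * (x * d * x⁻¹) * y = y * (d * (x * d * x⁻¹)) := by
    intro x hx y hy
    exact Subgroup.mem_centralizer_iff.mp (hKN hy) _
      (by rw [hN]; exact Subgroup.subset_closure (hSmem x hx))
  have hperf : ⁅K, K⁆ = K := Subgroup.isPerfect_iff.mp hK.2.1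
  have hdx : ∀ x : G, d * x * d⁻¹ = d * (x * d * x⁻¹) * x := by
    intro x
    rw [hdi]; group
  have h1 : ⁅K, K⁆ ≤ Subgroup.centralizer {d} := by
    rw [Subgroup.commutator_le]
    intro x hx y hy
    rw [Subgroup.mem_centralizer_iff]
    intro h hh
    rw [Set.mem_singleton_iff.mp hh, commutatorElement_def]
    have e1 : d * (x * y * x⁻¹ * y⁻¹) * d⁻¹ =
        (d * x * d⁻¹) * (d * y * d⁻¹) * (d * x * d⁻¹)⁻¹ * (d * y * d⁻¹)⁻¹ := by group
    have hky := kk_mem hdd hKn hy
    have e2 := Cfsg.Agent.S5351.comm_central (c := d * (x * d * x⁻¹)) (c' := d * (y * d * y⁻¹))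
      (x := x) (y := y) (hcen x hx x hx) (hcen x hx y hy) (hcen x hx _ hky) (hcen y hy x hx)
      (hcen y hy y hy)
    rw [hdx x, hdx y, e2] at e1
    have h4 := congrArg (fun t => t * d) e1
    simpa using h4
  rw [hperf] at h1
  intro x hx
  exact (Subgroup.mem_centralizer_iff.mp (h1 hx) d (Set.mem_singleton d)).symm

theorem sol_of_sq {K : Subgroup G} {d : G} (hdd : d * d = 1)
    (h : ∀ x ∈ K, (d * (x * d * x⁻¹)) ^ 2 = 1) :
    Group.IsSolvable ↥(Subgroup.closure {t : G | ∃ x ∈ K, t = d * (x * d * x⁻¹)}) := by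
  have hcd : ∀ x ∈ K, Commute d (x * d * x⁻¹) := by
    intro x hx
    have h1 := h x hx
    rw [pow_two] at h1
    have hee : (x * d * x⁻¹) * (x * d * x⁻¹) = 1 := by
      have e : x * d * x⁻¹ * (x * d * x⁻¹) = x * (d * d) * x⁻¹ := by group
      rw [e, hdd]; group
    have h2 : (d * (x * d * x⁻¹))⁻¹ = d * (x * d * x⁻¹) := inv_eq_of_mul_eq_one_left h1
    rw [mul_inv_rev, inv_eq_of_mul_eq_one_right hdd, inv_eq_of_mul_eq_one_right hee] at h2
    exact h2.symm
  have hcxy : ∀ x ∈ K, ∀ y ∈ K, Commute (x * d * x⁻¹) (y * d * y⁻¹) := by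
    intro x hx y hy
    have h1 : d * ((x⁻¹ * y) * d * (x⁻¹ * y)⁻¹) = ((x⁻¹ * y) * d * (x⁻¹ * y)⁻¹) * d :=
      hcd _ (K.mul_mem (K.inv_mem hx) hy)
    show x * d * x⁻¹ * (y * d * y⁻¹) = y * d * y⁻¹ * (x * d * x⁻¹)
    have e1 : x * d * x⁻¹ * (y * d * y⁻¹) =
        x * (d * ((x⁻¹ * y) * d * (x⁻¹ * y)⁻¹)) * x⁻¹ := by group
    have e2 : y * d * y⁻¹ * (x * d * x⁻¹) =
        x * (((x⁻¹ * y) * d * (x⁻¹ * y)⁻¹) * d) * x⁻¹ := by group
    rw [e1, e2, h1]
  obtain ⟨S, hS⟩ : ∃ S : Set G, S = {t : G | ∃ x ∈ K, t = d * (x * d * x⁻¹)} := ⟨_, rfl⟩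
  rw [← hS]
  have hSel : ∀ t ∈ S, ∃ x ∈ K, t = d * (x * d * x⁻¹) := by
    intro t ht; rw [hS] at ht; exact ht
  have hkcomm : ∀ s ∈ S, ∀ t ∈ S, s * t = t * s := by
    intro s hs t ht
    obtain ⟨x, hx, rfl⟩ := hSel s hs
    obtain ⟨y, hy, rfl⟩ := hSel t ht
    have c1 := hcd x hx
    have c2 := hcd y hy
    have c3 := hcxy x hx y hy
    exact (((Commute.refl d).mul_left c1.symm).mul_right (c2.mul_left c3)).eq
  have hNa : Subgroup.closure S ≤ Subgroup.centralizer S := by
    rw [Subgroup.closure_le]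
    intro t ht
    rw [SetLike.mem_coe, Subgroup.mem_centralizer_iff]
    intro s hs
    exact hkcomm s hs t ht
  have hNcomm : ∀ s ∈ Subgroup.closure S, ∀ t ∈ Subgroup.closure S, s * t = t * s := by
    intro s hs
    have hle : Subgroup.closure S ≤ Subgroup.centralizer {s} := by
      rw [Subgroup.closure_le]
      intro t ht
      rw [SetLike.mem_coe, Subgroup.mem_centralizer_iff]
      intro h hh
      rw [Set.mem_singleton_iff.mp hh]
      exact (Subgroup.mem_centralizer_iff.mp (hNa hs) t ht).symm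
    intro t ht
    exact Subgroup.mem_centralizer_iff.mp (hle ht) s (Set.mem_singleton s)
  exact Group.isSolvable_of_comm (fun a b => Subtype.ext (hNcomm a a.2 b b.2))

theorem sol_of_cube [Finite G] {K : Subgroup G} (hKn : K.Normal) {d : G} (hdd : d * d = 1)
    (hd1 : d ≠ 1) (h : ∀ x ∈ K, (d * (x * d * x⁻¹)) ^ 3 = 1) :
    Group.IsSolvable ↥(Subgroup.closure {t : G | ∃ x ∈ K, t = d * (x * d * x⁻¹)}) := by
  classical
  haveI : Fact (Nat.Prime 3) := ⟨Nat.prime_three⟩
  haveI := hKn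
  obtain ⟨H, hH⟩ : ∃ H : Subgroup G, H = K ⊔ Subgroup.zpowers d := ⟨_, rfl⟩
  have hdH : d ∈ H := by rw [hH]; exact Subgroup.mem_sup_right (Subgroup.mem_zpowers d)
  have hKH : K ≤ H := by rw [hH]; exact le_sup_left
  have hHconj : ∀ g ∈ H, ∃ x ∈ K, g * d * g⁻¹ = x * d * x⁻¹ := by
    intro g hg
    rw [hH, ← SetLike.mem_coe, Subgroup.normal_mul] at hg
    obtain ⟨x, hx, z, hz, rfl⟩ := Set.mem_mul.mp hg
    refine ⟨x, hx, ?_⟩
    have hzc : z * d = d * z := by
      have hle : Subgroup.zpowers d ≤ Subgroup.centralizer {d} := by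
        rw [Subgroup.zpowers_le, Subgroup.mem_centralizer_iff]
        intro h hh
        rw [Set.mem_singleton_iff.mp hh]
      exact (Subgroup.mem_centralizer_iff.mp (hle hz) d (Set.mem_singleton d)).symm
    have e : x * z * d * (x * z)⁻¹ = x * (z * d) * z⁻¹ * x⁻¹ := by group
    rw [e, hzc]; group
  obtain ⟨d', hd'⟩ : ∃ d' : ↥H, d' = ⟨d, hdH⟩ := ⟨_, rfl⟩
  have hord : orderOf d' = 2 := by
    rw [hd', Subgroup.orderOf_mk]
    exact orderOf_eq_prime (by rw [pow_two]; exact hdd) hd1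
  have hprod : ∀ a ∈ conjugatesOf d', ∀ b ∈ conjugatesOf d',
      ∃ k : ℕ, orderOf (a * b) = 3 ^ k := by
    intro a ha b hb
    obtain ⟨g1, rfl⟩ := Cfsg.Agent.S5561.mem_conj_iff.mp ha
    obtain ⟨g2, rfl⟩ := Cfsg.Agent.S5561.mem_conj_iff.mp hb
    obtain ⟨x1, hx1, e1⟩ := hHconj g1 g1.2
    obtain ⟨x2, hx2, e2⟩ := hHconj g2 g2.2
    have hcube : (g1 * d' * g1⁻¹ * (g2 * d' * g2⁻¹)) ^ 3 = 1 := by
      apply Subtype.ext
      have hcoe : ((g1 * d' * g1⁻¹ * (g2 * d' * g2⁻¹) : ↥H) : G) =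
          (g1 : G) * d * (g1 : G)⁻¹ * ((g2 : G) * d * (g2 : G)⁻¹) := by
        rw [hd']; rfl
      rw [Subgroup.coe_pow, hcoe, e1, e2]
      have e3 : x1 * d * x1⁻¹ * (x2 * d * x2⁻¹) =
          x1 * (d * ((x1⁻¹ * x2) * d * (x1⁻¹ * x2)⁻¹)) * x1⁻¹ := by group
      rw [e3, conj_pow, h _ (K.mul_mem (K.inv_mem hx1) hx2)]
      simp
    have hdvd : orderOf (g1 * d' * g1⁻¹ * (g2 * d' * g2⁻¹)) ∣ 3 :=
      orderOf_dvd_of_pow_eq_one hcube
    rcases (Nat.dvd_prime Nat.prime_three).mp hdvd with h1 | h1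
    · exact ⟨0, by rw [h1, pow_zero]⟩
    · exact ⟨1, by rw [h1, pow_one]⟩
  have h61 := Cfsg.Agent.S5561.result d' hord hprod
  obtain ⟨P, hP⟩ : ∃ P : Subgroup G, P = (Cfsg.pCore 3 ↥H).map H.subtype := ⟨_, rfl⟩
  have hP3 : IsPGroup 3 P := by
    rw [hP]; exact (Cfsg.Agent.Lib.Lead.Cores.pCore_isPGroup 3).map _
  have hle : Subgroup.closure {t : G | ∃ x ∈ K, t = d * (x * d * x⁻¹)} ≤ P := by
    rw [Subgroup.closure_le]
    rintro t ⟨x, hx, rfl⟩
    have hmem := h61 d' mem_conjugatesOf_self (⟨x, hKH hx⟩ * d' * ⟨x, hKH hx⟩⁻¹)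
      (Cfsg.Agent.S5561.mem_conj_iff.mpr ⟨⟨x, hKH hx⟩, rfl⟩)
    rw [hP]
    refine Subgroup.mem_map.mpr ⟨_, hmem, ?_⟩
    rw [hd']; rfl
  have hN3 : IsPGroup 3 ↥(Subgroup.closure {t : G | ∃ x ∈ K, t = d * (x * d * x⁻¹)}) :=
    hP3.to_le hle
  haveI : Group.IsNilpotent ↥(Subgroup.closure {t : G | ∃ x ∈ K, t = d * (x * d * x⁻¹)}) :=
    hN3.isNilpotent
  exact inferInstance

end kk

/-- Let D be a conjugacy class of 3-transpositions generating the finite group G, with at least two members, and suppose the largest normal 2-subgroup and the largest normal 3-subgroup of G are both central. Then G has a quasisimple normal subgroup L such that the generalized Fitting subgroup of G is the product of L and the centre; and either L = G or the image of D in G/L has width 1, in the sense that two members of D whose commutator lies in L have the same image modulo L. -/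
theorem result {G : Type*} [Group G] [Finite G] {D : Set G} (hD : Cfsg.IsThreeTranspositionClass D) (hD2 : ∃ a ∈ D, ∃ b ∈ D, a ≠ b) (h2 : Cfsg.pCore 2 G ≤ Subgroup.center G) (h3 : Cfsg.pCore 3 G ≤ Subgroup.center G) : ∃ L : Subgroup G, L.Normal ∧ Cfsg.IsQuasisimple L ∧ Cfsg.generalizedFittingSubgroup G = L ⊔ Subgroup.center G ∧ (L = ⊤ ∨ ∀ a ∈ D, ∀ b ∈ D, a * b * a⁻¹ * b⁻¹ ∈ L → a⁻¹ * b ∈ L) := by
  classical
  haveI : Fact (Nat.Prime 3) := ⟨Nat.prime_three⟩
  haveI : Fact (Nat.Prime 2) := ⟨Nat.prime_two⟩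
  obtain ⟨hpartA, htri⟩ := Cfsg.Agent.S5351.result hD hD2
  have hEne : Cfsg.layer G ≠ ⊥ := by
    rcases htri with ⟨hn, -, -⟩ | ⟨-, hn, -⟩ | ⟨-, -, hE⟩
    · exact absurd h2 hn
    · exact absurd h3 hn
    · exact hE
  obtain ⟨hset, ⟨d0, hd0, hcls⟩, hgen⟩ := hD
  have hinv : ∀ a ∈ D, a * a = 1 := by
    intro a ha
    have := pow_orderOf_eq_one a
    rw [hset.1 a ha, pow_two] at this
    exact this
  have hinvi : ∀ a ∈ D, a⁻¹ = a := fun a ha => inv_eq_of_mul_eq_one_right (hinv a ha)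
  have hconj : ∀ g : G, ∀ x ∈ D, g * x * g⁻¹ ∈ D := by
    intro g x hx
    rw [hcls] at hx ⊢
    obtain ⟨c, rfl⟩ := Cfsg.Agent.S5561.mem_conj_iff.mp hx
    exact Cfsg.Agent.S5561.mem_conj_iff.mpr ⟨g * c, by group⟩
  have hclsD : ∀ a ∈ D, ∀ b ∈ D, ∃ g : G, g * a * g⁻¹ = b := by
    intro a ha b hb
    rw [hcls] at ha hb
    obtain ⟨c, hc⟩ := Cfsg.Agent.S5561.mem_conj_iff.mp hb
    obtain ⟨c', hc'⟩ := Cfsg.Agent.S5561.mem_conj_iff.mp ha
    refine ⟨c * c'⁻¹, ?_⟩
    rw [← hc, ← hc']; group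
  have hcomm2 : ∀ x y : G, x * x = 1 → y * y = 1 → (x * y) ^ 2 = 1 → Commute x y := by
    intro x y hx hy h
    have h1 : x * y * (x * y) = 1 := by rwa [pow_two] at h
    have h4 : (x * y)⁻¹ = x * y := inv_eq_of_mul_eq_one_left h1
    rw [mul_inv_rev, inv_eq_of_mul_eq_one_right hx, inv_eq_of_mul_eq_one_right hy] at h4
    exact h4.symm
  have hne1 : ∀ a ∈ D, a ≠ 1 := by
    intro a ha h
    have h5 := hset.1 a ha
    rw [h, orderOf_one] at h5
    exact absurd h5 (by norm_num)
  -- (C1) every member of D normalises every component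
  have hC1 : ∀ K : Subgroup G, Cfsg.IsComponent K → ∀ a ∈ D, ∀ x ∈ K, a * x * a⁻¹ ∈ K := by
    intro K hK a ha
    by_contra hcon
    have hex : ∃ x ∈ K, a * x * a⁻¹ ∉ K := by
      by_contra h'
      exact hcon (fun x hx => by
        by_contra h''
        exact h' ⟨x, hx, h''⟩)
    obtain ⟨x0, hx0, hx0n⟩ := hex
    have haa := hinv a ha
    have hai := hinvi a ha
    obtain ⟨K', hK'⟩ : ∃ K' : Subgroup G, K' = K.map (MulAut.conj a).toMonoidHom := ⟨_, rfl⟩
    have hK'c : Cfsg.IsComponent K' := by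
      rw [hK']; exact Cfsg.Agent.Lib.Helper9.isComponent_map_equiv (MulAut.conj a) hK
    have hmemK' : ∀ x ∈ K, a * x * a⁻¹ ∈ K' := by
      intro x hx
      rw [hK']
      exact Subgroup.mem_map.mpr ⟨x, hx, by simp⟩
    have hne : K ≠ K' := by
      intro h
      apply hx0n
      rw [h]
      exact hmemK' x0 hx0
    have hcomm := Cfsg.Agent.Lib.Helper9.component_commute hK hK'c hne
    rw [Subgroup.commutator_eq_bot_iff_le_centralizer] at hcomm
    have hKK' : ∀ x ∈ K, ∀ y ∈ K', y * x = x * y := fun x hx y hy =>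
      Subgroup.mem_centralizer_iff.mp (hcomm hx) y hy
    have hpow : ∀ x ∈ K, ∃ n : ℕ, (n = 2 ∨ n = 3) ∧ ∀ y ∈ K, x ^ n * y = y * x ^ n := by
      intro x hx
      have hxa : a * x * a⁻¹ ∈ K' := hmemK' x hx
      have hc : Commute (a * x * a⁻¹) x⁻¹ := hKK' x⁻¹ (K.inv_mem hx) _ hxa
      have hu : a * (x * a * x⁻¹) = (a * x * a⁻¹) * x⁻¹ := by rw [hai]; group
      have key : ∀ n : ℕ, (a * (x * a * x⁻¹)) ^ n = 1 → ∀ y ∈ K, x ^ n * y = y * x ^ n := by
        intro n hn y hy
        rw [hu, hc.mul_pow] at hn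
        have h1 : x ^ n = (a * x * a⁻¹) ^ n := by
          have h5 := eq_inv_of_mul_eq_one_left hn
          rw [h5, inv_pow, inv_inv]
        have h4 : x ^ n ∈ K' := by rw [h1]; exact K'.pow_mem hxa n
        exact hKK' y hy _ h4
      rcases hset.2 a ha _ (hconj x a ha) with h | h
      · exact ⟨2, Or.inl rfl, key 2 h⟩
      · exact ⟨3, Or.inr rfl, key 3 h⟩
    have hQ : ∀ q : ↥K ⧸ Subgroup.center ↥K, q ^ 2 = 1 ∨ q ^ 3 = 1 := by
      intro q
      obtain ⟨x, rfl⟩ := QuotientGroup.mk_surjective q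
      obtain ⟨n, hn, hcen⟩ := hpow x x.2
      have hmem : x ^ n ∈ Subgroup.center ↥K := by
        rw [Subgroup.mem_center_iff]
        intro y
        apply Subtype.ext
        have h5 := hcen y y.2
        simp only [Subgroup.coe_mul, Subgroup.coe_pow]
        exact h5.symm
      have h1 : (QuotientGroup.mk x : ↥K ⧸ Subgroup.center ↥K) ^ n = 1 := by
        rw [← QuotientGroup.mk_pow]
        exact (QuotientGroup.eq_one_iff _).mpr hmem
      rcases hn with rfl | rfl
      · exact Or.inl h1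
      · exact Or.inr h1
    have hsol := solvable_of_orders hQ
    haveI : Group.IsPerfect ↥K := hK.2.1
    haveI : IsSimpleGroup (↥K ⧸ Subgroup.center ↥K) := hK.2.2
    exact Group.IsPerfect.not_isSolvable (↥K ⧸ Subgroup.center ↥K) hsol
  -- (C2) components are normal
  have hC2 : ∀ K : Subgroup G, Cfsg.IsComponent K → K.Normal := by
    intro K hK
    rw [← Subgroup.normalizer_eq_top_iff, eq_top_iff, ← hgen, Subgroup.closure_le]
    intro a ha
    rw [SetLike.mem_coe, Subgroup.mem_normalizer_iff]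
    intro h
    constructor
    · intro hh; exact hC1 K hK a ha h hh
    · intro hh
      have h5 := hC1 K hK a ha _ hh
      have e : a * (a * h * a⁻¹) * a⁻¹ = h := by
        rw [hinvi a ha]
        have e' : a * (a * h * a) * a = (a * a) * h * (a * a) := by group
        rw [e', hinv a ha]; group
      rwa [e] at h5
  -- (C3) no member of D centralises a component
  have hC3 : ∀ K : Subgroup G, Cfsg.IsComponent K → ∀ a ∈ D,
      ∃ x ∈ K, a * (x * a * x⁻¹) ≠ 1 := by
    intro K hK a ha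
    by_contra hcon
    have hall : ∀ x ∈ K, x * a = a * x := by
      intro x hx
      apply kk_eq_one (hinv a ha)
      by_contra h
      exact hcon ⟨x, hx, h⟩
    have hKn := hC2 K hK
    have hallD : ∀ b ∈ D, ∀ x ∈ K, x * b = b * x := by
      intro b hb x hx
      obtain ⟨g, rfl⟩ := hclsD a ha b hb
      have h1 := hall (g⁻¹ * x * g) (by
        have h5 := hKn.conj_mem x hx g⁻¹
        rwa [inv_inv] at h5)
      have e1 : x * (g * a * g⁻¹) = g * (g⁻¹ * x * g * a) * g⁻¹ := by group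
      have e2 : g * a * g⁻¹ * x = g * (a * (g⁻¹ * x * g)) * g⁻¹ := by group
      rw [e1, e2, h1]
    have hKc : ∀ x ∈ K, ∀ g : G, x * g = g * x := by
      intro x hx g
      have hg : g ∈ Subgroup.closure D := by rw [hgen]; exact Subgroup.mem_top g
      have hle : Subgroup.closure D ≤ Subgroup.centralizer {x} := by
        rw [Subgroup.closure_le]
        intro b hb
        rw [SetLike.mem_coe, Subgroup.mem_centralizer_iff]
        intro h hh
        rw [Set.mem_singleton_iff.mp hh]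
        exact hallD b hb x hx
      exact Subgroup.mem_centralizer_iff.mp (hle hg) x (Set.mem_singleton x)
    apply Cfsg.Agent.Lib.Helper9.component_not_isSolvable hK
    exact Group.isSolvable_of_comm (fun x y => Subtype.ext (hKc x x.2 y))
  -- (C4) there is only one component
  obtain ⟨d, hd, -⟩ := hD2
  have hdd := hinv d hd
  have hC4 : ∀ K₁ K₂ : Subgroup G, Cfsg.IsComponent K₁ → Cfsg.IsComponent K₂ → K₁ = K₂ := by
    intro K₁ K₂ hK₁ hK₂
    by_contra hne
    have hn₁ := hC2 K₁ hK₁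
    have hn₂ := hC2 K₂ hK₂
    have hcomm := Cfsg.Agent.Lib.Helper9.component_commute hK₁ hK₂ hne
    rw [Subgroup.commutator_eq_bot_iff_le_centralizer] at hcomm
    have hKK : ∀ x ∈ K₁, ∀ y ∈ K₂, y * x = x * y := fun x hx y hy =>
      Subgroup.mem_centralizer_iff.mp (hcomm hx) y hy
    obtain ⟨y0, hy0, hw1⟩ := hC3 K₂ hK₂ d hd
    obtain ⟨w, hw⟩ : ∃ w : G, w = d * (y0 * d * y0⁻¹) := ⟨_, rfl⟩
    rw [← hw] at hw1
    have hwK : w ∈ K₂ := by rw [hw]; exact kk_mem hdd hn₂ hy0
    have hw23 : w ^ 2 = 1 ∨ w ^ 3 = 1 := by rw [hw]; exact hset.2 d hd _ (hconj y0 d hd)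
    have hmul : ∀ x ∈ K₁, d * (x * y0 * d * (x * y0)⁻¹) = d * (x * d * x⁻¹) * w := by
      intro x hx
      rw [kk_mul hdd x y0, ← hw]
      have h5 : x * w * x⁻¹ = w := by
        rw [← hKK x hx w hwK, mul_inv_cancel_right]
      rw [h5]
    have hu23 : ∀ x : G, (d * (x * d * x⁻¹)) ^ 2 = 1 ∨ (d * (x * d * x⁻¹)) ^ 3 = 1 :=
      fun x => hset.2 d hd _ (hconj x d hd)
    have hcontra : (∀ x ∈ K₁, x * d = d * x) → False := by
      intro hall
      obtain ⟨x, hx, hx1⟩ := hC3 K₁ hK₁ d hd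
      exact hx1 (kk_one_of_comm hdd (hall x hx))
    rcases hw23 with hw2 | hw3
    · have hsq : ∀ x ∈ K₁, (d * (x * d * x⁻¹)) ^ 2 = 1 := by
        intro x hx
        have huK := kk_mem hdd hn₁ hx
        have hc : Commute (d * (x * d * x⁻¹)) w := (hKK _ huK w hwK).symm
        rcases hu23 x with h | h
        · exact h
        · rcases hu23 (x * y0) with h' | h'
          · rw [hmul x hx, hc.mul_pow, hw2, mul_one] at h'
            exact h'
          · rw [hmul x hx, hc.mul_pow, h, one_mul] at h'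
            exact absurd (Cfsg.Agent.S5351.eq_one_of_pow hw2 h' (by norm_num)) hw1
      exact hcontra (cent_of_solvable hK₁ hn₁ hdd (sol_of_sq hdd hsq))
    · have hcube : ∀ x ∈ K₁, (d * (x * d * x⁻¹)) ^ 3 = 1 := by
        intro x hx
        have huK := kk_mem hdd hn₁ hx
        have hc : Commute (d * (x * d * x⁻¹)) w := (hKK _ huK w hwK).symm
        rcases hu23 x with h | h
        · rcases hu23 (x * y0) with h' | h'
          · rw [hmul x hx, hc.mul_pow, h, one_mul] at h'
            exact absurd (Cfsg.Agent.S5351.eq_one_of_pow h' hw3 (by norm_num)) hw1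
          · rw [hmul x hx, hc.mul_pow, hw3, mul_one] at h'
            exact h'
        · exact h
      exact hcontra (cent_of_solvable hK₁ hn₁ hdd (sol_of_cube hn₁ hdd (hne1 d hd) hcube))
  -- the component
  have hexK : ∃ K : Subgroup G, Cfsg.IsComponent K := by
    by_contra hcon
    apply hEne
    unfold Cfsg.layer
    rw [eq_bot_iff]
    apply sSup_le
    intro K hK
    exact absurd ⟨K, hK⟩ hcon
  obtain ⟨K, hK⟩ := hexK
  have hKn := hC2 K hK
  have hlayer : Cfsg.layer G = K := by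
    apply le_antisymm
    · unfold Cfsg.layer
      apply sSup_le
      intro K' hK'
      exact le_of_eq (hC4 K' K hK' hK)
    · exact Cfsg.Agent.Lib.Helper9.component_le_layer hK
  have hF : Cfsg.fittingSubgroup G = Subgroup.center G := by
    apply le_antisymm
    · rw [Cfsg.Agent.Lib.Lead.Cores.fittingSubgroup_eq_iSup_pCore]
      apply iSup_le
      intro p
      by_cases hp2 : (p : ℕ) = 2
      · rw [hp2]; exact h2
      · by_cases hp3 : (p : ℕ) = 3
        · rw [hp3]; exact h3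
        · have hp := p.2
          have h2le := hp.two_le
          exact hpartA p hp (by omega)
    · exact Cfsg.Agent.Lib.Lead.Cores.le_fittingSubgroup inferInstance
        (Cfsg.Agent.Lib.Helper9.isNilpotent_of_isMulCommutative _)
  refine ⟨K, hKn, hK.2, ?_, ?_⟩
  · unfold Cfsg.generalizedFittingSubgroup
    rw [hlayer, hF]
  · by_cases hKtop : K = ⊤
    · exact Or.inl hKtop
    · right
      intro a ha b hb hab
      by_contra hnot
      haveI := hKn
      obtain ⟨π, hπ⟩ : ∃ π : G →* G ⧸ K, π = QuotientGroup.mk' K := ⟨_, rfl⟩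
      have hker : ∀ g : G, π g = 1 ↔ g ∈ K := by
        intro g; rw [hπ, ← MonoidHom.mem_ker, QuotientGroup.ker_mk']
      have haa := hinv a ha
      have hbb := hinv b hb
      have hπa : π a * π a = 1 := by rw [← map_mul, haa, map_one]
      have hπb : π b * π b = 1 := by rw [← map_mul, hbb, map_one]
      have hπab : π a * π b = π b * π a := by
        have h1 : π (a * b * a⁻¹ * b⁻¹) = 1 := (hker _).mpr hab
        simp only [map_mul, map_inv] at h1
        have h4 := congrArg (fun t => t * π b * π a) h1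
        simpa using h4
      have hbx : ∀ x ∈ K, b * (x * a * x⁻¹) = (x * a * x⁻¹) * b := by
        intro x hx
        have hxa : x * a * x⁻¹ ∈ D := hconj x a ha
        rcases hset.2 b hb _ hxa with h | h
        · exact hcomm2 _ _ hbb (hinv _ hxa) h
        · exfalso
          apply hnot
          have hπx : π x = 1 := (hker x).mpr hx
          have h1 : (π b * π a) ^ 3 = 1 := by
            have h5 := congrArg π h
            simp only [map_pow, map_mul, map_inv, hπx, one_mul, inv_one, mul_one, map_one] at h5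
            exact h5
          have h2' : (π b * π a) ^ 2 = 1 := by
            rw [pow_two]
            have e : π b * π a * (π b * π a) = π b * (π a * π b) * π a := by group
            rw [e, hπab]
            have e2 : π b * (π b * π a) * π a = (π b * π b) * (π a * π a) := by group
            rw [e2, hπa, hπb, one_mul]
          have h3' : π b * π a = 1 := Cfsg.Agent.S5351.eq_one_of_pow h2' h1 (by norm_num)
          rw [← hker, map_mul, map_inv]
          have h4 : π b = (π a)⁻¹ := eq_inv_of_mul_eq_one_left h3'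
          rw [h4, ← mul_inv_rev, hπa, inv_one]
      have hba : b * a = a * b := by
        have h5 := hbx 1 K.one_mem
        simpa using h5
      obtain ⟨Na, hNa⟩ : ∃ Na : Subgroup G,
          Na = Subgroup.closure {t : G | ∃ x ∈ K, t = a * (x * a * x⁻¹)} := ⟨_, rfl⟩
      have hNaK : Na ≤ K := by
        rw [hNa, Subgroup.closure_le]
        rintro t ⟨x, hx, rfl⟩
        exact kk_mem haa hKn hx
      have hNab : ∀ n ∈ Na, b * n = n * b := by
        intro n hn
        have hle : Na ≤ Subgroup.centralizer {b} := by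
          rw [hNa, Subgroup.closure_le]
          rintro t ⟨x, hx, rfl⟩
          rw [SetLike.mem_coe, Subgroup.mem_centralizer_iff]
          intro h hh
          rw [Set.mem_singleton_iff.mp hh]
          calc b * (a * (x * a * x⁻¹)) = (b * a) * (x * a * x⁻¹) := by group
            _ = (a * b) * (x * a * x⁻¹) := by rw [hba]
            _ = a * (b * (x * a * x⁻¹)) := by group
            _ = a * ((x * a * x⁻¹) * b) := by rw [hbx x hx]
            _ = a * (x * a * x⁻¹) * b := by group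
        exact Subgroup.mem_centralizer_iff.mp (hle hn) b (Set.mem_singleton b)
      have hNnorm : ∀ y ∈ K, ∀ n ∈ Na, y * n * y⁻¹ ∈ Na := by
        intro y hy
        rw [hNa]
        apply Cfsg.Agent.S5349.conj_closure
        rintro t ⟨x, hx, rfl⟩
        have e : y * (a * (x * a * x⁻¹)) * y⁻¹ =
            (a * (y * a * y⁻¹))⁻¹ * (a * (y * x * a * (y * x)⁻¹)) := by
          rw [kk_mul haa y x]; group
        rw [e]
        exact Subgroup.mul_mem _ (Subgroup.inv_mem _ (Subgroup.subset_closure ⟨y, hy, rfl⟩))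
          (Subgroup.subset_closure ⟨y * x, K.mul_mem hy hx, rfl⟩)
      have hNsub : (Na.subgroupOf K).Normal := by
        constructor
        intro n hn g
        rw [Subgroup.mem_subgroupOf] at hn ⊢
        have h5 := hNnorm g g.2 n hn
        simpa using h5
      rcases Cfsg.Agent.Lib.Helper9.qs_normal_le_center_or_eq_top hK.2 _ hNsub with hcase | hcase
      · have hsol : Group.IsSolvable ↥Na := by
          apply Group.isSolvable_of_comm
          intro s t
          apply Subtype.ext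
          have hs : (⟨s, hNaK s.2⟩ : ↥K) ∈ Subgroup.center ↥K :=
            hcase (Subgroup.mem_subgroupOf.mpr s.2)
          have h4 := Subgroup.mem_center_iff.mp hs ⟨t, hNaK t.2⟩
          have h5 := congrArg Subtype.val h4
          simpa using h5.symm
        rw [hNa] at hsol
        have hall := cent_of_solvable hK hKn haa hsol
        obtain ⟨x, hx, hx1⟩ := hC3 K hK a ha
        exact hx1 (kk_one_of_comm haa (hall x hx))
      · have hKNa : K ≤ Na := Subgroup.subgroupOf_eq_top.mp hcase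
        obtain ⟨x, hx, hx1⟩ := hC3 K hK b hb
        exact hx1 (kk_one_of_comm hbb (hNab x (hKNa hx)).symm)

end Cfsg.Agent.S5352
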