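import Cfsg.Statements.S5353
import Mathlib
import Cfsg.Prelude.Def_Local
import Cfsg.Prelude.Def_FischerSpaces
import Cfsg.Agent.Lib.Lead.Cores
import Cfsg.Agent.Lib.Helper9.Components
import Cfsg.Agent.Lib.Helper9.Misc
import Cfsg.Agent.S5349
import Cfsg.Agent.S5351
import Cfsg.Agent.S5352
import Cfsg.Agent.S5561

set_option autoImplicit false
open Cfsg

namespace Cfsg.Agent.S5353

universe u

section blocks

variable {G : Type u} [Group G]

/-- an element moving one point of a block into the block fixes the block. -/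
theorem fix_of_mem {B : Set G}
    (hblk : ∀ g : G, (fun x => g * x * g⁻¹) '' B = B ∨ Disjoint ((fun x => g * x * g⁻¹) '' B) B)
    {g b : G} (hb : b ∈ B) (hgb : g * b * g⁻¹ ∈ B) :
    (∀ c ∈ B, g * c * g⁻¹ ∈ B) ∧ (∀ c ∈ B, g⁻¹ * c * g ∈ B) := by
  rcases hblk g with h | h
  · constructor
    · intro c hc
      rw [← h]
      exact ⟨c, hc, rfl⟩
    · intro c hc
      rw [← h] at hc
      obtain ⟨c', hc', hcc⟩ := hc
      have e : g⁻¹ * c * g = c' := by
        rw [← hcc]
        show g⁻¹ * (g * c' * g⁻¹) * g = c'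
        group
      rw [e]; exact hc'
  · exfalso
    exact Set.disjoint_left.mp h ⟨b, hb, rfl⟩ hgb

/-- two elements lie in a common translate of `B`. -/
def SameBlock (B : Set G) (a b : G) : Prop := ∃ h : G, h⁻¹ * a * h ∈ B ∧ h⁻¹ * b * h ∈ B

theorem sameBlock_symm {B : Set G} {a b : G} (h : SameBlock B a b) : SameBlock B b a := by
  obtain ⟨k, h1, h2⟩ := h
  exact ⟨k, h2, h1⟩

theorem sameBlock_conj {B : Set G} {a b : G} (g : G) (h : SameBlock B a b) :
    SameBlock B (g * a * g⁻¹) (g * b * g⁻¹) := by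
  obtain ⟨k, h1, h2⟩ := h
  refine ⟨g * k, ?_, ?_⟩
  · have e : (g * k)⁻¹ * (g * a * g⁻¹) * (g * k) = k⁻¹ * a * k := by group
    rw [e]; exact h1
  · have e : (g * k)⁻¹ * (g * b * g⁻¹) * (g * k) = k⁻¹ * b * k := by group
    rw [e]; exact h2

theorem sameBlock_trans {B : Set G}
    (hblk : ∀ g : G, (fun x => g * x * g⁻¹) '' B = B ∨ Disjoint ((fun x => g * x * g⁻¹) '' B) B)
    {a b c : G} (h1 : SameBlock B a b) (h2 : SameBlock B b c) : SameBlock B a c := by
  obtain ⟨h, ha, hb⟩ := h1
  obtain ⟨k, hb', hc⟩ := h2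
  refine ⟨h, ha, ?_⟩
  have e1 : (h⁻¹ * k) * (k⁻¹ * b * k) * (h⁻¹ * k)⁻¹ = h⁻¹ * b * h := by group
  have hfix := (fix_of_mem hblk (g := h⁻¹ * k) hb' (by rw [e1]; exact hb)).1
  have e2 : h⁻¹ * c * h = (h⁻¹ * k) * (k⁻¹ * c * k) * (h⁻¹ * k)⁻¹ := by group
  rw [e2]
  exact hfix _ hc

/-- the kernel of the action on the translates of a block. -/
theorem exists_blockKernel {B D : Set G}
    (hblk : ∀ g : G, (fun x => g * x * g⁻¹) '' B = B ∨ Disjoint ((fun x => g * x * g⁻¹) '' B) B)
    (hconj : ∀ g : G, ∀ x ∈ D, g * x * g⁻¹ ∈ D) (hrefl : ∀ c ∈ D, SameBlock B c c) :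
    ∃ K : Subgroup G, K.Normal ∧ ∀ g : G, g ∈ K ↔ ∀ c ∈ D, SameBlock B c (g * c * g⁻¹) := by
  refine ⟨{ carrier := {g | ∀ c ∈ D, SameBlock B c (g * c * g⁻¹)}
            one_mem' := ?_
            mul_mem' := ?_
            inv_mem' := ?_ }, ?_, fun g => Iff.rfl⟩
  · intro g g' hg hg'
    have hg1 : ∀ c ∈ D, SameBlock B c (g * c * g⁻¹) := hg
    have hg2 : ∀ c ∈ D, SameBlock B c (g' * c * g'⁻¹) := hg'
    show ∀ c ∈ D, SameBlock B c (g * g' * c * (g * g')⁻¹)
    intro c hc
    have e : g * g' * c * (g * g')⁻¹ = g * (g' * c * g'⁻¹) * g⁻¹ := by group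
    rw [e]
    exact sameBlock_trans hblk (hg2 c hc) (hg1 _ (hconj g' c hc))
  · show ∀ c ∈ D, SameBlock B c (1 * c * (1 : G)⁻¹)
    intro c hc
    have e : (1 : G) * c * (1 : G)⁻¹ = c := by group
    rw [e]; exact hrefl c hc
  · intro g hg
    have hg1 : ∀ c ∈ D, SameBlock B c (g * c * g⁻¹) := hg
    show ∀ c ∈ D, SameBlock B c (g⁻¹ * c * g⁻¹⁻¹)
    intro c hc
    have h1 := hg1 (g⁻¹ * c * g⁻¹⁻¹) (hconj g⁻¹ c hc)
    have e : g * (g⁻¹ * c * g⁻¹⁻¹) * g⁻¹ = c := by group
    rw [e] at h1
    exact sameBlock_symm h1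
  · constructor
    intro n hn g
    have hn1 : ∀ c ∈ D, SameBlock B c (n * c * n⁻¹) := hn
    show ∀ c ∈ D, SameBlock B c (g * n * g⁻¹ * c * (g * n * g⁻¹)⁻¹)
    intro c hc
    have h1 := hn1 (g⁻¹ * c * g⁻¹⁻¹) (hconj g⁻¹ c hc)
    have h2 := sameBlock_conj g h1
    have e1 : g * (g⁻¹ * c * g⁻¹⁻¹) * g⁻¹ = c := by group
    have e2 : g * (n * (g⁻¹ * c * g⁻¹⁻¹) * n⁻¹) * g⁻¹ = g * n * g⁻¹ * c * (g * n * g⁻¹)⁻¹ := by
      group
    rw [e1, e2] at h2
    exact h2

/-- a normal subgroup of a group whose generalized Fitting subgroup is `L Z(G)` (with `L`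
quasisimple and `F(G)` central) is central or contains `L`. -/
theorem normal_dichotomy [Finite G] {L : Subgroup G} [hLn : L.Normal]
    (hL : Cfsg.IsQuasisimple L)
    (hF : Cfsg.generalizedFittingSubgroup G = L ⊔ Subgroup.center G)
    (hFit : Cfsg.fittingSubgroup G ≤ Subgroup.center G)
    {N : Subgroup G} (hN : N.Normal) : N ≤ Subgroup.center G ∨ L ≤ N := by
  haveI := hN
  have hNsub : ((N ⊓ L).subgroupOf L).Normal := inferInstance
  rcases Cfsg.Agent.Lib.Helper9.qs_normal_le_center_or_eq_top hL _ hNsub with hcase | hcase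
  · left
    have hcL : ∀ n ∈ N, ∀ x ∈ L, n * x * n⁻¹ * x⁻¹ ∈ L := by
      intro n hn x hx
      have h1 := hLn.conj_mem x hx n
      exact L.mul_mem h1 (L.inv_mem hx)
    have hcen : ∀ n ∈ N, ∀ x ∈ L, ∀ y ∈ L,
        (n * x * n⁻¹ * x⁻¹) * y = y * (n * x * n⁻¹ * x⁻¹) := by
      intro n hn x hx y hy
      have hmemN : n * x * n⁻¹ * x⁻¹ ∈ N := by
        have h1 := hN.conj_mem n⁻¹ (N.inv_mem hn) x
        have e : n * x * n⁻¹ * x⁻¹ = n * (x * n⁻¹ * x⁻¹) := by group
        rw [e]; exact N.mul_mem hn h1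
      have hmemL := hcL n hn x hx
      have hc : (⟨n * x * n⁻¹ * x⁻¹, hmemL⟩ : ↥L) ∈ Subgroup.center ↥L :=
        hcase (Subgroup.mem_subgroupOf.mpr (Subgroup.mem_inf.mpr ⟨hmemN, hmemL⟩))
      have h4 := Subgroup.mem_center_iff.mp hc ⟨y, hy⟩
      have h5 := congrArg Subtype.val h4
      simpa using h5.symm
    have hNL : ∀ n ∈ N, ∀ x ∈ L, n * x = x * n := by
      intro n hn
      have hperf : ⁅L, L⁆ = L := Subgroup.isPerfect_iff.mp hL.1
      have h1 : ⁅L, L⁆ ≤ Subgroup.centralizer {n} := by
        rw [Subgroup.commutator_le]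
        intro x hx y hy
        rw [Subgroup.mem_centralizer_iff]
        intro h hh
        rw [Set.mem_singleton_iff.mp hh, commutatorElement_def]
        have e1 : n * (x * y * x⁻¹ * y⁻¹) * n⁻¹ =
            (n * x * n⁻¹) * (n * y * n⁻¹) * (n * x * n⁻¹)⁻¹ * (n * y * n⁻¹)⁻¹ := by group
        have hkx : n * x * n⁻¹ = (n * x * n⁻¹ * x⁻¹) * x := by group
        have hky : n * y * n⁻¹ = (n * y * n⁻¹ * y⁻¹) * y := by group
        have e2 := Cfsg.Agent.S5351.comm_central (c := n * x * n⁻¹ * x⁻¹)
          (c' := n * y * n⁻¹ * y⁻¹) (x := x) (y := y) (hcen n hn x hx x hx) (hcen n hn x hx y hy)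
          (hcen n hn x hx _ (hcL n hn y hy)) (hcen n hn y hy x hx) (hcen n hn y hy y hy)
        rw [hkx, hky, e2] at e1
        have h4 := congrArg (fun t => t * n) e1
        simpa using h4
      rw [hperf] at h1
      intro x hx
      exact Subgroup.mem_centralizer_iff.mp (h1 hx) n (Set.mem_singleton n)
    have hNcent : ∀ n ∈ N, ∀ f ∈ L ⊔ Subgroup.center G, f * n = n * f := by
      intro n hn f hf
      have hle : L ⊔ Subgroup.center G ≤ Subgroup.centralizer {n} := by
        apply sup_le
        · intro x hx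
          rw [Subgroup.mem_centralizer_iff]
          intro h hh
          rw [Set.mem_singleton_iff.mp hh]
          exact hNL n hn x hx
        · intro z hz
          rw [Subgroup.mem_centralizer_iff]
          intro h hh
          rw [Set.mem_singleton_iff.mp hh]
          exact Subgroup.mem_center_iff.mp hz n
      exact (Subgroup.mem_centralizer_iff.mp (hle hf) n (Set.mem_singleton n)).symm
    have hNF : N ≤ L ⊔ Subgroup.center G := by
      intro n hn
      have h1 : n ∈ Subgroup.centralizer (Cfsg.generalizedFittingSubgroup G : Set G) := by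
        rw [Subgroup.mem_centralizer_iff]
        intro f hf
        rw [hF] at hf
        exact hNcent n hn f hf
      have h2 := Cfsg.Agent.Lib.Helper9.centralizer_gfitting_le G h1
      rw [hF] at h2
      exact h2
    have hNnil : Group.IsNilpotent ↥N := by
      haveI : IsMulCommutative ↥N := IsMulCommutative.of_comm (fun a b => Subtype.ext (by
        have h1 := hNcent a a.2 b (hNF b.2)
        simpa using h1.symm))
      exact Cfsg.Agent.Lib.Helper9.isNilpotent_of_isMulCommutative _
    exact (Cfsg.Agent.Lib.Lead.Cores.le_fittingSubgroup hN hNnil).trans hFit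
  · right
    have h1 : L ≤ N ⊓ L := Subgroup.subgroupOf_eq_top.mp hcase
    exact h1.trans inf_le_left

end blocks

/-- Let D be a conjugacy class of 3-transpositions generating the finite group G, with at least two members, such that the largest normal 2-subgroup and the largest normal 3-subgroup of G are central, and let L be a quasisimple normal subgroup with generalized Fitting subgroup of G equal to L times the centre. If L has index at most 2 then G acts primitively on D by conjugation; and if the commuting graph of D is connected then L has index at most 2. -/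
theorem result {G : Type*} [Group G] [Finite G] {D : Set G} (hD : Cfsg.IsThreeTranspositionClass D) (hD2 : ∃ a ∈ D, ∃ b ∈ D, a ≠ b) (h2 : Cfsg.pCore 2 G ≤ Subgroup.center G) (h3 : Cfsg.pCore 3 G ≤ Subgroup.center G) (L : Subgroup G) [L.Normal] (hL : Cfsg.IsQuasisimple L) (hF : Cfsg.generalizedFittingSubgroup G = L ⊔ Subgroup.center G) : (L.index ≤ 2 → Cfsg.IsPrimitiveUnderConj D) ∧ ((Cfsg.commutingGraph D).Connected → L.index ≤ 2) := by
  classical
  haveI : Fact (Nat.Prime 3) := ⟨Nat.prime_three⟩
  haveI : Fact (Nat.Prime 2) := ⟨Nat.prime_two⟩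
  have hLn : L.Normal := inferInstance
  obtain ⟨hpartA, -⟩ := Cfsg.Agent.S5351.result hD hD2
  have hres := Cfsg.Agent.S5352.result hD hD2 h2 h3
  have hV : ∀ x ∈ D, {v : G | v ∈ D ∧ ∀ e ∈ D, Commute v e ↔ Commute x e} =
      {v : G | ∃ g ∈ Cfsg.pCore 2 G, v = g * x * g⁻¹} :=
    fun x hx => (Cfsg.Agent.S5349.result hD hD2 (d := x) hx).2
  have hD' := hD
  obtain ⟨hset, ⟨d0, hd0, hcls⟩, hgen⟩ := hD'
  have hinv : ∀ a ∈ D, a * a = 1 := by
    intro a ha
    have := pow_orderOf_eq_one a
    rw [hset.1 a ha, pow_two] at this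
    exact this
  have hinvi : ∀ a ∈ D, a⁻¹ = a := fun a ha => inv_eq_of_mul_eq_one_right (hinv a ha)
  have hconj : ∀ g : G, ∀ x ∈ D, g * x * g⁻¹ ∈ D := by
    intro g x hx
    rw [hcls] at hx ⊢
    obtain ⟨c, rfl⟩ := Cfsg.Agent.S5561.mem_conj_iff.mp hx
    exact Cfsg.Agent.S5561.mem_conj_iff.mpr ⟨g * c, by group⟩
  have hclsD : ∀ a ∈ D, ∀ b ∈ D, ∃ g : G, g * a * g⁻¹ = b := by
    intro a ha b hb
    rw [hcls] at ha hb
    obtain ⟨c, hc⟩ := Cfsg.Agent.S5561.mem_conj_iff.mp hb
    obtain ⟨c', hc'⟩ := Cfsg.Agent.S5561.mem_conj_iff.mp ha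
    refine ⟨c * c'⁻¹, ?_⟩
    rw [← hc, ← hc']; group
  have hcomm2 : ∀ x y : G, x * x = 1 → y * y = 1 → (x * y) ^ 2 = 1 → x * y = y * x := by
    intro x y hx hy h
    have h1 : x * y * (x * y) = 1 := by rwa [pow_two] at h
    have h4 : (x * y)⁻¹ = x * y := inv_eq_of_mul_eq_one_left h1
    rw [mul_inv_rev, inv_eq_of_mul_eq_one_right hx, inv_eq_of_mul_eq_one_right hy] at h4
    exact h4.symm
  have hFit : Cfsg.fittingSubgroup G ≤ Subgroup.center G := by
    rw [Cfsg.Agent.Lib.Lead.Cores.fittingSubgroup_eq_iSup_pCore]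
    apply iSup_le
    intro p
    by_cases hp2 : (p : ℕ) = 2
    · rw [hp2]; exact h2
    · by_cases hp3 : (p : ℕ) = 3
      · rw [hp3]; exact h3
      · have hp := p.2
        have h2le := hp.two_le
        exact hpartA p hp (by omega)
  -- conjugation by a non-commuting pair
  have hbraid : ∀ a ∈ D, ∀ b ∈ D, a * b ≠ b * a → a * b * a⁻¹ = b * a * b⁻¹ := by
    intro a ha b hb hab
    rcases hset.2 a ha b hb with h | h
    · exact absurd (hcomm2 a b (hinv a ha) (hinv b hb) h) hab
    · rw [hinvi a ha, hinvi b hb]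
      exact Cfsg.Agent.S5349.braid (hinv a ha) (hinv b hb) h
  constructor
  · intro hidx
    refine ⟨hclsD, hD2, ?_⟩
    intro B hBD hblk
    by_contra hcon
    have hns : ¬ B.Subsingleton := fun h => hcon (Or.inl h)
    have hne : B ≠ D := fun h => hcon (Or.inr h)
    obtain ⟨x, hx, y, hy, hxy⟩ : ∃ x ∈ B, ∃ y ∈ B, x ≠ y := by
      by_contra h'
      apply hns
      intro x hx y hy
      by_contra hxy
      exact h' ⟨x, hx, y, hy, hxy⟩
    obtain ⟨w, hwD, hwB⟩ : ∃ w ∈ D, w ∉ B := by
      by_contra h'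
      apply hne
      apply Set.Subset.antisymm hBD
      intro w hw
      by_contra hwB
      exact h' ⟨w, hw, hwB⟩
    have hxD := hBD hx
    have hyD := hBD hy
    have hfixB : ∀ b ∈ B, ∀ c ∈ B, b * c * b⁻¹ ∈ B := by
      intro b hb
      have e : b * b * b⁻¹ = b := by group
      exact (fix_of_mem hblk hb (by rw [e]; exact hb)).1
    have hrefl : ∀ c ∈ D, SameBlock B c c := by
      intro c hc
      obtain ⟨g, hg⟩ := hclsD x hxD c hc
      have e : g⁻¹ * c * g = x := by rw [← hg]; group
      exact ⟨g, by rw [e]; exact hx, by rw [e]; exact hx⟩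
    obtain ⟨K, hKn, hKmem⟩ := exists_blockKernel hblk hconj hrefl
    -- all or nothing
    have hallno : ∀ c ∈ D, c ∉ B → ∀ x' ∈ B, ∀ y' ∈ B, x' * c = c * x' → y' * c = c * y' := by
      intro c hc hcB x' hx' y' hy' hcx
      have hy'D := hBD hy'
      have hfc := (fix_of_mem hblk (g := c) hx' (by
        have e : c * x' * c⁻¹ = x' := by rw [← hcx]; group
        rw [e]; exact hx')).1
      by_contra hncy
      have hbr := hbraid y' hy'D c hc hncy
      have h1 : c * y' * c⁻¹ ∈ B := hfc y' hy'
      rw [← hbr] at h1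
      have h2' := hfixB y' hy' _ h1
      have e : y' * (y' * c * y'⁻¹) * y'⁻¹ = c := by
        rw [hinvi y' hy'D]
        have e' : y' * (y' * c * y') * y' = (y' * y') * c * (y' * y') := by group
        rw [e', hinv y' hy'D]; group
      rw [e] at h2'
      exact hcB h2'
    have hkey : ∀ c ∈ D, SameBlock B (x * c * x⁻¹) (y * c * y⁻¹) := by
      intro c hc
      by_cases hcB : c ∈ B
      · refine ⟨1, ?_, ?_⟩
        · have e : (1 : G)⁻¹ * (x * c * x⁻¹) * 1 = x * c * x⁻¹ := by group
          rw [e]; exact hfixB x hx c hcB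
        · have e : (1 : G)⁻¹ * (y * c * y⁻¹) * 1 = y * c * y⁻¹ := by group
          rw [e]; exact hfixB y hy c hcB
      · by_cases hcx : x * c = c * x
        · have hcy := hallno c hc hcB x hx y hy hcx
          have e1 : x * c * x⁻¹ = c := by rw [hcx]; group
          have e2 : y * c * y⁻¹ = c := by rw [hcy]; group
          rw [e1, e2]
          exact hrefl c hc
        · have hcy : y * c ≠ c * y := fun h => hcx (hallno c hc hcB y hy x hx h)
          rw [hbraid x hxD c hc hcx, hbraid y hyD c hc hcy]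
          apply sameBlock_conj
          refine ⟨1, ?_, ?_⟩
          · have e : (1 : G)⁻¹ * x * 1 = x := by group
            rw [e]; exact hx
          · have e : (1 : G)⁻¹ * y * 1 = y := by group
            rw [e]; exact hy
    have hxyK : x⁻¹ * y ∈ K := by
      rw [hKmem]
      intro c hc
      have h1 := sameBlock_conj x⁻¹ (hkey c hc)
      have e1 : x⁻¹ * (x * c * x⁻¹) * x⁻¹⁻¹ = c := by group
      have e2 : x⁻¹ * (y * c * y⁻¹) * x⁻¹⁻¹ = x⁻¹ * y * c * (x⁻¹ * y)⁻¹ := by group
      rw [e1, e2] at h1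
      exact h1
    rcases normal_dichotomy hL hF hFit hKn with hKZ | hLK
    · have hz := hKZ hxyK
      apply hxy
      obtain ⟨z, hz1, hyz⟩ : ∃ z ∈ Subgroup.center G, y = x * z := ⟨x⁻¹ * y, hz, by group⟩
      have hcz : ∀ g : G, Commute z g := fun g => (Subgroup.mem_center_iff.mp hz1 g).symm
      have hmem : y ∈ {v : G | ∃ g ∈ Cfsg.pCore 2 G, v = g * x * g⁻¹} := by
        rw [← hV x hxD]
        refine ⟨hyD, ?_⟩
        intro e he
        constructor
        · intro h
          rw [hyz] at h
          have h5 : Commute (x * z * z⁻¹) e := h.mul_left (hcz e).inv_left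
          simpa using h5
        · intro h
          rw [hyz]
          exact h.mul_left (hcz e)
      obtain ⟨g, hg, hyg⟩ := hmem
      have hgc := Subgroup.mem_center_iff.mp (h2 hg) x
      rw [hyg, ← hgc, mul_inv_cancel_right]
    · obtain ⟨g, hg⟩ := hclsD x hxD w hwD
      have hk : ∃ k ∈ L, k * x * k⁻¹ = w := by
        by_cases hgL : g ∈ L
        · exact ⟨g, hgL, hg⟩
        · have hidx2 : L.index = 2 := by
            have h1 : L.index ≠ 1 := by
              intro h1
              rw [Subgroup.index_eq_one] at h1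
              exact hgL (by rw [h1]; exact Subgroup.mem_top g)
            have h0 : L.index ≠ 0 := Subgroup.index_ne_zero_of_finite
            omega
          by_cases hxL : x ∈ L
          · exfalso
            apply hgL
            have hle : Subgroup.closure D ≤ L := by
              rw [Subgroup.closure_le]
              intro b hb
              obtain ⟨t, ht⟩ := hclsD x hxD b hb
              rw [← ht]
              exact hLn.conj_mem x hxL t
            exact hle (by rw [hgen]; exact Subgroup.mem_top g)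
          · refine ⟨g * x, ?_, ?_⟩
            · exact (Subgroup.mul_mem_iff_of_index_two hidx2).mpr
                ⟨fun h => absurd h hgL, fun h => absurd h hxL⟩
            · rw [← hg]
              group
      obtain ⟨k, hkL, hkw⟩ := hk
      have hkK := hLK hkL
      rw [hKmem] at hkK
      obtain ⟨h, h1, h2'⟩ := hkK x hxD
      rw [hkw] at h2'
      have hf := (fix_of_mem hblk (g := h⁻¹) hx (by rw [inv_inv]; exact h1)).2
      have h3' := hf _ h2'
      have e : h⁻¹⁻¹ * (h⁻¹ * w * h) * h⁻¹ = w := by group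
      rw [e] at h3'
      exact hwB h3'
  · intro hconn
    obtain ⟨L', hL'n, hL'q, hF', hclause⟩ := hres
    have hL'L : L' ≤ L := by
      haveI := hL'n
      rcases normal_dichotomy hL'q hF' hFit hLn with h | h
      · exfalso
        apply Cfsg.Agent.Lib.Helper9.qs_not_isSolvable hL
        exact Group.isSolvable_of_comm (fun a b => Subtype.ext (by
          have h1 := Subgroup.mem_center_iff.mp (h a.2) (b : G)
          simpa using h1.symm))
      · exact h
    rcases hclause with htop | hcl
    · have hLtop : L = ⊤ := by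
        rw [eq_top_iff, ← htop]
        exact hL'L
      rw [hLtop, Subgroup.index_top]
      norm_num
    · obtain ⟨d, hd, -⟩ := hD2
      have hdd := hinv d hd
      have hall : ∀ a : D, d⁻¹ * (a : G) ∈ L := by
        intro a
        have hreach := hconn.preconnected ⟨d, hd⟩ a
        rw [SimpleGraph.reachable_iff_reflTransGen] at hreach
        induction hreach with
        | refl =>
            show d⁻¹ * d ∈ L
            rw [inv_mul_cancel]
            exact L.one_mem
        | @tail b c _ hbc ih =>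
            simp only [Cfsg.commutingGraph, SimpleGraph.fromRel_adj] at hbc
            have hc : (b : G) * (c : G) = (c : G) * (b : G) := by
              rcases hbc.2 with h | h
              · exact h
              · exact h.symm
            have h3' : (b : G) * (c : G) * (b : G)⁻¹ * (c : G)⁻¹ ∈ L' := by
              have e : (b : G) * (c : G) * (b : G)⁻¹ * (c : G)⁻¹ = 1 := by rw [hc]; group
              rw [e]; exact L'.one_mem
            have h4 := hL'L (hcl b b.2 c c.2 h3')
            have e : d⁻¹ * (c : G) = (d⁻¹ * (b : G)) * ((b : G)⁻¹ * (c : G)) := by group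
            rw [e]
            exact L.mul_mem ih h4
      obtain ⟨π, hπ⟩ : ∃ π : G →* G ⧸ L, π = QuotientGroup.mk' L := ⟨_, rfl⟩
      have hker : ∀ g : G, π g = 1 ↔ g ∈ L := by
        intro g; rw [hπ, ← MonoidHom.mem_ker, QuotientGroup.ker_mk']
      have hsurj : Function.Surjective π := by
        rw [hπ]; exact QuotientGroup.mk'_surjective L
      have hzp : Subgroup.zpowers (π d) = ⊤ := by
        rw [eq_top_iff]
        intro q _
        obtain ⟨g, rfl⟩ := hsurj q
        have hg : g ∈ Subgroup.closure D := by rw [hgen]; exact Subgroup.mem_top g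
        have hle : Subgroup.closure D ≤ (Subgroup.zpowers (π d)).comap π := by
          rw [Subgroup.closure_le]
          intro a ha
          rw [SetLike.mem_coe, Subgroup.mem_comap]
          have h1 : π a = π d := by
            have h5 : π (d⁻¹ * a) = 1 := (hker _).mpr (hall ⟨a, ha⟩)
            rw [map_mul, map_inv] at h5
            exact (inv_mul_eq_one.mp h5).symm
          rw [h1]
          exact Subgroup.mem_zpowers _
        exact Subgroup.mem_comap.mp (hle hg)
      have hcard : L.index = orderOf (π d) := by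
        rw [← Nat.card_zpowers, hzp, Subgroup.card_top]
        rfl
      have hord : orderOf (π d) ∣ 2 :=
        orderOf_dvd_of_pow_eq_one (by rw [pow_two, ← map_mul, hdd, map_one])
      rw [hcard]
      exact Nat.le_of_dvd (by norm_num) hord

end Cfsg.Agent.S5353
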