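import Cfsg.Statements.S5361
import Mathlib
import Cfsg.Prelude.Def_Local
import Cfsg.Prelude.Def_FischerSpaces
import Cfsg.Agent.Lib.Lead.Cores
import Cfsg.Agent.Lib.Helper9.Components
import Cfsg.Agent.Lib.Helper9.Misc
import Cfsg.Agent.S5349
import Cfsg.Agent.S5350
import Cfsg.Agent.S5351
import Cfsg.Agent.S5352
import Cfsg.Agent.S5353
import Cfsg.Agent.S5561

set_option autoImplicit false
open Cfsg

namespace Cfsg.Agent.S5361

open scoped commutatorElement

universe u

section aux

variable {G : Type u} [Group G]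

theorem comm_conj_iff (g u y : G) : Commute (g * u * g⁻¹) y ↔ Commute u (g⁻¹ * y * g) := by
  constructor
  · intro h
    have h' : (g * u * g⁻¹) * y = y * (g * u * g⁻¹) := h
    show u * (g⁻¹ * y * g) = (g⁻¹ * y * g) * u
    calc u * (g⁻¹ * y * g) = g⁻¹ * ((g * u * g⁻¹) * y) * g := by group
      _ = g⁻¹ * (y * (g * u * g⁻¹)) * g := by rw [h']
      _ = (g⁻¹ * y * g) * u := by group
  · intro h
    have h' : u * (g⁻¹ * y * g) = (g⁻¹ * y * g) * u := h
    show (g * u * g⁻¹) * y = y * (g * u * g⁻¹)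
    calc (g * u * g⁻¹) * y = g * (u * (g⁻¹ * y * g)) * g⁻¹ := by group
      _ = g * ((g⁻¹ * y * g) * u) * g⁻¹ := by rw [h']
      _ = y * (g * u * g⁻¹) := by group

/-- the class of `d` under a conjugation-invariant equivalence relation is a block. -/
theorem block_of_rel {D : Set G} (hconj : ∀ g : G, ∀ x ∈ D, g * x * g⁻¹ ∈ D)
    (E : G → G → Prop) (hsymm : ∀ u v, E u v → E v u)
    (htrans : ∀ u v w, E u v → E v w → E u w)
    (hinvar : ∀ g u v, E u v → E (g * u * g⁻¹) (g * v * g⁻¹)) (d : G)
    (B : Set G) (hB : ∀ v, v ∈ B ↔ (v ∈ D ∧ E d v)) :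
    ∀ g : G, (fun x => g * x * g⁻¹) '' B = B ∨ Disjoint ((fun x => g * x * g⁻¹) '' B) B := by
  intro g
  by_cases hex : ∃ v, v ∈ B ∧ g * v * g⁻¹ ∈ B
  · left
    obtain ⟨v, hvB, hgvB⟩ := hex
    obtain ⟨hvD, hdv⟩ := (hB v).mp hvB
    obtain ⟨-, hdgv⟩ := (hB _).mp hgvB
    apply Set.Subset.antisymm
    · intro t ht
      obtain ⟨u, huB, hut⟩ := ht
      obtain ⟨huD, hdu⟩ := (hB u).mp huB
      have hut' : g * u * g⁻¹ = t := hut
      rw [← hut']
      exact (hB _).mpr ⟨hconj g u huD,
        htrans _ _ _ hdgv (hinvar g v u (htrans _ _ _ (hsymm _ _ hdv) hdu))⟩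
    · intro u huB
      obtain ⟨huD, hdu⟩ := (hB u).mp huB
      refine ⟨g⁻¹ * u * g⁻¹⁻¹, (hB _).mpr ⟨hconj g⁻¹ u huD, ?_⟩, ?_⟩
      · have h1 := hinvar g⁻¹ _ _ (htrans _ _ _ (hsymm _ _ hdgv) hdu)
        have e : g⁻¹ * (g * v * g⁻¹) * g⁻¹⁻¹ = v := by group
        rw [e] at h1
        exact htrans _ _ _ hdv h1
      · show g * (g⁻¹ * u * g⁻¹⁻¹) * g⁻¹ = u
        group
  · right
    rw [Set.disjoint_left]
    intro t ht htB
    obtain ⟨u, huB, hut⟩ := ht
    have hut' : g * u * g⁻¹ = t := hut
    rw [← hut'] at htB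
    exact hex ⟨u, huB, htB⟩

theorem index_le_two {D : Set G} (hgen : Subgroup.closure D = ⊤)
    {L : Subgroup G} [L.Normal] {d : G} (hdd : d * d = 1)
    (hall : ∀ a ∈ D, d⁻¹ * a ∈ L) : L.index ≤ 2 := by
  obtain ⟨π, hπ⟩ : ∃ π : G →* G ⧸ L, π = QuotientGroup.mk' L := ⟨_, rfl⟩
  have hker : ∀ g : G, π g = 1 ↔ g ∈ L := by
    intro g; rw [hπ, ← MonoidHom.mem_ker, QuotientGroup.ker_mk']
  have hsurj : Function.Surjective π := by
    rw [hπ]; exact QuotientGroup.mk'_surjective L
  have hzp : Subgroup.zpowers (π d) = ⊤ := by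
    rw [eq_top_iff]
    intro q _
    obtain ⟨g, rfl⟩ := hsurj q
    have hg : g ∈ Subgroup.closure D := by rw [hgen]; exact Subgroup.mem_top g
    have hle : Subgroup.closure D ≤ (Subgroup.zpowers (π d)).comap π := by
      rw [Subgroup.closure_le]
      intro a ha
      rw [SetLike.mem_coe, Subgroup.mem_comap]
      have h1 : π a = π d := by
        have h5 : π (d⁻¹ * a) = 1 := (hker _).mpr (hall a ha)
        rw [map_mul, map_inv] at h5
        exact (inv_mul_eq_one.mp h5).symm
      rw [h1]
      exact Subgroup.mem_zpowers _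
    exact Subgroup.mem_comap.mp (hle hg)
  have hcard : L.index = orderOf (π d) := by
    rw [← Nat.card_zpowers, hzp, Subgroup.card_top]
    rfl
  have hord : orderOf (π d) ∣ 2 :=
    orderOf_dvd_of_pow_eq_one (by rw [pow_two, ← map_mul, hdd, map_one])
  rw [hcard]
  exact Nat.le_of_dvd (by norm_num) hord

/-- conjugation as a graph homomorphism of the commuting graph. -/
def conjHom {D : Set G} (hconj : ∀ g : G, ∀ x ∈ D, g * x * g⁻¹ ∈ D) (k : G) :
    Cfsg.commutingGraph D →g Cfsg.commutingGraph D where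
  toFun c := ⟨k * (c : G) * k⁻¹, hconj k c.1 c.2⟩
  map_rel' := by
    intro u v h
    simp only [Cfsg.commutingGraph, SimpleGraph.fromRel_adj] at h
    show (SimpleGraph.fromRel fun x y : D => Commute (x : G) (y : G)).Adj
      ⟨k * (u : G) * k⁻¹, hconj k u.1 u.2⟩ ⟨k * (v : G) * k⁻¹, hconj k v.1 v.2⟩
    rw [SimpleGraph.fromRel_adj]
    refine ⟨?_, ?_⟩
    · intro heq
      apply h.1
      apply Subtype.ext
      have h6 : k * (u : G) * k⁻¹ = k * (v : G) * k⁻¹ := congrArg Subtype.val heq
      exact mul_left_cancel (mul_right_cancel h6)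
    · rcases h.2 with h' | h'
      · left
        show Commute (k * (u : G) * k⁻¹) (k * (v : G) * k⁻¹)
        exact (Commute.conj_iff k).mpr h'
      · right
        show Commute (k * (v : G) * k⁻¹) (k * (u : G) * k⁻¹)
        exact (Commute.conj_iff k).mpr h'

end aux

/-- Let D be a conjugacy class of 3-transpositions generating the finite group G, and suppose the centre of G is trivial and some two different members of D commute. Then the following are equivalent: (1) the commutator subgroup of G is simple (possibly of prime order); (2) G acts primitively on D by conjugation; (3) the largest normal 2-subgroup and the largest normal 3-subgroup of G are trivial and the commuting graph of D is connected. -/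
theorem result {G : Type*} [Group G] [Finite G] {D : Set G} (hD : Cfsg.IsThreeTranspositionClass D) (hZ : Subgroup.center G = ⊥) (hw : ∃ a ∈ D, ∃ b ∈ D, a ≠ b ∧ Commute a b) : (IsSimpleGroup (commutator G) ↔ Cfsg.IsPrimitiveUnderConj D) ∧ (Cfsg.IsPrimitiveUnderConj D ↔ (Cfsg.pCore 2 G = ⊥ ∧ Cfsg.pCore 3 G = ⊥ ∧ (Cfsg.commutingGraph D).Connected)) := by
  classical
  haveI : Fact (Nat.Prime 3) := ⟨Nat.prime_three⟩
  haveI : Fact (Nat.Prime 2) := ⟨Nat.prime_two⟩
  obtain ⟨a, ha, b, hb, hab, hcab⟩ := hw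
  have hD2 : ∃ a ∈ D, ∃ b ∈ D, a ≠ b := ⟨a, ha, b, hb, hab⟩
  obtain ⟨hpartA, -⟩ := Cfsg.Agent.S5351.result hD hD2
  have hV : ∀ x ∈ D, {v : G | v ∈ D ∧ ∀ e ∈ D, Commute v e ↔ Commute x e} =
      {v : G | ∃ g ∈ Cfsg.pCore 2 G, v = g * x * g⁻¹} :=
    fun x hx => (Cfsg.Agent.S5349.result hD hD2 (d := x) hx).2
  have hW : ∀ x ∈ D, {w : G | w ∈ D ∧ {y : G | y ∈ D ∧ y ≠ x ∧ Commute x y} =
      {y : G | y ∈ D ∧ y ≠ w ∧ Commute w y}} =
      {w : G | ∃ g ∈ Cfsg.pCore 3 G, w = g * x * g⁻¹} :=
    fun x hx => (Cfsg.Agent.S5350.result hD hD2 (d := x) hx).2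
  have hD' := hD
  obtain ⟨hset, ⟨d0, hd0, hcls⟩, hgen⟩ := hD'
  have hinv : ∀ a ∈ D, a * a = 1 := by
    intro a ha
    have := pow_orderOf_eq_one a
    rw [hset.1 a ha, pow_two] at this
    exact this
  have hconj : ∀ g : G, ∀ x ∈ D, g * x * g⁻¹ ∈ D := by
    intro g x hx
    rw [hcls] at hx ⊢
    obtain ⟨c, rfl⟩ := Cfsg.Agent.S5561.mem_conj_iff.mp hx
    exact Cfsg.Agent.S5561.mem_conj_iff.mpr ⟨g * c, by group⟩
  have hclsD : ∀ a ∈ D, ∀ b ∈ D, ∃ g : G, g * a * g⁻¹ = b := by
    intro a ha b hb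
    rw [hcls] at ha hb
    obtain ⟨c, hc⟩ := Cfsg.Agent.S5561.mem_conj_iff.mp hb
    obtain ⟨c', hc'⟩ := Cfsg.Agent.S5561.mem_conj_iff.mp ha
    refine ⟨c * c'⁻¹, ?_⟩
    rw [← hc, ← hc']; group
  -- an element commuting with all of D is trivial
  have hcent1 : ∀ t : G, (∀ e ∈ D, e * t = t * e) → t = 1 := by
    intro t ht
    have hle : Subgroup.closure D ≤ Subgroup.centralizer {t} := by
      rw [Subgroup.closure_le]
      intro e he
      rw [SetLike.mem_coe, Subgroup.mem_centralizer_iff]
      intro h hh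
      rw [Set.mem_singleton_iff.mp hh]
      exact (ht e he).symm
    have hc : t ∈ Subgroup.center G := by
      rw [Subgroup.mem_center_iff]
      intro g
      have hg : g ∈ Subgroup.closure D := by rw [hgen]; exact Subgroup.mem_top g
      exact (Subgroup.mem_centralizer_iff.mp (hle hg) t (Set.mem_singleton t)).symm
    rw [hZ] at hc
    exact Subgroup.mem_bot.mp hc
  have hFitOf : Cfsg.pCore 2 G ≤ Subgroup.center G → Cfsg.pCore 3 G ≤ Subgroup.center G →
      Cfsg.fittingSubgroup G ≤ Subgroup.center G := by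
    intro h2 h3
    rw [Cfsg.Agent.Lib.Lead.Cores.fittingSubgroup_eq_iSup_pCore]
    apply iSup_le
    intro p
    by_cases hp2 : (p : ℕ) = 2
    · rw [hp2]; exact h2
    · by_cases hp3 : (p : ℕ) = 3
      · rw [hp3]; exact h3
      · have hp := p.2
        have h2le := hp.two_le
        exact hpartA p hp (by omega)
  have hBback : Cfsg.pCore 2 G = ⊥ → Cfsg.pCore 3 G = ⊥ → (Cfsg.commutingGraph D).Connected →
      Cfsg.IsPrimitiveUnderConj D := by
    intro h2 h3 hconn
    have h2' : Cfsg.pCore 2 G ≤ Subgroup.center G := by rw [h2]; exact bot_le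
    have h3' : Cfsg.pCore 3 G ≤ Subgroup.center G := by rw [h3]; exact bot_le
    obtain ⟨L, hLn, hLq, hF, -⟩ := Cfsg.Agent.S5352.result hD hD2 h2' h3'
    haveI := hLn
    have hres := Cfsg.Agent.S5353.result hD hD2 h2' h3' L hLq hF
    exact hres.1 (hres.2 hconn)
  have hBfwd : Cfsg.IsPrimitiveUnderConj D →
      Cfsg.pCore 2 G = ⊥ ∧ Cfsg.pCore 3 G = ⊥ ∧ (Cfsg.commutingGraph D).Connected := by
    intro hprim
    obtain ⟨-, -, hblocks⟩ := hprim
    refine ⟨?_, ?_, ?_⟩
    · rw [eq_bot_iff]
      intro g hg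
      rw [Subgroup.mem_bot]
      apply hcent1
      intro d hd
      obtain ⟨BV, hBV⟩ : ∃ BV : Set G,
          BV = {v : G | v ∈ D ∧ ∀ e ∈ D, Commute v e ↔ Commute d e} := ⟨_, rfl⟩
      have hBVmem : ∀ v, v ∈ BV ↔ (v ∈ D ∧ ∀ e ∈ D, Commute v e ↔ Commute d e) := by
        intro v; rw [hBV]; exact Iff.rfl
      have hV' := hV d hd
      rw [← hBV] at hV'
      have hblk := block_of_rel hconj (fun u v => ∀ e ∈ D, Commute v e ↔ Commute u e)
        (fun u v h e he => (h e he).symm)
        (fun u v w h1 h2 e he => (h2 e he).trans (h1 e he))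
        (fun k u v h => by
          have h' : ∀ e ∈ D, Commute v e ↔ Commute u e := h
          show ∀ e ∈ D, Commute (k * v * k⁻¹) e ↔ Commute (k * u * k⁻¹) e
          intro e he
          rw [comm_conj_iff, comm_conj_iff]
          have hk : k⁻¹ * e * k ∈ D := by
            have h5 := hconj k⁻¹ e he
            rwa [inv_inv] at h5
          exact h' _ hk) d BV hBVmem
      rcases hblocks BV (fun v hv => ((hBVmem v).mp hv).1) hblk with hsub | hall
      · have h1 : g * d * g⁻¹ ∈ BV := by
          rw [hV']; exact ⟨g, hg, rfl⟩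
        have h2 : d ∈ BV := (hBVmem d).mpr ⟨hd, fun e he => Iff.rfl⟩
        have h3 := hsub h1 h2
        have h4 := congrArg (fun t => t * g) h3
        simpa using h4.symm
      · exfalso
        have hdc : ∀ v ∈ D, Commute d v := by
          intro v hv
          have hvB : v ∈ BV := by rw [hall]; exact hv
          exact (((hBVmem v).mp hvB).2 v hv).mp (Commute.refl v)
        have hDc : ∀ v ∈ D, ∀ e ∈ D, Commute v e := by
          intro v hv e he
          have hvB : v ∈ BV := by rw [hall]; exact hv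
          exact (((hBVmem v).mp hvB).2 e he).mpr (hdc e he)
        have ha1 : a = 1 := hcent1 a (fun e he => (hDc e he a ha).eq)
        have hb1 : b = 1 := hcent1 b (fun e he => (hDc e he b hb).eq)
        exact hab (ha1.trans hb1.symm)
    · rw [eq_bot_iff]
      intro g hg
      rw [Subgroup.mem_bot]
      apply hcent1
      intro d hd
      obtain ⟨BW, hBW⟩ : ∃ BW : Set G,
          BW = {w : G | w ∈ D ∧ {y : G | y ∈ D ∧ y ≠ d ∧ Commute d y} =
            {y : G | y ∈ D ∧ y ≠ w ∧ Commute w y}} := ⟨_, rfl⟩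
      have hBWmem : ∀ w, w ∈ BW ↔ (w ∈ D ∧ {y : G | y ∈ D ∧ y ≠ d ∧ Commute d y} =
            {y : G | y ∈ D ∧ y ≠ w ∧ Commute w y}) := by
        intro v; rw [hBW]; exact Iff.rfl
      have hW' := hW d hd
      rw [← hBW] at hW'
      have hblk := block_of_rel hconj
        (fun u w => {y : G | y ∈ D ∧ y ≠ u ∧ Commute u y} = {y : G | y ∈ D ∧ y ≠ w ∧ Commute w y})
        (fun u v h => h.symm)
        (fun u v w h1 h2 => h1.trans h2)
        (fun k u v h => by
          have h' : {y : G | y ∈ D ∧ y ≠ u ∧ Commute u y} =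
              {y : G | y ∈ D ∧ y ≠ v ∧ Commute v y} := h
          show {y : G | y ∈ D ∧ y ≠ k * u * k⁻¹ ∧ Commute (k * u * k⁻¹) y} =
              {y : G | y ∈ D ∧ y ≠ k * v * k⁻¹ ∧ Commute (k * v * k⁻¹) y}
          ext y
          have key : ∀ t : G, (y ∈ D ∧ y ≠ k * t * k⁻¹ ∧ Commute (k * t * k⁻¹) y) ↔
              (k⁻¹ * y * k) ∈ {y : G | y ∈ D ∧ y ≠ t ∧ Commute t y} := by
            intro t
            constructor
            · rintro ⟨h1, h2, h3⟩
              refine ⟨?_, ?_, (comm_conj_iff k t y).mp h3⟩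
              · have h5 := hconj k⁻¹ y h1
                rwa [inv_inv] at h5
              · intro h5
                apply h2
                rw [← h5]; group
            · rintro ⟨h1, h2, h3⟩
              refine ⟨?_, ?_, (comm_conj_iff k t y).mpr h3⟩
              · have h5 := hconj k _ h1
                have e : k * (k⁻¹ * y * k) * k⁻¹ = y := by group
                rwa [e] at h5
              · intro h5
                apply h2
                rw [h5]; group
          show (y ∈ D ∧ y ≠ k * u * k⁻¹ ∧ Commute (k * u * k⁻¹) y) ↔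
            (y ∈ D ∧ y ≠ k * v * k⁻¹ ∧ Commute (k * v * k⁻¹) y)
          rw [key u, key v, h']) d BW hBWmem
      rcases hblocks BW (fun v hv => ((hBWmem v).mp hv).1) hblk with hsub | hall
      · have h1 : g * d * g⁻¹ ∈ BW := by
          rw [hW']; exact ⟨g, hg, rfl⟩
        have h2 : d ∈ BW := (hBWmem d).mpr ⟨hd, rfl⟩
        have h3 := hsub h1 h2
        have h4 := congrArg (fun t => t * g) h3
        simpa using h4.symm
      · exfalso
        have hSa := ((hBWmem a).mp (by rw [hall]; exact ha)).2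
        have hSb := ((hBWmem b).mp (by rw [hall]; exact hb)).2
        have hbSa : b ∈ {y : G | y ∈ D ∧ y ≠ a ∧ Commute a y} :=
          ⟨hb, fun h => hab h.symm, hcab⟩
        rw [← hSa, hSb] at hbSa
        exact hbSa.2.1 rfl
    · obtain ⟨BR, hBR⟩ : ∃ BR : Set G, BR = {v : G | v ∈ D ∧ ∃ (hu : a ∈ D) (hv : v ∈ D),
          (Cfsg.commutingGraph D).Reachable ⟨a, hu⟩ ⟨v, hv⟩} := ⟨_, rfl⟩
      have hBRmem : ∀ v, v ∈ BR ↔ (v ∈ D ∧ ∃ (hu : a ∈ D) (hv : v ∈ D),
          (Cfsg.commutingGraph D).Reachable ⟨a, hu⟩ ⟨v, hv⟩) := by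
        intro v; rw [hBR]; exact Iff.rfl
      have hblk := block_of_rel hconj
        (fun u v => ∃ (hu : u ∈ D) (hv : v ∈ D),
          (Cfsg.commutingGraph D).Reachable ⟨u, hu⟩ ⟨v, hv⟩)
        (fun u v h => by
          obtain ⟨hu, hv, h1⟩ := h
          exact ⟨hv, hu, h1.symm⟩)
        (fun u v w h1 h2 => by
          obtain ⟨hu, hv, k1⟩ := h1
          obtain ⟨hv', hw, k2⟩ := h2
          exact ⟨hu, hw, k1.trans k2⟩)
        (fun k u v h => by
          obtain ⟨hu, hv, h1⟩ := h
          exact ⟨hconj k u hu, hconj k v hv, h1.map (conjHom hconj k)⟩) a BR hBRmem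
      rcases hblocks BR (fun v hv => ((hBRmem v).mp hv).1) hblk with hsub | hall
      · exfalso
        have haB : a ∈ BR := (hBRmem a).mpr ⟨ha, ha, ha, SimpleGraph.Reachable.refl _⟩
        have hbB : b ∈ BR := by
          refine (hBRmem b).mpr ⟨hb, ha, hb, SimpleGraph.Adj.reachable ?_⟩
          show (SimpleGraph.fromRel fun x y : D => Commute (x : G) (y : G)).Adj ⟨a, ha⟩ ⟨b, hb⟩
          rw [SimpleGraph.fromRel_adj]
          exact ⟨fun h => hab (congrArg Subtype.val h), Or.inl hcab⟩
        exact hab (hsub haB hbB)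
      · rw [SimpleGraph.connected_iff_exists_forall_reachable]
        refine ⟨⟨a, ha⟩, ?_⟩
        intro w
        have hwB : (w : G) ∈ BR := by rw [hall]; exact w.2
        obtain ⟨-, hu, hv, h1⟩ := (hBRmem w).mp hwB
        exact h1
  -- commutator facts
  have hDC : ∀ e ∈ D, ∀ f ∈ D, e * f⁻¹ ∈ commutator G := by
    intro e he f hf
    obtain ⟨g, hg⟩ := hclsD f hf e he
    have h1 : ⁅g, f⁆ ∈ commutator G :=
      Subgroup.commutator_mem_commutator (Subgroup.mem_top g) (Subgroup.mem_top f)
    rw [commutatorElement_def, hg] at h1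
    exact h1
  have hNA : ¬ (∀ x y : ↥(commutator G), x * y = y * x) := by
    intro hcomm
    have hu : a * b⁻¹ ∈ commutator G := hDC a ha b hb
    have hu1 : a * b⁻¹ = 1 := by
      apply hcent1
      intro e he
      have hc := hDC e he a ha
      have h1 := congrArg Subtype.val (hcomm ⟨e * a⁻¹, hc⟩ ⟨a * b⁻¹, hu⟩)
      have h1' : (e * a⁻¹) * (a * b⁻¹) = (a * b⁻¹) * (e * a⁻¹) := h1
      have h2 : a * (a * b⁻¹) = (a * b⁻¹) * a := by
        have hcb : a * b⁻¹ = b⁻¹ * a := (hcab.inv_right).eq
        calc a * (a * b⁻¹) = a * (b⁻¹ * a) := by rw [← hcb]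
          _ = (a * b⁻¹) * a := by group
      calc e * (a * b⁻¹) = (e * a⁻¹) * (a * (a * b⁻¹)) := by group
        _ = (e * a⁻¹) * ((a * b⁻¹) * a) := by rw [h2]
        _ = ((e * a⁻¹) * (a * b⁻¹)) * a := by group
        _ = ((a * b⁻¹) * (e * a⁻¹)) * a := by rw [h1']
        _ = (a * b⁻¹) * e := by group
    apply hab
    have h5 := congrArg (fun t => t * b) hu1
    simpa using h5
  have hOp : IsSimpleGroup ↥(commutator G) → ∀ p : ℕ, Fact p.Prime → Cfsg.pCore p G = ⊥ := by
    intro hsimple p hp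
    haveI := hp
    haveI := hsimple
    have hpn : (Cfsg.pCore p G).Normal := inferInstance
    have hN : ((Cfsg.pCore p G).subgroupOf (commutator G)).Normal := inferInstance
    rcases hN.eq_bot_or_eq_top with h | h
    · rw [Subgroup.subgroupOf_eq_bot, Subgroup.disjoint_def] at h
      rw [eq_bot_iff]
      intro n hn
      rw [Subgroup.mem_bot]
      apply hcent1
      intro e he
      have h1 : ⁅e, n⁆ ∈ commutator G :=
        Subgroup.commutator_mem_commutator (Subgroup.mem_top e) (Subgroup.mem_top n)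
      have h2 : ⁅e, n⁆ ∈ Cfsg.pCore p G := by
        rw [commutatorElement_def]
        have h5 := hpn.conj_mem n hn e
        exact (Cfsg.pCore p G).mul_mem h5 ((Cfsg.pCore p G).inv_mem hn)
      have h3 := h h2 h1
      rw [commutatorElement_def] at h3
      have h4 := congrArg (fun t => t * n * e) h3
      simpa using h4
    · exfalso
      rw [Subgroup.subgroupOf_eq_top] at h
      have hpg : IsPGroup p ↥(commutator G) :=
        IsPGroup.to_le (Cfsg.Agent.Lib.Lead.Cores.pCore_isPGroup p) h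
      haveI : Group.IsNilpotent ↥(commutator G) := hpg.isNilpotent
      have hsol : Group.IsSolvable ↥(commutator G) := inferInstance
      exact hNA (IsSimpleGroup.comm_iff_isSolvable.mpr hsol)
  have hAfwd : IsSimpleGroup ↥(commutator G) → Cfsg.IsPrimitiveUnderConj D := by
    intro hsimple
    haveI := hsimple
    have h2 : Cfsg.pCore 2 G = ⊥ := hOp hsimple 2 inferInstance
    have h3 : Cfsg.pCore 3 G = ⊥ := hOp hsimple 3 inferInstance
    have h2' : Cfsg.pCore 2 G ≤ Subgroup.center G := by rw [h2]; exact bot_le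
    have h3' : Cfsg.pCore 3 G ≤ Subgroup.center G := by rw [h3]; exact bot_le
    obtain ⟨L, hLn, hLq, hF, -⟩ := Cfsg.Agent.S5352.result hD hD2 h2' h3'
    haveI := hLn
    have hres := Cfsg.Agent.S5353.result hD hD2 h2' h3' L hLq hF
    apply hres.1
    have hCL : commutator G ≤ L := by
      have hN : (L.subgroupOf (commutator G)).Normal := inferInstance
      rcases hN.eq_bot_or_eq_top with h | h
      · exfalso
        rw [Subgroup.subgroupOf_eq_bot, Subgroup.disjoint_def] at h
        apply Cfsg.Agent.Lib.Helper9.qs_not_isSolvable hLq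
        apply Group.isSolvable_of_comm
        intro x y
        apply Subtype.ext
        have k1 : ⁅(x : G), (y : G)⁆ ∈ commutator G :=
          Subgroup.commutator_mem_commutator (Subgroup.mem_top _) (Subgroup.mem_top _)
        have k2 : ⁅(x : G), (y : G)⁆ ∈ L := by
          rw [commutatorElement_def]
          exact L.mul_mem (L.mul_mem (L.mul_mem x.2 y.2) (L.inv_mem x.2)) (L.inv_mem y.2)
        have k3 := h k2 k1
        rw [commutatorElement_def] at k3
        have k4 := congrArg (fun t => t * (y : G) * (x : G)) k3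
        simpa using k4
      · exact Subgroup.subgroupOf_eq_top.mp h
    exact index_le_two hgen (hinv a ha) (fun e he => by
      have h1 := hDC e he a ha
      have h5 := (inferInstance : (commutator G).Normal).conj_mem _ h1 a⁻¹
      have e1 : a⁻¹ * (e * a⁻¹) * a⁻¹⁻¹ = a⁻¹ * e := by group
      rw [e1] at h5
      exact hCL h5)
  have hAback : Cfsg.IsPrimitiveUnderConj D → IsSimpleGroup ↥(commutator G) := by
    intro hprim
    obtain ⟨h2, h3, hconn⟩ := hBfwd hprim
    have h2' : Cfsg.pCore 2 G ≤ Subgroup.center G := by rw [h2]; exact bot_le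
    have h3' : Cfsg.pCore 3 G ≤ Subgroup.center G := by rw [h3]; exact bot_le
    obtain ⟨L, hLn, hLq, hF, -⟩ := Cfsg.Agent.S5352.result hD hD2 h2' h3'
    haveI := hLn
    have hres := Cfsg.Agent.S5353.result hD hD2 h2' h3' L hLq hF
    have hidx := hres.2 hconn
    have hFit := hFitOf h2' h3'
    have hLnab : ¬ (∀ x ∈ L, ∀ y ∈ L, x * y = y * x) := by
      intro hc
      apply Cfsg.Agent.Lib.Helper9.qs_not_isSolvable hLq
      exact Group.isSolvable_of_comm (fun x y => Subtype.ext (hc x x.2 y y.2))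
    have hcenL : Subgroup.center ↥L = ⊥ := by
      have hNn : (Subgroup.centralizer (L : Set G) ⊓ L).Normal := inferInstance
      rcases Cfsg.Agent.S5353.normal_dichotomy hLq hF hFit hNn with h | h
      · rw [eq_bot_iff]
        intro z hz
        rw [Subgroup.mem_bot]
        apply Subtype.ext
        have hzN : (z : G) ∈ Subgroup.centralizer (L : Set G) ⊓ L := by
          refine Subgroup.mem_inf.mpr ⟨?_, z.2⟩
          rw [Subgroup.mem_centralizer_iff]
          intro x hx
          have h4 := Subgroup.mem_center_iff.mp hz ⟨x, hx⟩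
          exact congrArg Subtype.val h4
        have h5 := h hzN
        rw [hZ] at h5
        exact Subgroup.mem_bot.mp h5
      · exfalso
        apply hLnab
        intro x hx y hy
        have h5 := (Subgroup.mem_inf.mp (h hy)).1
        exact Subgroup.mem_centralizer_iff.mp h5 x hx
    have hLsimple : IsSimpleGroup ↥L := by
      haveI : Nontrivial ↥L := Cfsg.Agent.Lib.Helper9.qs_nontrivial hLq
      refine { exists_pair_ne := exists_pair_ne _, eq_bot_or_eq_top_of_normal := ?_ }
      intro M hM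
      rcases Cfsg.Agent.Lib.Helper9.qs_normal_le_center_or_eq_top hLq M hM with h | h
      · left
        rw [hcenL] at h
        exact le_bot_iff.mp h
      · exact Or.inr h
    have hCeq : commutator G = L := by
      apply le_antisymm
      · rw [commutator_def, Subgroup.commutator_le]
        intro g _ h _
        rw [commutatorElement_def]
        by_cases hLtop : L = ⊤
        · rw [hLtop]; exact Subgroup.mem_top _
        · have hidx2 : L.index = 2 := by
            have h1 : L.index ≠ 1 := fun h1 => hLtop (Subgroup.index_eq_one.mp h1)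
            have h0 : L.index ≠ 0 := Subgroup.index_ne_zero_of_finite
            omega
          by_cases hg : g ∈ L <;> by_cases hh : h ∈ L <;>
            simp [Subgroup.mul_mem_iff_of_index_two hidx2, hg, hh]
      · have hperf : ⁅L, L⁆ = L := Subgroup.isPerfect_iff.mp hLq.1
        rw [← hperf, commutator_def]
        exact Subgroup.commutator_mono le_top le_top
    rw [hCeq]
    exact hLsimple
  exact ⟨⟨hAfwd, hAback⟩, ⟨hBfwd, fun h => hBback h.1 h.2.1 h.2.2⟩⟩

end Cfsg.Agent.S5361
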