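import Cfsg.Statements.S5354
import Mathlib
import Cfsg.Prelude.Def_Local
import Cfsg.Prelude.Def_FischerSpaces
import Cfsg.Agent.Lib.Lead.Cores
import Cfsg.Agent.Lib.Helper9.Components
import Cfsg.Agent.Lib.Helper9.Misc
import Cfsg.Agent.S5349
import Cfsg.Agent.S5350
import Cfsg.Agent.S5352
import Cfsg.Agent.S5353
import Cfsg.Agent.S5361
import Cfsg.Agent.S5561

set_option autoImplicit false
open Cfsg

namespace Cfsg.Agent.S5354

universe u

/-- a set stable under conjugation by involutory generators is stable under the subgroup they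
generate. -/
theorem conj_invariant_of_closure {G : Type u} [Group G] {S gens : Set G}
    (hinv : ∀ x ∈ gens, x * x = 1) (hgens : ∀ x ∈ gens, ∀ z ∈ S, x * z * x⁻¹ ∈ S) :
    ∀ g ∈ Subgroup.closure gens, ∀ z ∈ S, g * z * g⁻¹ ∈ S := by
  have key : ∀ g ∈ Subgroup.closure gens,
      (∀ z ∈ S, g * z * g⁻¹ ∈ S) ∧ (∀ z ∈ S, g⁻¹ * z * g ∈ S) := by
    intro g hg
    induction hg using Subgroup.closure_induction with
    | mem x hx =>
        refine ⟨hgens x hx, ?_⟩
        intro z hz
        have hxi : x⁻¹ = x := inv_eq_of_mul_eq_one_right (hinv x hx)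
        have h1 := hgens x hx z hz
        rw [hxi] at h1 ⊢
        exact h1
    | one =>
        refine ⟨?_, ?_⟩
        · intro z hz
          have e : (1 : G) * z * (1 : G)⁻¹ = z := by group
          rw [e]; exact hz
        · intro z hz
          have e : (1 : G)⁻¹ * z * 1 = z := by group
          rw [e]; exact hz
    | mul a b _ _ iha ihb =>
        refine ⟨?_, ?_⟩
        · intro z hz
          have e : a * b * z * (a * b)⁻¹ = a * (b * z * b⁻¹) * a⁻¹ := by group
          rw [e]; exact iha.1 _ (ihb.1 z hz)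
        · intro z hz
          have e : (a * b)⁻¹ * z * (a * b) = b⁻¹ * (a⁻¹ * z * a) * b := by group
          rw [e]; exact ihb.2 _ (iha.2 z hz)
    | inv a _ iha =>
        refine ⟨?_, ?_⟩
        · intro z hz
          have e : a⁻¹ * z * a⁻¹⁻¹ = a⁻¹ * z * a := by group
          rw [e]; exact iha.2 z hz
        · intro z hz
          have e : a⁻¹⁻¹ * z * a⁻¹ = a * z * a⁻¹ := by group
          rw [e]; exact iha.1 z hz
  intro g hg
  exact (key g hg).1

/-- Let D be a conjugation-invariant generating set of 3-transpositions of the finite group G on which G acts primitively by conjugation, and suppose two different members of D commute (width at least 2). Then G has a quasisimple normal subgroup L of index at most 2 with the generalized Fitting subgroup of G equal to L times the centre, the commuting graph of D is connected, and for d in D the subgroup generated by the members of D commuting with d is a maximal D-subgroup: it is proper, and every subgroup generated by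 members of D that contains it is either it or G. -/
theorem result {G : Type*} [Group G] [Finite G] {D : Set G} (hD : Cfsg.IsThreeTranspositionGroup D) (hprim : Cfsg.IsPrimitiveUnderConj D) (hw : ∃ a ∈ D, ∃ b ∈ D, a ≠ b ∧ Commute a b) : (∃ L : Subgroup G, L.Normal ∧ Cfsg.IsQuasisimple L ∧ L.index ≤ 2 ∧ Cfsg.generalizedFittingSubgroup G = L ⊔ Subgroup.center G) ∧ (Cfsg.commutingGraph D).Connected ∧ ∀ d ∈ D, Subgroup.closure {y : G | y ∈ D ∧ Commute d y} ≠ ⊤ ∧ ∀ H : Subgroup G, Cfsg.IsDSubgroup D H → Subgroup.closure {y : G | y ∈ D ∧ Commute d y} ≤ H → H = Subgroup.closure {y : G | y ∈ D ∧ Commute d y} ∨ H = ⊤ := by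
  classical
  obtain ⟨a, ha, b, hb, hab, hcab⟩ := hw
  have hD2 : ∃ a ∈ D, ∃ b ∈ D, a ≠ b := ⟨a, ha, b, hb, hab⟩
  obtain ⟨hset, hconj, hgen⟩ := hD
  obtain ⟨hclsD, -, hblocks⟩ := hprim
  have hDcls : Cfsg.IsThreeTranspositionClass D := by
    refine ⟨hset, ⟨a, ha, ?_⟩, hgen⟩
    ext x
    constructor
    · intro hx
      obtain ⟨g, hg⟩ := hclsD a ha x hx
      exact Cfsg.Agent.S5561.mem_conj_iff.mpr ⟨g, hg⟩
    · intro hx
      obtain ⟨g, hg⟩ := Cfsg.Agent.S5561.mem_conj_iff.mp hx
      rw [← hg]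
      exact hconj g a ha
  have hinv : ∀ a ∈ D, a * a = 1 := by
    intro a ha
    have := pow_orderOf_eq_one a
    rw [hset.1 a ha, pow_two] at this
    exact this
  have hinvi : ∀ a ∈ D, a⁻¹ = a := fun a ha => inv_eq_of_mul_eq_one_right (hinv a ha)
  have hcomm2 : ∀ x y : G, x * x = 1 → y * y = 1 → (x * y) ^ 2 = 1 → x * y = y * x := by
    intro x y hx hy h
    have h1 : x * y * (x * y) = 1 := by rwa [pow_two] at h
    have h4 : (x * y)⁻¹ = x * y := inv_eq_of_mul_eq_one_left h1
    rw [mul_inv_rev, inv_eq_of_mul_eq_one_right hx, inv_eq_of_mul_eq_one_right hy] at h4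
    exact h4.symm
  have hbraid : ∀ a ∈ D, ∀ b ∈ D, a * b ≠ b * a → a * b * a⁻¹ = b * a * b⁻¹ := by
    intro a ha b hb hab
    rcases hset.2 a ha b hb with h | h
    · exact absurd (hcomm2 a b (hinv a ha) (hinv b hb) h) hab
    · rw [hinvi a ha, hinvi b hb]
      exact Cfsg.Agent.S5349.braid (hinv a ha) (hinv b hb) h
  have hcentral : ∀ t : G, (∀ e ∈ D, e * t = t * e) → ∀ g : G, g * t = t * g := by
    intro t ht g
    have hle : Subgroup.closure D ≤ Subgroup.centralizer {t} := by
      rw [Subgroup.closure_le]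
      intro e he
      rw [SetLike.mem_coe, Subgroup.mem_centralizer_iff]
      intro h hh
      rw [Set.mem_singleton_iff.mp hh]
      exact (ht e he).symm
    have hg : g ∈ Subgroup.closure D := by rw [hgen]; exact Subgroup.mem_top g
    exact (Subgroup.mem_centralizer_iff.mp (hle hg) t (Set.mem_singleton t)).symm
  have hnocent : ∀ t ∈ D, ¬ (∀ e ∈ D, e * t = t * e) := by
    intro t ht hall
    have hc := hcentral t hall
    have hall' : ∀ x ∈ D, x = t := by
      intro x hx
      obtain ⟨g, hg⟩ := hclsD t ht x hx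
      rw [← hg, hc g, mul_inv_cancel_right]
    exact hab ((hall' a ha).trans (hall' b hb).symm)
  -- (P1)
  have hP1 : ∀ d ∈ D, ∀ v ∈ D, (∀ e ∈ D, Commute v e ↔ Commute d e) → v = d := by
    intro d hd v hv hvd
    obtain ⟨BV, hBV⟩ : ∃ BV : Set G,
        BV = {v : G | v ∈ D ∧ ∀ e ∈ D, Commute v e ↔ Commute d e} := ⟨_, rfl⟩
    have hBVmem : ∀ v, v ∈ BV ↔ (v ∈ D ∧ ∀ e ∈ D, Commute v e ↔ Commute d e) := by
      intro v; rw [hBV]; exact Iff.rfl
    have hblk := Cfsg.Agent.S5361.block_of_rel hconj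
      (fun u v => ∀ e ∈ D, Commute v e ↔ Commute u e)
      (fun u v h e he => (h e he).symm)
      (fun u v w h1 h2 e he => (h2 e he).trans (h1 e he))
      (fun k u v h => by
        have h' : ∀ e ∈ D, Commute v e ↔ Commute u e := h
        show ∀ e ∈ D, Commute (k * v * k⁻¹) e ↔ Commute (k * u * k⁻¹) e
        intro e he
        rw [Cfsg.Agent.S5361.comm_conj_iff, Cfsg.Agent.S5361.comm_conj_iff]
        have hk : k⁻¹ * e * k ∈ D := by
          have h5 := hconj k⁻¹ e he
          rwa [inv_inv] at h5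
        exact h' _ hk) d BV hBVmem
    rcases hblocks BV (fun v hv => ((hBVmem v).mp hv).1) hblk with hsub | hall
    · exact hsub ((hBVmem v).mpr ⟨hv, hvd⟩) ((hBVmem d).mpr ⟨hd, fun e he => Iff.rfl⟩)
    · exfalso
      have hdc : ∀ v ∈ D, Commute d v := by
        intro v hv
        have hvB : v ∈ BV := by rw [hall]; exact hv
        exact (((hBVmem v).mp hvB).2 v hv).mp (Commute.refl v)
      exact hnocent d hd (fun e he => (hdc e he).eq.symm)
  -- (P2)
  have hP2 : ∀ d ∈ D, ∀ w ∈ D, {y : G | y ∈ D ∧ y ≠ d ∧ Commute d y} =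
      {y : G | y ∈ D ∧ y ≠ w ∧ Commute w y} → w = d := by
    intro d hd w hw hwd
    obtain ⟨BW, hBW⟩ : ∃ BW : Set G,
        BW = {w : G | w ∈ D ∧ {y : G | y ∈ D ∧ y ≠ d ∧ Commute d y} =
          {y : G | y ∈ D ∧ y ≠ w ∧ Commute w y}} := ⟨_, rfl⟩
    have hBWmem : ∀ w, w ∈ BW ↔ (w ∈ D ∧ {y : G | y ∈ D ∧ y ≠ d ∧ Commute d y} =
          {y : G | y ∈ D ∧ y ≠ w ∧ Commute w y}) := by
      intro v; rw [hBW]; exact Iff.rfl
    have hblk := Cfsg.Agent.S5361.block_of_rel hconj
      (fun u w => {y : G | y ∈ D ∧ y ≠ u ∧ Commute u y} = {y : G | y ∈ D ∧ y ≠ w ∧ Commute w y})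
      (fun u v h => h.symm)
      (fun u v w h1 h2 => h1.trans h2)
      (fun k u v h => by
        have h' : {y : G | y ∈ D ∧ y ≠ u ∧ Commute u y} =
            {y : G | y ∈ D ∧ y ≠ v ∧ Commute v y} := h
        show {y : G | y ∈ D ∧ y ≠ k * u * k⁻¹ ∧ Commute (k * u * k⁻¹) y} =
            {y : G | y ∈ D ∧ y ≠ k * v * k⁻¹ ∧ Commute (k * v * k⁻¹) y}
        ext y
        have key : ∀ t : G, (y ∈ D ∧ y ≠ k * t * k⁻¹ ∧ Commute (k * t * k⁻¹) y) ↔
            (k⁻¹ * y * k) ∈ {y : G | y ∈ D ∧ y ≠ t ∧ Commute t y} := by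
          intro t
          constructor
          · rintro ⟨h1, h2, h3⟩
            refine ⟨?_, ?_, (Cfsg.Agent.S5361.comm_conj_iff k t y).mp h3⟩
            · have h5 := hconj k⁻¹ y h1
              rwa [inv_inv] at h5
            · intro h5
              apply h2
              rw [← h5]; group
          · rintro ⟨h1, h2, h3⟩
            refine ⟨?_, ?_, (Cfsg.Agent.S5361.comm_conj_iff k t y).mpr h3⟩
            · have h5 := hconj k _ h1
              have e : k * (k⁻¹ * y * k) * k⁻¹ = y := by group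
              rwa [e] at h5
            · intro h5
              apply h2
              rw [h5]; group
        show (y ∈ D ∧ y ≠ k * u * k⁻¹ ∧ Commute (k * u * k⁻¹) y) ↔
          (y ∈ D ∧ y ≠ k * v * k⁻¹ ∧ Commute (k * v * k⁻¹) y)
        rw [key u, key v, h']) d BW hBWmem
    rcases hblocks BW (fun v hv => ((hBWmem v).mp hv).1) hblk with hsub | hall
    · exact hsub ((hBWmem w).mpr ⟨hw, hwd⟩) ((hBWmem d).mpr ⟨hd, rfl⟩)
    · exfalso
      have hSa := ((hBWmem a).mp (by rw [hall]; exact ha)).2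
      have hSb := ((hBWmem b).mp (by rw [hall]; exact hb)).2
      have hbSa : b ∈ {y : G | y ∈ D ∧ y ≠ a ∧ Commute a y} :=
        ⟨hb, fun h => hab h.symm, hcab⟩
      rw [← hSa, hSb] at hbSa
      exact hbSa.2.1 rfl
  -- connectedness
  have hconn : (Cfsg.commutingGraph D).Connected := by
    obtain ⟨BR, hBR⟩ : ∃ BR : Set G, BR = {v : G | v ∈ D ∧ ∃ (hu : a ∈ D) (hv : v ∈ D),
        (Cfsg.commutingGraph D).Reachable ⟨a, hu⟩ ⟨v, hv⟩} := ⟨_, rfl⟩
    have hBRmem : ∀ v, v ∈ BR ↔ (v ∈ D ∧ ∃ (hu : a ∈ D) (hv : v ∈ D),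
        (Cfsg.commutingGraph D).Reachable ⟨a, hu⟩ ⟨v, hv⟩) := by
      intro v; rw [hBR]; exact Iff.rfl
    have hblk := Cfsg.Agent.S5361.block_of_rel hconj
      (fun u v => ∃ (hu : u ∈ D) (hv : v ∈ D),
        (Cfsg.commutingGraph D).Reachable ⟨u, hu⟩ ⟨v, hv⟩)
      (fun u v h => by
        obtain ⟨hu, hv, h1⟩ := h
        exact ⟨hv, hu, h1.symm⟩)
      (fun u v w h1 h2 => by
        obtain ⟨hu, hv, k1⟩ := h1
        obtain ⟨hv', hw, k2⟩ := h2
        exact ⟨hu, hw, k1.trans k2⟩)
      (fun k u v h => by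
        obtain ⟨hu, hv, h1⟩ := h
        exact ⟨hconj k u hu, hconj k v hv, h1.map (Cfsg.Agent.S5361.conjHom hconj k)⟩) a BR hBRmem
    rcases hblocks BR (fun v hv => ((hBRmem v).mp hv).1) hblk with hsub | hall
    · exfalso
      have haB : a ∈ BR := (hBRmem a).mpr ⟨ha, ha, ha, SimpleGraph.Reachable.refl _⟩
      have hbB : b ∈ BR := by
        refine (hBRmem b).mpr ⟨hb, ha, hb, SimpleGraph.Adj.reachable ?_⟩
        show (SimpleGraph.fromRel fun x y : D => Commute (x : G) (y : G)).Adj ⟨a, ha⟩ ⟨b, hb⟩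
        rw [SimpleGraph.fromRel_adj]
        exact ⟨fun h => hab (congrArg Subtype.val h), Or.inl hcab⟩
      exact hab (hsub haB hbB)
    · rw [SimpleGraph.connected_iff_exists_forall_reachable]
      refine ⟨⟨a, ha⟩, ?_⟩
      intro w
      have hwB : (w : G) ∈ BR := by rw [hall]; exact w.2
      obtain ⟨-, hu, hv, h1⟩ := (hBRmem w).mp hwB
      exact h1
  -- the cores are central
  have h2 : Cfsg.pCore 2 G ≤ Subgroup.center G := by
    intro g hg
    rw [Subgroup.mem_center_iff]
    apply hcentral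
    intro d hd
    have h1 : g * d * g⁻¹ ∈ {v : G | v ∈ D ∧ ∀ e ∈ D, Commute v e ↔ Commute d e} := by
      rw [(Cfsg.Agent.S5349.result hDcls hD2 (d := d) hd).2]
      exact ⟨g, hg, rfl⟩
    have h3 := hP1 d hd _ h1.1 h1.2
    have h4 := congrArg (fun t => t * g) h3
    simpa using h4.symm
  have h3 : Cfsg.pCore 3 G ≤ Subgroup.center G := by
    intro g hg
    rw [Subgroup.mem_center_iff]
    apply hcentral
    intro d hd
    have h1 : g * d * g⁻¹ ∈ {w : G | w ∈ D ∧ {y : G | y ∈ D ∧ y ≠ d ∧ Commute d y} =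
        {y : G | y ∈ D ∧ y ≠ w ∧ Commute w y}} := by
      rw [(Cfsg.Agent.S5350.result hDcls hD2 (d := d) hd).2]
      exact ⟨g, hg, rfl⟩
    have h3 := hP2 d hd _ h1.1 h1.2
    have h4 := congrArg (fun t => t * g) h3
    simpa using h4.symm
  obtain ⟨L, hLn, hLq, hF, -⟩ := Cfsg.Agent.S5352.result hDcls hD2 h2 h3
  haveI := hLn
  have hres := Cfsg.Agent.S5353.result hDcls hD2 h2 h3 L hLq hF
  refine ⟨⟨L, hLn, hLq, hres.2 hconn, hF⟩, hconn, ?_⟩
  intro d hd
  have hdd := hinv d hd
  obtain ⟨M, hM⟩ : ∃ M : Subgroup G,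
      M = Subgroup.closure {y : G | y ∈ D ∧ Commute d y} := ⟨_, rfl⟩
  rw [← hM]
  have hMcent : ∀ z ∈ M, d * z = z * d := by
    intro z hz
    have hle : M ≤ Subgroup.centralizer {d} := by
      rw [hM, Subgroup.closure_le]
      intro y hy
      rw [SetLike.mem_coe, Subgroup.mem_centralizer_iff]
      intro h hh
      rw [Set.mem_singleton_iff.mp hh]
      exact hy.2.eq
    exact Subgroup.mem_centralizer_iff.mp (hle hz) d (Set.mem_singleton d)
  have hCM : ∀ y ∈ D, Commute d y → y ∈ M := by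
    intro y hy hc
    rw [hM]; exact Subgroup.subset_closure ⟨hy, hc⟩
  constructor
  · intro htop
    apply hnocent d hd
    intro e he
    have h5 := hMcent e (by rw [htop]; exact Subgroup.mem_top e)
    exact h5.symm
  · intro H₀ hH₀D hMH₀
    by_contra hcon
    have hH₀M : H₀ ≠ M := fun h => hcon (Or.inl h)
    have hH₀top : H₀ ≠ ⊤ := fun h => hcon (Or.inr h)
    obtain ⟨Fam, hFam⟩ : ∃ Fam : Set (Subgroup G), Fam = {H' : Subgroup G |
        Cfsg.IsDSubgroup D H' ∧ M ≤ H' ∧ H' ≠ M ∧ H' ≤ H₀} := ⟨_, rfl⟩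
    have hH₀Fam : H₀ ∈ Fam := by rw [hFam]; exact ⟨hH₀D, hMH₀, hH₀M, le_refl _⟩
    obtain ⟨H, hHmin⟩ := (Set.toFinite Fam).exists_minimal ⟨H₀, hH₀Fam⟩
    have hHFam : H ∈ Fam := hHmin.prop
    rw [hFam] at hHFam
    obtain ⟨hHD, hMH, hHM, hHH₀⟩ := hHFam
    have hHD' : Subgroup.closure {x : G | x ∈ D ∧ x ∈ H} = H := hHD
    have hminimal : ∀ J : Subgroup G, Cfsg.IsDSubgroup D J → M ≤ J → J ≤ H → J = M ∨ H ≤ J := by
      intro J hJD hMJ hJH
      by_cases hJM : J = M
      · exact Or.inl hJM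
      · right
        exact hHmin.le_of_le (by rw [hFam]; exact ⟨hJD, hMJ, hJM, hJH.trans hHH₀⟩) hJH
    obtain ⟨T, hT⟩ : ∃ T : Set G, T = {t : G | ∃ h ∈ H, t = h * d * h⁻¹} := ⟨_, rfl⟩
    have hTmem : ∀ t, t ∈ T ↔ ∃ h ∈ H, t = h * d * h⁻¹ := by
      intro t; rw [hT]; exact Iff.rfl
    have hdM : d ∈ M := hCM d hd (Commute.refl d)
    have hdH : d ∈ H := hMH hdM
    have hdT : d ∈ T := (hTmem d).mpr ⟨1, H.one_mem, by group⟩
    have hTD : ∀ t ∈ T, t ∈ D := by
      intro t ht
      obtain ⟨h, hh, rfl⟩ := (hTmem t).mp ht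
      exact hconj h d hd
    have hTH : ∀ t ∈ T, t ∈ H := by
      intro t ht
      obtain ⟨h, hh, rfl⟩ := (hTmem t).mp ht
      exact H.mul_mem (H.mul_mem hh hdH) (H.inv_mem hh)
    have hG2 : ∀ h ∈ H, ∀ t ∈ T, h * t * h⁻¹ ∈ T := by
      intro h hh t ht
      obtain ⟨k, hk, rfl⟩ := (hTmem t).mp ht
      exact (hTmem _).mpr ⟨h * k, H.mul_mem hh hk, by group⟩
    have hG3 : ∀ t ∈ T, ∀ y ∈ D, Commute t y → y ∈ H := by
      intro t ht y hy hc
      obtain ⟨h, hh, rfl⟩ := (hTmem t).mp ht
      have h1 : Commute d (h⁻¹ * y * h) := (Cfsg.Agent.S5361.comm_conj_iff h d y).mp hc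
      have h2' : h⁻¹ * y * h ∈ M := hCM _ (by
        have h5 := hconj h⁻¹ y hy
        rwa [inv_inv] at h5) h1
      have h3' := H.mul_mem (H.mul_mem hh (hMH h2')) (H.inv_mem hh)
      have e : h * (h⁻¹ * y * h) * h⁻¹ = y := by group
      rwa [e] at h3'
    have hG4 : ∀ x ∈ D, x ∈ H → x ∉ T → ∀ t ∈ T, Commute x t := by
      intro x hx hxH hxT t ht
      by_contra hnc
      apply hxT
      have hbr := hbraid x hx t (hTD t ht) hnc
      have h1 := hG2 (t⁻¹ * x) (H.mul_mem (H.inv_mem (hTH t ht)) hxH) t ht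
      have e : t⁻¹ * x * t * (t⁻¹ * x)⁻¹ = x := by
        calc t⁻¹ * x * t * (t⁻¹ * x)⁻¹ = t⁻¹ * (x * t * x⁻¹) * t := by group
          _ = t⁻¹ * (t * x * t⁻¹) * t := by rw [hbr]
          _ = x := by group
      rwa [e] at h1
    have hexe : ∃ e ∈ T, ¬ Commute d e := by
      by_contra hcon2
      have hHle : H ≤ M := by
        have h1 : Subgroup.closure {x : G | x ∈ D ∧ x ∈ H} ≤ M := by
          rw [Subgroup.closure_le]
          intro x hx
          by_contra hxM
          apply hcon2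
          have hnc : ¬ Commute d x := fun h => hxM (hCM x hx.1 h)
          refine ⟨x, ?_, hnc⟩
          by_contra hxT
          exact hnc (hG4 x hx.1 hx.2 hxT d hdT).symm
        exact hHD'.symm.le.trans h1
      exact hHM (le_antisymm hHle hMH)
    obtain ⟨e, heT, hde⟩ := hexe
    have hde' : d ≠ e := by
      intro h
      apply hde
      rw [← h]
    -- conjugation by the centraliser of d preserves T
    have hstar : ∀ c : G, c * d = d * c → ∀ t ∈ T, c * t * c⁻¹ ∈ T := by
      intro c hc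
      have hcd : c * d * c⁻¹ = d := by rw [hc, mul_inv_cancel_right]
      have hcd' : c⁻¹ * d * c = d := by
        have h5 : c⁻¹ * d * c = c⁻¹ * (d * c) := by group
        rw [h5, ← hc]; group
      obtain ⟨I, hI⟩ : ∃ I : Set G, I = {z : G | z ∈ T ∧ c * z * c⁻¹ ∈ T} := ⟨_, rfl⟩
      have hImem : ∀ z, z ∈ I ↔ (z ∈ T ∧ c * z * c⁻¹ ∈ T) := by
        intro z; rw [hI]; exact Iff.rfl
      have hdI : d ∈ I := (hImem d).mpr ⟨hdT, by rw [hcd]; exact hdT⟩
      obtain ⟨gens, hgens⟩ : ∃ gens : Set G,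
          gens = {y : G | y ∈ D ∧ Commute d y} ∪ I := ⟨_, rfl⟩
      have hgensmem : ∀ x, x ∈ gens ↔ ((x ∈ D ∧ Commute d x) ∨ x ∈ I) := by
        intro x; rw [hgens]; exact Iff.rfl
      have hcC : ∀ x ∈ D, Commute d x → c * x * c⁻¹ ∈ H := by
        intro x hx hdx
        apply hG3 d hdT _ (hconj c x hx)
        have h1 : Commute (c * d * c⁻¹) (c * x * c⁻¹) := (Commute.conj_iff c).mpr hdx
        rwa [hcd] at h1
      have hgD : ∀ x ∈ gens, x ∈ D := by
        intro x hx
        rcases (hgensmem x).mp hx with h | h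
        · exact h.1
        · exact hTD x ((hImem x).mp h).1
      have hgH : ∀ x ∈ gens, x ∈ H := by
        intro x hx
        rcases (hgensmem x).mp hx with h | h
        · exact hG3 d hdT x h.1 h.2
        · exact hTH x ((hImem x).mp h).1
      have hgcH : ∀ x ∈ gens, c * x * c⁻¹ ∈ H := by
        intro x hx
        rcases (hgensmem x).mp hx with h | h
        · exact hcC x h.1 h.2
        · exact hTH _ ((hImem x).mp h).2
      have hJinv : ∀ g ∈ Subgroup.closure gens, ∀ z ∈ I, g * z * g⁻¹ ∈ I := by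
        apply conj_invariant_of_closure
        · intro x hx; exact hinv x (hgD x hx)
        · intro x hx z hz
          obtain ⟨hzT, hczT⟩ := (hImem z).mp hz
          refine (hImem _).mpr ⟨hG2 x (hgH x hx) z hzT, ?_⟩
          have e1 : c * (x * z * x⁻¹) * c⁻¹ =
              (c * x * c⁻¹) * (c * z * c⁻¹) * (c * x * c⁻¹)⁻¹ := by group
          rw [e1]
          exact hG2 _ (hgcH x hx) _ hczT
      have hJH : Subgroup.closure gens ≤ H := by
        rw [Subgroup.closure_le]
        intro x hx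
        exact hgH x hx
      have hMJ : M ≤ Subgroup.closure gens := by
        rw [hM]
        apply Subgroup.closure_mono
        intro y hy
        exact (hgensmem y).mpr (Or.inl hy)
      have hJD : Cfsg.IsDSubgroup D (Subgroup.closure gens) := by
        show Subgroup.closure {x : G | x ∈ D ∧ x ∈ Subgroup.closure gens} = Subgroup.closure gens
        apply le_antisymm
        · rw [Subgroup.closure_le]
          intro x hx
          exact hx.2
        · apply Subgroup.closure_mono
          intro x hx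
          exact ⟨hgD x hx, Subgroup.subset_closure hx⟩
      rcases hminimal _ hJD hMJ hJH with hJM | hHJ
      · exfalso
        have hIcomm : ∀ z ∈ I, Commute d z := by
          intro z hz
          have hzM : z ∈ M := by
            rw [← hJM]; exact Subgroup.subset_closure ((hgensmem z).mpr (Or.inr hz))
          exact hMcent z hzM
        have hyD : c⁻¹ * e * c ∈ D := by
          have h5 := hconj c⁻¹ e (hTD e heT)
          rwa [inv_inv] at h5
        have hyd : ¬ Commute d (c⁻¹ * e * c) := by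
          intro h
          apply hde
          have h1 : Commute (c * d * c⁻¹) e := (Cfsg.Agent.S5361.comm_conj_iff c d e).mpr h
          rwa [hcd] at h1
        have hyH : c⁻¹ * e * c ∉ H := by
          intro hyH
          by_cases hyT : c⁻¹ * e * c ∈ T
          · apply hyd
            apply hIcomm
            refine (hImem _).mpr ⟨hyT, ?_⟩
            have e1 : c * (c⁻¹ * e * c) * c⁻¹ = e := by group
            rw [e1]; exact heT
          · exact hyd (hG4 _ hyD hyH hyT d hdT).symm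
        have hyno : ∀ t ∈ T, ¬ Commute t (c⁻¹ * e * c) := by
          intro t ht hc'
          exact hyH (hG3 t ht _ hyD hc')
        have hsc1 : ∀ t ∈ T, Commute d t → t ∈ I := by
          intro t ht hdt
          refine (hImem t).mpr ⟨ht, ?_⟩
          by_contra hctT
          have htD := hTD t ht
          have hctH : c * t * c⁻¹ ∈ H := hcC t htD hdt
          have h1 : Commute (c * t * c⁻¹) e := hG4 _ (hconj c t htD) hctH hctT e heT
          exact hyno t ht ((Cfsg.Agent.S5361.comm_conj_iff c t e).mp h1)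
        have hsc2 : ∀ i ∈ I, ∀ t ∈ T, Commute i t → Commute d t := by
          intro i hi t ht hit
          by_contra hdt
          have htD := hTD t ht
          obtain ⟨hiT, hciT⟩ := (hImem i).mp hi
          by_cases hctT : c * t * c⁻¹ ∈ T
          · exact hdt (hIcomm t ((hImem t).mpr ⟨ht, hctT⟩))
          · by_cases hctH : c * t * c⁻¹ ∈ H
            · have h1 : Commute (c * t * c⁻¹) d := hG4 _ (hconj c t htD) hctH hctT d hdT
              have h2' : Commute t (c⁻¹ * d * c) := (Cfsg.Agent.S5361.comm_conj_iff c t d).mp h1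
              rw [hcd'] at h2'
              exact hdt h2'.symm
            · have h1 : Commute (c * i * c⁻¹) (c * t * c⁻¹) := (Commute.conj_iff c).mpr hit
              exact hctH (hG3 _ hciT _ (hconj c t htD) h1)
        have hGS : ∀ t₀ ∈ T, ∀ i' ∈ T, Commute t₀ i' → ∀ s ∈ T, Commute i' s → Commute t₀ s := by
          intro t₀ ht₀ i' hi' h1 s hs h2'
          obtain ⟨h, hh, rfl⟩ := (hTmem t₀).mp ht₀
          have e1 : h⁻¹ * (h * d * h⁻¹) * h⁻¹⁻¹ = d := by group
          have k1 : Commute d (h⁻¹ * i' * h⁻¹⁻¹) := by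
            have h5 := (Commute.conj_iff h⁻¹).mpr h1
            rwa [e1] at h5
          have k2 : h⁻¹ * i' * h⁻¹⁻¹ ∈ T := hG2 _ (H.inv_mem hh) i' hi'
          have k3 : h⁻¹ * s * h⁻¹⁻¹ ∈ T := hG2 _ (H.inv_mem hh) s hs
          have k4 : Commute (h⁻¹ * i' * h⁻¹⁻¹) (h⁻¹ * s * h⁻¹⁻¹) :=
            (Commute.conj_iff h⁻¹).mpr h2'
          have k5 := hsc2 _ (hsc1 _ k2 k1) _ k3 k4
          have k6 : Commute (h⁻¹ * (h * d * h⁻¹) * h⁻¹⁻¹) (h⁻¹ * s * h⁻¹⁻¹) := by
            rw [e1]; exact k5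
          exact (Commute.conj_iff h⁻¹).mp k6
        have hsc4 : ∀ i ∈ I, i = d := by
          intro i hi
          obtain ⟨hiT, -⟩ := (hImem i).mp hi
          apply hP1 d hd i (hTD i hiT)
          intro y hy
          by_cases hyT' : y ∈ T
          · exact ⟨hsc2 i hi y hyT', fun h => hGS i hiT d hdT (hIcomm i hi).symm y hyT' h⟩
          · by_cases hyH' : y ∈ H
            · have h1 := hG4 y hy hyH' hyT'
              exact ⟨fun _ => (h1 d hdT).symm, fun _ => (h1 i hiT).symm⟩
            · constructor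
              · intro h; exact absurd (hG3 i hiT y hy h) hyH'
              · intro h; exact absurd (hG3 d hdT y hy h) hyH'
        have hsc5 : ∀ t ∈ T, ∀ t' ∈ T, Commute t t' → t' = t := by
          intro t ht t' ht' hc'
          obtain ⟨h, hh, rfl⟩ := (hTmem t).mp ht
          have e1 : h⁻¹ * (h * d * h⁻¹) * h⁻¹⁻¹ = d := by group
          have k1 : Commute d (h⁻¹ * t' * h⁻¹⁻¹) := by
            have h5 := (Commute.conj_iff h⁻¹).mpr hc'
            rwa [e1] at h5
          have k2 : h⁻¹ * t' * h⁻¹⁻¹ ∈ T := hG2 _ (H.inv_mem hh) t' ht'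
          have k3 := hsc4 _ (hsc1 _ k2 k1)
          have e2 : t' = h * (h⁻¹ * t' * h⁻¹⁻¹) * h⁻¹ := by group
          rw [e2, k3]
        have hDeq : {y : G | y ∈ D ∧ y ≠ d ∧ Commute d y} =
            {y : G | y ∈ D ∧ y ≠ e ∧ Commute e y} := by
          ext y
          constructor
          · rintro ⟨hy, hyd', hcy⟩
            have hyT' : y ∉ T := fun h => hyd' (hsc5 d hdT y h hcy)
            have hyH' : y ∈ H := hG3 d hdT y hy hcy
            exact ⟨hy, fun h => hyT' (by rw [h]; exact heT), (hG4 y hy hyH' hyT' e heT).symm⟩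
          · rintro ⟨hy, hye', hcy⟩
            have hyT' : y ∉ T := fun h => hye' (hsc5 e heT y h hcy)
            have hyH' : y ∈ H := hG3 e heT y hy hcy
            exact ⟨hy, fun h => hyT' (by rw [h]; exact hdT), (hG4 y hy hyH' hyT' d hdT).symm⟩
        exact hde' (hP2 d hd e (hTD e heT) hDeq).symm
      · intro t ht
        obtain ⟨h, hh, rfl⟩ := (hTmem t).mp ht
        exact ((hImem _).mp (hJinv h (hHJ hh) d hdI)).2
    -- T is a block
    have hblkT : ∀ g : G, (fun x => g * x * g⁻¹) '' T = T ∨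
        Disjoint ((fun x => g * x * g⁻¹) '' T) T := by
      intro g
      by_cases hex : ∃ t ∈ T, g * t * g⁻¹ ∈ T
      · left
        obtain ⟨t, ht, hgt⟩ := hex
        obtain ⟨h₁, hh₁, ht1⟩ := (hTmem t).mp ht
        obtain ⟨h₂, hh₂, ht2⟩ := (hTmem _).mp hgt
        have hc : (h₂⁻¹ * g * h₁) * d = d * (h₂⁻¹ * g * h₁) := by
          have e1 : (h₂⁻¹ * g * h₁) * d =
              h₂⁻¹ * (g * (h₁ * d * h₁⁻¹) * g⁻¹) * h₂ * (h₂⁻¹ * g * h₁) := by group
          rw [e1, ← ht1, ht2]
          group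
        have hcc : Commute (h₂⁻¹ * g * h₁) d := hc
        have hs1 := hstar _ hc
        have hs2 := hstar _ (hcc.inv_left).eq
        have hfwd : ∀ s ∈ T, g * s * g⁻¹ ∈ T := by
          intro s hs
          have k1 := hG2 h₁⁻¹ (H.inv_mem hh₁) s hs
          have k2 := hs1 _ k1
          have k3 := hG2 h₂ hh₂ _ k2
          have e1 : h₂ * ((h₂⁻¹ * g * h₁) * (h₁⁻¹ * s * h₁⁻¹⁻¹) * (h₂⁻¹ * g * h₁)⁻¹) * h₂⁻¹ =
              g * s * g⁻¹ := by group
          rwa [e1] at k3
        have hbwd : ∀ s ∈ T, g⁻¹ * s * g ∈ T := by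
          intro s hs
          have k1 := hG2 h₂⁻¹ (H.inv_mem hh₂) s hs
          have k2 := hs2 _ k1
          have k3 := hG2 h₁ hh₁ _ k2
          have e1 : h₁ * ((h₂⁻¹ * g * h₁)⁻¹ * (h₂⁻¹ * s * h₂⁻¹⁻¹) * (h₂⁻¹ * g * h₁)⁻¹⁻¹) * h₁⁻¹ =
              g⁻¹ * s * g := by group
          rwa [e1] at k3
        apply Set.Subset.antisymm
        · intro u hu
          obtain ⟨s, hs, hsu⟩ := hu
          have hsu' : g * s * g⁻¹ = u := hsu
          rw [← hsu']
          exact hfwd s hs
        · intro s hs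
          exact ⟨g⁻¹ * s * g, hbwd s hs, by
            show g * (g⁻¹ * s * g) * g⁻¹ = s
            group⟩
      · right
        rw [Set.disjoint_left]
        intro u hu huT
        obtain ⟨s, hs, hsu⟩ := hu
        have hsu' : g * s * g⁻¹ = u := hsu
        rw [← hsu'] at huT
        exact hex ⟨s, hs, huT⟩
    have hTopH : ⊤ ≤ H := by
      rcases hblocks T hTD hblkT with hsub | hall
      · exact absurd (hsub hdT heT) hde'
      · rw [← hgen, Subgroup.closure_le]
        intro x hx
        exact hTH x (by rw [hall]; exact hx)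
    exact hH₀top (eq_top_iff.mpr (le_trans hTopH hHH₀))

end Cfsg.Agent.S5354
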