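import Cfsg.Statements.S5355
import Mathlib
import Cfsg.Agent.S5344
import Cfsg.Agent.S5561

set_option autoImplicit false
open Cfsg

namespace Cfsg.Agent.S5355

/-- Let D be a conjugacy class of 3-transpositions generating the finite group G, with at least two members, and d a member of D. Suppose that every member of D commuting with d commutes with exactly the same members of D as d does, and that exactly one member of D other than d commutes with d. Then G is isomorphic to the symmetric group of degree 4. -/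
theorem result {G : Type*} [Group G] [Finite G] {D : Set G} (hD : Cfsg.IsThreeTranspositionClass D) (hD2 : ∃ a ∈ D, ∃ b ∈ D, a ≠ b) {d : G} (hd : d ∈ D) (hV : {y : G | y ∈ D ∧ Commute d y} = {v : G | v ∈ D ∧ ∀ e ∈ D, Commute v e ↔ Commute d e}) (hm : {y : G | y ∈ D ∧ Commute d y}.ncard = 2) : Nonempty (G ≃* Equiv.Perm (Fin 4)) := by
  classical
  obtain ⟨hset, ⟨d0, hd0, hcls⟩, hgen⟩ := hD
  have hinv : ∀ a ∈ D, a * a = 1 := by
    intro a ha
    have := pow_orderOf_eq_one a
    rw [hset.1 a ha, pow_two] at this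
    exact this
  have hinvi : ∀ a ∈ D, a⁻¹ = a := fun a ha => inv_eq_of_mul_eq_one_right (hinv a ha)
  have hconj : ∀ g : G, ∀ x ∈ D, g * x * g⁻¹ ∈ D := by
    intro g x hx
    rw [hcls] at hx ⊢
    obtain ⟨c, rfl⟩ := Cfsg.Agent.S5561.mem_conj_iff.mp hx
    exact Cfsg.Agent.S5561.mem_conj_iff.mpr ⟨g * c, by group⟩
  have hcls' : ∀ x ∈ D, ∃ g : G, g * d * g⁻¹ = x := by
    intro x hx
    have hd' := hd
    rw [hcls] at hx hd'
    obtain ⟨c, hc⟩ := Cfsg.Agent.S5561.mem_conj_iff.mp hx
    obtain ⟨c', hc'⟩ := Cfsg.Agent.S5561.mem_conj_iff.mp hd'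
    refine ⟨c * c'⁻¹, ?_⟩
    rw [← hc, ← hc']; group
  have hcomm2 : ∀ x y : G, x * x = 1 → y * y = 1 → (x * y) ^ 2 = 1 → Commute x y := by
    intro x y hx hy h
    have h1 : x * y * (x * y) = 1 := by rwa [pow_two] at h
    have h2 : (x * y)⁻¹ = x * y := inv_eq_of_mul_eq_one_left h1
    rw [mul_inv_rev, inv_eq_of_mul_eq_one_right hx, inv_eq_of_mul_eq_one_right hy] at h2
    exact h2.symm
  have hcube : ∀ p ∈ D, ∀ q ∈ D, ¬ Commute p q → (p * q) * (p * q) * (p * q) = 1 := by
    intro p hp q hq hpq
    rcases hset.2 p hp q hq with h | h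
    · exact absurd (hcomm2 p q (hinv p hp) (hinv q hq) h) hpq
    · rw [pow_three'] at h; exact h
  -- the commuting set of d has exactly two members
  have hUd : ∃ d' ∈ D, d' ≠ d ∧ Commute d d' ∧ ∀ q ∈ D, Commute d q → q = d ∨ q = d' := by
    obtain ⟨x, y, hxy, hs⟩ := Set.ncard_eq_two.mp hm
    have hdmem : d ∈ {y : G | y ∈ D ∧ Commute d y} := ⟨hd, Commute.refl d⟩
    have hxm : x ∈ {y : G | y ∈ D ∧ Commute d y} := by rw [hs]; exact Set.mem_insert _ _
    have hym : y ∈ {y : G | y ∈ D ∧ Commute d y} := by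
      rw [hs]; exact Set.mem_insert_of_mem _ rfl
    have hall : ∀ q ∈ D, Commute d q → q = x ∨ q = y := by
      intro q hq hc
      have : q ∈ {y : G | y ∈ D ∧ Commute d y} := ⟨hq, hc⟩
      rw [hs] at this
      simpa using this
    rw [hs] at hdmem
    rcases hdmem with h | h
    · refine ⟨y, hym.1, ?_, hym.2, ?_⟩
      · rw [h]; exact hxy.symm
      · intro q hq hc
        rw [h]; exact hall q hq hc
    · have h' : d = y := h
      refine ⟨x, hxm.1, ?_, hxm.2, ?_⟩
      · rw [h']; exact hxy
      · intro q hq hc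
        rw [h']; exact (hall q hq hc).symm
  have hU : ∀ g ∈ D, ∃ g' ∈ D, g' ≠ g ∧ Commute g g' ∧
      ∀ q ∈ D, Commute g q → q = g ∨ q = g' := by
    intro g hg
    obtain ⟨d', hd'D, hd'ne, hd'c, hd'U⟩ := hUd
    obtain ⟨h, rfl⟩ := hcls' g hg
    refine ⟨h * d' * h⁻¹, hconj h d' hd'D, ?_, ?_, ?_⟩
    · intro heq
      exact hd'ne (mul_left_cancel (mul_right_cancel heq))
    · show h * d * h⁻¹ * (h * d' * h⁻¹) = h * d' * h⁻¹ * (h * d * h⁻¹)
      have hc : d * d' = d' * d := hd'c
      have e1 : h * d * h⁻¹ * (h * d' * h⁻¹) = h * (d * d') * h⁻¹ := by group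
      have e2 : h * d' * h⁻¹ * (h * d * h⁻¹) = h * (d' * d) * h⁻¹ := by group
      rw [e1, e2, hc]
    · intro q hq hc
      have hq' : h⁻¹ * q * h ∈ D := by
        have := hconj h⁻¹ q hq
        rwa [inv_inv] at this
      have hc' : Commute d (h⁻¹ * q * h) := by
        show d * (h⁻¹ * q * h) = h⁻¹ * q * h * d
        have hc0 : h * d * h⁻¹ * q = q * (h * d * h⁻¹) := hc
        have e1 : d * (h⁻¹ * q * h) = h⁻¹ * (h * d * h⁻¹ * q) * h := by group
        have e2 : h⁻¹ * q * h * d = h⁻¹ * (q * (h * d * h⁻¹)) * h := by group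
        rw [e1, e2, hc0]
      have e : q = h * (h⁻¹ * q * h) * h⁻¹ := by group
      rcases hd'U _ hq' hc' with h1 | h1
      · left
        rw [e, h1]
      · right
        rw [e, h1]
  choose! pt hpt using hU
  have hptD : ∀ g ∈ D, pt g ∈ D := fun g hg => (hpt g hg).1
  have hptne : ∀ g ∈ D, pt g ≠ g := fun g hg => (hpt g hg).2.1
  have hptc : ∀ g ∈ D, g * pt g = pt g * g := fun g hg => (hpt g hg).2.2.1
  have hptU : ∀ g ∈ D, ∀ q ∈ D, Commute g q → q = g ∨ q = pt g :=
    fun g hg => (hpt g hg).2.2.2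
  have hP1 : ∀ g ∈ D, pt (pt g) = g := by
    intro g hg
    rcases hptU (pt g) (hptD g hg) g hg (hptc g hg).symm with h | h
    · exact absurd h.symm (hptne g hg)
    · exact h.symm
  have hP2 : ∀ g ∈ D, ∀ h : G, pt (h * g * h⁻¹) = h * pt g * h⁻¹ := by
    intro g hg h
    have hc : Commute (h * g * h⁻¹) (h * pt g * h⁻¹) := by
      show h * g * h⁻¹ * (h * pt g * h⁻¹) = h * pt g * h⁻¹ * (h * g * h⁻¹)
      have e1 : h * g * h⁻¹ * (h * pt g * h⁻¹) = h * (g * pt g) * h⁻¹ := by group
      have e2 : h * pt g * h⁻¹ * (h * g * h⁻¹) = h * (pt g * g) * h⁻¹ := by group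
      rw [e1, e2, hptc g hg]
    rcases hptU _ (hconj h g hg) _ (hconj h _ (hptD g hg)) hc with h1 | h1
    · exact absurd (mul_left_cancel (mul_right_cancel h1)) (hptne g hg)
    · exact h1.symm
  obtain ⟨z, hz⟩ : ∃ z : G → G, ∀ g, z g = g * pt g := ⟨fun g => g * pt g, fun _ => rfl⟩
  have hzz : ∀ g ∈ D, z g * z g = 1 := by
    intro g hg
    rw [hz]
    have e : g * pt g * (g * pt g) = g * (pt g * g) * pt g := by group
    rw [e, ← hptc g hg]
    have e2 : g * (g * pt g) * pt g = (g * g) * (pt g * pt g) := by group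
    rw [e2, hinv g hg, hinv _ (hptD g hg), one_mul]
  have hz1 : ∀ g ∈ D, z g ≠ 1 := by
    intro g hg h
    rw [hz] at h
    have h2 := eq_inv_of_mul_eq_one_right h
    rw [hinvi g hg] at h2
    exact hptne g hg h2
  have hzconj : ∀ g ∈ D, ∀ h : G, z (h * g * h⁻¹) = h * z g * h⁻¹ := by
    intro g hg h
    rw [hz, hz, hP2 g hg h]; group
  have hzfix : ∀ g ∈ D, g * z g * g = z g := by
    intro g hg
    rw [hz]
    have e : g * (g * pt g) * g = (g * g) * (pt g * g) := by group
    rw [e, hinv g hg, one_mul, hptc g hg]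
  have hz5 : ∀ p ∈ D, ∀ q ∈ D, Commute p q → z q = z p := by
    intro p hp q hq hc
    rcases hptU p hp q hq hc with h | h
    · rw [h]
    · rw [h, hz, hz, hP1 p hp, hptc p hp]
  -- the key relation
  have hR : ∀ p ∈ D, ∀ q ∈ D, ¬ Commute p q → z (q * p * q) * z q * z p = 1 := by
    intro p hp q hq hpq
    have pp := hinv p hp
    have qq := hinv q hq
    have pi := hinvi p hp
    have qi := hinvi q hq
    have hqp : ¬ Commute q p := fun h => hpq h.symm
    have hc := hcube q hq p hp hqp
    have hqp' : ¬ Commute q (pt p) := by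
      intro h
      rcases hptU (pt p) (hptD p hp) q hq h.symm with h1 | h1
      · exact hpq (by rw [h1]; exact hptc p hp)
      · rw [hP1 p hp] at h1
        exact hpq (by show p * q = q * p; rw [h1])
    have hc' := hcube q hq (pt p) (hptD p hp) hqp'
    obtain ⟨c, hcdef⟩ : ∃ c : G, c = q * p := ⟨_, rfl⟩
    obtain ⟨x, hx⟩ : ∃ x : G, x = z p := ⟨_, rfl⟩
    have hcx : q * pt p = c * x := by
      rw [hcdef, hx, hz]
      have e : q * p * (p * pt p) = q * (p * p) * pt p := by group
      rw [e, pp, mul_one]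
    rw [hcx] at hc'
    rw [← hcdef] at hc
    have hci : c⁻¹ = p * q := by
      apply inv_eq_of_mul_eq_one_right
      rw [hcdef]
      have e : q * p * (p * q) = q * (p * p) * q := by group
      rw [e, pp, mul_one, qq]
    have hci' : c⁻¹ = c * c := by
      apply inv_eq_of_mul_eq_one_right
      rw [← mul_assoc]; exact hc
    have hpxp : p * x * p = x := by rw [hx]; exact hzfix p hp
    have h3 : z (q * p * q) = q * x * q := by
      have := hzconj p hp q
      rw [qi] at this
      rw [this, hx]
    have hy : z (q * p * q) = c * x * c⁻¹ := by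
      rw [h3, hci, hcdef]
      have e : q * p * x * (p * q) = q * (p * x * p) * q := by group
      rw [e, hpxp]
    have hw : z q = c⁻¹ * x * c := by
      have h1 : p * (q * p * q) * p = q := by
        have e : q * (p * (q * p * q) * p) = c * c * c := by rw [hcdef]; group
        rw [hc] at e
        have := eq_inv_of_mul_eq_one_right e
        rw [qi] at this; exact this
      have hD1 : q * p * q ∈ D := by
        have := hconj q p hp
        rwa [qi] at this
      have h2 : z q = p * z (q * p * q) * p := by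
        have := hzconj (q * p * q) hD1 p
        rw [pi, h1] at this
        exact this
      rw [h2, h3, hci, hcdef]; group
    rw [hy, hw, ← hx, hci']
    have e : c * x * (c * c) * (c * c * x * c) * x =
        c * x * (c * c * c) * (c * x) * (c * x) := by group
    rw [e, hc, mul_one]
    exact hc'
  have hZ1 : ∀ p ∈ D, ∀ q ∈ D, ¬ Commute p q → z p * z q = z (p * q * p) := by
    intro p hp q hq hpq
    have h1 := hR q hq p hp (fun h => hpq h.symm)
    have hD1 : p * q * p ∈ D := by
      have := hconj p q hq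
      rwa [hinvi p hp] at this
    have h2 := hzz _ hD1
    rw [mul_assoc] at h1
    have h3 := eq_inv_of_mul_eq_one_right h1
    rw [h3]
    exact inv_eq_of_mul_eq_one_right h2
  have hbraid : ∀ p ∈ D, ∀ q ∈ D, ¬ Commute p q → p * q * p = q * p * q := by
    intro p hp q hq hpq
    have hc := hcube p hp q hq hpq
    have e : p * q * p * (q * p * q)⁻¹ = p * q * (p * q) * (p * q) := by
      rw [mul_inv_rev, mul_inv_rev, hinvi p hp, hinvi q hq]; group
    rw [hc] at e
    exact mul_inv_eq_one.mp e
  have hZcomm : ∀ p ∈ D, ∀ q ∈ D, ¬ Commute p q → z p * z q = z q * z p := by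
    intro p hp q hq hpq
    rw [hZ1 p hp q hq hpq, hZ1 q hq p hp (fun h => hpq h.symm), hbraid p hp q hq hpq]
  have hZ3 : ∀ p ∈ D, ∀ q ∈ D, z p = z q → Commute p q := by
    intro p hp q hq h
    by_contra hpq
    have h1 := hZ1 p hp q hq hpq
    rw [h, hzz q hq] at h1
    have hD1 : p * q * p ∈ D := by
      have := hconj p q hq
      rwa [hinvi p hp] at this
    exact hz1 _ hD1 h1.symm
  -- a member of D not commuting with d
  have hex : ∃ e ∈ D, ¬ Commute d e := by
    by_contra hcon
    have hcon' : ∀ e ∈ D, Commute d e := fun e he => by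
      by_contra h; exact hcon ⟨e, he, h⟩
    have hcent : ∀ g : G, d * g = g * d := by
      intro g
      have hg : g ∈ Subgroup.closure D := by rw [hgen]; exact Subgroup.mem_top g
      have hle : Subgroup.closure D ≤ Subgroup.centralizer {d} := by
        rw [Subgroup.closure_le]
        intro x hx
        rw [SetLike.mem_coe, Subgroup.mem_centralizer_iff]
        intro h hh
        rw [Set.mem_singleton_iff.mp hh]
        exact hcon' x hx
      exact Subgroup.mem_centralizer_iff.mp (hle hg) d (Set.mem_singleton d)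
    obtain ⟨g, hg⟩ := hcls' (pt d) (hptD d hd)
    apply hptne d hd
    rw [← hg, ← hcent g]; group
  obtain ⟨e, heD, hde⟩ := hex
  obtain ⟨f, hf⟩ : ∃ f : G, f = d * e * d := ⟨_, rfl⟩
  have hfD : f ∈ D := by
    have := hconj d e heD
    rw [hinvi d hd] at this
    rw [hf]; exact this
  have hmain : ∀ g ∈ D, Commute d g ∨ Commute e g ∨ Commute f g := by
    intro g hg
    by_contra hcon
    have hdg : ¬ Commute d g := fun h => hcon (Or.inl h)
    have heg : ¬ Commute e g := fun h => hcon (Or.inr (Or.inl h))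
    have hfg : ¬ Commute f g := fun h => hcon (Or.inr (Or.inr h))
    obtain ⟨h, hh⟩ : ∃ h : G, h = e * g * e := ⟨_, rfl⟩
    have hhD : h ∈ D := by
      have := hconj e g hg
      rw [hinvi e heD] at this
      rw [hh]; exact this
    have h1 : z e * z g = z h := by rw [hh]; exact hZ1 e heD g hg heg
    have hzf : z f = z d * z e := by rw [hf]; exact (hZ1 d hd e heD hde).symm
    have hdgd : z (d * g * d) = z d * z g := (hZ1 d hd g hg hdg).symm
    have hdhd : z (d * h * d) = z h := by
      have e2 : z (d * h * d) = d * z h * d := by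
        have := hzconj h hhD d
        rwa [hinvi d hd] at this
      have e3 : d * z e * d = z d * z e := by
        have := hzconj e heD d
        rw [hinvi d hd] at this
        rw [← this, ← hf, hzf]
      have e4 : d * z g * d = z d * z g := by
        have := hzconj g hg d
        rw [hinvi d hd] at this
        rw [← this, hdgd]
      rw [e2, ← h1]
      have e5 : d * (z e * z g) * d = (d * z e * d) * (d * z g * d) := by
        have : d * z e * d * (d * z g * d) = d * z e * (d * d) * z g * d := by group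
        rw [this, hinv d hd]; group
      rw [e5, e3, e4]
      have hce : z d * z e = z e * z d := hZcomm d hd e heD hde
      have e6 : z d * z e * (z d * z g) = z e * (z d * z d) * z g := by
        rw [hce]; group
      rw [e6, hzz d hd, mul_one]
    have hdh : Commute d h := by
      by_contra hdh
      have h2 := hZ1 d hd h hhD hdh
      rw [hdhd] at h2
      have h3 : z d = 1 := by
        have h4 := congrArg (fun t => t * (z h)⁻¹) h2
        simpa using h4
      exact hz1 d hd h3
    have hzh : z h = z d := hz5 d hd h hhD hdh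
    rw [hzh] at h1
    have hzg : z g = z f := by
      rw [hzf, hZcomm d hd e heD hde, ← h1, ← mul_assoc, hzz e heD, one_mul]
    exact hfg (hZ3 f hfD g hg hzg.symm)
  -- the embedding of S_4
  have hne : d ≠ pt d := fun h => hptne d hd h.symm
  have hcd : Commute d (pt d) := hptc d hd
  have hepd : ¬ Commute e (pt d) := by
    intro h
    rcases hptU (pt d) (hptD d hd) e heD h.symm with h1 | h1
    · exact hde (by rw [h1]; exact hptc d hd)
    · rw [hP1 d hd] at h1
      exact hde (by show d * e = e * d; rw [h1])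
  obtain ⟨φ, hφi, hφ0, hφ1, hφ2⟩ :=
    Cfsg.Agent.S5344.result hset hd heD (hptD d hd) hne hcd hde hepd
  have hφD : ∀ σ : Equiv.Perm (Fin 4), φ (σ * Equiv.swap 0 1 * σ⁻¹) ∈ D := by
    intro σ
    rw [map_mul, map_mul, map_inv, hφ0]
    exact hconj _ d hd
  have h02 : φ (Equiv.swap 0 2) = f := by
    have e0 : (Equiv.swap (0 : Fin 4) 2) = Equiv.swap 0 1 * Equiv.swap 1 2 * Equiv.swap 0 1 := by
      decide
    rw [e0, map_mul, map_mul, hφ0, hφ1, hf]
  have h03D : φ (Equiv.swap 0 3) ∈ D := by
    have e0 : (Equiv.swap (0 : Fin 4) 3) =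
        Equiv.swap 1 3 * Equiv.swap 0 1 * (Equiv.swap 1 3)⁻¹ := by decide
    rw [e0]; exact hφD _
  have h13D : φ (Equiv.swap 1 3) ∈ D := by
    have e0 : (Equiv.swap (1 : Fin 4) 3) =
        Equiv.swap 0 3 * Equiv.swap 0 1 * (Equiv.swap 0 3)⁻¹ := by decide
    rw [e0]; exact hφD _
  have h03 : φ (Equiv.swap 0 3) = pt e := by
    have hc : Commute e (φ (Equiv.swap 0 3)) := by
      show e * φ (Equiv.swap 0 3) = φ (Equiv.swap 0 3) * e
      rw [← hφ1, ← map_mul, ← map_mul]
      congr 1
      decide
    rcases hptU e heD _ h03D hc with h | h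
    · exfalso
      rw [← hφ1] at h
      exact absurd (hφi h) (by decide)
    · exact h
  have h13 : φ (Equiv.swap 1 3) = pt f := by
    have hc : Commute f (φ (Equiv.swap 1 3)) := by
      show f * φ (Equiv.swap 1 3) = φ (Equiv.swap 1 3) * f
      rw [← h02, ← map_mul, ← map_mul]
      congr 1
      decide
    rcases hptU f hfD _ h13D hc with h | h
    · exfalso
      rw [← h02] at h
      exact absurd (hφi h) (by decide)
    · exact h
  have hDrange : ∀ g ∈ D, g ∈ φ.range := by
    intro g hg
    rcases hmain g hg with h | h | h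
    · rcases hptU d hd g hg h with h1 | h1
      · rw [h1, ← hφ0]; exact MonoidHom.mem_range.mpr ⟨_, rfl⟩
      · rw [h1, ← hφ2]; exact MonoidHom.mem_range.mpr ⟨_, rfl⟩
    · rcases hptU e heD g hg h with h1 | h1
      · rw [h1, ← hφ1]; exact MonoidHom.mem_range.mpr ⟨_, rfl⟩
      · rw [h1, ← h03]; exact MonoidHom.mem_range.mpr ⟨_, rfl⟩
    · rcases hptU f hfD g hg h with h1 | h1
      · rw [h1, ← h02]; exact MonoidHom.mem_range.mpr ⟨_, rfl⟩
      · rw [h1, ← h13]; exact MonoidHom.mem_range.mpr ⟨_, rfl⟩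
  have hsurj : Function.Surjective φ := by
    rw [← MonoidHom.range_eq_top, eq_top_iff, ← hgen, Subgroup.closure_le]
    exact fun g hg => hDrange g hg
  exact ⟨(MulEquiv.ofBijective φ ⟨hφi, hsurj⟩).symm⟩

end Cfsg.Agent.S5355
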