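import Cfsg.Statements.S5356
import Mathlib
import Cfsg.Agent.Lib.Lead.Cores
import Cfsg.Agent.S5349
import Cfsg.Agent.S5561

set_option autoImplicit false
open Cfsg

namespace Cfsg.Agent.S5356

theorem eq_one_of_two_pow_three_pow {H : Type*} [Group H] {x : H} {j k : ℕ}
    (h2 : x ^ 2 ^ j = 1) (h3 : x ^ 3 ^ k = 1) : x = 1 := by
  have h1 : orderOf x ∣ Nat.gcd (2 ^ j) (3 ^ k) :=
    Nat.dvd_gcd (orderOf_dvd_of_pow_eq_one h2) (orderOf_dvd_of_pow_eq_one h3)
  have hc : Nat.gcd (2 ^ j) (3 ^ k) = 1 := Nat.Coprime.pow j k (by norm_num)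
  rw [hc] at h1
  exact orderOf_eq_one_iff.mp (Nat.dvd_one.mp h1)

theorem eq_one_of_sq_three_pow {H : Type*} [Group H] {x : H} {k : ℕ}
    (h2 : x * x = 1) (h3 : x ^ 3 ^ k = 1) : x = 1 :=
  eq_one_of_two_pow_three_pow (j := 1) (by rw [pow_one, pow_two]; exact h2) h3

/-- Abstract core: a normal 2-subgroup `A`, a conjugation-closed set `D` with `d ∈ D` an
involution outside `A` such that products `d * e` (`e ∈ D`) have order 3 or lie in `A`, the
members of `D` in `d A` are `A`-conjugate to `d`, and `G/A = Q ∪ d Q` for a normal 3-subgroup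
`Q` of `G/A`.  Then some Sylow 3-subgroup `P` is normalised by `d` and `G = ⟨d⟩ P A`. -/
theorem core {G : Type*} [Group G] [Finite G] (A : Subgroup G) [hAn : A.Normal]
    (hA2 : IsPGroup 2 A) (D : Set G) (d : G) (hd : d ∈ D) (hdd : d * d = 1)
    (hconj : ∀ g : G, ∀ x ∈ D, g * x * g⁻¹ ∈ D)
    (h3 : ∀ e ∈ D, (d * e) ^ 3 = 1 ∨ d * e ∈ A)
    (hFb : ∀ v ∈ D, d * v ∈ A → ∃ g ∈ A, v = g * d * g⁻¹)
    (Q : Subgroup (G ⧸ A)) [hQn : Q.Normal] (hQ3 : IsPGroup 3 Q)
    (hQ : ∀ g : G, QuotientGroup.mk' A g ∈ Q ∨ QuotientGroup.mk' A (d * g) ∈ Q)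
    (hdA : d ∉ A) :
    ∃ P : Sylow 3 G, d ∈ Subgroup.normalizer (P : Set G) ∧
      Subgroup.zpowers d ⊔ (P : Subgroup G) ⊔ A = ⊤ := by
  classical
  haveI : Fact (Nat.Prime 3) := ⟨Nat.prime_three⟩
  obtain ⟨π, hπ⟩ : ∃ π : G →* G ⧸ A, π = QuotientGroup.mk' A := ⟨_, rfl⟩
  have hπs : Function.Surjective π := by rw [hπ]; exact QuotientGroup.mk'_surjective A
  have hker : ∀ g : G, π g = 1 ↔ g ∈ A := by
    intro g; rw [hπ, ← MonoidHom.mem_ker, QuotientGroup.ker_mk']
  have hkerQ : ∀ x : G ⧸ A, QuotientGroup.mk' Q x = 1 ↔ x ∈ Q := by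
    intro x; rw [← MonoidHom.mem_ker, QuotientGroup.ker_mk']
  have hQ' : ∀ g : G, π g ∈ Q ∨ π (d * g) ∈ Q := by
    intro g; rw [hπ]; exact hQ g
  have hdi : d⁻¹ = d := inv_eq_of_mul_eq_one_right hdd
  obtain ⟨a, ha⟩ : ∃ a : G ⧸ A, a = π d := ⟨_, rfl⟩
  have haa : a * a = 1 := by rw [ha, ← map_mul, hdd, map_one]
  have hai : a⁻¹ = a := inv_eq_of_mul_eq_one_right haa
  have h23 : ∀ x : G, x ∈ A → (∃ k : ℕ, x ^ 3 ^ k = 1) → x = 1 := by
    rintro x hxA ⟨k, hk⟩
    obtain ⟨j, hj⟩ := hA2 ⟨x, hxA⟩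
    have hj' : x ^ 2 ^ j = 1 := by simpa using congrArg Subtype.val hj
    exact eq_one_of_two_pow_three_pow hj' hk
  have h3el : ∀ (X : Subgroup G), IsPGroup 3 X → ∀ x ∈ X, ∃ k : ℕ, x ^ 3 ^ k = 1 := by
    intro X hX x hx
    obtain ⟨k, hk⟩ := hX ⟨x, hx⟩
    exact ⟨k, by simpa using congrArg Subtype.val hk⟩
  have haQ : a ∉ Q := by
    intro h
    obtain ⟨k, hk⟩ := hQ3 ⟨a, h⟩
    have hk' : a ^ 3 ^ k = 1 := by simpa using congrArg Subtype.val hk
    have h1 : a = 1 := eq_one_of_sq_three_pow haa hk'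
    rw [ha] at h1
    exact hdA ((hker d).mp h1)
  have h3Q : ∀ g : G, (∃ k : ℕ, g ^ 3 ^ k = 1) → π g ∈ Q := by
    rintro g ⟨k, hk⟩
    rcases hQ' g with h | h
    · exact h
    · exfalso
      have hρ : QuotientGroup.mk' Q a * QuotientGroup.mk' Q (π g) = 1 := by
        rw [← map_mul, ha, ← map_mul]
        exact (hkerQ _).mpr h
      have hρ' : QuotientGroup.mk' Q a = (QuotientGroup.mk' Q (π g))⁻¹ :=
        eq_inv_of_mul_eq_one_left hρ
      have h2 : QuotientGroup.mk' Q a * QuotientGroup.mk' Q a = 1 := by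
        rw [← map_mul, haa, map_one]
      have h3k : (QuotientGroup.mk' Q a) ^ 3 ^ k = 1 := by
        rw [hρ', inv_pow, ← map_pow, ← map_pow, hk, map_one, map_one, inv_one]
      have h1 : QuotientGroup.mk' Q a = 1 := eq_one_of_sq_three_pow h2 h3k
      exact haQ ((hkerQ _).mp h1)
  -- the subgroup C1 = C_G(d) ∩ (preimage of Q) and a Sylow 3-subgroup of it
  obtain ⟨C1, hC1⟩ : ∃ C1 : Subgroup G, C1 = Subgroup.centralizer {d} ⊓ Q.comap π := ⟨_, rfl⟩
  have hC1mem : ∀ g : G, g ∈ C1 ↔ (d * g = g * d ∧ π g ∈ Q) := by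
    intro g
    rw [hC1, Subgroup.mem_inf, Subgroup.mem_centralizer_iff, Subgroup.mem_comap]
    constructor
    · rintro ⟨h1, h2⟩
      exact ⟨h1 d (Set.mem_singleton d), h2⟩
    · rintro ⟨h1, h2⟩
      refine ⟨fun h hh => ?_, h2⟩
      rw [Set.mem_singleton_iff.mp hh]
      exact h1
  have hCm : IsPGroup 3 ↥(C1.map π) := by
    refine hQ3.to_le ?_
    rintro x ⟨g, hg, rfl⟩
    exact ((hC1mem g).mp hg).2
  obtain ⟨Y0, -⟩ := IsPGroup.exists_le_sylow (IsPGroup.of_bot : IsPGroup 3 (⊥ : Subgroup ↥C1))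
  obtain ⟨Y0m, hY0m⟩ : ∃ Y0m : Sylow 3 ↥(C1.map π),
      (Y0m : Subgroup ↥(C1.map π)) = (Y0 : Subgroup ↥C1).map (π.subgroupMap C1) :=
    ⟨Y0.mapSurjective (π.subgroupMap_surjective C1), rfl⟩
  have htop : (⊤ : Subgroup ↥(C1.map π)) = Y0m := Y0m.is_maximal' (hCm.to_subgroup ⊤) le_top
  obtain ⟨Y', hY'⟩ : ∃ Y' : Subgroup G, Y' = (Y0 : Subgroup ↥C1).map C1.subtype := ⟨_, rfl⟩
  have hY'3 : IsPGroup 3 Y' := by rw [hY']; exact Y0.isPGroup'.map _
  have hY'C : ∀ y ∈ Y', y ∈ C1 := by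
    intro y hy
    rw [hY'] at hy
    obtain ⟨y0, -, rfl⟩ := Subgroup.mem_map.mp hy
    exact y0.2
  have hcover : ∀ g ∈ C1, ∃ y ∈ Y', π y = π g := by
    intro g hg
    have h1 : (⟨π g, Subgroup.mem_map_of_mem π hg⟩ : ↥(C1.map π)) ∈
        (Y0m : Subgroup ↥(C1.map π)) := by
      rw [← htop]; exact Subgroup.mem_top _
    rw [hY0m] at h1
    obtain ⟨y, hy, hfy⟩ := Subgroup.mem_map.mp h1
    refine ⟨(y : G), ?_, ?_⟩
    · rw [hY']
      exact Subgroup.mem_map_of_mem C1.subtype hy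
    · exact congrArg Subtype.val hfy
  have hY'd : ∀ y ∈ Y', d * y * d⁻¹ = y := by
    intro y hy
    have := ((hC1mem y).mp (hY'C y hy)).1
    rw [this, mul_inv_cancel_right]
  -- the family of d-invariant 3-subgroups containing Y'
  obtain ⟨Fam, hFam⟩ : ∃ Fam : Set (Subgroup G), Fam = {X : Subgroup G | IsPGroup 3 X ∧ Y' ≤ X ∧
      ∀ x ∈ X, d * x * d⁻¹ ∈ X} := ⟨_, rfl⟩
  have hY'S : Y' ∈ Fam := by
    rw [hFam]
    refine ⟨hY'3, le_refl _, fun x hx => ?_⟩
    rw [hY'd x hx]; exact hx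
  obtain ⟨X, hXmax⟩ := (Set.toFinite Fam).exists_maximal ⟨Y', hY'S⟩
  have hXS' : X ∈ Fam := hXmax.prop
  rw [hFam] at hXS'
  obtain ⟨hX3, hYX, hXd⟩ := hXS'
  have hdN : d ∈ Subgroup.normalizer (X : Set G) := by
    rw [Subgroup.mem_set_normalizer_iff]
    intro h
    constructor
    · intro hh; exact hXd h hh
    · intro hh
      have h2 := hXd _ hh
      have e : d * (d * h * d⁻¹) * d⁻¹ = h := by
        rw [hdi]
        have : d * (d * h * d) * d = (d * d) * h * (d * d) := by group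
        rw [this, hdd]; group
      rw [e] at h2
      exact h2
  have hkey : ∀ P : Sylow 3 G, X ≤ (P : Subgroup G) → X = (P : Subgroup G) := by
    intro P hXP
    by_contra hne
    haveI : Group.IsNilpotent ↥(P : Subgroup G) := P.isPGroup'.isNilpotent
    have hnc := Group.normalizerCondition_of_isNilpotent (G := ↥(P : Subgroup G))
    have hlt : X.subgroupOf (P : Subgroup G) < ⊤ := by
      rw [lt_top_iff_ne_top]
      intro h
      exact hne (le_antisymm hXP (Subgroup.subgroupOf_eq_top.mp h))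
    obtain ⟨y, hyN, hyX⟩ := SetLike.exists_of_lt (hnc _ hlt)
    obtain ⟨g, hg⟩ : ∃ g : G, g = (y : G) := ⟨_, rfl⟩
    have hgP : g ∈ (P : Subgroup G) := by rw [hg]; exact y.2
    have hgX : g ∉ X := by
      rw [hg]; exact fun h => hyX (Subgroup.mem_subgroupOf.mpr h)
    have hyN' := Subgroup.mem_normalizer_iff.mp hyN
    have hgN : g ∈ Subgroup.normalizer (X : Set G) := by
      rw [Subgroup.mem_set_normalizer_iff]
      intro h
      constructor
      · intro hh
        have h1 := (hyN' ⟨h, hXP hh⟩).mp (Subgroup.mem_subgroupOf.mpr hh)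
        have h2 := Subgroup.mem_subgroupOf.mp h1
        rw [hg]
        simpa using h2
      · intro hh
        have hhP : h ∈ (P : Subgroup G) := by
          have h1 : g⁻¹ * (g * h * g⁻¹) * g ∈ (P : Subgroup G) :=
            Subgroup.mul_mem _ (Subgroup.mul_mem _ (Subgroup.inv_mem _ hgP) (hXP hh)) hgP
          have e : g⁻¹ * (g * h * g⁻¹) * g = h := by group
          rwa [e] at h1
        refine Subgroup.mem_subgroupOf.mp ((hyN' ⟨h, hhP⟩).mpr (Subgroup.mem_subgroupOf.mpr ?_))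
        rw [hg] at hh
        simpa using hh
    obtain ⟨e, he⟩ : ∃ e : G, e = g⁻¹ * d * g := ⟨_, rfl⟩
    have heD : e ∈ D := by
      have := hconj g⁻¹ d hd
      rw [inv_inv] at this
      rw [he]; exact this
    have hee : e * e = 1 := by
      rw [he]
      have : g⁻¹ * d * g * (g⁻¹ * d * g) = g⁻¹ * (d * d) * g := by group
      rw [this, hdd]; group
    obtain ⟨c, hc⟩ : ∃ c : G, c = d * e := ⟨_, rfl⟩
    obtain ⟨b, hb⟩ : ∃ b : G ⧸ A, b = π g := ⟨_, rfl⟩
    have hπc : π c = a * (b⁻¹ * a * b) := by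
      rw [hc, he, ha, hb]; simp only [map_mul, map_inv]
    -- Step A: the image of c is not in the image of X
    have hstepA : ∀ x0 ∈ X, π x0 ≠ π c := by
      intro x0 hx0 hx0c
      obtain ⟨k3, hk3⟩ := h3el X hX3 x0⁻¹ (Subgroup.inv_mem _ hx0)
      obtain ⟨m, hm⟩ : ∃ m : ℕ, 2 * m = 3 ^ k3 + 1 := by
        have hodd : Odd (3 ^ k3) := Odd.pow (by decide)
        obtain ⟨r, hr⟩ := hodd
        exact ⟨r + 1, by rw [hr]; ring⟩
      obtain ⟨x2, hx2⟩ : ∃ x2 : G, x2 = x0⁻¹ ^ m := ⟨_, rfl⟩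
      have hx2X : x2 ∈ X := by rw [hx2]; exact Subgroup.pow_mem _ (Subgroup.inv_mem _ hx0) m
      have hx22 : x2 * x2 = x0⁻¹ := by
        rw [hx2, ← pow_add, ← two_mul, hm, pow_succ, hk3, one_mul]
      obtain ⟨t, ht⟩ : ∃ t : G ⧸ A, t = π x0⁻¹ := ⟨_, rfl⟩
      obtain ⟨u, hu⟩ : ∃ u : G ⧸ A, u = π x2 := ⟨_, rfl⟩
      have hut : u = t ^ m := by rw [hu, ht, hx2, map_pow]
      have huu : u * u = t := by rw [hu, ht, ← map_mul, hx22]
      have ht' : t = b⁻¹ * a * b * a := by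
        rw [ht, map_inv, hx0c, hπc]
        have : (a * (b⁻¹ * a * b))⁻¹ = b⁻¹ * a⁻¹ * b * a⁻¹ := by group
        rw [this, hai]
      have hat : a * t * a⁻¹ = t⁻¹ := by
        rw [ht']
        have e1 : a * (b⁻¹ * a * b * a) * a⁻¹ = a * b⁻¹ * a * b := by group
        have e2 : (b⁻¹ * a * b * a)⁻¹ = a⁻¹ * b⁻¹ * a⁻¹ * b := by group
        rw [e1, e2, hai]
      have hau : a * u * a⁻¹ = u⁻¹ := by
        rw [hut, ← conj_pow, hat, inv_pow]
      have hfix : a * (b * u) * a⁻¹ = b * u := by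
        have e1 : a * (b * u) * a⁻¹ = (a * b * a⁻¹) * (a * u * a⁻¹) := by group
        have e2 : a * b * a⁻¹ = b * (u * u) := by
          rw [huu, ht']
          have : b * (b⁻¹ * a * b * a) = a * b * a := by group
          rw [this, hai]
        rw [e1, e2, hau]; group
      obtain ⟨y', hy'⟩ : ∃ y' : G, y' = g * x2 := ⟨_, rfl⟩
      have hy'P : y' ∈ (P : Subgroup G) := by
        rw [hy']; exact Subgroup.mul_mem _ hgP (hXP hx2X)
      have hπy' : π y' = b * u := by rw [hy', map_mul, hb, hu]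
      obtain ⟨e', he'⟩ : ∃ e' : G, e' = y'⁻¹ * d * y' := ⟨_, rfl⟩
      have he'D : e' ∈ D := by
        have := hconj y'⁻¹ d hd
        rw [inv_inv] at this
        rw [he']; exact this
      have hde' : d * e' ∈ A := by
        rw [← hker, he']
        simp only [map_mul, map_inv]
        rw [← ha, hπy']
        have e1 : a * ((b * u)⁻¹ * a * (b * u)) =
            a * (b * u)⁻¹ * (a * (b * u) * a⁻¹) * a := by group
        rw [e1, hfix]
        have e2 : a * (b * u)⁻¹ * (b * u) * a = a * a := by group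
        rw [e2, haa]
      obtain ⟨v, hvA, hv⟩ := hFb e' he'D hde'
      obtain ⟨h, hh⟩ : ∃ h : G, h = y' * v := ⟨_, rfl⟩
      have hπv : π v = 1 := (hker v).mpr hvA
      have hπh : π h = π y' := by rw [hh, map_mul, hπv, mul_one]
      have hhC : h ∈ C1 := by
        rw [hC1mem]
        refine ⟨?_, ?_⟩
        · have e1 : y'⁻¹ * d * y' = v * d * v⁻¹ := by rw [← he']; exact hv
          rw [hh]
          have e2 : d * (y' * v) = y' * (y'⁻¹ * d * y') * v := by group
          rw [e2, e1]; group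
        · rw [hπh]
          exact h3Q y' (h3el _ P.isPGroup' y' hy'P)
      obtain ⟨y1, hy1Y, hy1⟩ := hcover h hhC
      have hy1X : y1 ∈ X := hYX hy1Y
      have hz : y1⁻¹ * y' = 1 := by
        apply h23
        · rw [← hker, map_mul, map_inv, hy1, hπh, inv_mul_cancel]
        · exact h3el _ P.isPGroup' _
            (Subgroup.mul_mem _ (Subgroup.inv_mem _ (hXP hy1X)) hy'P)
      have hy'X : y' ∈ X := by
        have h1 : y' = y1 := by
          have := congrArg (fun z => y1 * z) hz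
          simpa using this
        rw [h1]; exact hy1X
      apply hgX
      have h2 : g = y' * x2⁻¹ := by rw [hy']; group
      rw [h2]
      exact Subgroup.mul_mem _ hy'X (Subgroup.inv_mem _ hx2X)
    have hcX : c ∉ X := fun h => hstepA c h rfl
    have hc3 : c ^ 3 = 1 := by
      rcases h3 e heD with h | h
      · rw [hc]; exact h
      · exfalso
        refine hstepA 1 (Subgroup.one_mem _) ?_
        rw [map_one, hc]
        exact ((hker _).mpr h).symm
    have hcN : c ∈ Subgroup.normalizer (X : Set G) := by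
      rw [hc, he]
      exact Subgroup.mul_mem _ hdN
        (Subgroup.mul_mem _ (Subgroup.mul_mem _ (Subgroup.inv_mem _ hgN) hdN) hgN)
    have hZ3 : IsPGroup 3 (Subgroup.zpowers c) := by
      rintro ⟨z, hz⟩
      obtain ⟨i, rfl⟩ := Subgroup.mem_zpowers_iff.mp hz
      refine ⟨1, Subtype.ext ?_⟩
      show (c ^ i) ^ 3 ^ 1 = 1
      rw [pow_one, ← zpow_natCast, ← zpow_mul, mul_comm, zpow_mul, zpow_natCast, hc3, one_zpow]
    have hdcd : d * c * d⁻¹ = c⁻¹ := by
      rw [hc, hdi]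
      have e1 : d * (d * e) * d = (d * d) * e * d := by group
      have e2 : (d * e)⁻¹ = e⁻¹ * d⁻¹ := by group
      rw [e1, e2, hdd, hdi, inv_eq_of_mul_eq_one_right hee, one_mul]
    obtain ⟨X', hX'⟩ : ∃ X' : Subgroup G, X' = X ⊔ Subgroup.zpowers c := ⟨_, rfl⟩
    have hX'S : X' ∈ Fam := by
      rw [hFam, hX']
      refine ⟨hX3.to_sup_of_normal_left' hZ3 (Subgroup.zpowers_le.mpr hcN),
        le_trans hYX le_sup_left, ?_⟩
      have hle : X ⊔ Subgroup.zpowers c ≤
          (X ⊔ Subgroup.zpowers c).comap (MulAut.conj d).toMonoidHom := by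
        refine sup_le ?_ ?_
        · intro x hx
          rw [Subgroup.mem_comap]
          exact Subgroup.mem_sup_left (by simpa using hXd x hx)
        · rw [Subgroup.zpowers_le, Subgroup.mem_comap]
          refine Subgroup.mem_sup_right ?_
          have h1 : (MulAut.conj d).toMonoidHom c = c⁻¹ := by
            simpa using hdcd
          rw [h1]
          exact Subgroup.inv_mem _ (Subgroup.mem_zpowers c)
      intro x hx
      have h1 := hle hx
      rw [Subgroup.mem_comap] at h1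
      simpa using h1
    have hXX' : X ≤ X' := by rw [hX']; exact le_sup_left
    have hX'X : X' ≤ X := hXmax.le_of_ge hX'S hXX'
    exact hcX (hX'X (by rw [hX']; exact Subgroup.mem_sup_right (Subgroup.mem_zpowers c)))
  obtain ⟨P, hXP⟩ := hX3.exists_le_sylow
  have hXeq : X = (P : Subgroup G) := hkey P hXP
  refine ⟨P, ?_, ?_⟩
  · rw [Subgroup.mem_set_normalizer_iff]
    intro h
    have h1 := Subgroup.mem_set_normalizer_iff.mp hdN h
    rw [hXeq] at h1
    exact h1
  · obtain ⟨Pm, hPm⟩ : ∃ Pm : Sylow 3 (G ⧸ A),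
        (Pm : Subgroup (G ⧸ A)) = (P : Subgroup G).map π :=
      ⟨P.mapSurjective hπs, rfl⟩
    have hQP : Q ≤ (P : Subgroup G).map π := by
      have h1 : IsPGroup 3 ↥(Q ⊔ (Pm : Subgroup (G ⧸ A))) :=
        hQ3.to_sup_of_normal_left Pm.isPGroup'
      have h2 := Pm.is_maximal' h1 le_sup_right
      rw [← hPm, ← h2]
      exact le_sup_left
    rw [eq_top_iff]
    intro g _
    have hgen : ∀ q : G, π q ∈ Q → q ∈ (P : Subgroup G) ⊔ A := by
      intro q hq
      obtain ⟨x, hx, hxq⟩ := Subgroup.mem_map.mp (hQP hq)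
      have h1 : x⁻¹ * q ∈ A := by
        rw [← hker, map_mul, map_inv, hxq, inv_mul_cancel]
      have e : q = x * (x⁻¹ * q) := by group
      rw [e]
      exact Subgroup.mul_mem _ (Subgroup.mem_sup_left hx) (Subgroup.mem_sup_right h1)
    have hle : (P : Subgroup G) ⊔ A ≤ Subgroup.zpowers d ⊔ (P : Subgroup G) ⊔ A :=
      sup_le (le_trans le_sup_right le_sup_left) le_sup_right
    rcases hQ' g with h | h
    · exact hle (hgen g h)
    · have h1 := hle (hgen (d * g) h)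
      have hdm : d ∈ Subgroup.zpowers d ⊔ (P : Subgroup G) ⊔ A :=
        Subgroup.mem_sup_left (Subgroup.mem_sup_left (Subgroup.mem_zpowers d))
      have e : g = d * (d * g) := by
        rw [← mul_assoc, hdd, one_mul]
      rw [e]
      exact Subgroup.mul_mem _ hdm h1

/-- Let D be a conjugacy class of 3-transpositions generating the finite group G, with at least two members, and d a member of D such that every member of D commuting with d commutes with exactly the same members of D as d. Then there is a Sylow 3-subgroup P of G normalized by d such that G is generated by d, P and the largest normal 2-subgroup of G. -/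
theorem result {G : Type*} [Group G] [Finite G] {D : Set G} (hD : Cfsg.IsThreeTranspositionClass D) (hD2 : ∃ a ∈ D, ∃ b ∈ D, a ≠ b) {d : G} (hd : d ∈ D) (hV : {y : G | y ∈ D ∧ Commute d y} = {v : G | v ∈ D ∧ ∀ e ∈ D, Commute v e ↔ Commute d e}) : ∃ P : Sylow 3 G, d ∈ Subgroup.normalizer (P : Set G) ∧ Subgroup.zpowers d ⊔ (P : Subgroup G) ⊔ Cfsg.pCore 2 G = ⊤ := by
  classical
  haveI : Fact (Nat.Prime 3) := ⟨Nat.prime_three⟩
  haveI : Fact (Nat.Prime 2) := ⟨Nat.prime_two⟩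
  have h49 := Cfsg.Agent.S5349.result hD hD2 hd
  obtain ⟨hset, ⟨d0, hd0, hcls⟩, hgen⟩ := hD
  have hinv : ∀ a ∈ D, a * a = 1 := by
    intro a ha
    have := pow_orderOf_eq_one a
    rw [hset.1 a ha, pow_two] at this
    exact this
  have hdd : d * d = 1 := hinv d hd
  have hdi : d⁻¹ = d := inv_eq_of_mul_eq_one_right hdd
  have hconj : ∀ g : G, ∀ x ∈ D, g * x * g⁻¹ ∈ D := by
    intro g x hx
    rw [hcls] at hx ⊢
    obtain ⟨c, rfl⟩ := Cfsg.Agent.S5561.mem_conj_iff.mp hx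
    exact Cfsg.Agent.S5561.mem_conj_iff.mpr ⟨g * c, by group⟩
  have hcls' : ∀ x ∈ D, ∃ g : G, g * d * g⁻¹ = x := by
    intro x hx
    have hd' := hd
    rw [hcls] at hx hd'
    obtain ⟨c, hc⟩ := Cfsg.Agent.S5561.mem_conj_iff.mp hx
    obtain ⟨c', hc'⟩ := Cfsg.Agent.S5561.mem_conj_iff.mp hd'
    refine ⟨c * c'⁻¹, ?_⟩
    rw [← hc, ← hc']; group
  have hcomm2 : ∀ x y : G, x * x = 1 → y * y = 1 → (x * y) ^ 2 = 1 → Commute x y := by
    intro x y hx hy h
    have h1 : x * y * (x * y) = 1 := by rwa [pow_two] at h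
    have h2 : (x * y)⁻¹ = x * y := inv_eq_of_mul_eq_one_left h1
    rw [mul_inv_rev, inv_eq_of_mul_eq_one_right hx, inv_eq_of_mul_eq_one_right hy] at h2
    exact h2.symm
  obtain ⟨A, hA⟩ : ∃ A : Subgroup G, A = Cfsg.pCore 2 G := ⟨_, rfl⟩
  haveI hAn : A.Normal := by rw [hA]; exact Cfsg.Agent.Lib.Lead.Cores.pCore_normal 2
  have hA2 : IsPGroup 2 A := by rw [hA]; exact Cfsg.Agent.Lib.Lead.Cores.pCore_isPGroup 2
  rw [← hA] at h49 ⊢
  have hFa : ∀ y ∈ D, Commute d y → d * y ∈ A := by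
    intro y hy hc
    have h1 : y ∈ {y : G | y ∈ D ∧ Commute d y} := ⟨hy, hc⟩
    rw [hV, h49.1] at h1
    have h2 := h1.2
    rwa [hdi] at h2
  have hFb : ∀ v ∈ D, d * v ∈ A → ∃ g ∈ A, v = g * d * g⁻¹ := by
    intro v hv hva
    have h1 : v ∈ {v : G | v ∈ D ∧ d⁻¹ * v ∈ A} := ⟨hv, by rw [hdi]; exact hva⟩
    rw [← h49.1, h49.2] at h1
    exact h1
  have hdA : d ∉ A := by
    intro hdA
    have hDA : ∀ x ∈ D, x ∈ A := by
      intro x hx
      obtain ⟨g, rfl⟩ := hcls' x hx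
      exact hAn.conj_mem d hdA g
    have hcommD : ∀ x ∈ D, d * x = x * d := by
      intro x hx
      rcases hset.2 d hd x hx with h | h
      · exact hcomm2 d x hdd (hinv x hx) h
      · have h1 : d * x = 1 := by
          obtain ⟨j, hj⟩ := hA2 ⟨d * x, Subgroup.mul_mem _ hdA (hDA x hx)⟩
          have hj' : (d * x) ^ 2 ^ j = 1 := by simpa using congrArg Subtype.val hj
          exact eq_one_of_two_pow_three_pow (k := 1) hj' (by rw [pow_one]; exact h)
        have h2 : x = d := by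
          have := eq_inv_of_mul_eq_one_right h1
          rw [hdi] at this; exact this
        rw [h2]
    have hcent : ∀ g : G, d * g = g * d := by
      intro g
      have hg : g ∈ Subgroup.closure D := by rw [hgen]; exact Subgroup.mem_top g
      have hle : Subgroup.closure D ≤ Subgroup.centralizer {d} := by
        rw [Subgroup.closure_le]
        intro x hx
        rw [SetLike.mem_coe, Subgroup.mem_centralizer_iff]
        intro h hh
        rw [Set.mem_singleton_iff.mp hh]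
        exact hcommD x hx
      exact Subgroup.mem_centralizer_iff.mp (hle hg) d (Set.mem_singleton d)
    obtain ⟨a, haD, b, hbD, hab⟩ := hD2
    apply hab
    obtain ⟨g1, rfl⟩ := hcls' a haD
    obtain ⟨g2, rfl⟩ := hcls' b hbD
    rw [← hcent g1, ← hcent g2]; group
  have h3 : ∀ e ∈ D, (d * e) ^ 3 = 1 ∨ d * e ∈ A := by
    intro e he
    rcases hset.2 d hd e he with h | h
    · exact Or.inr (hFa e he (hcomm2 d e hdd (hinv e he) h))
    · exact Or.inl h
  obtain ⟨π, hπ⟩ : ∃ π : G →* G ⧸ A, π = QuotientGroup.mk' A := ⟨_, rfl⟩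
  have hπs : Function.Surjective π := by rw [hπ]; exact QuotientGroup.mk'_surjective A
  have hker : ∀ g : G, π g = 1 ↔ g ∈ A := by
    intro g; rw [hπ, ← MonoidHom.mem_ker, QuotientGroup.ker_mk']
  obtain ⟨Q, hQdef⟩ : ∃ Q : Subgroup (G ⧸ A), Q = Cfsg.pCore 3 (G ⧸ A) := ⟨_, rfl⟩
  haveI hQn : Q.Normal := by rw [hQdef]; exact Cfsg.Agent.Lib.Lead.Cores.pCore_normal 3
  have hQ3 : IsPGroup 3 Q := by rw [hQdef]; exact Cfsg.Agent.Lib.Lead.Cores.pCore_isPGroup 3
  have hπd2 : π d * π d = 1 := by rw [← map_mul, hdd, map_one]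
  have hπd1 : π d ≠ 1 := fun h => hdA ((hker d).mp h)
  have hord : orderOf (π d) = 2 := orderOf_eq_prime (by rw [pow_two]; exact hπd2) hπd1
  have hprod : ∀ x ∈ conjugatesOf (π d), ∀ y ∈ conjugatesOf (π d),
      ∃ k : ℕ, orderOf (x * y) = 3 ^ k := by
    intro x hx y hy
    obtain ⟨gx, rfl⟩ := Cfsg.Agent.S5561.mem_conj_iff.mp hx
    obtain ⟨gy, rfl⟩ := Cfsg.Agent.S5561.mem_conj_iff.mp hy
    obtain ⟨g1, rfl⟩ := hπs gx
    obtain ⟨g2, rfl⟩ := hπs gy
    have h1D : g1 * d * g1⁻¹ ∈ D := hconj g1 d hd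
    have h2D : g2 * d * g2⁻¹ ∈ D := hconj g2 d hd
    have hmap : π g1 * π d * (π g1)⁻¹ * (π g2 * π d * (π g2)⁻¹) =
        π (g1 * d * g1⁻¹ * (g2 * d * g2⁻¹)) := by
      simp only [map_mul, map_inv]
    rw [hmap]
    rcases hset.2 _ h1D _ h2D with h | h
    · refine ⟨0, ?_⟩
      have hc := hcomm2 _ _ (hinv _ h1D) (hinv _ h2D) h
      obtain ⟨y0, hy0⟩ : ∃ y0 : G, y0 = g1⁻¹ * (g2 * d * g2⁻¹) * g1 := ⟨_, rfl⟩
      have hy0D : y0 ∈ D := by
        have := hconj g1⁻¹ _ h2D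
        rw [inv_inv] at this
        rw [hy0]; exact this
      have hc0 : Commute d y0 := by
        show d * y0 = y0 * d
        have hc' : g1 * d * g1⁻¹ * (g2 * d * g2⁻¹) = g2 * d * g2⁻¹ * (g1 * d * g1⁻¹) := hc
        have e1 : d * y0 = g1⁻¹ * (g1 * d * g1⁻¹ * (g2 * d * g2⁻¹)) * g1 := by
          rw [hy0]; group
        have e2 : y0 * d = g1⁻¹ * (g2 * d * g2⁻¹ * (g1 * d * g1⁻¹)) * g1 := by
          rw [hy0]; group
        rw [e1, e2, hc']
      have h0 : d * y0 ∈ A := hFa y0 hy0D hc0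
      have h1 : g1 * d * g1⁻¹ * (g2 * d * g2⁻¹) ∈ A := by
        have := hAn.conj_mem _ h0 g1
        have e : g1 * (d * y0) * g1⁻¹ = g1 * d * g1⁻¹ * (g2 * d * g2⁻¹) := by
          rw [hy0]; group
        rwa [e] at this
      rw [(hker _).mpr h1, pow_zero, orderOf_one]
    · have hdvd : orderOf (π (g1 * d * g1⁻¹ * (g2 * d * g2⁻¹))) ∣ 3 := by
        apply orderOf_dvd_of_pow_eq_one
        rw [← map_pow, h, map_one]
      rcases (Nat.dvd_prime Nat.prime_three).mp hdvd with h1 | h1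
      · exact ⟨0, by rw [h1, pow_zero]⟩
      · exact ⟨1, by rw [h1, pow_one]⟩
  have h61 := Cfsg.Agent.S5561.result (π d) hord hprod
  have hpair : ∀ e ∈ D, π d * π e ∈ Q := by
    intro e he
    obtain ⟨g, rfl⟩ := hcls' e he
    rw [hQdef]
    refine h61 _ mem_conjugatesOf_self _ ?_
    exact Cfsg.Agent.S5561.mem_conj_iff.mpr ⟨π g, by simp only [map_mul, map_inv]⟩
  obtain ⟨ρ, hρ⟩ : ∃ ρ : G →* (G ⧸ A) ⧸ Q, ρ = (QuotientGroup.mk' Q).comp π := ⟨_, rfl⟩
  have hρker : ∀ g : G, ρ g = 1 ↔ π g ∈ Q := by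
    intro g
    rw [hρ, MonoidHom.comp_apply, ← MonoidHom.mem_ker, QuotientGroup.ker_mk']
  have hρ2 : ρ d * ρ d = 1 := by rw [← map_mul, hdd, map_one]
  have hρD : ∀ e ∈ D, ρ e = ρ d := by
    intro e he
    have h1 : ρ (d * e) = 1 := by rw [hρker, map_mul]; exact hpair e he
    rw [map_mul] at h1
    have h3' : ρ e = (ρ d)⁻¹ := eq_inv_of_mul_eq_one_right h1
    rw [h3', inv_eq_of_mul_eq_one_right hρ2]
  have hall : ∀ g : G, ρ g = 1 ∨ ρ g = ρ d := by
    intro g
    have hg : g ∈ Subgroup.closure D := by rw [hgen]; exact Subgroup.mem_top g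
    induction hg using Subgroup.closure_induction with
    | mem x hx => exact Or.inr (hρD x hx)
    | one => exact Or.inl (map_one ρ)
    | mul x y _ _ hx hy =>
      rcases hx with hx | hx <;> rcases hy with hy | hy
      · left; rw [map_mul, hx, hy, one_mul]
      · right; rw [map_mul, hx, hy, one_mul]
      · right; rw [map_mul, hx, hy, mul_one]
      · left; rw [map_mul, hx, hy, hρ2]
    | inv x _ hx =>
      rcases hx with hx | hx
      · left; rw [map_inv, hx, inv_one]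
      · right; rw [map_inv, hx, inv_eq_of_mul_eq_one_right hρ2]
  have hQ : ∀ g : G, QuotientGroup.mk' A g ∈ Q ∨ QuotientGroup.mk' A (d * g) ∈ Q := by
    intro g
    rw [← hπ]
    rcases hall g with h | h
    · exact Or.inl ((hρker g).mp h)
    · right
      rw [← hρker, map_mul, h, hρ2]
  exact core A hA2 D d hd hdd hconj h3 hFb Q hQ3 hQ hdA

end Cfsg.Agent.S5356
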