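import Cfsg.Statements.S5365
import Mathlib
import Cfsg.Agent.S5344
import Cfsg.Agent.S5350
import Cfsg.Agent.Lib.Lead.Cores

set_option autoImplicit false
open Cfsg

namespace Cfsg.Agent.S5365

open Cfsg.Agent.Lib.Lead.Cores

/-! ### A presentation of `S_5` by rewriting -/

def sgen : Fin 4 → Equiv.Perm (Fin 5)
  | 0 => Equiv.swap 0 1
  | 1 => Equiv.swap 1 2
  | 2 => Equiv.swap 2 3
  | 3 => Equiv.swap 3 4

def pprod (w : List (Fin 4)) : Equiv.Perm (Fin 5) := (w.map sgen).prod

def nfs : List (List (Fin 4)) :=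
  [[],
   [0],
   [1],
   [2],
   [3],
   [0, 1],
   [0, 2],
   [0, 3],
   [1, 0],
   [1, 2],
   [1, 3],
   [2, 1],
   [2, 3],
   [3, 2],
   [0, 1, 0],
   [0, 1, 2],
   [0, 1, 3],
   [0, 2, 1],
   [0, 2, 3],
   [0, 3, 2],
   [1, 0, 2],
   [1, 0, 3],
   [1, 2, 1],
   [1, 2, 3],
   [1, 3, 2],
   [2, 1, 0],
   [2, 1, 3],
   [2, 3, 2],
   [3, 2, 1],
   [0, 1, 0, 2],
   [0, 1, 0, 3],
   [0, 1, 2, 1],
   [0, 1, 2, 3],
   [0, 1, 3, 2],
   [0, 2, 1, 0],
   [0, 2, 1, 3],
   [0, 2, 3, 2],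
   [0, 3, 2, 1],
   [1, 0, 2, 1],
   [1, 0, 2, 3],
   [1, 0, 3, 2],
   [1, 2, 1, 0],
   [1, 2, 1, 3],
   [1, 2, 3, 2],
   [1, 3, 2, 1],
   [2, 1, 0, 3],
   [2, 1, 3, 2],
   [2, 3, 2, 1],
   [3, 2, 1, 0],
   [0, 1, 0, 2, 1],
   [0, 1, 0, 2, 3],
   [0, 1, 0, 3, 2],
   [0, 1, 2, 1, 0],
   [0, 1, 2, 1, 3],
   [0, 1, 2, 3, 2],
   [0, 1, 3, 2, 1],
   [0, 2, 1, 0, 3],
   [0, 2, 1, 3, 2],
   [0, 2, 3, 2, 1],
   [0, 3, 2, 1, 0],
   [1, 0, 2, 1, 0],
   [1, 0, 2, 1, 3],
   [1, 0, 2, 3, 2],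
   [1, 0, 3, 2, 1],
   [1, 2, 1, 0, 3],
   [1, 2, 1, 3, 2],
   [1, 2, 3, 2, 1],
   [1, 3, 2, 1, 0],
   [2, 1, 0, 3, 2],
   [2, 1, 3, 2, 1],
   [2, 3, 2, 1, 0],
   [0, 1, 0, 2, 1, 0],
   [0, 1, 0, 2, 1, 3],
   [0, 1, 0, 2, 3, 2],
   [0, 1, 0, 3, 2, 1],
   [0, 1, 2, 1, 0, 3],
   [0, 1, 2, 1, 3, 2],
   [0, 1, 2, 3, 2, 1],
   [0, 1, 3, 2, 1, 0],
   [0, 2, 1, 0, 3, 2],
   [0, 2, 1, 3, 2, 1],
   [0, 2, 3, 2, 1, 0],
   [1, 0, 2, 1, 0, 3],
   [1, 0, 2, 1, 3, 2],
   [1, 0, 2, 3, 2, 1],
   [1, 0, 3, 2, 1, 0],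
   [1, 2, 1, 0, 3, 2],
   [1, 2, 1, 3, 2, 1],
   [1, 2, 3, 2, 1, 0],
   [2, 1, 0, 3, 2, 1],
   [2, 1, 3, 2, 1, 0],
   [0, 1, 0, 2, 1, 0, 3],
   [0, 1, 0, 2, 1, 3, 2],
   [0, 1, 0, 2, 3, 2, 1],
   [0, 1, 0, 3, 2, 1, 0],
   [0, 1, 2, 1, 0, 3, 2],
   [0, 1, 2, 1, 3, 2, 1],
   [0, 1, 2, 3, 2, 1, 0],
   [0, 2, 1, 0, 3, 2, 1],
   [0, 2, 1, 3, 2, 1, 0],
   [1, 0, 2, 1, 0, 3, 2],
   [1, 0, 2, 1, 3, 2, 1],
   [1, 0, 2, 3, 2, 1, 0],
   [1, 2, 1, 0, 3, 2, 1],
   [1, 2, 1, 3, 2, 1, 0],
   [2, 1, 0, 3, 2, 1, 0],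
   [0, 1, 0, 2, 1, 0, 3, 2],
   [0, 1, 0, 2, 1, 3, 2, 1],
   [0, 1, 0, 2, 3, 2, 1, 0],
   [0, 1, 2, 1, 0, 3, 2, 1],
   [0, 1, 2, 1, 3, 2, 1, 0],
   [0, 2, 1, 0, 3, 2, 1, 0],
   [1, 0, 2, 1, 0, 3, 2, 1],
   [1, 0, 2, 1, 3, 2, 1, 0],
   [1, 2, 1, 0, 3, 2, 1, 0],
   [0, 1, 0, 2, 1, 0, 3, 2, 1],
   [0, 1, 0, 2, 1, 3, 2, 1, 0],
   [0, 1, 2, 1, 0, 3, 2, 1, 0],
   [1, 0, 2, 1, 0, 3, 2, 1, 0],
   [0, 1, 0, 2, 1, 0, 3, 2, 1, 0]]

def rules : List (List (Fin 4) × List (Fin 4)) :=
  [([0, 0], []),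
   ([1, 1], []),
   ([2, 2], []),
   ([3, 3], []),
   ([2, 0], [0, 2]),
   ([3, 0], [0, 3]),
   ([3, 1], [1, 3]),
   ([1, 0, 1], [0, 1, 0]),
   ([2, 1, 2], [1, 2, 1]),
   ([3, 2, 3], [2, 3, 2]),
   ([2, 1, 0, 2], [1, 2, 1, 0]),
   ([3, 2, 1, 3], [2, 3, 2, 1]),
   ([3, 2, 1, 0, 3], [2, 3, 2, 1, 0])]

def word (σ : Equiv.Perm (Fin 5)) : List (Fin 4) :=
  (nfs.find? (fun w => decide (pprod w = σ))).getD []

def tryRules : List (List (Fin 4) × List (Fin 4)) → List (Fin 4) → Option (List (Fin 4))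
  | [], _ => none
  | (l, r) :: rs, w => if l <+: w then some (r ++ w.drop l.length) else tryRules rs w

def rw1 : List (Fin 4) → List (Fin 4)
  | [] => []
  | x :: w =>
    match tryRules rules (x :: w) with
    | some w' => w'
    | none => x :: rw1 w

def norm : ℕ → List (Fin 4) → List (Fin 4)
  | 0, w => w
  | n + 1, w => norm n (rw1 w)

theorem tryRules_sound {M : Type*} [Monoid M] (γ : Fin 4 → M)
    (rs : List (List (Fin 4) × List (Fin 4)))
    (hrs : ∀ e ∈ rs, (e.1.map γ).prod = (e.2.map γ).prod) (w w' : List (Fin 4))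
    (h : tryRules rs w = some w') : (w'.map γ).prod = (w.map γ).prod := by
  induction rs with
  | nil => simp [tryRules] at h
  | cons e rs ih =>
    obtain ⟨l, r⟩ := e
    simp only [tryRules] at h
    split_ifs at h with hp
    · have hw : l ++ w.drop l.length = w := List.prefix_iff_eq_append.1 hp
      have h' : w' = r ++ w.drop l.length := (Option.some.inj h).symm
      have h1 := hrs (l, r) List.mem_cons_self
      rw [h']
      conv_rhs => rw [← hw]
      rw [List.map_append, List.prod_append, List.map_append, List.prod_append]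
      exact congrArg (· * ((w.drop l.length).map γ).prod) h1.symm
    · exact ih (fun e he => hrs e (List.mem_cons_of_mem _ he)) h

theorem rw1_sound {M : Type*} [Monoid M] (γ : Fin 4 → M)
    (hrs : ∀ e ∈ rules, (e.1.map γ).prod = (e.2.map γ).prod) (w : List (Fin 4)) :
    ((rw1 w).map γ).prod = (w.map γ).prod := by
  induction w with
  | nil => rfl
  | cons x w ih =>
    rw [rw1]
    split
    · rename_i w' h
      exact tryRules_sound γ rules hrs _ _ h
    · simp only [List.map_cons, List.prod_cons, ih]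

theorem norm_sound {M : Type*} [Monoid M] (γ : Fin 4 → M)
    (hrs : ∀ e ∈ rules, (e.1.map γ).prod = (e.2.map γ).prod) (n : ℕ) (w : List (Fin 4)) :
    ((norm n w).map γ).prod = (w.map γ).prod := by
  induction n generalizing w with
  | zero => rfl
  | succ n ih => rw [norm, ih, rw1_sound γ hrs]

set_option maxRecDepth 100000 in
theorem norm_word : ∀ w ∈ nfs, ∀ i : Fin 4, norm 6 (w ++ [i]) = word (pprod w * sgen i) := by
  decide +kernel

set_option maxRecDepth 100000 in
theorem pprod_word : ∀ σ : Equiv.Perm (Fin 5), pprod (word σ) = σ := by decide +kernel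

set_option maxRecDepth 100000 in
theorem word_mem : ∀ σ : Equiv.Perm (Fin 5), word σ ∈ nfs := by decide +kernel

set_option maxRecDepth 100000 in
theorem word_one : word 1 = [] := by decide +kernel

set_option maxRecDepth 100000 in
theorem word_s0 : word (Equiv.swap 0 1) = [0] := by decide +kernel

set_option maxRecDepth 100000 in
theorem center5 : ∀ σ : Equiv.Perm (Fin 5), (∀ i : Fin 4, σ * sgen i = sgen i * σ) → σ = 1 := by
  decide +kernel

theorem pprod_append (u v : List (Fin 4)) : pprod (u ++ v) = pprod u * pprod v := by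
  simp [pprod]

section

variable {G : Type*} [Group G]

def ggen (a b c e : G) : Fin 4 → G
  | 0 => a
  | 1 => b
  | 2 => c
  | 3 => e

def gprod (a b c e : G) (w : List (Fin 4)) : G := (w.map (ggen a b c e)).prod

theorem gprod_append (a b c e : G) (u v : List (Fin 4)) :
    gprod a b c e (u ++ v) = gprod a b c e u * gprod a b c e v := by
  simp [gprod]

def Rel4 (a b c e : G) : Prop :=
  a * a = 1 ∧ b * b = 1 ∧ c * c = 1 ∧ e * e = 1 ∧ c * a = a * c ∧ e * a = a * e ∧ e * b = b * e ∧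
    b * (a * b) = a * (b * a) ∧ c * (b * c) = b * (c * b) ∧ e * (c * e) = c * (e * c)

theorem rules_ok (a b c e : G) (h : Rel4 a b c e) :
    ∀ r ∈ rules, (r.1.map (ggen a b c e)).prod = (r.2.map (ggen a b c e)).prod := by
  obtain ⟨h1, h2, h3, h4, h5, h6, h7, h8, h9, h10⟩ := h
  have h7' : ∀ x, e * (b * x) = b * (e * x) := fun x => by rw [← mul_assoc, h7, mul_assoc]
  have h9' : ∀ x, c * (b * (c * x)) = b * (c * (b * x)) := fun x => by
    rw [← mul_assoc, ← mul_assoc, mul_assoc c b c, h9]; simp only [mul_assoc]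
  have h10' : ∀ x, e * (c * (e * x)) = c * (e * (c * x)) := fun x => by
    rw [← mul_assoc, ← mul_assoc, mul_assoc e c e, h10]; simp only [mul_assoc]
  intro r hr
  simp only [rules, List.mem_cons, List.not_mem_nil, or_false] at hr
  rcases hr with rfl | rfl | rfl | rfl | rfl | rfl | rfl | rfl | rfl | rfl | rfl | rfl | rfl
  all_goals simp only [ggen, List.map_cons, List.map_nil, List.prod_cons, List.prod_nil, mul_one]
  · exact h1
  · exact h2
  · exact h3
  · exact h4
  · exact h5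
  · exact h6
  · exact h7
  · exact h8
  · exact h9
  · exact h10
  · rw [← h5, h9']
  · rw [← h7, h10']
  · rw [← h6, ← h7', h10']

theorem step4 (a b c e : G) (h : Rel4 a b c e) (σ : Equiv.Perm (Fin 5)) (i : Fin 4) :
    gprod a b c e (word (σ * sgen i)) = gprod a b c e (word σ) * ggen a b c e i := by
  have h1 := norm_word (word σ) (word_mem σ) i
  rw [pprod_word] at h1
  rw [← h1]
  show ((norm 6 (word σ ++ [i])).map (ggen a b c e)).prod = _
  rw [norm_sound _ (rules_ok a b c e h)]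
  simp [gprod]

theorem phi_pprod (a b c e : G) (h : Rel4 a b c e) (w : List (Fin 4)) :
    gprod a b c e (word (pprod w)) = gprod a b c e w := by
  induction w using List.reverseRecOn with
  | nil =>
    have e1 : pprod [] = 1 := rfl
    rw [e1, word_one]
  | append_singleton w i ih =>
    have e1 : pprod (w ++ [i]) = pprod w * sgen i := by simp [pprod]
    rw [e1, step4 a b c e h, ih, gprod_append]
    simp [gprod]

def phi (a b c e : G) (h : Rel4 a b c e) : Equiv.Perm (Fin 5) →* G where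
  toFun σ := gprod a b c e (word σ)
  map_one' := by rw [word_one]; rfl
  map_mul' σ τ := by
    have e1 : σ * τ = pprod (word σ ++ word τ) := by rw [pprod_append, pprod_word, pprod_word]
    rw [e1, phi_pprod a b c e h, gprod_append]

theorem phi_s0 (a b c e : G) (h : Rel4 a b c e) : phi a b c e h (Equiv.swap 0 1) = a := by
  show gprod a b c e (word (Equiv.swap 0 1)) = a
  rw [word_s0]
  simp [gprod, ggen]

theorem phi_mem (a b c e : G) (h : Rel4 a b c e) (H : Subgroup G) (ha : a ∈ H) (hb : b ∈ H)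
    (hc : c ∈ H) (he : e ∈ H) (σ : Equiv.Perm (Fin 5)) : phi a b c e h σ ∈ H := by
  show (List.map (ggen a b c e) (word σ)).prod ∈ H
  apply Subgroup.list_prod_mem
  intro x hx
  rw [List.mem_map] at hx
  obtain ⟨i, -, rfl⟩ := hx
  fin_cases i
  · exact ha
  · exact hb
  · exact hc
  · exact he

theorem comm_aux {A : Type*} [CommGroup A] (x y : A) : x * y * x⁻¹ * y⁻¹ = 1 := by
  rw [mul_comm x y, mul_inv_cancel_right, mul_inv_cancel]

set_option maxRecDepth 100000 in
theorem swap01_23_mem : (Equiv.swap 0 1 * Equiv.swap 2 3 : Equiv.Perm (Fin 5)) ∈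
    alternatingGroup (Fin 5) := by
  rw [Equiv.Perm.mem_alternatingGroup, map_mul, Equiv.Perm.sign_swap (by decide),
    Equiv.Perm.sign_swap (by decide)]
  rfl

set_option maxRecDepth 100000 in
theorem word_0123 : word (Equiv.swap 0 1 * Equiv.swap 2 3) = [0, 2] := by decide +kernel

theorem phi_injective (a b c e : G) (h : Rel4 a b c e) (hac : a ≠ c) :
    Function.Injective (phi a b c e h) := by
  haveI := alternatingGroup.isSimpleGroup_five
  have hK : ((phi a b c e h).ker.subgroupOf (alternatingGroup (Fin 5))).Normal :=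
    Subgroup.normal_subgroupOf
  rcases hK.eq_bot_or_eq_top with h0 | h1
  · rw [injective_iff_map_eq_one]
    intro σ hσ
    apply center5
    intro i
    have hc : σ * sgen i * σ⁻¹ * (sgen i)⁻¹ ∈ alternatingGroup (Fin 5) := by
      rw [Equiv.Perm.mem_alternatingGroup, map_mul, map_mul, map_mul, map_inv, map_inv]
      exact comm_aux _ _
    have hk : σ * sgen i * σ⁻¹ * (sgen i)⁻¹ ∈ (phi a b c e h).ker := by
      rw [MonoidHom.mem_ker, map_mul, map_mul, map_mul, map_inv, map_inv, hσ]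
      simp
    have hm : (⟨_, hc⟩ : alternatingGroup (Fin 5)) ∈
        (phi a b c e h).ker.subgroupOf (alternatingGroup (Fin 5)) := by
      rw [Subgroup.mem_subgroupOf]; exact hk
    rw [h0, Subgroup.mem_bot] at hm
    have e' : σ * sgen i * σ⁻¹ * (sgen i)⁻¹ = 1 := congrArg Subtype.val hm
    calc σ * sgen i = (σ * sgen i * σ⁻¹ * (sgen i)⁻¹) * (sgen i * σ) := by group
      _ = sgen i * σ := by rw [e', one_mul]
  · exfalso
    have hm : (⟨_, swap01_23_mem⟩ : alternatingGroup (Fin 5)) ∈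
        (phi a b c e h).ker.subgroupOf (alternatingGroup (Fin 5)) := by
      rw [h1]; trivial
    rw [Subgroup.mem_subgroupOf, MonoidHom.mem_ker] at hm
    have e1 : phi a b c e h (Equiv.swap 0 1 * Equiv.swap 2 3) = a * c := by
      show gprod a b c e (word (Equiv.swap 0 1 * Equiv.swap 2 3)) = a * c
      rw [word_0123]
      simp [gprod, ggen]
    have e2 : a * c = 1 := e1.symm.trans hm
    obtain ⟨-, -, h3, -⟩ := h
    have e3 : c⁻¹ = c := inv_eq_of_mul_eq_one_left h3
    exact hac ((eq_inv_of_mul_eq_one_left e2).trans e3)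

end

/-! ### The Petersen graph has no proper 3-edge-colouring -/

set_option maxRecDepth 100000 in
set_option synthInstance.maxSize 100000 in
set_option synthInstance.maxHeartbeats 4000000 in
set_option maxHeartbeats 4000000 in
theorem pet15 : ∀ e0 : Fin 3, ∀ e1 : Fin 3, e1 ≠ e0 → ∀ e2 : Fin 3, e2 ≠ e0 → e2 ≠ e1 → ∀ e3 : Fin 3, e3 ≠ e0 → ∀ e4 : Fin 3, e4 ≠ e0 → e4 ≠ e3 → ∀ e5 : Fin 3, e5 ≠ e1 → ∀ e6 : Fin 3, e6 ≠ e1 → e6 ≠ e5 → ∀ e7 : Fin 3, e7 ≠ e2 → ∀ e8 : Fin 3, e8 ≠ e2 → e8 ≠ e7 → ∀ e9 : Fin 3, e9 ≠ e3 → e9 ≠ e8 → ∀ e10 : Fin 3, e10 ≠ e3 → e10 ≠ e6 → e10 ≠ e9 → ∀ e11 : Fin 3, e11 ≠ e4 → e11 ≠ e7 → ∀ e12 : Fin 3, e12 ≠ e4 → e12 ≠ e5 → e12 ≠ e11 → ∀ e13 : Fin 3, e13 ≠ e5 → e13 ≠ e8 → e13 ≠ e9 → e13 ≠ e12 → ∀ e14 : Fin 3, e14 ≠ e6 → e14 ≠ e7 → e14 ≠ e10 → e14 ≠ e11 → False := by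
  decide +kernel

set_option maxRecDepth 100000 in
set_option maxHeartbeats 4000000 in
theorem petersen (col : Equiv.Perm (Fin 5) → Fin 3)
    (h : ∀ i j k l m : Fin 5, (i ≠ j ∧ i ≠ k ∧ i ≠ l ∧ i ≠ m ∧ j ≠ k ∧ j ≠ l ∧ j ≠ m ∧ k ≠ l ∧
      k ≠ m ∧ l ≠ m) →
      col (Equiv.swap i j * Equiv.swap k l) ≠ col (Equiv.swap i j * Equiv.swap k m)) : False := by
  have hh : ∀ ρ ρ' : Equiv.Perm (Fin 5), ∀ i j k l m : Fin 5,
      ((i ≠ j ∧ i ≠ k ∧ i ≠ l ∧ i ≠ m ∧ j ≠ k ∧ j ≠ l ∧ j ≠ m ∧ k ≠ l ∧ k ≠ m ∧ l ≠ m) ∧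
        ρ = Equiv.swap i j * Equiv.swap k l ∧ ρ' = Equiv.swap i j * Equiv.swap k m) →
      col ρ ≠ col ρ' := by
    rintro ρ ρ' i j k l m ⟨hd, rfl, rfl⟩
    exact h i j k l m hd
  exact pet15 (col (Equiv.swap 0 1 * Equiv.swap 2 3))
    (col (Equiv.swap 0 1 * Equiv.swap 2 4))
    (hh _ _ 0 1 2 4 3 (by decide +kernel))
    (col (Equiv.swap 0 1 * Equiv.swap 3 4))
    (hh _ _ 0 1 3 4 2 (by decide +kernel))
    (hh _ _ 0 1 4 3 2 (by decide +kernel))
    (col (Equiv.swap 0 4 * Equiv.swap 2 3))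
    (hh _ _ 2 3 0 4 1 (by decide +kernel))
    (col (Equiv.swap 1 4 * Equiv.swap 2 3))
    (hh _ _ 2 3 1 4 0 (by decide +kernel))
    (hh _ _ 2 3 4 1 0 (by decide +kernel))
    (col (Equiv.swap 0 3 * Equiv.swap 2 4))
    (hh _ _ 2 4 0 3 1 (by decide +kernel))
    (col (Equiv.swap 1 3 * Equiv.swap 2 4))
    (hh _ _ 2 4 1 3 0 (by decide +kernel))
    (hh _ _ 2 4 3 1 0 (by decide +kernel))
    (col (Equiv.swap 0 2 * Equiv.swap 3 4))
    (hh _ _ 3 4 0 2 1 (by decide +kernel))
    (col (Equiv.swap 1 2 * Equiv.swap 3 4))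
    (hh _ _ 3 4 1 2 0 (by decide +kernel))
    (hh _ _ 3 4 2 1 0 (by decide +kernel))
    (col (Equiv.swap 0 4 * Equiv.swap 1 2))
    (hh _ _ 0 4 2 1 3 (by decide +kernel))
    (hh _ _ 1 2 4 0 3 (by decide +kernel))
    (col (Equiv.swap 0 4 * Equiv.swap 1 3))
    (hh _ _ 0 4 3 1 2 (by decide +kernel))
    (hh _ _ 1 3 4 0 2 (by decide +kernel))
    (hh _ _ 0 4 1 3 2 (by decide +kernel))
    (col (Equiv.swap 0 2 * Equiv.swap 1 4))
    (hh _ _ 1 4 2 0 3 (by decide +kernel))
    (hh _ _ 0 2 4 1 3 (by decide +kernel))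
    (col (Equiv.swap 0 3 * Equiv.swap 1 4))
    (hh _ _ 1 4 3 0 2 (by decide +kernel))
    (hh _ _ 0 3 4 1 2 (by decide +kernel))
    (hh _ _ 1 4 0 3 2 (by decide +kernel))
    (col (Equiv.swap 0 3 * Equiv.swap 1 2))
    (hh _ _ 0 3 2 1 4 (by decide +kernel))
    (hh _ _ 1 2 3 0 4 (by decide +kernel))
    (hh _ _ 1 2 0 3 4 (by decide +kernel))
    (hh _ _ 0 3 1 2 4 (by decide +kernel))
    (col (Equiv.swap 0 2 * Equiv.swap 1 3))
    (hh _ _ 1 3 2 0 4 (by decide +kernel))
    (hh _ _ 0 2 3 1 4 (by decide +kernel))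
    (hh _ _ 1 3 0 2 4 (by decide +kernel))
    (hh _ _ 0 2 1 3 4 (by decide +kernel))

/-! ### Small facts on `S_3` and `S_5` -/

theorem s3_center : ∀ σ : Equiv.Perm (Fin 3), (∀ τ : Equiv.Perm (Fin 3), σ * τ = τ * σ) → σ = 1 := by
  decide

set_option maxRecDepth 100000 in
set_option synthInstance.maxSize 100000 in
set_option synthInstance.maxHeartbeats 4000000 in
theorem s3_tr : ∀ σ τ ρ : Equiv.Perm (Fin 3),
    (σ * σ = 1 ∧ σ ≠ 1 ∧ τ * τ = 1 ∧ τ ≠ 1 ∧ ρ * ρ = 1 ∧ ρ ≠ 1 ∧ σ ≠ τ) →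
    ((ρ = σ ∨ ρ = τ ∨ ρ = σ * τ * σ) ∧ σ * τ ≠ τ * σ) := by
  decide +kernel

set_option maxRecDepth 100000 in
set_option synthInstance.maxSize 100000 in
set_option synthInstance.maxHeartbeats 4000000 in
theorem tr_nbrs : ∀ i j : Fin 5, i ≠ j → ∃ k l m : Fin 5, k ≠ l ∧ l ≠ m ∧ k ≠ m ∧
    Equiv.swap i j * Equiv.swap k l = Equiv.swap k l * Equiv.swap i j ∧
    Equiv.swap i j * Equiv.swap l m = Equiv.swap l m * Equiv.swap i j ∧
    Equiv.swap k l ≠ Equiv.swap i j ∧ Equiv.swap l m ≠ Equiv.swap i j ∧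
    Equiv.swap k l ≠ Equiv.swap l m ∧
    Equiv.swap k l * Equiv.swap l m * Equiv.swap k l = Equiv.swap k m := by
  decide +kernel

set_option maxRecDepth 100000 in
set_option synthInstance.maxSize 100000 in
set_option synthInstance.maxHeartbeats 4000000 in
theorem tr_disj : ∀ i j k l m : Fin 5,
    (i ≠ j ∧ i ≠ k ∧ i ≠ l ∧ i ≠ m ∧ j ≠ k ∧ j ≠ l ∧ j ≠ m ∧ k ≠ l ∧ k ≠ m ∧ l ≠ m) →
    (Equiv.swap i j * Equiv.swap k l = Equiv.swap k l * Equiv.swap i j ∧
     Equiv.swap i j * Equiv.swap k m = Equiv.swap k m * Equiv.swap i j ∧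
     Equiv.swap i j ≠ Equiv.swap k l ∧ Equiv.swap i j ≠ Equiv.swap k m ∧
     Equiv.swap k l ≠ Equiv.swap k m) := by
  decide +kernel

open Classical in
theorem col_inj {α : Type*} (p q s r1 r2 : α) (h1 : r1 = p ∨ r1 = q ∨ r1 = s)
    (h2 : r2 = p ∨ r2 = q ∨ r2 = s)
    (hc : (if r1 = p then (0 : Fin 3) else if r1 = q then 1 else 2) =
      (if r2 = p then (0 : Fin 3) else if r2 = q then 1 else 2)) : r1 = r2 := by
  have key : ∀ r : α, (r = p ∨ r = q ∨ r = s) →
      r = (if (if r = p then (0 : Fin 3) else if r = q then 1 else 2) = 0 then p else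
           if (if r = p then (0 : Fin 3) else if r = q then 1 else 2) = 1 then q else s) := by
    intro r hr
    by_cases a : r = p
    · rw [if_pos a, if_pos rfl]; exact a
    · by_cases b : r = q
      · rw [if_neg a, if_pos b, if_neg (by decide), if_pos rfl]; exact b
      · rw [if_neg a, if_neg b, if_neg (by decide), if_neg (by decide)]
        rcases hr with h | h | h
        · exact absurd h a
        · exact absurd h b
        · exact h
  calc r1 = _ := key r1 h1
    _ = _ := by rw [hc]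
    _ = r2 := (key r2 h2).symm

section main

variable {G : Type*} [Group G]

theorem local_struct {D : Set G} (hsq : ∀ y ∈ D, y * y = 1) (hne1 : ∀ y ∈ D, y ≠ 1) {d : G}
    (f : ↥(Subgroup.closure (S5350.part D d)) ≃* Equiv.Perm (Fin 3)) :
    (∃ a b, a ∈ S5350.part D d ∧ b ∈ S5350.part D d ∧ a ≠ b) ∧
    (∀ a ∈ S5350.part D d, ∀ b ∈ S5350.part D d, a ≠ b →
      (∀ y ∈ S5350.part D d, y = a ∨ y = b ∨ y = a * b * a) ∧ ¬ Commute a b) := by
  have hsub : ∀ y ∈ S5350.part D d, y ∈ Subgroup.closure (S5350.part D d) :=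
    fun y hy => Subgroup.subset_closure hy
  constructor
  · by_contra hcon
    push Not at hcon
    have hcomm : ∀ x ∈ S5350.part D d, ∀ y ∈ S5350.part D d, x * y = y * x := by
      intro x hx y hy
      rw [hcon x y hx hy]
    haveI := Subgroup.isMulCommutative_closure hcomm
    have e := IsMulCommutative.is_comm.comm (f.symm (Equiv.swap 0 1)) (f.symm (Equiv.swap 1 2))
    have e2 := congrArg f e
    simp only [map_mul, MulEquiv.apply_symm_apply] at e2
    exact absurd e2 (by decide)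
  · intro a ha b hb hab
    have key : ∀ y (hy : y ∈ S5350.part D d),
        (f ⟨y, hsub y hy⟩) * (f ⟨y, hsub y hy⟩) = 1 ∧ f ⟨y, hsub y hy⟩ ≠ 1 := by
      intro y hy
      constructor
      · rw [← map_mul]
        have : (⟨y, hsub y hy⟩ : ↥(Subgroup.closure (S5350.part D d))) * ⟨y, hsub y hy⟩ = 1 :=
          Subtype.ext (hsq y hy.1)
        rw [this, map_one]
      · intro h
        have h2 : (⟨y, hsub y hy⟩ : ↥(Subgroup.closure (S5350.part D d))) = 1 :=
          f.injective (h.trans (map_one f).symm)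
        exact hne1 y hy.1 (congrArg Subtype.val h2)
    have hfab : f ⟨a, hsub a ha⟩ ≠ f ⟨b, hsub b hb⟩ :=
      fun h => hab (congrArg Subtype.val (f.injective h))
    constructor
    · intro y hy
      have h3 := (s3_tr (f ⟨a, hsub a ha⟩) (f ⟨b, hsub b hb⟩) (f ⟨y, hsub y hy⟩)
        ⟨(key a ha).1, (key a ha).2, (key b hb).1, (key b hb).2, (key y hy).1, (key y hy).2,
          hfab⟩).1
      rcases h3 with h | h | h
      · left; exact congrArg Subtype.val (f.injective h)
      · right; left; exact congrArg Subtype.val (f.injective h)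
      · right; right
        rw [← map_mul, ← map_mul] at h
        exact congrArg Subtype.val (f.injective h)
    · intro hc
      have h3 := (s3_tr (f ⟨a, hsub a ha⟩) (f ⟨b, hsub b hb⟩) (f ⟨a, hsub a ha⟩)
        ⟨(key a ha).1, (key a ha).2, (key b hb).1, (key b hb).2, (key a ha).1, (key a ha).2,
          hfab⟩).2
      apply h3
      rw [← map_mul, ← map_mul]
      congr 1
      exact Subtype.ext hc.eq

theorem mem_zpowers_of_card_three {H : Subgroup G} [Finite H] (h3 : Nat.card H = 3) {z w : G}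
    (hz : z ∈ H) (hw : w ∈ H) (hz1 : z ≠ 1) : w ∈ Subgroup.zpowers z := by
  have hle : Subgroup.zpowers z ≤ H := Subgroup.zpowers_le.2 hz
  have hdvd : Nat.card (Subgroup.zpowers z) ∣ 3 := h3 ▸ Subgroup.card_dvd_of_le hle
  rcases (Nat.dvd_prime Nat.prime_three).1 hdvd with h | h
  · exact absurd (Subgroup.zpowers_eq_bot.1 (Subgroup.eq_bot_of_card_eq _ h)) hz1
  · have : Subgroup.zpowers z = H := Subgroup.eq_of_le_of_card_ge hle (by rw [h3, h])
    rw [this]; exact hw

theorem wordW1 {A B x : G} (hA : A * A = 1) (h1 : A * x * A = x * A * x)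
    (h2 : B * x * B = x * B * x) (h3 : A * B * A * x * (A * B * A) = x * (A * B * A) * x) :
    A * (B * (x * (A * (B * x)))) = x * (A * (B * (x * (A * B)))) := by
  have hA' : ∀ y, A * (A * y) = y := fun y => by rw [← mul_assoc, hA, one_mul]
  have h1' : ∀ y, A * (x * (A * y)) = x * (A * (x * y)) := fun y => by
    have := congrArg (· * y) h1
    simpa only [mul_assoc] using this
  have h2r : B * (x * B) = x * (B * x) := by simpa only [mul_assoc] using h2
  have h3' : ∀ y, A * (B * (A * (x * (A * (B * (A * y)))))) = x * (A * (B * (A * (x * y)))) :=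
    fun y => by
      have := congrArg (· * y) h3
      simpa only [mul_assoc] using this
  calc A * (B * (x * (A * (B * x))))
      = A * (B * (A * (A * (x * (A * (B * x)))))) := by rw [hA']
    _ = A * (B * (A * (x * (A * (x * (B * x)))))) := by rw [h1']
    _ = A * (B * (A * (x * (A * (B * (x * B)))))) := by rw [← h2r]
    _ = A * (B * (A * (x * (A * (B * (A * (A * (x * B)))))))) := by rw [hA']
    _ = x * (A * (B * (A * (x * (A * (x * B)))))) := by rw [h3']
    _ = x * (A * (B * (A * (A * (x * (A * B)))))) := by rw [← h1' B]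
    _ = x * (A * (B * (x * (A * B)))) := by rw [hA']

theorem wordW2 {A B x : G} (hA : A * A = 1) (hx : x * x = 1) (h0 : A * B * A = B * A * B)
    (h1 : A * x * A = x * A * x) (h3 : A * B * A * x * (A * B * A) = x * (A * B * A) * x) :
    B * (x * (A * (B * x))) = A * (B * (x * (A * (B * (x * A))))) := by
  have hA' : ∀ y, A * (A * y) = y := fun y => by rw [← mul_assoc, hA, one_mul]
  have hx' : ∀ y, x * (x * y) = y := fun y => by rw [← mul_assoc, hx, one_mul]
  have h0' : ∀ y, A * (B * (A * y)) = B * (A * (B * y)) := fun y => by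
    have := congrArg (· * y) h0
    simpa only [mul_assoc] using this
  have h1r : A * (x * A) = x * (A * x) := by simpa only [mul_assoc] using h1
  have h3' : ∀ y, A * (B * (A * (x * (A * (B * (A * y)))))) = x * (A * (B * (A * (x * y)))) :=
    fun y => by
      have := congrArg (· * y) h3
      simpa only [mul_assoc] using this
  calc B * (x * (A * (B * x)))
      = B * (x * (A * (B * (A * (A * x))))) := by rw [hA']
    _ = B * (x * (A * (B * (A * (x * (x * (A * x))))))) := by rw [hx']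
    _ = B * (A * (B * (A * (x * (A * (B * (A * (x * (A * x))))))))) := by rw [← h3']
    _ = B * (A * (B * (A * (x * (A * (B * (A * (A * (x * A))))))))) := by rw [← h1r]
    _ = A * (B * (A * (A * (x * (A * (B * (A * (A * (x * A))))))))) := by rw [← h0']
    _ = A * (B * (x * (A * (B * (x * A))))) := by rw [hA', hA']

theorem keyK [Finite G] {A B x w : G} (hA : A * A = 1) (hB : B * B = 1) (hx : x * x = 1)
    (h0 : A * B * A = B * A * B) (h1 : A * x * A = x * A * x) (h2 : B * x * B = x * B * x)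
    (h3 : A * B * A * x * (A * B * A) = x * (A * B * A) * x)
    (hu : A * B ∈ Cfsg.pCore 3 G) (hw : w ∈ Cfsg.pCore 3 G) (hw1 : w ≠ 1) (hwA : Commute A w)
    (hcard : Nat.card (Cfsg.pCore 3 ↥(Subgroup.centralizer ({A} : Set G))) = 3) :
    Commute x w ∨ x * (A * B) * x = B * A := by
  haveI : Fact (Nat.Prime 3) := ⟨Nat.prime_three⟩
  haveI hPn : (Cfsg.pCore 3 G).Normal := pCore_normal 3 G
  have hxinv : x⁻¹ = x := inv_eq_of_mul_eq_one_left hx
  have hAinv : A⁻¹ = A := inv_eq_of_mul_eq_one_left hA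
  have hBinv : B⁻¹ = B := inv_eq_of_mul_eq_one_left hB
  have hA' : ∀ y, A * (A * y) = y := fun y => by rw [← mul_assoc, hA, one_mul]
  have hx' : ∀ y, x * (x * y) = y := fun y => by rw [← mul_assoc, hx, one_mul]
  have W1 := wordW1 hA h1 h2 h3
  have W2 := wordW2 hA hx h0 h1 h3
  obtain ⟨z, hzdef⟩ : ∃ z, z = A * (B * (x * (A * (B * x)))) := ⟨_, rfl⟩
  have hzP : z ∈ Cfsg.pCore 3 G := by
    have e : z = (A * B) * (x * (A * B) * x⁻¹) := by
      rw [hzdef, hxinv]; simp only [mul_assoc]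
    rw [e]
    exact Subgroup.mul_mem _ hu (hPn.conj_mem _ hu x)
  have hzA : A * z = z * A := by
    calc A * z = B * (x * (A * (B * x))) := by rw [hzdef, hA']
      _ = A * (B * (x * (A * (B * (x * A))))) := W2
      _ = z * A := by rw [hzdef]; simp only [mul_assoc]
  have hzx : x * z = z * x := by
    have e1 : x * z = A * (B * (x * (A * B))) := by rw [hzdef, W1, hx']
    have e2 : z * x = A * (B * (x * (A * B))) := by
      rw [hzdef]; simp only [mul_assoc]; rw [hx, mul_one]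
    rw [e1, e2]
  obtain ⟨KG, hKG⟩ : ∃ KG : Subgroup G,
      KG = (Cfsg.pCore 3 ↥(Subgroup.centralizer ({A} : Set G))).map
        (Subgroup.centralizer ({A} : Set G)).subtype := ⟨_, rfl⟩
  have hKcard : Nat.card KG = 3 := by
    rw [hKG, Subgroup.card_map_of_injective (Subgroup.subtype_injective _)]; exact hcard
  have hin : ∀ g ∈ Cfsg.pCore 3 G, A * g = g * A → g ∈ KG := by
    intro g hg hAg
    have hgC : g ∈ Subgroup.centralizer ({A} : Set G) := by
      rw [Subgroup.mem_centralizer_iff]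
      intro y hy
      rw [Set.mem_singleton_iff.1 hy]; exact hAg
    have hN : ((Cfsg.pCore 3 G).subgroupOf (Subgroup.centralizer ({A} : Set G))).Normal :=
      Subgroup.normal_subgroupOf
    have hp : IsPGroup 3 ((Cfsg.pCore 3 G).subgroupOf (Subgroup.centralizer ({A} : Set G))) :=
      (pCore_isPGroup 3).comap_subtype
    have hle := le_pCore hN hp
    rw [hKG]
    exact Subgroup.mem_map.2 ⟨⟨g, hgC⟩, hle (Subgroup.mem_subgroupOf.2 hg), rfl⟩
  have hzK : z ∈ KG := hin z hzP hzA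
  have hwK : w ∈ KG := hin w hw hwA.eq
  by_cases hz1 : z = 1
  · right
    have e : (A * B) * (x * (A * B) * x) = 1 := by
      calc (A * B) * (x * (A * B) * x) = z := by rw [hzdef]; simp only [mul_assoc]
        _ = 1 := hz1
    have e2 := eq_inv_of_mul_eq_one_right e
    rw [e2, mul_inv_rev, hAinv, hBinv]
  · left
    have hmem := mem_zpowers_of_card_three hKcard hzK hwK hz1
    obtain ⟨k, hk⟩ := Subgroup.mem_zpowers_iff.1 hmem
    rw [← hk]
    exact (show Commute x z from hzx).zpow_right k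

theorem eq_of_comm_prod {a b x : G} (hb : b * b = 1) (hx : x * x = 1)
    (h1 : a * x * a = x * a * x) (h2 : b * x * b = x * b * x)
    (hc : x * (a * b) = a * b * x) : a = b := by
  have hx' : ∀ y, x * (x * y) = y := fun y => by rw [← mul_assoc, hx, one_mul]
  have s1 : a * (x * (a * (x * b))) = a * (b * x) := by
    calc a * (x * (a * (x * b))) = (a * x * a) * (x * b) := by simp only [mul_assoc]
      _ = (x * a * x) * (x * b) := by rw [h1]
      _ = x * (a * (x * (x * b))) := by simp only [mul_assoc]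
      _ = x * (a * b) := by rw [hx']
      _ = a * (b * x) := by rw [hc, mul_assoc]
  have s2 : x * (a * (x * b)) = b * x := mul_left_cancel s1
  have s3 : x * (a * x) = x * (b * x) := by
    calc x * (a * x) = x * (a * (x * (b * b))) := by rw [hb, mul_one]
      _ = (x * (a * (x * b))) * b := by simp only [mul_assoc]
      _ = b * x * b := by rw [s2]
      _ = x * (b * x) := by rw [h2, mul_assoc]
  exact mul_right_cancel (mul_left_cancel s3)

theorem colour_mem {D : Set G} (hD : Cfsg.IsThreeTranspositionSet D)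
    (hconj : ∀ g : G, ∀ d ∈ D, g * d * g⁻¹ ∈ D)
    {x t t' : G} (hx : x ∈ D) (ht : t ∈ D) (ht' : t' ∈ D) (hne : t ≠ t') (hc : Commute t t')
    (h1 : ¬ Commute t x) (h2 : ¬ Commute t' x) :
    (t * t') * x * (t * t')⁻¹ ∈ S5350.part D x := by
  obtain ⟨φ, hinj, e1, e2, e3⟩ := S5344.result hD ht hx ht' hne hc h1 (fun h => h2 h.symm)
  have e : (t * t') * x * (t * t')⁻¹ = φ (Equiv.swap 0 3) := by
    rw [show (Equiv.swap 0 3 : Equiv.Perm (Fin 4)) = (Equiv.swap 0 1 * Equiv.swap 2 3) *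
      Equiv.swap 1 2 * (Equiv.swap 0 1 * Equiv.swap 2 3)⁻¹ from by decide,
      map_mul, map_mul, map_inv, map_mul, e1, e2, e3]
  refine ⟨hconj _ x hx, ?_, ?_⟩
  · rw [e]
    intro h
    have : (Equiv.swap 0 3 : Equiv.Perm (Fin 4)) = Equiv.swap 1 2 := hinj (h.trans e2.symm)
    exact absurd this (by decide)
  · rw [e]
    show x * φ (Equiv.swap 0 3) = φ (Equiv.swap 0 3) * x
    rw [← e2, ← map_mul, ← map_mul]
    congr 1
    decide

theorem colour_ne {x t t' t'' : G} (hi' : t'⁻¹ = t') (hi'' : t''⁻¹ = t'')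
    (hb' : t' * x * t' = x * t' * x) (hb'' : t'' * x * t'' = x * t'' * x) (hne : t' ≠ t'') :
    (t * t') * x * (t * t')⁻¹ ≠ (t * t'') * x * (t * t'')⁻¹ := by
  intro h
  apply hne
  have h2 : t' * x * t'⁻¹ = t'' * x * t''⁻¹ := by
    calc t' * x * t'⁻¹ = t⁻¹ * ((t * t') * x * (t * t')⁻¹) * t := by group
      _ = t⁻¹ * ((t * t'') * x * (t * t'')⁻¹) * t := by rw [h]
      _ = t'' * x * t''⁻¹ := by group
  rw [hi', hi'', hb', hb''] at h2
  exact mul_left_cancel (mul_right_cancel h2)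

end main

/-- Let D be a non-empty conjugation-invariant set of involutions of a finite group G satisfying the 3-transposition order conditions, and suppose that for every d in D the members of D other than d commuting with d generate a subgroup isomorphic to the symmetric group of degree 3, and the largest normal 3-subgroup of the centralizer of d has order 3. Then the subgroup generated by D is isomorphic to the symmetric group of degree 5 or to the direct product of two symmetric groups of degree 3. -/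
theorem result {G : Type*} [Group G] [Finite G] {D : Set G} (hD : Cfsg.IsThreeTranspositionSet D) (hconj : ∀ g : G, ∀ d ∈ D, g * d * g⁻¹ ∈ D) (hne : D.Nonempty) (hloc : ∀ d ∈ D, Nonempty (↥(Subgroup.closure {y : G | y ∈ D ∧ y ≠ d ∧ Commute d y}) ≃* Equiv.Perm (Fin 3)) ∧ Nat.card (Cfsg.pCore 3 ↥(Subgroup.centralizer ({d} : Set G))) = 3) : Nonempty (↥(Subgroup.closure D) ≃* Equiv.Perm (Fin 5)) ∨ Nonempty (↥(Subgroup.closure D) ≃* Equiv.Perm (Fin 3) × Equiv.Perm (Fin 3)) := by
  classical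
  have hD0 := hD
  obtain ⟨hord, h23⟩ := hD
  have hsq : ∀ y ∈ D, y * y = 1 := fun y hy => by
    have := pow_orderOf_eq_one y
    rw [hord y hy, pow_two] at this
    exact this
  have hinv : ∀ y ∈ D, y⁻¹ = y := fun y hy => inv_eq_of_mul_eq_one_left (hsq y hy)
  have hne1 : ∀ y ∈ D, y ≠ 1 := fun y hy h => by
    have := hord y hy
    rw [h, orderOf_one] at this
    exact absurd this (by norm_num)
  have h3 : ∀ p ∈ D, ∀ q ∈ D, Commute p q ∨ (p * q) ^ 3 = 1 := by
    intro p hp q hq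
    rcases h23 p hp q hq with h | h
    · left
      have e : p * q = (p * q)⁻¹ := by
        rw [pow_two] at h
        exact (inv_eq_of_mul_eq_one_left h).symm
      rw [mul_inv_rev, hinv p hp, hinv q hq] at e
      exact e
    · right; exact h
  have braid : ∀ p ∈ D, ∀ q ∈ D, ¬ Commute p q → q * (p * q) = p * (q * p) := by
    intro p hp q hq hpq
    rcases h3 p hp q hq with h | h
    · exact absurd h hpq
    · have e : p * q * (p * q * (p * q)) = 1 := by
        rw [← h, pow_succ, pow_two]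
        simp only [mul_assoc]
      calc q * (p * q) = p⁻¹ * (p * q * (p * q * (p * q))) * (q⁻¹ * p⁻¹) := by group
        _ = p⁻¹ * (q⁻¹ * p⁻¹) := by rw [e, mul_one]
        _ = p * (q * p) := by rw [hinv p hp, hinv q hq]
  have braid' : ∀ p ∈ D, ∀ q ∈ D, ¬ Commute p q → p * q * p = q * p * q := fun p hp q hq h => by
    have := braid q hq p hp (fun h' => h h'.symm)
    simpa only [mul_assoc] using this
  have hex : ∀ d ∈ D, ∃ a b, a ∈ S5350.part D d ∧ b ∈ S5350.part D d ∧ a ≠ b := fun d hd => by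
    obtain ⟨⟨f⟩, -⟩ := hloc d hd
    exact (local_struct (d := d) hsq hne1 f).1
  have htri : ∀ d ∈ D, ∀ a ∈ S5350.part D d, ∀ b ∈ S5350.part D d, a ≠ b →
      (∀ y ∈ S5350.part D d, y = a ∨ y = b ∨ y = a * b * a) ∧ ¬ Commute a b := fun d hd => by
    obtain ⟨⟨f⟩, -⟩ := hloc d hd
    exact (local_struct (d := d) hsq hne1 f).2
  have hpart : ∀ d ∈ D, ∀ a ∈ S5350.part D d, ∀ b ∈ S5350.part D d, a ≠ b →
      S5350.part D d = {y | y = a ∨ y = b ∨ y = a * b * a} := by
    intro d hd a ha b hb hab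
    ext y
    constructor
    · intro hy; exact (htri d hd a ha b hb hab).1 y hy
    · intro hy
      rcases hy with h | h | h
      · rw [h]; exact ha
      · rw [h]; exact hb
      · rw [h]
        refine ⟨?_, ?_, ?_⟩
        · have := hconj a b hb.1
          rwa [hinv a ha.1] at this
        · intro h'
          apply hb.2.1
          have hda : d * a = a * d := ha.2.2.eq
          calc b = a * (a * b * a) * a := by
                simp only [mul_assoc]
                rw [hsq a ha.1, mul_one, ← mul_assoc, hsq a ha.1, one_mul]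
            _ = a * d * a := by rw [h']
            _ = d := by rw [← hda, mul_assoc, hsq a ha.1, mul_one]
        · exact (ha.2.2.mul_right hb.2.2).mul_right ha.2.2
  obtain ⟨d, hd⟩ := hne
  obtain ⟨a, b, ha, hb, hab⟩ := hex d hd
  obtain ⟨hF, hnab⟩ := htri d hd a ha b hb hab
  have hda : d ∈ S5350.part D a := ⟨hd, ha.2.1.symm, ha.2.2.symm⟩
  obtain ⟨d1, hd1, hd1d⟩ : ∃ d1 ∈ S5350.part D a, d1 ≠ d := by
    obtain ⟨e1, e2, he1, he2, he12⟩ := hex a ha.1
    by_cases h : e1 = d
    · exact ⟨e2, he2, fun h2 => he12 (h.trans h2.symm)⟩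
    · exact ⟨e1, he1, h⟩
  obtain ⟨hE, hndd1⟩ := htri a ha.1 d hda d1 hd1 (Ne.symm hd1d)
  by_cases hcase : Commute b d1
  · right
    have hbd1 : b ≠ d1 := fun h => hnab (by rw [h]; exact hd1.2.2)
    have hPd : S5350.part D d = {y | y = a ∨ y = b ∨ y = a * b * a} := hpart d hd a ha b hb hab
    have ha1 : a ∈ S5350.part D d1 := ⟨ha.1, hd1.2.1.symm, hd1.2.2.symm⟩
    have hb1 : b ∈ S5350.part D d1 := ⟨hb.1, hbd1, hcase.symm⟩
    have hPd1 : S5350.part D d1 = {y | y = a ∨ y = b ∨ y = a * b * a} :=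
      hpart d1 hd1.1 a ha1 b hb1 hab
    have hPa : S5350.part D a = {y | y = d ∨ y = d1 ∨ y = d * d1 * d} :=
      hpart a ha.1 d hda d1 hd1 (Ne.symm hd1d)
    have hdb : d ∈ S5350.part D b := ⟨hd, hb.2.1.symm, hb.2.2.symm⟩
    have hd1b : d1 ∈ S5350.part D b := ⟨hd1.1, Ne.symm hbd1, hcase⟩
    have hPb : S5350.part D b = {y | y = d ∨ y = d1 ∨ y = d * d1 * d} :=
      hpart b hb.1 d hdb d1 hd1b (Ne.symm hd1d)
    have hc_d : a * b * a ∈ S5350.part D d := by rw [hPd]; exact Or.inr (Or.inr rfl)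
    have hc_d1 : a * b * a ∈ S5350.part D d1 := by rw [hPd1]; exact Or.inr (Or.inr rfl)
    have hPc : S5350.part D (a * b * a) = {y | y = d ∨ y = d1 ∨ y = d * d1 * d} :=
      hpart (a * b * a) hc_d.1 d ⟨hd, hc_d.2.1.symm, hc_d.2.2.symm⟩ d1
        ⟨hd1.1, hc_d1.2.1.symm, hc_d1.2.2.symm⟩ (Ne.symm hd1d)
    have huP : d * d1 ∈ Cfsg.pCore 3 G := by
      have := S5350.core_of_rel hord hsq h3 hconj hd hd1.1 (hPd.trans hPd1.symm)
      rwa [hinv d hd] at this
    have hvP : a * b ∈ Cfsg.pCore 3 G := by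
      have := S5350.core_of_rel hord hsq h3 hconj ha.1 hb.1 (hPa.trans hPb.symm)
      rwa [hinv a ha.1] at this
    have hcover : ∀ y ∈ D, (y = d ∨ y = d1 ∨ y = d * d1 * d) ∨ (y = a ∨ y = b ∨ y = a * b * a) := by
      intro x hx
      by_contra hcon
      push Not at hcon
      obtain ⟨⟨hx1, hx2, hx3⟩, hx4, hx5, hx6⟩ := hcon
      have nE : ∀ e, S5350.part D e = {y | y = a ∨ y = b ∨ y = a * b * a} → x ≠ e →
          ¬ Commute e x := by
        intro e he hxe hc
        have hm : x ∈ S5350.part D e := ⟨hx, hxe, hc⟩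
        rw [he] at hm
        rcases hm with h | h | h
        · exact hx4 h
        · exact hx5 h
        · exact hx6 h
      have nF : ∀ e, S5350.part D e = {y | y = d ∨ y = d1 ∨ y = d * d1 * d} → x ≠ e →
          ¬ Commute e x := by
        intro e he hxe hc
        have hm : x ∈ S5350.part D e := ⟨hx, hxe, hc⟩
        rw [he] at hm
        rcases hm with h | h | h
        · exact hx1 h
        · exact hx2 h
        · exact hx3 h
      have n1 := nE d hPd hx1
      have n2 := nE d1 hPd1 hx2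
      have n4 := nF a hPa hx4
      have n5 := nF b hPb hx5
      have n6 := nF (a * b * a) hPc hx6
      have hw1 : d * d1 ≠ 1 := fun h =>
        hd1d ((hinv d1 hd1.1).symm.trans (eq_inv_of_mul_eq_one_left h).symm)
      have K2 := keyK (hsq a ha.1) (hsq b hb.1) (hsq x hx) (braid' a ha.1 b hb.1 hnab)
        (braid' a ha.1 x hx n4) (braid' b hb.1 x hx n5) (braid' (a * b * a) hc_d.1 x hx n6)
        hvP huP hw1 (ha.2.2.symm.mul_right hd1.2.2) (hloc a ha.1).2
      rcases K2 with hc | hxv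
      · exact hd1d.symm (eq_of_comm_prod (hsq d1 hd1.1) (hsq x hx) (braid' d hd x hx n1)
          (braid' d1 hd1.1 x hx n2) hc.eq)
      · apply hnab
        have hxx : ∀ y, x * (x * y) = y := fun y => by rw [← mul_assoc, hsq x hx, one_mul]
        have hxv' : x * (b * a) * x = a * b := by
          rw [← hxv]; simp only [mul_assoc]; rw [hxx, hsq x hx, mul_one]
        have hdv : d * (a * b) * d = a * b := by
          have hcm : Commute d (a * b) := ha.2.2.mul_right hb.2.2
          rw [hcm.eq, mul_assoc, hsq d hd, mul_one]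
        have hdv' : d * (b * a) * d = b * a := by
          have hcm : Commute d (b * a) := hb.2.2.mul_right ha.2.2
          rw [hcm.eq, mul_assoc, hsq d hd, mul_one]
        have hbr : x * d * x = d * x * d := (braid' d hd x hx n1).symm
        have e1 : (x * d * x) * (a * b) * (x * d * x) = a * b := by
          calc (x * d * x) * (a * b) * (x * d * x)
              = x * (d * (x * (a * b) * x) * d) * x := by simp only [mul_assoc]
            _ = a * b := by rw [hxv, hdv', hxv']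
        have e2 : (d * x * d) * (a * b) * (d * x * d) = b * a := by
          calc (d * x * d) * (a * b) * (d * x * d)
              = d * (x * (d * (a * b) * d) * x) * d := by simp only [mul_assoc]
            _ = b * a := by rw [hdv, hxv, hdv']
        rw [hbr, e2] at e1
        exact e1.symm
    obtain ⟨⟨fa0⟩, -⟩ := hloc a ha.1
    obtain ⟨⟨fd0⟩, -⟩ := hloc d hd
    have fa : ↥(Subgroup.closure (S5350.part D a)) ≃* Equiv.Perm (Fin 3) := fa0
    have fd : ↥(Subgroup.closure (S5350.part D d)) ≃* Equiv.Perm (Fin 3) := fd0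
    have hcomm0 : ∀ h ∈ S5350.part D a, ∀ k ∈ S5350.part D d, Commute h k := by
      intro h hh k hk
      rw [hPd] at hk
      have hm : h ∈ S5350.part D k := by
        rcases hk with h1 | h1 | h1
        · rw [h1]; exact hh
        · rw [h1, hPb, ← hPa]; exact hh
        · rw [h1, hPc, ← hPa]; exact hh
      exact hm.2.2.symm
    have hKc : ∀ h ∈ S5350.part D a,
        Subgroup.closure (S5350.part D d) ≤ Subgroup.centralizer ({h} : Set G) := by
      intro h hh
      rw [Subgroup.closure_le]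
      intro k hk
      rw [SetLike.mem_coe, Subgroup.mem_centralizer_iff]
      intro y hy
      rw [Set.mem_singleton_iff.1 hy]
      exact (hcomm0 h hh k hk).eq
    have hHc : ∀ h ∈ Subgroup.closure (S5350.part D a),
        ∀ k ∈ Subgroup.closure (S5350.part D d), Commute h k := by
      intro h hh k hk
      have hle : Subgroup.closure (S5350.part D a) ≤ Subgroup.centralizer ({k} : Set G) := by
        rw [Subgroup.closure_le]
        intro h' hh'
        rw [SetLike.mem_coe, Subgroup.mem_centralizer_iff]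
        intro y hy
        rw [Set.mem_singleton_iff.1 hy]
        have hk' := hKc h' hh' hk
        rw [Subgroup.mem_centralizer_iff] at hk'
        exact (hk' h' (Set.mem_singleton h')).symm
      have h2 := hle hh
      rw [Subgroup.mem_centralizer_iff] at h2
      exact (h2 k (Set.mem_singleton k)).symm
    have hcomm' : ∀ (h : ↥(Subgroup.closure (S5350.part D a)))
        (k : ↥(Subgroup.closure (S5350.part D d))),
        Commute ((Subgroup.closure (S5350.part D a)).subtype h)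
          ((Subgroup.closure (S5350.part D d)).subtype k) := fun h k => hHc h.1 h.2 k.1 k.2
    obtain ⟨φ', hφ'⟩ : ∃ φ' : ↥(Subgroup.closure (S5350.part D a)) ×
        ↥(Subgroup.closure (S5350.part D d)) →* G,
        φ' = MonoidHom.noncommCoprod (Subgroup.subtype _) (Subgroup.subtype _) hcomm' :=
      ⟨_, rfl⟩
    have hinj : Function.Injective φ' := by
      rw [hφ', MonoidHom.noncommCoprod_injective]
      refine ⟨Subgroup.subtype_injective _, Subgroup.subtype_injective _, ?_⟩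
      rw [Subgroup.range_subtype, Subgroup.range_subtype, Subgroup.disjoint_def]
      intro g hgH hgK
      have hcen : ∀ τ : Equiv.Perm (Fin 3), fa ⟨g, hgH⟩ * τ = τ * fa ⟨g, hgH⟩ := by
        intro τ
        obtain ⟨y, rfl⟩ := fa.surjective τ
        rw [← map_mul, ← map_mul]
        congr 1
        exact Subtype.ext (hHc y.1 y.2 g hgK).eq.symm
      have h0 := s3_center _ hcen
      have h1 : (⟨g, hgH⟩ : ↥(Subgroup.closure (S5350.part D a))) = 1 :=
        fa.injective (h0.trans (map_one fa).symm)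
      exact congrArg Subtype.val h1
    have hrange : φ'.range = Subgroup.closure D := by
      rw [hφ', MonoidHom.noncommCoprod_range, Subgroup.range_subtype, Subgroup.range_subtype,
        ← Subgroup.closure_union]
      congr 1
      ext y
      constructor
      · intro hy
        rcases hy with hy | hy
        · exact hy.1
        · exact hy.1
      · intro hy
        rcases hcover y hy with h | h
        · exact Or.inl (by rw [hPa]; exact h)
        · exact Or.inr (by rw [hPd]; exact h)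
    exact ⟨((MulEquiv.subgroupCongr hrange).symm.trans (MonoidHom.ofInjective hinj).symm).trans
      (MulEquiv.prodCongr fa fd)⟩
  · left
    have hrel : Rel4 a b d1 d := ⟨hsq a ha.1, hsq b hb.1, hsq d1 hd1.1, hsq d hd,
      hd1.2.2.eq.symm, ha.2.2.eq, hb.2.2.eq, braid a ha.1 b hb.1 hnab,
      braid b hb.1 d1 hd1.1 hcase, braid d1 hd1.1 d hd (fun h => hndd1 h.symm)⟩
    obtain ⟨Ψ, hΨ⟩ : ∃ Ψ : Equiv.Perm (Fin 5) →* G, Ψ = phi a b d1 d hrel := ⟨_, rfl⟩
    have hinj : Function.Injective Ψ := by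
      rw [hΨ]; exact phi_injective a b d1 d hrel hd1.2.1.symm
    have hΨ0 : Ψ (Equiv.swap 0 1) = a := by rw [hΨ]; exact phi_s0 a b d1 d hrel
    have hT : ∀ i j : Fin 5, i ≠ j → Ψ (Equiv.swap i j) ∈ D := by
      intro i j hij
      obtain ⟨g, hg⟩ := isConj_iff.1
        (Equiv.Perm.isConj_swap (show (0 : Fin 5) ≠ 1 by decide) hij)
      rw [← hg, map_mul, map_mul, map_inv, hΨ0]
      exact hconj _ a ha.1
    have hcommΨ : ∀ σ τ : Equiv.Perm (Fin 5), σ * τ = τ * σ → Commute (Ψ σ) (Ψ τ) :=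
      fun σ τ h => by
        show Ψ σ * Ψ τ = Ψ τ * Ψ σ
        rw [← map_mul, ← map_mul, h]
    have hTpart : ∀ i j : Fin 5, i ≠ j → ∀ y ∈ S5350.part D (Ψ (Equiv.swap i j)),
        ∃ k l : Fin 5, k ≠ l ∧ y = Ψ (Equiv.swap k l) := by
      intro i j hij y hy
      obtain ⟨k, l, m, hkl, hlm, hkm, c1, c2, n1, n2, n3, e3⟩ := tr_nbrs i j hij
      have hp : Ψ (Equiv.swap k l) ∈ S5350.part D (Ψ (Equiv.swap i j)) :=
        ⟨hT k l hkl, fun h => n1 (hinj h), hcommΨ _ _ c1⟩
      have hq : Ψ (Equiv.swap l m) ∈ S5350.part D (Ψ (Equiv.swap i j)) :=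
        ⟨hT l m hlm, fun h => n2 (hinj h), hcommΨ _ _ c2⟩
      have hpq : Ψ (Equiv.swap k l) ≠ Ψ (Equiv.swap l m) := fun h => n3 (hinj h)
      rcases (htri _ (hT i j hij) _ hp _ hq hpq).1 y hy with h | h | h
      · exact ⟨k, l, hkl, h⟩
      · exact ⟨l, m, hlm, h⟩
      · refine ⟨k, m, hkm, ?_⟩
        rw [h, ← map_mul, ← map_mul, e3]
    have hDT : ∀ y ∈ D, ∃ k l : Fin 5, k ≠ l ∧ y = Ψ (Equiv.swap k l) := by
      intro x hx
      by_contra hxT
      push Not at hxT
      have hxnc : ∀ i j : Fin 5, i ≠ j → ¬ Commute (Ψ (Equiv.swap i j)) x := by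
        intro i j hij hc
        obtain ⟨k, l, hkl, h⟩ := hTpart i j hij x ⟨hx, hxT i j hij, hc⟩
        exact hxT k l hkl h
      obtain ⟨p, q, hp, hq, hpq⟩ := hex x hx
      have hX := (htri x hx p hp q hq hpq).1
      obtain ⟨col, hcol⟩ : ∃ col : Equiv.Perm (Fin 5) → Fin 3, ∀ ρ, col ρ =
          (if Ψ ρ * x * (Ψ ρ)⁻¹ = p then (0 : Fin 3) else
            if Ψ ρ * x * (Ψ ρ)⁻¹ = q then 1 else 2) := ⟨_, fun _ => rfl⟩
      apply petersen col
      intro i j k l m hdist hc
      obtain ⟨c1, c2, n1, n2, n3⟩ := tr_disj i j k l m hdist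
      obtain ⟨h1, -, -, -, -, -, -, h8, h9, -⟩ := hdist
      have hr1 := colour_mem hD0 hconj hx (hT i j h1) (hT k l h8) (fun h => n1 (hinj h))
        (hcommΨ _ _ c1) (hxnc i j h1) (hxnc k l h8)
      have hr2 := colour_mem hD0 hconj hx (hT i j h1) (hT k m h9) (fun h => n2 (hinj h))
        (hcommΨ _ _ c2) (hxnc i j h1) (hxnc k m h9)
      have hne' := colour_ne (x := x) (t := Ψ (Equiv.swap i j)) (hinv _ (hT k l h8))
        (hinv _ (hT k m h9)) (braid' _ (hT k l h8) x hx (hxnc k l h8))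
        (braid' _ (hT k m h9) x hx (hxnc k m h9)) (fun h => n3 (hinj h))
      rw [hcol, hcol, map_mul, map_mul] at hc
      exact hne' (col_inj p q (p * q * p) _ _ (hX _ hr1) (hX _ hr2) hc)
    have hrange : Subgroup.closure D = Ψ.range := by
      apply le_antisymm
      · rw [Subgroup.closure_le]
        intro y hy
        obtain ⟨k, l, -, h⟩ := hDT y hy
        rw [h]
        exact MonoidHom.mem_range.2 ⟨_, rfl⟩
      · intro y hy
        obtain ⟨σ, rfl⟩ := MonoidHom.mem_range.1 hy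
        rw [hΨ]
        exact phi_mem a b d1 d hrel _ (Subgroup.subset_closure ha.1)
          (Subgroup.subset_closure hb.1) (Subgroup.subset_closure hd1.1)
          (Subgroup.subset_closure hd) σ
    exact ⟨(MulEquiv.subgroupCongr hrange).trans (MonoidHom.ofInjective hinj).symm⟩

end Cfsg.Agent.S5365
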