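import Cfsg.Statements.S5422
import Mathlib
import Cfsg.Agent.Lib.Helper9.Cores
import Cfsg.Agent.Lib.Helper20.ESpecial
import Cfsg.Agent.S5595
import Cfsg.Agent.S5421

set_option autoImplicit false
open Cfsg

namespace Cfsg.Agent.S5422

variable {G : Type*} [Group G]

open Cfsg.Agent.S5595 in
theorem key_conj (A B : Subgroup G) (z g : G) (hz2 : z * z = 1) (hz1 : z ≠ 1)
    (hzA : z ∈ A) (hxA : g * z * g⁻¹ ∈ A) (hxnz : g * z * g⁻¹ ≠ z)
    (hAz : ∀ a ∈ A, a * z = z * a)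
    (hA2 : ∀ a ∈ A, ∀ b ∈ A, a * b * a⁻¹ * b⁻¹ = 1 ∨ a * b * a⁻¹ * b⁻¹ = z)
    (hA3 : ∀ a ∈ A, (∀ b ∈ A, a * b = b * a) → a = 1 ∨ a = z)
    (hAsq : ∀ a ∈ A, a * a = 1 ∨ a * a = z)
    (hA4 : ∀ g' : G, (∀ a ∈ A, g' * a = a * g') → g' ∈ A)
    (hNA : ∀ g' : G, g' * z = z * g' → ∀ a ∈ A, g' * a * g'⁻¹ ∈ A)
    (hBiff : ∀ b, b ∈ B ↔ g⁻¹ * b * g ∈ A)
    (hnab : ∃ a ∈ A, ∃ b ∈ A, a * (g * z * g⁻¹) = (g * z * g⁻¹) * a ∧
      b * (g * z * g⁻¹) = (g * z * g⁻¹) * b ∧ a * b * a⁻¹ * b⁻¹ = z) :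
    z ∈ B := by
  generalize hxdef : g * z * g⁻¹ = x at hxA hxnz hnab
  have hx1 : x ≠ 1 := by
    rintro rfl
    apply hz1
    have : z = g⁻¹ * (g * z * g⁻¹) * g := by group
    rw [this, hxdef]; group
  have hx2 : x * x = 1 := by
    rw [← hxdef]
    calc g * z * g⁻¹ * (g * z * g⁻¹) = g * (z * z) * g⁻¹ := by group
      _ = 1 := by rw [hz2, mul_one, mul_inv_cancel]
  have hxz : x * z = z * x := hAz x hxA
  have e0 : g⁻¹ * x * g = z := by rw [← hxdef]; group
  have hconj : ∀ t s : G, g⁻¹ * t * g = s → t = g * s * g⁻¹ := by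
    intro t s h; rw [← h]; group
  have hxB : x ∈ B := by
    rw [hBiff, e0]; exact hzA
  have hBx : ∀ b ∈ B, b * x = x * b := by
    intro b hb
    have h1 := hAz _ ((hBiff b).mp hb)
    calc b * x = g * ((g⁻¹ * b * g) * (g⁻¹ * x * g)) * g⁻¹ := by group
      _ = g * ((g⁻¹ * x * g) * (g⁻¹ * b * g)) * g⁻¹ := by rw [e0, h1]
      _ = x * b := by group
  have hB2 : ∀ a ∈ B, ∀ b ∈ B, a * b * a⁻¹ * b⁻¹ = 1 ∨ a * b * a⁻¹ * b⁻¹ = x := by
    intro a ha b hb
    have e : (g⁻¹ * a * g) * (g⁻¹ * b * g) * (g⁻¹ * a * g)⁻¹ * (g⁻¹ * b * g)⁻¹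
        = g⁻¹ * (a * b * a⁻¹ * b⁻¹) * g := by group
    rcases hA2 _ ((hBiff a).mp ha) _ ((hBiff b).mp hb) with h | h
    · left; rw [e] at h; rw [hconj _ _ h]; group
    · right; rw [e] at h; rw [hconj _ _ h, hxdef]
  have hB3 : ∀ b ∈ B, b * b = 1 ∨ b * b = x := by
    intro b hb
    have e : (g⁻¹ * b * g) * (g⁻¹ * b * g) = g⁻¹ * (b * b) * g := by group
    rcases hAsq _ ((hBiff b).mp hb) with h | h
    · left; rw [e] at h; rw [hconj _ _ h]; group
    · right; rw [e] at h; rw [hconj _ _ h, hxdef]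
  have hT : ∀ h : G, h * z * h⁻¹ = x → ∀ a ∈ A, h * a * h⁻¹ ∈ B := by
    intro h hh a ha
    rw [hBiff]
    have e : g⁻¹ * (h * a * h⁻¹) * g = (g⁻¹ * h) * a * (g⁻¹ * h)⁻¹ := by group
    rw [e]
    apply hNA _ _ a ha
    have : (g⁻¹ * h) * z * (g⁻¹ * h)⁻¹ = z := by
      calc (g⁻¹ * h) * z * (g⁻¹ * h)⁻¹ = g⁻¹ * (h * z * h⁻¹) * g := by group
        _ = z := by rw [hh, e0]
    exact mul_inv_eq_iff_eq_mul.mp this
  have hB4 : ∀ g' : G, (∀ b ∈ B, g' * b = b * g') → g' ∈ B := by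
    intro g' hg'
    rw [hBiff]
    apply hA4
    intro a ha
    have h1 : g * a * g⁻¹ ∈ B := hT g hxdef a ha
    have h2 := hg' _ h1
    calc g⁻¹ * g' * g * a = g⁻¹ * (g' * (g * a * g⁻¹)) * g := by group
      _ = g⁻¹ * ((g * a * g⁻¹) * g') * g := by rw [h2]
      _ = a * (g⁻¹ * g' * g) := by group
  have hNB : ∀ c : G, c * x = x * c → ∀ b ∈ B, c * b * c⁻¹ ∈ B := by
    intro c hc b hb
    rw [hBiff]
    have e : g⁻¹ * (c * b * c⁻¹) * g = (g⁻¹ * c * g) * (g⁻¹ * b * g) * (g⁻¹ * c * g)⁻¹ := by group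
    rw [e]
    apply hNA _ _ _ ((hBiff b).mp hb)
    calc (g⁻¹ * c * g) * z = (g⁻¹ * c * g) * (g⁻¹ * x * g) := by rw [e0]
      _ = g⁻¹ * (c * x) * g := by group
      _ = g⁻¹ * (x * c) * g := by rw [hc]
      _ = (g⁻¹ * x * g) * (g⁻¹ * c * g) := by group
      _ = z * (g⁻¹ * c * g) := by rw [e0]
  exact abstract_key A B z x hz2 hx2 hxz hx1 hxnz hxA hAz hA2 hA3 hxB hBx hB2 hB3 hB4
    hNA hNB hT hnab

open Cfsg.Agent.S5595 in
theorem nab_of_card (A : Subgroup G) (z x : G) (hz2 : z * z = 1) (hx2 : x * x = 1)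
    (hxz : x * z = z * x) (hx1 : x ≠ 1) (hxnz : x ≠ z)
    (hxA : x ∈ A) (hAz : ∀ a ∈ A, a * z = z * a)
    (hA2 : ∀ a ∈ A, ∀ b ∈ A, a * b * a⁻¹ * b⁻¹ = 1 ∨ a * b * a⁻¹ * b⁻¹ = z)
    (hA3 : ∀ a ∈ A, (∀ b ∈ A, a * b = b * a) → a = 1 ∨ a = z)
    (hcard : 8 < Nat.card ↥A) :
    ∃ a ∈ A, ∃ b ∈ A, a * x = x * a ∧ b * x = x * b ∧ a * b * a⁻¹ * b⁻¹ = z := by
  classical
  by_contra hnab
  have hPab : ∀ a ∈ A, ∀ b ∈ A, a * x = x * a → b * x = x * b → a * b = b * a := by
    intro a ha b hb hax hbx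
    rcases hA2 a ha b hb with h | h
    · exact comm_of_eq_one h
    · exact (hnab ⟨a, ha, b, hb, hax, hbx, h⟩).elim
  have hP4 : ∀ p ∈ A, p * x = x * p → p = 1 ∨ p = z ∨ p = x ∨ p = x * z := fun p hp hpx =>
    center_P A z x hz2 hx2 hxA hAz hA2 hA3 p hp (fun p' hp' hp'x => hPab p' hp' p hp hp'x hpx)
  obtain ⟨v, hvA, hv⟩ := exists_v A z x hxz hx1 hxnz hxA hA2 hA3
  have hsub : (A : Set G) ⊆ ↑([1, z, x, x * z, v, v * z, v * x, v * (x * z)].toFinset) := by
    intro a ha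
    have ha' : a ∈ A := ha
    simp only [List.coe_toFinset, List.mem_cons, List.not_mem_nil, or_false, Set.mem_ofPred_eq]
    by_cases hax : a * x = x * a
    · rcases hP4 a ha' hax with h | h | h | h
      · exact Or.inl h
      · exact Or.inr (Or.inl h)
      · exact Or.inr (Or.inr (Or.inl h))
      · exact Or.inr (Or.inr (Or.inr (Or.inl h)))
    · have hax' : a * x * a⁻¹ * x⁻¹ = z := by
        rcases hA2 a ha' x hxA with h | h
        · exact absurd (comm_of_eq_one h) hax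
        · exact h
      have hxi : x⁻¹ = x := inv_eq_of_mul_eq_one_right hx2
      have h_ax : a * x * a⁻¹ = x * z := by rw [mul_inv_eq_iff_eq_mul.mp hax', hxz]
      have hp : (v⁻¹ * a) * x = x * (v⁻¹ * a) := by
        have : (v⁻¹ * a) * x * (v⁻¹ * a)⁻¹ = x := by
          calc (v⁻¹ * a) * x * (v⁻¹ * a)⁻¹ = v⁻¹ * (a * x * a⁻¹) * v := by group
            _ = v⁻¹ * (v * x * v⁻¹) * v := by rw [h_ax, hv]
            _ = x := by group
        exact mul_inv_eq_iff_eq_mul.mp this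
      have haw : a = v * (v⁻¹ * a) := by group
      rcases hP4 (v⁻¹ * a) (A.mul_mem (A.inv_mem hvA) ha') hp with h | h | h | h
      · rw [h, mul_one] at haw; exact Or.inr (Or.inr (Or.inr (Or.inr (Or.inl haw))))
      · rw [h] at haw; exact Or.inr (Or.inr (Or.inr (Or.inr (Or.inr (Or.inl haw)))))
      · rw [h] at haw
        exact Or.inr (Or.inr (Or.inr (Or.inr (Or.inr (Or.inr (Or.inl haw))))))
      · rw [h] at haw
        exact Or.inr (Or.inr (Or.inr (Or.inr (Or.inr (Or.inr (Or.inr haw))))))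
  have h1 : Nat.card ↥A = (A : Set G).ncard := Nat.card_coe_set_eq _
  have h2 : (A : Set G).ncard ≤ ([1, z, x, x * z, v, v * z, v * x, v * (x * z)].toFinset).card := by
    rw [← Set.ncard_coe_finset]
    exact Set.ncard_le_ncard hsub (Finset.finite_toSet _)
  have h3 := List.toFinset_card_le [1, z, x, x * z, v, v * z, v * x, v * (x * z)]
  simp only [List.length_cons, List.length_nil] at h3
  omega

theorem four_mem (Z Z' : Subgroup G) (z x : G) (hz2 : z * z = 1) (hx2 : x * x = 1)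
    (hxz : x * z = z * x)
    (hZ : ∀ t, t ∈ Z ↔ t = 1 ∨ t = z) (hZ' : ∀ t, t ∈ Z' ↔ t = 1 ∨ t = x) (t : G) :
    t ∈ Z ⊔ Z' ↔ t = 1 ∨ t = z ∨ t = x ∨ t = x * z := by
  have hzi : z⁻¹ = z := inv_eq_of_mul_eq_one_right hz2
  have hxi : x⁻¹ = x := inv_eq_of_mul_eq_one_right hx2
  have s3 : z * x = x * z := hxz.symm
  have s3' : ∀ t, z * (x * t) = x * (z * t) := fun t => by rw [← mul_assoc, s3, mul_assoc]
  have s4' : ∀ t, x * (x * t) = t := fun t => by rw [← mul_assoc, hx2, one_mul]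
  have s6' : ∀ t, z * (z * t) = t := fun t => by rw [← mul_assoc, hz2, one_mul]
  constructor
  · intro ht
    let S4 : Subgroup G :=
      { carrier := {t | t = 1 ∨ t = z ∨ t = x ∨ t = x * z}
        one_mem' := Or.inl rfl
        mul_mem' := by
          rintro a b (ha | ha | ha | ha) (hb | hb | hb | hb) <;> rw [ha, hb] <;>
            simp [mul_assoc, hz2, hx2, s3, s3', s4', s6']
        inv_mem' := by
          rintro a (ha | ha | ha | ha) <;> rw [ha] <;>
            simp [hzi, hxi, s3] }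
    have hle : Z ⊔ Z' ≤ S4 := by
      apply sup_le
      · intro s hs
        rcases (hZ s).mp hs with h | h
        · exact Or.inl h
        · exact Or.inr (Or.inl h)
      · intro s hs
        rcases (hZ' s).mp hs with h | h
        · exact Or.inl h
        · exact Or.inr (Or.inr (Or.inl h))
    exact hle ht
  · have hzV : z ∈ Z ⊔ Z' := (le_sup_left : Z ≤ Z ⊔ Z') ((hZ z).mpr (Or.inr rfl))
    have hxV : x ∈ Z ⊔ Z' := (le_sup_right : Z' ≤ Z ⊔ Z') ((hZ' x).mpr (Or.inr rfl))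
    rintro (rfl | rfl | rfl | rfl)
    · exact one_mem _
    · exact hzV
    · exact hxV
    · exact mul_mem hxV hzV

theorem conj_mul' (a b t : G) : (a * b) * t * (a * b)⁻¹ = a * (b * t * b⁻¹) * a⁻¹ := by group

theorem conj_prod (a s t : G) : a * (s * t) * a⁻¹ = (a * s * a⁻¹) * (a * t * a⁻¹) := by group

theorem relIndex_six [Finite G] (V : Subgroup G) (z x v v' : G) (hz1 : z ≠ 1) (hx1 : x ≠ 1)
    (hxnz : x ≠ z) (hz2 : z * z = 1) (hx2 : x * x = 1) (hxz : x * z = z * x)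
    (hV : ∀ t, t ∈ V ↔ t = 1 ∨ t = z ∨ t = x ∨ t = x * z)
    (hvz : v * z * v⁻¹ = z) (hvx : v * x * v⁻¹ = x * z)
    (hv'z : v' * z * v'⁻¹ = x * z) (hv'x : v' * x * v'⁻¹ = x) :
    (Subgroup.centralizer (V : Set G)).relIndex (Subgroup.normalizer (V : Set G)) = 6 := by
  classical
  have hzV : z ∈ V := (hV z).mpr (Or.inr (Or.inl rfl))
  have hxV : x ∈ V := (hV x).mpr (Or.inr (Or.inr (Or.inl rfl)))
  have hxzV : x * z ∈ V := (hV _).mpr (Or.inr (Or.inr (Or.inr rfl)))
  have mem_norm : ∀ n : G, n * z * n⁻¹ ∈ V → n * x * n⁻¹ ∈ V →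
      n ∈ Subgroup.normalizer (V : Set G) := by
    intro n hnz hnx
    have hmap : V.map (MulAut.conj n).toMonoidHom ≤ V := by
      rintro _ ⟨t, ht, rfl⟩
      simp only [MulEquiv.toMonoidHom_eq_coe, MonoidHom.coe_coe, MulAut.conj_apply]
      rcases (hV t).mp ht with h | h | h | h
      · rw [h, mul_one, mul_inv_cancel]; exact V.one_mem
      · rw [h]; exact hnz
      · rw [h]; exact hnx
      · rw [h, conj_prod]; exact V.mul_mem hnx hnz
    have heq : V.map (MulAut.conj n).toMonoidHom = V := by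
      apply Subgroup.eq_of_le_of_card_ge hmap
      rw [Subgroup.card_map_of_injective (MulAut.conj n).injective]
    rw [Subgroup.mem_normalizer_iff]
    intro t
    constructor
    · intro ht; exact hmap ⟨t, ht, by simp [MulAut.conj_apply]⟩
    · intro ht
      rw [← heq] at ht
      obtain ⟨s, hs, hst⟩ := ht
      simp only [MulEquiv.toMonoidHom_eq_coe, MonoidHom.coe_coe, MulAut.conj_apply] at hst
      have : s = t := by simpa using hst
      exact this ▸ hs
  have hvN : v ∈ Subgroup.normalizer (V : Set G) :=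
    mem_norm v (by rw [hvz]; exact hzV) (by rw [hvx]; exact hxzV)
  have hv'N : v' ∈ Subgroup.normalizer (V : Set G) :=
    mem_norm v' (by rw [hv'z]; exact hxzV) (by rw [hv'x]; exact hxV)
  have hCmem : ∀ c, c ∈ Subgroup.centralizer (V : Set G) ↔ c * z = z * c ∧ c * x = x * c := by
    intro c; rw [Subgroup.mem_centralizer_iff]
    constructor
    · intro h; exact ⟨(h z hzV).symm, (h x hxV).symm⟩
    · rintro ⟨h1, h2⟩ t ht
      rcases (hV t).mp ht with h | h | h | h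
      · rw [h, one_mul, mul_one]
      · rw [h]; exact h1.symm
      · rw [h]; exact h2.symm
      · rw [h, mul_assoc, ← h1, ← mul_assoc, ← h2, mul_assoc]
  obtain ⟨N, hNdef⟩ : ∃ N, N = Subgroup.normalizer (V : Set G) := ⟨_, rfl⟩
  obtain ⟨C, hCdef⟩ : ∃ C, C = Subgroup.centralizer (V : Set G) := ⟨_, rfl⟩
  rw [← hNdef, ← hCdef]
  rw [← hNdef] at hvN hv'N
  rw [← hCdef] at hCmem
  have hNmem : ∀ n ∈ N, ∀ t ∈ V, n * t * n⁻¹ ∈ V := by
    intro n hn t ht
    rw [hNdef] at hn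
    exact (Subgroup.mem_normalizer_iff.mp hn t).mp ht
  let f : ↥N → G × G := fun n => ((n : G) * z * (n : G)⁻¹, (n : G) * x * (n : G)⁻¹)
  have hker : QuotientGroup.leftRel (C.subgroupOf N) = Setoid.ker f := by
    ext a b
    rw [QuotientGroup.leftRel_apply, Setoid.ker_def, Subgroup.mem_subgroupOf, hCmem]
    simp only [f, Prod.mk.injEq, Subgroup.coe_mul, InvMemClass.coe_inv]
    constructor
    · rintro ⟨h1, h2⟩
      constructor
      · calc (a : G) * z * (a : G)⁻¹ = (a : G) * (z * ((a : G)⁻¹ * (b : G))) * (b : G)⁻¹ := by group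
          _ = (a : G) * (((a : G)⁻¹ * (b : G)) * z) * (b : G)⁻¹ := by rw [h1]
          _ = (b : G) * z * (b : G)⁻¹ := by group
      · calc (a : G) * x * (a : G)⁻¹ = (a : G) * (x * ((a : G)⁻¹ * (b : G))) * (b : G)⁻¹ := by group
          _ = (a : G) * (((a : G)⁻¹ * (b : G)) * x) * (b : G)⁻¹ := by rw [h2]
          _ = (b : G) * x * (b : G)⁻¹ := by group
    · rintro ⟨h1, h2⟩
      constructor
      · calc (a : G)⁻¹ * (b : G) * z = (a : G)⁻¹ * ((b : G) * z * (b : G)⁻¹) * (b : G) := by group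
          _ = (a : G)⁻¹ * ((a : G) * z * (a : G)⁻¹) * (b : G) := by rw [h1]
          _ = z * ((a : G)⁻¹ * (b : G)) := by group
      · calc (a : G)⁻¹ * (b : G) * x = (a : G)⁻¹ * ((b : G) * x * (b : G)⁻¹) * (b : G) := by group
          _ = (a : G)⁻¹ * ((a : G) * x * (a : G)⁻¹) * (b : G) := by rw [h2]
          _ = x * ((a : G)⁻¹ * (b : G)) := by group
  have h1 : C.relIndex N = Nat.card (Set.range f) := by
    unfold Subgroup.relIndex Subgroup.index
    have : Nat.card (↥N ⧸ C.subgroupOf N) = Nat.card (Quotient (Setoid.ker f)) := by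
      show Nat.card (Quotient (QuotientGroup.leftRel (C.subgroupOf N))) = _
      rw [hker]
    rw [this]; exact Nat.card_congr (Setoid.quotientKerEquivRange f)
  have hrange : Set.range f
      = ({(z, x), (z, x * z), (x, z), (x, x * z), (x * z, z), (x * z, x)} : Set (G × G)) := by
    ext ⟨p, q⟩
    simp only [Set.mem_range, Set.mem_insert_iff, Set.mem_singleton_iff, Prod.mk.injEq, f]
    constructor
    · rintro ⟨n, hp, hq⟩
      have hnz := hNmem n n.2 z hzV
      have hnx := hNmem n n.2 x hxV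
      rw [hp] at hnz; rw [hq] at hnx
      have hp1 : p ≠ 1 := by
        rw [← hp]; intro h; exact hz1 (conj_eq_one_iff.mp h)
      have hq1 : q ≠ 1 := by
        rw [← hq]; intro h; exact hx1 (conj_eq_one_iff.mp h)
      have hpq : p ≠ q := by
        rw [← hp, ← hq]; intro h
        exact hxnz (mul_left_cancel (mul_right_cancel h)).symm
      rcases (hV p).mp hnz with h | h | h | h <;> rcases (hV q).mp hnx with h' | h' | h' | h'
      all_goals first
        | exact absurd h hp1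
        | exact absurd h' hq1
        | exact absurd (h.trans h'.symm) hpq
        | (simp [h, h'])
    · rintro (⟨hp, hq⟩ | ⟨hp, hq⟩ | ⟨hp, hq⟩ | ⟨hp, hq⟩ | ⟨hp, hq⟩ | ⟨hp, hq⟩) <;> rw [hp, hq]
      · exact ⟨1, by simp, by simp⟩
      · exact ⟨⟨v, hvN⟩, hvz, hvx⟩
      · refine ⟨⟨v * v' * v, N.mul_mem (N.mul_mem hvN hv'N) hvN⟩, ?_, ?_⟩
        · show (v * v' * v) * z * (v * v' * v)⁻¹ = x
          rw [conj_mul', conj_mul', hvz, hv'z, conj_prod, hvx, hvz, mul_assoc, hz2, mul_one]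
        · show (v * v' * v) * x * (v * v' * v)⁻¹ = z
          rw [conj_mul', conj_mul', hvx, conj_prod v' x z, hv'x, hv'z,
            show x * (x * z) = z by rw [← mul_assoc, hx2, one_mul], hvz]
      · refine ⟨⟨v * v', N.mul_mem hvN hv'N⟩, ?_, ?_⟩
        · show (v * v') * z * (v * v')⁻¹ = x
          rw [conj_mul', hv'z, conj_prod, hvx, hvz, mul_assoc, hz2, mul_one]
        · show (v * v') * x * (v * v')⁻¹ = x * z
          rw [conj_mul', hv'x, hvx]
      · refine ⟨⟨v' * v, N.mul_mem hv'N hvN⟩, ?_, ?_⟩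
        · show (v' * v) * z * (v' * v)⁻¹ = x * z
          rw [conj_mul', hvz, hv'z]
        · show (v' * v) * x * (v' * v)⁻¹ = z
          rw [conj_mul', hvx, conj_prod, hv'x, hv'z, ← mul_assoc, hx2, one_mul]
      · exact ⟨⟨v', hv'N⟩, hv'z, hv'x⟩
  rw [h1, hrange, Nat.card_coe_set_eq]
  have hfs : ({(z, x), (z, x * z), (x, z), (x, x * z), (x * z, z), (x * z, x)} : Set (G × G))
      = ↑({(z, x), (z, x * z), (x, z), (x, x * z), (x * z, z), (x * z, x)} : Finset (G × G)) := by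
    ext; simp
  rw [hfs, Set.ncard_coe_finset]
  have d1 : z ≠ x := Ne.symm hxnz
  rw [Finset.card_insert_of_notMem (by simp [hz1, hx1, hxnz, d1]),
    Finset.card_insert_of_notMem (by simp [hz1, hx1, hxnz, d1]),
    Finset.card_insert_of_notMem (by simp [hz1, hx1, hxnz, d1]),
    Finset.card_insert_of_notMem (by simp [hz1, hx1, hxnz, d1]),
    Finset.card_insert_of_notMem (by simp [hz1, hx1, hxnz, d1]),
    Finset.card_singleton]

open Cfsg.Agent.S5595 in
/-- Let Q be an extraspecial 2-subgroup of the finite group G whose centralizer in G is its centre Z and which is normal in the centralizer of Z; suppose Q has width at least 2 (order 2^(2w+1) with w ≥ 2) and g is an element of G not normalizing Z with g Z g⁻¹ inside Q. Then Z lies inside g Q g⁻¹; writing V for the subgroup generated by Z and g Z g⁻¹ (a four-group), the normalizer of V induces on V its full automorphism group, that is, the centralizer of V has index 6 in the normalizer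 of V; and Q is a large extraspecial 2-subgroup of G. -/
theorem result {G : Type*} [Group G] [Finite G] (Q : Subgroup G) (hL1 : Cfsg.IsExtraspecial 2 ↥Q) (hL2 : Subgroup.centralizer (Q : Set G) = ((Subgroup.center ↥Q).map Q.subtype)) (hL3 : Subgroup.centralizer (((Subgroup.center ↥Q).map Q.subtype) : Set G) ≤ Subgroup.normalizer (Q : Set G)) (w : ℕ) (hw : 2 ≤ w) (hcard : Nat.card ↥Q = 2 ^ (2 * w + 1)) (g : G) (hg : g ∉ Subgroup.normalizer (((Subgroup.center ↥Q).map Q.subtype) : Set G)) (hZg : (((Subgroup.center ↥Q).map Q.subtype)).map (MulAut.conj g).toMonoidHom ≤ Q) : ((Subgroup.center ↥Q).map Q.subtype) ≤ (Q).map (MulAut.conj g).toMonoidHom ∧ (Subgroup.centralizer ((((Subgroup.center ↥Q).map Q.subtype) ⊔ (((Subgroup.center ↥Q).map Q.subtype)).map (MulAut.conj g).toMonoidHom : Subgroup G) : Set G)).relIndex (Subgroup.normalizer ((((Subgroup.center ↥Q).map Q.subtype) ⊔ (((Subgroup.center ↥Q).map Q.subtype)).map (MulAut.conj g).toMonoidHom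 : Subgroup G) : Set G)) = 6 ∧ Cfsg.IsLargeExtraspecial Q := by
  classical
  have hc2 : Nat.card (Subgroup.center ↥Q) = 2 := hL1.2
  obtain ⟨y, hy, huniq⟩ := (Nat.card_eq_two_iff' (1 : Subgroup.center ↥Q)).mp hc2
  obtain ⟨z, hzdef⟩ : ∃ z : G, z = ((y : ↥Q) : G) := ⟨_, rfl⟩
  have hzQ : z ∈ Q := hzdef ▸ (y : ↥Q).2
  have hz1 : z ≠ 1 := by
    intro h
    apply hy
    apply Subtype.ext
    apply Subtype.ext
    rw [← hzdef]; exact h
  have hcen : ∀ c : ↥Q, c ∈ Subgroup.center ↥Q → (c : G) = 1 ∨ (c : G) = z := by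
    intro c hc
    by_cases h1 : (⟨c, hc⟩ : Subgroup.center ↥Q) = 1
    · left
      have := congrArg (fun t : Subgroup.center ↥Q => ((t : ↥Q) : G)) h1
      simpa using this
    · right
      have := huniq ⟨c, hc⟩ h1
      rw [hzdef, ← this]
  obtain ⟨Z, hZdef⟩ : ∃ Z, Z = (Subgroup.center ↥Q).map Q.subtype := ⟨_, rfl⟩
  rw [← hZdef] at hL2 hL3 hg hZg ⊢
  have hZ : ∀ t, t ∈ Z ↔ t = 1 ∨ t = z := by
    intro t; constructor
    · rw [hZdef]
      rintro ⟨c, hc, rfl⟩; exact hcen c hc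
    · rintro (rfl | rfl)
      · exact Z.one_mem
      · rw [hZdef]; exact ⟨(y : ↥Q), y.2, hzdef.symm⟩
  have hAz : ∀ a ∈ Q, a * z = z * a := by
    intro a ha
    have h1 := Subgroup.mem_center_iff.mp y.2 ⟨a, ha⟩
    have h2 := congrArg (fun t : ↥Q => (t : G)) h1
    simp only [Subgroup.coe_mul] at h2
    rw [← hzdef] at h2
    exact h2
  have hz2 : z * z = 1 := by
    have h0 : (y : ↥Q) * (y : ↥Q) ∈ Subgroup.center ↥Q := mul_mem y.2 y.2
    rcases hcen _ h0 with h | h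
    · simp only [Subgroup.coe_mul] at h
      rw [← hzdef] at h; exact h
    · exfalso; apply hz1
      simp only [Subgroup.coe_mul] at h
      rw [← hzdef] at h
      exact mul_left_cancel (a := z) (by rw [mul_one]; exact h)
  have hA2 : ∀ a ∈ Q, ∀ b ∈ Q, a * b * a⁻¹ * b⁻¹ = 1 ∨ a * b * a⁻¹ * b⁻¹ = z := by
    intro a ha b hb
    have := hcen _ (Cfsg.Agent.Lib.Helper20.ESpecial.comm_mem_center hL1.1.2.2 ⟨a, ha⟩ ⟨b, hb⟩)
    simpa using this
  have hA3 : ∀ a ∈ Q, (∀ b ∈ Q, a * b = b * a) → a = 1 ∨ a = z := by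
    intro a ha hab
    have : (⟨a, ha⟩ : ↥Q) ∈ Subgroup.center ↥Q := by
      rw [Subgroup.mem_center_iff]
      intro g'
      exact Subtype.ext (hab g' g'.2).symm
    simpa using hcen _ this
  have hAsq : ∀ a ∈ Q, a * a = 1 ∨ a * a = z := by
    intro a ha
    have h1 := Cfsg.Agent.Lib.Helper20.ESpecial.pow_mem_frattini hL1.1.1 (⟨a, ha⟩ : ↥Q)
    rw [hL1.1.2.1] at h1
    have := hcen _ h1
    simpa [pow_two] using this
  have hZQ : Z ≤ Q := by rw [hZdef]; exact Subgroup.map_subtype_le _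
  have hA4 : ∀ g' : G, (∀ a ∈ Q, g' * a = a * g') → g' ∈ Q := by
    intro g' hg'
    have : g' ∈ Subgroup.centralizer (Q : Set G) :=
      Subgroup.mem_centralizer_iff.mpr (fun a ha => (hg' a ha).symm)
    rw [hL2] at this
    exact hZQ this
  have hNA : ∀ g' : G, g' * z = z * g' → ∀ a ∈ Q, g' * a * g'⁻¹ ∈ Q := by
    intro g' hg' a ha
    have : g' ∈ Subgroup.centralizer (Z : Set G) := by
      rw [Subgroup.mem_centralizer_iff]
      intro t ht
      rcases (hZ t).mp ht with h | h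
      · rw [h, one_mul, mul_one]
      · rw [h]; exact hg'.symm
    exact (Subgroup.mem_normalizer_iff.mp (hL3 this) a).mp ha
  have hxQ : g * z * g⁻¹ ∈ Q :=
    hZg ⟨z, (hZ z).mpr (Or.inr rfl), by simp [MulAut.conj_apply]⟩
  have hxnz : g * z * g⁻¹ ≠ z := by
    intro h
    apply hg
    rw [Subgroup.mem_normalizer_iff]
    intro t
    rw [hZ, hZ]
    constructor
    · rintro (rfl | rfl)
      · left; rw [mul_one, mul_inv_cancel]
      · right; exact h
    · rintro (h' | h')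
      · left; exact conj_eq_one_iff.mp h'
      · right
        rw [← h] at h'
        exact mul_left_cancel (mul_right_cancel h')
  have hBiff : ∀ b, b ∈ Q.map (MulAut.conj g).toMonoidHom ↔ g⁻¹ * b * g ∈ Q := by
    intro b
    constructor
    · rintro ⟨a, ha, rfl⟩
      simp only [MulEquiv.toMonoidHom_eq_coe, MonoidHom.coe_coe, MulAut.conj_apply]
      have : g⁻¹ * (g * a * g⁻¹) * g = a := by group
      rw [this]; exact ha
    · intro h
      refine ⟨g⁻¹ * b * g, h, ?_⟩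
      simp only [MulEquiv.toMonoidHom_eq_coe, MonoidHom.coe_coe, MulAut.conj_apply]
      group
  have hx1 : g * z * g⁻¹ ≠ 1 := fun h => hz1 (conj_eq_one_iff.mp h)
  have hx2 : (g * z * g⁻¹) * (g * z * g⁻¹) = 1 := by
    calc g * z * g⁻¹ * (g * z * g⁻¹) = g * (z * z) * g⁻¹ := by group
      _ = 1 := by rw [hz2, mul_one, mul_inv_cancel]
  have hxz : (g * z * g⁻¹) * z = z * (g * z * g⁻¹) := hAz _ hxQ
  have hcard8 : 8 < Nat.card ↥Q := by
    rw [hcard]
    calc 8 < 2 ^ 5 := by norm_num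
      _ ≤ 2 ^ (2 * w + 1) := Nat.pow_le_pow_right (by norm_num) (by omega)
  have hnab := nab_of_card Q z (g * z * g⁻¹) hz2 hx2 hxz hx1 hxnz hxQ hAz hA2 hA3 hcard8
  have hzB : z ∈ Q.map (MulAut.conj g).toMonoidHom :=
    key_conj Q _ z g hz2 hz1 hzQ hxQ hxnz hAz hA2 hA3 hAsq hA4 hNA hBiff hnab
  -- claim 1
  have claim1 : Z ≤ Q.map (MulAut.conj g).toMonoidHom := by
    intro t ht
    rcases (hZ t).mp ht with h | h
    · rw [h]; exact one_mem _
    · rw [h]; exact hzB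
  -- claim 2
  have hZ' : ∀ t, t ∈ Z.map (MulAut.conj g).toMonoidHom ↔ t = 1 ∨ t = g * z * g⁻¹ := by
    intro t
    constructor
    · rintro ⟨s, hs, rfl⟩
      simp only [MulEquiv.toMonoidHom_eq_coe, MonoidHom.coe_coe, MulAut.conj_apply]
      rcases (hZ s).mp hs with h | h
      · left; rw [h, mul_one, mul_inv_cancel]
      · right; rw [h]
    · rintro (rfl | rfl)
      · exact one_mem _
      · exact ⟨z, (hZ z).mpr (Or.inr rfl), by simp [MulAut.conj_apply]⟩
  have hV := four_mem Z (Z.map (MulAut.conj g).toMonoidHom) z (g * z * g⁻¹) hz2 hx2 hxz hZ hZ'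
  obtain ⟨v, hvQ, hv⟩ := exists_v Q z (g * z * g⁻¹) hxz hx1 hxnz hxQ hA2 hA3
  have hvz : v * z * v⁻¹ = z := by rw [hAz v hvQ, mul_inv_cancel_right]
  have hz0Q : g⁻¹ * z * g ∈ Q := (hBiff z).mp hzB
  have hz01 : g⁻¹ * z * g ≠ 1 := by
    intro h
    apply hz1
    have := conj_eq_one_iff (a := g⁻¹) (b := z)
    rw [inv_inv] at this
    exact this.mp h
  have hz0z : g⁻¹ * z * g ≠ z := by
    intro h
    apply hxnz
    calc g * z * g⁻¹ = g * (g⁻¹ * z * g) * g⁻¹ := by rw [h]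
      _ = z := by group
  obtain ⟨u, huQ, hu⟩ := exists_v Q z (g⁻¹ * z * g) (hAz _ hz0Q) hz01 hz0z hz0Q hA2 hA3
  have huz : u * z * u⁻¹ = z := by rw [hAz u huQ, mul_inv_cancel_right]
  have hv'z : (g * u * g⁻¹) * z * (g * u * g⁻¹)⁻¹ = (g * z * g⁻¹) * z := by
    calc (g * u * g⁻¹) * z * (g * u * g⁻¹)⁻¹ = g * (u * (g⁻¹ * z * g) * u⁻¹) * g⁻¹ := by group
      _ = g * ((g⁻¹ * z * g) * z) * g⁻¹ := by rw [hu]
      _ = z * (g * z * g⁻¹) := by group
      _ = (g * z * g⁻¹) * z := hxz.symm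
  have hv'x : (g * u * g⁻¹) * (g * z * g⁻¹) * (g * u * g⁻¹)⁻¹ = g * z * g⁻¹ := by
    calc (g * u * g⁻¹) * (g * z * g⁻¹) * (g * u * g⁻¹)⁻¹ = g * (u * z * u⁻¹) * g⁻¹ := by group
      _ = g * z * g⁻¹ := by rw [huz]
  have claim2 := relIndex_six (Z ⊔ Z.map (MulAut.conj g).toMonoidHom) z (g * z * g⁻¹) v
    (g * u * g⁻¹) hz1 hx1 hxnz hz2 hx2 hxz hV hvz hv hv'z hv'x
  -- claim 3
  have claim3 : Cfsg.IsLargeExtraspecial Q := by
    have hL2' := hL2
    have hL3' := hL3
    rw [hZdef] at hL2' hL3'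
    apply Cfsg.Agent.S5421.result Q hL1 hL2' hL3' (g * z * g⁻¹) hxQ
    · rw [← hZdef, hZ]
      rintro (h | h)
      · exact hx1 h
      · exact hxnz h
    · exact orderOf_eq_prime (by rw [pow_two]; exact hx2) hx1
    · rw [← hZdef]
      have hB2 : IsPGroup 2 ↥(Q.map (MulAut.conj g).toMonoidHom) := hL1.1.1.map _
      have hN2 : IsPGroup 2 ↥((Q.map (MulAut.conj g).toMonoidHom).subgroupOf
          (Subgroup.centralizer ({g * z * g⁻¹} : Set G))) :=
        hB2.comap_of_injective _ (Subgroup.subtype_injective _)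
      have hNn : ((Q.map (MulAut.conj g).toMonoidHom).subgroupOf
          (Subgroup.centralizer ({g * z * g⁻¹} : Set G))).Normal := by
        refine ⟨fun n hn c => ?_⟩
        rw [Subgroup.mem_subgroupOf] at hn ⊢
        have hc := Subgroup.mem_centralizer_singleton_iff.mp c.2
        rw [hBiff] at hn ⊢
        have e : g⁻¹ * ((c * n * c⁻¹ : ↥(Subgroup.centralizer ({g * z * g⁻¹} : Set G))) : G) * g
            = (g⁻¹ * (c : G) * g) * (g⁻¹ * (n : G) * g) * (g⁻¹ * (c : G) * g)⁻¹ := by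
          push_cast; group
        rw [e]
        apply hNA _ _ _ hn
        have e0 : g⁻¹ * (g * z * g⁻¹) * g = z := by group
        calc (g⁻¹ * (c : G) * g) * z = g⁻¹ * ((c : G) * (g * z * g⁻¹)) * g := by group
          _ = g⁻¹ * ((g * z * g⁻¹) * (c : G)) * g := by rw [hc]
          _ = z * (g⁻¹ * (c : G) * g) := by group
      have hle := Cfsg.Agent.Lib.Helper9.le_pCore hNn hN2
      intro t ht
      rcases (hZ t).mp ht with h | h
      · rw [h]; exact one_mem _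
      · rw [h]
        have hzC : z ∈ Subgroup.centralizer ({g * z * g⁻¹} : Set G) :=
          Subgroup.mem_centralizer_singleton_iff.mpr hxz.symm
        exact ⟨⟨z, hzC⟩, hle (Subgroup.mem_subgroupOf.mpr hzB), rfl⟩
  exact ⟨claim1, claim2, claim3⟩

end Cfsg.Agent.S5422
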