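import Cfsg.Statements.S5427
import Mathlib
import Cfsg.Agent.Lib.Helper9.Components
import Cfsg.Agent.Lib.Helper5.LargeEx2
import Cfsg.Agent.S5421
import Cfsg.Agent.S5422

set_option autoImplicit false
open Cfsg

namespace Cfsg.Agent.S5427

theorem fstar_facts {G : Type*} [Group G] [Finite G] (z : G) (Q : Subgroup G)
    (hF : (Cfsg.generalizedFittingSubgroup ↥(Subgroup.centralizer ({z} : Set G))).map
      (Subgroup.centralizer ({z} : Set G)).subtype = Q) :
    (∀ h : G, h * z = z * h → ∀ x ∈ Q, h * x * h⁻¹ ∈ Q) ∧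
    (∀ h : G, h * z = z * h → (∀ x ∈ Q, h * x = x * h) → h ∈ Q) ∧
    (∀ x ∈ Q, x * z = z * x) := by
  classical
  subst hF
  obtain ⟨H, hH⟩ : ∃ H : Subgroup G, H = Subgroup.centralizer ({z} : Set G) := ⟨_, rfl⟩
  rw [← hH]
  obtain ⟨Fs, hFs⟩ : ∃ Fs : Subgroup H, Fs = Cfsg.generalizedFittingSubgroup ↥H := ⟨_, rfl⟩
  rw [← hFs]
  have hmemH : ∀ h : G, h ∈ H ↔ h * z = z * h := by
    intro h
    rw [hH, Subgroup.mem_centralizer_iff]
    constructor
    · intro hh; exact (hh z rfl).symm
    · intro hh g hg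
      rw [Set.mem_singleton_iff] at hg
      rw [hg]; exact hh.symm
  have hmemQ : ∀ q : G, q ∈ Fs.map H.subtype ↔ ∃ hq : q ∈ H, (⟨q, hq⟩ : H) ∈ Fs := by
    intro q
    constructor
    · rintro ⟨x, hx, rfl⟩; exact ⟨x.2, hx⟩
    · rintro ⟨hq, hx⟩; exact ⟨⟨q, hq⟩, hx, rfl⟩
  have hnorm : Fs.Normal := by rw [hFs]; exact Cfsg.Agent.Lib.Helper9.gfitting_normal ↥H
  have hcentF : Subgroup.centralizer (Fs : Set H) ≤ Fs := by
    rw [hFs]; exact Cfsg.Agent.Lib.Helper9.centralizer_gfitting_le ↥H
  refine ⟨?_, ?_, ?_⟩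
  · intro h hh x hx
    obtain ⟨hxH, hxF⟩ := (hmemQ x).mp hx
    rw [hmemQ]
    have hhH : h ∈ H := (hmemH h).mpr hh
    refine ⟨H.mul_mem (H.mul_mem hhH hxH) (H.inv_mem hhH), ?_⟩
    have := hnorm.conj_mem ⟨x, hxH⟩ hxF ⟨h, hhH⟩
    exact this
  · intro h hh hc
    rw [hmemQ]
    refine ⟨(hmemH h).mpr hh, ?_⟩
    apply hcentF
    rw [Subgroup.mem_centralizer_iff]
    intro x hx
    apply Subtype.ext
    have := hc (x : G) ((hmemQ _).mpr ⟨x.2, hx⟩)
    exact this.symm
  · intro x hx
    obtain ⟨hxH, -⟩ := (hmemQ x).mp hx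
    exact (hmemH x).mp hxH

/-- Let z be an involution of the finite group G whose centralizer C has generalized Fitting subgroup Q, an extraspecial 2-group of width at least 2 (order 2^(2w+1), w ≥ 2). Let K be a subgroup of G such that the subgroup U generated by the K-conjugates of z is abelian and C is generated by the C-conjugates of U. Suppose that either some K-conjugate of z other than z lies in Q, or some element u of U ∩ Q outside the subgroup generated by z has z in the largest normal 2-subgroup of its centralizer. Then G is simple and Q is a large extraspecial 2-subgroup of G. -/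
theorem result {G : Type*} [Group G] [Finite G] (z : G) (hz : orderOf z = 2) (Q : Subgroup G) (hQC : Q ≤ Subgroup.centralizer ({z} : Set G)) (hF : (Cfsg.generalizedFittingSubgroup ↥(Subgroup.centralizer ({z} : Set G))).map (Subgroup.centralizer ({z} : Set G)).subtype = Q) (hQ : Cfsg.IsExtraspecial 2 ↥Q) (w : ℕ) (hw : 2 ≤ w) (hcard : Nat.card ↥Q = 2 ^ (2 * w + 1)) (K U : Subgroup G) (hU : U = Subgroup.closure {x : G | ∃ k ∈ K, x = k * z * k⁻¹}) (hUab : IsMulCommutative ↥U) (hgen : Subgroup.closure {x : G | ∃ c ∈ Subgroup.centralizer ({z} : Set G), ∃ u ∈ U, x = c * u * c⁻¹} = Subgroup.centralizer ({z} : Set G)) (h3 : (∃ k ∈ K, k * z * k⁻¹ ∈ Q ∧ k * z * k⁻¹ ≠ z) ∨ ∃ u ∈ U ⊓ Q, u ∉ Subgroup.zpowers z ∧ (∃ hz' : z ∈ Subgroup.centralizer ({u} : Set G), (⟨z, hz'⟩ : ↥(Subgroup.centralizer ({u} : Set G))) ∈ Cfsg.pCore 2 ↥(Subgroup.centralizer ({u} : Set G)))) : IsSimpleGroup G ∧ Cfsg.IsLargeExtraspecial Q := by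
  classical
  haveI : Fact (Nat.Prime 2) := ⟨Nat.prime_two⟩
  obtain ⟨hnorm, hcent, hcomm_z⟩ := fstar_facts z Q hF
  have hz2 : z * z = 1 := by rw [← pow_two, ← hz]; exact pow_orderOf_eq_one z
  have hz1 : z ≠ 1 := by
    intro h
    rw [h, orderOf_one] at hz; omega
  have hzinv : z⁻¹ = z := inv_eq_of_mul_eq_one_left hz2
  have hzQ : z ∈ Q := hcent z rfl (fun x hx => (hcomm_z x hx).symm)
  have hzc : z ∈ (Subgroup.center ↥Q).map Q.subtype := by
    refine ⟨⟨z, hzQ⟩, ?_, rfl⟩
    show (⟨z, hzQ⟩ : Q) ∈ Subgroup.center ↥Q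
    rw [Subgroup.mem_center_iff]
    intro q
    exact Subtype.ext (hcomm_z q q.2)
  have hGd := Cfsg.Agent.Lib.Helper5.LargeEx.good_of_extraspecial Q hQ z hzc hz1
  obtain ⟨-, -, -, hAz, hA2, hA3, hAsq⟩ := hGd
  have hZmem : ∀ c : G, c ∈ (Subgroup.center ↥Q).map Q.subtype ↔ c = 1 ∨ c = z := by
    intro c
    constructor
    · rintro ⟨x, hx, rfl⟩
      apply hA3 _ x.2
      intro b hb
      have := Subgroup.mem_center_iff.mp hx ⟨b, hb⟩
      exact (congrArg Subtype.val this).symm
    · intro h
      rcases h with h | h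
      · rw [h]; exact Subgroup.one_mem _
      · rw [h]; exact hzc
  have hL2 : Subgroup.centralizer (Q : Set G) = (Subgroup.center ↥Q).map Q.subtype := by
    ext c
    rw [hZmem, Subgroup.mem_centralizer_iff]
    constructor
    · intro hc
      have hcz : c * z = z * c := (hc z hzQ).symm
      have hcQ : c ∈ Q := hcent c hcz (fun x hx => (hc x hx).symm)
      exact hA3 c hcQ (fun b hb => (hc b hb).symm)
    · intro h
      rcases h with h | h
      · intro x _; rw [h]; simp
      · intro x hx; rw [h]; exact hAz x hx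
  have hL3 : Subgroup.centralizer (((Subgroup.center ↥Q).map Q.subtype : Subgroup G) : Set G) ≤
      Subgroup.normalizer (Q : Set G) := by
    intro c hc
    rw [Subgroup.mem_centralizer_iff] at hc
    have hcz : c * z = z * c := (hc z hzc).symm
    rw [Subgroup.mem_normalizer_iff]
    intro h
    constructor
    · intro hh; exact hnorm c hcz h hh
    · intro hh
      have hcz' : c⁻¹ * z = z * c⁻¹ := by
        calc c⁻¹ * z = c⁻¹ * (z * c) * c⁻¹ := by group
          _ = c⁻¹ * (c * z) * c⁻¹ := by rw [hcz]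
          _ = z * c⁻¹ := by group
      have := hnorm c⁻¹ hcz' _ hh
      have e : c⁻¹ * (c * h * c⁻¹) * c⁻¹⁻¹ = h := by group
      rwa [e] at this
  have hUz : ∀ k ∈ K, k * z * k⁻¹ ∈ U := by
    intro k hk
    rw [hU]; exact Subgroup.subset_closure ⟨k, hk, rfl⟩
  have hUsq : ∀ u ∈ U, u * u = 1 := by
    intro u hu
    have hu' : u ∈ Subgroup.closure {x : G | ∃ k ∈ K, x = k * z * k⁻¹} := by
      rw [← hU]; exact hu
    clear hu
    induction hu' using Subgroup.closure_induction with
    | mem s hs =>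
      obtain ⟨k, -, rfl⟩ := hs
      calc k * z * k⁻¹ * (k * z * k⁻¹) = k * (z * z) * k⁻¹ := by group
        _ = 1 := by rw [hz2, mul_one, mul_inv_cancel]
    | one => simp
    | mul x y hx hy ihx ihy =>
      have hxy : x * y = y * x := by
        have := hUab.is_comm.comm (⟨x, by rw [hU]; exact hx⟩ : U) ⟨y, by rw [hU]; exact hy⟩
        exact congrArg Subtype.val this
      calc x * y * (x * y) = x * (y * x) * y := by group
        _ = x * (x * y) * y := by rw [hxy]
        _ = (x * x) * (y * y) := by group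
        _ = 1 := by rw [ihx, ihy, mul_one]
    | inv x hx ihx =>
      calc x⁻¹ * x⁻¹ = (x * x)⁻¹ := by group
        _ = 1 := by rw [ihx, inv_one]
  have hlarge : Cfsg.IsLargeExtraspecial Q := by
    rcases h3 with ⟨k, hk, hkQ, hkne⟩ | ⟨u, hu, hunz, hz', hzO⟩
    · refine (Cfsg.Agent.S5422.result Q hQ hL2 hL3 w hw hcard k ?_ ?_).2.2
      · intro hkn
        rw [Subgroup.mem_normalizer_iff] at hkn
        have := (hkn z).mp hzc
        rcases (hZmem _).mp this with h | h
        · exact hz1 (conj_eq_one_iff.mp h)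
        · exact hkne h
      · rintro _ ⟨c, hc, rfl⟩
        rcases (hZmem c).mp hc with h | h
        · rw [h]; simp
        · rw [h]; simpa using hkQ
    · have huQ : u ∈ Q := hu.2
      have huU : u ∈ U := hu.1
      have hu1 : u ≠ 1 := fun h => hunz (h ▸ Subgroup.one_mem _)
      have huo : orderOf u = 2 := orderOf_eq_prime (by rw [pow_two]; exact hUsq u huU) hu1
      refine Cfsg.Agent.S5421.result Q hQ hL2 hL3 u huQ ?_ huo ?_
      · intro h
        rcases (hZmem u).mp h with h | h
        · exact hu1 h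
        · exact hunz (h ▸ Subgroup.mem_zpowers z)
      · intro c hc
        rcases (hZmem c).mp hc with h | h
        · rw [h]; exact Subgroup.one_mem _
        · rw [h]; exact ⟨⟨z, hz'⟩, hzO, rfl⟩
  have hmemH : ∀ h : G, h ∈ Subgroup.centralizer ({z} : Set G) ↔ h * z = z * h := by
    intro h
    rw [Subgroup.mem_centralizer_iff]
    constructor
    · intro hh; exact (hh z rfl).symm
    · intro hh g hg
      rw [Set.mem_singleton_iff] at hg
      rw [hg]; exact hh.symm
  have hHle : ∀ N : Subgroup G, N.Normal → z ∈ N → Subgroup.centralizer ({z} : Set G) ≤ N := by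
    intro N hN hzN
    have hUN : U ≤ N := by
      rw [hU, Subgroup.closure_le]
      rintro _ ⟨k, -, rfl⟩
      exact hN.conj_mem z hzN k
    rw [← hgen, Subgroup.closure_le]
    rintro _ ⟨c, -, u, hu, rfl⟩
    exact hN.conj_mem u (hUN hu) c
  have hN2 : ∀ N : Subgroup G, N.Normal → z ∈ N → N = ⊤ := by
    intro N hN hzN
    haveI := hN
    have hHN := hHle N hN hzN
    have hQp : IsPGroup 2 (Q.subgroupOf N) := hQ.1.1.comap_subtype
    obtain ⟨P, hP⟩ := hQp.exists_le_sylow
    have hfr := Sylow.normalizer_sup_eq_top P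
    obtain ⟨P', hP'def⟩ : ∃ P' : Subgroup G, P' = (P : Subgroup N).map N.subtype := ⟨_, rfl⟩
    rw [← hP'def] at hfr
    have hP' : ∀ x : G, x ∈ P' ↔ ∃ hx : x ∈ N, (⟨x, hx⟩ : N) ∈ P := by
      intro x
      rw [hP'def]
      constructor
      · rintro ⟨y, hy, rfl⟩; exact ⟨y.2, hy⟩
      · rintro ⟨hx, hy⟩; exact ⟨⟨x, hx⟩, hy, rfl⟩
    have hQP : ∀ q ∈ Q, q ∈ P' := by
      intro q hq
      rw [hP']
      refine ⟨hHN (hQC hq), ?_⟩
      apply hP
      rw [Subgroup.mem_subgroupOf]
      exact hq
    have hL : ∀ c ∈ P', (∀ p ∈ P', c * p = p * c) → c = 1 ∨ c = z := by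
      intro c hc hcp
      have hcz : c * z = z * c := hcp z (hQP z hzQ)
      have hcQ : c ∈ Q := hcent c hcz (fun x hx => hcp x (hQP x hx))
      exact hA3 c hcQ (fun b hb => hcp b (hQP b hb))
    have hzP : z ∈ P' := hQP z hzQ
    have hzc' : ∀ p ∈ P', z * p = p * z := by
      have hpg : IsPGroup 2 P' := by rw [hP'def]; exact P.isPGroup'.map N.subtype
      haveI : Nontrivial P' := ⟨⟨⟨z, hzP⟩, 1, fun h => hz1 (congrArg Subtype.val h)⟩⟩
      haveI := hpg.center_nontrivial
      obtain ⟨c, hc⟩ := exists_ne (1 : Subgroup.center P')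
      have hcc : ∀ p ∈ P', ((c : P') : G) * p = p * ((c : P') : G) := by
        intro p hp
        have := Subgroup.mem_center_iff.mp c.2 ⟨p, hp⟩
        exact (congrArg Subtype.val this).symm
      rcases hL _ (c : P').2 hcc with h | h
      · exfalso; apply hc; apply Subtype.ext; apply Subtype.ext; exact h
      · intro p hp; rw [← h]; exact hcc p hp
    have hnormP : Subgroup.normalizer (P' : Set G) ≤ N := by
      intro n hn
      apply hHN
      rw [hmemH]
      rw [Subgroup.mem_normalizer_iff] at hn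
      have h1 : n * z * n⁻¹ ∈ P' := (hn z).mp hzP
      have h2 : ∀ p ∈ P', (n * z * n⁻¹) * p = p * (n * z * n⁻¹) := by
        intro p hp
        have h3 : n⁻¹ * p * n ∈ P' := by
          rw [hn]
          have : n * (n⁻¹ * p * n) * n⁻¹ = p := by group
          rw [this]; exact hp
        have h4 := hzc' _ h3
        calc n * z * n⁻¹ * p = n * (z * (n⁻¹ * p * n)) * n⁻¹ := by group
          _ = n * ((n⁻¹ * p * n) * z) * n⁻¹ := by rw [h4]
          _ = p * (n * z * n⁻¹) := by group
      rcases hL _ h1 h2 with h | h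
      · exact absurd (conj_eq_one_iff.mp h) hz1
      · exact mul_inv_eq_iff_eq_mul.mp h
    have : (⊤ : Subgroup G) ≤ N := by
      rw [← hfr]
      exact sup_le hnormP le_rfl
    exact top_le_iff.mp this
  have hN3 : ∀ N : Subgroup G, N.Normal → z ∉ N → ∀ n ∈ N, n ∈ Q → n = 1 := by
    intro N hN hzN n hn hnQ
    by_contra hn1
    by_cases hc : ∀ b ∈ Q, n * b = b * n
    · rcases hA3 n hnQ hc with h | h
      · exact hn1 h
      · exact hzN (h ▸ hn)
    · push_neg at hc
      obtain ⟨b, hb, hnb⟩ := hc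
      rcases hA2 n hnQ b hb with h | h
      · apply hnb
        calc n * b = (n * b * n⁻¹ * b⁻¹) * (b * n) := by group
          _ = b * n := by rw [h, one_mul]
      · apply hzN
        rw [← h]
        have : n * b * n⁻¹ * b⁻¹ = n * (b * n⁻¹ * b⁻¹) := by group
        rw [this]
        exact N.mul_mem hn (hN.conj_mem _ (N.inv_mem hn) b)
  refine ⟨?_, hlarge⟩
  refine { toNontrivial := ⟨⟨z, 1, hz1⟩⟩, eq_bot_or_eq_top_of_normal := ?_ }
  intro N hN
  by_cases hzN : z ∈ N
  · right; exact hN2 N hN hzN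
  · left
    have hNH : ∀ n ∈ N, n * z = z * n → n = 1 := by
      intro n hn hnz
      apply hN3 N hN hzN n hn
      apply hcent n hnz
      intro q hq
      have hc : n * q * n⁻¹ * q⁻¹ = 1 := by
        apply hN3 N hN hzN
        · have : n * q * n⁻¹ * q⁻¹ = n * (q * n⁻¹ * q⁻¹) := by group
          rw [this]
          exact N.mul_mem hn (hN.conj_mem _ (N.inv_mem hn) q)
        · exact Q.mul_mem (hnorm n hnz q hq) (Q.inv_mem hq)
      calc n * q = (n * q * n⁻¹ * q⁻¹) * (q * n) := by group
        _ = q * n := by rw [hc, one_mul]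
    have hinv : ∀ n ∈ N, z * n * z = n⁻¹ := by
      let φ : N → N := fun n => ⟨(n : G)⁻¹ * (z * n * z), by
        have h1 : z * (n : G) * z = z * n * z⁻¹ := by rw [hzinv]
        rw [h1]
        exact N.mul_mem (N.inv_mem n.2) (hN.conj_mem _ n.2 z)⟩
      have hφ : Function.Injective φ := by
        intro n m h
        have h1 : (n : G)⁻¹ * (z * n * z) = (m : G)⁻¹ * (z * m * z) := congrArg Subtype.val h
        have h2 : ((m : G) * (n : G)⁻¹) * z = z * ((m : G) * (n : G)⁻¹) := by
          have h3 : (n : G)⁻¹ * z * n = (m : G)⁻¹ * z * m := by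
            have := congrArg (fun t => t * z⁻¹) h1
            simpa [mul_assoc] using this
          calc ((m : G) * (n : G)⁻¹) * z = m * ((n : G)⁻¹ * z * n) * (n : G)⁻¹ := by group
            _ = m * ((m : G)⁻¹ * z * m) * (n : G)⁻¹ := by rw [h3]
            _ = z * ((m : G) * (n : G)⁻¹) := by group
        have h4 := hNH _ (N.mul_mem m.2 (N.inv_mem n.2)) h2
        apply Subtype.ext
        have : (m : G) = n := by
          calc (m : G) = (m * (n : G)⁻¹) * n := by group
            _ = n := by rw [h4, one_mul]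
        exact this.symm
      have hsurj : Function.Surjective φ := Finite.surjective_of_injective hφ
      intro n hn
      obtain ⟨m, hm⟩ := hsurj ⟨n, hn⟩
      have h1 : n = (m : G)⁻¹ * (z * m * z) := (congrArg Subtype.val hm).symm
      rw [h1]
      calc z * ((m : G)⁻¹ * (z * m * z)) * z = z * (m : G)⁻¹ * z * m * (z * z) := by group
        _ = z * (m : G)⁻¹ * z * m := by rw [hz2, mul_one]
        _ = z⁻¹ * (m : G)⁻¹ * z⁻¹ * m := by rw [hzinv]
        _ = ((m : G)⁻¹ * (z * m * z))⁻¹ := by group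
    have hodd : Odd (Nat.card N) := by
      by_contra hev
      rw [Nat.not_odd_iff_even] at hev
      obtain ⟨t, ht⟩ := exists_prime_orderOf_dvd_card' 2 hev.two_dvd
      have ht2 : (t : G) * (t : G) = 1 := by
        have := pow_orderOf_eq_one t
        rw [ht, pow_two] at this
        exact congrArg Subtype.val this
      have ht1 : (t : G) ≠ 1 := by
        intro h
        have : t = 1 := Subtype.ext h
        rw [this, orderOf_one] at ht; omega
      have h1 := hinv _ t.2
      have htinv : (t : G)⁻¹ = t := inv_eq_of_mul_eq_one_left ht2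
      rw [htinv] at h1
      apply ht1
      apply hNH _ t.2
      calc (t : G) * z = (z * t * z) * z := by rw [h1]
        _ = z * t * (z * z) := by group
        _ = z * t := by rw [hz2, mul_one]
    exact hlarge.2.2.2 N hodd (fun q _ => by
      rw [Subgroup.mem_normalizer_iff]
      intro h
      constructor
      · intro hh; exact hN.conj_mem h hh q
      · intro hh
        have := hN.conj_mem _ hh q⁻¹
        have e : q⁻¹ * (q * h * q⁻¹) * q⁻¹⁻¹ = h := by group
        rwa [e] at this)

end Cfsg.Agent.S5427
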