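import Cfsg.Statements.S5430
import Mathlib
import Cfsg.Agent.S5595
import Cfsg.Agent.S5422
import Cfsg.Agent.S0444
import Cfsg.Agent.Lib.Helper9.Cores
import Cfsg.Agent.Lib.Helper5.LargeEx
import Cfsg.Agent.Lib.Helper5.LargeEx2

set_option autoImplicit false
open Cfsg

namespace Cfsg.Agent.S5430

open Cfsg.Agent.S5595 Cfsg.Agent.Lib.Helper5.LargeEx Cfsg.Agent.S5422

variable {G : Type*} [Group G]

/-- `A` normalises `C_A(x)` and maps `C_B(z)` into `C_B(z) C_A(x)`. -/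
theorem norm_half (A B : Subgroup G) (z x : G) (hGA : Good A z) (hxA : x ∈ A)
    (hBx : ∀ b ∈ B, b * x = x * b)
    (hNA : ∀ c : G, c * z = z * c → ∀ a ∈ A, c * a * c⁻¹ ∈ A) :
    (∀ a ∈ A, ∀ p ∈ A ⊓ Subgroup.centralizer ({x} : Set G),
        a * p * a⁻¹ ∈ A ⊓ Subgroup.centralizer ({x} : Set G)) ∧
      (∀ a ∈ A, ∀ r ∈ B ⊓ Subgroup.centralizer ({z} : Set G),
        a * r * a⁻¹ ∈ (B ⊓ Subgroup.centralizer ({z} : Set G)) ⊔
          (A ⊓ Subgroup.centralizer ({x} : Set G))) := by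
  obtain ⟨hz1, hz2, hzA, hAz, hA2, hA3, hAsq⟩ := hGA
  -- a⁻¹ x a is x or z x
  have hax : ∀ a ∈ A, a⁻¹ * x * a = x ∨ a⁻¹ * x * a = z * x := by
    intro a ha
    rcases hA2 a⁻¹ (A.inv_mem ha) x hxA with h | h
    · left
      have := mul_inv_eq_one.mp h
      rwa [inv_inv] at this
    · right
      have := mul_inv_eq_iff_eq_mul.mp h
      rwa [inv_inv] at this
  have hcomm : ∀ a ∈ A, ∀ s : G, s * x = x * s → s * z = z * s →
      (a * s * a⁻¹) * x = x * (a * s * a⁻¹) := by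
    intro a ha s hsx hsz
    have h1 : s * (a⁻¹ * x * a) = (a⁻¹ * x * a) * s := by
      rcases hax a ha with h | h
      · rw [h]; exact hsx
      · rw [h, ← mul_assoc, hsz, mul_assoc, hsx, mul_assoc]
    calc (a * s * a⁻¹) * x = a * (s * (a⁻¹ * x * a)) * a⁻¹ := by group
      _ = a * ((a⁻¹ * x * a) * s) * a⁻¹ := by rw [h1]
      _ = x * (a * s * a⁻¹) := by group
  constructor
  · intro a ha p hp
    obtain ⟨hpA, hpx⟩ := hp
    have hpx' : p * x = x * p := Subgroup.mem_centralizer_singleton_iff.mp hpx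
    exact ⟨A.mul_mem (A.mul_mem ha hpA) (A.inv_mem ha),
      Subgroup.mem_centralizer_singleton_iff.mpr (hcomm a ha p hpx' (hAz p hpA))⟩
  · intro a ha r hr
    obtain ⟨hrB, hrz⟩ := hr
    have hrz' : r * z = z * r := Subgroup.mem_centralizer_singleton_iff.mp hrz
    have hrx : r * x = x * r := hBx r hrB
    have h1 := hcomm a ha r hrx hrz'
    have hqA : a * r * a⁻¹ * r⁻¹ ∈ A := by
      have : a * r * a⁻¹ * r⁻¹ = a * (r * a⁻¹ * r⁻¹) := by group
      rw [this]; exact A.mul_mem ha (hNA r hrz' a⁻¹ (A.inv_mem ha))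
    have hqx : (a * r * a⁻¹ * r⁻¹) * x = x * (a * r * a⁻¹ * r⁻¹) := by
      have h2 : r⁻¹ * x = x * r⁻¹ := (Commute.inv_left (show Commute r x from hrx)).eq
      rw [mul_assoc, h2, ← mul_assoc, h1, mul_assoc]
    have : a * r * a⁻¹ = (a * r * a⁻¹ * r⁻¹) * r := by group
    rw [this]
    exact Subgroup.mul_mem _
      ((le_sup_right : A ⊓ Subgroup.centralizer ({x} : Set G) ≤ _)
        ⟨hqA, Subgroup.mem_centralizer_singleton_iff.mpr hqx⟩)
      ((le_sup_left : B ⊓ Subgroup.centralizer ({z} : Set G) ≤ _) ⟨hrB, hrz⟩)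

theorem conj_facts (v z x : G) (hz2 : z * z = 1) (hvz : v * z * v⁻¹ = z)
    (hvx : v * x * v⁻¹ = x * z) :
    v⁻¹ * z * v = z ∧ v⁻¹ * x * v = x * z ∧ v * (x * z) * v⁻¹ = x ∧ v⁻¹ * (x * z) * v = x := by
  have h1 : v⁻¹ * z * v = z := by
    have : v⁻¹ * (v * z * v⁻¹) * v = z := by group
    rwa [hvz] at this
  have h4 : v⁻¹ * (x * z) * v = x := by
    have : v⁻¹ * (v * x * v⁻¹) * v = x := by group
    rwa [hvx] at this
  have h3 : v * (x * z) * v⁻¹ = x := by
    rw [conj_prod, hvx, hvz, mul_assoc, hz2, mul_one]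
  refine ⟨h1, ?_, h3, h4⟩
  have h5 : v⁻¹ * (x * z) * v = (v⁻¹ * x * v) * (v⁻¹ * z * v) := by group
  rw [h4, h1] at h5
  have h6 := eq_mul_inv_of_mul_eq h5.symm
  rw [h6, inv_eq_of_mul_eq_one_right hz2]

theorem conj_comm_x (A : Subgroup G) (z x : G) (hGA : Good A z) (hxA : x ∈ A) (a : G) (ha : a ∈ A)
    (s : G) (hsx : s * x = x * s) (hsz : s * z = z * s) :
    (a * s * a⁻¹) * x = x * (a * s * a⁻¹) := by
  obtain ⟨hz1, hz2, hzA, hAz, hA2, hA3, hAsq⟩ := hGA
  have hax : a⁻¹ * x * a = x ∨ a⁻¹ * x * a = z * x := by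
    rcases hA2 a⁻¹ (A.inv_mem ha) x hxA with h | h
    · left
      have := mul_inv_eq_one.mp h
      rwa [inv_inv] at this
    · right
      have := mul_inv_eq_iff_eq_mul.mp h
      rwa [inv_inv] at this
  have h1 : s * (a⁻¹ * x * a) = (a⁻¹ * x * a) * s := by
    rcases hax with h | h
    · rw [h]; exact hsx
    · rw [h, ← mul_assoc, hsz, mul_assoc, hsx, mul_assoc]
  calc (a * s * a⁻¹) * x = a * (s * (a⁻¹ * x * a)) * a⁻¹ := by group
    _ = a * ((a⁻¹ * x * a) * s) * a⁻¹ := by rw [h1]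
    _ = x * (a * s * a⁻¹) := by group

set_option maxRecDepth 100000 in
theorem s3_normal_two (M : Subgroup (Equiv.Perm (Fin 3))) (hM : M.Normal) (h2 : IsPGroup 2 ↥M) :
    M = ⊥ := by
  have hdich : ∀ σ : Equiv.Perm (Fin 3), σ ^ 2 = 1 ∨ σ ^ 3 = 1 := by decide
  have hkey : ∀ σ : Equiv.Perm (Fin 3), σ ^ 2 = 1 →
      (∀ τ : Equiv.Perm (Fin 3), (τ * σ * τ⁻¹ * σ) ^ 2 = 1) → σ = 1 := by decide
  have hsq : ∀ m ∈ M, m ^ 2 = 1 := by
    intro m hm
    obtain ⟨k, hk⟩ := h2 ⟨m, hm⟩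
    have hk' : m ^ 2 ^ k = 1 := by
      have := congrArg (fun t : ↥M => (t : Equiv.Perm (Fin 3))) hk
      simpa using this
    rcases hdich m with h | h
    · exact h
    · have hg : m ^ Nat.gcd (2 ^ k) 3 = 1 := pow_gcd_eq_one.mpr ⟨hk', h⟩
      have hcop : Nat.gcd (2 ^ k) 3 = 1 := Nat.Coprime.pow_left k (by decide)
      rw [hcop, pow_one] at hg
      rw [hg, one_pow]
  rw [eq_bot_iff]
  intro σ hσ
  rw [Subgroup.mem_bot]
  apply hkey σ (hsq σ hσ)
  intro τ
  exact hsq _ (M.mul_mem (hM.conj_mem σ hσ τ) hσ)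

theorem pair_S3 [Finite G] (A B : Subgroup G) (z x : G) (hGA : Good A z) (hGB : Good B x)
    (hxA : x ∈ A) (hzB : z ∈ B) (hxnz : x ≠ z)
    (hNA : ∀ c : G, c * z = z * c → ∀ a ∈ A, c * a * c⁻¹ ∈ A)
    (hNB : ∀ c : G, c * x = x * c → ∀ b ∈ B, c * b * c⁻¹ ∈ B)
    (hT : ∀ h : G, h * z * h⁻¹ = x → ∀ a ∈ A, h * a * h⁻¹ ∈ B)
    (hA2g : IsPGroup 2 ↥A) (hB2g : IsPGroup 2 ↥B)
    (V X R : Subgroup G) (hV : V = Subgroup.closure ({z, x} : Set G)) (hX : X = A ⊔ B)
    (hR : R = (B ⊓ Subgroup.centralizer ({z} : Set G)) ⊔ (A ⊓ Subgroup.centralizer ({x} : Set G))) :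
    R = X ⊓ Subgroup.centralizer (V : Set G) ∧ R = (Cfsg.pCore 2 ↥X).map X.subtype ∧
    (∃ _ : (R.subgroupOf X).Normal, Nonempty (↥X ⧸ R.subgroupOf X ≃* Equiv.Perm (Fin 3))) ∧
    Subgroup.normalizer (V : Set G)
      = X ⊔ (Subgroup.centralizer ({z} : Set G) ⊓ Subgroup.centralizer (V : Set G)) ∧
    (∀ y ∈ Subgroup.normalizer (V : Set G), ∀ x ∈ X, y * x * y⁻¹ ∈ X) ∧
    R ≤ Subgroup.centralizer ({z} : Set G) ⊓ Subgroup.centralizer (V : Set G) ∧
    (∀ x ∈ X, ∀ c ∈ Subgroup.centralizer ({z} : Set G) ⊓ Subgroup.centralizer (V : Set G),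
      x * c * x⁻¹ * c⁻¹ ∈ R) ∧
    X ⊓ (Subgroup.centralizer ({z} : Set G) ⊓ Subgroup.centralizer (V : Set G)) = R := by
  classical
  obtain ⟨hz1, hz2, hzA, hAz, hA2, hA3, hAsq⟩ := id hGA
  obtain ⟨hx1, hx2, hxB, hBx, hB2, hB3, hBsq⟩ := id hGB
  have hxz : x * z = z * x := hAz x hxA
  have hne1 : x * z ≠ x := fun h => hz1 (by simpa using h)
  have hne2 : x * z ≠ z := fun h => hx1 (by simpa using h)
  -- V elementwise
  have hVmem : ∀ t, t ∈ V ↔ t = 1 ∨ t = z ∨ t = x ∨ t = x * z := by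
    intro t
    have : V = Subgroup.zpowers z ⊔ Subgroup.zpowers x := by
      rw [hV, Subgroup.zpowers_eq_closure, Subgroup.zpowers_eq_closure, ← Subgroup.closure_union]
      rfl
    rw [this]
    exact four_mem _ _ z x hz2 hx2 hxz (fun t => mem_zpowers_two hz2)
      (fun t => mem_zpowers_two hx2) t
  have hzV : z ∈ V := (hVmem z).mpr (Or.inr (Or.inl rfl))
  have hxV : x ∈ V := (hVmem x).mpr (Or.inr (Or.inr (Or.inl rfl)))
  have hxzV : x * z ∈ V := (hVmem _).mpr (Or.inr (Or.inr (Or.inr rfl)))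
  have hCV : ∀ c, c ∈ Subgroup.centralizer (V : Set G) ↔ c * z = z * c ∧ c * x = x * c := by
    intro c; rw [Subgroup.mem_centralizer_iff]
    constructor
    · intro h; exact ⟨(h z hzV).symm, (h x hxV).symm⟩
    · rintro ⟨h1, h2⟩ t ht
      rcases (hVmem t).mp ht with h | h | h | h
      · rw [h, one_mul, mul_one]
      · rw [h]; exact h1.symm
      · rw [h]; exact h2.symm
      · rw [h, mul_assoc, ← h1, ← mul_assoc, ← h2, mul_assoc]
  have hCzV : ∀ c, c ∈ Subgroup.centralizer ({z} : Set G) ⊓ Subgroup.centralizer (V : Set G)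
      ↔ c * z = z * c ∧ c * x = x * c := by
    intro c
    rw [Subgroup.mem_inf, hCV, Subgroup.mem_centralizer_singleton_iff]
    exact ⟨fun h => h.2, fun h => ⟨h.1, h⟩⟩
  -- P and R'
  have hR0 := hR
  obtain ⟨P, hPdef⟩ : ∃ P, P = A ⊓ Subgroup.centralizer ({x} : Set G) := ⟨_, rfl⟩
  obtain ⟨R', hR'def⟩ : ∃ R', R' = B ⊓ Subgroup.centralizer ({z} : Set G) := ⟨_, rfl⟩
  rw [← hPdef, ← hR'def] at hR
  have hPmem : ∀ p, p ∈ P ↔ p ∈ A ∧ p * x = x * p := by
    intro p; rw [hPdef, Subgroup.mem_inf, Subgroup.mem_centralizer_singleton_iff]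
  have hR'mem : ∀ r, r ∈ R' ↔ r ∈ B ∧ r * z = z * r := by
    intro r; rw [hR'def, Subgroup.mem_inf, Subgroup.mem_centralizer_singleton_iff]
  have hPR : P ≤ R := hR ▸ le_sup_right
  have hR'R : R' ≤ R := hR ▸ le_sup_left
  have hAX : A ≤ X := hX ▸ le_sup_left
  have hBX : B ≤ X := hX ▸ le_sup_right
  have hRX : R ≤ X := by
    rw [hR]
    exact sup_le (fun r hr => hBX ((hR'mem r).mp hr).1) (fun p hp => hAX ((hPmem p).mp hp).1)
  have hRz : ∀ r ∈ R, r * z = z * r ∧ r * x = x * r := by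
    have hle : R ≤ Subgroup.centralizer ({z} : Set G) ⊓ Subgroup.centralizer (V : Set G) := by
      rw [hR]
      apply sup_le
      · intro r hr
        exact (hCzV r).mpr ⟨((hR'mem r).mp hr).2, hBx r ((hR'mem r).mp hr).1⟩
      · intro p hp
        exact (hCzV p).mpr ⟨hAz p ((hPmem p).mp hp).1, ((hPmem p).mp hp).2⟩
    intro r hr
    exact (hCzV r).mp (hle hr)
  have hzP : z ∈ P := (hPmem z).mpr ⟨hzA, hxz.symm⟩
  have hxP : x ∈ P := (hPmem x).mpr ⟨hxA, rfl⟩
  -- normality of R in X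
  have hn1 := norm_half A B z x hGA hxA hBx hNA
  have hn2 := norm_half B A x z hGB hzB hAz hNB
  rw [← hPdef, ← hR'def, ← hR] at hn1
  rw [← hPdef, ← hR'def, sup_comm, ← hR] at hn2
  have hgenR : ∀ a, (a ∈ A ∨ a ∈ B) → ∀ r ∈ R, a * r * a⁻¹ ∈ R := by
    intro a ha
    have hle' : R' ⊔ P ≤ R.comap (MulAut.conj a).toMonoidHom := by
      apply sup_le
      · intro r hr
        rw [Subgroup.mem_comap]
        simp only [MulEquiv.toMonoidHom_eq_coe, MonoidHom.coe_coe, MulAut.conj_apply]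
        rcases ha with ha | ha
        · exact hn1.2 a ha r hr
        · exact hR'R (hn2.1 a ha r hr)
      · intro r hr
        rw [Subgroup.mem_comap]
        simp only [MulEquiv.toMonoidHom_eq_coe, MonoidHom.coe_coe, MulAut.conj_apply]
        rcases ha with ha | ha
        · exact hPR (hn1.1 a ha r hr)
        · exact hn2.2 a ha r hr
    intro r hr
    have := hle' (hR ▸ hr)
    rw [Subgroup.mem_comap] at this
    simpa only [MulEquiv.toMonoidHom_eq_coe, MonoidHom.coe_coe, MulAut.conj_apply] using this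
  have hXR : ∀ y ∈ X, ∀ r ∈ R, y * r * y⁻¹ ∈ R := by
    have hle : X ≤ stabSub R := by
      rw [hX]
      apply sup_le
      · intro a ha r hr
        refine ⟨hgenR a (Or.inl ha) r hr, ?_⟩
        have := hgenR a⁻¹ (Or.inl (A.inv_mem ha)) r hr
        rwa [inv_inv] at this
      · intro a ha r hr
        refine ⟨hgenR a (Or.inr ha) r hr, ?_⟩
        have := hgenR a⁻¹ (Or.inr (B.inv_mem ha)) r hr
        rwa [inv_inv] at this
    intro y hy r hr
    exact ((hle hy) r hr).1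
  -- the elements v, v'
  obtain ⟨v, hvA, hvx⟩ := exists_v A z x hxz hx1 hxnz hxA hA2 hA3
  have hvz : v * z * v⁻¹ = z := by rw [hAz v hvA, mul_inv_cancel_right]
  obtain ⟨v', hv'B, hv'z0⟩ := exists_v B x z hxz.symm hz1 (Ne.symm hxnz) hzB hB2 hB3
  have hv'z : v' * z * v'⁻¹ = x * z := by rw [hv'z0, hxz]
  have hv'x : v' * x * v'⁻¹ = x := by rw [hBx v' hv'B, mul_inv_cancel_right]
  obtain ⟨hvz', hvx', hvxz, hvxz'⟩ := conj_facts v z x hz2 hvz hvx
  obtain ⟨hv'x', hv'z0', hv'zx, hv'zx'⟩ := conj_facts v' x z hx2 hv'x hv'z0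
  have hv'z' : v'⁻¹ * z * v' = x * z := by rw [hv'z0', hxz]
  have hv'xz : v' * (x * z) * v'⁻¹ = z := by rw [hxz]; exact hv'zx
  have hv'xz' : v'⁻¹ * (x * z) * v' = z := by rw [hxz]; exact hv'zx'
  have hvX : v ∈ X := hAX hvA
  have hv'X : v' ∈ X := hBX hv'B
  have hvvR : v * v ∈ R := by
    rcases hAsq v hvA with h | h
    · rw [h]; exact R.one_mem
    · rw [h]; exact hPR hzP
  have hv'v'R : v' * v' ∈ R := by
    rcases hBsq v' hv'B with h | h
    · rw [h]; exact R.one_mem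
    · rw [h]; exact hPR hxP
  -- braid relation modulo R
  have hβ : (v * v' * v)⁻¹ * (v' * v * v') ∈ R := by
    have hh : (v⁻¹ * v') * z * (v⁻¹ * v')⁻¹ = x := by
      calc (v⁻¹ * v') * z * (v⁻¹ * v')⁻¹ = v⁻¹ * (v' * z * v'⁻¹) * v := by group
        _ = x := by rw [hv'z, hvxz']
    have h1 : (v⁻¹ * v') * v * (v⁻¹ * v')⁻¹ ∈ B := hT _ hh v hvA
    have h2 : v'⁻¹ * ((v⁻¹ * v') * v * (v⁻¹ * v')⁻¹) ∈ B := B.mul_mem (B.inv_mem hv'B) h1
    have h3 : (v'⁻¹ * ((v⁻¹ * v') * v * (v⁻¹ * v')⁻¹)) * z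
        = z * (v'⁻¹ * ((v⁻¹ * v') * v * (v⁻¹ * v')⁻¹)) := by
      have : (v'⁻¹ * ((v⁻¹ * v') * v * (v⁻¹ * v')⁻¹)) * z
          * (v'⁻¹ * ((v⁻¹ * v') * v * (v⁻¹ * v')⁻¹))⁻¹ = z := by
        calc (v'⁻¹ * ((v⁻¹ * v') * v * (v⁻¹ * v')⁻¹)) * z
              * (v'⁻¹ * ((v⁻¹ * v') * v * (v⁻¹ * v')⁻¹))⁻¹
            = v'⁻¹ * (v⁻¹ * (v' * (v * (v'⁻¹ * (v * z * v⁻¹) * v') * v⁻¹) * v'⁻¹) * v) * v' := by
              group
          _ = z := by rw [hvz, hv'z', hvxz, hv'x, hvx', hv'xz']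
      exact mul_inv_eq_iff_eq_mul.mp this
    have h4 : v'⁻¹ * ((v⁻¹ * v') * v * (v⁻¹ * v')⁻¹) ∈ R := hR'R ((hR'mem _).mpr ⟨h2, h3⟩)
    have h5 := hXR v hvX _ h4
    have h6 : (v * v' * v)⁻¹ * (v' * v * v')
        = (v * v)⁻¹ * (v * (v'⁻¹ * ((v⁻¹ * v') * v * (v⁻¹ * v')⁻¹)) * v⁻¹) * (v' * v') := by group
    rw [h6]
    exact R.mul_mem (R.mul_mem (R.inv_mem hvvR) h5) hv'v'R
  -- the quotient
  have hNn : (R.subgroupOf X).Normal := by
    refine ⟨fun n hn c => ?_⟩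
    rw [Subgroup.mem_subgroupOf] at hn ⊢
    exact hXR (c : G) c.2 (n : G) hn
  have hmk1 : ∀ k : ↥X, (QuotientGroup.mk k : ↥X ⧸ R.subgroupOf X) = 1 ↔ (k : G) ∈ R := by
    intro k; rw [QuotientGroup.eq_one_iff, Subgroup.mem_subgroupOf]
  have hmkeq : ∀ k k' : ↥X, (QuotientGroup.mk k : ↥X ⧸ R.subgroupOf X) = QuotientGroup.mk k'
      ↔ (k : G)⁻¹ * (k' : G) ∈ R := by
    intro k k'; rw [QuotientGroup.eq, Subgroup.mem_subgroupOf]; rfl
  obtain ⟨d, hddef⟩ : ∃ d : ↥X ⧸ R.subgroupOf X, d = QuotientGroup.mk ⟨v, hvX⟩ := ⟨_, rfl⟩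
  obtain ⟨e, hedef⟩ : ∃ e : ↥X ⧸ R.subgroupOf X, e = QuotientGroup.mk ⟨v', hv'X⟩ := ⟨_, rfl⟩
  have hd2 : d * d = 1 := by
    rw [hddef]
    show (QuotientGroup.mk ((⟨v, hvX⟩ : ↥X) * ⟨v, hvX⟩) : ↥X ⧸ R.subgroupOf X) = 1
    rw [hmk1]; exact hvvR
  have he2 : e * e = 1 := by
    rw [hedef]
    show (QuotientGroup.mk ((⟨v', hv'X⟩ : ↥X) * ⟨v', hv'X⟩) : ↥X ⧸ R.subgroupOf X) = 1
    rw [hmk1]; exact hv'v'R
  have hede : e * d * e = d * e * d := by
    rw [hddef, hedef]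
    show (QuotientGroup.mk ((⟨v', hv'X⟩ : ↥X) * ⟨v, hvX⟩ * ⟨v', hv'X⟩) : ↥X ⧸ R.subgroupOf X)
      = QuotientGroup.mk ((⟨v, hvX⟩ : ↥X) * ⟨v', hv'X⟩ * ⟨v, hvX⟩)
    rw [hmkeq]
    have := R.inv_mem hβ
    have e1 : ((v * v' * v)⁻¹ * (v' * v * v'))⁻¹ = (v' * v * v')⁻¹ * (v * v' * v) := by group
    rw [e1] at this
    exact this
  have hnc : ¬ Commute d e := by
    intro hc
    have h1 : d * e = e * d := hc
    rw [hddef, hedef] at h1
    have h2 : (QuotientGroup.mk ((⟨v, hvX⟩ : ↥X) * ⟨v', hv'X⟩) : ↥X ⧸ R.subgroupOf X)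
        = QuotientGroup.mk ((⟨v', hv'X⟩ : ↥X) * ⟨v, hvX⟩) := h1
    rw [hmkeq] at h2
    have h2' : (v * v')⁻¹ * (v' * v) ∈ R := h2
    have h3 := (hRz _ h2').1
    have h4 : ((v * v')⁻¹ * (v' * v)) * z * ((v * v')⁻¹ * (v' * v))⁻¹ = x := by
      calc ((v * v')⁻¹ * (v' * v)) * z * ((v * v')⁻¹ * (v' * v))⁻¹
          = v'⁻¹ * (v⁻¹ * (v' * (v * z * v⁻¹) * v'⁻¹) * v) * v' := by group
        _ = x := by rw [hvz, hv'z, hvxz', hv'x']
    rw [h3, mul_inv_cancel_right] at h4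
    exact hxnz h4.symm
  obtain ⟨f, hfdef⟩ : ∃ f : Equiv.Perm (Fin 3) →* ↥X ⧸ R.subgroupOf X,
    f = Cfsg.Agent.S0444.hom d e hd2 he2 hede := ⟨_, rfl⟩
  have hinj : Function.Injective f := by
    rw [injective_iff_map_eq_one]
    intro σ hσ
    rw [hfdef] at hσ
    exact Cfsg.Agent.S0444.toFun_eq_one d e hnc σ hσ
  have hf1 : f (Equiv.swap 0 1) = d := by
    rw [hfdef]
    simp (config := {decide := true}) [Cfsg.Agent.S0444.hom, Cfsg.Agent.S0444.toFun]
  have hf2 : f (Equiv.swap 1 2) = e := by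
    rw [hfdef]
    simp (config := {decide := true}) [Cfsg.Agent.S0444.hom, Cfsg.Agent.S0444.toFun]
  have hXc : X = Subgroup.closure ((A : Set G) ∪ (B : Set G)) := by
    rw [Subgroup.closure_union, Subgroup.closure_eq, Subgroup.closure_eq, hX]
  have hsurj : Function.Surjective f := by
    intro q
    obtain ⟨k, rfl⟩ := QuotientGroup.mk_surjective q
    have key : ∀ k' (_ : k' ∈ Subgroup.closure ((A : Set G) ∪ (B : Set G))), ∀ hk' : k' ∈ X,
        (QuotientGroup.mk ⟨k', hk'⟩ : ↥X ⧸ R.subgroupOf X) ∈ f.range := by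
      intro k' hk''
      induction hk'' using Subgroup.closure_induction with
      | mem t ht =>
        intro htX
        rcases ht with ht | ht
        · by_cases htx : t * x = x * t
          · have : (QuotientGroup.mk ⟨t, htX⟩ : ↥X ⧸ R.subgroupOf X) = 1 :=
              (hmk1 _).mpr (hPR ((hPmem t).mpr ⟨ht, htx⟩))
            rw [this]; exact one_mem _
          · have h1 : t * x * t⁻¹ = x * z := by
              rcases hA2 t ht x hxA with h | h
              · exact absurd (comm_of_eq_one h) htx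
              · rw [mul_inv_eq_iff_eq_mul.mp h, hxz]
            have hp : (v⁻¹ * t) * x = x * (v⁻¹ * t) := by
              have : (v⁻¹ * t) * x * (v⁻¹ * t)⁻¹ = x := by
                calc (v⁻¹ * t) * x * (v⁻¹ * t)⁻¹ = v⁻¹ * (t * x * t⁻¹) * v := by group
                  _ = x := by rw [h1, hvxz']
              exact mul_inv_eq_iff_eq_mul.mp this
            have : d = (QuotientGroup.mk ⟨t, htX⟩ : ↥X ⧸ R.subgroupOf X) := by
              rw [hddef, hmkeq]
              exact hPR ((hPmem _).mpr ⟨A.mul_mem (A.inv_mem hvA) ht, hp⟩)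
            rw [← this, ← hf1]; exact ⟨_, rfl⟩
        · by_cases htz : t * z = z * t
          · have : (QuotientGroup.mk ⟨t, htX⟩ : ↥X ⧸ R.subgroupOf X) = 1 :=
              (hmk1 _).mpr (hR'R ((hR'mem t).mpr ⟨ht, htz⟩))
            rw [this]; exact one_mem _
          · have h1 : t * z * t⁻¹ = x * z := by
              rcases hB2 t ht z hzB with h | h
              · exact absurd (comm_of_eq_one h) htz
              · exact mul_inv_eq_iff_eq_mul.mp h
            have hp : (v'⁻¹ * t) * z = z * (v'⁻¹ * t) := by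
              have : (v'⁻¹ * t) * z * (v'⁻¹ * t)⁻¹ = z := by
                calc (v'⁻¹ * t) * z * (v'⁻¹ * t)⁻¹ = v'⁻¹ * (t * z * t⁻¹) * v' := by group
                  _ = z := by rw [h1, hv'xz']
              exact mul_inv_eq_iff_eq_mul.mp this
            have : e = (QuotientGroup.mk ⟨t, htX⟩ : ↥X ⧸ R.subgroupOf X) := by
              rw [hedef, hmkeq]
              exact hR'R ((hR'mem _).mpr ⟨B.mul_mem (B.inv_mem hv'B) ht, hp⟩)
            rw [← this, ← hf2]; exact ⟨_, rfl⟩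
      | one =>
        intro h1X
        have : (QuotientGroup.mk ⟨1, h1X⟩ : ↥X ⧸ R.subgroupOf X) = 1 := (hmk1 _).mpr R.one_mem
        rw [this]; exact one_mem _
      | mul a b ha hb iha ihb =>
        intro habX
        have haX : a ∈ X := hXc ▸ ha
        have hbX : b ∈ X := hXc ▸ hb
        have : (QuotientGroup.mk ⟨a * b, habX⟩ : ↥X ⧸ R.subgroupOf X)
            = QuotientGroup.mk ⟨a, haX⟩ * QuotientGroup.mk ⟨b, hbX⟩ := rfl
        rw [this]; exact mul_mem (iha haX) (ihb hbX)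
      | inv a ha iha =>
        intro haiX
        have haX : a ∈ X := hXc ▸ ha
        have : (QuotientGroup.mk ⟨a⁻¹, haiX⟩ : ↥X ⧸ R.subgroupOf X)
            = (QuotientGroup.mk ⟨a, haX⟩)⁻¹ := rfl
        rw [this]; exact inv_mem (iha haX)
    exact key (k : G) (hXc ▸ k.2) k.2
  -- coset decomposition
  have hdecomp : ∀ k ∈ X, ∃ w ∈ X, (w = 1 ∨ (w * x * w⁻¹ ≠ x ∨ w * z * w⁻¹ ≠ z)) ∧
      w⁻¹ * k ∈ R := by
    intro k hk
    obtain ⟨σ, hσ⟩ := hsurj (QuotientGroup.mk ⟨k, hk⟩)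
    rcases Cfsg.Agent.S0444.perm3_cases σ with rfl | rfl | rfl | rfl | rfl | rfl
    · rw [map_one] at hσ
      refine ⟨1, X.one_mem, Or.inl rfl, ?_⟩
      rw [inv_one, one_mul]; exact (hmk1 _).mp hσ.symm
    · rw [hf1, hddef, hmkeq] at hσ
      exact ⟨v, hvX, Or.inr (Or.inl (by rw [hvx]; exact hne1)), hσ⟩
    · rw [hf2, hedef, hmkeq] at hσ
      exact ⟨v', hv'X, Or.inr (Or.inr (by rw [hv'z]; exact hne2)), hσ⟩
    · rw [map_mul, hf1, hf2, hddef, hedef] at hσ
      have hσ' : (QuotientGroup.mk ((⟨v, hvX⟩ : ↥X) * ⟨v', hv'X⟩) : ↥X ⧸ R.subgroupOf X)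
          = QuotientGroup.mk ⟨k, hk⟩ := hσ
      rw [hmkeq] at hσ'
      refine ⟨v * v', X.mul_mem hvX hv'X, Or.inr (Or.inr ?_), hσ'⟩
      rw [conj_mul', hv'z, hvxz]; exact hxnz
    · rw [map_mul, hf1, hf2, hddef, hedef] at hσ
      have hσ' : (QuotientGroup.mk ((⟨v', hv'X⟩ : ↥X) * ⟨v, hvX⟩) : ↥X ⧸ R.subgroupOf X)
          = QuotientGroup.mk ⟨k, hk⟩ := hσ
      rw [hmkeq] at hσ'
      refine ⟨v' * v, X.mul_mem hv'X hvX, Or.inr (Or.inr ?_), hσ'⟩
      rw [conj_mul', hvz, hv'z]; exact hne2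
    · rw [map_mul, map_mul, hf1, hf2, hddef, hedef] at hσ
      have hσ' : (QuotientGroup.mk ((⟨v, hvX⟩ : ↥X) * ⟨v', hv'X⟩ * ⟨v, hvX⟩)
          : ↥X ⧸ R.subgroupOf X) = QuotientGroup.mk ⟨k, hk⟩ := hσ
      rw [hmkeq] at hσ'
      refine ⟨v * v' * v, X.mul_mem (X.mul_mem hvX hv'X) hvX, Or.inr (Or.inr ?_), hσ'⟩
      rw [conj_mul', hvz, conj_mul', hv'z, hvxz]; exact hxnz
  have hXCR : ∀ k ∈ X, k * z = z * k → k * x = x * k → k ∈ R := by
    intro k hk hkz hkx
    obtain ⟨w, hwX, hw, hwk⟩ := hdecomp k hk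
    obtain ⟨hrz, hrx⟩ := hRz _ hwk
    have hweq : w = k * (w⁻¹ * k)⁻¹ := by group
    have hwz : Commute w z := by
      rw [hweq]
      exact (show Commute k z from hkz).mul_left (show Commute (w⁻¹ * k) z from hrz).inv_left
    have hwx : Commute w x := by
      rw [hweq]
      exact (show Commute k x from hkx).mul_left (show Commute (w⁻¹ * k) x from hrx).inv_left
    rcases hw with h | h | h
    · rw [h, inv_one, one_mul] at hwk; exact hwk
    · exact absurd (by rw [hwx.eq, mul_inv_cancel_right]) h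
    · exact absurd (by rw [hwz.eq, mul_inv_cancel_right]) h
  -- claims 1, 6, 8
  have c6 : R ≤ Subgroup.centralizer ({z} : Set G) ⊓ Subgroup.centralizer (V : Set G) :=
    fun r hr => (hCzV r).mpr (hRz r hr)
  have c8 : X ⊓ (Subgroup.centralizer ({z} : Set G) ⊓ Subgroup.centralizer (V : Set G)) = R := by
    apply le_antisymm
    · rintro k ⟨hkX, hkC⟩
      obtain ⟨h1, h2⟩ := (hCzV k).mp hkC
      exact hXCR k hkX h1 h2
    · exact le_inf hRX c6
  have c1 : R = X ⊓ Subgroup.centralizer (V : Set G) := by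
    apply le_antisymm
    · exact le_inf hRX (fun r hr => (hCV r).mpr (hRz r hr))
    · rintro k ⟨hkX, hkC⟩
      obtain ⟨h1, h2⟩ := (hCV k).mp hkC
      exact hXCR k hkX h1 h2
  -- claim 3
  have c3 : ∃ _ : (R.subgroupOf X).Normal,
      Nonempty (↥X ⧸ R.subgroupOf X ≃* Equiv.Perm (Fin 3)) :=
    ⟨hNn, ⟨(MulEquiv.ofBijective f ⟨hinj, hsurj⟩).symm⟩⟩
  -- claim 2
  have hPnorm : ∀ r : G, r * z = z * r → r * x = x * r → ∀ p ∈ P, r * p * r⁻¹ ∈ P := by
    intro r hrz hrx p hp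
    obtain ⟨hpA, hpx⟩ := (hPmem p).mp hp
    refine (hPmem _).mpr ⟨hNA r hrz p hpA, ?_⟩
    have h1 : Commute r x := hrx
    have h2 : Commute p x := hpx
    exact ((h1.mul_left h2).mul_left h1.inv_left).eq
  have hR'norm : ∀ r : G, r * z = z * r → r * x = x * r → ∀ p ∈ R', r * p * r⁻¹ ∈ R' := by
    intro r hrz hrx p hp
    obtain ⟨hpB, hpz⟩ := (hR'mem p).mp hp
    refine (hR'mem _).mpr ⟨hNB r hrx p hpB, ?_⟩
    have h1 : Commute r z := hrz
    have h2 : Commute p z := hpz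
    exact ((h1.mul_left h2).mul_left h1.inv_left).eq
  have hR2 : IsPGroup 2 ↥R := by
    have hP2 : IsPGroup 2 ↥P := by
      rw [hPdef]; exact hA2g.to_le inf_le_left
    have hR'2 : IsPGroup 2 ↥R' := by
      rw [hR'def]; exact hB2g.to_le inf_le_left
    rw [hR]
    apply IsPGroup.to_sup_of_normal_right' hR'2 hP2
    intro r hr
    obtain ⟨hrB, hrz⟩ := (hR'mem r).mp hr
    have hrx := hBx r hrB
    rw [Subgroup.mem_normalizer_iff]
    intro p
    constructor
    · intro hp; exact hPnorm r hrz hrx p hp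
    · intro hp
      have := hPnorm r⁻¹ (Commute.inv_left (show Commute r z from hrz)).eq
        (Commute.inv_left (show Commute r x from hrx)).eq _ hp
      have e1 : r⁻¹ * (r * p * r⁻¹) * r⁻¹⁻¹ = p := by group
      rwa [e1] at this
  have c2 : R = (Cfsg.pCore 2 ↥X).map X.subtype := by
    have hN2 : IsPGroup 2 ↥(R.subgroupOf X) := hR2.comap_of_injective _ (Subgroup.subtype_injective _)
    have h1 : R.subgroupOf X ≤ Cfsg.pCore 2 ↥X := Cfsg.Agent.Lib.Helper9.le_pCore hNn hN2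
    have h2 : Cfsg.pCore 2 ↥X ≤ R.subgroupOf X := by
      haveI := Cfsg.Agent.Lib.Helper9.pCore_characteristic 2 ↥X
      have hOn : (Cfsg.pCore 2 ↥X).Normal := inferInstance
      have hO2 : IsPGroup 2 ↥(Cfsg.pCore 2 ↥X) := Cfsg.Agent.Lib.Helper9.pCore_isPGroup 2 ↥X
      have hsurj' : Function.Surjective
          ((MulEquiv.ofBijective f ⟨hinj, hsurj⟩).symm.toMonoidHom.comp
            (QuotientGroup.mk' (R.subgroupOf X))) :=
        (MulEquiv.ofBijective f ⟨hinj, hsurj⟩).symm.surjective.comp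
          (QuotientGroup.mk'_surjective _)
      have hM := s3_normal_two ((Cfsg.pCore 2 ↥X).map
        ((MulEquiv.ofBijective f ⟨hinj, hsurj⟩).symm.toMonoidHom.comp
          (QuotientGroup.mk' (R.subgroupOf X)))) (hOn.map _ hsurj') (hO2.map _)
      rw [Subgroup.map_eq_bot_iff] at hM
      intro o ho
      have := hM ho
      rw [MonoidHom.mem_ker, MonoidHom.comp_apply] at this
      have h3 : (QuotientGroup.mk' (R.subgroupOf X)) o = 1 := by
        have h4 := congrArg (MulEquiv.ofBijective f ⟨hinj, hsurj⟩) this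
        simpa using h4
      exact (QuotientGroup.eq_one_iff o).mp h3
    have h3 : Cfsg.pCore 2 ↥X = R.subgroupOf X := le_antisymm h2 h1
    rw [h3, Subgroup.subgroupOf_map_subtype, inf_eq_left.mpr hRX]
  -- normalizer decomposition
  have hAV : ∀ s ∈ A, ∀ t ∈ V, s * t * s⁻¹ ∈ V := by
    intro s hs t ht
    have hsz : s * z * s⁻¹ = z := by rw [hAz s hs, mul_inv_cancel_right]
    have hsx : s * x * s⁻¹ ∈ V := by
      rcases hA2 s hs x hxA with h | h
      · rw [mul_inv_eq_one.mp h]; exact hxV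
      · rw [mul_inv_eq_iff_eq_mul.mp h]; exact V.mul_mem hzV hxV
    rcases (hVmem t).mp ht with h | h | h | h
    · rw [h, mul_one, mul_inv_cancel]; exact V.one_mem
    · rw [h, hsz]; exact hzV
    · rw [h]; exact hsx
    · rw [h, conj_prod, hsz]; exact V.mul_mem hsx hzV
  have hBV : ∀ s ∈ B, ∀ t ∈ V, s * t * s⁻¹ ∈ V := by
    intro s hs t ht
    have hsx : s * x * s⁻¹ = x := by rw [hBx s hs, mul_inv_cancel_right]
    have hsz : s * z * s⁻¹ ∈ V := by
      rcases hB2 s hs z hzB with h | h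
      · rw [mul_inv_eq_one.mp h]; exact hzV
      · rw [mul_inv_eq_iff_eq_mul.mp h]; exact V.mul_mem hxV hzV
    rcases (hVmem t).mp ht with h | h | h | h
    · rw [h, mul_one, mul_inv_cancel]; exact V.one_mem
    · rw [h]; exact hsz
    · rw [h, hsx]; exact hxV
    · rw [h, conj_prod, hsx]; exact V.mul_mem hxV hsz
  have hXN : X ≤ Subgroup.normalizer (V : Set G) := by
    have hle : X ≤ stabSub V := by
      rw [hX]
      apply sup_le
      · intro a ha t ht
        refine ⟨hAV a ha t ht, ?_⟩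
        have := hAV a⁻¹ (A.inv_mem ha) t ht
        rwa [inv_inv] at this
      · intro a ha t ht
        refine ⟨hBV a ha t ht, ?_⟩
        have := hBV a⁻¹ (B.inv_mem ha) t ht
        rwa [inv_inv] at this
    intro y hy
    rw [Subgroup.mem_normalizer_iff]
    intro t
    constructor
    · intro ht; exact ((hle hy) t ht).1
    · intro ht
      have := ((hle hy) _ ht).2
      have e1 : y⁻¹ * (y * t * y⁻¹) * y = t := by group
      rwa [e1] at this
  have hNdec : ∀ n ∈ Subgroup.normalizer (V : Set G), ∃ w ∈ X,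
      (w⁻¹ * n) * z = z * (w⁻¹ * n) ∧ (w⁻¹ * n) * x = x * (w⁻¹ * n) := by
    intro n hn
    have hnz : n * z * n⁻¹ ∈ V := (Subgroup.mem_normalizer_iff.mp hn z).mp hzV
    have hnx : n * x * n⁻¹ ∈ V := (Subgroup.mem_normalizer_iff.mp hn x).mp hxV
    have hp1 : n * z * n⁻¹ ≠ 1 := fun h => hz1 (conj_eq_one_iff.mp h)
    have hq1 : n * x * n⁻¹ ≠ 1 := fun h => hx1 (conj_eq_one_iff.mp h)
    have hpq : n * z * n⁻¹ ≠ n * x * n⁻¹ := fun h =>
      hxnz (mul_left_cancel (mul_right_cancel h)).symm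
    have fin : ∀ w ∈ X, w * z * w⁻¹ = n * z * n⁻¹ → w * x * w⁻¹ = n * x * n⁻¹ →
        ∃ w ∈ X, (w⁻¹ * n) * z = z * (w⁻¹ * n) ∧ (w⁻¹ * n) * x = x * (w⁻¹ * n) := by
      intro w hw h1 h2
      refine ⟨w, hw, ?_, ?_⟩
      · have : (w⁻¹ * n) * z * (w⁻¹ * n)⁻¹ = z := by
          calc (w⁻¹ * n) * z * (w⁻¹ * n)⁻¹ = w⁻¹ * (n * z * n⁻¹) * w := by group
            _ = w⁻¹ * (w * z * w⁻¹) * w := by rw [h1]
            _ = z := by group
        exact mul_inv_eq_iff_eq_mul.mp this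
      · have : (w⁻¹ * n) * x * (w⁻¹ * n)⁻¹ = x := by
          calc (w⁻¹ * n) * x * (w⁻¹ * n)⁻¹ = w⁻¹ * (n * x * n⁻¹) * w := by group
            _ = w⁻¹ * (w * x * w⁻¹) * w := by rw [h2]
            _ = x := by group
        exact mul_inv_eq_iff_eq_mul.mp this
    rcases (hVmem _).mp hnz with h | h | h | h <;> rcases (hVmem _).mp hnx with h' | h' | h' | h'
    all_goals first
      | exact absurd h hp1
      | exact absurd h' hq1
      | exact absurd (h.trans h'.symm) hpq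
      | skip
    · -- (z, x)
      exact fin 1 X.one_mem (by rw [h]; simp) (by rw [h']; simp)
    · -- (z, xz)
      exact fin v hvX (by rw [h, hvz]) (by rw [h', hvx])
    · -- (x, z)
      refine fin (v * v' * v) (X.mul_mem (X.mul_mem hvX hv'X) hvX) ?_ ?_
      · rw [h, conj_mul', hvz, conj_mul', hv'z, hvxz]
      · rw [h', conj_mul', hvx, conj_mul', hv'xz, hvz]
    · -- (x, xz)
      refine fin (v * v') (X.mul_mem hvX hv'X) ?_ ?_
      · rw [h, conj_mul', hv'z, hvxz]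
      · rw [h', conj_mul', hv'x, hvx]
    · -- (xz, z)
      refine fin (v' * v) (X.mul_mem hv'X hvX) ?_ ?_
      · rw [h, conj_mul', hvz, hv'z]
      · rw [h', conj_mul', hvx, hv'xz]
    · -- (xz, x)
      exact fin v' hv'X (by rw [h, hv'z]) (by rw [h', hv'x])
  have c4 : Subgroup.normalizer (V : Set G)
      = X ⊔ (Subgroup.centralizer ({z} : Set G) ⊓ Subgroup.centralizer (V : Set G)) := by
    apply le_antisymm
    · intro n hn
      obtain ⟨w, hwX, h1, h2⟩ := hNdec n hn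
      have : n = w * (w⁻¹ * n) := by group
      rw [this]
      exact Subgroup.mul_mem_sup hwX ((hCzV _).mpr ⟨h1, h2⟩)
    · exact sup_le hXN (le_trans inf_le_right (Subgroup.centralizer_le_normalizer _))
  have hcX : ∀ c : G, c * z = z * c → c * x = x * c → ∀ k ∈ X, c * k * c⁻¹ ∈ X := by
    intro c hcz hcx
    have hle' : A ⊔ B ≤ X.comap (MulAut.conj c).toMonoidHom := by
      apply sup_le
      · intro a ha
        rw [Subgroup.mem_comap]
        simp only [MulEquiv.toMonoidHom_eq_coe, MonoidHom.coe_coe, MulAut.conj_apply]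
        exact hAX (hNA c hcz a ha)
      · intro a ha
        rw [Subgroup.mem_comap]
        simp only [MulEquiv.toMonoidHom_eq_coe, MonoidHom.coe_coe, MulAut.conj_apply]
        exact hBX (hNB c hcx a ha)
    intro k hk
    have := hle' (hX ▸ hk)
    rw [Subgroup.mem_comap] at this
    simpa only [MulEquiv.toMonoidHom_eq_coe, MonoidHom.coe_coe, MulAut.conj_apply] using this
  have c5 : ∀ y ∈ Subgroup.normalizer (V : Set G), ∀ k ∈ X, y * k * y⁻¹ ∈ X := by
    intro y hy k hk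
    obtain ⟨w, hwX, h1, h2⟩ := hNdec y hy
    have e1 : y * k * y⁻¹ = w * ((w⁻¹ * y) * k * (w⁻¹ * y)⁻¹) * w⁻¹ := by group
    rw [e1]
    exact X.mul_mem (X.mul_mem hwX (hcX _ h1 h2 k hk)) (X.inv_mem hwX)
  -- claim 7
  have c7 : ∀ k ∈ X, ∀ c ∈ Subgroup.centralizer ({z} : Set G) ⊓ Subgroup.centralizer (V : Set G),
      k * c * k⁻¹ * c⁻¹ ∈ R := by
    intro k hk c hc
    rw [hXc] at hk
    have hcT : c ∈ Subgroup.closure {c : G | c * z = z * c ∧ c * x = x * c} :=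
      Subgroup.subset_closure ((hCzV c).mp hc)
    refine comm_closure R _ {c : G | c * z = z * c ∧ c * x = x * c} ?_ ?_ ?_ ?_ ?_ k hk c hcT
    · rintro s (hs | hs)
      · exact Or.inl (A.inv_mem hs)
      · exact Or.inr (B.inv_mem hs)
    · rintro s ⟨hs1, hs2⟩
      exact ⟨(Commute.inv_left (show Commute s z from hs1)).eq,
        (Commute.inv_left (show Commute s x from hs2)).eq⟩
    · rintro s (hs | hs) r hr
      · exact hXR s (hAX hs) r hr
      · exact hXR s (hBX hs) r hr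
    · rintro s ⟨hs1, hs2⟩ r hr
      have hle' : R' ⊔ P ≤ R.comap (MulAut.conj s).toMonoidHom := by
        apply sup_le
        · intro r hr
          rw [Subgroup.mem_comap]
          simp only [MulEquiv.toMonoidHom_eq_coe, MonoidHom.coe_coe, MulAut.conj_apply]
          exact hR'R (hR'norm s hs1 hs2 r hr)
        · intro r hr
          rw [Subgroup.mem_comap]
          simp only [MulEquiv.toMonoidHom_eq_coe, MonoidHom.coe_coe, MulAut.conj_apply]
          exact hPR (hPnorm s hs1 hs2 r hr)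
      have := hle' (hR ▸ hr)
      rw [Subgroup.mem_comap] at this
      simpa only [MulEquiv.toMonoidHom_eq_coe, MonoidHom.coe_coe, MulAut.conj_apply] using this
    · rintro s (hs | hs) t ⟨ht1, ht2⟩
      · apply hPR
        refine (hPmem _).mpr ⟨?_, ?_⟩
        · have : s * t * s⁻¹ * t⁻¹ = s * (t * s⁻¹ * t⁻¹) := by group
          rw [this]; exact A.mul_mem hs (hNA t ht1 s⁻¹ (A.inv_mem hs))
        · have h1 := conj_comm_x A z x hGA hxA s hs t ht2 ht1
          have h2 : t⁻¹ * x = x * t⁻¹ := (Commute.inv_left (show Commute t x from ht2)).eq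
          rw [mul_assoc, h2, ← mul_assoc, h1, mul_assoc]
      · apply hR'R
        refine (hR'mem _).mpr ⟨?_, ?_⟩
        · have : s * t * s⁻¹ * t⁻¹ = s * (t * s⁻¹ * t⁻¹) := by group
          rw [this]; exact B.mul_mem hs (hNB t ht2 s⁻¹ (B.inv_mem hs))
        · have h1 := conj_comm_x B x z hGB hzB s hs t ht1 ht2
          have h2 : t⁻¹ * z = z * t⁻¹ := (Commute.inv_left (show Commute t z from ht1)).eq
          rw [mul_assoc, h2, ← mul_assoc, h1, mul_assoc]
  exact ⟨c1, c2, c3, c4, c5, c6, c7, c8⟩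

/-- Let Q be a large extraspecial 2-subgroup of the finite group G (extraspecial; centralizer equal to its centre; normal in the centralizer of its centre; normalizing no non-trivial subgroup of odd order) with centre generated by z, an involution, of width w ≥ 2 (order 2^(2w+1)); let g be an element outside the centralizer H of z with g z g⁻¹ in Q; write V for the subgroup generated by z and g z g⁻¹, X for the subgroup generated by Q and g Q g⁻¹, R for the subgroup generated by the centralizer of z in g Q g⁻¹ and the centralizer of g z g⁻¹ in Q, and E for the intersection of Q and g Q g⁻¹. Then R is the centralizer of V in X and is the largest normal 2-subgroup of X, and X/R is isomorphic to the symmetric group of degree 3; moreover the normalizer of V is the product of X and the centralizer of V in H, X is normal in it, and modulo R it is the direct product of X/R and of the centralizer of V in H modulo R. -/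
theorem result {G : Type*} [Group G] [Finite G] (Q : Subgroup G) (hQ : Cfsg.IsLargeExtraspecial Q) (z : G) (hz : ((Subgroup.center ↥Q).map Q.subtype) = Subgroup.zpowers z) (hz2 : orderOf z = 2) (w : ℕ) (hw : 2 ≤ w) (hcard : Nat.card ↥Q = 2 ^ (2 * w + 1)) (g : G) (hgH : g ∉ Subgroup.centralizer ({z} : Set G)) (hgQ : g * z * g⁻¹ ∈ Q) (V X R E : Subgroup G) (hV : V = Subgroup.closure ({z, g * z * g⁻¹} : Set G)) (hX : X = Q ⊔ (Q).map (MulAut.conj g).toMonoidHom) (hR : R = ((Q).map (MulAut.conj g).toMonoidHom ⊓ Subgroup.centralizer ({z} : Set G)) ⊔ (Q ⊓ Subgroup.centralizer ({g * z * g⁻¹} : Set G))) (hE : E = Q ⊓ (Q).map (MulAut.conj g).toMonoidHom) : R = X ⊓ Subgroup.centralizer (V : Set G) ∧ R = (Cfsg.pCore 2 ↥X).map X.subtype ∧ (∃ h : (R.subgroupOf X).Normal, Nonempty (↥X ⧸ R.subgroupOf X ≃* Equiv.Perm (Fin 3))) ∧ Subgroup.normalizer (V : Set G) = X ⊔ (Subgroup.centralizer ({z} : Set G) ⊓ Subgroup.centralizer (V : Set G)) ∧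 (∀ y ∈ Subgroup.normalizer (V : Set G), ∀ x ∈ X, y * x * y⁻¹ ∈ X) ∧ R ≤ Subgroup.centralizer ({z} : Set G) ⊓ Subgroup.centralizer (V : Set G) ∧ (∀ x ∈ X, ∀ c ∈ Subgroup.centralizer ({z} : Set G) ⊓ Subgroup.centralizer (V : Set G), x * c * x⁻¹ * c⁻¹ ∈ R) ∧ X ⊓ (Subgroup.centralizer ({z} : Set G) ⊓ Subgroup.centralizer (V : Set G)) = R := by
  classical
  obtain ⟨hL1, hL2, hL3, -⟩ := hQ
  have hzz : z * z = 1 := by rw [← pow_two, ← hz2]; exact pow_orderOf_eq_one z
  have hz1 : z ≠ 1 := by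
    rintro rfl
    rw [orderOf_one] at hz2; omega
  have hzc : z ∈ (Subgroup.center ↥Q).map Q.subtype := by rw [hz]; exact Subgroup.mem_zpowers z
  have hG := good_of_extraspecial Q hL1 z hzc hz1
  have hG' := hG
  obtain ⟨-, -, hzA, hAz, hA2, hA3, hAsq⟩ := hG'
  have hZ : ∀ t, t ∈ (Subgroup.center ↥Q).map Q.subtype ↔ t = 1 ∨ t = z := by
    intro t; rw [hz]; exact mem_zpowers_two hzz
  have hA4 : ∀ g' : G, (∀ a ∈ Q, g' * a = a * g') → g' ∈ Q := by
    intro g' hg'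
    have : g' ∈ Subgroup.centralizer (Q : Set G) :=
      Subgroup.mem_centralizer_iff.mpr (fun a ha => (hg' a ha).symm)
    rw [hL2] at this
    exact (Subgroup.map_subtype_le _) this
  have hNA : ∀ g' : G, g' * z = z * g' → ∀ a ∈ Q, g' * a * g'⁻¹ ∈ Q := by
    intro g' hg' a ha
    have : g' ∈ Subgroup.centralizer (((Subgroup.center ↥Q).map Q.subtype : Subgroup G) : Set G) := by
      rw [Subgroup.mem_centralizer_iff]
      intro t ht
      rcases (hZ t).mp ht with h | h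
      · rw [h, one_mul, mul_one]
      · rw [h]; exact hg'.symm
    exact (Subgroup.mem_normalizer_iff.mp (hL3 this) a).mp ha
  have hxnz : g * z * g⁻¹ ≠ z := by
    intro h
    apply hgH
    rw [Subgroup.mem_centralizer_singleton_iff]
    exact mul_inv_eq_iff_eq_mul.mp h
  have hBiff : ∀ b, b ∈ Q.map (MulAut.conj g).toMonoidHom ↔ g⁻¹ * b * g ∈ Q := by
    intro b
    constructor
    · rintro ⟨a, ha, rfl⟩
      simp only [MulEquiv.toMonoidHom_eq_coe, MonoidHom.coe_coe, MulAut.conj_apply]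
      have : g⁻¹ * (g * a * g⁻¹) * g = a := by group
      rw [this]; exact ha
    · intro h
      refine ⟨g⁻¹ * b * g, h, ?_⟩
      simp only [MulEquiv.toMonoidHom_eq_coe, MonoidHom.coe_coe, MulAut.conj_apply]
      group
  have hGB := good_of_iff Q _ z g hG hBiff
  have hx1 : g * z * g⁻¹ ≠ 1 := hGB.1
  have hx2 : (g * z * g⁻¹) * (g * z * g⁻¹) = 1 := hGB.2.1
  have hxz : (g * z * g⁻¹) * z = z * (g * z * g⁻¹) := hAz _ hgQ
  have hcard8 : 8 < Nat.card ↥Q := by
    rw [hcard]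
    calc 8 < 2 ^ 5 := by norm_num
      _ ≤ 2 ^ (2 * w + 1) := Nat.pow_le_pow_right (by norm_num) (by omega)
  have hnab := nab_of_card Q z (g * z * g⁻¹) hzz hx2 hxz hx1 hxnz hgQ hAz hA2 hA3 hcard8
  have hzB : z ∈ Q.map (MulAut.conj g).toMonoidHom :=
    key_conj Q _ z g hzz hz1 hzA hgQ hxnz hAz hA2 hA3 hAsq hA4 hNA hBiff hnab
  have hNB := norm_conj Q _ z g hNA hBiff
  have hT : ∀ h : G, h * z * h⁻¹ = g * z * g⁻¹ → ∀ a ∈ Q,
      h * a * h⁻¹ ∈ Q.map (MulAut.conj g).toMonoidHom := by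
    intro h hh a ha
    rw [hBiff]
    have e : g⁻¹ * (h * a * h⁻¹) * g = (g⁻¹ * h) * a * (g⁻¹ * h)⁻¹ := by group
    rw [e]
    apply hNA _ _ a ha
    have : (g⁻¹ * h) * z * (g⁻¹ * h)⁻¹ = z := by
      calc (g⁻¹ * h) * z * (g⁻¹ * h)⁻¹ = g⁻¹ * (h * z * h⁻¹) * g := by group
        _ = g⁻¹ * (g * z * g⁻¹) * g := by rw [hh]
        _ = z := by group
    exact mul_inv_eq_iff_eq_mul.mp this
  exact pair_S3 Q _ z (g * z * g⁻¹) hG hGB hgQ hzB hxnz hNA hNB hT hL1.1.1 (hL1.1.1.map _)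
    V X R hV hX hR

end Cfsg.Agent.S5430
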