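import Cfsg.Statements.S5431
import Mathlib
import Cfsg.Agent.S5595
import Cfsg.Agent.S5422
import Cfsg.Agent.Lib.Helper5.LargeEx
import Cfsg.Agent.Lib.Helper5.LargeEx2

set_option autoImplicit false
open Cfsg

namespace Cfsg.Agent.S5431

open Cfsg.Agent.S5595 Cfsg.Agent.Lib.Helper5.LargeEx
open scoped commutatorElement

variable {G : Type*} [Group G]

/-- the symmetric pair situation -/
theorem pair_facts (A B : Subgroup G) (z x : G) (hGA : Good A z) (hGB : Good B x)
    (hxA : x ∈ A) (hzB : z ∈ B) (hxnz : x ≠ z)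
    (hNA : ∀ c : G, c * z = z * c → ∀ a ∈ A, c * a * c⁻¹ ∈ A)
    (hNB : ∀ c : G, c * x = x * c → ∀ b ∈ B, c * b * c⁻¹ ∈ B)
    (hA4 : ∀ c : G, (∀ a ∈ A, c * a = a * c) → c ∈ A)
    (V X R E : Subgroup G) (hV : V = Subgroup.closure ({z, x} : Set G)) (hX : X = A ⊔ B)
    (hR : R = (B ⊓ Subgroup.centralizer ({z} : Set G)) ⊔ (A ⊓ Subgroup.centralizer ({x} : Set G)))
    (hE : E = A ⊓ B) :
    (Subgroup.center ↥R).map R.subtype = V ∧
      E ≤ (Subgroup.upperCentralSeries ↥R 2).map R.subtype ∧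
      Subgroup.upperCentralSeries ↥R 3 = ⊤ ∧ Cfsg.IsElementaryAbelian 2 E ∧
      (∀ x ∈ R, ∀ y ∈ R, x * y * x⁻¹ * y⁻¹ ∈ E ∧ x ^ 2 ∈ E) ∧
      (B ⊓ Subgroup.centralizer ({z} : Set G)) ⊓ (A ⊓ Subgroup.centralizer ({x} : Set G)) = E ∧
      ⁅X, E⁆ ≤ V := by
  classical
  have hGA' := hGA
  obtain ⟨hz1, hz2, hzA, hAz, hA2, hA3, hAsq⟩ := hGA
  obtain ⟨hx1, hx2, hxB, hBx, hB2, hB3, hBsq⟩ := hGB
  have hxz : x * z = z * x := hAz x hxA
  have hzE : z ∈ E := hE ▸ ⟨hzA, hzB⟩
  have hxE : x ∈ E := hE ▸ ⟨hxA, hxB⟩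
  have hEA : ∀ e ∈ E, e ∈ A := fun e he => (hE ▸ he : e ∈ A ⊓ B).1
  have hEB : ∀ e ∈ E, e ∈ B := fun e he => (hE ▸ he : e ∈ A ⊓ B).2
  have hEmk : ∀ e, e ∈ A → e ∈ B → e ∈ E := fun e h1 h2 => hE ▸ ⟨h1, h2⟩
  -- V elementwise
  have hVmem : ∀ t, t ∈ V ↔ t = 1 ∨ t = z ∨ t = x ∨ t = x * z := by
    intro t
    have : V = Subgroup.zpowers z ⊔ Subgroup.zpowers x := by
      rw [hV, Subgroup.zpowers_eq_closure, Subgroup.zpowers_eq_closure, ← Subgroup.closure_union]
      rfl
    rw [this]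
    exact Cfsg.Agent.S5422.four_mem _ _ z x hz2 hx2 hxz (fun t => mem_zpowers_two hz2)
      (fun t => mem_zpowers_two hx2) t
  have hzV : z ∈ V := (hVmem z).mpr (Or.inr (Or.inl rfl))
  have hxV : x ∈ V := (hVmem x).mpr (Or.inr (Or.inr (Or.inl rfl)))
  have hcV : ∀ s : G, s * z = z * s → s * x = x * s → ∀ v ∈ V, s * v = v * s := by
    intro s hsz hsx v hv
    rcases (hVmem v).mp hv with h | h | h | h
    · rw [h, mul_one, one_mul]
    · rw [h]; exact hsz
    · rw [h]; exact hsx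
    · rw [h, ← mul_assoc, hsx, mul_assoc, hsz, mul_assoc]
  have hcV' : ∀ s : G, s * z = z * s → s * x = x * s → ∀ v ∈ V, s * v * s⁻¹ ∈ V := by
    intro s hsz hsx v hv
    rw [hcV s hsz hsx v hv, mul_inv_cancel_right]; exact hv
  -- P and R'
  obtain ⟨P, hPdef⟩ : ∃ P, P = A ⊓ Subgroup.centralizer ({x} : Set G) := ⟨_, rfl⟩
  obtain ⟨R', hR'def⟩ : ∃ R', R' = B ⊓ Subgroup.centralizer ({z} : Set G) := ⟨_, rfl⟩
  rw [← hPdef, ← hR'def] at hR ⊢
  have hPmem : ∀ p, p ∈ P ↔ p ∈ A ∧ p * x = x * p := by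
    intro p; rw [hPdef, Subgroup.mem_inf, Subgroup.mem_centralizer_singleton_iff]
  have hR'mem : ∀ r, r ∈ R' ↔ r ∈ B ∧ r * z = z * r := by
    intro r; rw [hR'def, Subgroup.mem_inf, Subgroup.mem_centralizer_singleton_iff]
  have hPR : P ≤ R := hR ▸ le_sup_right
  have hR'R : R' ≤ R := hR ▸ le_sup_left
  have hRc : R = Subgroup.closure ((R' : Set G) ∪ (P : Set G)) := by
    rw [Subgroup.closure_union, Subgroup.closure_eq, Subgroup.closure_eq, hR]
  have hGinv : ∀ s ∈ (R' : Set G) ∪ (P : Set G), s⁻¹ ∈ (R' : Set G) ∪ (P : Set G) := by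
    rintro s (hs | hs)
    · exact Or.inl (R'.inv_mem hs)
    · exact Or.inr (P.inv_mem hs)
  have hGz : ∀ s ∈ (R' : Set G) ∪ (P : Set G), s * z = z * s := by
    rintro s (hs | hs)
    · exact ((hR'mem s).mp hs).2
    · exact hAz s ((hPmem s).mp hs).1
  have hGx : ∀ s ∈ (R' : Set G) ∪ (P : Set G), s * x = x * s := by
    rintro s (hs | hs)
    · exact hBx s ((hR'mem s).mp hs).1
    · exact ((hPmem s).mp hs).2
  have hGA0 : ∀ s ∈ (R' : Set G) ∪ (P : Set G), ∀ a ∈ A, s * a * s⁻¹ ∈ A := by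
    intro s hs a ha
    exact hNA s (hGz s hs) a ha
  have hGB0 : ∀ s ∈ (R' : Set G) ∪ (P : Set G), ∀ b ∈ B, s * b * s⁻¹ ∈ B := by
    intro s hs b hb
    exact hNB s (hGx s hs) b hb
  have hGE : ∀ s ∈ (R' : Set G) ∪ (P : Set G), ∀ e ∈ E, s * e * s⁻¹ ∈ E := by
    intro s hs e he
    exact hEmk _ (hGA0 s hs e (hEA e he)) (hGB0 s hs e (hEB e he))
  have hPRc : ∀ p ∈ P, ∀ r ∈ R', p * r * p⁻¹ * r⁻¹ ∈ E := by
    intro p hp r hr
    obtain ⟨hpA, hpx⟩ := (hPmem p).mp hp
    obtain ⟨hrB, hrz⟩ := (hR'mem r).mp hr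
    apply hEmk
    · have : p * r * p⁻¹ * r⁻¹ = p * (r * p⁻¹ * r⁻¹) := by group
      rw [this]; exact A.mul_mem hpA (hNA r hrz p⁻¹ (A.inv_mem hpA))
    · exact B.mul_mem (hNB p hpx r hrB) (B.inv_mem hrB)
  have hGc : ∀ s ∈ (R' : Set G) ∪ (P : Set G), ∀ t ∈ (R' : Set G) ∪ (P : Set G),
      s * t * s⁻¹ * t⁻¹ ∈ E := by
    rintro s (hs | hs) t (ht | ht)
    · rcases hB2 s ((hR'mem s).mp hs).1 t ((hR'mem t).mp ht).1 with h | h
      · rw [h]; exact E.one_mem
      · rw [h]; exact hxE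
    · have := E.inv_mem (hPRc t ht s hs)
      have e : (t * s * t⁻¹ * s⁻¹)⁻¹ = s * t * s⁻¹ * t⁻¹ := by group
      rwa [e] at this
    · exact hPRc s hs t ht
    · rcases hA2 s ((hPmem s).mp hs).1 t ((hPmem t).mp ht).1 with h | h
      · rw [h]; exact E.one_mem
      · rw [h]; exact hzE
  have c5a : ∀ r ∈ R, ∀ y ∈ R, r * y * r⁻¹ * y⁻¹ ∈ E := by
    intro r hr y hy
    rw [hRc] at hr hy
    exact comm_closure E _ _ hGinv hGinv hGE hGE hGc r hr y hy
  -- squares
  have c5b : ∀ r ∈ R, r * r ∈ E := by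
    let M₃ : Subgroup G :=
      { carrier := {r | r ∈ R ∧ r * r ∈ E}
        one_mem' := ⟨R.one_mem, by simp [E.one_mem]⟩
        mul_mem' := by
          rintro a b ⟨haR, ha⟩ ⟨hbR, hb⟩
          refine ⟨R.mul_mem haR hbR, ?_⟩
          have : a * b * (a * b) = (a * a) * (a⁻¹ * b * a⁻¹⁻¹ * b⁻¹) * (b * b) := by group
          rw [this]
          exact E.mul_mem (E.mul_mem ha (c5a a⁻¹ (R.inv_mem haR) b hbR)) hb
        inv_mem' := by
          rintro a ⟨haR, ha⟩
          refine ⟨R.inv_mem haR, ?_⟩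
          have : a⁻¹ * a⁻¹ = (a * a)⁻¹ := by group
          rw [this]; exact E.inv_mem ha }
    have hle : R ≤ M₃ := by
      rw [hR]
      apply sup_le
      · intro s hs
        refine ⟨hR'R hs, ?_⟩
        rcases hBsq s ((hR'mem s).mp hs).1 with h | h
        · rw [h]; exact E.one_mem
        · rw [h]; exact hxE
      · intro s hs
        refine ⟨hPR hs, ?_⟩
        rcases hAsq s ((hPmem s).mp hs).1 with h | h
        · rw [h]; exact E.one_mem
        · rw [h]; exact hzE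
    intro r hr
    exact (hle hr).2
  -- E elementary abelian
  have hE2 : ∀ e ∈ E, e * e = 1 := by
    intro e he
    rcases hBsq e (hEB e he) with h | h
    · exact h
    · rcases hAsq e (hEA e he) with h' | h'
      · exact h'
      · exact absurd (h.symm.trans h') hxnz
  have hEc : ∀ e ∈ E, ∀ e' ∈ E, e * e' * e⁻¹ * e'⁻¹ = 1 := by
    intro e he e' he'
    rcases hB2 e (hEB e he) e' (hEB e' he') with h | h
    · exact h
    · rcases hA2 e (hEA e he) e' (hEA e' he') with h' | h'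
      · exact h'
      · exact absurd (h.symm.trans h') hxnz
  have c4 : Cfsg.IsElementaryAbelian 2 E :=
    ⟨⟨⟨fun a b => Subtype.ext (comm_of_eq_one (hEc a.1 a.2 b.1 b.2))⟩⟩,
      fun a ha => by rw [pow_two]; exact hE2 a ha⟩
  -- claim 6
  have c6 : R' ⊓ P = E := by
    ext e
    rw [Subgroup.mem_inf, hR'mem, hPmem]
    constructor
    · rintro ⟨⟨h1, -⟩, ⟨h2, -⟩⟩; exact hEmk e h2 h1
    · intro he
      exact ⟨⟨hEB e he, hAz e (hEA e he)⟩, ⟨hEA e he, hBx e (hEB e he)⟩⟩
  have hER : E ≤ R := by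
    intro e he
    exact hPR ((hPmem e).mpr ⟨hEA e he, hBx e (hEB e he)⟩)
  -- R centralizes z and x
  have hRz : ∀ r ∈ R, r * z = z * r ∧ r * x = x * r := by
    have hle : R ≤ Subgroup.centralizer ({z, x} : Set G) := by
      rw [hRc, Subgroup.closure_le]
      intro s hs
      rw [SetLike.mem_coe, Subgroup.mem_centralizer_iff]
      rintro t (rfl | rfl)
      · exact (hGz s hs).symm
      · exact (hGx s hs).symm
    intro r hr
    have := Subgroup.mem_centralizer_iff.mp (hle hr)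
    exact ⟨(this z (by simp)).symm, (this x (by simp)).symm⟩
  have hVR : V ≤ R := by
    intro t ht
    have hzP : z ∈ P := (hPmem z).mpr ⟨hzA, hxz.symm⟩
    have hxP : x ∈ P := (hPmem x).mpr ⟨hxA, rfl⟩
    rcases (hVmem t).mp ht with h | h | h | h
    · rw [h]; exact R.one_mem
    · rw [h]; exact hPR hzP
    · rw [h]; exact hPR hxP
    · rw [h]; exact hPR (P.mul_mem hxP hzP)
  have hVcen : ∀ v ∈ V, ∀ r ∈ R, r * v = v * r := by
    intro v hv r hr
    exact hcV r (hRz r hr).1 (hRz r hr).2 v hv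
  -- R normalizes A
  have hRA : ∀ r ∈ R, ∀ a ∈ A, r * a * r⁻¹ ∈ A := by
    have hle : R ≤ stabSub A := by
      rw [hRc, Subgroup.closure_le]
      intro s hs a ha
      refine ⟨hGA0 s hs a ha, ?_⟩
      have := hGA0 s⁻¹ (hGinv s hs) a ha
      rwa [inv_inv] at this
    intro r hr a ha
    exact ((hle hr) a ha).1
  -- claim 1
  have c1 : (Subgroup.center ↥R).map R.subtype = V := by
    ext t
    constructor
    · rintro ⟨c, hc, rfl⟩
      have hcP : ∀ p ∈ A, p * x = x * p → (c : G) * p = p * (c : G) := by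
        intro p hp hpx
        have hpR : p ∈ R := hPR ((hPmem p).mpr ⟨hp, hpx⟩)
        have := Subgroup.mem_center_iff.mp hc ⟨p, hpR⟩
        exact (congrArg (fun t : ↥R => (t : G)) this).symm
      have := cent_P_four A z x hGA' hxA hx1 hxnz hx2 hA4 (c : G) (hRA c c.2) hcP
      exact (hVmem _).mpr this
    · intro ht
      exact ⟨⟨t, hVR ht⟩, Subgroup.mem_center_iff.mpr
        (fun r => Subtype.ext (hVcen t ht r r.2)), rfl⟩
  -- [E, R] ≤ V
  have hEV : ∀ e ∈ E, ∀ y ∈ R, e * y * e⁻¹ * y⁻¹ ∈ V := by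
    intro e he y hy
    rw [hRc] at hy
    have heE : e ∈ Subgroup.closure (E : Set G) := by rw [Subgroup.closure_eq]; exact he
    refine comm_closure V (E : Set G) _ (fun s hs => E.inv_mem hs) hGinv ?_ ?_ ?_ e heE y hy
    · intro s hs v hv
      exact hcV' s (hAz s (hEA s hs)) (hBx s (hEB s hs)) v hv
    · intro s hs v hv
      exact hcV' s (hGz s hs) (hGx s hs) v hv
    · rintro s hs t (ht | ht)
      · rcases hB2 s (hEB s hs) t ((hR'mem t).mp ht).1 with h | h
        · rw [h]; exact V.one_mem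
        · rw [h]; exact hxV
      · rcases hA2 s (hEA s hs) t ((hPmem t).mp ht).1 with h | h
        · rw [h]; exact V.one_mem
        · rw [h]; exact hzV
  have hE2' : ∀ e : ↥R, (e : G) ∈ E → e ∈ Subgroup.upperCentralSeries ↥R 2 := by
    intro e he
    rw [show (2 : ℕ) = 1 + 1 from rfl, Subgroup.mem_upperCentralSeries_succ_iff]
    intro y
    rw [Subgroup.upperCentralSeries_one, Subgroup.mem_center_iff]
    intro r
    apply Subtype.ext
    have h1 : ((⁅e, y⁆ : ↥R) : G) ∈ V := by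
      rw [commutatorElement_def]
      push_cast
      exact hEV e he y y.2
    exact hVcen _ h1 r r.2
  have c2 : E ≤ (Subgroup.upperCentralSeries ↥R 2).map R.subtype := by
    intro e he
    exact ⟨⟨e, hER he⟩, hE2' _ he, rfl⟩
  have c3 : Subgroup.upperCentralSeries ↥R 3 = ⊤ := by
    rw [eq_top_iff]
    intro r _
    rw [show (3 : ℕ) = 2 + 1 from rfl, Subgroup.mem_upperCentralSeries_succ_iff]
    intro y
    apply hE2'
    rw [commutatorElement_def]
    push_cast
    exact c5a r r.2 y y.2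
  -- claim 7
  have c7 : ⁅X, E⁆ ≤ V := by
    rw [Subgroup.commutator_le]
    intro a ha e he
    rw [commutatorElement_def]
    have hXc : X = Subgroup.closure ((A : Set G) ∪ (B : Set G)) := by
      rw [Subgroup.closure_union, Subgroup.closure_eq, Subgroup.closure_eq, hX]
    rw [hXc] at ha
    have heE : e ∈ Subgroup.closure (E : Set G) := by rw [Subgroup.closure_eq]; exact he
    have hAV : ∀ s ∈ A, ∀ v ∈ V, s * v * s⁻¹ ∈ V := by
      intro s hs v hv
      have hsz : s * z * s⁻¹ = z := by rw [hAz s hs, mul_inv_cancel_right]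
      have hsx : s * x * s⁻¹ ∈ V := by
        rcases hA2 s hs x hxA with h | h
        · rw [mul_inv_eq_one.mp h]; exact hxV
        · rw [mul_inv_eq_iff_eq_mul.mp h]; exact V.mul_mem hzV hxV
      rcases (hVmem v).mp hv with h | h | h | h
      · rw [h, mul_one, mul_inv_cancel]; exact V.one_mem
      · rw [h, hsz]; exact hzV
      · rw [h]; exact hsx
      · rw [h, Cfsg.Agent.S5422.conj_prod, hsz]; exact V.mul_mem hsx hzV
    have hBV : ∀ s ∈ B, ∀ v ∈ V, s * v * s⁻¹ ∈ V := by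
      intro s hs v hv
      have hsx : s * x * s⁻¹ = x := by rw [hBx s hs, mul_inv_cancel_right]
      have hsz : s * z * s⁻¹ ∈ V := by
        rcases hB2 s hs z hzB with h | h
        · rw [mul_inv_eq_one.mp h]; exact hzV
        · rw [mul_inv_eq_iff_eq_mul.mp h]; exact V.mul_mem hxV hzV
      rcases (hVmem v).mp hv with h | h | h | h
      · rw [h, mul_one, mul_inv_cancel]; exact V.one_mem
      · rw [h]; exact hsz
      · rw [h, hsx]; exact hxV
      · rw [h, Cfsg.Agent.S5422.conj_prod, hsx]; exact V.mul_mem hxV hsz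
    refine comm_closure V _ (E : Set G) ?_ (fun s hs => E.inv_mem hs) ?_ ?_ ?_ a ha e heE
    · rintro s (hs | hs)
      · exact Or.inl (A.inv_mem hs)
      · exact Or.inr (B.inv_mem hs)
    · rintro s (hs | hs) v hv
      · exact hAV s hs v hv
      · exact hBV s hs v hv
    · intro s hs v hv
      exact hcV' s (hAz s (hEA s hs)) (hBx s (hEB s hs)) v hv
    · rintro s (hs | hs) t ht
      · rcases hA2 s hs t (hEA t ht) with h | h
        · rw [h]; exact V.one_mem
        · rw [h]; exact hzV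
      · rcases hB2 s hs t (hEB t ht) with h | h
        · rw [h]; exact V.one_mem
        · rw [h]; exact hxV
  exact ⟨c1, c2, c3, c4, fun r hr y hy => ⟨c5a r hr y hy, by rw [pow_two]; exact c5b r hr⟩, c6, c7⟩

/-- Let Q be a large extraspecial 2-subgroup of the finite group G (extraspecial; centralizer equal to its centre; normal in the centralizer of its centre; normalizing no non-trivial subgroup of odd order) with centre generated by z, an involution, of width w ≥ 2 (order 2^(2w+1)); let g be an element outside the centralizer H of z with g z g⁻¹ in Q; write V for the subgroup generated by z and g z g⁻¹, X for the subgroup generated by Q and g Q g⁻¹, R for the subgroup generated by the centralizer of z in g Q g⁻¹ and the centralizer of g z g⁻¹ in Q, and E for the intersection of Q and g Q g⁻¹. Then V is the centre of R, E lies in the second centre of R, R is nilpotent of class at most 3, E and R/E are elementary abelian, R/E is the direct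 product of the images of the centralizer of g z g⁻¹ in Q and of the centralizer of z in g Q g⁻¹ (R is their product and they meet in E), and the commutator subgroup of X and E lies in V. -/
theorem result {G : Type*} [Group G] [Finite G] (Q : Subgroup G) (hQ : Cfsg.IsLargeExtraspecial Q) (z : G) (hz : ((Subgroup.center ↥Q).map Q.subtype) = Subgroup.zpowers z) (hz2 : orderOf z = 2) (w : ℕ) (hw : 2 ≤ w) (hcard : Nat.card ↥Q = 2 ^ (2 * w + 1)) (g : G) (hgH : g ∉ Subgroup.centralizer ({z} : Set G)) (hgQ : g * z * g⁻¹ ∈ Q) (V X R E : Subgroup G) (hV : V = Subgroup.closure ({z, g * z * g⁻¹} : Set G)) (hX : X = Q ⊔ (Q).map (MulAut.conj g).toMonoidHom) (hR : R = ((Q).map (MulAut.conj g).toMonoidHom ⊓ Subgroup.centralizer ({z} : Set G)) ⊔ (Q ⊓ Subgroup.centralizer ({g * z * g⁻¹} : Set G))) (hE : E = Q ⊓ (Q).map (MulAut.conj g).toMonoidHom) : (Subgroup.center ↥R).map R.subtype = V ∧ E ≤ (Subgroup.upperCentralSeries ↥R 2).map R.subtype ∧ Subgroup.upperCentralSeries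 ↥R 3 = ⊤ ∧ Cfsg.IsElementaryAbelian 2 E ∧ (∀ x ∈ R, ∀ y ∈ R, x * y * x⁻¹ * y⁻¹ ∈ E ∧ x ^ 2 ∈ E) ∧ ((Q).map (MulAut.conj g).toMonoidHom ⊓ Subgroup.centralizer ({z} : Set G)) ⊓ (Q ⊓ Subgroup.centralizer ({g * z * g⁻¹} : Set G)) = E ∧ ⁅X, E⁆ ≤ V := by
  classical
  obtain ⟨hL1, hL2, hL3, -⟩ := hQ
  have hzz : z * z = 1 := by rw [← pow_two, ← hz2]; exact pow_orderOf_eq_one z
  have hz1 : z ≠ 1 := by
    rintro rfl
    rw [orderOf_one] at hz2; omega
  have hzc : z ∈ (Subgroup.center ↥Q).map Q.subtype := by rw [hz]; exact Subgroup.mem_zpowers z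
  have hG := good_of_extraspecial Q hL1 z hzc hz1
  have hG' := hG
  obtain ⟨-, -, hzA, hAz, hA2, hA3, hAsq⟩ := hG'
  have hZ : ∀ t, t ∈ (Subgroup.center ↥Q).map Q.subtype ↔ t = 1 ∨ t = z := by
    intro t; rw [hz]; exact mem_zpowers_two hzz
  have hA4 : ∀ g' : G, (∀ a ∈ Q, g' * a = a * g') → g' ∈ Q := by
    intro g' hg'
    have : g' ∈ Subgroup.centralizer (Q : Set G) :=
      Subgroup.mem_centralizer_iff.mpr (fun a ha => (hg' a ha).symm)
    rw [hL2] at this
    exact (Subgroup.map_subtype_le _) this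
  have hNA : ∀ g' : G, g' * z = z * g' → ∀ a ∈ Q, g' * a * g'⁻¹ ∈ Q := by
    intro g' hg' a ha
    have : g' ∈ Subgroup.centralizer (((Subgroup.center ↥Q).map Q.subtype : Subgroup G) : Set G) := by
      rw [Subgroup.mem_centralizer_iff]
      intro t ht
      rcases (hZ t).mp ht with h | h
      · rw [h, one_mul, mul_one]
      · rw [h]; exact hg'.symm
    exact (Subgroup.mem_normalizer_iff.mp (hL3 this) a).mp ha
  have hxnz : g * z * g⁻¹ ≠ z := by
    intro h
    apply hgH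
    rw [Subgroup.mem_centralizer_singleton_iff]
    exact mul_inv_eq_iff_eq_mul.mp h
  have hBiff : ∀ b, b ∈ Q.map (MulAut.conj g).toMonoidHom ↔ g⁻¹ * b * g ∈ Q := by
    intro b
    constructor
    · rintro ⟨a, ha, rfl⟩
      simp only [MulEquiv.toMonoidHom_eq_coe, MonoidHom.coe_coe, MulAut.conj_apply]
      have : g⁻¹ * (g * a * g⁻¹) * g = a := by group
      rw [this]; exact ha
    · intro h
      refine ⟨g⁻¹ * b * g, h, ?_⟩
      simp only [MulEquiv.toMonoidHom_eq_coe, MonoidHom.coe_coe, MulAut.conj_apply]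
      group
  have hGB := good_of_iff Q _ z g hG hBiff
  have hx1 : g * z * g⁻¹ ≠ 1 := hGB.1
  have hx2 : (g * z * g⁻¹) * (g * z * g⁻¹) = 1 := hGB.2.1
  have hxz : (g * z * g⁻¹) * z = z * (g * z * g⁻¹) := hAz _ hgQ
  have hcard8 : 8 < Nat.card ↥Q := by
    rw [hcard]
    calc 8 < 2 ^ 5 := by norm_num
      _ ≤ 2 ^ (2 * w + 1) := Nat.pow_le_pow_right (by norm_num) (by omega)
  have hnab := Cfsg.Agent.S5422.nab_of_card Q z (g * z * g⁻¹) hzz hx2 hxz hx1 hxnz hgQ hAz hA2 hA3
    hcard8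
  have hzB : z ∈ Q.map (MulAut.conj g).toMonoidHom :=
    Cfsg.Agent.S5422.key_conj Q _ z g hzz hz1 hzA hgQ hxnz hAz hA2 hA3 hAsq hA4 hNA hBiff hnab
  have hNB := norm_conj Q _ z g hNA hBiff
  exact pair_facts Q _ z (g * z * g⁻¹) hG hGB hgQ hzB hxnz hNA hNB hA4 V X R E hV hX hR hE

end Cfsg.Agent.S5431
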