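import Cfsg.Statements.S5436
import Mathlib
import Cfsg.Agent.Lib.Helper9.Components
import Cfsg.Agent.Lib.Helper5.LargeEx2

set_option autoImplicit false
open Cfsg

namespace Cfsg.Agent.S5436

theorem aux {G : Type*} [Group G] [Finite G] (z : G) (hz : orderOf z = 2) (H : Subgroup G)
    (hH : H = Subgroup.centralizer ({z} : Set G)) (Q : Subgroup H) [Q.Normal]
    (hF : Cfsg.generalizedFittingSubgroup ↥H = Q) (hQ : Cfsg.IsExtraspecial 2 ↥Q)
    (hnwc : ∃ g : G, (∃ hq : g * z * g⁻¹ ∈ H, (⟨g * z * g⁻¹, hq⟩ : H) ∈ Q) ∧ g * z * g⁻¹ ≠ z)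
    (hsimp : IsSimpleGroup (↥H ⧸ Q))
    (hirr : ∀ W : Subgroup H, W.Normal → W ≤ Q →
      (W = Q ∨ ∀ x ∈ W, (x : G) ∈ Subgroup.zpowers z))
    (hwcl : Subgroup.closure {x : H | IsConj z (x : G)} ≠ Q) : IsSimpleGroup G := by
  classical
  haveI : Fact (Nat.Prime 2) := ⟨Nat.prime_two⟩
  have hz2 : z * z = 1 := by rw [← pow_two, ← hz]; exact pow_orderOf_eq_one z
  have hz1 : z ≠ 1 := by
    intro h
    rw [h, orderOf_one] at hz; omega
  have hzinv : z⁻¹ = z := inv_eq_of_mul_eq_one_left hz2
  have hmemH : ∀ h : G, h ∈ H ↔ h * z = z * h := by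
    intro h
    rw [hH, Subgroup.mem_centralizer_iff]
    constructor
    · intro hh; exact (hh z rfl).symm
    · intro hh g hg
      rw [Set.mem_singleton_iff] at hg
      rw [hg]; exact hh.symm
  have hzH : z ∈ H := (hmemH z).mpr rfl
  have hcentF : Subgroup.centralizer (Q : Set H) ≤ Q := by
    rw [← hF]; exact Cfsg.Agent.Lib.Helper9.centralizer_gfitting_le ↥H
  have hzQ : (⟨z, hzH⟩ : H) ∈ Q := by
    apply hcentF
    rw [Subgroup.mem_centralizer_iff]
    intro x _
    apply Subtype.ext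
    exact ((hmemH x).mp x.2)
  have hcenQ : ∀ c : H, c ∈ Q → (∀ q ∈ Q, c * q = q * c) → c = 1 ∨ c = ⟨z, hzH⟩ := by
    intro c hc hcq
    have h2 := hQ.2
    obtain ⟨y, hy, huniq⟩ := (Nat.card_eq_two_iff' (1 : Subgroup.center ↥Q)).mp h2
    have hz' : (⟨⟨z, hzH⟩, hzQ⟩ : ↥Q) ∈ Subgroup.center ↥Q := by
      rw [Subgroup.mem_center_iff]
      intro q
      apply Subtype.ext; apply Subtype.ext
      exact (hmemH _).mp (q : H).2
    have hc' : (⟨c, hc⟩ : ↥Q) ∈ Subgroup.center ↥Q := by
      rw [Subgroup.mem_center_iff]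
      intro q
      apply Subtype.ext
      exact (hcq q q.2).symm
    have hzy : (⟨⟨⟨z, hzH⟩, hzQ⟩, hz'⟩ : Subgroup.center ↥Q) = y := by
      apply huniq
      intro h
      apply hz1
      have := congrArg (fun t : Subgroup.center ↥Q => (((t : ↥Q) : H) : G)) h
      simpa using this
    by_cases hc1 : (⟨⟨c, hc⟩, hc'⟩ : Subgroup.center ↥Q) = 1
    · left
      have := congrArg (fun t : Subgroup.center ↥Q => ((t : ↥Q) : H)) hc1
      simpa using this
    · right
      have h3 := huniq ⟨⟨c, hc⟩, hc'⟩ hc1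
      rw [← hzy] at h3
      have := congrArg (fun t : Subgroup.center ↥Q => ((t : ↥Q) : H)) h3
      simpa using this
  obtain ⟨g, ⟨haH, haQ⟩, hane⟩ := hnwc
  have ha1 : g * z * g⁻¹ ≠ 1 := fun h => hz1 (conj_eq_one_iff.mp h)
  have ha2 : (g * z * g⁻¹) * (g * z * g⁻¹) = 1 := by
    calc g * z * g⁻¹ * (g * z * g⁻¹) = g * (z * z) * g⁻¹ := by group
      _ = 1 := by rw [hz2, mul_one, mul_inv_cancel]
  have hzp : ∀ x : G, x ∈ Subgroup.zpowers z → x = 1 ∨ x = z := fun x hx =>
    (Cfsg.Agent.Lib.Helper5.LargeEx.mem_zpowers_two hz2).mp hx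
  -- C(z) is generated by the conjugates of z it contains
  obtain ⟨X, hXdef⟩ : ∃ X : Subgroup H, X = Subgroup.closure {x : H | IsConj z (x : G)} :=
    ⟨_, rfl⟩
  rw [← hXdef] at hwcl
  have hXn : X.Normal := by
    constructor
    intro x hx h
    rw [hXdef] at hx ⊢
    induction hx using Subgroup.closure_induction with
    | mem s hs =>
      apply Subgroup.subset_closure
      show IsConj z ((h * s * h⁻¹ : H) : G)
      rw [Set.mem_setOf_eq, isConj_iff] at hs
      rw [isConj_iff]
      obtain ⟨c, hc⟩ := hs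
      refine ⟨(h : G) * c, ?_⟩
      simp only [Subgroup.coe_mul, Subgroup.coe_inv]
      rw [← hc]; group
    | one => simp
    | mul x y _ _ hx hy =>
      have : h * (x * y) * h⁻¹ = (h * x * h⁻¹) * (h * y * h⁻¹) := by group
      rw [this]; exact Subgroup.mul_mem _ hx hy
    | inv x _ hx =>
      have : h * x⁻¹ * h⁻¹ = (h * x * h⁻¹)⁻¹ := by group
      rw [this]; exact Subgroup.inv_mem _ hx
  have hQX : Q ≤ X := by
    have hW : (X ⊓ Q).Normal := inferInstance
    rcases hirr (X ⊓ Q) hW inf_le_right with h | h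
    · rw [← h]; exact inf_le_left
    · exfalso
      have haX : (⟨g * z * g⁻¹, haH⟩ : H) ∈ X := by
        rw [hXdef]
        apply Subgroup.subset_closure
        show IsConj z (g * z * g⁻¹)
        rw [isConj_iff]; exact ⟨g, rfl⟩
      have := h ⟨g * z * g⁻¹, haH⟩ ⟨haX, haQ⟩
      rcases hzp _ this with h1 | h1
      · exact ha1 h1
      · exact hane h1
  have hX : X = ⊤ := by
    have hmap : (X.map (QuotientGroup.mk' Q)).Normal :=
      hXn.map _ (QuotientGroup.mk'_surjective Q)
    rcases hsimp.eq_bot_or_eq_top_of_normal _ hmap with h | h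
    · exfalso
      rw [Subgroup.map_eq_bot_iff, QuotientGroup.ker_mk'] at h
      exact hwcl (le_antisymm h hQX)
    · have h2 := Subgroup.comap_map_eq (QuotientGroup.mk' Q) X
      rw [h, Subgroup.comap_top, QuotientGroup.ker_mk', sup_eq_left.mpr hQX] at h2
      exact h2.symm
  have hHle : ∀ N : Subgroup G, N.Normal → z ∈ N → H ≤ N := by
    intro N hN hzN h hh
    have h1 : (⟨h, hh⟩ : H) ∈ X := by rw [hX]; exact Subgroup.mem_top _
    have h2 : X ≤ N.subgroupOf H := by
      rw [hXdef, Subgroup.closure_le]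
      intro x hx
      rw [Set.mem_setOf_eq, isConj_iff] at hx
      obtain ⟨c, hc⟩ := hx
      show x ∈ N.subgroupOf H
      rw [Subgroup.mem_subgroupOf, ← hc]
      exact hN.conj_mem z hzN c
    have := h2 h1
    rwa [Subgroup.mem_subgroupOf] at this
  -- a normal subgroup containing z is everything
  have hN2 : ∀ N : Subgroup G, N.Normal → z ∈ N → N = ⊤ := by
    intro N hN hzN
    haveI := hN
    have hHN := hHle N hN hzN
    have hQp : IsPGroup 2 ((Q.map H.subtype).subgroupOf N) :=
      (hQ.1.1.map H.subtype).comap_subtype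
    obtain ⟨P, hP⟩ := hQp.exists_le_sylow
    have hfr := Sylow.normalizer_sup_eq_top P
    obtain ⟨P', hP'def⟩ : ∃ P' : Subgroup G, P' = (P : Subgroup N).map N.subtype := ⟨_, rfl⟩
    rw [← hP'def] at hfr
    have hP' : ∀ x : G, x ∈ P' ↔ ∃ hx : x ∈ N, (⟨x, hx⟩ : N) ∈ P := by
      intro x
      rw [hP'def]
      constructor
      · rintro ⟨y, hy, rfl⟩; exact ⟨y.2, hy⟩
      · rintro ⟨hx, hy⟩; exact ⟨⟨x, hx⟩, hy, rfl⟩
    have hQP : ∀ q : H, q ∈ Q → (q : G) ∈ P' := by
      intro q hq
      rw [hP']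
      refine ⟨hHN q.2, ?_⟩
      apply hP
      rw [Subgroup.mem_subgroupOf]
      exact ⟨q, hq, rfl⟩
    have hL : ∀ c ∈ P', (∀ p ∈ P', c * p = p * c) → c = 1 ∨ c = z := by
      intro c hc hcp
      have hcz : c * z = z * c := hcp z (hQP ⟨z, hzH⟩ hzQ)
      have hcH : c ∈ H := (hmemH c).mpr hcz
      have h1 : (⟨c, hcH⟩ : H) ∈ Q := by
        apply hcentF
        rw [Subgroup.mem_centralizer_iff]
        intro q hq
        apply Subtype.ext
        exact (hcp q (hQP q hq)).symm
      rcases hcenQ ⟨c, hcH⟩ h1 (fun q hq => Subtype.ext (hcp q (hQP q hq))) with h | h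
      · left; exact congrArg Subtype.val h
      · right; exact congrArg Subtype.val h
    have hzP : z ∈ P' := hQP ⟨z, hzH⟩ hzQ
    have hzc : ∀ p ∈ P', z * p = p * z := by
      have hpg : IsPGroup 2 P' := by rw [hP'def]; exact P.isPGroup'.map N.subtype
      haveI : Nontrivial P' := ⟨⟨⟨z, hzP⟩, 1, fun h => hz1 (congrArg Subtype.val h)⟩⟩
      haveI := hpg.center_nontrivial
      obtain ⟨c, hc⟩ := exists_ne (1 : Subgroup.center P')
      have hcc : ∀ p ∈ P', ((c : P') : G) * p = p * ((c : P') : G) := by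
        intro p hp
        have := Subgroup.mem_center_iff.mp c.2 ⟨p, hp⟩
        exact (congrArg Subtype.val this).symm
      rcases hL _ (c : P').2 hcc with h | h
      · exfalso; apply hc; apply Subtype.ext; apply Subtype.ext; exact h
      · intro p hp; rw [← h]; exact hcc p hp
    have hnorm : Subgroup.normalizer (P' : Set G) ≤ N := by
      intro n hn
      apply hHN
      rw [hmemH]
      rw [Subgroup.mem_normalizer_iff] at hn
      have h1 : n * z * n⁻¹ ∈ P' := (hn z).mp hzP
      have h2 : ∀ p ∈ P', (n * z * n⁻¹) * p = p * (n * z * n⁻¹) := by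
        intro p hp
        have h3 : n⁻¹ * p * n ∈ P' := by
          rw [hn]
          have : n * (n⁻¹ * p * n) * n⁻¹ = p := by group
          rw [this]; exact hp
        have h4 := hzc _ h3
        calc n * z * n⁻¹ * p = n * (z * (n⁻¹ * p * n)) * n⁻¹ := by group
          _ = n * ((n⁻¹ * p * n) * z) * n⁻¹ := by rw [h4]
          _ = p * (n * z * n⁻¹) := by group
      rcases hL _ h1 h2 with h | h
      · exact absurd (conj_eq_one_iff.mp h) hz1
      · exact mul_inv_eq_iff_eq_mul.mp h
    have : (⊤ : Subgroup G) ≤ N := by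
      rw [← hfr]
      exact sup_le hnorm le_rfl
    exact top_le_iff.mp this
  -- a normal subgroup not containing z meets Q trivially
  have hN3 : ∀ N : Subgroup G, N.Normal → z ∉ N → ∀ q : H, q ∈ Q → (q : G) ∈ N → q = 1 := by
    intro N hN hzN q hq hqN
    have hW : (N.subgroupOf H ⊓ Q).Normal := by
      haveI := hN.subgroupOf H
      infer_instance
    rcases hirr (N.subgroupOf H ⊓ Q) hW inf_le_right with h | h
    · exfalso; apply hzN
      have : (⟨z, hzH⟩ : H) ∈ N.subgroupOf H ⊓ Q := by rw [h]; exact hzQ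
      exact Subgroup.mem_subgroupOf.mp this.1
    · have := h q ⟨Subgroup.mem_subgroupOf.mpr hqN, hq⟩
      rcases hzp _ this with h1 | h1
      · exact Subtype.ext h1
      · exfalso; apply hzN; rw [← h1]; exact hqN
  refine { toNontrivial := ⟨⟨z, 1, hz1⟩⟩, eq_bot_or_eq_top_of_normal := ?_ }
  intro N hN
  by_cases hzN : z ∈ N
  · right; exact hN2 N hN hzN
  · left
    have hNH : ∀ n ∈ N, n * z = z * n → n = 1 := by
      intro n hn hnz
      have hnH : n ∈ H := (hmemH n).mpr hnz
      have h1 : (⟨n, hnH⟩ : H) ∈ Q := by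
        apply hcentF
        rw [Subgroup.mem_centralizer_iff]
        intro q hq
        have hc : (⟨n, hnH⟩ : H) * q * (⟨n, hnH⟩ : H)⁻¹ * q⁻¹ = 1 := by
          apply hN3 N hN hzN
          · exact Q.mul_mem (‹Q.Normal›.conj_mem q hq _) (Q.inv_mem hq)
          · show n * (q : G) * n⁻¹ * (q : G)⁻¹ ∈ N
            have : n * (q : G) * n⁻¹ * (q : G)⁻¹ = n * ((q : G) * n⁻¹ * (q : G)⁻¹) := by group
            rw [this]
            exact N.mul_mem hn (hN.conj_mem _ (N.inv_mem hn) _)
        have : (⟨n, hnH⟩ : H) * q = q * ⟨n, hnH⟩ := by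
          calc (⟨n, hnH⟩ : H) * q
                = ((⟨n, hnH⟩ : H) * q * (⟨n, hnH⟩ : H)⁻¹ * q⁻¹) * (q * ⟨n, hnH⟩) := by group
            _ = q * ⟨n, hnH⟩ := by rw [hc, one_mul]
        exact this.symm
      have := hN3 N hN hzN ⟨n, hnH⟩ h1 hn
      exact congrArg Subtype.val this
    have hinv : ∀ n ∈ N, z * n * z = n⁻¹ := by
      let φ : N → N := fun n => ⟨(n : G)⁻¹ * (z * n * z), by
        have h1 : z * (n : G) * z = z * n * z⁻¹ := by rw [hzinv]
        rw [h1]
        exact N.mul_mem (N.inv_mem n.2) (hN.conj_mem _ n.2 z)⟩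
      have hφ : Function.Injective φ := by
        intro n m h
        have h1 : (n : G)⁻¹ * (z * n * z) = (m : G)⁻¹ * (z * m * z) := congrArg Subtype.val h
        have h2 : ((m : G) * (n : G)⁻¹) * z = z * ((m : G) * (n : G)⁻¹) := by
          have h3 : (n : G)⁻¹ * z * n = (m : G)⁻¹ * z * m := by
            have := congrArg (fun t => t * z⁻¹) h1
            simpa [mul_assoc] using this
          calc ((m : G) * (n : G)⁻¹) * z = m * ((n : G)⁻¹ * z * n) * (n : G)⁻¹ := by group
            _ = m * ((m : G)⁻¹ * z * m) * (n : G)⁻¹ := by rw [h3]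
            _ = z * ((m : G) * (n : G)⁻¹) := by group
        have h4 := hNH _ (N.mul_mem m.2 (N.inv_mem n.2)) h2
        apply Subtype.ext
        have : (m : G) = n := by
          calc (m : G) = (m * (n : G)⁻¹) * n := by group
            _ = n := by rw [h4, one_mul]
        exact this.symm
      have hsurj : Function.Surjective φ := Finite.surjective_of_injective hφ
      intro n hn
      obtain ⟨m, hm⟩ := hsurj ⟨n, hn⟩
      have h1 : n = (m : G)⁻¹ * (z * m * z) := (congrArg Subtype.val hm).symm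
      rw [h1]
      calc z * ((m : G)⁻¹ * (z * m * z)) * z = z * (m : G)⁻¹ * z * m * (z * z) := by group
        _ = z * (m : G)⁻¹ * z * m := by rw [hz2, mul_one]
        _ = z⁻¹ * (m : G)⁻¹ * z⁻¹ * m := by rw [hzinv]
        _ = ((m : G)⁻¹ * (z * m * z))⁻¹ := by group
    have hinva : ∀ n ∈ N, (g * z * g⁻¹) * n * (g * z * g⁻¹) = n⁻¹ := by
      intro n hn
      have h1 : g⁻¹ * n * g ∈ N := by
        have := hN.conj_mem n hn g⁻¹
        rwa [inv_inv] at this
      have h2 := hinv _ h1
      calc (g * z * g⁻¹) * n * (g * z * g⁻¹) = g * (z * (g⁻¹ * n * g) * z) * g⁻¹ := by group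
        _ = g * (g⁻¹ * n * g)⁻¹ * g⁻¹ := by rw [h2]
        _ = n⁻¹ := by group
    have hza : ∀ n ∈ N, (z * (g * z * g⁻¹)) * n = n * (z * (g * z * g⁻¹)) := by
      intro n hn
      have h1 := hinv n hn
      have h2 := hinva n hn
      have ha_inv : (g * z * g⁻¹)⁻¹ = g * z * g⁻¹ := inv_eq_of_mul_eq_one_left ha2
      have h5 : z * n⁻¹ = n * z := by
        rw [← h1]
        calc z * (z * n * z) = (z * z) * n * z := by group
          _ = n * z := by rw [hz2, one_mul]
      calc z * (g * z * g⁻¹) * n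
            = z * ((g * z * g⁻¹) * n * (g * z * g⁻¹)) * (g * z * g⁻¹)⁻¹ := by group
        _ = z * n⁻¹ * (g * z * g⁻¹) := by rw [h2, ha_inv]
        _ = n * z * (g * z * g⁻¹) := by rw [h5]
        _ = n * (z * (g * z * g⁻¹)) := by group
    haveI := hN
    have hN'n : (Subgroup.centralizer (N : Set G)).Normal := Subgroup.normal_centralizer
    by_cases hzN' : z ∈ Subgroup.centralizer (N : Set G)
    · rw [Subgroup.eq_bot_iff_forall]
      intro n hn
      apply hNH n hn
      exact (Subgroup.mem_centralizer_iff.mp hzN' n hn)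
    · exfalso
      have h1 : (⟨z, hzH⟩ : H) * ⟨g * z * g⁻¹, haH⟩ ∈ Q := Q.mul_mem hzQ haQ
      have h2 := hN3 _ hN'n hzN' _ h1 (by
        show z * (g * z * g⁻¹) ∈ Subgroup.centralizer (N : Set G)
        rw [Subgroup.mem_centralizer_iff]
        intro n hn
        exact (hza n hn).symm)
      have h3 : z * (g * z * g⁻¹) = 1 := congrArg Subtype.val h2
      apply hane
      calc g * z * g⁻¹ = z⁻¹ * (z * (g * z * g⁻¹)) := by group
        _ = z := by rw [h3, mul_one, hzinv]


/-- Let z be an involution of the finite group G with centralizer H whose generalized Fitting subgroup Q is extraspecial of width at least 2 (order 2^(2w+1), w ≥ 2); suppose some conjugate of z other than z lies in Q, H/Q is a non-abelian simple group, H acts irreducibly by conjugation on Q modulo the subgroup generated by z (the only H-invariant subgroups of Q containing z are that subgroup and Q), and Q is not the subgroup generated by the conjugates of z lying in H. Then G is simple. -/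
theorem result {G : Type*} [Group G] [Finite G] (z : G) (hz : orderOf z = 2) (Q : Subgroup (Subgroup.centralizer ({z} : Set G))) [Q.Normal] (hF : Cfsg.generalizedFittingSubgroup ↥(Subgroup.centralizer ({z} : Set G)) = Q) (hQ : Cfsg.IsExtraspecial 2 ↥Q) (w : ℕ) (hw : 2 ≤ w) (hcard : Nat.card ↥Q = 2 ^ (2 * w + 1)) (hnwc : ∃ g : G, (∃ hq : g * z * g⁻¹ ∈ Subgroup.centralizer ({z} : Set G), (⟨g * z * g⁻¹, hq⟩ : Subgroup.centralizer ({z} : Set G)) ∈ Q) ∧ g * z * g⁻¹ ≠ z) (hsimp : IsSimpleGroup (↥(Subgroup.centralizer ({z} : Set G)) ⧸ Q)) (hna : ¬ IsMulCommutative (↥(Subgroup.centralizer ({z} : Set G)) ⧸ Q)) (hirr : ∀ W : Subgroup (Subgroup.centralizer ({z} : Set G)), W.Normal → W ≤ Q → (W = Q ∨ ∀ x ∈ W, (x : G) ∈ Subgroup.zpowers z)) (hwcl : Subgroup.closure {x : Subgroup.centralizer ({z} : Set G) | IsConj z (x : G)} ≠ Q) : IsSimpleGroup G := by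
  exact aux z hz _ rfl Q hF hQ hnwc hsimp hirr hwcl

end Cfsg.Agent.S5436
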