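import Cfsg.Statements.S5522
import Mathlib
import Cfsg.Agent.Lib.Helper3.Golay3
import Cfsg.Agent.Lib.Helper28.M24Class

set_option autoImplicit false
open Cfsg

namespace Cfsg.Agent.S5522

open Cfsg.Agent.Lib.Helper3.Golay Cfsg.Agent.Lib.Helper3.Golay2 Cfsg.Agent.Lib.Helper3.Golay3
  Cfsg.Agent.Lib.Helper28.M24Trans Cfsg.Agent.Lib.Helper28.M24Six
  Cfsg.Agent.Lib.Helper28.M24Enum Cfsg.Agent.Lib.Helper28.M24Class
open scoped Pointwise

theorem D_dodecad : Spor.squareDodecad ∈ dodecads := by
  rw [mem_dodecads]
  refine ⟨⟨qrWord 0, qrWord_mem 0, rfl⟩, ?_⟩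
  unfold Spor.squareDodecad
  rw [qrWord_eq, card_support_dec]
  decide

theorem inv5 {g : Equiv.Perm GolayPt} (hg : g ∈ M24) {o : Finset GolayPt} (ho : o ∈ octads)
    {s : Finset GolayPt} (hso : s ⊆ o) (hsf : s ⊆ fixF g) (h5 : 5 ≤ s.card) : g • o = o := by
  by_contra hne
  have h1 := octads_inter_le (smul_octad hg ho) ho hne
  have h2 : s ⊆ g • o ∩ o := by
    intro p hp
    rw [Finset.mem_inter]
    refine ⟨?_, hso hp⟩
    have : g • p ∈ g • o := Finset.smul_mem_smul_finset (hso hp)
    rw [Equiv.Perm.smul_def, mem_fixF.mp (hsf hp)] at this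
    exact this
  have := Finset.card_le_card h2
  omega

/-- The Mathieu group M₁₁, realised as the stabiliser of one point of the dodecad of squares inside the stabiliser M₁₂ of that dodecad in M₂₄, acts on the twelve coordinate positions outside the dodecad of squares (its 3-transitive action of degree 12); in this action every element of prime order fixes a point, i.e. the action is elusive. -/
theorem result (g : Equiv.Perm Cfsg.GolayPt) (hg : g ∈ Cfsg.Spor.M11) (hord : (orderOf g).Prime) :
    ∃ x : Cfsg.GolayPt, x ∉ Cfsg.Spor.squareDodecad ∧ g x = x := by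
  obtain ⟨⟨hg24, hD⟩, h0⟩ := hg
  have hD' : g • Spor.squareDodecad = Spor.squareDodecad := hD
  have h0' : g (some 0) = some 0 := h0
  have hmemD : ∀ x, g x ∈ Spor.squareDodecad ↔ x ∈ Spor.squareDodecad := by
    intro x
    have h2 : g • x ∈ g • Spor.squareDodecad ↔ x ∈ Spor.squareDodecad :=
      Finset.smul_mem_smul_finset_iff _
    rw [hD'] at h2
    exact h2
  have hne : g ≠ 1 := by
    rintro rfl
    rw [orderOf_one] at hord
    exact Nat.not_prime_one hord
  by_cases h12 : orderOf g ∣ 12
  · have hp : orderOf g = 2 ∨ orderOf g = 3 := by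
      have hle := Nat.le_of_dvd (by norm_num) h12
      generalize orderOf g = p at hord h12 hle
      interval_cases p <;> first | (left; rfl) | (right; rfl) | (exfalso; revert hord; decide) | (exfalso; revert h12; decide)
    rcases hp with hp | hp
    · have h2 : g * g = 1 := by rw [← sq, ← hp, pow_orderOf_eq_one]
      obtain ⟨hoct, -⟩ := inv_fix hg24 h2 hne h0'
      have hc := dodecad_octad_inter_cases D_dodecad hoct
      have h8 : (fixF g).card = 8 := hoct.2
      have hs := Finset.card_sdiff_add_card_inter (fixF g) Spor.squareDodecad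
      obtain ⟨x, hx⟩ := Finset.card_pos.mp (by omega : 0 < (fixF g \ Spor.squareDodecad).card)
      rw [Finset.mem_sdiff, mem_fixF] at hx
      exact ⟨x, hx.2, hx.1⟩
    · have h3 : g * g * g = 1 := by rw [← pow_three', ← hp, pow_orderOf_eq_one]
      obtain ⟨hcard, hno⟩ := ord3_fix hg24 h3 hne h0'
      by_contra hcon
      have hsub : fixF g ⊆ Spor.squareDodecad := by
        intro x hx
        by_contra hxD
        exact hcon ⟨x, hxD, mem_fixF.mp hx⟩
      obtain ⟨s, hs, hs5⟩ := Finset.exists_subset_card_eq (show 5 ≤ (fixF g).card by omega)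
      obtain ⟨o, ho, hso⟩ := exists_octad s hs5
      have hinv : g • o = o := inv5 hg24 ho hso hs (by omega)
      have hcases := dodecad_octad_inter_cases D_dodecad ho
      have h5le : 5 ≤ (o ∩ Spor.squareDodecad).card := by
        rw [← hs5]
        exact Finset.card_le_card (Finset.subset_inter hso (hs.trans hsub))
      have h6 : (o ∩ Spor.squareDodecad).card = 6 := by omega
      have hsub2 : o ∩ Spor.squareDodecad ⊆ fixF g := by
        intro q hq
        rw [mem_fixF]
        by_contra hgq
        have hq_s : q ∉ s := fun h => hgq (mem_fixF.mp (hs h))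
        have hgq_s : g q ∉ s := fun h => hgq (g.injective (mem_fixF.mp (hs h)))
        have hgq_mem : g q ∈ o ∩ Spor.squareDodecad := by
          rw [Finset.mem_inter] at hq ⊢
          refine ⟨?_, (hmemD q).mpr hq.2⟩
          have : g • q ∈ g • o := Finset.smul_mem_smul_finset hq.1
          rw [hinv] at this
          exact this
        have hsub3 : insert q (insert (g q) s) ⊆ o ∩ Spor.squareDodecad := by
          intro y hy
          rw [Finset.mem_insert, Finset.mem_insert] at hy
          rcases hy with rfl | rfl | hy
          · exact hq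
          · exact hgq_mem
          · exact Finset.subset_inter hso (hs.trans hsub) hy
        have hc7 : (insert q (insert (g q) s)).card = 7 := by
          rw [Finset.card_insert_of_notMem, Finset.card_insert_of_notMem hgq_s, hs5]
          rw [Finset.mem_insert, not_or]
          exact ⟨fun e => hgq e.symm, hq_s⟩
        have := Finset.card_le_card hsub3
        omega
      have heq : o ∩ Spor.squareDodecad = fixF g :=
        Finset.eq_of_subset_of_card_le hsub2 (by omega)
      exact hno ⟨o, ho, heq ▸ Finset.inter_subset_left⟩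
  · haveI : Fact (orderOf g).Prime := ⟨hord⟩
    have hσ : (g.subtypePerm (p := fun x => x ∉ Spor.squareDodecad)
        (fun x => not_congr (hmemD x))) ^ (orderOf g) ^ 1 = 1 := by
      rw [pow_one, Equiv.Perm.subtypePerm_pow]
      apply Equiv.ext
      intro a
      apply Subtype.ext
      simp [pow_orderOf_eq_one]
    have hcard : Fintype.card {x // x ∉ Spor.squareDodecad} = 12 := by
      rw [Fintype.card_subtype_compl, Fintype.card_coe, D_dodecad.2, card_golayPt]
    obtain ⟨a, ha⟩ := Equiv.Perm.exists_fixed_point_of_prime (by rw [hcard]; exact h12) hσ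
    exact ⟨a.1, a.2, congrArg Subtype.val ha⟩


end Cfsg.Agent.S5522
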