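import Cfsg.Statements.S5596
import Mathlib
import Cfsg.Agent.S5595
import Cfsg.Agent.Lib.Helper5.LargeEx
import Cfsg.Agent.Lib.Helper5.LargeEx2

set_option autoImplicit false
open Cfsg

namespace Cfsg.Agent.S5596

open Cfsg.Agent.S5595 Cfsg.Agent.Lib.Helper5.LargeEx

/-- Setting: `z` is an involution of the finite group `G`; for each element `x`, `Q x` is the largest normal 2-subgroup of the centralizer of `x`; `Q z` is extraspecial and contains its own centralizer in `G`. A subgroup `U` is singular when it is elementary abelian, every non-identity element of `U` is conjugate to `z`, and any two non-identity elements `u`, `v` of `U` are orthogonal (`v ∈ Q u`). Write `QU` for the intersection of the `Q u` and `LU` for the join of the `Q u` over the non-identity `u` in `U`. If `U` is singular of order `2 ^ n` with `n ≥ 2`, then `U ≤ QU ≤ LU`, `LU` normalizes `U`, and `LU` induces on `U` its full automorphism group (the general linear group of dimension `n` over the field with two elements): every automorphism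 of `U` is conjugation by some element of `LU`. -/
theorem result {G : Type*} [Group G] [Finite G]
    (Q : G → Subgroup G)
    (hQ : ∀ x : G, Q x = (Cfsg.pCore 2 ↥(Subgroup.centralizer ({x} : Set G))).map (Subgroup.centralizer ({x} : Set G)).subtype)
    (z : G) (hz : orderOf z = 2) (hE : Cfsg.IsExtraspecial 2 ↥(Q z))
    (hC : Subgroup.centralizer ((Q z : Subgroup G) : Set G) ≤ Q z)
    (U : Subgroup G) (hU2 : ∀ u ∈ U, u * u = 1)
    (hS : ∀ u ∈ U, u ≠ 1 → ∃ g : G, g * z * g⁻¹ = u)
    (hO : ∀ u ∈ U, ∀ v ∈ U, u ≠ 1 → v ≠ 1 → v ∈ Q u)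
    (QU LU : Subgroup G) (hQU : QU = ⨅ u ∈ ((U : Set G) \ {1}), Q u) (hLU : LU = ⨆ u ∈ ((U : Set G) \ {1}), Q u)
    (n : ℕ) (hn : 2 ≤ n) (hcard : Nat.card ↥U = 2 ^ n) :
    U ≤ QU ∧ QU ≤ LU ∧ LU ≤ Subgroup.normalizer (U : Set G) ∧
      ∀ φ : ↥U ≃* ↥U, ∃ g ∈ LU, ∀ u : ↥U, g * (u : G) * g⁻¹ = ((φ u : ↥U) : G) := by
  classical
  obtain rfl : Q = fun y => O2C y := funext hQ
  dsimp only at hE hC hO hQU hLU ⊢
  have hG := good_z z hz hE hC
  have hGu : ∀ u ∈ U, u ≠ 1 → Good (O2C u) u := by
    intro u hu hu1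
    obtain ⟨g, hg⟩ := hS u hu hu1
    exact hg ▸ good_conj z g hG
  have hUQ : ∀ u ∈ U, u ≠ 1 → U ≤ O2C u := by
    intro u hu hu1 v hv
    by_cases hv1 : v = 1
    · rw [hv1]; exact one_mem _
    · exact hO u hu v hv hu1 hv1
  have hQUQ : ∀ u ∈ U, u ≠ 1 → QU ≤ O2C u := by
    intro u hu hu1
    rw [hQU]
    exact iInf₂_le u ⟨hu, fun h => hu1 (Set.mem_singleton_iff.mp h)⟩
  have hQLU : ∀ u ∈ U, u ≠ 1 → O2C u ≤ LU := by
    intro u hu hu1
    rw [hLU]
    exact le_iSup₂ (f := fun u (_ : u ∈ (U : Set G) \ {1}) => O2C u) u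
      ⟨hu, fun h => hu1 (Set.mem_singleton_iff.mp h)⟩
  have hUinv : ∀ a ∈ U, a⁻¹ = a := fun a ha => inv_eq_of_mul_eq_one_right (hU2 a ha)
  have hUcomm : ∀ a ∈ U, ∀ b ∈ U, a * b = b * a := by
    intro a ha b hb
    have h1 := hUinv (a * b) (U.mul_mem ha hb)
    rw [mul_inv_rev, hUinv a ha, hUinv b hb] at h1
    exact h1.symm
  -- a non-identity element
  obtain ⟨u₀, hu₀, hu₀1⟩ : ∃ u₀ ∈ U, u₀ ≠ 1 := by
    by_contra hno
    push Not at hno
    have hbot : U = ⊥ := by
      rw [eq_bot_iff]; intro u hu; exact Subgroup.mem_bot.mpr (hno u hu)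
    rw [hbot, Subgroup.card_bot] at hcard
    have : 2 ^ 2 ≤ 2 ^ n := Nat.pow_le_pow_right (by norm_num) hn
    omega
  have c1 : U ≤ QU := by
    rw [hQU]
    exact le_iInf₂ fun u hu => hUQ u hu.1 (fun h => hu.2 (Set.mem_singleton_iff.mpr h))
  have c2 : QU ≤ LU := le_trans (hQUQ u₀ hu₀ hu₀1) (hQLU u₀ hu₀ hu₀1)
  have hstab : LU ≤ stabSub U := by
    rw [hLU]
    refine iSup₂_le fun u hu => ?_
    have hu1 : u ≠ 1 := fun h => hu.2 (Set.mem_singleton_iff.mpr h)
    obtain ⟨-, -, -, -, hA2, -, -⟩ := hGu u hu.1 hu1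
    have key : ∀ g ∈ O2C u, ∀ v ∈ U, g * v * g⁻¹ ∈ U := by
      intro g hg v hv
      rcases hA2 g hg v (hUQ u hu.1 hu1 hv) with h | h
      · rw [mul_inv_eq_one.mp h]; exact hv
      · rw [mul_inv_eq_iff_eq_mul.mp h]; exact U.mul_mem hu.1 hv
    intro g hg v hv
    refine ⟨key g hg v hv, ?_⟩
    have := key g⁻¹ (inv_mem hg) v hv
    rwa [inv_inv] at this
  have c3 : LU ≤ Subgroup.normalizer (U : Set G) := by
    intro g hg
    rw [Subgroup.mem_normalizer_iff]
    intro h
    constructor
    · intro hh; exact ((hstab hg) h hh).1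
    · intro hh
      have := ((hstab hg) _ hh).2
      have e : g⁻¹ * (g * h * g⁻¹) * g = h := by group
      rwa [e] at this
  refine ⟨c1, c2, c3, ?_⟩
  -- main induction
  have main : ∀ l : List ↥U, ∀ φ : ↥U ≃* ↥U, ∃ g ∈ LU, ∀ a ∈ l,
      g * (a : G) * g⁻¹ = ((φ a : ↥U) : G) := by
    intro l
    induction l with
    | nil => intro φ; exact ⟨1, one_mem _, by simp⟩
    | cons a l' ih =>
      intro φ
      obtain ⟨g₀, hg₀, hg₀l⟩ := ih φ
      obtain ⟨W₀, hW₀def⟩ : ∃ W₀ : Subgroup G,
        W₀ = Subgroup.closure {t : G | t ∈ l'.map (fun a' : ↥U => (a' : G))} := ⟨_, rfl⟩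
      have hlU : ∀ t ∈ l'.map (fun a' : ↥U => (a' : G)), t ∈ U := by
        intro t ht
        obtain ⟨a', -, rfl⟩ := List.mem_map.mp ht
        exact a'.2
      have hW₀U : W₀ ≤ U := by
        rw [hW₀def, Subgroup.closure_le]
        intro t ht
        exact hlU t ht
      have hlW : ∀ t ∈ l'.map (fun a' : ↥U => (a' : G)), t ∈ W₀ := by
        intro t ht
        rw [hW₀def]; exact Subgroup.subset_closure ht
      -- agreement on W₀
      let K₁ : Subgroup G :=
        { carrier := {t | ∃ h : t ∈ U, g₀ * t * g₀⁻¹ = ((φ ⟨t, h⟩ : ↥U) : G)}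
          one_mem' := by
            refine ⟨U.one_mem, ?_⟩
            have : (⟨1, U.one_mem⟩ : ↥U) = 1 := rfl
            rw [this, map_one]; simp
          mul_mem' := by
            rintro s t ⟨hs, hs'⟩ ⟨ht, ht'⟩
            refine ⟨U.mul_mem hs ht, ?_⟩
            have : (⟨s * t, U.mul_mem hs ht⟩ : ↥U) = ⟨s, hs⟩ * ⟨t, ht⟩ := rfl
            rw [this, map_mul, Subgroup.coe_mul, ← hs', ← ht']
            group
          inv_mem' := by
            rintro s ⟨hs, hs'⟩
            refine ⟨U.inv_mem hs, ?_⟩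
            have : (⟨s⁻¹, U.inv_mem hs⟩ : ↥U) = (⟨s, hs⟩ : ↥U)⁻¹ := rfl
            rw [this, map_inv, Subgroup.coe_inv, ← hs']
            group }
      have hagree : ∀ t ∈ W₀, ∃ h : t ∈ U, g₀ * t * g₀⁻¹ = ((φ ⟨t, h⟩ : ↥U) : G) := by
        have hle : W₀ ≤ K₁ := by
          rw [hW₀def, Subgroup.closure_le]
          intro t ht
          obtain ⟨a', ha', rfl⟩ := List.mem_map.mp ht
          exact ⟨a'.2, hg₀l a' ha'⟩
        intro t ht
        exact hle ht
      by_cases haW : (a : G) ∈ W₀
      · refine ⟨g₀, hg₀, ?_⟩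
        intro a' ha'
        rcases List.mem_cons.mp ha' with rfl | h
        · obtain ⟨h, h'⟩ := hagree _ haW
          exact h'
        · exact hg₀l a' h
      · have hbU : g₀⁻¹ * ((φ a : ↥U) : G) * g₀ ∈ U := ((hstab hg₀) _ (φ a).2).2
        have hbW : g₀⁻¹ * ((φ a : ↥U) : G) * g₀ ∉ W₀ := by
          intro hb
          obtain ⟨h, h'⟩ := hagree _ hb
          have e : g₀ * (g₀⁻¹ * ((φ a : ↥U) : G) * g₀) * g₀⁻¹ = ((φ a : ↥U) : G) := by group
          rw [e] at h'
          have h2 : φ a = φ ⟨_, h⟩ := Subtype.ext h'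
          have h3 : a = ⟨_, h⟩ := φ.injective h2
          apply haW
          rw [h3]; exact hb
        by_cases hab : (a : G) = g₀⁻¹ * ((φ a : ↥U) : G) * g₀
        · refine ⟨g₀, hg₀, ?_⟩
          intro a' ha'
          rcases List.mem_cons.mp ha' with rfl | h
          · rw [hab]; group
          · exact hg₀l a' h
        · obtain ⟨b, hbdef⟩ : ∃ b : G, b = g₀⁻¹ * ((φ a : ↥U) : G) * g₀ := ⟨_, rfl⟩
          rw [← hbdef] at hbU hbW hab
          have haU : (a : G) ∈ U := a.2
          have hu1 : (a : G) * b ≠ 1 := by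
            intro h
            apply hab
            have := eq_inv_of_mul_eq_one_left h
            rw [hUinv b hbU] at this
            exact this
          have huU : (a : G) * b ∈ U := U.mul_mem haU hbU
          have hua : (a : G) * b * (a : G) = b := by
            rw [hUcomm _ haU b hbU, mul_assoc, hU2 _ haU, mul_one]
          have hGood := hGu _ huU hu1
          have hex : ∃ c ∈ O2C ((a : G) * b), (∀ t ∈ l'.map (fun a' : ↥U => (a' : G)), c * t = t * c)
              ∧ (a : G) * c ≠ c * (a : G) := by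
            by_contra hno
            push Not at hno
            have h1 := dc_list (O2C ((a : G) * b)) _ hGood (l'.map (fun a' : ↥U => (a' : G)))
              (a : G) (hUQ _ huU hu1 haU) (fun t ht => hUQ _ huU hu1 (hlU t ht)) hno
            let K₂ : Subgroup G :=
              { carrier := {t | t ∈ U ∧ (t ∈ W₀ ∨ (a : G) * b * t ∈ W₀)}
                one_mem' := ⟨U.one_mem, Or.inl W₀.one_mem⟩
                mul_mem' := by
                  rintro s t ⟨hs, hs'⟩ ⟨ht, ht'⟩
                  refine ⟨U.mul_mem hs ht, ?_⟩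
                  rcases hs' with hs' | hs' <;> rcases ht' with ht' | ht'
                  · exact Or.inl (W₀.mul_mem hs' ht')
                  · right
                    have : (a : G) * b * (s * t) = s * ((a : G) * b * t) := by
                      rw [← mul_assoc, hUcomm _ huU s hs, mul_assoc]
                    rw [this]; exact W₀.mul_mem hs' ht'
                  · right
                    rw [← mul_assoc]; exact W₀.mul_mem hs' ht'
                  · left
                    have : s * t = ((a : G) * b * s) * ((a : G) * b * t) := by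
                      have e1 : ((a : G) * b * s) * ((a : G) * b * t)
                          = ((a : G) * b) * (s * ((a : G) * b)) * t := by group
                      rw [e1, hUcomm s hs _ huU, ← mul_assoc, hU2 _ huU, one_mul]
                    rw [this]; exact W₀.mul_mem hs' ht'
                inv_mem' := by
                  rintro s ⟨hs, hs'⟩
                  rw [hUinv s hs]; exact ⟨hs, hs'⟩ }
            have hle : Subgroup.closure (insert ((a : G) * b)
                {t | t ∈ l'.map (fun a' : ↥U => (a' : G))}) ≤ K₂ := by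
              rw [Subgroup.closure_le]
              rintro t (rfl | ht)
              · exact ⟨huU, Or.inr (by rw [hU2 _ huU]; exact W₀.one_mem)⟩
              · exact ⟨hlU t ht, Or.inl (hlW t ht)⟩
            rcases (hle h1).2 with h | h
            · exact haW h
            · rw [hua] at h; exact hbW h
          obtain ⟨c, hc, hcl, hca⟩ := hex
          obtain ⟨-, -, -, -, hA2, -, -⟩ := hGood
          have hcab : c * (a : G) * c⁻¹ = b := by
            rcases hA2 c hc (a : G) (hUQ _ huU hu1 haU) with h | h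
            · exact absurd (comm_of_eq_one h).symm hca
            · rw [mul_inv_eq_iff_eq_mul.mp h, hua]
          refine ⟨g₀ * c, LU.mul_mem hg₀ (hQLU _ huU hu1 hc), ?_⟩
          intro a' ha'
          rcases List.mem_cons.mp ha' with rfl | h
          · calc g₀ * c * (a' : G) * (g₀ * c)⁻¹ = g₀ * (c * (a' : G) * c⁻¹) * g₀⁻¹ := by group
              _ = g₀ * b * g₀⁻¹ := by rw [hcab]
              _ = ((φ a' : ↥U) : G) := by rw [hbdef]; group
          · have hct := hcl (a' : G) (List.mem_map.mpr ⟨a', h, rfl⟩)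
            calc g₀ * c * (a' : G) * (g₀ * c)⁻¹ = g₀ * (c * (a' : G) * c⁻¹) * g₀⁻¹ := by group
              _ = g₀ * (a' : G) * g₀⁻¹ := by rw [hct, mul_inv_cancel_right]
              _ = ((φ a' : ↥U) : G) := hg₀l a' h
  intro φ
  haveI : Fintype ↥U := Fintype.ofFinite _
  obtain ⟨g, hg, hgl⟩ := main (Finset.univ : Finset ↥U).toList φ
  exact ⟨g, hg, fun u => hgl u (Finset.mem_toList.mpr (Finset.mem_univ u))⟩

end Cfsg.Agent.S5596
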