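import Cfsg.Statements.S5597
import Mathlib
import Cfsg.Agent.S5595
import Cfsg.Agent.Lib.Helper5.LargeEx

set_option autoImplicit false
open Cfsg

namespace Cfsg.Agent.S5597

open Cfsg.Agent.S5595 Cfsg.Agent.Lib.Helper5.LargeEx

/-- Setting: `z` is an involution of the finite group `G`; for each element `x`, `Q x` is the largest normal 2-subgroup of the centralizer of `x`; `Q z` is extraspecial and contains its own centralizer in `G`. A subgroup `U` is singular when it is elementary abelian, every non-identity element of `U` is conjugate to `z`, and any two non-identity elements `u`, `v` of `U` are orthogonal (`v ∈ Q u`). Write `QU` for the intersection of the `Q u` and `LU` for the join of the `Q u` over the non-identity `u` in `U`. If `U` is a non-trivial singular subgroup, then `LU` acts trivially on `QU / U` (every commutator of an element of `LU` with an element of `QU` lies in `U`), and for every `x` in `QU` outside `U` the centralizer of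 `U` in `LU` permutes the coset `x U` transitively: each `x u` with `u ∈ U` is a conjugate of `x` by an element of `LU` centralizing `U`. -/
theorem result {G : Type*} [Group G] [Finite G]
    (Q : G → Subgroup G)
    (hQ : ∀ x : G, Q x = (Cfsg.pCore 2 ↥(Subgroup.centralizer ({x} : Set G))).map (Subgroup.centralizer ({x} : Set G)).subtype)
    (z : G) (hz : orderOf z = 2) (hE : Cfsg.IsExtraspecial 2 ↥(Q z))
    (hC : Subgroup.centralizer ((Q z : Subgroup G) : Set G) ≤ Q z)
    (U : Subgroup G) (hU2 : ∀ u ∈ U, u * u = 1)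
    (hS : ∀ u ∈ U, u ≠ 1 → ∃ g : G, g * z * g⁻¹ = u)
    (hO : ∀ u ∈ U, ∀ v ∈ U, u ≠ 1 → v ≠ 1 → v ∈ Q u)
    (QU LU : Subgroup G) (hQU : QU = ⨅ u ∈ ((U : Set G) \ {1}), Q u) (hLU : LU = ⨆ u ∈ ((U : Set G) \ {1}), Q u)
    (hU : U ≠ ⊥) :
    (∀ g ∈ LU, ∀ x ∈ QU, g * x * g⁻¹ * x⁻¹ ∈ U) ∧
      ∀ x ∈ QU, x ∉ U → ∀ u ∈ U, ∃ g ∈ LU ⊓ Subgroup.centralizer (U : Set G), g * x * g⁻¹ = x * u := by
  classical
  obtain rfl : Q = fun y => O2C y := funext hQ
  dsimp only at hE hC hO hQU hLU ⊢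
  have hG := good_z z hz hE hC
  have hGu : ∀ u ∈ U, u ≠ 1 → Good (O2C u) u := by
    intro u hu hu1
    obtain ⟨g, hg⟩ := hS u hu hu1
    exact hg ▸ good_conj z g hG
  have hUQ : ∀ u ∈ U, u ≠ 1 → U ≤ O2C u := by
    intro u hu hu1 v hv
    by_cases hv1 : v = 1
    · rw [hv1]; exact one_mem _
    · exact hO u hu v hv hu1 hv1
  have hQUQ : ∀ u ∈ U, u ≠ 1 → QU ≤ O2C u := by
    intro u hu hu1
    rw [hQU]
    exact iInf₂_le u ⟨hu, fun h => hu1 (Set.mem_singleton_iff.mp h)⟩
  have hQLU : ∀ u ∈ U, u ≠ 1 → O2C u ≤ LU := by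
    intro u hu hu1
    rw [hLU]
    exact le_iSup₂ (f := fun u (_ : u ∈ (U : Set G) \ {1}) => O2C u) u
      ⟨hu, fun h => hu1 (Set.mem_singleton_iff.mp h)⟩
  -- generators act
  have hgen : ∀ u ∈ U, u ≠ 1 → ∀ g ∈ O2C u, (∀ v ∈ U, g * v * g⁻¹ ∈ U) ∧
      (∀ x ∈ QU, g * x * g⁻¹ * x⁻¹ ∈ U) := by
    intro u hu hu1 g hg
    obtain ⟨-, -, -, -, hA2, -, -⟩ := hGu u hu hu1
    constructor
    · intro v hv
      rcases hA2 g hg v (hUQ u hu hu1 hv) with h | h
      · rw [mul_inv_eq_one.mp h]; exact hv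
      · rw [mul_inv_eq_iff_eq_mul.mp h]; exact U.mul_mem hu hv
    · intro x hx
      rcases hA2 g hg x (hQUQ u hu hu1 hx) with h | h
      · rw [h]; exact U.one_mem
      · rw [h]; exact hu
  let M : Subgroup G :=
    { carrier := {g | (∀ v ∈ U, g * v * g⁻¹ ∈ U ∧ g⁻¹ * v * g ∈ U) ∧
        (∀ x ∈ QU, g * x * g⁻¹ * x⁻¹ ∈ U ∧ g⁻¹ * x * g * x⁻¹ ∈ U)}
      one_mem' := by
        constructor
        · intro v hv; simp [hv]
        · intro x _; simp [U.one_mem]
      mul_mem' := by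
        rintro a b ⟨ha1, ha2⟩ ⟨hb1, hb2⟩
        constructor
        · intro v hv
          constructor
          · have : a * b * v * (a * b)⁻¹ = a * (b * v * b⁻¹) * a⁻¹ := by group
            rw [this]; exact (ha1 _ (hb1 v hv).1).1
          · have : (a * b)⁻¹ * v * (a * b) = b⁻¹ * (a⁻¹ * v * a) * b := by group
            rw [this]; exact (hb1 _ (ha1 v hv).2).2
        · intro x hx
          constructor
          · have : a * b * x * (a * b)⁻¹ * x⁻¹
                = a * (b * x * b⁻¹ * x⁻¹) * a⁻¹ * (a * x * a⁻¹ * x⁻¹) := by group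
            rw [this]; exact U.mul_mem (ha1 _ (hb2 x hx).1).1 (ha2 x hx).1
          · have : (a * b)⁻¹ * x * (a * b) * x⁻¹
                = b⁻¹ * (a⁻¹ * x * a * x⁻¹) * b * (b⁻¹ * x * b * x⁻¹) := by group
            rw [this]; exact U.mul_mem (hb1 _ (ha2 x hx).2).2 (hb2 x hx).2
      inv_mem' := by
        rintro a ⟨ha1, ha2⟩
        constructor
        · intro v hv
          rw [inv_inv]; exact ⟨(ha1 v hv).2, (ha1 v hv).1⟩
        · intro x hx
          rw [inv_inv]; exact ⟨(ha2 x hx).2, (ha2 x hx).1⟩ }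
  have hLM : LU ≤ M := by
    rw [hLU]
    refine iSup₂_le fun u hu => ?_
    have hu1 : u ≠ 1 := fun h => hu.2 (Set.mem_singleton_iff.mpr h)
    intro g hg
    have h1 := hgen u hu.1 hu1 g hg
    have h2 := hgen u hu.1 hu1 g⁻¹ (inv_mem hg)
    simp only [inv_inv] at h2
    exact ⟨fun v hv => ⟨h1.1 v hv, h2.1 v hv⟩, fun x hx => ⟨h1.2 x hx, h2.2 x hx⟩⟩
  refine ⟨fun g hg x hx => ((hLM hg).2 x hx).1, ?_⟩
  intro x hx hxU u hu
  by_cases hu1 : u = 1
  · exact ⟨1, one_mem _, by rw [hu1]; simp⟩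
  · have hGood := hGu u hu hu1
    have hxQ : x ∈ O2C u := hQUQ u hu hu1 hx
    have hex : ∃ c ∈ O2C u, (∀ t ∈ U, c * t = t * c) ∧ x * c ≠ c * x := by
      by_contra hno
      push Not at hno
      exact hxU (dc_subgroup (O2C u) u hGood U (hUQ u hu hu1) hu x hxQ hno)
    obtain ⟨c, hc, hcU, hcx⟩ := hex
    obtain ⟨-, -, -, hAz, hA2, -, -⟩ := hGood
    refine ⟨c, ⟨hQLU u hu hu1 hc, ?_⟩, ?_⟩
    · exact Subgroup.mem_centralizer_iff.mpr (fun t ht => (hcU t ht).symm)
    · rcases hA2 c hc x hxQ with h | h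
      · exact absurd (comm_of_eq_one h).symm hcx
      · rw [mul_inv_eq_iff_eq_mul.mp h]
        exact (hAz x hxQ).symm

end Cfsg.Agent.S5597
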