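import Cfsg.Statements.S5598
import Mathlib
import Cfsg.Agent.S5595
import Cfsg.Agent.Lib.Helper5.LargeEx

set_option autoImplicit false
open Cfsg

namespace Cfsg.Agent.S5598

open Cfsg.Agent.S5595 Cfsg.Agent.Lib.Helper5.LargeEx

/-- Setting: `z` is an involution of the finite group `G`; for each element `x`, `Q x` is the largest normal 2-subgroup of the centralizer of `x`; `Q z` is extraspecial and contains its own centralizer in `G`. A subgroup `U` is singular when it is elementary abelian, every non-identity element of `U` is conjugate to `z`, and any two non-identity elements `u`, `v` of `U` are orthogonal (`v ∈ Q u`). Write `QU` for the intersection of the `Q u` and `LU` for the join of the `Q u` over the non-identity `u` in `U`. If the singular subgroup `U` is generated by a set `T` of non-identity elements, then `QU` is already the intersection of the `Q t` over `t ∈ T`. -/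
theorem result {G : Type*} [Group G] [Finite G]
    (Q : G → Subgroup G)
    (hQ : ∀ x : G, Q x = (Cfsg.pCore 2 ↥(Subgroup.centralizer ({x} : Set G))).map (Subgroup.centralizer ({x} : Set G)).subtype)
    (z : G) (hz : orderOf z = 2) (hE : Cfsg.IsExtraspecial 2 ↥(Q z))
    (hC : Subgroup.centralizer ((Q z : Subgroup G) : Set G) ≤ Q z)
    (U : Subgroup G) (hU2 : ∀ u ∈ U, u * u = 1)
    (hS : ∀ u ∈ U, u ≠ 1 → ∃ g : G, g * z * g⁻¹ = u)
    (hO : ∀ u ∈ U, ∀ v ∈ U, u ≠ 1 → v ≠ 1 → v ∈ Q u)
    (QU LU : Subgroup G) (hQU : QU = ⨅ u ∈ ((U : Set G) \ {1}), Q u) (hLU : LU = ⨆ u ∈ ((U : Set G) \ {1}), Q u)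
    (T : Set G) (hT : Subgroup.closure T = U) (hT1 : (1 : G) ∉ T) :
    QU = ⨅ t ∈ T, Q t := by
  classical
  obtain rfl : Q = fun y => O2C y := funext hQ
  dsimp only at hE hC hO hQU hLU ⊢
  have hG := good_z z hz hE hC
  have hTU : ∀ t ∈ T, t ∈ U := fun t ht => hT ▸ Subgroup.subset_closure ht
  rw [hQU]
  apply le_antisymm
  · refine le_iInf₂ fun t ht => ?_
    exact iInf₂_le t ⟨hTU t ht, fun h => hT1 (by rwa [Set.mem_singleton_iff.mp h] at ht)⟩
  · refine le_iInf₂ fun u hu => ?_
    have huU : u ∈ Subgroup.closure T := hT ▸ hu.1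
    have hu1 : u ≠ 1 := fun h => hu.2 (Set.mem_singleton_iff.mpr h)
    have key : ∀ v (hv : v ∈ Subgroup.closure T), v ≠ 1 → (⨅ t ∈ T, O2C t) ≤ O2C v := by
      intro v hv
      induction hv using Subgroup.closure_induction with
      | mem t ht => intro _; exact iInf₂_le t ht
      | one => intro h; exact absurd rfl h
      | mul a b ha hb iha ihb =>
        intro hab
        have haU : a ∈ U := hT ▸ ha
        have hbU : b ∈ U := hT ▸ hb
        by_cases ha1 : a = 1
        · rw [ha1, one_mul]; exact ihb (by rwa [ha1, one_mul] at hab)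
        by_cases hb1 : b = 1
        · rw [hb1, mul_one]; exact iha ha1
        have hne : a ≠ b := by
          intro h; apply hab; rw [h]; exact hU2 b hbU
        obtain ⟨g, hg⟩ := hS b hbU hb1
        have hGb : Good (O2C b) b := hg ▸ good_conj z g hG
        have h1 := inter_le a b hGb ha1 hne (hO b hbU a haU hb1 ha1)
          (hO (a * b) (U.mul_mem haU hbU) b hbU hab hb1)
        exact le_trans (le_inf (iha ha1) (ihb hb1)) h1
      | inv a ha iha =>
        intro h
        have haU : a ∈ U := hT ▸ ha
        have hinv : a⁻¹ = a := inv_eq_of_mul_eq_one_right (hU2 a haU)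
        rw [hinv] at h ⊢
        exact iha h
    exact key u huU hu1

end Cfsg.Agent.S5598
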