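import Cfsg.Statements.S5616
import Mathlib
import Cfsg.Agent.Lib.Helper28.M24Stab

set_option autoImplicit false
open scoped Pointwise
open Cfsg

namespace Cfsg.Agent.S5616

open Cfsg.Agent.Lib.Helper3.Golay Cfsg.Agent.Lib.Helper3.Golay2
  Cfsg.Agent.Lib.Helper3.GolayM24 Cfsg.Agent.Lib.Helper3.Steiner
  Cfsg.Agent.Lib.Helper28.M24Trans Cfsg.Agent.Lib.Helper28.M24Six
  Cfsg.Agent.Lib.Helper28.M24Enum Cfsg.Agent.Lib.Helper28.M24Class
  Cfsg.Agent.Lib.Helper28.M24Mask Cfsg.Agent.Lib.Helper28.M24Sext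
  Cfsg.Agent.Lib.Helper28.M24Fix Cfsg.Agent.Lib.Helper28.Walk
  Cfsg.Agent.Lib.Helper28.M24Stab

def Y0 : Finset GolayPt := {pt 23, pt 0, pt 1}

def inv (Y : Finset GolayPt) (S : Finset (Finset GolayPt)) : ℕ :=
  (S.filter fun t => (t ∩ Y).Nonempty).card

theorem inv_smul (g : Equiv.Perm GolayPt) (Y : Finset GolayPt) (S : Finset (Finset GolayPt)) :
    inv (g • Y) (g • S) = inv Y S := by
  unfold inv
  have e : (g • S).filter (fun t => (t ∩ g • Y).Nonempty) =
      g • (S.filter fun t => (t ∩ Y).Nonempty) := by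
    ext t
    constructor
    · intro ht
      obtain ⟨ht1, ht2⟩ := Finset.mem_filter.mp ht
      obtain ⟨u, hu, rfl⟩ := Finset.mem_smul_finset.mp ht1
      rw [← Finset.smul_finset_inter, Finset.smul_finset_nonempty] at ht2
      exact Finset.smul_mem_smul_finset (Finset.mem_filter.mpr ⟨hu, ht2⟩)
    · intro ht
      obtain ⟨u, hu, rfl⟩ := Finset.mem_smul_finset.mp ht
      obtain ⟨hu1, hu2⟩ := Finset.mem_filter.mp hu
      refine Finset.mem_filter.mpr ⟨Finset.smul_mem_smul_finset hu1, ?_⟩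
      rw [← Finset.smul_finset_inter]
      exact hu2.smul_finset
  rw [e, Finset.card_smul_finset]

def fixY (F : ℕ → ℕ) : Bool :=
  [23, 0, 1].all (fun i => Nat.beq (F i) 23 || Nat.beq (F i) 0 || Nat.beq (F i) 1)

theorem fixY_sound (t : ℕ) (hv : vldB t = true) (_ : P t ∈ M24) (h : fixY (dig t) = true) :
    P t • Y0 = Y0 := by
  apply Finset.eq_of_subset_of_card_le
  · intro p hp
    obtain ⟨q, hq, rfl⟩ := Finset.mem_smul_finset.mp hp
    unfold fixY at h
    rw [List.all_eq_true] at h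
    have key : ∀ i ∈ [23, 0, 1], P t (pt i) ∈ Y0 := by
      intro i hi
      have hi24 : i < 24 := by revert i; decide
      have := h i hi
      rw [Bool.or_eq_true, Bool.or_eq_true] at this
      rw [isIdx_pt (isIdx_P hv) hi24]
      unfold Y0
      rcases this with (e | e) | e
      · rw [Nat.eq_of_beq_eq_true e]; simp
      · rw [Nat.eq_of_beq_eq_true e]; simp
      · rw [Nat.eq_of_beq_eq_true e]; simp
    unfold Y0 at hq
    simp only [Finset.mem_insert, Finset.mem_singleton] at hq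
    rcases hq with rfl | rfl | rfl
    · exact key 23 (by simp)
    · exact key 0 (by simp)
    · exact key 1 (by simp)
  · rw [Finset.card_smul_finset]

theorem trans_Y {Y : Finset GolayPt} (hY : Y.card = 3) : ∃ h ∈ M24, h • Y0 = Y := by
  obtain ⟨a, b, c, hab, hac, hbc, rfl⟩ := Finset.card_eq_three.mp hY
  obtain ⟨d, hd⟩ := exists_notMem ({a, b, c} : Finset GolayPt) (by rw [hY]; norm_num)
  obtain ⟨e, he⟩ := exists_notMem ({a, b, c, d} : Finset GolayPt) (by
    have := Finset.card_le_four (a := a) (b := b) (c := c) (d := d)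
    omega)
  simp only [Finset.mem_insert, Finset.mem_singleton, not_or] at hd he
  have hnd : [a, b, c, d, e].Nodup := by
    simp only [List.nodup_cons, List.mem_cons, List.not_mem_nil, or_false, not_or,
      List.nodup_nil, and_true, not_false_eq_true]
    exact ⟨⟨hab, hac, fun h => hd.1 h.symm, fun h => he.1 h.symm⟩,
      ⟨hbc, fun h => hd.2.1 h.symm, fun h => he.2.1 h.symm⟩,
      ⟨fun h => hd.2.2 h.symm, fun h => he.2.2.1 h.symm⟩, fun h => he.2.2.2 h.symm⟩
  obtain ⟨h, hh, e1, e2, e3, -, -⟩ := trans5 a b c d e hnd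
  refine ⟨h⁻¹, M24.inv_mem hh, ?_⟩
  rw [inv_smul_eq_iff, Finset.smul_finset_insert, Finset.smul_finset_insert,
    Finset.smul_finset_singleton]
  show Y0 = {h a, h b, h c}
  rw [e1, e2, e3]
  rfl

theorem filter3 {S : Finset (Finset GolayPt)} (hS : S ∈ sextets) {p₁ p₂ p₃ : GolayPt}
    {t₁ t₂ t₃ : Finset GolayPt} (h₁ : t₁ ∈ S) (m₁ : p₁ ∈ t₁) (h₂ : t₂ ∈ S) (m₂ : p₂ ∈ t₂)
    (h₃ : t₃ ∈ S) (m₃ : p₃ ∈ t₃) :
    S.filter (fun t => (t ∩ {p₁, p₂, p₃}).Nonempty) = {t₁, t₂, t₃} := by
  ext t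
  rw [Finset.mem_filter]
  simp only [Finset.mem_insert, Finset.mem_singleton]
  constructor
  · rintro ⟨ht, q, hq⟩
    rw [Finset.mem_inter] at hq
    obtain ⟨hq1, hq2⟩ := hq
    simp only [Finset.mem_insert, Finset.mem_singleton] at hq2
    have uniq : ∀ u ∈ S, q ∈ u → t = u := by
      intro u hu hqu
      by_contra hne
      exact Finset.disjoint_left.mp (sextet_disj hS ht hu hne) hq1 hqu
    rcases hq2 with rfl | rfl | rfl
    · exact Or.inl (uniq t₁ h₁ m₁)
    · exact Or.inr (Or.inl (uniq t₂ h₂ m₂))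
    · exact Or.inr (Or.inr (uniq t₃ h₃ m₃))
  · rintro (rfl | rfl | rfl)
    · exact ⟨h₁, p₁, Finset.mem_inter.mpr ⟨m₁, by simp⟩⟩
    · exact ⟨h₂, p₂, Finset.mem_inter.mpr ⟨m₂, by simp⟩⟩
    · exact ⟨h₃, p₃, Finset.mem_inter.mpr ⟨m₃, by simp⟩⟩

theorem x1_mem : ((2, 1, 0) : ℕ × ℕ × ℕ) ∈ sexIdx := mem_sexIdx.mpr (by decide)

theorem x2_mem : ((3, 2, 0) : ℕ × ℕ × ℕ) ∈ sexIdx := mem_sexIdx.mpr (by decide)

theorem x3_mem : ((4, 3, 2) : ℕ × ℕ × ℕ) ∈ sexIdx := mem_sexIdx.mpr (by decide)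

theorem inv1 : inv Y0 (sextetOf (tetF (2, 1, 0))) = 1 := by
  have hS := sextetOf_mem (card_tetF x1_mem)
  have ht : tetF (2, 1, 0) ∈ sextetOf (tetF (2, 1, 0)) := Finset.mem_insert_self _ _
  unfold inv Y0
  rw [filter3 hS ht ((mem_tetF x1_mem (by norm_num)).mpr (by simp)) ht
    ((mem_tetF x1_mem (by norm_num)).mpr (by simp)) ht
    ((mem_tetF x1_mem (by norm_num)).mpr (by simp))]
  simp

theorem inv2 : inv Y0 (sextetOf (tetF (3, 2, 0))) = 2 := by
  have hS := sextetOf_mem (card_tetF x2_mem)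
  have ht : tetF (3, 2, 0) ∈ sextetOf (tetF (3, 2, 0)) := Finset.mem_insert_self _ _
  obtain ⟨t', ht', m'⟩ := sextet_cover hS (pt 1)
  have hne : tetF (3, 2, 0) ≠ t' := by
    intro e
    rw [← e, mem_tetF x2_mem (by norm_num)] at m'
    simp at m'
  unfold inv Y0
  rw [filter3 hS ht ((mem_tetF x2_mem (by norm_num)).mpr (by simp)) ht
    ((mem_tetF x2_mem (by norm_num)).mpr (by simp)) ht' m']
  rw [Finset.insert_eq_of_mem (by simp), Finset.card_pair hne]

theorem inv3 : inv Y0 (sextetOf (tetF (4, 3, 2))) = 3 := by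
  have hS := sextetOf_mem (card_tetF x3_mem)
  have ht : tetF (4, 3, 2) ∈ sextetOf (tetF (4, 3, 2)) := Finset.mem_insert_self _ _
  obtain ⟨t₂, ht₂, m₂⟩ := sextet_cover hS (pt 0)
  obtain ⟨t₃, ht₃, m₃⟩ := sextet_cover hS (pt 1)
  have h12 : tetF (4, 3, 2) ≠ t₂ := by
    intro e
    rw [← e, mem_tetF x3_mem (by norm_num)] at m₂
    simp at m₂
  have h13 : tetF (4, 3, 2) ≠ t₃ := by
    intro e
    rw [← e, mem_tetF x3_mem (by norm_num)] at m₃
    simp at m₃
  have h23 : t₂ ≠ t₃ := by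
    intro e
    rw [← e] at m₃
    have ho := hS.2.2 _ ht _ ht₂ h12
    have hin : ∀ i ∈ [23, 4, 3, 2], pt i ∈ tetF (4, 3, 2) ∪ t₂ := by
      intro i hi
      have hi24 : i < 24 := by revert i; decide
      apply Finset.mem_union_left
      rw [mem_tetF x3_mem hi24]
      simp only [List.mem_cons, List.not_mem_nil, or_false] at hi
      exact hi
    have hO : tetF (4, 3, 2) ∪ t₂ = supp 2503 := by
      apply oct_unique ho
      intro f hf
      simp only [List.mem_cons, List.not_mem_nil, or_false] at hf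
      rcases hf with rfl | rfl | rfl | rfl | rfl
      · exact hin 23 (by simp)
      · exact Finset.mem_union_right _ m₂
      · exact Finset.mem_union_right _ m₃
      · exact hin 2 (by simp)
      · exact hin 3 (by simp)
    have h4 := hin 4 (by simp)
    rw [hO, mem_supp, idx_pt 4 (by norm_num)] at h4
    revert h4
    decide +kernel
  unfold inv Y0
  rw [filter3 hS ht ((mem_tetF x3_mem (by norm_num)).mpr (by simp)) ht₂ m₂ ht₃ m₃]
  exact Finset.card_eq_three.mpr ⟨_, _, _, h12, h13, h23, rfl⟩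

def tk : List (ℕ × ℕ) := [(58877427923480800807221428982304480, 111628760352014756111080794215061426713222493326772871756604683594819936224890281568), (973785762206149664045801958271397920, 29685003830743814518227516109336068206724296877213413110232737884099415841043227838), (13282826030501911442824619770986551, 120456691426976802814288913665763647804160407397011334451355046129377893138630692495)]

theorem tk_ok : ∀ t ∈ tk.map Prod.fst, vldB t = true ∧ P t ∈ stabP Y0 :=
  gens_ok Y0 fixY fixY_sound tk (by decide +kernel)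

def Ls_1 : ℕ := 0x50203040a081c101020904070816102020b0405081a103c20884150812100c208040c0826100820

def Fs_1 : ℕ := 0x5c8814d76f

def Ls_2 : ℕ := 0x2ca04941728923054834968ab82e305650352583dca302a70a84171809386430d860490135866b24ce252070206293358098806286a404441a0836a05cd0bda0a9cd3385440c8e1a358e586b2248416a0723160e35a016982c3066a0da604182d61e4b13d206a8cc588e203941a3436405ea0d101ad21038e4e0a0e192892585a40c1809142b386af1c5e1a48b688687059c18243068645054c039851505eb34a21a3d367010604d01b4dc8291e50ad01894727866602d47aa01599acc1c1a2acc14902270ce00b18b37b4e50304092014489a80d1cd8348e59a8d3bdc18104830cc209ca15880a281c702d413982c185e4051e2838306168e0d1819c82f48a9104040b3d8d585a90412083815601a70c1018940e282a92d5a020c2f502b18594172c0d1026c2d662b143510547052466a0d3286d34a921814305064c0c9019310f1850404d28ad234502b4014628b43128a6d09c609940a401c8045209b14f205072b10093176785c20308141433902c8045c38c011709491388061c12609030d0a0b50b47828e3ac81a4d6f525660a8c1ac10b106d1555406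9816481a41388193953831c70c9a168835929280cd21ad0291066e44da0494158028e041eb94033815ca055c0a30f2206b27490268c2f4862e2d520a241659dc20d5a1940041822625241b44f4302060598082c36abe6903102b48b6586c60d26458c293058b0ccc1b1c36906490d18083976811c311c41ac830185230a861b250d202700c5eda28348858925841b5433885c51c0e0ac812501cd618617251620229250605a80e182ab2d263b28e3106a90d1608b08a201cd3c9607a8543062a3d8c028c3220082059e399c1572a093c160a1c356a56603c41aa036486d34560170c31806ce4520188c2f72e90054e281c3382a6b054a09b92e605692bdc061816682ac1984093889286491b548b4c36204820c5899b014682726ce20a0814822290d460b5412881e8224c0abd9370630445c051435506aa228609b81680a8b0c4c1ad1159862b3c5c16942d4856701460ab4b5582501d061a10662026405080498949818935621a9c1658223055ab5a410182503cc83b2d45106ab0d4a1824723816304c608b0d62822705a867ac36ab1a802500b348f3850724166abc2e405880a8c3b4811502d2359a181410606a6150a18ac3458e840c58198c2b20e240562090814402b33da80b5250786d51cd00b303393de50354350814525e60a9013948f4050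20b5417b4304026a2b5819bc315aa250da0d3102c504e30ac80a8812302d15a0a041c0c5a2cf03ce47b02f400c503cc06986c2868e630a069c138b5e20523062434592930c481990314010204ce69340a482b144140730128bd470c4628100c2020a2c8609a81358ea60d0c5b1c08205820d86193db57824f03ca4290072016813c609bc0f396ac0ce2f79c0d1828a145606acb4485ee3186071453106a4094817a0b26016802060a3d5249e0f339215a4303058624041a8c2e28666149c06ac09182471b5407241620a0d03120628a7205e83b16089816101ec1944039815711650ca099240d28127024e383c0f602ce4b0e1aad2f582516d1e18a033605cc3c5e0b4411101ab4b140734139462d02440a4509206cd13060b40116020c50c40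

def Fs_2 : ℕ := 0x800000000000000000000000080000000000000000000000040000808000000000080110020000000001000000001800800410040c80003100000e80040a00100980000c809000a0000e00001012011810084082b01c0e40898287160802000a05124348044399454009844980601448158800000a41a0828d97626d0a72380d1a932208124006c483860d9f2210900ab481c2c4301f29f7084512822977ddce5fde74db3577c4fd19f983af5de2b6a7739e6f87f7befefbd6eef9efeefebfff7df7abffadfdfeafdeff6c7bb9e7ff7fdefff77ffd57ffffffffffffff

def Ls_3 : ℕ := 0x3945383d251c1cc7b84e49e914c5a7418b48bacc4bc62939b37364d45643a28f26125164a225905589e5154e29b505160e882dab3ad1d1828e3118a2abcf0611a6224629bc9580dcc4bcc3a41f3822ad339a649ccc59e0d1d185b146c28e30656486a84a292894520e5a916a3ece3da64aa0d492e0f6c5699346d51e0e2d62f80c53609272c1e46207648e8c5da0a9b553419681d986a94938ae4312cc57ac9472d49330c3628f588e506c96741cc818a0914d255249328a2b2a082ab58f49a933c165aa074689ec3d9cda248f6b20c4522b6ad1260dc62c9468a47589ab49ce03b28b061a4f139a5628938b247144a472d359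3127139636a451792b1645a9a347349eb233d25acd4a412b46da847ad0b41e9214e2e8b59271a283da8e9b5768b5462da2fb20d638ad1141c7834a8312a513d8ab3d73692241d68fac5b2625ca3d227b4c5583e4924cc58149559e2b4208389c6e59da83c8836a4f49be507cd87b30f6512d32c8828bd6d59eae5ca04ac934942c41d20b9c49241a6b3d5479c056796a62c522a30743962d2d0625944f51a6f54dcaab98c416b02c5c48a84a40aca14d44824b051ed03d1eba4d9381ad38d1e592cb5a15ed455cdb416f6269275a5079ccf596d01a0e394173492683ce2862cab4a2927d6685a4f6411cd5c9a7310493164c548a28357671a65252517b4928ba4a1250229055311251494941c568a6ab151239c95371a6824164934b5a4a6f45546830f5416903d22fb35957222e33945b3552399c6150c36b0ce38e4d65a67790766966c1d269ad17368eb3848c3aa490526d28d1c5ab0f618a724d5646b0b628ad31b14693cb2619ee1c0c26ac535a24f74e0b820e620e661d6658bd346a671840c3ac9f46a2681c503a34b24a22f63dc7940557a96a2ace39a054496b12d224b351679dee4b8827a89520eb05c9ebacdb59b2d592505b41d1735ec241a983136899a7330e2ad0ce20dcc129289c9d6521ab25268b45d1622671b502a488f5a6a4155a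8b458f589892c4c5a3915789ed14c628b95078ecd3ca0c7b9515920834d43ac55369568359cca3d8a20acf4526db48ee616881da8a8a8b0522c83d0e4518569b5472cce4a41ae50e48245a89c12b396b451c825a84e48e0b52d49a414a48ecc5b58a625073158913d24a28b5621ab1d1c693d5069a4a440e29a0af7162e4da916b131512d265582720737b2d37c1c37b05569eac245ea9a8d039a062d5c79c8ad189e51c5e3b2c8e509841a9279b8527b2ce2c9c3ab44e689c8134c2aa4d072567251e3aa913942d484d26b4d94691ec5a503918958924f4d60a9c9758a6d53c128b495391e90134e49b8aa28e2d5d504b28d66a66b15968a1495832713d92682d0e312514daaeac13470ec71d9cab3d5581a6f3b90793456ac2b464a2672c5670ec525209a8c50412a51b965a44568a2b43da70524b451ab414d8b8c06f712d12a8e48a876a928734103b3974812d224e449a9156160d65a4e824928962722d4681c967920a1d5c672d53836461314389cb56292612c6281cb6489692564da407669a5043483b1cd07a1e713d23b50f5691eb1c0a2a44af68e2c5bd67b513348a6f4d62273531835cd1a4e47292d38a6f1c98583516a21cd22d44728d4589ea29ca3939767a68d349e4aa930711e4155428284e49a0e6d272ab46c521ab5316a7b11492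a0a34a3062cc7312b38cda64a09391a72459849b8ea38da8241eca3151412b424169a184f316aa1c562a419681aa943dab39076ac6b03d5029c0907228b3da08a20f258ecf6bda5ac5d33124915aa9a9cb5716d21c8e58354c31649345286b174622af455edb310e592b285a4f8107368a2e42483b51726a6d5330c2b413389a0e1522669cb6609252558b6949281a88241e782cf180a261c943ab92f28ac624a27ac04f51e8b549c27b553732a93b0e3b4936a8ab41cda9acd318126f752494a0f658ded3d4e46b075812515da729c994499051b8e483d54288a41b549694747bacc2daa59b97328ed07d0e2ac5769aa2f759abb51b471271135828a4ae5222b34105b287062e45218a3a986a18aae1d189b187259a72145a33148e30e30739684904e62a4d5496a5188730e6b33986920ed516cf341637b994312921b106ac8f1419e8345e69399160a481d689a35567122a4ce0e9b59688d441ad22a305499528355639c4b2891661a4c371cd59ba6c4d5e9b55aa4162d35aaab4194999a82d166abcb59ca2e3a8e27b52d6224e2d0a3acd6f722af752238c1347b66c255e6a2cac41e93134e3b485538e511d2715a4cb416916d26eb38549aa84149e7aa8b3596d542d43ac1b351e8c25925698ad6126f5c9c8928ab39a6b4c182b4d7491dc834de6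9c0ef30a2e6458a8a4f14160e541e57355179daa252057a5107a5a944587b46156aad123d27ac8568158825a48924b36a28c34d868a05239166120c28bc5390e871c9c75144f69a4b22ca37309479a64138e5a28733966b549e8b50748aad5a51e4ab85158e0815169b20b37962f2d1ca9c556aad8a15102594928164f35589720ad49a2614126724ac5928f44607b24ef5220f14947abd6c39630359246149352547341449bc56599e71d6457b0d120a4c3d9ee8b0b6309e813dcd9356e62dc52524d7306c18a06235667a86c20a2e5c8a36a49138aab34d42b518e412691d9a382c55792cb4ce23a392c392c7249e3aad1662aac35507a4e0c58eb075a4b7350a41e4d24da730c56999a91d6648c17481a9265903aca2e389cc43123b49b2415c923cc492d34511e81d56aaa4745222d249c99414b48d05145aa934d370e2733127a384e48aca4b169b205678966230a28c0ac39acb2cd888a90d28a8b451abb526f6160d3c60f9b88f5aacb1564b9451441a051c5e8941d168a2a33149acc6b3896825522b1cb4922b37c183a3cf48b28939062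

def Fs_3 : ℕ := 0x400000000000008000000000000000000000000840084080000100000010000000000000000000004000000408200140001000400000000800000004000010000080000000400300000e800020000010a8080011800000411010000c48000000000000281010008300488011000000000103081060800000000000008080000028c2234881000a08ac222002080151301004117801971000442a8101c8c80400100cc14862c0140e0946000a32d0317150168280c244a810011822cec8505a43847ca8112014c532d0048403304591636223e120468d5c045ec887c2c7451938b0c113246322e8f0a0e652b2008398cc913a211b06c8815ea5f7958fbf1592775543f87a987187bc1a8af95c2916a6af0fff77212333243b1eff2b1aa63995fba2ff7356e583fefe0fa7327b7d6e7fff531d79fedcfebdffbfdd69bfff777f779aab6bffff7bbffbefdffcaff7fbfdfbfbfe9cbdbffebfefe7f79fff7ffcff7ffffff7efb7ffff3fffeffbeffff7fefffffffffffffffff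

theorem ws1 : walkOK (tk.map Prod.fst) relS okS 3 (decS Ls_1 21) (decN Fs_1 21 3) = true := by
  decide +kernel

theorem os1 : ∀ x ∈ decS Ls_1 21, ∀ y ∈ decS Ls_1 21,
    y ∈ sexIdx ∧ sextetOf (tetF y) ∈ MulAction.orbit ↥(stabP Y0) (sextetOf (tetF x)) :=
  walk_orbit' Y0 (tk.map Prod.fst) tk_ok (fun x => sextetOf (tetF x)) (fun x => x ∈ sexIdx) relS okS
    (fun _ => okS_iff.mp) relS_sound 3 (decS Ls_1 21) (decN Fs_1 21 3) ws1

theorem ws2 : walkOK (tk.map Prod.fst) relS okS 3 (decS Ls_2 630) (decN Fs_2 630 3) = true := by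
  decide +kernel

theorem os2 : ∀ x ∈ decS Ls_2 630, ∀ y ∈ decS Ls_2 630,
    y ∈ sexIdx ∧ sextetOf (tetF y) ∈ MulAction.orbit ↥(stabP Y0) (sextetOf (tetF x)) :=
  walk_orbit' Y0 (tk.map Prod.fst) tk_ok (fun x => sextetOf (tetF x)) (fun x => x ∈ sexIdx) relS okS
    (fun _ => okS_iff.mp) relS_sound 3 (decS Ls_2 630) (decN Fs_2 630 3) ws2

theorem ws3 : walkOK (tk.map Prod.fst) relS okS 3 (decS Ls_3 1120) (decN Fs_3 1120 3) = true := by
  decide +kernel

theorem os3 : ∀ x ∈ decS Ls_3 1120, ∀ y ∈ decS Ls_3 1120,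
    y ∈ sexIdx ∧ sextetOf (tetF y) ∈ MulAction.orbit ↥(stabP Y0) (sextetOf (tetF x)) :=
  walk_orbit' Y0 (tk.map Prod.fst) tk_ok (fun x => sextetOf (tetF x)) (fun x => x ∈ sexIdx) relS okS
    (fun _ => okS_iff.mp) relS_sound 3 (decS Ls_3 1120) (decN Fs_3 1120 3) ws3

theorem nds : nodupB codeS [decS Ls_1 21, decS Ls_2 630, decS Ls_3 1120].flatten 0 = true := by
  decide +kernel


theorem r1 : ((2, 1, 0) : ℕ × ℕ × ℕ) ∈ decS Ls_1 21 := by decide +kernel

theorem r2 : ((3, 2, 0) : ℕ × ℕ × ℕ) ∈ decS Ls_2 630 := by decide +kernel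

theorem r3 : ((4, 3, 2) : ℕ × ℕ × ℕ) ∈ decS Ls_3 1120 := by decide +kernel

theorem inv_orbit {S S' : Finset (Finset GolayPt)}
    (h : S' ∈ MulAction.orbit ↥(stabP Y0) S) : inv Y0 S' = inv Y0 S := by
  obtain ⟨g, rfl⟩ := h
  have hg := (mem_stabP.mp g.2).2
  have key : ∀ (σ : Equiv.Perm GolayPt), σ • Y0 = Y0 → inv Y0 (σ • S) = inv Y0 S := by
    intro σ hσ
    have := inv_smul σ Y0 S
    rw [hσ] at this
    exact this
  exact key _ hg

theorem cl1 : ∀ y ∈ decS Ls_1 21, inv Y0 (sextetOf (tetF y)) = 1 := fun y hy => by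
  rw [inv_orbit (os1 _ r1 y hy).2, inv1]

theorem cl2 : ∀ y ∈ decS Ls_2 630, inv Y0 (sextetOf (tetF y)) = 2 := fun y hy => by
  rw [inv_orbit (os2 _ r2 y hy).2, inv2]

theorem cl3 : ∀ y ∈ decS Ls_3 1120, inv Y0 (sextetOf (tetF y)) = 3 := fun y hy => by
  rw [inv_orbit (os3 _ r3 y hy).2, inv3]

theorem cover :
    [decS Ls_1 21, decS Ls_2 630, decS Ls_3 1120].flatten.Nodup ∧
    (∀ x ∈ [decS Ls_1 21, decS Ls_2 630, decS Ls_3 1120].flatten,
      ∀ y ∈ [decS Ls_1 21, decS Ls_2 630, decS Ls_3 1120].flatten,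
      sextetOf (tetF x) = sextetOf (tetF y) → x = y) ∧
    sextets = (fun x => sextetOf (tetF x)) ''
      {y | y ∈ [decS Ls_1 21, decS Ls_2 630, decS Ls_3 1120].flatten} := by
  apply cover_of_cert sextets (Set.toFinite _) (fun x => sextetOf (tetF x)) codeS
    (fun x => x ∈ sexIdx) (fun x x' hx hx' e => by rw [sextetOf_inj hx hx' e]) _ [21, 630, 1120]
  · intro L hL
    simp only [List.mem_cons, List.not_mem_nil, or_false] at hL
    rcases hL with h | h | h
    · rw [h]
      exact fun x hx => ⟨(os1 x hx x hx).1, sextetOf_mem (card_tetF (os1 x hx x hx).1)⟩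
    · rw [h]
      exact fun x hx => ⟨(os2 x hx x hx).1, sextetOf_mem (card_tetF (os2 x hx x hx).1)⟩
    · rw [h]
      exact fun x hx => ⟨(os3 x hx x hx).1, sextetOf_mem (card_tetF (os3 x hx x hx).1)⟩
  · exact (nodupB_sound codeS _ 0 nds).1
  · decide +kernel
  · rw [ncard_sextets]
    rfl

theorem which {S : Finset (Finset GolayPt)} (hS : S ∈ sextets) :
    (∃ y ∈ decS Ls_1 21, sextetOf (tetF y) = S) ∨ (∃ y ∈ decS Ls_2 630, sextetOf (tetF y) = S) ∨
    (∃ y ∈ decS Ls_3 1120, sextetOf (tetF y) = S) := by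
  rw [cover.2.2] at hS
  obtain ⟨y, hy, rfl⟩ := hS
  simp only [List.flatten_cons, List.flatten_nil, List.append_nil, List.mem_append,
    Set.mem_ofPred_eq] at hy
  rcases hy with hy | hy | hy
  · exact Or.inl ⟨y, hy, rfl⟩
  · exact Or.inr (Or.inl ⟨y, hy, rfl⟩)
  · exact Or.inr (Or.inr ⟨y, hy, rfl⟩)

theorem sub_flat {L : List (ℕ × ℕ × ℕ)}
    (hL : L ∈ [decS Ls_1 21, decS Ls_2 630, decS Ls_3 1120]) :
    L.Nodup ∧ ∀ x ∈ L, ∀ y ∈ L, sextetOf (tetF x) = sextetOf (tetF y) → x = y := by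
  have hsub : ∀ z ∈ L, z ∈ [decS Ls_1 21, decS Ls_2 630, decS Ls_3 1120].flatten :=
    fun z hz => List.mem_flatten.mpr ⟨L, hL, hz⟩
  exact ⟨(List.nodup_flatten.mp cover.1).1 L hL,
    fun a ha b hb e => cover.2.1 a (hsub a ha) b (hsub b hb) e⟩

theorem cnt1 : {S : Finset (Finset GolayPt) | S ∈ sextets ∧ inv Y0 S = 1}.ncard = 21 := by
  have e : {S : Finset (Finset GolayPt) | S ∈ sextets ∧ inv Y0 S = 1} =
      (fun x => sextetOf (tetF x)) '' {y | y ∈ decS Ls_1 21} := by
    ext S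
    constructor
    · rintro ⟨hS, hi⟩
      rcases which hS with ⟨y, hy, rfl⟩ | ⟨y, hy, rfl⟩ | ⟨y, hy, rfl⟩
      · exact ⟨y, hy, rfl⟩
      · rw [cl2 y hy] at hi; omega
      · rw [cl3 y hy] at hi; omega
    · rintro ⟨y, hy, rfl⟩
      exact ⟨sextetOf_mem (card_tetF (os1 y hy y hy).1), cl1 y hy⟩
  have hs := sub_flat (L := decS Ls_1 21) (by simp)
  rw [e, ncard_image_list _ _ hs.1 hs.2]
  decide +kernel

theorem cnt2 : {S : Finset (Finset GolayPt) | S ∈ sextets ∧ inv Y0 S = 2}.ncard = 630 := by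
  have e : {S : Finset (Finset GolayPt) | S ∈ sextets ∧ inv Y0 S = 2} =
      (fun x => sextetOf (tetF x)) '' {y | y ∈ decS Ls_2 630} := by
    ext S
    constructor
    · rintro ⟨hS, hi⟩
      rcases which hS with ⟨y, hy, rfl⟩ | ⟨y, hy, rfl⟩ | ⟨y, hy, rfl⟩
      · rw [cl1 y hy] at hi; omega
      · exact ⟨y, hy, rfl⟩
      · rw [cl3 y hy] at hi; omega
    · rintro ⟨y, hy, rfl⟩
      exact ⟨sextetOf_mem (card_tetF (os2 y hy y hy).1), cl2 y hy⟩
  have hs := sub_flat (L := decS Ls_2 630) (by simp)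
  rw [e, ncard_image_list _ _ hs.1 hs.2]
  decide +kernel

theorem cnt3 : {S : Finset (Finset GolayPt) | S ∈ sextets ∧ inv Y0 S = 3}.ncard = 1120 := by
  have e : {S : Finset (Finset GolayPt) | S ∈ sextets ∧ inv Y0 S = 3} =
      (fun x => sextetOf (tetF x)) '' {y | y ∈ decS Ls_3 1120} := by
    ext S
    constructor
    · rintro ⟨hS, hi⟩
      rcases which hS with ⟨y, hy, rfl⟩ | ⟨y, hy, rfl⟩ | ⟨y, hy, rfl⟩
      · rw [cl1 y hy] at hi; omega
      · rw [cl2 y hy] at hi; omega
      · exact ⟨y, hy, rfl⟩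
    · rintro ⟨y, hy, rfl⟩
      exact ⟨sextetOf_mem (card_tetF (os3 y hy y hy).1), cl3 y hy⟩
  have hs := sub_flat (L := decS Ls_3 1120) (by simp)
  rw [e, ncard_image_list _ _ hs.1 hs.2]
  decide +kernel

theorem trans0 {S S' : Finset (Finset GolayPt)} (hS : S ∈ sextets) (hS' : S' ∈ sextets)
    (h : inv Y0 S = inv Y0 S') : ∃ g ∈ M24, g • Y0 = Y0 ∧ g • S = S' := by
  have fin : ∀ {T T' : Finset (Finset GolayPt)}, T' ∈ MulAction.orbit ↥(stabP Y0) T →
      ∃ g ∈ M24, g • Y0 = Y0 ∧ g • T = T' := by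
    rintro T T' ⟨g, rfl⟩
    exact ⟨g, (mem_stabP.mp g.2).1, (mem_stabP.mp g.2).2, rfl⟩
  rcases which hS with ⟨y, hy, rfl⟩ | ⟨y, hy, rfl⟩ | ⟨y, hy, rfl⟩ <;>
    rcases which hS' with ⟨y', hy', rfl⟩ | ⟨y', hy', rfl⟩ | ⟨y', hy', rfl⟩
  · exact fin (os1 y hy y' hy').2
  · rw [cl1 y hy, cl2 y' hy'] at h; omega
  · rw [cl1 y hy, cl3 y' hy'] at h; omega
  · rw [cl2 y hy, cl1 y' hy'] at h; omega
  · exact fin (os2 y hy y' hy').2
  · rw [cl2 y hy, cl3 y' hy'] at h; omega
  · rw [cl3 y hy, cl1 y' hy'] at h; omega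
  · rw [cl3 y hy, cl2 y' hy'] at h; omega
  · exact fin (os3 y hy y' hy').2

theorem cnt_smul (h : Equiv.Perm GolayPt) (hh : h ∈ M24) (i : ℕ) :
    {S : Finset (Finset GolayPt) | S ∈ sextets ∧ inv (h • Y0) S = i}.ncard =
      {S : Finset (Finset GolayPt) | S ∈ sextets ∧ inv Y0 S = i}.ncard := by
  have e : {S : Finset (Finset GolayPt) | S ∈ sextets ∧ inv (h • Y0) S = i} =
      (fun S => h • S) '' {S : Finset (Finset GolayPt) | S ∈ sextets ∧ inv Y0 S = i} := by
    ext S
    constructor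
    · rintro ⟨hS, hi⟩
      refine ⟨h⁻¹ • S, ⟨smul_sextet (M24.inv_mem hh) hS, ?_⟩, smul_inv_smul h S⟩
      rw [← inv_smul h, smul_inv_smul]
      exact hi
    · rintro ⟨T, ⟨hT, hi⟩, rfl⟩
      exact ⟨smul_sextet hh hT, by rw [inv_smul]; exact hi⟩
  rw [e, Set.ncard_image_of_injective _ (MulAction.injective h)]

/-- Let Y be a set of 3 of the 24 points. The sextets of the length-24 code whose tetrads meeting Y number 1, 2 or 3 are respectively 21, 630 and 1120 in number, and two sextets with the same number of tetrads meeting Y are conjugate under the setwise stabiliser of Y in the code's group. -/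
theorem result (Y : Finset Cfsg.GolayPt) (hY : Y.card = 3) : {S : Finset (Finset Cfsg.GolayPt) | S ∈ Cfsg.sextets ∧ (S.filter fun t => (t ∩ Y).Nonempty).card = 1}.ncard = 21 ∧ {S : Finset (Finset Cfsg.GolayPt) | S ∈ Cfsg.sextets ∧ (S.filter fun t => (t ∩ Y).Nonempty).card = 2}.ncard = 630 ∧ {S : Finset (Finset Cfsg.GolayPt) | S ∈ Cfsg.sextets ∧ (S.filter fun t => (t ∩ Y).Nonempty).card = 3}.ncard = 1120 ∧ ∀ S S' : Finset (Finset Cfsg.GolayPt), S ∈ Cfsg.sextets → S' ∈ Cfsg.sextets → (S.filter fun t => (t ∩ Y).Nonempty).card = (S'.filter fun t => (t ∩ Y).Nonempty).card → ∃ g ∈ Cfsg.M24, g • Y = Y ∧ g • S = S' := by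
  obtain ⟨h, hh, rfl⟩ := trans_Y hY
  refine ⟨?_, ?_, ?_, ?_⟩
  · exact (cnt_smul h hh 1).trans cnt1
  · exact (cnt_smul h hh 2).trans cnt2
  · exact (cnt_smul h hh 3).trans cnt3
  · intro S S' hS hS' hi
    have hi' : inv Y0 (h⁻¹ • S) = inv Y0 (h⁻¹ • S') := by
      rw [← inv_smul h, ← inv_smul h Y0 (h⁻¹ • S'), smul_inv_smul, smul_inv_smul]
      exact hi
    obtain ⟨g, hg, g1, g2⟩ := trans0 (smul_sextet (M24.inv_mem hh) hS)
      (smul_sextet (M24.inv_mem hh) hS') hi'
    refine ⟨h * g * h⁻¹, M24.mul_mem (M24.mul_mem hh hg) (M24.inv_mem hh), ?_, ?_⟩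
    · rw [mul_smul, mul_smul, inv_smul_smul, g1]
    · rw [mul_smul, mul_smul, g2, smul_inv_smul]


end Cfsg.Agent.S5616
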