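import Cfsg.Statements.S5726
import Mathlib

set_option autoImplicit false
open Cfsg

namespace Cfsg.Agent.S5726

theorem sylow_orbit_dvd {G Ω : Type*} [Group G] [Finite G] [MulAction G Ω]
    (p : ℕ) [Fact p.Prime] (P : Sylow p G) (ω : Ω) (j : ℕ)
    (h : p ^ j ∣ (MulAction.stabilizer G ω).index) :
    p ^ j ∣ (MulAction.orbit (P : Subgroup G) ω).ncard := by
  set S := MulAction.stabilizer G ω with hS
  have h1 : (MulAction.stabilizer (P : Subgroup G) ω) = S.subgroupOf P := by
    ext x
    simp [MulAction.mem_stabilizer_iff, Subgroup.mem_subgroupOf, hS, Subgroup.smul_def]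
  have h2 : (MulAction.orbit (P : Subgroup G) ω).ncard = S.relIndex P := by
    rw [← MulAction.index_stabilizer, h1]; rfl
  rw [h2]
  have h3 : (S ⊓ P).relIndex P * (P : Subgroup G).index = (S ⊓ P).index :=
    Subgroup.relIndex_mul_index inf_le_right
  have h4 : (S ⊓ P).relIndex S * S.index = (S ⊓ P).index :=
    Subgroup.relIndex_mul_index inf_le_left
  have h5 : S.relIndex P = (S ⊓ P).relIndex P := (Subgroup.inf_relIndex_right S P).symm
  rw [h5]
  have h6 : p ^ j ∣ (S ⊓ P).relIndex P * (P : Subgroup G).index := by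
    rw [h3, ← h4]; exact Dvd.dvd.mul_left h _
  have hcop : Nat.Coprime (p ^ j) (P : Subgroup G).index :=
    Nat.Coprime.pow_left j ((Fact.out : p.Prime).coprime_iff_not_dvd.mpr P.not_dvd_index)
  exact hcop.dvd_of_dvd_mul_right h6

theorem central_derangement {G Ω : Type*} [Group G] [Finite G] [MulAction G Ω] [FaithfulSMul G Ω]
    (p : ℕ) [Fact p.Prime] (P : Subgroup G) (hP : IsPGroup p P) (hne : P ≠ ⊥)
    (htr : ∀ ω ω' : Ω, ∃ h ∈ P, h • ω = ω') : ∃ g ∈ P, orderOf g = p ∧ ∀ ω : Ω, g • ω ≠ ω := by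
  have : Nontrivial P := (Subgroup.nontrivial_iff_ne_bot P).mpr hne
  have := hP.center_nontrivial
  have hZ : IsPGroup p (Subgroup.center P) := hP.to_subgroup _
  obtain ⟨n, hn⟩ := IsPGroup.iff_card.mp hZ
  have hn0 : n ≠ 0 := by
    rintro rfl
    rw [pow_zero] at hn
    have := Finite.one_lt_card (α := Subgroup.center P)
    omega
  have hdvd : p ∣ Nat.card (Subgroup.center P) := by rw [hn]; exact dvd_pow_self p hn0
  obtain ⟨z, hz⟩ := exists_prime_orderOf_dvd_card' p hdvd
  have hzord : orderOf ((z : P) : G) = p := by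
    rw [Subgroup.orderOf_coe, Subgroup.orderOf_coe]; exact hz
  refine ⟨((z : P) : G), (z : P).2, hzord, ?_⟩
  intro ω hω
  have hall : ∀ ω' : Ω, ((z : P) : G) • ω' = ω' := by
    intro ω'
    obtain ⟨h, hh, rfl⟩ := htr ω ω'
    have hc : ((z : P) : G) * h = h * ((z : P) : G) := by
      have := Subgroup.mem_center_iff.mp z.2 ⟨h, hh⟩
      exact (congrArg Subtype.val this).symm
    rw [← mul_smul, hc, mul_smul, hω]
  have h1 : ((z : P) : G) = 1 := by
    apply FaithfulSMul.eq_of_smul_eq_smul (α := Ω)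
    intro a; rw [hall a, one_smul]
  rw [h1, orderOf_one] at hzord
  exact (Fact.out : p.Prime).one_lt.ne hzord

/-- If a finite group acts faithfully and transitively on a set with p^k elements, p a prime and k ≥ 1, then some element of order p fixes no point. -/
theorem result {G Ω : Type*} [Group G] [Finite G] [MulAction G Ω] [FaithfulSMul G Ω] [Fintype Ω] (htr : MulAction.IsPretransitive G Ω)
    (p k : ℕ) (hp : p.Prime) (hk : 1 ≤ k) (hΩ : Fintype.card Ω = p ^ k) :
    ∃ g : G, orderOf g = p ∧ ∀ ω : Ω, g • ω ≠ ω := by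
  have : Fact p.Prime := ⟨hp⟩
  obtain ⟨P⟩ : Nonempty (Sylow p G) := inferInstance
  have hidx : ∀ ω : Ω, (MulAction.stabilizer G ω).index = p ^ k := by
    intro ω
    rw [MulAction.index_stabilizer_of_transitive, Nat.card_eq_fintype_card, hΩ]
  have horb : ∀ ω : Ω, MulAction.orbit (P : Subgroup G) ω = Set.univ := by
    intro ω
    have h1 := sylow_orbit_dvd p P ω k (by rw [hidx ω])
    have h2 : (MulAction.orbit (P : Subgroup G) ω).ncard ≤ p ^ k := by
      rw [← hΩ, ← Nat.card_eq_fintype_card, ← Set.ncard_univ]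
      exact Set.ncard_le_ncard (Set.subset_univ _)
    have h3 : 0 < (MulAction.orbit (P : Subgroup G) ω).ncard :=
      (Set.ncard_pos).mpr (MulAction.nonempty_orbit ω)
    have h4 : (MulAction.orbit (P : Subgroup G) ω).ncard = p ^ k :=
      le_antisymm h2 (Nat.le_of_dvd h3 h1)
    apply Set.eq_of_subset_of_ncard_le (Set.subset_univ _)
    rw [h4, Set.ncard_univ, Nat.card_eq_fintype_card, hΩ]
  have hne : (P : Subgroup G) ≠ ⊥ := by
    obtain ⟨ω⟩ : Nonempty Ω := by
      rw [← Fintype.card_pos_iff, hΩ]; exact pow_pos hp.pos k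
    apply Sylow.ne_bot_of_dvd_card
    have h1 : p ∣ (MulAction.stabilizer G ω).index := by
      rw [hidx ω]; exact dvd_pow_self p (by omega)
    exact h1.trans (Subgroup.index_dvd_card _)
  have htr' : ∀ ω ω' : Ω, ∃ h ∈ (P : Subgroup G), h • ω = ω' := by
    intro ω ω'
    have : ω' ∈ MulAction.orbit (P : Subgroup G) ω := by rw [horb ω]; trivial
    obtain ⟨h, hh⟩ := this
    exact ⟨(h : G), h.2, hh⟩
  obtain ⟨g, -, hg, hfix⟩ := central_derangement p (P : Subgroup G) P.2 hne htr'
  exact ⟨g, hg, hfix⟩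


end Cfsg.Agent.S5726
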