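import Cfsg.Statements.S5727
import Mathlib

set_option autoImplicit false
open Cfsg

namespace Cfsg.Agent.S5727

theorem sylow_orbit_dvd {G Ω : Type*} [Group G] [Finite G] [MulAction G Ω]
    (p : ℕ) [Fact p.Prime] (P : Sylow p G) (ω : Ω) (j : ℕ)
    (h : p ^ j ∣ (MulAction.stabilizer G ω).index) :
    p ^ j ∣ (MulAction.orbit (P : Subgroup G) ω).ncard := by
  set S := MulAction.stabilizer G ω with hS
  have h1 : (MulAction.stabilizer (P : Subgroup G) ω) = S.subgroupOf P := by
    ext x
    simp [MulAction.mem_stabilizer_iff, Subgroup.mem_subgroupOf, hS, Subgroup.smul_def]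
  have h2 : (MulAction.orbit (P : Subgroup G) ω).ncard = S.relIndex P := by
    rw [← MulAction.index_stabilizer, h1]; rfl
  rw [h2]
  have h3 : (S ⊓ P).relIndex P * (P : Subgroup G).index = (S ⊓ P).index :=
    Subgroup.relIndex_mul_index inf_le_right
  have h4 : (S ⊓ P).relIndex S * S.index = (S ⊓ P).index :=
    Subgroup.relIndex_mul_index inf_le_left
  have h5 : S.relIndex P = (S ⊓ P).relIndex P := (Subgroup.inf_relIndex_right S P).symm
  rw [h5]
  have h6 : p ^ j ∣ (S ⊓ P).relIndex P * (P : Subgroup G).index := by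
    rw [h3, ← h4]; exact Dvd.dvd.mul_left h _
  have hcop : Nat.Coprime (p ^ j) (P : Subgroup G).index :=
    Nat.Coprime.pow_left j ((Fact.out : p.Prime).coprime_iff_not_dvd.mpr P.not_dvd_index)
  exact hcop.dvd_of_dvd_mul_right h6

theorem central_derangement {G Ω : Type*} [Group G] [Finite G] [MulAction G Ω] [FaithfulSMul G Ω]
    (p : ℕ) [Fact p.Prime] (P : Subgroup G) (hP : IsPGroup p P) (hne : P ≠ ⊥)
    (htr : ∀ ω ω' : Ω, ∃ h ∈ P, h • ω = ω') : ∃ g ∈ P, orderOf g = p ∧ ∀ ω : Ω, g • ω ≠ ω := by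
  have : Nontrivial P := (Subgroup.nontrivial_iff_ne_bot P).mpr hne
  have := hP.center_nontrivial
  have hZ : IsPGroup p (Subgroup.center P) := hP.to_subgroup _
  obtain ⟨n, hn⟩ := IsPGroup.iff_card.mp hZ
  have hn0 : n ≠ 0 := by
    rintro rfl
    rw [pow_zero] at hn
    have := Finite.one_lt_card (α := Subgroup.center P)
    omega
  have hdvd : p ∣ Nat.card (Subgroup.center P) := by rw [hn]; exact dvd_pow_self p hn0
  obtain ⟨z, hz⟩ := exists_prime_orderOf_dvd_card' p hdvd
  have hzord : orderOf ((z : P) : G) = p := by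
    rw [Subgroup.orderOf_coe, Subgroup.orderOf_coe]; exact hz
  refine ⟨((z : P) : G), (z : P).2, hzord, ?_⟩
  intro ω hω
  have hall : ∀ ω' : Ω, ((z : P) : G) • ω' = ω' := by
    intro ω'
    obtain ⟨h, hh, rfl⟩ := htr ω ω'
    have hc : ((z : P) : G) * h = h * ((z : P) : G) := by
      have := Subgroup.mem_center_iff.mp z.2 ⟨h, hh⟩
      exact (congrArg Subtype.val this).symm
    rw [← mul_smul, hc, mul_smul, hω]
  have h1 : ((z : P) : G) = 1 := by
    apply FaithfulSMul.eq_of_smul_eq_smul (α := Ω)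
    intro a; rw [hall a, one_smul]
  rw [h1, orderOf_one] at hzord
  exact (Fact.out : p.Prime).one_lt.ne hzord

theorem exists_derangement {P Ω : Type*} [Group P] [Finite P] [MulAction P Ω] [Fintype Ω]
    (p m : ℕ) (hp : p.Prime) (hm : 1 ≤ m) (hmp : m ≤ p) (hΩ : Fintype.card Ω = m * p)
    (horb : ∀ ω : Ω, (MulAction.orbit P ω).ncard = p)
    (hnorm : ∀ ω : Ω, (MulAction.stabilizer P ω).Normal) :
    ∃ g : P, g ≠ 1 ∧ ∀ ω : Ω, g • ω ≠ ω := by
  classical
  by_contra hcon
  push Not at hcon
  have : Fintype P := Fintype.ofFinite P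
  have hidx : ∀ ω : Ω, (MulAction.stabilizer P ω).index = p := by
    intro ω; rw [MulAction.index_stabilizer, horb]
  have hburn := MulAction.sum_card_fixedBy_eq_card_orbits_mul_card_group P Ω
  have hcount : Fintype.card Ω = Fintype.card (MulAction.orbitRel.Quotient P Ω) * p := by
    rw [Fintype.card_congr (MulAction.selfEquivSigmaOrbitsQuotientStabilizer P Ω), Fintype.card_sigma]
    have : ∀ o : MulAction.orbitRel.Quotient P Ω,
        Fintype.card (P ⧸ MulAction.stabilizer P (Quotient.out o)) = p := by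
      intro o
      rw [← Nat.card_eq_fintype_card, ← Subgroup.index_eq_card, hidx]
    simp_rw [this]
    simp
  have hc : Fintype.card (MulAction.orbitRel.Quotient P Ω) = m := by
    rw [hΩ] at hcount
    exact (Nat.eq_of_mul_eq_mul_right hp.pos hcount).symm
  rw [hc] at hburn
  have hfix1 : Fintype.card (MulAction.fixedBy Ω (1 : P)) = m * p := by
    rw [← hΩ]
    apply Fintype.card_of_subtype (Finset.univ)
    intro x; simp
  have hfixg : ∀ g : P, g ≠ 1 → p ≤ Fintype.card (MulAction.fixedBy Ω g) := by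
    intro g hg
    obtain ⟨ω, hω⟩ := hcon g hg
    have hsub : MulAction.orbit P ω ⊆ MulAction.fixedBy Ω g := by
      rintro _ ⟨h, rfl⟩
      have hmem : g ∈ MulAction.stabilizer P ω := hω
      have h2 : h⁻¹ * g * h⁻¹⁻¹ ∈ MulAction.stabilizer P ω := (hnorm ω).conj_mem g hmem h⁻¹
      rw [MulAction.mem_stabilizer_iff] at h2
      rw [MulAction.mem_fixedBy]
      change g • h • ω = h • ω
      have h3 : g • h • ω = h • ((h⁻¹ * g * h⁻¹⁻¹) • ω) := by
        simp [mul_smul]
      rw [h3, h2]
    have h4 := Set.ncard_le_ncard hsub (Set.toFinite _)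
    rw [horb ω] at h4
    rw [← Nat.card_eq_fintype_card, Nat.card_coe_set_eq]
    exact h4
  have hsum : m * p + (Fintype.card P - 1) * p ≤ ∑ g : P, Fintype.card (MulAction.fixedBy Ω g) := by
    rw [← Finset.add_sum_erase Finset.univ _ (Finset.mem_univ (1 : P)), hfix1]
    apply Nat.add_le_add_left
    have h5 : (Finset.univ.erase (1 : P)).card = Fintype.card P - 1 := by
      rw [Finset.card_erase_of_mem (Finset.mem_univ _), Finset.card_univ]
    rw [← h5, ← smul_eq_mul]
    apply Finset.card_nsmul_le_sum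
    intro g hg
    exact hfixg g (Finset.ne_of_mem_erase hg)
  rw [hburn] at hsum
  have hP1 : 1 ≤ Fintype.card P := Fintype.card_pos
  have hp2 := hp.two_le
  obtain ⟨c, hc'⟩ : ∃ c, Fintype.card P = c + 1 := ⟨Fintype.card P - 1, by omega⟩
  rw [hc'] at hsum
  simp only [Nat.add_sub_cancel] at hsum
  have h6 : m * (c + 1) ≤ p * (c + 1) := Nat.mul_le_mul_right _ hmp
  have h7 : m * p + c * p ≤ p * (c + 1) := le_trans hsum h6
  have h8 : m * p ≤ p := by nlinarith
  have h9 : m = 1 := by
    have : m * p ≤ 1 * p := by omega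
    have := Nat.le_of_mul_le_mul_right this hp.pos
    omega
  subst h9
  nlinarith

theorem pow_smul_fixed {P Ω : Type*} [Group P] [Finite P] [MulAction P Ω] (p : ℕ) (ω : Ω)
    (hn : (MulAction.stabilizer P ω).Normal) (hidx : (MulAction.stabilizer P ω).index = p) (g : P) :
    g ^ p • ω = ω := by
  have h1 : ((g : P) : P ⧸ MulAction.stabilizer P ω) ^ p = 1 := by
    rw [← hidx, Subgroup.index_eq_card]
    exact pow_card_eq_one'
  rw [← QuotientGroup.mk_pow, QuotientGroup.eq_one_iff] at h1
  exact h1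

/-- If a finite group acts faithfully and transitively on a set with m·p elements, where p is a prime and 1 ≤ m ≤ p, then some element of order p fixes no point. -/
theorem result {G Ω : Type*} [Group G] [Finite G] [MulAction G Ω] [FaithfulSMul G Ω] [Fintype Ω] (htr : MulAction.IsPretransitive G Ω)
    (p m : ℕ) (hp : p.Prime) (hm : 1 ≤ m) (hmp : m ≤ p) (hΩ : Fintype.card Ω = m * p) :
    ∃ g : G, orderOf g = p ∧ ∀ ω : Ω, g • ω ≠ ω := by
  have : Fact p.Prime := ⟨hp⟩
  obtain ⟨P⟩ : Nonempty (Sylow p G) := inferInstance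
  have hidx : ∀ ω : Ω, (MulAction.stabilizer G ω).index = m * p := by
    intro ω
    rw [MulAction.index_stabilizer_of_transitive, Nat.card_eq_fintype_card, hΩ]
  have hdvd : ∀ ω : Ω, p ∣ (MulAction.orbit (P : Subgroup G) ω).ncard := by
    intro ω
    have := sylow_orbit_dvd p P ω 1 (by rw [hidx ω, pow_one]; exact dvd_mul_left p m)
    rwa [pow_one] at this
  have hle : ∀ ω : Ω, (MulAction.orbit (P : Subgroup G) ω).ncard ≤ m * p := by
    intro ω
    rw [← hΩ, ← Nat.card_eq_fintype_card, ← Set.ncard_univ]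
    exact Set.ncard_le_ncard (Set.subset_univ _)
  obtain ⟨ω₀⟩ : Nonempty Ω := by
    rw [← Fintype.card_pos_iff, hΩ]; exact Nat.mul_pos (by omega) hp.pos
  have hne : (P : Subgroup G) ≠ ⊥ := by
    apply Sylow.ne_bot_of_dvd_card
    have h1 : p ∣ (MulAction.stabilizer G ω₀).index := by
      rw [hidx ω₀]; exact dvd_mul_left p m
    exact h1.trans (Subgroup.index_dvd_card _)
  by_cases htrans : ∃ ω : Ω, MulAction.orbit (P : Subgroup G) ω = Set.univ
  · obtain ⟨ω, hω⟩ := htrans
    have htr' : ∀ ω₁ ω₂ : Ω, ∃ h ∈ (P : Subgroup G), h • ω₁ = ω₂ := by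
      intro ω₁ ω₂
      have h1 : ω₁ ∈ MulAction.orbit (P : Subgroup G) ω := by rw [hω]; trivial
      have h2 : ω₂ ∈ MulAction.orbit (P : Subgroup G) ω := by rw [hω]; trivial
      obtain ⟨a, ha⟩ := h1
      obtain ⟨b, hb⟩ := h2
      refine ⟨(b : G) * (a : G)⁻¹, mul_mem b.2 (inv_mem a.2), ?_⟩
      have ha' : (a : G) • ω = ω₁ := ha
      have hb' : (b : G) • ω = ω₂ := hb
      rw [← ha', mul_smul, inv_smul_smul, hb']
    obtain ⟨g, -, hg, hfix⟩ := central_derangement p (P : Subgroup G) P.2 hne htr'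
    exact ⟨g, hg, hfix⟩
  · push Not at htrans
    have horb : ∀ ω : Ω, (MulAction.orbit (P : Subgroup G) ω).ncard = p := by
      intro ω
      obtain ⟨n, hn⟩ := P.2.card_orbit ω
      rw [Nat.card_coe_set_eq] at hn
      have hn1 : n ≠ 0 := by
        rintro rfl
        have := hdvd ω
        rw [hn, pow_zero] at this
        exact hp.one_lt.ne' (Nat.dvd_one.mp this)
      by_cases hn2 : n = 1
      · rw [hn, hn2, pow_one]
      · exfalso
        have h2 : 2 ≤ n := by omega
        have h3 : p ^ 2 ≤ p ^ n := Nat.pow_le_pow_right hp.pos h2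
        have h4 := hle ω
        rw [hn] at h4
        have h5 : m * p ≤ p * p := Nat.mul_le_mul_right p hmp
        have h6 : (MulAction.orbit (P : Subgroup G) ω).ncard = m * p := by
          rw [hn]; nlinarith
        apply htrans ω
        apply Set.eq_of_subset_of_ncard_le (Set.subset_univ _)
        rw [h6, Set.ncard_univ, Nat.card_eq_fintype_card, hΩ]
    have hPcard : ∃ a, Nat.card (P : Subgroup G) = p ^ (a + 1) := by
      obtain ⟨a, ha⟩ := IsPGroup.iff_card.mp P.2
      have : a ≠ 0 := by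
        rintro rfl
        rw [pow_zero] at ha
        exact hne ((Subgroup.card_eq_one).mp ha)
      exact ⟨a - 1, by rw [ha]; congr 1; omega⟩
    obtain ⟨a, ha⟩ := hPcard
    have hnorm : ∀ ω : Ω, (MulAction.stabilizer (P : Subgroup G) ω).Normal := by
      intro ω
      apply Subgroup.normal_of_index_eq_minFac_card
      rw [MulAction.index_stabilizer, horb ω, ha, Nat.Prime.pow_minFac hp (by omega)]
    obtain ⟨g, hg1, hgfix⟩ := exists_derangement (P := (P : Subgroup G)) p m hp hm hmp hΩ horb hnorm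
    have hgp : ((g : (P : Subgroup G)) : G) ^ p = 1 := by
      apply FaithfulSMul.eq_of_smul_eq_smul (α := Ω)
      intro ω
      have := pow_smul_fixed p ω (hnorm ω) (by rw [MulAction.index_stabilizer, horb ω]) g
      rw [one_smul]
      exact this
    refine ⟨(g : G), ?_, ?_⟩
    · apply orderOf_eq_prime hgp
      intro h
      apply hg1
      exact Subtype.ext h
    · intro ω
      exact hgfix ω


end Cfsg.Agent.S5727
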