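import Cfsg.Statements.S5728
import Mathlib

set_option autoImplicit false
open Cfsg

namespace Cfsg.Agent.S5728

theorem mem_prime_of_pow {p : ℕ} [Fact p.Prime] {K : Type*} [Field K] [Algebra (ZMod p) K] [CharP K p]
    (a : K) (h : a ^ p = a) : ∃ c : ZMod p, algebraMap (ZMod p) K c = a := by
  have h1 : a ∈ (⊥ : Subfield K) := (Subfield.mem_bot_iff_pow_eq_self K p).mpr h
  obtain ⟨n, hn⟩ := (mem_bot_iff_intCast p K).mp h1
  exact ⟨(n : ZMod p), by rw [map_intCast, hn]⟩

/-- An elusive transitive action. Let p = 2^s − 1 be a prime and let F be the field with p² elements. Inside the group of affine maps x ↦ a·x + b of F (a ≠ 0), consider the subgroup of maps with both coefficients in the prime field. Then every element of prime order of the affine group is conjugate, within the affine group, to an element of that subgroup; equivalently, in the transitive action of the affine group on the cosets of that subgroup (of degree p(p + 1)) every element of prime order fixes a point. -/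
theorem result (p s : ℕ) [Fact p.Prime] (hs : p = 2 ^ s - 1)
    (g : Equiv.Perm (GaloisField p 2)) (hg : g ∈ Cfsg.affineGroup (GaloisField p 2)) (hord : (orderOf g).Prime) :
    ∃ x ∈ Cfsg.affineGroup (GaloisField p 2), ∃ a b : ZMod p, a ≠ 0 ∧
      ∀ y : GaloisField p 2, (x * g * x⁻¹) y = algebraMap (ZMod p) (GaloisField p 2) a * y + algebraMap (ZMod p) (GaloisField p 2) b := by
  classical
  obtain ⟨a, b, hgab⟩ := hg
  have hp := (Fact.out : p.Prime)
  by_cases ha : a = 1
  · subst ha
    have hb : b ≠ 0 := by
      rintro rfl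
      have : g = 1 := by
        ext y
        simp [hgab]
      rw [this, orderOf_one] at hord
      exact Nat.not_prime_one hord
    let x : Equiv.Perm (GaloisField p 2) := Equiv.mulLeft₀ b⁻¹ (inv_ne_zero hb)
    have hx : x ∈ Cfsg.affineGroup (GaloisField p 2) :=
      ⟨Units.mk0 b⁻¹ (inv_ne_zero hb), 0, fun y => by simp [x]⟩
    refine ⟨x, hx, 1, 1, one_ne_zero, fun y => ?_⟩
    have hxinv : x⁻¹ y = b * y := by
      rw [Equiv.Perm.inv_def]
      apply x.injective
      rw [Equiv.apply_symm_apply]
      change y = b⁻¹ * (b * y)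
      rw [← mul_assoc, inv_mul_cancel₀ hb, one_mul]
    rw [Equiv.Perm.mul_apply, Equiv.Perm.mul_apply, hxinv, hgab]
    change b⁻¹ * (((1 : (GaloisField p 2)ˣ) : GaloisField p 2) * (b * y) + b) = _
    rw [Units.val_one, one_mul, map_one, one_mul, mul_add, ← mul_assoc, inv_mul_cancel₀ hb, one_mul]
  · have ha' : (a : GaloisField p 2) ≠ 1 := fun h => ha (Units.ext h)
    have h1a : (1 : GaloisField p 2) - a ≠ 0 := sub_ne_zero.mpr (Ne.symm ha')
    set c : GaloisField p 2 := b / (1 - a) with hc
    let x : Equiv.Perm (GaloisField p 2) := Equiv.addRight (-c)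
    have hx : x ∈ Cfsg.affineGroup (GaloisField p 2) :=
      ⟨1, -c, fun y => by simp [x]⟩
    have hxinv : ∀ y, x⁻¹ y = y + c := by
      intro y
      rw [Equiv.Perm.inv_def]
      apply x.injective
      rw [Equiv.apply_symm_apply]
      simp [x]
    have hconj : ∀ y, (x * g * x⁻¹) y = a * y := by
      intro y
      rw [Equiv.Perm.mul_apply, Equiv.Perm.mul_apply, hxinv, hgab]
      simp only [x, Equiv.coe_addRight]
      rw [hc]
      field_simp
      ring
    have hpow : ∀ (k : ℕ) (y : GaloisField p 2), ((x * g * x⁻¹) ^ k) y = (a : GaloisField p 2) ^ k * y := by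
      intro k
      induction k with
      | zero => intro y; simp
      | succ k ih =>
        intro y
        rw [pow_succ, Equiv.Perm.mul_apply, hconj, ih, pow_succ, mul_assoc]
    set r := orderOf g with hr
    have har : (a : GaloisField p 2) ^ r = 1 := by
      have h1 : (x * g * x⁻¹) ^ r = 1 := by
        rw [conj_pow, hr, pow_orderOf_eq_one, mul_one, mul_inv_cancel]
      have h2 := hpow r 1
      rw [h1, mul_one] at h2
      exact h2.symm
    have har' : a ^ r = 1 := Units.ext (by rw [Units.val_pow_eq_pow_val, har]; rfl)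
    have hfr : Fact r.Prime := ⟨hord⟩
    have hordA : orderOf a = r := orderOf_eq_prime har' ha
    have hcard : Nat.card (GaloisField p 2)ˣ = p ^ 2 - 1 := by
      rw [Nat.card_units, GaloisField.card p 2 (by norm_num)]
    have hdvd : r ∣ p ^ 2 - 1 := by
      rw [← hordA, ← hcard]
      exact orderOf_dvd_natCard a
    have hs2 : 2 ≤ s := by
      by_contra hlt
      have : s = 0 ∨ s = 1 := by omega
      rcases this with rfl | rfl
      · simp at hs
        exact hp.ne_zero hs
      · simp at hs
        exact hp.ne_one hs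
    have h2s : 4 ≤ 2 ^ s := by
      calc 4 = 2 ^ 2 := by norm_num
        _ ≤ 2 ^ s := Nat.pow_le_pow_right (by norm_num) hs2
    have hfac : p ^ 2 - 1 = (p - 1) * 2 ^ s := by
      have h1 : p + 1 = 2 ^ s := by omega
      have h2 : 1 ≤ p := hp.one_lt.le
      rw [← h1]
      zify [h2, Nat.one_le_pow 2 p hp.pos]
      ring
    have hpodd : Even (p - 1) := by
      have h1 : p - 1 = 2 ^ s - 2 := by omega
      rw [h1]
      obtain ⟨t, rfl⟩ : ∃ t, s = t + 1 := ⟨s - 1, by omega⟩
      rw [pow_succ]
      exact ⟨2 ^ t - 1, by omega⟩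
    have hap : (a : GaloisField p 2) ^ (p - 1) = 1 := by
      rw [hfac] at hdvd
      rcases (hord.dvd_mul).mp hdvd with h | h
      · obtain ⟨k, hk⟩ := h
        rw [hk, pow_mul, har, one_pow]
      · have hr2 : r = 2 := (Nat.prime_dvd_prime_iff_eq hord Nat.prime_two).mp (hord.dvd_of_dvd_pow h)
        rw [hr2] at har
        have h3 : ((a : GaloisField p 2) - 1) * ((a : GaloisField p 2) + 1) = 0 := by
          ring_nf
          rw [har]; ring
        rcases mul_eq_zero.mp h3 with h4 | h4
        · exact absurd (sub_eq_zero.mp h4) ha'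
        · have h5 : (a : GaloisField p 2) = -1 := eq_neg_of_add_eq_zero_left h4
          rw [h5]
          exact hpodd.neg_one_pow
    have hap' : (a : GaloisField p 2) ^ p = a := by
      have h1 : p - 1 + 1 = p := by have := hp.one_lt; omega
      calc (a : GaloisField p 2) ^ p = (a : GaloisField p 2) ^ (p - 1 + 1) := by rw [h1]
        _ = a := by rw [pow_succ, hap, one_mul]
    obtain ⟨a₀, ha₀⟩ := mem_prime_of_pow (a : GaloisField p 2) hap'
    refine ⟨x, hx, a₀, 0, ?_, fun y => ?_⟩
    · rintro rfl
      rw [map_zero] at ha₀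
      exact a.ne_zero ha₀.symm
    · rw [map_zero, add_zero, ha₀]
      exact hconj y


end Cfsg.Agent.S5728
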