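import Cfsg.Statements.S5893
import Cfsg.Agent.Lib.Helper3.L2g

set_option autoImplicit false
open Cfsg

namespace Cfsg.Agent.S5893

/-- Let F be a finite field of even order q ≥ 4 and let M be a maximal subgroup of PSL₂(F) (= SL₂(F) = PGL₂(F)). Then one of the following holds: |M| = q(q − 1) (the stabiliser of a point of the projective line, elementary abelian of order q extended by a cyclic group of order q − 1); M is dihedral of order 2(q − 1); M is dihedral of order 2(q + 1); or q = q₀^r for a prime r with q₀ ≠ 2 and M ≅ PSL₂(F₀) with |F₀| = q₀. -/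
theorem result {F : Type*} [Field F] [Fintype F]
    (heven : Even (Fintype.card F)) (h4 : 4 ≤ Fintype.card F) (M : Subgroup (Matrix.ProjectiveSpecialLinearGroup (Fin 2) F)) (hM : IsCoatom M) :
    Nat.card M = Fintype.card F * (Fintype.card F - 1) ∨
    Nonempty (M ≃* DihedralGroup (Fintype.card F - 1)) ∨
    Nonempty (M ≃* DihedralGroup (Fintype.card F + 1)) ∨
    (∃ (F₀ : Type) (_ : Field F₀) (_ : Fintype F₀) (r : ℕ), r.Prime ∧ Fintype.card F₀ ≠ 2 ∧
        Fintype.card F = Fintype.card F₀ ^ r ∧ Nonempty (M ≃* Matrix.ProjectiveSpecialLinearGroup (Fin 2) F₀)) := by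
  classical
  have : CharP F 2 := Cfsg.Agent.S2507.charTwo_of_dvd heven.two_dvd
  obtain ⟨e0, -⟩ : ∃ e0 : Matrix.ProjectiveSpecialLinearGroup (Fin 2) F ≃*
      Matrix.SpecialLinearGroup (Fin 2) F, True := ⟨(Cfsg.Agent.S2507.pslEquiv (F := F)).symm, trivial⟩
  have hH : IsCoatom (M.map e0.toMonoidHom) := (e0.mapSubgroup.isCoatom_iff M).mpr hM
  have hequiv : M ≃* M.map e0.toMonoidHom := e0.subgroupMap M
  rcases Cfsg.Agent.Lib.Helper3.L2.max_sl h4 _ hH with h | h | h | ⟨e, r, hr, he2, hc, ⟨f⟩⟩
  · left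
    rw [← h]; exact Nat.card_congr hequiv.toEquiv
  · obtain ⟨e⟩ := h
    right; left; exact ⟨hequiv.trans e⟩
  · obtain ⟨e⟩ := h
    right; right; left; exact ⟨hequiv.trans e⟩
  · right; right; right
    have : Fact (Nat.Prime 2) := ⟨Nat.prime_two⟩
    have : Fintype (GaloisField 2 e) := Fintype.ofFinite _
    refine ⟨GaloisField 2 e, inferInstance, inferInstance, r, hr, ?_, ?_, ?_⟩
    · rw [← Nat.card_eq_fintype_card, GaloisField.card 2 e (by omega)]
      intro h
      have h1 : e = 1 := Nat.pow_right_injective (le_refl 2) (by show 2 ^ e = 2 ^ 1; rw [pow_one]; exact h)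
      omega
    · rw [← Nat.card_eq_fintype_card (α := GaloisField 2 e), GaloisField.card 2 e (by omega)]
      exact hc
    · exact ⟨hequiv.trans (f.trans Cfsg.Agent.S2507.pslEquiv)⟩

end Cfsg.Agent.S5893
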