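import Cfsg.Statements.S5904

set_option autoImplicit false
open Cfsg

namespace Cfsg.Agent.S5904

open scoped Pointwise

theorem result {Ω : Type*} [Fintype Ω] [DecidableEq Ω] (hΩ : 2 < Fintype.card Ω)
    (O : Set Ω) (hO : Nat.card O = Nat.card ↥Oᶜ) :
    ¬ IsCoatom (MulAction.stabilizer (Equiv.Perm Ω) O) := by
  classical
  intro hco
  have hcard : Nat.card O + Nat.card ↥Oᶜ = Fintype.card Ω := by
    rw [Nat.card_coe_set_eq, Nat.card_coe_set_eq, Set.ncard_add_ncard_compl, Nat.card_eq_fintype_card]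
  have h2 : 2 ≤ Nat.card O := by omega
  have h2c : 2 ≤ Nat.card ↥Oᶜ := by omega
  rw [Nat.card_coe_set_eq] at h2 h2c
  obtain ⟨x, hx, x', hx', hxx'⟩ : ∃ x ∈ O, ∃ x' ∈ O, x ≠ x' := by
    have : 1 < O.ncard := h2
    rw [Set.one_lt_ncard_iff] at this
    obtain ⟨a, b, ha, hb, hab⟩ := this
    exact ⟨a, ha, b, hb, hab⟩
  obtain ⟨y, hy⟩ : ∃ y, y ∈ Oᶜ := by
    have : 0 < (Oᶜ).ncard := by omega
    rw [Set.ncard_pos] at this
    exact this
  let L : Subgroup (Equiv.Perm Ω) := MulAction.stabilizer (Equiv.Perm Ω) ({O, Oᶜ} : Set (Set Ω))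
  have hmemL : ∀ g : Equiv.Perm Ω, g ∈ L ↔ (g • O = O ∨ g • O = Oᶜ) := by
    intro g
    constructor
    · intro hg
      have hg' : g • ({O, Oᶜ} : Set (Set Ω)) = {O, Oᶜ} := hg
      have : g • O ∈ g • ({O, Oᶜ} : Set (Set Ω)) := Set.smul_mem_smul_set (by simp)
      rw [hg'] at this
      simpa using this
    · intro hg
      show g • ({O, Oᶜ} : Set (Set Ω)) = {O, Oᶜ}
      rw [Set.smul_set_insert, Set.smul_set_singleton, Set.smul_set_compl]
      rcases hg with hg | hg
      · rw [hg]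
      · rw [hg, compl_compl, Set.pair_comm]
  have hle : MulAction.stabilizer (Equiv.Perm Ω) O ≤ L := by
    intro g hg
    rw [hmemL]
    exact Or.inl hg
  have hLtop : L ≠ ⊤ := by
    intro htop
    have hmem : Equiv.swap x y ∈ L := htop ▸ Subgroup.mem_top _
    rw [hmemL] at hmem
    have hy' : y ∈ Equiv.swap x y • O := ⟨x, hx, by simp⟩
    have hx'' : x' ∈ Equiv.swap x y • O := by
      refine ⟨x', hx', ?_⟩
      have hx'y : x' ≠ y := fun h => hy (h ▸ hx')
      simp [Equiv.swap_apply_of_ne_of_ne hxx'.symm hx'y]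
    rcases hmem with h | h
    · rw [h] at hy'
      exact hy hy'
    · rw [h] at hx''
      exact hx'' hx'
  have hLne : L ≠ MulAction.stabilizer (Equiv.Perm Ω) O := by
    intro heq
    obtain ⟨e⟩ : Nonempty (O ≃ ↥Oᶜ) := Finite.card_eq.mp hO
    let g : Equiv.Perm Ω := (Equiv.Set.sumCompl O).symm.trans
      (((Equiv.sumCongr e e.symm).trans (Equiv.sumComm _ _)).trans (Equiv.Set.sumCompl O))
    have hgO : ∀ z (hz : z ∈ O), g z = (e ⟨z, hz⟩ : Ω) := by
      intro z hz
      simp [g, Equiv.Set.sumCompl_symm_apply_of_mem hz]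
    have hgL : g ∈ L := by
      rw [hmemL]
      right
      apply Set.eq_of_subset_of_ncard_le
      · rintro _ ⟨z, hz, rfl⟩
        show g z ∈ Oᶜ
        rw [hgO z hz]
        exact (e ⟨z, hz⟩).2
      · rw [Set.ncard_smul_set, ← Nat.card_coe_set_eq, ← Nat.card_coe_set_eq, hO]
      · exact Set.toFinite _
    rw [heq] at hgL
    have hgx : g x ∈ g • O := Set.smul_mem_smul_set hx
    have hgL' : g • O = O := hgL
    rw [hgL', hgO x hx] at hgx
    exact (e ⟨x, hx⟩).2 hgx
  rcases hco.2 L (lt_of_le_of_ne hle (Ne.symm hLne)) with h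
  exact hLtop h

end Cfsg.Agent.S5904
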