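import Cfsg.Statements.S5894
import Cfsg.Agent.S5904

set_option autoImplicit false
open Cfsg

namespace Cfsg.Agent.S5894

open scoped Pointwise
open MulAction

theorem result (m : ℕ) (hm : 2 ≤ m) :
    ∃ M H K : Subgroup (Equiv.Perm (Fin (2 * m))), IsCoatom M ∧ M.index = 2 * m ∧ H ≤ M ∧ IsCoatom (H.subgroupOf M) ∧
      IsCoatom K ∧ H ≤ K ∧ ¬ IsCoatom (H.subgroupOf K) := by
  classical
  set x0 : Fin (2 * m) := ⟨0, by omega⟩ with hx0
  set x1 : Fin (2 * m) := ⟨1, by omega⟩ with hx1
  set s : Set (Fin (2 * m)) := {x0}ᶜ with hs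
  set O : Set (Fin (2 * m)) := {i | m ≤ i.val} with hO
  have hOcard : O.ncard = m := by
    have : O = Set.range (fun j : Fin m => (⟨m + j.val, by omega⟩ : Fin (2 * m))) := by
      ext i
      simp only [hO, Set.mem_ofPred_eq, Set.mem_range]
      constructor
      · intro hi
        exact ⟨⟨i.val - m, by omega⟩, Fin.ext (by simp; omega)⟩
      · rintro ⟨j, rfl⟩
        simp
    rw [this, Set.ncard_range_of_injective, Nat.card_fin]
    intro j j' h
    simp only [Fin.mk.injEq] at h
    exact Fin.ext (by omega)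
  have hOccard : Oᶜ.ncard = m := by
    have h := Set.ncard_add_ncard_compl O
    rw [hOcard, Nat.card_fin] at h
    omega
  have hx0O : x0 ∉ O := by
    simp only [hO, hx0, Set.mem_ofPred_eq]
    omega
  have hx1O : x1 ∉ O := by
    simp only [hO, hx1, Set.mem_ofPred_eq]
    omega
  have hx01 : x0 ≠ x1 := by
    simp [hx0, hx1]
  have hOs : O ⊆ s := by
    intro i hi
    simp only [hs, Set.mem_compl_iff, Set.mem_singleton_iff]
    rintro rfl
    exact hx0O hi
  have hscard : s.ncard = 2 * m - 1 := by
    have h : ({x0} : Set (Fin (2 * m))).ncard + s.ncard = Nat.card (Fin (2 * m)) :=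
      Set.ncard_add_ncard_compl ({x0} : Set (Fin (2 * m)))
    rw [Set.ncard_singleton, Nat.card_fin] at h
    omega
  have hOne : O.Nonempty := by
    rw [← Set.ncard_pos, hOcard]
    omega
  have hOcne : Oᶜ.Nonempty := ⟨x0, hx0O⟩
  set M : Subgroup (Equiv.Perm (Fin (2 * m))) := stabilizer (Equiv.Perm (Fin (2 * m))) s with hM
  set S : Subgroup (Equiv.Perm (Fin (2 * m))) := stabilizer (Equiv.Perm (Fin (2 * m))) O with hS
  have hMco : IsCoatom M := by
    apply Equiv.Perm.isCoatom_stabilizer
    · exact ⟨x1, by simp [hs, hx01.symm]⟩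
    · exact ⟨x0, by simp [hs]⟩
    · rw [hscard, Nat.card_fin]
      omega
  have hMidx : M.index = 2 * m := by
    rw [hM, hs, stabilizer_compl, stabilizer_singleton, index_stabilizer_of_transitive, Nat.card_fin]
  have hSne : S ≠ ⊤ := Equiv.Perm.stabilizer_ne_top_of_nonempty_of_nonempty_compl hOne hOcne
  obtain ⟨K, hK, hSK⟩ := (eq_top_or_exists_le_coatom S).resolve_left hSne
  have hSnotco : ¬ IsCoatom S := by
    apply Cfsg.Agent.S5904.result
    · rw [Fintype.card_fin]
      omega
    · rw [Nat.card_coe_set_eq, Nat.card_coe_set_eq, hOcard, hOccard]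
  refine ⟨M, M ⊓ S, K, hMco, hMidx, inf_le_left, ?_, hK, inf_le_right.trans hSK, ?_⟩
  · set φ : M →* Equiv.Perm s := toPermHom M s with hφ
    have hφsurj : Function.Surjective φ := Equiv.Perm.stabilizer.surjective_toPerm s
    set O' : Set s := Subtype.val ⁻¹' O with hO'
    have hO'card : O'.ncard = m := by
      rw [hO', Set.ncard_preimage_of_injective_subset_range Subtype.val_injective (by simpa using hOs), hOcard]
    have hT : IsCoatom (stabilizer (Equiv.Perm s) O') := by
      apply Equiv.Perm.isCoatom_stabilizer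
      · obtain ⟨y, hy⟩ := hOne
        exact ⟨⟨y, hOs hy⟩, hy⟩
      · exact ⟨⟨x1, by simp [hs, hx01.symm]⟩, hx1O⟩
      · rw [hO'card, Nat.card_coe_set_eq, hscard]
        omega
    have hcomap := Subgroup.isCoatom_comap_of_surjective hφsurj hT
    have heq : (stabilizer (Equiv.Perm s) O').comap φ = (M ⊓ S).subgroupOf M := by
      ext g
      rw [Subgroup.mem_comap, Subgroup.mem_subgroupOf, Subgroup.mem_inf]
      rw [mem_stabilizer_set' (Set.toFinite O'), hS, mem_stabilizer_set' (Set.toFinite O)]
      constructor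
      · intro h
        refine ⟨g.2, fun a ha => ?_⟩
        exact h (b := ⟨a, hOs ha⟩) ha
      · rintro ⟨_, h⟩ a ha
        exact h ha
    rw [← heq]
    exact hcomap
  · intro hco
    have hlt : (M ⊓ S).subgroupOf K < S.subgroupOf K := by
      refine lt_of_le_of_ne (fun g hg => ?_) ?_
      · exact (Subgroup.mem_inf.mp (Subgroup.mem_subgroupOf.mp hg)).2
      · intro heq
        have hswapS : Equiv.swap x0 x1 ∈ S := by
          rw [hS, ← stabilizer_compl]
          exact Equiv.Perm.swap_mem_stabilizer hx0O hx1O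
        have hmem : (⟨Equiv.swap x0 x1, hSK hswapS⟩ : K) ∈ S.subgroupOf K := hswapS
        rw [← heq] at hmem
        have hM' : Equiv.swap x0 x1 ∈ M := (Subgroup.mem_inf.mp (Subgroup.mem_subgroupOf.mp hmem)).1
        rw [hM, hs, stabilizer_compl, stabilizer_singleton, mem_stabilizer_iff] at hM'
        simp at hM'
        exact hx01 hM'.symm
    have htop := hco.2 _ hlt
    rw [Subgroup.subgroupOf_eq_top] at htop
    have : S = K := le_antisymm hSK htop
    rw [this] at hSnotco
    exact hSnotco hK

end Cfsg.Agent.S5894
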