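import Cfsg.Statements.S5943
import Cfsg.Agent.Lib.Helper3.L2e

set_option autoImplicit false
open Cfsg

namespace Cfsg.Agent.S5943

/-- Let K and F be finite fields of characteristic 2 with #K = q > 2 and #F = q^r for a prime r. Then PSL_2(F) has a maximal subgroup isomorphic to PSL_2(K) (which equals PGL_2(K) in characteristic 2). -/
theorem result {F K : Type*} [Field F] [Fintype F] [Field K] [Fintype K] (q r : ℕ) (hK : Fintype.card K = q) (hF : Fintype.card F = q ^ r) (hq : Even q) (hq2 : q ≠ 2) (hr : r.Prime) : ∃ H : Subgroup (Matrix.ProjectiveSpecialLinearGroup (Fin 2) F), IsCoatom H ∧ Nonempty (H ≃* Matrix.ProjectiveSpecialLinearGroup (Fin 2) K) := by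
  classical
  have hr2 := hr.two_le
  have h2F : 2 ∣ Fintype.card F := by
    rw [hF]; exact dvd_pow hq.two_dvd hr.ne_zero
  have h2K : 2 ∣ Fintype.card K := by rw [hK]; exact hq.two_dvd
  have : CharP F 2 := Cfsg.Agent.S2507.charTwo_of_dvd h2F
  have : CharP K 2 := Cfsg.Agent.S2507.charTwo_of_dvd h2K
  have hq4 : 4 ≤ q := by
    have h1 : 1 < Fintype.card K := Fintype.one_lt_card
    rw [hK] at h1
    obtain ⟨k, hk⟩ := hq
    omega
  have : Fact (Nat.Prime 2) := ⟨Nat.prime_two⟩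
  let _ : Algebra (ZMod 2) K := ZMod.algebra K 2
  let _ : Algebra (ZMod 2) F := ZMod.algebra F 2
  have hfr : Module.finrank (ZMod 2) K ∣ Module.finrank (ZMod 2) F := by
    have e1 := FiniteField.pow_finrank_eq_card 2 K
    have e2 := FiniteField.pow_finrank_eq_card 2 F
    rw [hK] at e1
    rw [hF, ← e1, ← pow_mul] at e2
    exact ⟨r, Nat.pow_right_injective (le_refl 2) e2⟩
  obtain ⟨ι⟩ := FiniteField.nonempty_algHom_of_finrank_dvd hfr
  have hK₀ : Nat.card (ι : K →+* F).fieldRange = q := by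
    rw [← hK, ← Nat.card_eq_fintype_card]
    exact (Nat.card_congr (Equiv.ofInjective _ (ι : K →+* F).injective)).symm
  have hco := Cfsg.Agent.Lib.Helper3.L2.coatom_sub (ι : K →+* F).fieldRange q r hq4 hK₀
    (by rw [Nat.card_eq_fintype_card, hF]) hr
  refine ⟨(Cfsg.Agent.Lib.Helper3.L2.SLsub (ι : K →+* F).fieldRange).map
    (Cfsg.Agent.S2507.pslEquiv :
      Matrix.SpecialLinearGroup (Fin 2) F ≃* Matrix.ProjectiveSpecialLinearGroup (Fin 2) F).toMonoidHom,
    ((Cfsg.Agent.S2507.pslEquiv :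
      Matrix.SpecialLinearGroup (Fin 2) F ≃* Matrix.ProjectiveSpecialLinearGroup (Fin 2) F).mapSubgroup.isCoatom_iff
        _).mpr hco, ?_⟩
  exact ⟨((Cfsg.Agent.S2507.pslEquiv).subgroupMap _).symm.trans
    ((Cfsg.Agent.Lib.Helper3.L2.slEquiv (ι : K →+* F)).symm.trans Cfsg.Agent.S2507.pslEquiv)⟩

end Cfsg.Agent.S5943
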